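import Cfsg.Agent.Helper17.U6PTC.Lemmas

set_option autoImplicit false
set_option linter.all false

noncomputable section

namespace Cfsg.Agent.Helper17.U6PTC

theorem F1 : act 0 n0 = n0 := d32_0 B0 
theorem F2 : act 1 n0 = n0 := d33_0 B1 
theorem F3 : act 2 n0 = n0 := d34_0 B2 
theorem F4 : act 3 n0 = n0 := d35_0 B3 
theorem F5 : act 4 n0 = n0 := d36_0 B4 
theorem F6 : act 5 n0 = n0 := d37_0 B5 
theorem F7 : act 6 n0 = n0 := d38_0 B6 
def n1 : Q := act 7 n0
theorem D1 : act 7 n0 = n1 := rfl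
theorem F8 : act 0 n1 = n1 := d6_1 D1 (iv D1) F1
theorem F9 : act 1 n1 = n1 := d12_1 D1 (iv D1) F2
theorem F10 : act 2 n1 = n1 := d17_1 D1 (iv D1) F3
theorem F11 : act 4 n1 = n1 := d24_1 D1 (iv D1) F5
theorem F12 : act 5 n1 = n1 := d26_1 D1 (iv D1) F6
def n2 : Q := act 3 n1
theorem D2 : act 3 n1 = n2 := rfl
theorem F13 : act 0 n2 = n2 := d2_1 D2 (iv D2) F8
theorem F14 : act 1 n2 = n2 := d8_1 D2 (iv D2) F9
theorem F15 : act 5 n2 = n2 := d19_2 F12 D2 (iv D2)
theorem F16 : act 7 n2 = n2 := d21_2 D1 D2 (iv D2) (iv D1) F4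
def n3 : Q := act 6 n1
theorem D3 : act 6 n1 = n3 := rfl
theorem F17 : act 0 n3 = n3 := d5_1 D3 (iv D3) F8
theorem F18 : act 1 n3 = n3 := d11_1 D3 (iv D3) F9
theorem F19 : act 2 n3 = n3 := d16_1 D3 (iv D3) F10
theorem F20 : act 4 n3 = n3 := d23_1 D3 (iv D3) F11
theorem F21 : act 7 n3 = n3 := d27_2 D1 D3 (iv D3) (iv D1) F7
def n4 : Q := act 2 n2
theorem D4 : act 2 n2 = n4 := rfl
theorem F22 : act 0 n4 = n4 := d1_1 D4 (iv D4) F13
theorem F23 : act 3 n4 = n4 := d13_2 D2 D4 (iv D4) (iv D2) F10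
theorem F24 : act 5 n4 = n4 := d15_2 F15 D4 (iv D4)
theorem F25 : act 7 n4 = n4 := d17_2 F16 D4 (iv D4)
def n5 : Q := act 4 n2
theorem D5 : act 4 n2 = n5 := rfl
theorem F26 : act 0 n5 = n5 := d3_1 D5 (iv D5) F13
theorem F27 : act 1 n5 = n5 := d9_1 D5 (iv D5) F14
theorem F28 : act 3 n5 = n5 := d18_1 D5 (iv D5) (iv D2) F11 D2
theorem F29 : act 5 n5 = n5 := d22_2 F15 D5 (iv D5)
theorem F30 : act 7 n5 = n5 := d24_2 F16 D5 (iv D5)
def n6 : Q := act 6 n2
theorem D6 : act 6 n2 = n6 := rfl
theorem F31 : act 0 n6 = n6 := d5_1 D6 (iv D6) F13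
theorem F32 : act 1 n6 = n6 := d11_1 D6 (iv D6) F14
theorem F33 : act 3 n6 = n3 := d20_1 D6 (iv D3) D2
def n7 : Q := act 5 n3
theorem D7 : act 5 n3 = n7 := rfl
theorem F34 : act 0 n7 = n7 := d4_1 D7 (iv D7) F17
theorem F35 : act 2 n7 = n7 := d15_1 D7 (iv D7) F19
theorem F36 : act 4 n7 = n7 := d22_1 D7 (iv D7) F20
theorem F37 : act 6 n7 = n7 := d25_2 D3 D7 (iv D7) (iv D3) F12
theorem F38 : act 7 n7 = n7 := d26_2 F21 D7 (iv D7)
def n8 : Q := act 1 n4
theorem D8 : act 1 n4 = n8 := rfl
theorem F39 : act 2 n8 = n8 := d7_2 D4 D8 (iv D8) (iv D4) F14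
theorem F40 : act 3 n8 = n8 := d8_2 F23 D8 (iv D8)
theorem F41 : act 7 n8 = n8 := d12_2 F25 D8 (iv D8)
def n9 : Q := act 4 n4
theorem D9 : act 4 n4 = n9 := rfl
theorem F42 : act 0 n9 = n9 := d3_1 D9 (iv D9) F22
theorem F43 : act 2 n9 = n5 := d14_1 D9 (iv D5) D4
theorem F44 : act 5 n9 = n9 := d22_2 F24 D9 (iv D9)
theorem F45 : act 7 n9 = n9 := d24_2 F25 D9 (iv D9)
def n10 : Q := act 6 n4
theorem D10 : act 6 n4 = n10 := rfl
theorem F46 : act 0 n10 = n10 := d5_1 D10 (iv D10) F22
theorem F47 : act 2 n10 = n6 := d16_1 D10 (iv D6) D4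
theorem F48 : act 3 n10 = n10 := d20_1 D10 (iv D10) F23
def n11 : Q := act 6 n5
theorem D11 : act 6 n5 = n11 := rfl
theorem F49 : act 0 n11 = n11 := d5_1 D11 (iv D11) F26
theorem F50 : act 1 n11 = n11 := d11_1 D11 (iv D11) F27
theorem F51 : act 3 n11 = n11 := d20_1 D11 (iv D11) F28
theorem F52 : act 4 n11 = n6 := d23_1 D11 (iv D6) D5
def n12 : Q := act 5 n6
theorem D12 : act 5 n6 = n12 := rfl
theorem F53 : act 0 n12 = n12 := d4_1 D12 (iv D12) F31
theorem F54 : act 3 n12 = n7 := d19_1 D12 (iv D7) (iv F33)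
theorem F55 : act 6 n12 = n12 := d25_2 D6 D12 (iv D12) (iv D6) F15
def n13 : Q := act 7 n6
theorem D13 : act 7 n6 = n13 := rfl
theorem F56 : act 0 n13 = n13 := d6_1 D13 (iv D13) F31
theorem F57 : act 1 n13 = n13 := d12_1 D13 (iv D13) F32
theorem F58 : act 3 n13 = n13 := d21_1 D13 (iv D13) F33 F21 (iv F33)
theorem F59 : act 6 n13 = n13 := d27_1 D13 (iv D13) (iv D6) F16 D6
def n14 : Q := act 1 n7
theorem D14 : act 1 n7 = n14 := rfl
theorem F60 : act 4 n14 = n14 := d9_2 F36 D14 (iv D14)
theorem F61 : act 5 n14 = n14 := d10_2 D7 D14 (iv D14) (iv D7) F18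
theorem F62 : act 6 n14 = n14 := d11_2 F37 D14 (iv D14)
theorem F63 : act 7 n14 = n14 := d12_2 F38 D14 (iv D14)
def n15 : Q := act 0 n8
theorem D15 : act 0 n8 = n15 := rfl
theorem F64 : act 1 n15 = n15 := d0_2 D8 D15 (iv D15) (iv D8) F22
theorem F65 : act 2 n15 = n15 := d1_2 F39 D15 (iv D15)
theorem F66 : act 3 n15 = n15 := d2_2 F40 D15 (iv D15)
theorem F67 : act 7 n15 = n15 := d6_2 F41 D15 (iv D15)
def n16 : Q := act 4 n8
theorem D16 : act 4 n8 = n16 := rfl
theorem F68 : act 1 n16 = n9 := d9_1 D16 (iv D9) D8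
theorem F69 : act 2 n16 = n16 := d14_1 D16 (iv D16) F39
theorem F70 : act 7 n16 = n16 := d24_2 F41 D16 (iv D16)
def n17 : Q := act 5 n8
theorem D17 : act 5 n8 = n17 := rfl
theorem F71 : act 1 n17 = n17 := d10_1 D17 (iv D17) (iv D8) F24 D8
theorem F72 : act 2 n17 = n17 := d15_1 D17 (iv D17) F39
theorem F73 : act 3 n17 = n17 := d19_1 D17 (iv D17) F40
theorem F74 : act 7 n17 = n17 := d26_2 F41 D17 (iv D17)
def n18 : Q := act 6 n8
theorem D18 : act 6 n8 = n18 := rfl
theorem F75 : act 1 n18 = n10 := d11_1 D18 (iv D10) D8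
theorem F76 : act 2 n18 = n18 := d16_1 D18 (iv D18) F39
theorem F77 : act 3 n18 = n18 := d20_1 D18 (iv D18) F40
def n19 : Q := act 3 n9
theorem D19 : act 3 n9 = n19 := rfl
theorem F78 : act 0 n19 = n19 := d2_1 D19 (iv D19) F42
theorem F79 : act 2 n19 = n19 := d13_1 D19 (iv D19) F43 F28 (iv F43)
theorem F80 : act 4 n19 = n19 := d18_2 D9 D19 (iv D19) (iv D9) F23
theorem F81 : act 5 n19 = n19 := d19_2 F44 D19 (iv D19)
def n20 : Q := act 6 n9
theorem D20 : act 6 n9 = n20 := rfl
theorem F82 : act 0 n20 = n20 := d5_1 D20 (iv D20) F42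
theorem F83 : act 2 n20 = n11 := d16_1 D20 (iv D11) (iv F43)
theorem F84 : act 4 n20 = n10 := d23_1 D20 (iv D10) D9
def n21 : Q := act 5 n10
theorem D21 : act 5 n10 = n21 := rfl
theorem F85 : act 0 n21 = n21 := d4_1 D21 (iv D21) F46
theorem F86 : act 2 n21 = n12 := d15_1 D21 (iv D12) (iv F47)
theorem F87 : act 3 n21 = n21 := d19_1 D21 (iv D21) F48
theorem F88 : act 6 n21 = n21 := d25_2 D10 D21 (iv D21) (iv D10) F24
def n22 : Q := act 7 n10
theorem D22 : act 7 n10 = n22 := rfl
theorem F89 : act 0 n22 = n22 := d6_1 D22 (iv D22) F46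
theorem F90 : act 2 n22 = n13 := d17_1 D22 (iv D13) (iv F47)
theorem F91 : act 6 n22 = n22 := d27_1 D22 (iv D22) (iv D10) F25 D10
def n23 : Q := act 5 n11
theorem D23 : act 5 n11 = n23 := rfl
theorem F92 : act 0 n23 = n23 := d4_1 D23 (iv D23) F49
theorem F93 : act 3 n23 = n23 := d19_1 D23 (iv D23) F51
theorem F94 : act 4 n23 = n12 := d22_1 D23 (iv D12) (iv F52)
theorem F95 : act 6 n23 = n23 := d25_2 D11 D23 (iv D23) (iv D11) F29
def n24 : Q := act 7 n11
theorem D24 : act 7 n11 = n24 := rfl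
theorem F96 : act 0 n24 = n24 := d6_1 D24 (iv D24) F49
theorem F97 : act 1 n24 = n24 := d12_1 D24 (iv D24) F50
theorem F98 : act 4 n24 = n13 := d24_1 D24 (iv D13) (iv F52)
theorem F99 : act 6 n24 = n24 := d27_1 D24 (iv D24) (iv D11) F30 D11
def n25 : Q := act 1 n12
theorem D25 : act 1 n12 = n25 := rfl
theorem F100 : act 3 n25 = n14 := d8_2 (iv F54) D25 (iv D14)
theorem F101 : act 5 n25 = n25 := d10_2 D12 D25 (iv D25) (iv D12) F32
theorem F102 : act 6 n25 = n25 := d11_2 F55 D25 (iv D25)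
def n26 : Q := act 7 n12
theorem D26 : act 7 n12 = n26 := rfl
theorem F103 : act 0 n26 = n26 := d6_1 D26 (iv D26) F53
theorem F104 : act 3 n26 = n26 := d21_1 D26 (iv D26) F54 F38 (iv F54)
theorem F105 : act 5 n26 = n13 := d26_1 D26 (iv D13) D12
def n27 : Q := act 0 n14
theorem D27 : act 0 n14 = n27 := rfl
theorem F106 : act 1 n27 = n27 := d0_2 D14 D27 (iv D27) (iv D14) F34
theorem F107 : act 4 n27 = n27 := d3_2 F60 D27 (iv D27)
theorem F108 : act 5 n27 = n27 := d4_2 F61 D27 (iv D27)
theorem F109 : act 6 n27 = n27 := d5_2 F62 D27 (iv D27)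
theorem F110 : act 7 n27 = n27 := d6_2 F63 D27 (iv D27)
def n28 : Q := act 2 n14
theorem D28 : act 2 n14 = n28 := rfl
theorem F111 : act 1 n28 = n28 := d7_1 D28 (iv D28) (iv D14) F35 D14
theorem F112 : act 4 n28 = n28 := d14_2 F60 D28 (iv D28)
theorem F113 : act 5 n28 = n28 := d15_2 F61 D28 (iv D28)
theorem F114 : act 6 n28 = n28 := d16_2 F62 D28 (iv D28)
theorem F115 : act 7 n28 = n28 := d17_2 F63 D28 (iv D28)
def n29 : Q := act 4 n15
theorem D29 : act 4 n15 = n29 := rfl
theorem F116 : act 0 n29 = n16 := d3_1 D29 (iv D16) D15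
theorem F117 : act 1 n29 = n29 := d9_1 D29 (iv D29) F64
theorem F118 : act 2 n29 = n29 := d14_1 D29 (iv D29) F65
theorem F119 : act 7 n29 = n29 := d24_2 F67 D29 (iv D29)
def n30 : Q := act 5 n15
theorem D30 : act 5 n15 = n30 := rfl
theorem F120 : act 0 n30 = n17 := d4_1 D30 (iv D17) D15
theorem F121 : act 2 n30 = n30 := d15_1 D30 (iv D30) F65
theorem F122 : act 3 n30 = n30 := d19_1 D30 (iv D30) F66
theorem F123 : act 7 n30 = n30 := d26_2 F67 D30 (iv D30)
def n31 : Q := act 6 n15
theorem D31 : act 6 n15 = n31 := rfl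
theorem F124 : act 0 n31 = n18 := d5_1 D31 (iv D18) D15
theorem F125 : act 1 n31 = n31 := d11_1 D31 (iv D31) F64
theorem F126 : act 2 n31 = n31 := d16_1 D31 (iv D31) F65
theorem F127 : act 3 n31 = n31 := d20_1 D31 (iv D31) F66
def n32 : Q := act 3 n16
theorem D32 : act 3 n16 = n32 := rfl
theorem F128 : act 1 n32 = n19 := d8_1 D32 (iv D19) (iv F68)
theorem F129 : act 4 n32 = n32 := d18_2 D16 D32 (iv D32) (iv D16) F40
def n33 : Q := act 5 n16
theorem D33 : act 5 n16 = n33 := rfl
theorem F130 : act 1 n33 = n33 := d10_1 D33 (iv D33) F68 F44 (iv F68)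
theorem F131 : act 2 n33 = n33 := d15_1 D33 (iv D33) F69
theorem F132 : act 4 n33 = n17 := d22_1 D33 (iv D17) D16
theorem F133 : act 7 n33 = n33 := d26_2 F70 D33 (iv D33)
def n34 : Q := act 6 n16
theorem D34 : act 6 n16 = n34 := rfl
theorem F134 : act 1 n34 = n20 := d11_1 D34 (iv D20) (iv F68)
theorem F135 : act 2 n34 = n34 := d16_1 D34 (iv D34) F69
theorem F136 : act 4 n34 = n18 := d23_1 D34 (iv D18) D16
def n35 : Q := act 6 n17
theorem D35 : act 6 n17 = n35 := rfl
theorem F137 : act 1 n35 = n35 := d11_1 D35 (iv D35) F71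
theorem F138 : act 2 n35 = n35 := d16_1 D35 (iv D35) F72
theorem F139 : act 3 n35 = n35 := d20_1 D35 (iv D35) F73
def n36 : Q := act 5 n18
theorem D36 : act 5 n18 = n36 := rfl
theorem F140 : act 2 n36 = n36 := d15_1 D36 (iv D36) F76
theorem F141 : act 3 n36 = n36 := d19_1 D36 (iv D36) F77
def n37 : Q := act 7 n18
theorem D37 : act 7 n18 = n37 := rfl
theorem F142 : act 1 n37 = n22 := d12_1 D37 (iv D22) (iv F75)
theorem F143 : act 2 n37 = n37 := d17_1 D37 (iv D37) F76
theorem F144 : act 6 n37 = n37 := d27_1 D37 (iv D37) (iv D18) F41 D18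
def n38 : Q := act 6 n19
theorem D38 : act 6 n19 = n38 := rfl
theorem F145 : act 0 n38 = n38 := d5_1 D38 (iv D38) F78
theorem F146 : act 2 n38 = n38 := d16_1 D38 (iv D38) F79
theorem F147 : act 3 n38 = n20 := d20_1 D38 (iv D20) D19
theorem F148 : act 4 n38 = n38 := d23_1 D38 (iv D38) F80
def n39 : Q := act 7 n19
theorem D39 : act 7 n19 = n39 := rfl
theorem F149 : act 0 n39 = n39 := d6_1 D39 (iv D39) F78
theorem F150 : act 2 n39 = n39 := d17_1 D39 (iv D39) F79
theorem F151 : act 3 n39 = n39 := d21_1 D39 (iv D39) (iv D19) F45 D19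
theorem F152 : act 4 n39 = n39 := d24_1 D39 (iv D39) F80
theorem F153 : act 5 n39 = n39 := d26_1 D39 (iv D39) F81
def n40 : Q := act 5 n20
theorem D40 : act 5 n20 = n40 := rfl
theorem F154 : act 0 n40 = n40 := d4_1 D40 (iv D40) F82
theorem F155 : act 2 n40 = n23 := d15_1 D40 (iv D23) (iv F83)
theorem F156 : act 4 n40 = n21 := d22_1 D40 (iv D21) (iv F84)
theorem F157 : act 6 n40 = n40 := d25_2 D20 D40 (iv D40) (iv D20) F44
def n41 : Q := act 7 n20
theorem D41 : act 7 n20 = n41 := rfl
theorem F158 : act 0 n41 = n41 := d6_1 D41 (iv D41) F82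
theorem F159 : act 2 n41 = n24 := d17_1 D41 (iv D24) (iv F83)
theorem F160 : act 4 n41 = n22 := d24_1 D41 (iv D22) (iv F84)
theorem F161 : act 6 n41 = n41 := d27_1 D41 (iv D41) (iv D20) F45 D20
def n42 : Q := act 1 n21
theorem D42 : act 1 n21 = n42 := rfl
theorem F162 : act 3 n42 = n42 := d8_2 F87 D42 (iv D42)
theorem F163 : act 6 n42 = n42 := d11_2 F88 D42 (iv D42)
def n43 : Q := act 7 n21
theorem D43 : act 7 n21 = n43 := rfl
theorem F164 : act 0 n43 = n43 := d6_1 D43 (iv D43) F85
theorem F165 : act 2 n43 = n26 := d17_1 D43 (iv D26) (iv F86)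
theorem F166 : act 5 n43 = n22 := d26_1 D43 (iv D22) D21
def n44 : Q := act 3 n22
theorem D44 : act 3 n22 = n44 := rfl
theorem F167 : act 0 n44 = n44 := d2_1 D44 (iv D44) F89
theorem F168 : act 2 n44 = n44 := d13_1 D44 (iv D44) F90 F58 (iv F90)
theorem F169 : act 6 n44 = n44 := d20_2 F91 D44 (iv D44)
theorem F170 : act 7 n44 = n44 := d21_2 D22 D44 (iv D44) (iv D22) F48
def n45 : Q := act 1 n23
theorem D45 : act 1 n23 = n45 := rfl
theorem F171 : act 3 n45 = n45 := d8_2 F93 D45 (iv D45)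
theorem F172 : act 4 n45 = n25 := d9_2 (iv F94) D45 (iv D25)
theorem F173 : act 5 n45 = n45 := d10_2 D23 D45 (iv D45) (iv D23) F50
theorem F174 : act 6 n45 = n45 := d11_2 F95 D45 (iv D45)
def n46 : Q := act 7 n23
theorem D46 : act 7 n23 = n46 := rfl
theorem F175 : act 0 n46 = n46 := d6_1 D46 (iv D46) F92
theorem F176 : act 4 n46 = n26 := d24_1 D46 (iv D26) (iv F94)
theorem F177 : act 5 n46 = n24 := d26_1 D46 (iv D24) D23
def n47 : Q := act 3 n24
theorem D47 : act 3 n24 = n47 := rfl
theorem F178 : act 0 n47 = n47 := d2_1 D47 (iv D47) F96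
theorem F179 : act 1 n47 = n47 := d8_1 D47 (iv D47) F97
theorem F180 : act 4 n47 = n47 := d18_2 (iv F98) D47 (iv D47) F98 F58
theorem F181 : act 6 n47 = n47 := d20_2 F99 D47 (iv D47)
theorem F182 : act 7 n47 = n47 := d21_2 D24 D47 (iv D47) (iv D24) F51
def n48 : Q := act 0 n25
theorem D48 : act 0 n25 = n48 := rfl
theorem F183 : act 1 n48 = n48 := d0_2 D25 D48 (iv D48) (iv D25) F53
theorem F184 : act 3 n48 = n27 := d2_2 (iv F100) D48 (iv D27)
theorem F185 : act 5 n48 = n48 := d4_2 F101 D48 (iv D48)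
theorem F186 : act 6 n48 = n48 := d5_2 F102 D48 (iv D48)
def n49 : Q := act 2 n25
theorem D49 : act 2 n25 = n49 := rfl
theorem F187 : act 5 n49 = n49 := d15_2 F101 D49 (iv D49)
theorem F188 : act 6 n49 = n49 := d16_2 F102 D49 (iv D49)
def n50 : Q := act 7 n25
theorem D50 : act 7 n25 = n50 := rfl
theorem F189 : act 1 n50 = n26 := d12_1 D50 (iv D26) D25
theorem F190 : act 3 n50 = n50 := d21_1 D50 (iv D50) F100 F63 (iv F100)
theorem F191 : act 5 n50 = n50 := d26_1 D50 (iv D50) F101
def n51 : Q := act 6 n26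
theorem D51 : act 6 n26 = n51 := rfl
theorem F192 : act 0 n51 = n51 := d5_1 D51 (iv D51) F103
theorem F193 : act 3 n51 = n51 := d20_1 D51 (iv D51) F104
theorem F194 : act 5 n51 = n51 := d25_1 D51 (iv D51) F105 F59 (iv F105)
theorem F195 : act 7 n51 = n51 := d27_2 D26 D51 (iv D51) (iv D26) F55
def n52 : Q := act 2 n27
theorem D52 : act 2 n27 = n52 := rfl
theorem F196 : act 0 n52 = n28 := d1_1 D52 (iv D28) D27
theorem F197 : act 4 n52 = n52 := d14_2 F107 D52 (iv D52)
theorem F198 : act 5 n52 = n52 := d15_2 F108 D52 (iv D52)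
theorem F199 : act 6 n52 = n52 := d16_2 F109 D52 (iv D52)
theorem F200 : act 7 n52 = n52 := d17_2 F110 D52 (iv D52)
def n53 : Q := act 3 n28
theorem D53 : act 3 n28 = n53 := rfl
theorem F201 : act 1 n53 = n53 := d8_1 D53 (iv D53) F111
theorem F202 : act 5 n53 = n53 := d19_2 F113 D53 (iv D53)
theorem F203 : act 6 n53 = n53 := d20_2 F114 D53 (iv D53)
def n54 : Q := act 3 n29
theorem D54 : act 3 n29 = n54 := rfl
theorem F204 : act 0 n54 = n32 := d2_1 D54 (iv D32) (iv F116)
theorem F205 : act 1 n54 = n54 := d8_1 D54 (iv D54) F117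
theorem F206 : act 4 n54 = n54 := d18_2 D29 D54 (iv D54) (iv D29) F66
def n55 : Q := act 5 n29
theorem D55 : act 5 n29 = n55 := rfl
theorem F207 : act 0 n55 = n33 := d4_1 D55 (iv D33) (iv F116)
theorem F208 : act 2 n55 = n55 := d15_1 D55 (iv D55) F118
theorem F209 : act 4 n55 = n30 := d22_1 D55 (iv D30) D29
theorem F210 : act 7 n55 = n55 := d26_2 F119 D55 (iv D55)
def n56 : Q := act 6 n29
theorem D56 : act 6 n29 = n56 := rfl
theorem F211 : act 0 n56 = n34 := d5_1 D56 (iv D34) (iv F116)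
theorem F212 : act 1 n56 = n56 := d11_1 D56 (iv D56) F117
theorem F213 : act 2 n56 = n56 := d16_1 D56 (iv D56) F118
theorem F214 : act 4 n56 = n31 := d23_1 D56 (iv D31) D29
def n57 : Q := act 1 n30
theorem D57 : act 1 n30 = n57 := rfl
theorem F215 : act 0 n57 = n57 := d0_1 D57 (iv D57) F120 F71 (iv F120)
theorem F216 : act 3 n57 = n57 := d8_2 F122 D57 (iv D57)
theorem F217 : act 5 n57 = n57 := d10_2 D30 D57 (iv D57) (iv D30) F64
theorem F218 : act 7 n57 = n57 := d12_2 F123 D57 (iv D57)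
def n58 : Q := act 6 n30
theorem D58 : act 6 n30 = n58 := rfl
theorem F219 : act 0 n58 = n35 := d5_1 D58 (iv D35) (iv F120)
theorem F220 : act 2 n58 = n58 := d16_1 D58 (iv D58) F121
theorem F221 : act 3 n58 = n58 := d20_1 D58 (iv D58) F122
def n59 : Q := act 5 n31
theorem D59 : act 5 n31 = n59 := rfl
theorem F222 : act 0 n59 = n36 := d4_1 D59 (iv D36) (iv F124)
theorem F223 : act 2 n59 = n59 := d15_1 D59 (iv D59) F126
theorem F224 : act 3 n59 = n59 := d19_1 D59 (iv D59) F127
def n60 : Q := act 7 n31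
theorem D60 : act 7 n31 = n60 := rfl
theorem F225 : act 0 n60 = n37 := d6_1 D60 (iv D37) (iv F124)
theorem F226 : act 1 n60 = n60 := d12_1 D60 (iv D60) F125
theorem F227 : act 2 n60 = n60 := d17_1 D60 (iv D60) F126
theorem F228 : act 6 n60 = n60 := d27_1 D60 (iv D60) (iv D31) F67 D31
def n61 : Q := act 2 n32
theorem D61 : act 2 n32 = n61 := rfl
theorem F229 : act 1 n61 = n61 := d7_1 D61 (iv D61) F128 F79 (iv F128)
theorem F230 : act 3 n61 = n61 := d13_2 D32 D61 (iv D61) (iv D32) F69
theorem F231 : act 4 n61 = n61 := d14_2 F129 D61 (iv D61)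
def n62 : Q := act 5 n32
theorem D62 : act 5 n32 = n62 := rfl
theorem F232 : act 1 n62 = n62 := d10_1 D62 (iv D62) F128 F81 (iv F128)
theorem F233 : act 3 n62 = n33 := d19_1 D62 (iv D33) D32
theorem F234 : act 4 n62 = n62 := d22_1 D62 (iv D62) F129
def n63 : Q := act 6 n32
theorem D63 : act 6 n32 = n63 := rfl
theorem F235 : act 1 n63 = n38 := d11_1 D63 (iv D38) (iv F128)
theorem F236 : act 3 n63 = n34 := d20_1 D63 (iv D34) D32
theorem F237 : act 4 n63 = n63 := d23_1 D63 (iv D63) F129
def n64 : Q := act 7 n32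
theorem D64 : act 7 n32 = n64 := rfl
theorem F238 : act 1 n64 = n39 := d12_1 D64 (iv D39) (iv F128)
theorem F239 : act 3 n64 = n64 := d21_1 D64 (iv D64) (iv D32) F70 D32
theorem F240 : act 4 n64 = n64 := d24_1 D64 (iv D64) F129
def n65 : Q := act 6 n33
theorem D65 : act 6 n33 = n65 := rfl
theorem F241 : act 1 n65 = n65 := d11_1 D65 (iv D65) F130
theorem F242 : act 2 n65 = n65 := d16_1 D65 (iv D65) F131
theorem F243 : act 4 n65 = n35 := d23_1 D65 (iv D35) (iv F132)
def n66 : Q := act 5 n34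
theorem D66 : act 5 n34 = n66 := rfl
theorem F244 : act 2 n66 = n66 := d15_1 D66 (iv D66) F135
theorem F245 : act 4 n66 = n36 := d22_1 D66 (iv D36) (iv F136)
def n67 : Q := act 7 n34
theorem D67 : act 7 n34 = n67 := rfl
theorem F246 : act 1 n67 = n41 := d12_1 D67 (iv D41) (iv F134)
theorem F247 : act 2 n67 = n67 := d17_1 D67 (iv D67) F135
theorem F248 : act 4 n67 = n37 := d24_1 D67 (iv D37) (iv F136)
theorem F249 : act 6 n67 = n67 := d27_1 D67 (iv D67) (iv D34) F70 D34
def n68 : Q := act 5 n35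
theorem D68 : act 5 n35 = n68 := rfl
theorem F250 : act 2 n68 = n68 := d15_1 D68 (iv D68) F138
theorem F251 : act 3 n68 = n68 := d19_1 D68 (iv D68) F139
theorem F252 : act 6 n68 = n36 := d25_2 D35 D68 (iv D36) (iv D18) D17
def n69 : Q := act 7 n35
theorem D69 : act 7 n35 = n69 := rfl
theorem F253 : act 1 n69 = n69 := d12_1 D69 (iv D69) F137
theorem F254 : act 2 n69 = n69 := d17_1 D69 (iv D69) F138
theorem F255 : act 6 n69 = n69 := d27_1 D69 (iv D69) (iv D35) F74 D35
def n70 : Q := act 1 n36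
theorem D70 : act 1 n36 = n70 := rfl
theorem F256 : act 3 n70 = n70 := d8_2 F141 D70 (iv D70)
theorem F257 : act 5 n70 = n42 := d10_2 D36 D70 (iv D42) (iv D21) (iv F75)
def n71 : Q := act 7 n36
theorem D71 : act 7 n36 = n71 := rfl
theorem F258 : act 2 n71 = n71 := d17_1 D71 (iv D71) F140
theorem F259 : act 5 n71 = n37 := d26_1 D71 (iv D37) D36
def n72 : Q := act 3 n37
theorem D72 : act 3 n37 = n72 := rfl
theorem F260 : act 1 n72 = n44 := d8_1 D72 (iv D44) (iv F142)
theorem F261 : act 6 n72 = n72 := d20_2 F144 D72 (iv D72)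
theorem F262 : act 7 n72 = n72 := d21_2 D37 D72 (iv D72) (iv D37) F77
def n73 : Q := act 5 n38
theorem D73 : act 5 n38 = n73 := rfl
theorem F263 : act 0 n73 = n73 := d4_1 D73 (iv D73) F145
theorem F264 : act 2 n73 = n73 := d15_1 D73 (iv D73) F146
theorem F265 : act 3 n73 = n40 := d19_1 D73 (iv D40) (iv F147)
theorem F266 : act 4 n73 = n73 := d22_1 D73 (iv D73) F148
theorem F267 : act 6 n73 = n73 := d25_2 D38 D73 (iv D73) (iv D38) F81
def n74 : Q := act 7 n38
theorem D74 : act 7 n38 = n74 := rfl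
theorem F268 : act 0 n74 = n74 := d6_1 D74 (iv D74) F145
theorem F269 : act 2 n74 = n74 := d17_1 D74 (iv D74) F146
theorem F270 : act 4 n74 = n74 := d24_1 D74 (iv D74) F148
def n75 : Q := act 6 n39
theorem D75 : act 6 n39 = n75 := rfl
theorem F271 : act 0 n75 = n75 := d5_1 D75 (iv D75) F149
theorem F272 : act 2 n75 = n75 := d16_1 D75 (iv D75) F150
theorem F273 : act 3 n75 = n75 := d20_1 D75 (iv D75) F151
theorem F274 : act 4 n75 = n75 := d23_1 D75 (iv D75) F152
def n76 : Q := act 1 n40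
theorem D76 : act 1 n40 = n76 := rfl
theorem F275 : act 4 n76 = n42 := d9_2 (iv F156) D76 (iv D42)
theorem F276 : act 6 n76 = n76 := d11_2 F157 D76 (iv D76)
def n77 : Q := act 7 n40
theorem D77 : act 7 n40 = n77 := rfl
theorem F277 : act 0 n77 = n77 := d6_1 D77 (iv D77) F154
theorem F278 : act 2 n77 = n46 := d17_1 D77 (iv D46) (iv F155)
theorem F279 : act 4 n77 = n43 := d24_1 D77 (iv D43) (iv F156)
theorem F280 : act 5 n77 = n41 := d26_1 D77 (iv D41) D40
def n78 : Q := act 3 n41
theorem D78 : act 3 n41 = n78 := rfl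
theorem F281 : act 0 n78 = n78 := d2_1 D78 (iv D78) F158
theorem F282 : act 6 n78 = n78 := d20_2 F161 D78 (iv D78)
def n79 : Q := act 0 n42
theorem D79 : act 0 n42 = n79 := rfl
theorem F283 : act 1 n79 = n79 := d0_2 D42 D79 (iv D79) (iv D42) F85
theorem F284 : act 3 n79 = n79 := d2_2 F162 D79 (iv D79)
theorem F285 : act 6 n79 = n79 := d5_2 F163 D79 (iv D79)
def n80 : Q := act 2 n42
theorem D80 : act 2 n42 = n80 := rfl
theorem F286 : act 1 n80 = n49 := d7_1 D80 (iv D49) (iv D25) (iv F86) D42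
theorem F287 : act 6 n80 = n80 := d16_2 F163 D80 (iv D80)
def n81 : Q := act 7 n42
theorem D81 : act 7 n42 = n81 := rfl
theorem F288 : act 1 n81 = n43 := d12_1 D81 (iv D43) D42
def n82 : Q := act 3 n43
theorem D82 : act 3 n43 = n82 := rfl
theorem F289 : act 0 n82 = n82 := d2_1 D82 (iv D82) F164
theorem F290 : act 2 n82 = n82 := d13_1 D82 (iv D82) F165 F104 (iv F165)
theorem F291 : act 5 n82 = n44 := d19_2 (iv F166) D82 (iv D44)
theorem F292 : act 7 n82 = n82 := d21_2 D43 D82 (iv D82) (iv D43) F87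
def n83 : Q := act 6 n43
theorem D83 : act 6 n43 = n83 := rfl
theorem F293 : act 0 n83 = n83 := d5_1 D83 (iv D83) F164
theorem F294 : act 2 n83 = n51 := d16_1 D83 (iv D51) (iv F165)
theorem F295 : act 5 n83 = n83 := d25_1 D83 (iv D83) F166 F91 (iv F166)
theorem F296 : act 7 n83 = n83 := d27_2 D43 D83 (iv D83) (iv D43) F88
def n84 : Q := act 4 n44
theorem D84 : act 4 n44 = n84 := rfl
theorem F297 : act 0 n84 = n84 := d3_1 D84 (iv D84) F167
theorem F298 : act 2 n84 = n84 := d14_1 D84 (iv D84) F168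
theorem F299 : act 6 n84 = n84 := d23_2 F169 D84 (iv D84)
theorem F300 : act 7 n84 = n84 := d24_2 F170 D84 (iv D84)
def n85 : Q := act 0 n45
theorem D85 : act 0 n45 = n85 := rfl
theorem F301 : act 1 n85 = n85 := d0_2 D45 D85 (iv D85) (iv D45) F92
theorem F302 : act 3 n85 = n85 := d2_2 F171 D85 (iv D85)
theorem F303 : act 4 n85 = n48 := d3_2 (iv F172) D85 (iv D48)
theorem F304 : act 5 n85 = n85 := d4_2 F173 D85 (iv D85)
theorem F305 : act 6 n85 = n85 := d5_2 F174 D85 (iv D85)
def n86 : Q := act 2 n45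
theorem D86 : act 2 n45 = n86 := rfl
theorem F306 : act 4 n86 = n49 := d14_2 (iv F172) D86 (iv D49)
theorem F307 : act 5 n86 = n86 := d15_2 F173 D86 (iv D86)
theorem F308 : act 6 n86 = n86 := d16_2 F174 D86 (iv D86)
def n87 : Q := act 7 n45
theorem D87 : act 7 n45 = n87 := rfl
theorem F309 : act 1 n87 = n46 := d12_1 D87 (iv D46) D45
theorem F310 : act 4 n87 = n50 := d24_1 D87 (iv D50) (iv F172)
theorem F311 : act 5 n87 = n87 := d26_1 D87 (iv D87) F173
def n88 : Q := act 3 n46
theorem D88 : act 3 n46 = n88 := rfl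
theorem F312 : act 0 n88 = n88 := d2_1 D88 (iv D88) F175
theorem F313 : act 4 n88 = n88 := d18_2 (iv F176) D88 (iv D88) F176 F104
theorem F314 : act 5 n88 = n47 := d19_2 (iv F177) D88 (iv D47)
theorem F315 : act 7 n88 = n88 := d21_2 D46 D88 (iv D88) (iv D46) F93
def n89 : Q := act 6 n46
theorem D89 : act 6 n46 = n89 := rfl
theorem F316 : act 0 n89 = n89 := d5_1 D89 (iv D89) F175
theorem F317 : act 4 n89 = n51 := d23_1 D89 (iv D51) (iv F176)
theorem F318 : act 5 n89 = n89 := d25_1 D89 (iv D89) F177 F99 (iv F177)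
theorem F319 : act 7 n89 = n89 := d27_2 D46 D89 (iv D89) (iv D46) F95
def n90 : Q := act 2 n47
theorem D90 : act 2 n47 = n90 := rfl
theorem F320 : act 0 n90 = n90 := d1_1 D90 (iv D90) F178
theorem F321 : act 4 n90 = n90 := d14_2 F180 D90 (iv D90)
theorem F322 : act 6 n90 = n90 := d16_2 F181 D90 (iv D90)
theorem F323 : act 7 n90 = n90 := d17_2 F182 D90 (iv D90)
def n91 : Q := act 2 n48
theorem D91 : act 2 n48 = n91 := rfl
theorem F324 : act 0 n91 = n49 := d1_1 D91 (iv D49) D48
theorem F325 : act 5 n91 = n91 := d15_2 F185 D91 (iv D91)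
theorem F326 : act 6 n91 = n91 := d16_2 F186 D91 (iv D91)
def n92 : Q := act 7 n48
theorem D92 : act 7 n48 = n92 := rfl
theorem F327 : act 0 n92 = n50 := d6_1 D92 (iv D50) D48
theorem F328 : act 1 n92 = n92 := d12_1 D92 (iv D92) F183
theorem F329 : act 3 n92 = n92 := d21_1 D92 (iv D92) F184 F110 (iv F184)
theorem F330 : act 5 n92 = n92 := d26_1 D92 (iv D92) F185
def n93 : Q := act 3 n49
theorem D93 : act 3 n49 = n93 := rfl
theorem F331 : act 2 n93 = n53 := d13_1 D93 (iv D53) (iv D28) (iv F100) D49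
theorem F332 : act 5 n93 = n93 := d19_2 F187 D93 (iv D93)
theorem F333 : act 6 n93 = n93 := d20_2 F188 D93 (iv D93)
def n94 : Q := act 7 n49
theorem D94 : act 7 n49 = n94 := rfl
theorem F334 : act 2 n94 = n50 := d17_1 D94 (iv D50) D49
theorem F335 : act 5 n94 = n94 := d26_1 D94 (iv D94) F187
def n95 : Q := act 6 n50
theorem D95 : act 6 n50 = n95 := rfl
theorem F336 : act 1 n95 = n51 := d11_1 D95 (iv D51) (iv F189)
theorem F337 : act 3 n95 = n95 := d20_1 D95 (iv D95) F190
theorem F338 : act 7 n95 = n95 := d27_2 D50 D95 (iv D95) (iv D50) F102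
def n96 : Q := act 1 n52
theorem D96 : act 1 n52 = n96 := rfl
theorem F339 : act 0 n96 = n96 := d0_1 D96 (iv D96) F196 F111 (iv F196)
theorem F340 : act 2 n96 = n96 := d7_2 D52 D96 (iv D96) (iv D52) F106
theorem F341 : act 4 n96 = n96 := d9_2 F197 D96 (iv D96)
theorem F342 : act 6 n96 = n96 := d11_2 F199 D96 (iv D96)
theorem F343 : act 7 n96 = n96 := d12_2 F200 D96 (iv D96)
def n97 : Q := act 3 n52
theorem D97 : act 3 n52 = n97 := rfl
theorem F344 : act 0 n97 = n53 := d2_1 D97 (iv D53) (iv F196)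
theorem F345 : act 5 n97 = n97 := d19_2 F198 D97 (iv D97)
theorem F346 : act 6 n97 = n97 := d20_2 F199 D97 (iv D97)
def n98 : Q := act 4 n53
theorem D98 : act 4 n53 = n98 := rfl
theorem F347 : act 1 n98 = n98 := d9_1 D98 (iv D98) F201
theorem F348 : act 3 n98 = n98 := d18_1 D98 (iv D98) (iv D53) F112 D53
theorem F349 : act 5 n98 = n98 := d22_2 F202 D98 (iv D98)
theorem F350 : act 6 n98 = n98 := d23_2 F203 D98 (iv D98)
def n99 : Q := act 7 n53
theorem D99 : act 7 n53 = n99 := rfl
theorem F351 : act 1 n99 = n99 := d12_1 D99 (iv D99) F201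
theorem F352 : act 3 n99 = n99 := d21_1 D99 (iv D99) (iv D53) F115 D53
theorem F353 : act 5 n99 = n99 := d26_1 D99 (iv D99) F202
def n100 : Q := act 2 n54
theorem D100 : act 2 n54 = n100 := rfl
theorem F354 : act 0 n100 = n61 := d1_1 D100 (iv D61) (iv F204)
theorem F355 : act 3 n100 = n100 := d13_2 D54 D100 (iv D100) (iv D54) F118
theorem F356 : act 4 n100 = n100 := d14_2 F206 D100 (iv D100)
def n101 : Q := act 5 n54
theorem D101 : act 5 n54 = n101 := rfl
theorem F357 : act 0 n101 = n62 := d4_1 D101 (iv D62) (iv F204)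
theorem F358 : act 3 n101 = n55 := d19_1 D101 (iv D55) D54
theorem F359 : act 4 n101 = n101 := d22_1 D101 (iv D101) F206
def n102 : Q := act 6 n54
theorem D102 : act 6 n54 = n102 := rfl
theorem F360 : act 0 n102 = n63 := d5_1 D102 (iv D63) (iv F204)
theorem F361 : act 1 n102 = n102 := d11_1 D102 (iv D102) F205
theorem F362 : act 3 n102 = n56 := d20_1 D102 (iv D56) D54
theorem F363 : act 4 n102 = n102 := d23_1 D102 (iv D102) F206
def n103 : Q := act 7 n54
theorem D103 : act 7 n54 = n103 := rfl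
theorem F364 : act 0 n103 = n64 := d6_1 D103 (iv D64) (iv F204)
theorem F365 : act 1 n103 = n103 := d12_1 D103 (iv D103) F205
theorem F366 : act 3 n103 = n103 := d21_1 D103 (iv D103) (iv D54) F119 D54
theorem F367 : act 4 n103 = n103 := d24_1 D103 (iv D103) F206
def n104 : Q := act 1 n55
theorem D104 : act 1 n55 = n104 := rfl
theorem F368 : act 0 n104 = n104 := d0_1 D104 (iv D104) F207 F130 (iv F207)
theorem F369 : act 4 n104 = n57 := d9_2 (iv F209) D104 (iv D57)
theorem F370 : act 5 n104 = n104 := d10_2 D55 D104 (iv D104) (iv D55) F117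
theorem F371 : act 7 n104 = n104 := d12_2 F210 D104 (iv D104)
def n105 : Q := act 6 n55
theorem D105 : act 6 n55 = n105 := rfl
theorem F372 : act 0 n105 = n65 := d5_1 D105 (iv D65) (iv F207)
theorem F373 : act 2 n105 = n105 := d16_1 D105 (iv D105) F208
theorem F374 : act 4 n105 = n58 := d23_1 D105 (iv D58) (iv F209)
def n106 : Q := act 5 n56
theorem D106 : act 5 n56 = n106 := rfl
theorem F375 : act 0 n106 = n66 := d4_1 D106 (iv D66) (iv F211)
theorem F376 : act 2 n106 = n106 := d15_1 D106 (iv D106) F213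
theorem F377 : act 4 n106 = n59 := d22_1 D106 (iv D59) (iv F214)
def n107 : Q := act 7 n56
theorem D107 : act 7 n56 = n107 := rfl
theorem F378 : act 0 n107 = n67 := d6_1 D107 (iv D67) (iv F211)
theorem F379 : act 1 n107 = n107 := d12_1 D107 (iv D107) F212
theorem F380 : act 2 n107 = n107 := d17_1 D107 (iv D107) F213
theorem F381 : act 4 n107 = n60 := d24_1 D107 (iv D60) (iv F214)
theorem F382 : act 6 n107 = n107 := d27_1 D107 (iv D107) (iv D56) F119 D56
def n108 : Q := act 2 n57
theorem D108 : act 2 n57 = n108 := rfl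
theorem F383 : act 0 n108 = n108 := d1_1 D108 (iv D108) F215
theorem F384 : act 1 n108 = n108 := d7_1 D108 (iv D108) (iv D57) F121 D57
theorem F385 : act 5 n108 = n108 := d15_2 F217 D108 (iv D108)
theorem F386 : act 7 n108 = n108 := d17_2 F218 D108 (iv D108)
def n109 : Q := act 6 n57
theorem D109 : act 6 n57 = n109 := rfl
theorem F387 : act 0 n109 = n109 := d5_1 D109 (iv D109) F215
theorem F388 : act 1 n109 = n58 := d11_1 D109 (iv D58) D57
theorem F389 : act 3 n109 = n109 := d20_1 D109 (iv D109) F216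
def n110 : Q := act 5 n58
theorem D110 : act 5 n58 = n110 := rfl
theorem F390 : act 0 n110 = n68 := d4_1 D110 (iv D68) (iv F219)
theorem F391 : act 2 n110 = n110 := d15_1 D110 (iv D110) F220
theorem F392 : act 3 n110 = n110 := d19_1 D110 (iv D110) F221
theorem F393 : act 6 n110 = n59 := d25_2 D58 D110 (iv D59) (iv D31) D30
def n111 : Q := act 7 n58
theorem D111 : act 7 n58 = n111 := rfl
theorem F394 : act 0 n111 = n69 := d6_1 D111 (iv D69) (iv F219)
theorem F395 : act 2 n111 = n111 := d17_1 D111 (iv D111) F220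
theorem F396 : act 6 n111 = n111 := d27_1 D111 (iv D111) (iv D58) F123 D58
def n112 : Q := act 1 n59
theorem D112 : act 1 n59 = n112 := rfl
theorem F397 : act 3 n112 = n112 := d8_2 F224 D112 (iv D112)
theorem F398 : act 5 n112 = n112 := d10_2 D59 D112 (iv D112) (iv D59) F125
def n113 : Q := act 7 n59
theorem D113 : act 7 n59 = n113 := rfl
theorem F399 : act 0 n113 = n71 := d6_1 D113 (iv D71) (iv F222)
theorem F400 : act 2 n113 = n113 := d17_1 D113 (iv D113) F223
theorem F401 : act 5 n113 = n60 := d26_1 D113 (iv D60) D59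
def n114 : Q := act 3 n60
theorem D114 : act 3 n60 = n114 := rfl
theorem F402 : act 0 n114 = n72 := d2_1 D114 (iv D72) (iv F225)
theorem F403 : act 1 n114 = n114 := d8_1 D114 (iv D114) F226
theorem F404 : act 6 n114 = n114 := d20_2 F228 D114 (iv D114)
theorem F405 : act 7 n114 = n114 := d21_2 D60 D114 (iv D114) (iv D60) F127
def n115 : Q := act 5 n61
theorem D115 : act 5 n61 = n115 := rfl
theorem F406 : act 2 n115 = n62 := d15_1 D115 (iv D62) D61
def n116 : Q := act 6 n61
theorem D116 : act 6 n61 = n116 := rfl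
theorem F409 : act 1 n116 = n116 := d11_1 D116 (iv D116) F229
theorem F410 : act 2 n116 = n63 := d16_1 D116 (iv D63) D61
theorem F411 : act 3 n116 = n116 := d20_1 D116 (iv D116) F230
theorem F412 : act 4 n116 = n116 := d23_1 D116 (iv D116) F231
def n117 : Q := act 7 n61
theorem D117 : act 7 n61 = n117 := rfl
theorem F414 : act 2 n117 = n64 := d17_1 D117 (iv D64) D61
def n118 : Q := act 6 n62
theorem D118 : act 6 n62 = n118 := rfl
theorem F416 : act 1 n118 = n118 := d11_1 D118 (iv D118) F232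
theorem F417 : act 3 n118 = n65 := d20_1 D118 (iv D65) (iv F233)
theorem F418 : act 4 n118 = n118 := d23_1 D118 (iv D118) F234
def n119 : Q := act 7 n62
theorem D119 : act 7 n62 = n119 := rfl
theorem F422 : act 5 n119 = n64 := d26_1 D119 (iv D64) D62
def n120 : Q := act 5 n63
theorem D120 : act 5 n63 = n120 := rfl
theorem F423 : act 3 n120 = n66 := d19_1 D120 (iv D66) (iv F236)
theorem F424 : act 4 n120 = n120 := d22_1 D120 (iv D120) F237
def n121 : Q := act 7 n63
theorem D121 : act 7 n63 = n121 := rfl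
theorem F425 : act 1 n121 = n74 := d12_1 D121 (iv D74) (iv F235)
theorem F426 : act 4 n121 = n121 := d24_1 D121 (iv D121) F237
def n122 : Q := act 6 n64
theorem D122 : act 6 n64 = n122 := rfl
theorem F427 : act 1 n122 = n75 := d11_1 D122 (iv D75) (iv F238)
theorem F428 : act 3 n122 = n122 := d20_1 D122 (iv D122) F239
theorem F429 : act 4 n122 = n122 := d23_1 D122 (iv D122) F240
def n123 : Q := act 5 n65
theorem D123 : act 5 n65 = n123 := rfl
theorem F430 : act 2 n123 = n123 := d15_1 D123 (iv D123) F242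
theorem F431 : act 4 n123 = n68 := d22_1 D123 (iv D68) (iv F243)
theorem F432 : act 6 n123 = n66 := d25_2 D65 D123 (iv D66) (iv D34) D33
def n124 : Q := act 7 n65
theorem D124 : act 7 n65 = n124 := rfl
theorem F433 : act 1 n124 = n124 := d12_1 D124 (iv D124) F241
theorem F434 : act 2 n124 = n124 := d17_1 D124 (iv D124) F242
theorem F435 : act 4 n124 = n69 := d24_1 D124 (iv D69) (iv F243)
theorem F436 : act 6 n124 = n124 := d27_1 D124 (iv D124) (iv D65) F133 D65
def n125 : Q := act 1 n66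
theorem D125 : act 1 n66 = n125 := rfl
theorem F437 : act 4 n125 = n70 := d9_2 (iv F245) D125 (iv D70)
theorem F438 : act 5 n125 = n76 := d10_2 D66 D125 (iv D76) (iv D40) (iv F134)
def n126 : Q := act 7 n66
theorem D126 : act 7 n66 = n126 := rfl
theorem F439 : act 2 n126 = n126 := d17_1 D126 (iv D126) F244
theorem F440 : act 4 n126 = n71 := d24_1 D126 (iv D71) (iv F245)
theorem F441 : act 5 n126 = n67 := d26_1 D126 (iv D67) D66
def n127 : Q := act 3 n67
theorem D127 : act 3 n67 = n127 := rfl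
theorem F442 : act 1 n127 = n78 := d8_1 D127 (iv D78) (iv F246)
theorem F443 : act 6 n127 = n127 := d20_2 F249 D127 (iv D127)
def n128 : Q := act 1 n68
theorem D128 : act 1 n68 = n128 := rfl
theorem F444 : act 3 n128 = n128 := d8_2 F251 D128 (iv D128)
theorem F445 : act 5 n128 = n128 := d10_2 D68 D128 (iv D128) (iv D68) F137
theorem F446 : act 6 n128 = n70 := d11_2 (iv F252) D128 (iv D70)
def n129 : Q := act 7 n68
theorem D129 : act 7 n68 = n129 := rfl
theorem F447 : act 2 n129 = n129 := d17_1 D129 (iv D129) F250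
theorem F448 : act 5 n129 = n69 := d26_1 D129 (iv D69) D68
def n130 : Q := act 3 n69
theorem D130 : act 3 n69 = n130 := rfl
theorem F449 : act 1 n130 = n130 := d8_1 D130 (iv D130) F253
theorem F450 : act 6 n130 = n130 := d20_2 F255 D130 (iv D130)
theorem F451 : act 7 n130 = n130 := d21_2 D69 D130 (iv D130) (iv D69) F139
def n131 : Q := act 0 n70
theorem D131 : act 0 n70 = n131 := rfl
theorem F452 : act 3 n131 = n131 := d2_2 F256 D131 (iv D131)
theorem F453 : act 5 n131 = n79 := d4_2 (iv F257) D131 (iv D79)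
def n132 : Q := act 2 n70
theorem D132 : act 2 n70 = n132 := rfl
theorem F454 : act 1 n132 = n132 := d7_1 D132 (iv D132) (iv D70) F140 D70
theorem F455 : act 5 n132 = n80 := d15_2 (iv F257) D132 (iv D80)
def n133 : Q := act 7 n70
theorem D133 : act 7 n70 = n133 := rfl
theorem F456 : act 1 n133 = n71 := d12_1 D133 (iv D71) D70
theorem F457 : act 5 n133 = n81 := d26_1 D133 (iv D81) (iv F257)
def n134 : Q := act 3 n71
theorem D134 : act 3 n71 = n134 := rfl
theorem F458 : act 5 n134 = n72 := d19_2 (iv F259) D134 (iv D72)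
theorem F459 : act 7 n134 = n134 := d21_2 D71 D134 (iv D134) (iv D71) F141
def n135 : Q := act 6 n71
theorem D135 : act 6 n71 = n135 := rfl
theorem F460 : act 2 n135 = n135 := d16_1 D135 (iv D135) F258
theorem F461 : act 5 n135 = n135 := d25_1 D135 (iv D135) F259 F144 (iv F259)
def n136 : Q := act 2 n72
theorem D136 : act 2 n72 = n136 := rfl
theorem F462 : act 1 n136 = n136 := d7_1 D136 (iv D136) F260 F168 (iv F260)
theorem F463 : act 3 n136 = n136 := d13_2 D72 D136 (iv D136) (iv D72) F143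
theorem F464 : act 6 n136 = n136 := d16_2 F261 D136 (iv D136)
theorem F465 : act 7 n136 = n136 := d17_2 F262 D136 (iv D136)
def n137 : Q := act 4 n72
theorem D137 : act 4 n72 = n137 := rfl
theorem F466 : act 1 n137 = n84 := d9_1 D137 (iv D84) (iv F260)
theorem F467 : act 6 n137 = n137 := d23_2 F261 D137 (iv D137)
theorem F468 : act 7 n137 = n137 := d24_2 F262 D137 (iv D137)
def n138 : Q := act 1 n73
theorem D138 : act 1 n73 = n138 := rfl
theorem F469 : act 3 n138 = n76 := d8_2 (iv F265) D138 (iv D76)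
theorem F470 : act 4 n138 = n138 := d9_2 F266 D138 (iv D138)
theorem F471 : act 6 n138 = n138 := d11_2 F267 D138 (iv D138)
def n139 : Q := act 7 n73
theorem D139 : act 7 n73 = n139 := rfl
theorem F472 : act 0 n139 = n139 := d6_1 D139 (iv D139) F263
theorem F473 : act 2 n139 = n139 := d17_1 D139 (iv D139) F264
theorem F474 : act 4 n139 = n139 := d24_1 D139 (iv D139) F266
theorem F475 : act 5 n139 = n74 := d26_1 D139 (iv D74) D73
def n140 : Q := act 3 n74
theorem D140 : act 3 n74 = n140 := rfl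
theorem F476 : act 0 n140 = n140 := d2_1 D140 (iv D140) F268
theorem F477 : act 7 n140 = n78 := d21_2 D74 D140 (iv D78) (iv D41) (iv F147)
def n141 : Q := act 6 n74
theorem D141 : act 6 n74 = n141 := rfl
theorem F478 : act 0 n141 = n141 := d5_1 D141 (iv D141) F268
theorem F479 : act 2 n141 = n141 := d16_1 D141 (iv D141) F269
theorem F480 : act 4 n141 = n141 := d23_1 D141 (iv D141) F270
theorem F481 : act 7 n141 = n75 := d27_2 D74 D141 (iv D75) (iv D39) D38
def n142 : Q := act 5 n75
theorem D142 : act 5 n75 = n142 := rfl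
theorem F482 : act 0 n142 = n142 := d4_1 D142 (iv D142) F271
theorem F483 : act 2 n142 = n142 := d15_1 D142 (iv D142) F272
theorem F484 : act 3 n142 = n142 := d19_1 D142 (iv D142) F273
theorem F485 : act 4 n142 = n142 := d22_1 D142 (iv D142) F274
theorem F486 : act 6 n142 = n142 := d25_2 D75 D142 (iv D142) (iv D75) F153
def n143 : Q := act 0 n76
theorem D143 : act 0 n76 = n143 := rfl
theorem F487 : act 1 n143 = n143 := d0_2 D76 D143 (iv D143) (iv D76) F154
theorem F488 : act 4 n143 = n79 := d3_2 (iv F275) D143 (iv D79)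
theorem F489 : act 6 n143 = n143 := d5_2 F276 D143 (iv D143)
def n144 : Q := act 2 n76
theorem D144 : act 2 n76 = n144 := rfl
theorem F490 : act 1 n144 = n86 := d7_1 D144 (iv D86) (iv D45) (iv F155) D76
theorem F491 : act 4 n144 = n80 := d14_2 (iv F275) D144 (iv D80)
theorem F492 : act 6 n144 = n144 := d16_2 F276 D144 (iv D144)
def n145 : Q := act 7 n76
theorem D145 : act 7 n76 = n145 := rfl
theorem F493 : act 1 n145 = n77 := d12_1 D145 (iv D77) D76
theorem F494 : act 4 n145 = n81 := d24_1 D145 (iv D81) (iv F275)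
def n146 : Q := act 3 n77
theorem D146 : act 3 n77 = n146 := rfl
theorem F495 : act 0 n146 = n146 := d2_1 D146 (iv D146) F277
theorem F496 : act 5 n146 = n78 := d19_2 (iv F280) D146 (iv D78)
def n147 : Q := act 6 n77
theorem D147 : act 6 n77 = n147 := rfl
theorem F497 : act 0 n147 = n147 := d5_1 D147 (iv D147) F277
theorem F498 : act 2 n147 = n89 := d16_1 D147 (iv D89) (iv F278)
theorem F499 : act 4 n147 = n83 := d23_1 D147 (iv D83) (iv F279)
theorem F500 : act 5 n147 = n147 := d25_1 D147 (iv D147) F280 F161 (iv F280)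
theorem F501 : act 7 n147 = n147 := d27_2 D77 D147 (iv D147) (iv D77) F157
def n148 : Q := act 2 n78
theorem D148 : act 2 n78 = n148 := rfl
theorem F502 : act 0 n148 = n148 := d1_1 D148 (iv D148) F281
theorem F503 : act 3 n148 = n90 := d13_2 D78 D148 (iv D90) (iv D47) (iv F159)
theorem F504 : act 6 n148 = n148 := d16_2 F282 D148 (iv D148)
def n149 : Q := act 4 n78
theorem D149 : act 4 n78 = n149 := rfl
theorem F505 : act 0 n149 = n149 := d3_1 D149 (iv D149) F281
theorem F506 : act 3 n149 = n84 := d18_1 D149 (iv D84) (iv D44) (iv F160) D78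
theorem F507 : act 6 n149 = n149 := d23_2 F282 D149 (iv D149)
def n150 : Q := act 2 n79
theorem D150 : act 2 n79 = n150 := rfl
theorem F508 : act 0 n150 = n80 := d1_1 D150 (iv D80) D79
theorem F509 : act 6 n150 = n150 := d16_2 F285 D150 (iv D150)
def n151 : Q := act 7 n79
theorem D151 : act 7 n79 = n151 := rfl
theorem F510 : act 0 n151 = n81 := d6_1 D151 (iv D81) D79
theorem F511 : act 1 n151 = n151 := d12_1 D151 (iv D151) F283
def n152 : Q := act 3 n80
theorem D152 : act 3 n80 = n152 := rfl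
theorem F512 : act 1 n152 = n93 := d8_1 D152 (iv D93) (iv F286)
theorem F513 : act 2 n152 = n152 := d13_1 D152 (iv D152) (iv D80) F162 D80
theorem F514 : act 6 n152 = n152 := d20_2 F287 D152 (iv D152)
def n153 : Q := act 7 n80
theorem D153 : act 7 n80 = n153 := rfl
theorem F515 : act 1 n153 = n94 := d12_1 D153 (iv D94) (iv F286)
theorem F516 : act 2 n153 = n81 := d17_1 D153 (iv D81) D80
def n154 : Q := act 3 n81
theorem D154 : act 3 n81 = n154 := rfl
theorem F517 : act 1 n154 = n82 := d8_1 D154 (iv D82) (iv F288)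
theorem F518 : act 7 n154 = n154 := d21_2 D81 D154 (iv D154) (iv D81) F162
def n155 : Q := act 6 n81
theorem D155 : act 6 n81 = n155 := rfl
theorem F519 : act 1 n155 = n83 := d11_1 D155 (iv D83) (iv F288)
theorem F520 : act 7 n155 = n155 := d27_2 D81 D155 (iv D155) (iv D81) F163
def n156 : Q := act 4 n82
theorem D156 : act 4 n82 = n156 := rfl
theorem F521 : act 0 n156 = n156 := d3_1 D156 (iv D156) F289
theorem F522 : act 2 n156 = n156 := d14_1 D156 (iv D156) F290
theorem F523 : act 5 n156 = n84 := d22_2 (iv F291) D156 (iv D84)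
theorem F524 : act 7 n156 = n156 := d24_2 F292 D156 (iv D156)
def n157 : Q := act 6 n82
theorem D157 : act 6 n82 = n157 := rfl
theorem F525 : act 0 n157 = n157 := d5_1 D157 (iv D157) F289
theorem F526 : act 2 n157 = n157 := d16_1 D157 (iv D157) F290
theorem F527 : act 3 n157 = n83 := d20_1 D157 (iv D83) D82
theorem F528 : act 5 n157 = n157 := d25_1 D157 (iv D157) F291 F169 (iv F291)
def n158 : Q := act 2 n85
theorem D158 : act 2 n85 = n158 := rfl
theorem F529 : act 0 n158 = n86 := d1_1 D158 (iv D86) D85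
theorem F530 : act 4 n158 = n91 := d14_2 (iv F303) D158 (iv D91)
theorem F531 : act 5 n158 = n158 := d15_2 F304 D158 (iv D158)
theorem F532 : act 6 n158 = n158 := d16_2 F305 D158 (iv D158)
def n159 : Q := act 7 n85
theorem D159 : act 7 n85 = n159 := rfl
theorem F533 : act 0 n159 = n87 := d6_1 D159 (iv D87) D85
theorem F534 : act 1 n159 = n159 := d12_1 D159 (iv D159) F301
theorem F535 : act 4 n159 = n92 := d24_1 D159 (iv D92) (iv F303)
theorem F536 : act 5 n159 = n159 := d26_1 D159 (iv D159) F304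
def n160 : Q := act 3 n86
theorem D160 : act 3 n86 = n160 := rfl
theorem F537 : act 2 n160 = n160 := d13_1 D160 (iv D160) (iv D86) F171 D86
theorem F538 : act 5 n160 = n160 := d19_2 F307 D160 (iv D160)
theorem F539 : act 6 n160 = n160 := d20_2 F308 D160 (iv D160)
def n161 : Q := act 7 n86
theorem D161 : act 7 n86 = n161 := rfl
theorem F540 : act 2 n161 = n87 := d17_1 D161 (iv D87) D86
theorem F541 : act 4 n161 = n94 := d24_1 D161 (iv D94) (iv F306)
theorem F542 : act 5 n161 = n161 := d26_1 D161 (iv D161) F307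
def n162 : Q := act 3 n87
theorem D162 : act 3 n87 = n162 := rfl
theorem F543 : act 1 n162 = n88 := d8_1 D162 (iv D88) (iv F309)
theorem F544 : act 4 n162 = n162 := d18_2 (iv F310) D162 (iv D162) F310 F190
theorem F545 : act 5 n162 = n162 := d19_2 F311 D162 (iv D162)
theorem F546 : act 7 n162 = n162 := d21_2 D87 D162 (iv D162) (iv D87) F171
def n163 : Q := act 6 n87
theorem D163 : act 6 n87 = n163 := rfl
theorem F547 : act 1 n163 = n89 := d11_1 D163 (iv D89) (iv F309)
theorem F548 : act 4 n163 = n95 := d23_1 D163 (iv D95) (iv F310)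
theorem F549 : act 7 n163 = n163 := d27_2 D87 D163 (iv D163) (iv D87) F174
def n164 : Q := act 2 n88
theorem D164 : act 2 n88 = n164 := rfl
theorem F550 : act 0 n164 = n164 := d1_1 D164 (iv D164) F312
theorem F551 : act 4 n164 = n164 := d14_2 F313 D164 (iv D164)
theorem F552 : act 5 n164 = n90 := d15_2 (iv F314) D164 (iv D90)
theorem F553 : act 7 n164 = n164 := d17_2 F315 D164 (iv D164)
def n165 : Q := act 6 n88
theorem D165 : act 6 n88 = n165 := rfl
theorem F554 : act 0 n165 = n165 := d5_1 D165 (iv D165) F312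
theorem F555 : act 3 n165 = n89 := d20_1 D165 (iv D89) D88
theorem F556 : act 4 n165 = n165 := d23_1 D165 (iv D165) F313
theorem F557 : act 5 n165 = n165 := d25_1 D165 (iv D165) F314 F181 (iv F314)
def n166 : Q := act 1 n90
theorem D166 : act 1 n90 = n166 := rfl
theorem F558 : act 2 n166 = n166 := d7_2 D90 D166 (iv D166) (iv D90) F179
theorem F559 : act 4 n166 = n166 := d9_2 F321 D166 (iv D166)
theorem F560 : act 6 n166 = n166 := d11_2 F322 D166 (iv D166)
theorem F561 : act 7 n166 = n166 := d12_2 F323 D166 (iv D166)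
def n167 : Q := act 1 n91
theorem D167 : act 1 n91 = n167 := rfl
theorem F562 : act 2 n167 = n167 := d7_2 D91 D167 (iv D167) (iv D91) F183
theorem F563 : act 6 n167 = n167 := d11_2 F326 D167 (iv D167)
def n168 : Q := act 3 n91
theorem D168 : act 3 n91 = n168 := rfl
theorem F564 : act 0 n168 = n93 := d2_1 D168 (iv D93) (iv F324)
theorem F565 : act 2 n168 = n97 := d13_1 D168 (iv D97) (iv D52) (iv F184) D91
theorem F566 : act 5 n168 = n168 := d19_2 F325 D168 (iv D168)
theorem F567 : act 6 n168 = n168 := d20_2 F326 D168 (iv D168)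
def n169 : Q := act 7 n91
theorem D169 : act 7 n91 = n169 := rfl
theorem F568 : act 0 n169 = n94 := d6_1 D169 (iv D94) (iv F324)
theorem F569 : act 2 n169 = n92 := d17_1 D169 (iv D92) D91
theorem F570 : act 5 n169 = n169 := d26_1 D169 (iv D169) F325
def n170 : Q := act 6 n92
theorem D170 : act 6 n92 = n170 := rfl
theorem F571 : act 0 n170 = n95 := d5_1 D170 (iv D95) (iv F327)
theorem F572 : act 1 n170 = n170 := d11_1 D170 (iv D170) F328
theorem F573 : act 3 n170 = n170 := d20_1 D170 (iv D170) F329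
theorem F574 : act 7 n170 = n170 := d27_2 D92 D170 (iv D170) (iv D92) F186
def n171 : Q := act 4 n93
theorem D171 : act 4 n93 = n171 := rfl
theorem F575 : act 2 n171 = n98 := d14_1 D171 (iv D98) (iv F331)
theorem F576 : act 5 n171 = n171 := d22_2 F332 D171 (iv D171)
theorem F577 : act 6 n171 = n171 := d23_2 F333 D171 (iv D171)
def n172 : Q := act 7 n93
theorem D172 : act 7 n93 = n172 := rfl
theorem F578 : act 2 n172 = n99 := d17_1 D172 (iv D99) (iv F331)
theorem F579 : act 5 n172 = n172 := d26_1 D172 (iv D172) F332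
def n173 : Q := act 3 n94
theorem D173 : act 3 n94 = n173 := rfl
def n174 : Q := act 6 n94
theorem D174 : act 6 n94 = n174 := rfl
theorem F582 : act 2 n174 = n95 := d16_1 D174 (iv D95) (iv F334)
def n175 : Q := act 5 n95
theorem D175 : act 5 n95 = n175 := rfl
theorem F584 : act 1 n175 = n175 := d10_1 D175 (iv D175) F336 F194 (iv F336)
def n176 : Q := act 3 n96
theorem D176 : act 3 n96 = n176 := rfl
theorem F588 : act 0 n176 = n176 := d2_1 D176 (iv D176) F339
theorem F589 : act 1 n176 = n97 := d8_1 D176 (iv D97) D96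
theorem F590 : act 6 n176 = n176 := d20_2 F342 D176 (iv D176)
def n177 : Q := act 5 n96
theorem D177 : act 5 n96 = n177 := rfl
theorem F591 : act 0 n177 = n177 := d4_1 D177 (iv D177) F339
theorem F592 : act 1 n177 = n177 := d10_1 D177 (iv D177) (iv D96) F198 D96
theorem F593 : act 2 n177 = n177 := d15_1 D177 (iv D177) F340
theorem F594 : act 4 n177 = n177 := d22_1 D177 (iv D177) F341
theorem F595 : act 7 n177 = n177 := d26_2 F343 D177 (iv D177)
def n178 : Q := act 4 n97
theorem D178 : act 4 n97 = n178 := rfl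
theorem F596 : act 0 n178 = n98 := d3_1 D178 (iv D98) (iv F344)
theorem F597 : act 3 n178 = n178 := d18_1 D178 (iv D178) (iv D97) F197 D97
theorem F598 : act 5 n178 = n178 := d22_2 F345 D178 (iv D178)
theorem F599 : act 6 n178 = n178 := d23_2 F346 D178 (iv D178)
def n179 : Q := act 7 n97
theorem D179 : act 7 n97 = n179 := rfl
theorem F600 : act 0 n179 = n99 := d6_1 D179 (iv D99) (iv F344)
theorem F601 : act 3 n179 = n179 := d21_1 D179 (iv D179) (iv D97) F200 D97
theorem F602 : act 5 n179 = n179 := d26_1 D179 (iv D179) F345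
def n180 : Q := act 7 n98
theorem D180 : act 7 n98 = n180 := rfl
theorem F603 : act 1 n180 = n180 := d12_1 D180 (iv D180) F347
theorem F604 : act 4 n180 = n99 := d24_1 D180 (iv D99) D98
theorem F605 : act 5 n180 = n180 := d26_1 D180 (iv D180) F349
def n181 : Q := act 6 n99
theorem D181 : act 6 n99 = n181 := rfl
theorem F606 : act 1 n181 = n181 := d11_1 D181 (iv D181) F351
theorem F607 : act 3 n181 = n181 := d20_1 D181 (iv D181) F352
theorem F608 : act 7 n181 = n181 := d27_2 D99 D181 (iv D181) (iv D99) F203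
def n182 : Q := act 1 n100
theorem D182 : act 1 n100 = n182 := rfl
theorem F609 : act 0 n182 = n182 := d0_1 D182 (iv D182) F354 F229 (iv F354)
theorem F610 : act 2 n182 = n182 := d7_2 D100 D182 (iv D182) (iv D100) F205
theorem F611 : act 3 n182 = n182 := d8_2 F355 D182 (iv D182)
theorem F612 : act 4 n182 = n182 := d9_2 F356 D182 (iv D182)
def n183 : Q := act 5 n100
theorem D183 : act 5 n100 = n183 := rfl
theorem F614 : act 2 n183 = n101 := d15_1 D183 (iv D101) D100
def n184 : Q := act 6 n100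
theorem D184 : act 6 n100 = n184 := rfl
theorem F617 : act 0 n184 = n116 := d5_1 D184 (iv D116) (iv F354)
theorem F618 : act 2 n184 = n102 := d16_1 D184 (iv D102) D100
theorem F619 : act 3 n184 = n184 := d20_1 D184 (iv D184) F355
theorem F620 : act 4 n184 = n184 := d23_1 D184 (iv D184) F356
def n185 : Q := act 7 n100
theorem D185 : act 7 n100 = n185 := rfl
theorem F621 : act 0 n185 = n117 := d6_1 D185 (iv D117) (iv F354)
theorem F622 : act 2 n185 = n103 := d17_1 D185 (iv D103) D100
def n186 : Q := act 1 n101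
theorem D186 : act 1 n101 = n186 := rfl
theorem F624 : act 0 n186 = n186 := d0_1 D186 (iv D186) F357 F232 (iv F357)
theorem F625 : act 3 n186 = n104 := d8_2 (iv F358) D186 (iv D104)
theorem F626 : act 4 n186 = n186 := d9_2 F359 D186 (iv D186)
theorem F627 : act 5 n186 = n186 := d10_2 D101 D186 (iv D186) (iv D101) F205
def n187 : Q := act 6 n101
theorem D187 : act 6 n101 = n187 := rfl
theorem F628 : act 0 n187 = n118 := d5_1 D187 (iv D118) (iv F357)
theorem F629 : act 3 n187 = n105 := d20_1 D187 (iv D105) (iv F358)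
theorem F630 : act 4 n187 = n187 := d23_1 D187 (iv D187) F359
def n188 : Q := act 7 n101
theorem D188 : act 7 n101 = n188 := rfl
theorem F634 : act 5 n188 = n103 := d26_1 D188 (iv D103) D101
def n189 : Q := act 5 n102
theorem D189 : act 5 n102 = n189 := rfl
theorem F635 : act 0 n189 = n120 := d4_1 D189 (iv D120) (iv F360)
theorem F636 : act 3 n189 = n106 := d19_1 D189 (iv D106) (iv F362)
theorem F637 : act 4 n189 = n189 := d22_1 D189 (iv D189) F363
def n190 : Q := act 7 n102
theorem D190 : act 7 n102 = n190 := rfl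
theorem F638 : act 0 n190 = n121 := d6_1 D190 (iv D121) (iv F360)
theorem F639 : act 1 n190 = n190 := d12_1 D190 (iv D190) F361
theorem F640 : act 4 n190 = n190 := d24_1 D190 (iv D190) F363
def n191 : Q := act 6 n103
theorem D191 : act 6 n103 = n191 := rfl
theorem F641 : act 0 n191 = n122 := d5_1 D191 (iv D122) (iv F364)
theorem F642 : act 1 n191 = n191 := d11_1 D191 (iv D191) F365
theorem F643 : act 3 n191 = n191 := d20_1 D191 (iv D191) F366
theorem F644 : act 4 n191 = n191 := d23_1 D191 (iv D191) F367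
def n192 : Q := act 2 n104
theorem D192 : act 2 n104 = n192 := rfl
theorem F645 : act 0 n192 = n192 := d1_1 D192 (iv D192) F368
theorem F646 : act 1 n192 = n192 := d7_1 D192 (iv D192) (iv D104) F208 D104
theorem F647 : act 4 n192 = n108 := d14_2 (iv F369) D192 (iv D108)
theorem F648 : act 5 n192 = n192 := d15_2 F370 D192 (iv D192)
theorem F649 : act 7 n192 = n192 := d17_2 F371 D192 (iv D192)
def n193 : Q := act 6 n104
theorem D193 : act 6 n104 = n193 := rfl
theorem F650 : act 0 n193 = n193 := d5_1 D193 (iv D193) F368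
theorem F651 : act 1 n193 = n105 := d11_1 D193 (iv D105) D104
theorem F652 : act 4 n193 = n109 := d23_1 D193 (iv D109) (iv F369)
def n194 : Q := act 5 n105
theorem D194 : act 5 n105 = n194 := rfl
theorem F653 : act 0 n194 = n123 := d4_1 D194 (iv D123) (iv F372)
theorem F654 : act 2 n194 = n194 := d15_1 D194 (iv D194) F373
theorem F655 : act 4 n194 = n110 := d22_1 D194 (iv D110) (iv F374)
theorem F656 : act 6 n194 = n106 := d25_2 D105 D194 (iv D106) (iv D56) D55
def n195 : Q := act 7 n105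
theorem D195 : act 7 n105 = n195 := rfl
theorem F657 : act 0 n195 = n124 := d6_1 D195 (iv D124) (iv F372)
theorem F658 : act 2 n195 = n195 := d17_1 D195 (iv D195) F373
theorem F659 : act 4 n195 = n111 := d24_1 D195 (iv D111) (iv F374)
theorem F660 : act 6 n195 = n195 := d27_1 D195 (iv D195) (iv D105) F210 D105
def n196 : Q := act 1 n106
theorem D196 : act 1 n106 = n196 := rfl
theorem F661 : act 4 n196 = n112 := d9_2 (iv F377) D196 (iv D112)
theorem F662 : act 5 n196 = n196 := d10_2 D106 D196 (iv D196) (iv D106) F212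
def n197 : Q := act 7 n106
theorem D197 : act 7 n106 = n197 := rfl
theorem F663 : act 0 n197 = n126 := d6_1 D197 (iv D126) (iv F375)
theorem F664 : act 2 n197 = n197 := d17_1 D197 (iv D197) F376
theorem F665 : act 4 n197 = n113 := d24_1 D197 (iv D113) (iv F377)
theorem F666 : act 5 n197 = n107 := d26_1 D197 (iv D107) D106
def n198 : Q := act 3 n107
theorem D198 : act 3 n107 = n198 := rfl
theorem F667 : act 0 n198 = n127 := d2_1 D198 (iv D127) (iv F378)
theorem F668 : act 1 n198 = n198 := d8_1 D198 (iv D198) F379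
theorem F669 : act 6 n198 = n198 := d20_2 F382 D198 (iv D198)
def n199 : Q := act 3 n108
theorem D199 : act 3 n108 = n199 := rfl
theorem F670 : act 0 n199 = n199 := d2_1 D199 (iv D199) F383
theorem F671 : act 1 n199 = n199 := d8_1 D199 (iv D199) F384
theorem F672 : act 2 n199 = n199 := d13_1 D199 (iv D199) (iv D108) F216 D108
theorem F673 : act 5 n199 = n199 := d19_2 F385 D199 (iv D199)
def n200 : Q := act 6 n108
theorem D200 : act 6 n108 = n200 := rfl
theorem F674 : act 0 n200 = n200 := d5_1 D200 (iv D200) F383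
theorem F675 : act 1 n200 = n200 := d11_1 D200 (iv D200) F384
theorem F676 : act 2 n200 = n109 := d16_1 D200 (iv D109) D108
def n201 : Q := act 5 n109
theorem D201 : act 5 n109 = n201 := rfl
theorem F677 : act 0 n201 = n201 := d4_1 D201 (iv D201) F387
theorem F678 : act 3 n201 = n201 := d19_1 D201 (iv D201) F389
theorem F679 : act 6 n201 = n201 := d25_2 D109 D201 (iv D201) (iv D109) F217
def n202 : Q := act 7 n109
theorem D202 : act 7 n109 = n202 := rfl
theorem F680 : act 0 n202 = n202 := d6_1 D202 (iv D202) F387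
theorem F681 : act 1 n202 = n111 := d12_1 D202 (iv D111) (iv F388)
theorem F682 : act 6 n202 = n202 := d27_1 D202 (iv D202) (iv D109) F218 D109
def n203 : Q := act 1 n110
theorem D203 : act 1 n110 = n203 := rfl
theorem F683 : act 3 n203 = n203 := d8_2 F392 D203 (iv D203)
theorem F684 : act 6 n203 = n112 := d11_2 (iv F393) D203 (iv D112)
def n204 : Q := act 7 n110
theorem D204 : act 7 n110 = n204 := rfl
theorem F685 : act 0 n204 = n129 := d6_1 D204 (iv D129) (iv F390)
theorem F686 : act 2 n204 = n204 := d17_1 D204 (iv D204) F391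
theorem F687 : act 5 n204 = n111 := d26_1 D204 (iv D111) D110
def n205 : Q := act 3 n111
theorem D205 : act 3 n111 = n205 := rfl
theorem F688 : act 0 n205 = n130 := d2_1 D205 (iv D130) (iv F394)
theorem F689 : act 6 n205 = n205 := d20_2 F396 D205 (iv D205)
theorem F690 : act 7 n205 = n205 := d21_2 D111 D205 (iv D205) (iv D111) F221
def n206 : Q := act 0 n112
theorem D206 : act 0 n112 = n206 := rfl
theorem F691 : act 1 n206 = n131 := d0_2 D112 D206 (iv D131) (iv D70) (iv F222)
theorem F692 : act 3 n206 = n206 := d2_2 F397 D206 (iv D206)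
theorem F693 : act 5 n206 = n206 := d4_2 F398 D206 (iv D206)
def n207 : Q := act 2 n112
theorem D207 : act 2 n112 = n207 := rfl
theorem F694 : act 1 n207 = n207 := d7_1 D207 (iv D207) (iv D112) F223 D112
theorem F695 : act 5 n207 = n207 := d15_2 F398 D207 (iv D207)
def n208 : Q := act 7 n112
theorem D208 : act 7 n112 = n208 := rfl
theorem F696 : act 1 n208 = n113 := d12_1 D208 (iv D113) D112
theorem F697 : act 5 n208 = n208 := d26_1 D208 (iv D208) F398
def n209 : Q := act 3 n113
theorem D209 : act 3 n113 = n209 := rfl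
theorem F698 : act 0 n209 = n134 := d2_1 D209 (iv D134) (iv F399)
theorem F699 : act 5 n209 = n114 := d19_2 (iv F401) D209 (iv D114)
theorem F700 : act 7 n209 = n209 := d21_2 D113 D209 (iv D209) (iv D113) F224
def n210 : Q := act 6 n113
theorem D210 : act 6 n113 = n210 := rfl
theorem F701 : act 0 n210 = n135 := d5_1 D210 (iv D135) (iv F399)
theorem F702 : act 2 n210 = n210 := d16_1 D210 (iv D210) F400
theorem F703 : act 5 n210 = n210 := d25_1 D210 (iv D210) F401 F228 (iv F401)
def n211 : Q := act 2 n114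
theorem D211 : act 2 n114 = n211 := rfl
theorem F704 : act 0 n211 = n136 := d1_1 D211 (iv D136) (iv F402)
theorem F705 : act 3 n211 = n211 := d13_2 D114 D211 (iv D211) (iv D114) F227
theorem F706 : act 6 n211 = n211 := d16_2 F404 D211 (iv D211)
theorem F707 : act 7 n211 = n211 := d17_2 F405 D211 (iv D211)
def n212 : Q := act 4 n114
theorem D212 : act 4 n114 = n212 := rfl
theorem F708 : act 0 n212 = n137 := d3_1 D212 (iv D137) (iv F402)
theorem F709 : act 1 n212 = n212 := d9_1 D212 (iv D212) F403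
theorem F710 : act 6 n212 = n212 := d23_2 F404 D212 (iv D212)
theorem F711 : act 7 n212 = n212 := d24_2 F405 D212 (iv D212)
def n214 : Q := act 6 n115
theorem D214 : act 6 n115 = n214 := rfl
theorem F716 : act 2 n214 = n118 := d16_1 D214 (iv D118) (iv F406)
def n216 : Q := act 5 n116
theorem D216 : act 5 n116 = n216 := rfl
theorem F722 : act 2 n216 = n120 := d15_1 D216 (iv D120) (iv F410)
theorem F723 : act 3 n216 = n216 := d19_1 D216 (iv D216) F411
theorem F724 : act 4 n216 = n216 := d22_1 D216 (iv D216) F412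
def n217 : Q := act 7 n116
theorem D217 : act 7 n116 = n217 := rfl
theorem F725 : act 1 n217 = n217 := d12_1 D217 (iv D217) F409
theorem F726 : act 2 n217 = n121 := d17_1 D217 (iv D121) (iv F410)
theorem F727 : act 4 n217 = n217 := d24_1 D217 (iv D217) F412
def n218 : Q := act 3 n117
theorem D218 : act 3 n117 = n218 := rfl
def n219 : Q := act 6 n117
theorem D219 : act 6 n117 = n219 := rfl
theorem F732 : act 2 n219 = n122 := d16_1 D219 (iv D122) (iv F414)
def n220 : Q := act 5 n118
theorem D220 : act 5 n118 = n220 := rfl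
theorem F734 : act 3 n220 = n123 := d19_1 D220 (iv D123) (iv F417)
theorem F735 : act 4 n220 = n220 := d22_1 D220 (iv D220) F418
theorem F736 : act 6 n220 = n120 := d25_2 D118 D220 (iv D120) (iv D63) D62
def n221 : Q := act 7 n118
theorem D221 : act 7 n118 = n221 := rfl
theorem F737 : act 1 n221 = n221 := d12_1 D221 (iv D221) F416
theorem F738 : act 4 n221 = n221 := d24_1 D221 (iv D221) F418
def n222 : Q := act 6 n119
theorem D222 : act 6 n119 = n222 := rfl
def n223 : Q := act 1 n120
theorem D223 : act 1 n120 = n223 := rfl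
theorem F742 : act 3 n223 = n125 := d8_2 (iv F423) D223 (iv D125)
theorem F743 : act 4 n223 = n223 := d9_2 F424 D223 (iv D223)
theorem F744 : act 5 n223 = n138 := d10_2 D120 D223 (iv D138) (iv D73) (iv F235)
def n224 : Q := act 7 n120
theorem D224 : act 7 n120 = n224 := rfl
theorem F745 : act 4 n224 = n224 := d24_1 D224 (iv D224) F424
theorem F746 : act 5 n224 = n121 := d26_1 D224 (iv D121) D120
def n225 : Q := act 3 n121
theorem D225 : act 3 n121 = n225 := rfl
theorem F747 : act 1 n225 = n140 := d8_1 D225 (iv D140) (iv F425)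
theorem F748 : act 7 n225 = n127 := d21_2 D121 D225 (iv D127) (iv D67) (iv F236)
def n226 : Q := act 6 n121
theorem D226 : act 6 n121 = n226 := rfl
theorem F749 : act 1 n226 = n141 := d11_1 D226 (iv D141) (iv F425)
theorem F750 : act 4 n226 = n226 := d23_1 D226 (iv D226) F426
theorem F751 : act 7 n226 = n122 := d27_2 D121 D226 (iv D122) (iv D64) D63
def n227 : Q := act 5 n122
theorem D227 : act 5 n122 = n227 := rfl
theorem F752 : act 3 n227 = n227 := d19_1 D227 (iv D227) F428
theorem F753 : act 4 n227 = n227 := d22_1 D227 (iv D227) F429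
def n228 : Q := act 1 n123
theorem D228 : act 1 n123 = n228 := rfl
theorem F754 : act 4 n228 = n128 := d9_2 (iv F431) D228 (iv D128)
theorem F755 : act 5 n228 = n228 := d10_2 D123 D228 (iv D228) (iv D123) F241
theorem F756 : act 6 n228 = n125 := d11_2 (iv F432) D228 (iv D125)
def n229 : Q := act 7 n123
theorem D229 : act 7 n123 = n229 := rfl
theorem F757 : act 2 n229 = n229 := d17_1 D229 (iv D229) F430
theorem F758 : act 4 n229 = n129 := d24_1 D229 (iv D129) (iv F431)
theorem F759 : act 5 n229 = n124 := d26_1 D229 (iv D124) D123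
def n230 : Q := act 3 n124
theorem D230 : act 3 n124 = n230 := rfl
theorem F760 : act 1 n230 = n230 := d8_1 D230 (iv D230) F433
theorem F761 : act 6 n230 = n230 := d20_2 F436 D230 (iv D230)
def n231 : Q := act 0 n125
theorem D231 : act 0 n125 = n231 := rfl
theorem F762 : act 4 n231 = n131 := d3_2 (iv F437) D231 (iv D131)
theorem F763 : act 5 n231 = n143 := d4_2 (iv F438) D231 (iv D143)
def n232 : Q := act 2 n125
theorem D232 : act 2 n125 = n232 := rfl
theorem F764 : act 1 n232 = n232 := d7_1 D232 (iv D232) (iv D125) F244 D125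
theorem F765 : act 4 n232 = n132 := d14_2 (iv F437) D232 (iv D132)
theorem F766 : act 5 n232 = n144 := d15_2 (iv F438) D232 (iv D144)
def n233 : Q := act 7 n125
theorem D233 : act 7 n125 = n233 := rfl
theorem F767 : act 1 n233 = n126 := d12_1 D233 (iv D126) D125
theorem F768 : act 4 n233 = n133 := d24_1 D233 (iv D133) (iv F437)
theorem F769 : act 5 n233 = n145 := d26_1 D233 (iv D145) (iv F438)
def n234 : Q := act 3 n126
theorem D234 : act 3 n126 = n234 := rfl
theorem F770 : act 5 n234 = n127 := d19_2 (iv F441) D234 (iv D127)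
def n235 : Q := act 6 n126
theorem D235 : act 6 n126 = n235 := rfl
theorem F771 : act 2 n235 = n235 := d16_1 D235 (iv D235) F439
theorem F772 : act 4 n235 = n135 := d23_1 D235 (iv D135) (iv F440)
theorem F773 : act 5 n235 = n235 := d25_1 D235 (iv D235) F441 F249 (iv F441)
def n236 : Q := act 2 n127
theorem D236 : act 2 n127 = n236 := rfl
theorem F774 : act 3 n236 = n236 := d13_2 D127 D236 (iv D236) (iv D127) F247
theorem F775 : act 6 n236 = n236 := d16_2 F443 D236 (iv D236)
def n237 : Q := act 4 n127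
theorem D237 : act 4 n127 = n237 := rfl
theorem F776 : act 1 n237 = n149 := d9_1 D237 (iv D149) (iv F442)
theorem F777 : act 3 n237 = n137 := d18_1 D237 (iv D137) (iv D72) (iv F248) D127
theorem F778 : act 6 n237 = n237 := d23_2 F443 D237 (iv D237)
def n238 : Q := act 0 n128
theorem D238 : act 0 n128 = n238 := rfl
theorem F779 : act 3 n238 = n238 := d2_2 F444 D238 (iv D238)
theorem F780 : act 5 n238 = n238 := d4_2 F445 D238 (iv D238)
theorem F781 : act 6 n238 = n131 := d5_2 (iv F446) D238 (iv D131)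
def n239 : Q := act 2 n128
theorem D239 : act 2 n128 = n239 := rfl
theorem F782 : act 1 n239 = n239 := d7_1 D239 (iv D239) (iv D128) F250 D128
theorem F783 : act 5 n239 = n239 := d15_2 F445 D239 (iv D239)
theorem F784 : act 6 n239 = n132 := d16_2 (iv F446) D239 (iv D132)
def n240 : Q := act 7 n128
theorem D240 : act 7 n128 = n240 := rfl
theorem F785 : act 1 n240 = n129 := d12_1 D240 (iv D129) D128
theorem F786 : act 5 n240 = n240 := d26_1 D240 (iv D240) F445
def n241 : Q := act 3 n129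
theorem D241 : act 3 n129 = n241 := rfl
theorem F787 : act 5 n241 = n130 := d19_2 (iv F448) D241 (iv D130)
theorem F788 : act 7 n241 = n241 := d21_2 D129 D241 (iv D241) (iv D129) F251
def n242 : Q := act 6 n129
theorem D242 : act 6 n129 = n242 := rfl
theorem F789 : act 2 n242 = n242 := d16_1 D242 (iv D242) F447
theorem F790 : act 5 n242 = n242 := d25_1 D242 (iv D242) F448 F255 (iv F448)
theorem F791 : act 7 n242 = n135 := d27_2 D129 D242 (iv D135) (iv D71) (iv F252)
def n243 : Q := act 2 n130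
theorem D243 : act 2 n130 = n243 := rfl
theorem F792 : act 3 n243 = n243 := d13_2 D130 D243 (iv D243) (iv D130) F254
theorem F793 : act 6 n243 = n243 := d16_2 F450 D243 (iv D243)
theorem F794 : act 7 n243 = n243 := d17_2 F451 D243 (iv D243)
def n244 : Q := act 4 n130
theorem D244 : act 4 n130 = n244 := rfl
theorem F795 : act 1 n244 = n244 := d9_1 D244 (iv D244) F449
theorem F796 : act 6 n244 = n244 := d23_2 F450 D244 (iv D244)
theorem F797 : act 7 n244 = n244 := d24_2 F451 D244 (iv D244)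
def n245 : Q := act 2 n131
theorem D245 : act 2 n131 = n245 := rfl
theorem F798 : act 0 n245 = n132 := d1_1 D245 (iv D132) D131
theorem F799 : act 5 n245 = n150 := d15_2 (iv F453) D245 (iv D150)
def n246 : Q := act 7 n131
theorem D246 : act 7 n131 = n246 := rfl
theorem F800 : act 0 n246 = n133 := d6_1 D246 (iv D133) D131
theorem F801 : act 5 n246 = n151 := d26_1 D246 (iv D151) (iv F453)
def n247 : Q := act 3 n132
theorem D247 : act 3 n132 = n247 := rfl
theorem F802 : act 1 n247 = n247 := d8_1 D247 (iv D247) F454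
theorem F803 : act 2 n247 = n247 := d13_1 D247 (iv D247) (iv D132) F256 D132
theorem F804 : act 5 n247 = n152 := d19_2 (iv F455) D247 (iv D152)
def n248 : Q := act 7 n132
theorem D248 : act 7 n132 = n248 := rfl
theorem F805 : act 1 n248 = n248 := d12_1 D248 (iv D248) F454
theorem F806 : act 2 n248 = n133 := d17_1 D248 (iv D133) D132
theorem F807 : act 5 n248 = n153 := d26_1 D248 (iv D153) (iv F455)
def n249 : Q := act 3 n133
theorem D249 : act 3 n133 = n249 := rfl
theorem F808 : act 1 n249 = n134 := d8_1 D249 (iv D134) (iv F456)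
theorem F809 : act 5 n249 = n154 := d19_2 (iv F457) D249 (iv D154)
theorem F810 : act 7 n249 = n249 := d21_2 D133 D249 (iv D249) (iv D133) F256
def n250 : Q := act 6 n133
theorem D250 : act 6 n133 = n250 := rfl
theorem F811 : act 1 n250 = n135 := d11_1 D250 (iv D135) (iv F456)
def n251 : Q := act 2 n134
theorem D251 : act 2 n134 = n251 := rfl
theorem F813 : act 5 n251 = n136 := d15_2 (iv F458) D251 (iv D136)
def n252 : Q := act 4 n134
theorem D252 : act 4 n134 = n252 := rfl
theorem F815 : act 5 n252 = n137 := d22_2 (iv F458) D252 (iv D137)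
theorem F816 : act 7 n252 = n252 := d24_2 F459 D252 (iv D252)
def n253 : Q := act 6 n134
theorem D253 : act 6 n134 = n253 := rfl
def n254 : Q := act 4 n136
theorem D254 : act 4 n136 = n254 := rfl
theorem F819 : act 1 n254 = n254 := d9_1 D254 (iv D254) F462
theorem F820 : act 2 n254 = n137 := d14_1 D254 (iv D137) D136
theorem F821 : act 6 n254 = n254 := d23_2 F464 D254 (iv D254)
theorem F822 : act 7 n254 = n254 := d24_2 F465 D254 (iv D254)
def n255 : Q := act 0 n138
theorem D255 : act 0 n138 = n255 := rfl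
theorem F823 : act 1 n255 = n255 := d0_2 D138 D255 (iv D255) (iv D138) F263
theorem F824 : act 3 n255 = n143 := d2_2 (iv F469) D255 (iv D143)
theorem F825 : act 4 n255 = n255 := d3_2 F470 D255 (iv D255)
theorem F826 : act 6 n255 = n255 := d5_2 F471 D255 (iv D255)
def n256 : Q := act 2 n138
theorem D256 : act 2 n138 = n256 := rfl
theorem F827 : act 1 n256 = n256 := d7_1 D256 (iv D256) (iv D138) F264 D138
theorem F828 : act 4 n256 = n256 := d14_2 F470 D256 (iv D256)
theorem F829 : act 6 n256 = n256 := d16_2 F471 D256 (iv D256)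
def n257 : Q := act 7 n138
theorem D257 : act 7 n138 = n257 := rfl
theorem F830 : act 1 n257 = n139 := d12_1 D257 (iv D139) D138
theorem F831 : act 4 n257 = n257 := d24_1 D257 (iv D257) F470
def n258 : Q := act 3 n139
theorem D258 : act 3 n139 = n258 := rfl
theorem F832 : act 0 n258 = n258 := d2_1 D258 (iv D258) F472
theorem F833 : act 5 n258 = n140 := d19_2 (iv F475) D258 (iv D140)
theorem F834 : act 7 n258 = n146 := d21_2 D139 D258 (iv D146) (iv D77) (iv F265)
def n259 : Q := act 6 n139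
theorem D259 : act 6 n139 = n259 := rfl
theorem F835 : act 0 n259 = n259 := d5_1 D259 (iv D259) F472
theorem F836 : act 2 n259 = n259 := d16_1 D259 (iv D259) F473
theorem F837 : act 4 n259 = n259 := d23_1 D259 (iv D259) F474
theorem F838 : act 7 n259 = n259 := d27_2 D139 D259 (iv D259) (iv D139) F267
def n260 : Q := act 2 n140
theorem D260 : act 2 n140 = n260 := rfl
theorem F839 : act 0 n260 = n260 := d1_1 D260 (iv D260) F476
theorem F840 : act 3 n260 = n260 := d13_2 D140 D260 (iv D260) (iv D140) F269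
theorem F841 : act 7 n260 = n148 := d17_2 (iv F477) D260 (iv D148)
def n261 : Q := act 4 n140
theorem D261 : act 4 n140 = n261 := rfl
theorem F842 : act 0 n261 = n261 := d3_1 D261 (iv D261) F476
theorem F843 : act 3 n261 = n261 := d18_1 D261 (iv D261) (iv D140) F270 D140
theorem F844 : act 7 n261 = n149 := d24_2 (iv F477) D261 (iv D149)
def n262 : Q := act 6 n140
theorem D262 : act 6 n140 = n262 := rfl
theorem F845 : act 0 n262 = n262 := d5_1 D262 (iv D262) F476
theorem F846 : act 3 n262 = n141 := d20_1 D262 (iv D141) D140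
theorem F847 : act 7 n262 = n262 := d27_2 (iv F477) D262 (iv D262) F477 F282
def n263 : Q := act 5 n141
theorem D263 : act 5 n141 = n263 := rfl
theorem F848 : act 0 n263 = n263 := d4_1 D263 (iv D263) F478
theorem F849 : act 2 n263 = n263 := d15_1 D263 (iv D263) F479
theorem F850 : act 4 n263 = n263 := d22_1 D263 (iv D263) F480
theorem F851 : act 7 n263 = n142 := d26_2 (iv F481) D263 (iv D142)
def n264 : Q := act 1 n142
theorem D264 : act 1 n142 = n264 := rfl
theorem F852 : act 3 n264 = n264 := d8_2 F484 D264 (iv D264)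
theorem F853 : act 4 n264 = n264 := d9_2 F485 D264 (iv D264)
theorem F854 : act 6 n264 = n264 := d11_2 F486 D264 (iv D264)
def n265 : Q := act 2 n143
theorem D265 : act 2 n143 = n265 := rfl
theorem F855 : act 0 n265 = n144 := d1_1 D265 (iv D144) D143
theorem F856 : act 4 n265 = n150 := d14_2 (iv F488) D265 (iv D150)
theorem F857 : act 6 n265 = n265 := d16_2 F489 D265 (iv D265)
def n266 : Q := act 7 n143
theorem D266 : act 7 n143 = n266 := rfl
theorem F858 : act 0 n266 = n145 := d6_1 D266 (iv D145) D143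
theorem F859 : act 1 n266 = n266 := d12_1 D266 (iv D266) F487
theorem F860 : act 4 n266 = n151 := d24_1 D266 (iv D151) (iv F488)
def n267 : Q := act 3 n144
theorem D267 : act 3 n144 = n267 := rfl
theorem F861 : act 1 n267 = n160 := d8_1 D267 (iv D160) (iv F490)
theorem F862 : act 6 n267 = n267 := d20_2 F492 D267 (iv D267)
def n268 : Q := act 7 n144
theorem D268 : act 7 n144 = n268 := rfl
theorem F863 : act 1 n268 = n161 := d12_1 D268 (iv D161) (iv F490)
theorem F864 : act 2 n268 = n145 := d17_1 D268 (iv D145) D144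
theorem F865 : act 4 n268 = n153 := d24_1 D268 (iv D153) (iv F491)
def n269 : Q := act 3 n145
theorem D269 : act 3 n145 = n269 := rfl
theorem F866 : act 1 n269 = n146 := d8_1 D269 (iv D146) (iv F493)
def n270 : Q := act 6 n145
theorem D270 : act 6 n145 = n270 := rfl
theorem F867 : act 1 n270 = n147 := d11_1 D270 (iv D147) (iv F493)
theorem F868 : act 4 n270 = n155 := d23_1 D270 (iv D155) (iv F494)
theorem F869 : act 7 n270 = n270 := d27_2 D145 D270 (iv D270) (iv D145) F276
def n271 : Q := act 2 n146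
theorem D271 : act 2 n146 = n271 := rfl
theorem F870 : act 0 n271 = n271 := d1_1 D271 (iv D271) F495
theorem F871 : act 3 n271 = n164 := d13_2 D146 D271 (iv D164) (iv D88) (iv F278)
theorem F872 : act 5 n271 = n148 := d15_2 (iv F496) D271 (iv D148)
def n272 : Q := act 4 n146
theorem D272 : act 4 n146 = n272 := rfl
theorem F873 : act 0 n272 = n272 := d3_1 D272 (iv D272) F495
theorem F874 : act 3 n272 = n156 := d18_1 D272 (iv D156) (iv D82) (iv F279) D146
theorem F875 : act 5 n272 = n149 := d22_2 (iv F496) D272 (iv D149)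
def n273 : Q := act 6 n146
theorem D273 : act 6 n146 = n273 := rfl
theorem F876 : act 0 n273 = n273 := d5_1 D273 (iv D273) F495
theorem F877 : act 3 n273 = n147 := d20_1 D273 (iv D147) D146
theorem F878 : act 5 n273 = n273 := d25_1 D273 (iv D273) F496 F282 (iv F496)
def n274 : Q := act 1 n148
theorem D274 : act 1 n148 = n274 := rfl
theorem F879 : act 3 n274 = n166 := d8_2 (iv F503) D274 (iv D166)
theorem F880 : act 6 n274 = n274 := d11_2 F504 D274 (iv D274)
def n275 : Q := act 4 n148
theorem D275 : act 4 n148 = n275 := rfl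
theorem F881 : act 0 n275 = n275 := d3_1 D275 (iv D275) F502
theorem F882 : act 2 n275 = n149 := d14_1 D275 (iv D149) D148
theorem F883 : act 3 n275 = n275 := d18_1 D275 (iv D275) F503 F321 (iv F503)
theorem F884 : act 6 n275 = n275 := d23_2 F504 D275 (iv D275)
def n276 : Q := act 1 n150
theorem D276 : act 1 n150 = n276 := rfl
theorem F885 : act 0 n276 = n167 := d0_1 D276 (iv D167) F324 (iv F286) (iv F508)
theorem F886 : act 2 n276 = n276 := d7_2 D150 D276 (iv D276) (iv D150) F283
theorem F887 : act 6 n276 = n276 := d11_2 F509 D276 (iv D276)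
def n277 : Q := act 3 n150
theorem D277 : act 3 n150 = n277 := rfl
theorem F888 : act 0 n277 = n152 := d2_1 D277 (iv D152) (iv F508)
theorem F889 : act 2 n277 = n277 := d13_1 D277 (iv D277) (iv D150) F284 D150
theorem F890 : act 6 n277 = n277 := d20_2 F509 D277 (iv D277)
def n278 : Q := act 7 n150
theorem D278 : act 7 n150 = n278 := rfl
theorem F891 : act 0 n278 = n153 := d6_1 D278 (iv D153) (iv F508)
theorem F892 : act 2 n278 = n151 := d17_1 D278 (iv D151) D150
def n279 : Q := act 3 n151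
theorem D279 : act 3 n151 = n279 := rfl
theorem F893 : act 0 n279 = n154 := d2_1 D279 (iv D154) (iv F510)
theorem F894 : act 1 n279 = n279 := d8_1 D279 (iv D279) F511
theorem F895 : act 7 n279 = n279 := d21_2 D151 D279 (iv D279) (iv D151) F284
def n280 : Q := act 6 n151
theorem D280 : act 6 n151 = n280 := rfl
theorem F896 : act 0 n280 = n155 := d5_1 D280 (iv D155) (iv F510)
theorem F897 : act 1 n280 = n280 := d11_1 D280 (iv D280) F511
theorem F898 : act 7 n280 = n280 := d27_2 D151 D280 (iv D280) (iv D151) F285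
def n281 : Q := act 4 n152
theorem D281 : act 4 n152 = n281 := rfl
theorem F899 : act 1 n281 = n171 := d9_1 D281 (iv D171) (iv F512)
theorem F900 : act 2 n281 = n281 := d14_1 D281 (iv D281) F513
theorem F901 : act 6 n281 = n281 := d23_2 F514 D281 (iv D281)
def n282 : Q := act 7 n152
theorem D282 : act 7 n152 = n282 := rfl
theorem F902 : act 1 n282 = n172 := d12_1 D282 (iv D172) (iv F512)
theorem F903 : act 2 n282 = n282 := d17_1 D282 (iv D282) F513
def n283 : Q := act 3 n153
theorem D283 : act 3 n153 = n283 := rfl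
theorem F904 : act 1 n283 = n173 := d8_1 D283 (iv D173) (iv F515)
def n284 : Q := act 6 n153
theorem D284 : act 6 n153 = n284 := rfl
theorem F905 : act 1 n284 = n174 := d11_1 D284 (iv D174) (iv F515)
theorem F906 : act 2 n284 = n155 := d16_1 D284 (iv D155) (iv F516)
def n285 : Q := act 2 n154
theorem D285 : act 2 n154 = n285 := rfl
theorem F908 : act 1 n285 = n285 := d7_1 D285 (iv D285) F517 F290 (iv F517)
theorem F909 : act 7 n285 = n285 := d17_2 F518 D285 (iv D285)
def n286 : Q := act 4 n154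
theorem D286 : act 4 n154 = n286 := rfl
theorem F910 : act 1 n286 = n156 := d9_1 D286 (iv D156) (iv F517)
theorem F911 : act 7 n286 = n286 := d24_2 F518 D286 (iv D286)
def n287 : Q := act 6 n154
theorem D287 : act 6 n154 = n287 := rfl
theorem F912 : act 1 n287 = n157 := d11_1 D287 (iv D157) (iv F517)
theorem F913 : act 3 n287 = n155 := d20_1 D287 (iv D155) D154
def n288 : Q := act 5 n155
theorem D288 : act 5 n155 = n288 := rfl
def n289 : Q := act 6 n156
theorem D289 : act 6 n156 = n289 := rfl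
theorem F916 : act 0 n289 = n289 := d5_1 D289 (iv D289) F521
theorem F917 : act 2 n289 = n289 := d16_1 D289 (iv D289) F522
theorem F918 : act 4 n289 = n157 := d23_1 D289 (iv D157) D156
theorem F919 : act 5 n289 = n289 := d25_1 D289 (iv D289) F523 F299 (iv F523)
def n290 : Q := act 7 n157
theorem D290 : act 7 n157 = n290 := rfl
theorem F920 : act 0 n290 = n290 := d6_1 D290 (iv D290) F525
theorem F921 : act 2 n290 = n290 := d17_1 D290 (iv D290) F526
theorem F922 : act 3 n290 = n290 := d21_1 D290 (iv D290) F527 F296 (iv F527)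
theorem F923 : act 5 n290 = n290 := d26_1 D290 (iv D290) F528
theorem F924 : act 6 n290 = n290 := d27_1 D290 (iv D290) (iv D157) F292 D157
def n291 : Q := act 1 n158
theorem D291 : act 1 n158 = n291 := rfl
theorem F925 : act 2 n291 = n291 := d7_2 D158 D291 (iv D291) (iv D158) F301
theorem F926 : act 4 n291 = n167 := d9_2 (iv F530) D291 (iv D167)
theorem F927 : act 6 n291 = n291 := d11_2 F532 D291 (iv D291)
def n292 : Q := act 3 n158
theorem D292 : act 3 n158 = n292 := rfl
theorem F928 : act 0 n292 = n160 := d2_1 D292 (iv D160) (iv F529)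
theorem F929 : act 2 n292 = n292 := d13_1 D292 (iv D292) (iv D158) F302 D158
theorem F930 : act 5 n292 = n292 := d19_2 F531 D292 (iv D292)
theorem F931 : act 6 n292 = n292 := d20_2 F532 D292 (iv D292)
def n293 : Q := act 7 n158
theorem D293 : act 7 n158 = n293 := rfl
theorem F932 : act 0 n293 = n161 := d6_1 D293 (iv D161) (iv F529)
theorem F933 : act 2 n293 = n159 := d17_1 D293 (iv D159) D158
theorem F934 : act 4 n293 = n169 := d24_1 D293 (iv D169) (iv F530)
theorem F935 : act 5 n293 = n293 := d26_1 D293 (iv D293) F531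
def n294 : Q := act 3 n159
theorem D294 : act 3 n159 = n294 := rfl
theorem F936 : act 0 n294 = n162 := d2_1 D294 (iv D162) (iv F533)
theorem F937 : act 1 n294 = n294 := d8_1 D294 (iv D294) F534
theorem F938 : act 4 n294 = n294 := d18_2 (iv F535) D294 (iv D294) F535 F329
theorem F939 : act 5 n294 = n294 := d19_2 F536 D294 (iv D294)
theorem F940 : act 7 n294 = n294 := d21_2 D159 D294 (iv D294) (iv D159) F302
def n295 : Q := act 6 n159
theorem D295 : act 6 n159 = n295 := rfl
theorem F941 : act 0 n295 = n163 := d5_1 D295 (iv D163) (iv F533)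
theorem F942 : act 1 n295 = n295 := d11_1 D295 (iv D295) F534
theorem F943 : act 4 n295 = n170 := d23_1 D295 (iv D170) (iv F535)
theorem F944 : act 7 n295 = n295 := d27_2 D159 D295 (iv D295) (iv D159) F305
def n296 : Q := act 4 n160
theorem D296 : act 4 n160 = n296 := rfl
theorem F945 : act 2 n296 = n296 := d14_1 D296 (iv D296) F537
theorem F946 : act 3 n296 = n171 := d18_1 D296 (iv D171) (iv D93) (iv F306) D160
theorem F947 : act 5 n296 = n296 := d22_2 F538 D296 (iv D296)
theorem F948 : act 6 n296 = n296 := d23_2 F539 D296 (iv D296)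
def n297 : Q := act 7 n160
theorem D297 : act 7 n160 = n297 := rfl
theorem F949 : act 2 n297 = n297 := d17_1 D297 (iv D297) F537
theorem F950 : act 5 n297 = n297 := d26_1 D297 (iv D297) F538
def n298 : Q := act 3 n161
theorem D298 : act 3 n161 = n298 := rfl
theorem F951 : act 5 n298 = n298 := d19_2 F542 D298 (iv D298)
def n299 : Q := act 6 n161
theorem D299 : act 6 n161 = n299 := rfl
theorem F952 : act 2 n299 = n163 := d16_1 D299 (iv D163) (iv F540)
theorem F953 : act 4 n299 = n174 := d23_1 D299 (iv D174) (iv F541)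
def n300 : Q := act 2 n162
theorem D300 : act 2 n162 = n300 := rfl
theorem F955 : act 4 n300 = n300 := d14_2 F544 D300 (iv D300)
theorem F956 : act 5 n300 = n300 := d15_2 F545 D300 (iv D300)
theorem F957 : act 7 n300 = n300 := d17_2 F546 D300 (iv D300)
def n301 : Q := act 6 n162
theorem D301 : act 6 n162 = n301 := rfl
theorem F958 : act 1 n301 = n165 := d11_1 D301 (iv D165) (iv F543)
theorem F959 : act 3 n301 = n163 := d20_1 D301 (iv D163) D162
theorem F960 : act 4 n301 = n301 := d23_1 D301 (iv D301) F544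
def n302 : Q := act 5 n163
theorem D302 : act 5 n163 = n302 := rfl
theorem F962 : act 4 n302 = n175 := d22_1 D302 (iv D175) (iv F548)
def n303 : Q := act 1 n164
theorem D303 : act 1 n164 = n303 := rfl
theorem F965 : act 4 n303 = n303 := d9_2 F551 D303 (iv D303)
theorem F966 : act 7 n303 = n303 := d12_2 F553 D303 (iv D303)
def n304 : Q := act 6 n164
theorem D304 : act 6 n164 = n304 := rfl
theorem F967 : act 0 n304 = n304 := d5_1 D304 (iv D304) F550
theorem F968 : act 2 n304 = n165 := d16_1 D304 (iv D165) D164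
theorem F969 : act 4 n304 = n304 := d23_1 D304 (iv D304) F551
theorem F970 : act 5 n304 = n304 := d25_1 D304 (iv D304) F552 F322 (iv F552)
def n305 : Q := act 7 n165
theorem D305 : act 7 n165 = n305 := rfl
theorem F971 : act 0 n305 = n305 := d6_1 D305 (iv D305) F554
theorem F972 : act 3 n305 = n305 := d21_1 D305 (iv D305) F555 F319 (iv F555)
theorem F973 : act 4 n305 = n305 := d24_1 D305 (iv D305) F556
theorem F974 : act 5 n305 = n305 := d26_1 D305 (iv D305) F557
theorem F975 : act 6 n305 = n305 := d27_1 D305 (iv D305) (iv D165) F315 D165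
def n306 : Q := act 0 n166
theorem D306 : act 0 n166 = n306 := rfl
theorem F976 : act 1 n306 = n306 := d0_2 D166 D306 (iv D306) (iv D166) F320
theorem F977 : act 2 n306 = n306 := d1_2 F558 D306 (iv D306)
theorem F978 : act 4 n306 = n306 := d3_2 F559 D306 (iv D306)
theorem F979 : act 6 n306 = n306 := d5_2 F560 D306 (iv D306)
theorem F980 : act 7 n306 = n306 := d6_2 F561 D306 (iv D306)
def n307 : Q := act 5 n166
theorem D307 : act 5 n166 = n307 := rfl
theorem F981 : act 2 n307 = n307 := d15_1 D307 (iv D307) F558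
theorem F982 : act 4 n307 = n307 := d22_1 D307 (iv D307) F559
theorem F983 : act 7 n307 = n307 := d26_2 F561 D307 (iv D307)
def n308 : Q := act 3 n167
theorem D308 : act 3 n167 = n308 := rfl
theorem F984 : act 1 n308 = n168 := d8_1 D308 (iv D168) D167
theorem F985 : act 6 n308 = n308 := d20_2 F563 D308 (iv D308)
def n309 : Q := act 5 n167
theorem D309 : act 5 n167 = n309 := rfl
theorem F986 : act 1 n309 = n309 := d10_1 D309 (iv D309) (iv D167) F325 D167
theorem F987 : act 2 n309 = n309 := d15_1 D309 (iv D309) F562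
def n310 : Q := act 7 n167
theorem D310 : act 7 n167 = n310 := rfl
theorem F988 : act 1 n310 = n169 := d12_1 D310 (iv D169) D167
theorem F989 : act 2 n310 = n310 := d17_1 D310 (iv D310) F562
def n311 : Q := act 4 n168
theorem D311 : act 4 n168 = n311 := rfl
theorem F990 : act 0 n311 = n171 := d3_1 D311 (iv D171) (iv F564)
theorem F991 : act 2 n311 = n178 := d14_1 D311 (iv D178) (iv F565)
theorem F992 : act 5 n311 = n311 := d22_2 F566 D311 (iv D311)
theorem F993 : act 6 n311 = n311 := d23_2 F567 D311 (iv D311)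
def n312 : Q := act 7 n168
theorem D312 : act 7 n168 = n312 := rfl
theorem F994 : act 0 n312 = n172 := d6_1 D312 (iv D172) (iv F564)
theorem F995 : act 2 n312 = n179 := d17_1 D312 (iv D179) (iv F565)
theorem F996 : act 5 n312 = n312 := d26_1 D312 (iv D312) F566
def n313 : Q := act 3 n169
theorem D313 : act 3 n169 = n313 := rfl
def n314 : Q := act 6 n169
theorem D314 : act 6 n169 = n314 := rfl
theorem F1000 : act 0 n314 = n174 := d5_1 D314 (iv D174) (iv F568)
def n315 : Q := act 5 n170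
theorem D315 : act 5 n170 = n315 := rfl
theorem F1003 : act 0 n315 = n175 := d4_1 D315 (iv D175) (iv F571)
def n316 : Q := act 7 n171
theorem D316 : act 7 n171 = n316 := rfl
theorem F1007 : act 2 n316 = n180 := d17_1 D316 (iv D180) (iv F575)
theorem F1008 : act 4 n316 = n172 := d24_1 D316 (iv D172) D171
theorem F1009 : act 5 n316 = n316 := d26_1 D316 (iv D316) F576
def n317 : Q := act 3 n172
theorem D317 : act 3 n172 = n317 := rfl
theorem F1012 : act 7 n317 = n173 := d21_2 D172 D317 (iv D173) (iv D94) D93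
def n318 : Q := act 6 n172
theorem D318 : act 6 n172 = n318 := rfl
theorem F1013 : act 2 n318 = n181 := d16_1 D318 (iv D181) (iv F578)
def n320 : Q := act 6 n173
theorem D320 : act 6 n173 = n320 := rfl
theorem F1018 : act 3 n320 = n174 := d20_1 D320 (iv D174) D173
def n321 : Q := act 5 n174
theorem D321 : act 5 n174 = n321 := rfl
theorem F1019 : act 2 n321 = n175 := d15_1 D321 (iv D175) (iv F582)
def n322 : Q := act 2 n176
theorem D322 : act 2 n176 = n322 := rfl
def n323 : Q := act 4 n176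
theorem D323 : act 4 n176 = n323 := rfl
theorem F1025 : act 0 n323 = n323 := d3_1 D323 (iv D323) F588
theorem F1026 : act 1 n323 = n178 := d9_1 D323 (iv D178) (iv F589)
theorem F1027 : act 3 n323 = n323 := d18_1 D323 (iv D323) (iv D176) F341 D176
theorem F1028 : act 6 n323 = n323 := d23_2 F590 D323 (iv D323)
def n324 : Q := act 5 n176
theorem D324 : act 5 n176 = n324 := rfl
theorem F1031 : act 3 n324 = n177 := d19_1 D324 (iv D177) D176
def n325 : Q := act 7 n176
theorem D325 : act 7 n176 = n325 := rfl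
theorem F1032 : act 0 n325 = n325 := d6_1 D325 (iv D325) F588
theorem F1033 : act 1 n325 = n179 := d12_1 D325 (iv D179) (iv F589)
theorem F1034 : act 3 n325 = n325 := d21_1 D325 (iv D325) (iv D176) F343 D176
def n326 : Q := act 6 n177
theorem D326 : act 6 n177 = n326 := rfl
def n327 : Q := act 7 n178
theorem D327 : act 7 n178 = n327 := rfl
theorem F1040 : act 0 n327 = n180 := d6_1 D327 (iv D180) (iv F596)
theorem F1041 : act 4 n327 = n179 := d24_1 D327 (iv D179) D178
theorem F1042 : act 5 n327 = n327 := d26_1 D327 (iv D327) F598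
def n328 : Q := act 6 n179
theorem D328 : act 6 n179 = n328 := rfl
theorem F1043 : act 0 n328 = n181 := d5_1 D328 (iv D181) (iv F600)
theorem F1044 : act 3 n328 = n328 := d20_1 D328 (iv D328) F601
theorem F1045 : act 7 n328 = n328 := d27_2 D179 D328 (iv D328) (iv D179) F346
def n329 : Q := act 3 n180
theorem D329 : act 3 n180 = n329 := rfl
theorem F1046 : act 1 n329 = n329 := d8_1 D329 (iv D329) F603
theorem F1047 : act 4 n329 = n329 := d18_2 (iv F604) D329 (iv D329) F604 F352
theorem F1048 : act 5 n329 = n329 := d19_2 F605 D329 (iv D329)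
theorem F1049 : act 7 n329 = n329 := d21_2 D180 D329 (iv D329) (iv D180) F348
def n330 : Q := act 6 n180
theorem D330 : act 6 n180 = n330 := rfl
theorem F1050 : act 1 n330 = n330 := d11_1 D330 (iv D330) F603
theorem F1051 : act 4 n330 = n181 := d23_1 D330 (iv D181) (iv F604)
theorem F1052 : act 7 n330 = n330 := d27_2 D180 D330 (iv D330) (iv D180) F350
def n331 : Q := act 5 n181
theorem D331 : act 5 n181 = n331 := rfl
def n332 : Q := act 5 n182
theorem D332 : act 5 n182 = n332 := rfl
def n333 : Q := act 6 n182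
theorem D333 : act 6 n182 = n333 := rfl
theorem F1060 : act 0 n333 = n333 := d5_1 D333 (iv D333) F609
theorem F1061 : act 1 n333 = n184 := d11_1 D333 (iv D184) D182
theorem F1062 : act 2 n333 = n333 := d16_1 D333 (iv D333) F610
theorem F1063 : act 3 n333 = n333 := d20_1 D333 (iv D333) F611
theorem F1064 : act 4 n333 = n333 := d23_1 D333 (iv D333) F612
def n334 : Q := act 7 n182
theorem D334 : act 7 n182 = n334 := rfl
theorem F1066 : act 1 n334 = n185 := d12_1 D334 (iv D185) D182
theorem F1067 : act 2 n334 = n334 := d17_1 D334 (iv D334) F610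
def n336 : Q := act 6 n183
theorem D336 : act 6 n183 = n336 := rfl
theorem F1072 : act 2 n336 = n187 := d16_1 D336 (iv D187) (iv F614)
def n338 : Q := act 5 n184
theorem D338 : act 5 n184 = n338 := rfl
theorem F1079 : act 0 n338 = n216 := d4_1 D338 (iv D216) (iv F617)
theorem F1080 : act 2 n338 = n189 := d15_1 D338 (iv D189) (iv F618)
theorem F1081 : act 3 n338 = n338 := d19_1 D338 (iv D338) F619
theorem F1082 : act 4 n338 = n338 := d22_1 D338 (iv D338) F620
def n339 : Q := act 7 n184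
theorem D339 : act 7 n184 = n339 := rfl
theorem F1083 : act 0 n339 = n217 := d6_1 D339 (iv D217) (iv F617)
theorem F1084 : act 2 n339 = n190 := d17_1 D339 (iv D190) (iv F618)
theorem F1085 : act 4 n339 = n339 := d24_1 D339 (iv D339) F620
def n341 : Q := act 6 n185
theorem D341 : act 6 n185 = n341 := rfl
theorem F1089 : act 0 n341 = n219 := d5_1 D341 (iv D219) (iv F621)
theorem F1090 : act 2 n341 = n191 := d16_1 D341 (iv D191) (iv F622)
def n342 : Q := act 2 n186
theorem D342 : act 2 n186 = n342 := rfl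
def n343 : Q := act 6 n186
theorem D343 : act 6 n186 = n343 := rfl
theorem F1095 : act 0 n343 = n343 := d5_1 D343 (iv D343) F624
theorem F1096 : act 1 n343 = n187 := d11_1 D343 (iv D187) D186
theorem F1097 : act 3 n343 = n193 := d20_1 D343 (iv D193) (iv F625)
theorem F1098 : act 4 n343 = n343 := d23_1 D343 (iv D343) F626
def n344 : Q := act 7 n186
theorem D344 : act 7 n186 = n344 := rfl
theorem F1103 : act 5 n344 = n344 := d26_1 D344 (iv D344) F627
def n345 : Q := act 5 n187
theorem D345 : act 5 n187 = n345 := rfl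
theorem F1104 : act 0 n345 = n220 := d4_1 D345 (iv D220) (iv F628)
theorem F1105 : act 3 n345 = n194 := d19_1 D345 (iv D194) (iv F629)
theorem F1106 : act 4 n345 = n345 := d22_1 D345 (iv D345) F630
theorem F1107 : act 6 n345 = n189 := d25_2 D187 D345 (iv D189) (iv D102) D101
def n346 : Q := act 7 n187
theorem D346 : act 7 n187 = n346 := rfl
theorem F1108 : act 0 n346 = n221 := d6_1 D346 (iv D221) (iv F628)
theorem F1109 : act 4 n346 = n346 := d24_1 D346 (iv D346) F630
def n348 : Q := act 1 n189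
theorem D348 : act 1 n189 = n348 := rfl
theorem F1113 : act 3 n348 = n196 := d8_2 (iv F636) D348 (iv D196)
theorem F1114 : act 4 n348 = n348 := d9_2 F637 D348 (iv D348)
theorem F1115 : act 5 n348 = n348 := d10_2 D189 D348 (iv D348) (iv D189) F361
def n349 : Q := act 7 n189
theorem D349 : act 7 n189 = n349 := rfl
theorem F1116 : act 0 n349 = n224 := d6_1 D349 (iv D224) (iv F635)
theorem F1117 : act 4 n349 = n349 := d24_1 D349 (iv D349) F637
theorem F1118 : act 5 n349 = n190 := d26_1 D349 (iv D190) D189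
def n350 : Q := act 3 n190
theorem D350 : act 3 n190 = n350 := rfl
theorem F1119 : act 0 n350 = n225 := d2_1 D350 (iv D225) (iv F638)
theorem F1120 : act 1 n350 = n350 := d8_1 D350 (iv D350) F639
theorem F1121 : act 7 n350 = n198 := d21_2 D190 D350 (iv D198) (iv D107) (iv F362)
def n351 : Q := act 6 n190
theorem D351 : act 6 n190 = n351 := rfl
theorem F1122 : act 0 n351 = n226 := d5_1 D351 (iv D226) (iv F638)
theorem F1123 : act 1 n351 = n351 := d11_1 D351 (iv D351) F639
theorem F1124 : act 4 n351 = n351 := d23_1 D351 (iv D351) F640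
theorem F1125 : act 7 n351 = n191 := d27_2 D190 D351 (iv D191) (iv D103) D102
def n352 : Q := act 5 n191
theorem D352 : act 5 n191 = n352 := rfl
theorem F1126 : act 0 n352 = n227 := d4_1 D352 (iv D227) (iv F641)
theorem F1127 : act 3 n352 = n352 := d19_1 D352 (iv D352) F643
theorem F1128 : act 4 n352 = n352 := d22_1 D352 (iv D352) F644
def n353 : Q := act 3 n192
theorem D353 : act 3 n192 = n353 := rfl
def n354 : Q := act 6 n192
theorem D354 : act 6 n192 = n354 := rfl
theorem F1132 : act 0 n354 = n354 := d5_1 D354 (iv D354) F645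
theorem F1133 : act 1 n354 = n354 := d11_1 D354 (iv D354) F646
theorem F1134 : act 2 n354 = n193 := d16_1 D354 (iv D193) D192
theorem F1135 : act 4 n354 = n200 := d23_1 D354 (iv D200) (iv F647)
def n355 : Q := act 5 n193
theorem D355 : act 5 n193 = n355 := rfl
theorem F1136 : act 0 n355 = n355 := d4_1 D355 (iv D355) F650
theorem F1137 : act 4 n355 = n201 := d22_1 D355 (iv D201) (iv F652)
theorem F1138 : act 6 n355 = n355 := d25_2 D193 D355 (iv D355) (iv D193) F370
def n356 : Q := act 7 n193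
theorem D356 : act 7 n193 = n356 := rfl
theorem F1139 : act 0 n356 = n356 := d6_1 D356 (iv D356) F650
theorem F1140 : act 1 n356 = n195 := d12_1 D356 (iv D195) (iv F651)
theorem F1141 : act 4 n356 = n202 := d24_1 D356 (iv D202) (iv F652)
theorem F1142 : act 6 n356 = n356 := d27_1 D356 (iv D356) (iv D193) F371 D193
def n357 : Q := act 1 n194
theorem D357 : act 1 n194 = n357 := rfl
theorem F1143 : act 4 n357 = n203 := d9_2 (iv F655) D357 (iv D203)
theorem F1144 : act 6 n357 = n196 := d11_2 (iv F656) D357 (iv D196)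
def n358 : Q := act 7 n194
theorem D358 : act 7 n194 = n358 := rfl
theorem F1145 : act 0 n358 = n229 := d6_1 D358 (iv D229) (iv F653)
theorem F1146 : act 2 n358 = n358 := d17_1 D358 (iv D358) F654
theorem F1147 : act 4 n358 = n204 := d24_1 D358 (iv D204) (iv F655)
theorem F1148 : act 5 n358 = n195 := d26_1 D358 (iv D195) D194
def n359 : Q := act 3 n195
theorem D359 : act 3 n195 = n359 := rfl
theorem F1149 : act 0 n359 = n230 := d2_1 D359 (iv D230) (iv F657)
theorem F1150 : act 6 n359 = n359 := d20_2 F660 D359 (iv D359)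
def n360 : Q := act 0 n196
theorem D360 : act 0 n196 = n360 := rfl
theorem F1151 : act 1 n360 = n231 := d0_2 D196 D360 (iv D231) (iv D125) (iv F375)
theorem F1152 : act 4 n360 = n206 := d3_2 (iv F661) D360 (iv D206)
theorem F1153 : act 5 n360 = n360 := d4_2 F662 D360 (iv D360)
def n361 : Q := act 2 n196
theorem D361 : act 2 n196 = n361 := rfl
theorem F1154 : act 1 n361 = n361 := d7_1 D361 (iv D361) (iv D196) F376 D196
theorem F1155 : act 4 n361 = n207 := d14_2 (iv F661) D361 (iv D207)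
theorem F1156 : act 5 n361 = n361 := d15_2 F662 D361 (iv D361)
def n362 : Q := act 7 n196
theorem D362 : act 7 n196 = n362 := rfl
theorem F1157 : act 1 n362 = n197 := d12_1 D362 (iv D197) D196
theorem F1158 : act 4 n362 = n208 := d24_1 D362 (iv D208) (iv F661)
theorem F1159 : act 5 n362 = n362 := d26_1 D362 (iv D362) F662
def n363 : Q := act 3 n197
theorem D363 : act 3 n197 = n363 := rfl
theorem F1160 : act 0 n363 = n234 := d2_1 D363 (iv D234) (iv F663)
theorem F1161 : act 5 n363 = n198 := d19_2 (iv F666) D363 (iv D198)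
def n364 : Q := act 6 n197
theorem D364 : act 6 n197 = n364 := rfl
theorem F1162 : act 0 n364 = n235 := d5_1 D364 (iv D235) (iv F663)
theorem F1163 : act 2 n364 = n364 := d16_1 D364 (iv D364) F664
theorem F1164 : act 4 n364 = n210 := d23_1 D364 (iv D210) (iv F665)
theorem F1165 : act 5 n364 = n364 := d25_1 D364 (iv D364) F666 F382 (iv F666)
def n365 : Q := act 2 n198
theorem D365 : act 2 n198 = n365 := rfl
theorem F1166 : act 0 n365 = n236 := d1_1 D365 (iv D236) (iv F667)
theorem F1167 : act 3 n365 = n365 := d13_2 D198 D365 (iv D365) (iv D198) F380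
theorem F1168 : act 6 n365 = n365 := d16_2 F669 D365 (iv D365)
def n366 : Q := act 4 n198
theorem D366 : act 4 n198 = n366 := rfl
theorem F1169 : act 0 n366 = n237 := d3_1 D366 (iv D237) (iv F667)
theorem F1170 : act 1 n366 = n366 := d9_1 D366 (iv D366) F668
theorem F1171 : act 3 n366 = n212 := d18_1 D366 (iv D212) (iv D114) (iv F381) D198
theorem F1172 : act 6 n366 = n366 := d23_2 F669 D366 (iv D366)
def n367 : Q := act 4 n199
theorem D367 : act 4 n199 = n367 := rfl
def n368 : Q := act 6 n199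
theorem D368 : act 6 n199 = n368 := rfl
theorem F1180 : act 3 n368 = n200 := d20_1 D368 (iv D200) D199
def n369 : Q := act 7 n199
theorem D369 : act 7 n199 = n369 := rfl
theorem F1181 : act 0 n369 = n369 := d6_1 D369 (iv D369) F670
theorem F1182 : act 1 n369 = n369 := d12_1 D369 (iv D369) F671
theorem F1183 : act 2 n369 = n369 := d17_1 D369 (iv D369) F672
theorem F1184 : act 3 n369 = n369 := d21_1 D369 (iv D369) (iv D199) F386 D199
theorem F1185 : act 5 n369 = n369 := d26_1 D369 (iv D369) F673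
def n370 : Q := act 5 n200
theorem D370 : act 5 n200 = n370 := rfl
theorem F1187 : act 2 n370 = n201 := d15_1 D370 (iv D201) (iv F676)
def n371 : Q := act 7 n200
theorem D371 : act 7 n200 = n371 := rfl
theorem F1189 : act 0 n371 = n371 := d6_1 D371 (iv D371) F674
theorem F1190 : act 1 n371 = n371 := d12_1 D371 (iv D371) F675
theorem F1191 : act 2 n371 = n202 := d17_1 D371 (iv D202) (iv F676)
theorem F1192 : act 6 n371 = n371 := d27_1 D371 (iv D371) (iv D200) F386 D200
def n372 : Q := act 1 n201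
theorem D372 : act 1 n201 = n372 := rfl
theorem F1193 : act 3 n372 = n372 := d8_2 F678 D372 (iv D372)
theorem F1194 : act 5 n372 = n203 := d10_2 D201 D372 (iv D203) (iv D110) (iv F388)
theorem F1195 : act 6 n372 = n372 := d11_2 F679 D372 (iv D372)
def n373 : Q := act 7 n201
theorem D373 : act 7 n201 = n373 := rfl
theorem F1196 : act 0 n373 = n373 := d6_1 D373 (iv D373) F677
theorem F1197 : act 5 n373 = n202 := d26_1 D373 (iv D202) D201
def n374 : Q := act 3 n202
theorem D374 : act 3 n202 = n374 := rfl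
theorem F1198 : act 0 n374 = n374 := d2_1 D374 (iv D374) F680
theorem F1199 : act 1 n374 = n205 := d8_1 D374 (iv D205) (iv F681)
theorem F1200 : act 6 n374 = n374 := d20_2 F682 D374 (iv D374)
theorem F1201 : act 7 n374 = n374 := d21_2 D202 D374 (iv D374) (iv D202) F389
def n375 : Q := act 0 n203
theorem D375 : act 0 n203 = n375 := rfl
theorem F1202 : act 1 n375 = n238 := d0_2 D203 D375 (iv D238) (iv D128) (iv F390)
theorem F1203 : act 3 n375 = n375 := d2_2 F683 D375 (iv D375)
theorem F1204 : act 6 n375 = n206 := d5_2 (iv F684) D375 (iv D206)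
def n376 : Q := act 2 n203
theorem D376 : act 2 n203 = n376 := rfl
theorem F1205 : act 1 n376 = n376 := d7_1 D376 (iv D376) (iv D203) F391 D203
theorem F1206 : act 6 n376 = n207 := d16_2 (iv F684) D376 (iv D207)
def n377 : Q := act 7 n203
theorem D377 : act 7 n203 = n377 := rfl
theorem F1207 : act 1 n377 = n204 := d12_1 D377 (iv D204) D203
def n378 : Q := act 3 n204
theorem D378 : act 3 n204 = n378 := rfl
theorem F1208 : act 0 n378 = n241 := d2_1 D378 (iv D241) (iv F685)
theorem F1209 : act 5 n378 = n205 := d19_2 (iv F687) D378 (iv D205)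
theorem F1210 : act 7 n378 = n378 := d21_2 D204 D378 (iv D378) (iv D204) F392
def n379 : Q := act 6 n204
theorem D379 : act 6 n204 = n379 := rfl
theorem F1211 : act 0 n379 = n242 := d5_1 D379 (iv D242) (iv F685)
theorem F1212 : act 2 n379 = n379 := d16_1 D379 (iv D379) F686
theorem F1213 : act 5 n379 = n379 := d25_1 D379 (iv D379) F687 F396 (iv F687)
theorem F1214 : act 7 n379 = n210 := d27_2 D204 D379 (iv D210) (iv D113) (iv F393)
def n380 : Q := act 2 n205
theorem D380 : act 2 n205 = n380 := rfl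
theorem F1215 : act 0 n380 = n243 := d1_1 D380 (iv D243) (iv F688)
theorem F1216 : act 3 n380 = n380 := d13_2 D205 D380 (iv D380) (iv D205) F395
theorem F1217 : act 6 n380 = n380 := d16_2 F689 D380 (iv D380)
theorem F1218 : act 7 n380 = n380 := d17_2 F690 D380 (iv D380)
def n381 : Q := act 4 n205
theorem D381 : act 4 n205 = n381 := rfl
theorem F1219 : act 0 n381 = n244 := d3_1 D381 (iv D244) (iv F688)
theorem F1220 : act 6 n381 = n381 := d23_2 F689 D381 (iv D381)
theorem F1221 : act 7 n381 = n381 := d24_2 F690 D381 (iv D381)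
def n382 : Q := act 2 n206
theorem D382 : act 2 n206 = n382 := rfl
theorem F1222 : act 0 n382 = n207 := d1_1 D382 (iv D207) D206
theorem F1223 : act 5 n382 = n382 := d15_2 F693 D382 (iv D382)
def n383 : Q := act 7 n206
theorem D383 : act 7 n206 = n383 := rfl
theorem F1224 : act 0 n383 = n208 := d6_1 D383 (iv D208) D206
theorem F1225 : act 1 n383 = n246 := d12_1 D383 (iv D246) (iv F691)
theorem F1226 : act 5 n383 = n383 := d26_1 D383 (iv D383) F693
def n384 : Q := act 3 n207
theorem D384 : act 3 n207 = n384 := rfl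
theorem F1227 : act 1 n384 = n384 := d8_1 D384 (iv D384) F694
theorem F1228 : act 2 n384 = n384 := d13_1 D384 (iv D384) (iv D207) F397 D207
theorem F1229 : act 5 n384 = n384 := d19_2 F695 D384 (iv D384)
def n385 : Q := act 7 n207
theorem D385 : act 7 n207 = n385 := rfl
theorem F1230 : act 1 n385 = n385 := d12_1 D385 (iv D385) F694
theorem F1231 : act 2 n385 = n208 := d17_1 D385 (iv D208) D207
theorem F1232 : act 5 n385 = n385 := d26_1 D385 (iv D385) F695
def n386 : Q := act 3 n208
theorem D386 : act 3 n208 = n386 := rfl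
theorem F1233 : act 1 n386 = n209 := d8_1 D386 (iv D209) (iv F696)
theorem F1234 : act 5 n386 = n386 := d19_2 F697 D386 (iv D386)
theorem F1235 : act 7 n386 = n386 := d21_2 D208 D386 (iv D386) (iv D208) F397
def n387 : Q := act 6 n208
theorem D387 : act 6 n208 = n387 := rfl
theorem F1236 : act 1 n387 = n210 := d11_1 D387 (iv D210) (iv F696)
def n388 : Q := act 2 n209
theorem D388 : act 2 n209 = n388 := rfl
theorem F1239 : act 5 n388 = n211 := d15_2 (iv F699) D388 (iv D211)
def n389 : Q := act 4 n209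
theorem D389 : act 4 n209 = n389 := rfl
theorem F1241 : act 0 n389 = n252 := d3_1 D389 (iv D252) (iv F698)
theorem F1242 : act 5 n389 = n212 := d22_2 (iv F699) D389 (iv D212)
theorem F1243 : act 7 n389 = n389 := d24_2 F700 D389 (iv D389)
def n390 : Q := act 6 n209
theorem D390 : act 6 n209 = n390 := rfl
theorem F1245 : act 3 n390 = n210 := d20_1 D390 (iv D210) D209
def n391 : Q := act 1 n211
theorem D391 : act 1 n211 = n391 := rfl
theorem F1247 : act 0 n391 = n391 := d0_1 D391 (iv D391) F704 F462 (iv F704)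
theorem F1248 : act 2 n391 = n391 := d7_2 D211 D391 (iv D391) (iv D211) F403
theorem F1249 : act 3 n391 = n391 := d8_2 F705 D391 (iv D391)
theorem F1250 : act 6 n391 = n391 := d11_2 F706 D391 (iv D391)
theorem F1251 : act 7 n391 = n391 := d12_2 F707 D391 (iv D391)
def n392 : Q := act 4 n211
theorem D392 : act 4 n211 = n392 := rfl
theorem F1252 : act 0 n392 = n254 := d3_1 D392 (iv D254) (iv F704)
theorem F1253 : act 2 n392 = n212 := d14_1 D392 (iv D212) D211
theorem F1254 : act 6 n392 = n392 := d23_2 F706 D392 (iv D392)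
theorem F1255 : act 7 n392 = n392 := d24_2 F707 D392 (iv D392)
def n396 : Q := act 5 n214
theorem D396 : act 5 n214 = n396 := rfl
theorem F1268 : act 2 n396 = n220 := d15_1 D396 (iv D220) (iv F716)
theorem F1271 : act 6 n396 = n216 := d25_2 D214 D396 (iv D216) (iv D116) D115
def n397 : Q := act 7 n214
theorem D397 : act 7 n214 = n397 := rfl
theorem F1272 : act 2 n397 = n221 := d17_1 D397 (iv D221) (iv F716)
def n400 : Q := act 1 n216
theorem D400 : act 1 n216 = n400 := rfl
theorem F1279 : act 3 n400 = n400 := d8_2 F723 D400 (iv D400)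
theorem F1280 : act 4 n400 = n400 := d9_2 F724 D400 (iv D400)
theorem F1281 : act 5 n400 = n400 := d10_2 D216 D400 (iv D400) (iv D216) F409
def n401 : Q := act 7 n216
theorem D401 : act 7 n216 = n401 := rfl
theorem F1282 : act 2 n401 = n224 := d17_1 D401 (iv D224) (iv F722)
theorem F1283 : act 4 n401 = n401 := d24_1 D401 (iv D401) F724
theorem F1284 : act 5 n401 = n217 := d26_1 D401 (iv D217) D216
def n402 : Q := act 3 n217
theorem D402 : act 3 n217 = n402 := rfl
theorem F1285 : act 1 n402 = n402 := d8_1 D402 (iv D402) F725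
theorem F1286 : act 7 n402 = n402 := d21_2 D217 D402 (iv D402) (iv D217) F411
def n403 : Q := act 6 n217
theorem D403 : act 6 n217 = n403 := rfl
theorem F1290 : act 7 n403 = n219 := d27_2 D217 D403 (iv D219) (iv D117) D116
def n405 : Q := act 6 n218
theorem D405 : act 6 n218 = n405 := rfl
theorem F1297 : act 3 n405 = n219 := d20_1 D405 (iv D219) D218
def n407 : Q := act 1 n220
theorem D407 : act 1 n220 = n407 := rfl
theorem F1300 : act 3 n407 = n228 := d8_2 (iv F734) D407 (iv D228)
theorem F1301 : act 4 n407 = n407 := d9_2 F735 D407 (iv D407)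
theorem F1302 : act 5 n407 = n407 := d10_2 D220 D407 (iv D407) (iv D220) F416
theorem F1303 : act 6 n407 = n223 := d11_2 (iv F736) D407 (iv D223)
def n408 : Q := act 7 n220
theorem D408 : act 7 n220 = n408 := rfl
theorem F1304 : act 4 n408 = n408 := d24_1 D408 (iv D408) F735
theorem F1305 : act 5 n408 = n221 := d26_1 D408 (iv D221) D220
def n409 : Q := act 3 n221
theorem D409 : act 3 n221 = n409 := rfl
theorem F1306 : act 1 n409 = n409 := d8_1 D409 (iv D409) F737
theorem F1307 : act 7 n409 = n230 := d21_2 D221 D409 (iv D230) (iv D124) (iv F417)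
def n410 : Q := act 6 n221
theorem D410 : act 6 n221 = n410 := rfl
def n411 : Q := act 5 n222
theorem D411 : act 5 n222 = n411 := rfl
theorem F1313 : act 6 n411 = n227 := d25_2 D222 D411 (iv D227) (iv D122) (iv F422)
def n412 : Q := act 0 n223
theorem D412 : act 0 n223 = n412 := rfl
theorem F1314 : act 3 n412 = n231 := d2_2 (iv F742) D412 (iv D231)
theorem F1315 : act 4 n412 = n412 := d3_2 F743 D412 (iv D412)
theorem F1316 : act 5 n412 = n255 := d4_2 (iv F744) D412 (iv D255)
def n413 : Q := act 2 n223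
theorem D413 : act 2 n223 = n413 := rfl
theorem F1317 : act 4 n413 = n413 := d14_2 F743 D413 (iv D413)
theorem F1318 : act 5 n413 = n256 := d15_2 (iv F744) D413 (iv D256)
def n414 : Q := act 7 n223
theorem D414 : act 7 n223 = n414 := rfl
theorem F1319 : act 1 n414 = n224 := d12_1 D414 (iv D224) D223
theorem F1320 : act 4 n414 = n414 := d24_1 D414 (iv D414) F743
theorem F1321 : act 5 n414 = n257 := d26_1 D414 (iv D257) (iv F744)
def n415 : Q := act 3 n224
theorem D415 : act 3 n224 = n415 := rfl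
theorem F1322 : act 5 n415 = n225 := d19_2 (iv F746) D415 (iv D225)
theorem F1323 : act 7 n415 = n234 := d21_2 D224 D415 (iv D234) (iv D126) (iv F423)
def n416 : Q := act 6 n224
theorem D416 : act 6 n224 = n416 := rfl
theorem F1324 : act 4 n416 = n416 := d23_1 D416 (iv D416) F745
def n417 : Q := act 2 n225
theorem D417 : act 2 n225 = n417 := rfl
theorem F1325 : act 7 n417 = n236 := d17_2 (iv F748) D417 (iv D236)
def n418 : Q := act 4 n225
theorem D418 : act 4 n225 = n418 := rfl
theorem F1326 : act 1 n418 = n261 := d9_1 D418 (iv D261) (iv F747)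
theorem F1327 : act 3 n418 = n418 := d18_1 D418 (iv D418) (iv D225) F426 D225
theorem F1328 : act 7 n418 = n237 := d24_2 (iv F748) D418 (iv D237)
def n419 : Q := act 6 n225
theorem D419 : act 6 n225 = n419 := rfl
theorem F1329 : act 1 n419 = n262 := d11_1 D419 (iv D262) (iv F747)
theorem F1330 : act 3 n419 = n226 := d20_1 D419 (iv D226) D225
theorem F1331 : act 7 n419 = n419 := d27_2 (iv F748) D419 (iv D419) F748 F443
def n420 : Q := act 5 n226
theorem D420 : act 5 n226 = n420 := rfl
theorem F1332 : act 4 n420 = n420 := d22_1 D420 (iv D420) F750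
theorem F1333 : act 7 n420 = n227 := d26_2 (iv F751) D420 (iv D227)
def n421 : Q := act 1 n227
theorem D421 : act 1 n227 = n421 := rfl
theorem F1334 : act 3 n421 = n421 := d8_2 F752 D421 (iv D421)
theorem F1335 : act 4 n421 = n421 := d9_2 F753 D421 (iv D421)
theorem F1336 : act 5 n421 = n264 := d10_2 D227 D421 (iv D264) (iv D142) (iv F427)
def n422 : Q := act 0 n228
theorem D422 : act 0 n228 = n422 := rfl
theorem F1337 : act 4 n422 = n238 := d3_2 (iv F754) D422 (iv D238)
theorem F1338 : act 5 n422 = n422 := d4_2 F755 D422 (iv D422)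
theorem F1339 : act 6 n422 = n231 := d5_2 (iv F756) D422 (iv D231)
def n423 : Q := act 2 n228
theorem D423 : act 2 n228 = n423 := rfl
theorem F1340 : act 1 n423 = n423 := d7_1 D423 (iv D423) (iv D228) F430 D228
theorem F1341 : act 4 n423 = n239 := d14_2 (iv F754) D423 (iv D239)
theorem F1342 : act 5 n423 = n423 := d15_2 F755 D423 (iv D423)
theorem F1343 : act 6 n423 = n232 := d16_2 (iv F756) D423 (iv D232)
def n424 : Q := act 7 n228
theorem D424 : act 7 n228 = n424 := rfl
theorem F1344 : act 1 n424 = n229 := d12_1 D424 (iv D229) D228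
theorem F1345 : act 4 n424 = n240 := d24_1 D424 (iv D240) (iv F754)
theorem F1346 : act 5 n424 = n424 := d26_1 D424 (iv D424) F755
def n425 : Q := act 3 n229
theorem D425 : act 3 n229 = n425 := rfl
theorem F1347 : act 5 n425 = n230 := d19_2 (iv F759) D425 (iv D230)
def n426 : Q := act 6 n229
theorem D426 : act 6 n229 = n426 := rfl
theorem F1348 : act 2 n426 = n426 := d16_1 D426 (iv D426) F757
theorem F1349 : act 4 n426 = n242 := d23_1 D426 (iv D242) (iv F758)
theorem F1350 : act 5 n426 = n426 := d25_1 D426 (iv D426) F759 F436 (iv F759)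
theorem F1351 : act 7 n426 = n235 := d27_2 D229 D426 (iv D235) (iv D126) (iv F432)
def n427 : Q := act 2 n230
theorem D427 : act 2 n230 = n427 := rfl
theorem F1352 : act 3 n427 = n427 := d13_2 D230 D427 (iv D427) (iv D230) F434
theorem F1353 : act 6 n427 = n427 := d16_2 F761 D427 (iv D427)
def n428 : Q := act 4 n230
theorem D428 : act 4 n230 = n428 := rfl
theorem F1354 : act 1 n428 = n428 := d9_1 D428 (iv D428) F760
theorem F1355 : act 3 n428 = n244 := d18_1 D428 (iv D244) (iv D130) (iv F435) D230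
theorem F1356 : act 6 n428 = n428 := d23_2 F761 D428 (iv D428)
def n429 : Q := act 2 n231
theorem D429 : act 2 n231 = n429 := rfl
theorem F1357 : act 0 n429 = n232 := d1_1 D429 (iv D232) D231
theorem F1358 : act 4 n429 = n245 := d14_2 (iv F762) D429 (iv D245)
theorem F1359 : act 5 n429 = n265 := d15_2 (iv F763) D429 (iv D265)
def n430 : Q := act 7 n231
theorem D430 : act 7 n231 = n430 := rfl
theorem F1360 : act 0 n430 = n233 := d6_1 D430 (iv D233) D231
theorem F1361 : act 4 n430 = n246 := d24_1 D430 (iv D246) (iv F762)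
theorem F1362 : act 5 n430 = n266 := d26_1 D430 (iv D266) (iv F763)
def n431 : Q := act 3 n232
theorem D431 : act 3 n232 = n431 := rfl
theorem F1363 : act 1 n431 = n431 := d8_1 D431 (iv D431) F764
theorem F1364 : act 5 n431 = n267 := d19_2 (iv F766) D431 (iv D267)
def n432 : Q := act 7 n232
theorem D432 : act 7 n232 = n432 := rfl
theorem F1365 : act 1 n432 = n432 := d12_1 D432 (iv D432) F764
theorem F1366 : act 2 n432 = n233 := d17_1 D432 (iv D233) D232
theorem F1367 : act 4 n432 = n248 := d24_1 D432 (iv D248) (iv F765)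
theorem F1368 : act 5 n432 = n268 := d26_1 D432 (iv D268) (iv F766)
def n433 : Q := act 3 n233
theorem D433 : act 3 n233 = n433 := rfl
theorem F1369 : act 1 n433 = n234 := d8_1 D433 (iv D234) (iv F767)
theorem F1370 : act 5 n433 = n269 := d19_2 (iv F769) D433 (iv D269)
def n434 : Q := act 6 n233
theorem D434 : act 6 n233 = n434 := rfl
theorem F1371 : act 1 n434 = n235 := d11_1 D434 (iv D235) (iv F767)
theorem F1372 : act 4 n434 = n250 := d23_1 D434 (iv D250) (iv F768)
def n435 : Q := act 2 n234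
theorem D435 : act 2 n234 = n435 := rfl
theorem F1373 : act 3 n435 = n435 := d13_2 D234 D435 (iv D435) (iv D234) F439
theorem F1374 : act 5 n435 = n236 := d15_2 (iv F770) D435 (iv D236)
def n436 : Q := act 4 n234
theorem D436 : act 4 n234 = n436 := rfl
theorem F1375 : act 3 n436 = n252 := d18_1 D436 (iv D252) (iv D134) (iv F440) D234
theorem F1376 : act 5 n436 = n237 := d22_2 (iv F770) D436 (iv D237)
def n437 : Q := act 6 n234
theorem D437 : act 6 n234 = n437 := rfl
theorem F1377 : act 3 n437 = n235 := d20_1 D437 (iv D235) D234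
theorem F1378 : act 5 n437 = n437 := d25_1 D437 (iv D437) F770 F443 (iv F770)
def n438 : Q := act 1 n236
theorem D438 : act 1 n236 = n438 := rfl
theorem F1379 : act 2 n438 = n274 := d7_2 D236 D438 (iv D274) (iv D148) (iv F442)
theorem F1380 : act 3 n438 = n438 := d8_2 F774 D438 (iv D438)
theorem F1381 : act 6 n438 = n438 := d11_2 F775 D438 (iv D438)
def n439 : Q := act 4 n236
theorem D439 : act 4 n236 = n439 := rfl
theorem F1382 : act 2 n439 = n237 := d14_1 D439 (iv D237) D236
theorem F1383 : act 6 n439 = n439 := d23_2 F775 D439 (iv D439)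
def n440 : Q := act 2 n238
theorem D440 : act 2 n238 = n440 := rfl
theorem F1384 : act 0 n440 = n239 := d1_1 D440 (iv D239) D238
theorem F1385 : act 5 n440 = n440 := d15_2 F780 D440 (iv D440)
theorem F1386 : act 6 n440 = n245 := d16_2 (iv F781) D440 (iv D245)
def n441 : Q := act 7 n238
theorem D441 : act 7 n238 = n441 := rfl
theorem F1387 : act 0 n441 = n240 := d6_1 D441 (iv D240) D238
theorem F1388 : act 5 n441 = n441 := d26_1 D441 (iv D441) F780
def n442 : Q := act 3 n239
theorem D442 : act 3 n239 = n442 := rfl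
theorem F1389 : act 1 n442 = n442 := d8_1 D442 (iv D442) F782
theorem F1390 : act 2 n442 = n442 := d13_1 D442 (iv D442) (iv D239) F444 D239
theorem F1391 : act 5 n442 = n442 := d19_2 F783 D442 (iv D442)
theorem F1392 : act 6 n442 = n247 := d20_2 (iv F784) D442 (iv D247)
theorem F1393 : act 7 n442 = n442 := d29_9 D2 D4 D8 D17 D35 D68 D128 D239 D442 (iv D442) (iv D239) (iv D128) (iv D68) (iv D35) (iv D17) (iv D8) (iv D4) (iv D2) (iv D1) F4 F3 F2 F6 F7 F6 F2 F3 F4 D1
theorem E1 : n321 = n72 := (c30_22 D35 D68 D128 D239 D442 F1393 F1392 F804 F512 F331 (iv D53) F115 F114 F113 F111 (iv D28) (iv F100) D50 D95 D175 F584 (iv F1019) (iv D72) (iv D37) (iv D18) D17 F71 F72 F73 F74)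
theorem E2 : n175 = n136 := (((D136).symm.trans (sb E1 F1019))).symm
theorem E3 : n174 = n134 := ((((iv F458)).symm.trans (sb E1 (iv D321)))).symm
theorem E4 : n315 = n211 := ((((iv F704)).symm.trans (sb E2 (iv F1003)))).symm
theorem E5 : n302 = n254 := (((D254).symm.trans (sb E2 (iv F962)))).symm
theorem E6 : n251 = n95 := (((iv F813)).symm.trans (sb E2 (iv D175)))
theorem E7 : n314 = n209 := ((((iv F698)).symm.trans (sb E3 (iv F1000)))).symm
theorem E8 : n284 = n249 := ((((iv F808)).symm.trans (sb E3 (iv F905)))).symm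
theorem E9 : n320 = n71 := ((((iv D134)).symm.trans (sb E3 (iv F1018)))).symm
theorem E10 : n299 = n252 := (((D252).symm.trans (sb E3 (iv F953)))).symm
theorem E11 : n253 = n94 := ((D253).symm.trans (sb E3 (iv D174)))
theorem E12 : n388 = n170 := (((iv F1239)).symm.trans (sb E4 (iv D315)))
theorem F1394 : act 5 n254 = n163 := (sb E5 (iv D302))
theorem F1395 : act 2 n95 = n134 := (sb E6 (iv D251))
theorem F1396 : act 5 n95 = n136 := (sb E6 F813)
theorem E13 : n390 = n169 := ((D390).symm.trans (sb E7 (iv D314)))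
theorem F1397 : act 2 n249 = n155 := (sb E8 F906)
theorem F1398 : act 6 n249 = n153 := (sb E8 (iv D284))
theorem E14 : n173 = n135 := (((D135).symm.trans (sb E9 (iv D320)))).symm
theorem F1399 : act 2 n252 = n163 := (sb E10 F952)
theorem F1400 : act 6 n252 = n161 := (sb E10 (iv D299))
theorem F1401 : act 6 n94 = n134 := (sb E11 (iv D253))
theorem F1402 : act 2 n170 = n209 := (sb E12 (iv D388))
theorem F1403 : act 5 n170 = n211 := (sb E12 F1239)
theorem E15 : n313 = n210 := ((D313).symm.trans (sb E13 F1245))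
theorem F1404 : act 6 n169 = n209 := (sb E13 (iv D390))
theorem E16 : n283 = n250 := ((((iv F811)).symm.trans (sb E14 (iv F904)))).symm
theorem F1405 : act 3 n135 = n94 := (sb E14 (iv D173))
theorem E18 : n317 = n242 := ((((iv F791)).symm.trans (sb E14 (iv F1012)))).symm
theorem F1406 : act 3 n210 = n169 := (sb E15 (iv D313))
theorem F1407 : act 3 n250 = n153 := (sb E16 (iv D283))
theorem F1408 : act 3 n242 = n172 := (sb E18 (iv D317))
theorem F1409 : act 3 n312 = n379 := d2_2 F1408 (iv F994) F1211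
theorem E19 : n318 = n241 := (c20_3 D242 F1408 D318 (iv D241))
theorem F1410 : act 2 n241 = n181 := (sb E19 F1013)
theorem F1411 : act 6 n241 = n172 := (sb E19 (iv D318))
theorem E20 : n405 = n65 := (c31_30 D123 D229 F758 F447 D242 F1408 F579 (iv D172) D171 F575 F350 F348 F349 D180 F604 (iv F578) (iv F1411) (iv D241) F448 (iv D69) (iv F243) F242 (iv D65) (iv F233) (iv D62) D64 F240 (iv F414) D219 (iv F1297))
theorem E21 : n219 = n118 := ((((iv F417)).symm.trans (sb E20 F1297))).symm
theorem E23 : n341 = n187 := ((((iv F628)).symm.trans (sb E21 (iv F1089)))).symm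
theorem E24 : n214 = n122 := (((iv F716)).symm.trans (sb E21 F732))
theorem E26 : n117 = n62 := ((((iv D118)).symm.trans (sb E21 (iv D219)))).symm
theorem E27 : n403 = n221 := (((D221).symm.trans (sb E21 (iv F1290)))).symm
theorem E31 : n336 = n191 := (((iv F1072)).symm.trans (sb E23 F1090))
theorem E32 : n185 = n101 := ((((iv D187)).symm.trans (sb E23 (iv D341)))).symm
theorem F1412 : act 2 n122 = n118 := (sb E24 F716)
theorem E34 : n396 = n227 := (((D227).symm.trans (sb E24 D396))).symm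
theorem E35 : n115 = n64 := ((((iv D122)).symm.trans (sb E24 (iv D214)))).symm
theorem E36 : n397 = n226 := ((((iv F751)).symm.trans (sb E24 D397))).symm
theorem E38 : n119 = n61 := ((D119).symm.trans (sb E26 (iv D117)))
theorem E39 : n410 = n217 := ((D410).symm.trans (sb E27 (iv D403)))
theorem F1413 : act 2 n191 = n187 := (sb E31 F1072)
theorem E40 : n183 = n103 := ((((iv D191)).symm.trans (sb E31 (iv D336)))).symm
theorem E41 : n334 = n186 := (((D186).symm.trans (sb E32 (iv F1066)))).symm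
theorem E43 : n188 = n100 := ((D188).symm.trans (sb E32 (iv D185)))
theorem F1414 : act 2 n227 = n220 := (sb E34 F1268)
theorem E45 : n411 = n216 := (((iv F1313)).symm.trans (sb E34 F1271))
theorem F1415 : act 2 n64 = n62 := (sb E35 F406)
theorem F1416 : act 2 n226 = n221 := (sb E36 F1272)
theorem F1417 : act 5 n61 = n64 := (sb E38 F422)
theorem F1418 : act 7 n61 = n62 := (sb E38 (iv D119))
theorem F1419 : act 6 n217 = n221 := (sb E39 (iv D410))
theorem F1420 : act 2 n103 = n101 := (sb E40 F614)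
theorem E50 : n342 = n186 := ((D342).symm.trans (sb E41 (tr F1067 E41)))
theorem E51 : n344 = n182 := ((D344).symm.trans (sb E41 (iv D334)))
theorem F1421 : act 5 n100 = n103 := (sb E43 F634)
theorem F1422 : act 7 n100 = n101 := (sb E43 (iv D188))
theorem F1423 : act 6 n216 = n227 := (sb E45 F1313)
theorem F1424 : act 2 n186 = n186 := (sb E50 (iv D342))
theorem E54 : n332 = n182 := ((D332).symm.trans (sb E51 (tr F1103 E51)))
theorem F1425 : act 7 n182 = n186 := (sb E51 (iv D344))
theorem F1426 : act 5 n182 = n182 := (sb E54 (iv D332))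
theorem E55 : n353 = n192 := (c13_5 (iv F625) F1424 F625 D192 D353 (iv D192))
theorem F1427 : act 3 n192 = n192 := (sb E55 (iv D353))
theorem F1428 : act 2 n343 = n343 := d16_3 (iv D343) F1424 D343
theorem F1429 : act 3 n354 = n354 := d13_4 (iv F1097) F1428 F1097 (iv F1134) F1134
theorem F1430 : act 4 n368 = n368 := d18_4 (iv F1135) F1429 F1135 (iv F1180) F1180
theorem E56 : n367 = n199 := (c23_4 D368 F1430 (iv D368) D367)
theorem F1431 : act 4 n199 = n199 := (sb E56 (iv D367))
theorem F1432 : act 4 n369 = n369 := d24_3 (iv D369) F1431 D369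
theorem F1433 : act 6 n352 = n338 := d5_2 F1423 (iv F1126) F1079
theorem F1434 : act 6 n421 = n400 := d11_2 F1423 D421 (iv D400)
theorem F1435 : act 2 n345 = n352 := d16_3 F1433 F1080 (iv F1107)
theorem F1436 : act 6 n346 = n339 := d27_3 F1422 D187 D346 (iv D339) (iv D184)
theorem F1437 : act 2 n351 = n346 := d16_3 F1436 F1084 D351
theorem F1438 : act 6 n312 = n378 := d31_22 (iv D101) D103 F367 F1420 D187 F629 D194 D358 F1147 F686 D379 (iv F1409) F996 (iv D312) D311 F991 F599 F597 F598 D327 F1041 (iv F995) (iv D378) F687 (iv D111) (iv F374) F373 (iv D105) (iv F358)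
theorem F1439 : act 2 n378 = n328 := d16_1 F1438 (iv D328) (iv F995)
theorem F1440 : act 5 n328 = n380 := d15_2 (iv F1209) F1439 (iv D380)
theorem E57 : n331 = n243 := ((c4_2 F1440 F1215 (iv D331) (iv F1043))).symm
theorem F1441 : act 5 n243 = n181 := (sb E57 (iv D331))
theorem F1442 : act 6 n409 = n402 := d20_2 F1419 D409 (iv D402)
theorem F1443 : act 2 n408 = n420 := d15_3 (iv D420) F1416 (iv F1305)
theorem F1444 : act 3 n310 = n387 := d8_2 F1406 (iv F988) F1236
theorem F1445 : act 6 n386 = n310 := d20_0 F1444 (iv D387) D386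
theorem F1446 : act 2 n386 = n386 := d16_3 F1445 F989 (iv F1445)
theorem F1447 : act 3 n385 = n385 := d13_4 D386 F1446 (iv D386) (iv F1231) F1231
theorem F1448 : act 7 n384 = n384 := d21_4 D385 F1447 (iv D385) D384 (iv D384)
theorem F1449 : act 6 n369 = n369 := d29_24 (iv D199) (iv D108) (iv D57) (iv D30) D31 D59 D112 D207 D384 F1448 (iv D384) (iv D207) (iv D112) (iv D59) (iv D31) D30 D57 D108 D199 D369 F1184 F1183 F1182 F1185 F1185 F1182 F1183 F1184 (iv D369)
theorem F1450 : act 7 n368 = n368 := d27_4 D369 F1449 (iv D369) D368 (iv D368)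
theorem F1451 : act 3 n371 = n371 := d21_3 F1450 F1180 D371 (iv D371) (iv F1180)
theorem E58 : n370 = n176 := (c30_14 (iv F393) (iv D110) (iv F388) (iv F676) (iv F1180) F1450 (iv D368) F673 F671 F672 (iv D199) F386 D200 D370 F589 (iv F565) (iv D168) D169 F1404 F699 F403 D211 F705 F707 F706 (iv F1403) F572 F1402 (iv D209) (iv D113))
theorem E59 : n322 = n201 := ((D322).symm.trans (sb E58 F1187))
theorem E60 : n324 = n200 := ((D324).symm.trans (sb E58 (iv D370)))
theorem F1452 : act 2 n201 = n176 := (sb E59 (iv D322))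
theorem E61 : n368 = n177 := (((iv F1180)).symm.trans (sb E60 F1031))
theorem F1453 : act 5 n200 = n176 := (sb E60 (iv D324))
theorem F1454 : act 3 n177 = n200 := (sb E61 F1180)
theorem E62 : n326 = n199 := ((D326).symm.trans (sb E61 (iv D368)))
theorem F1455 : act 6 n199 = n177 := (sb E62 (iv D326))
theorem F1456 : act 5 n391 = n391 := d30_13 F1455 (iv D177) (iv D96) (iv D52) (iv F184) D92 D170 F1403 D391 F1248 F1249 F1251 F1250 (iv D391) (iv D211) (iv D114) (iv D60) (iv D31) D30 D57 D108 D199 D369 F1449 F1185 F1182 F1183 F1184 (iv D369)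
theorem F1457 : act 5 n371 = n325 := d30_7 F342 D177 F592 F593 F1454 D371 F1192 F1033 (iv F995) F1409 F1214 (iv D210) F401 F226 F227 D114 F405 F404 (iv F699) (iv F1233) F1446 (iv D386) (iv D208) (iv F684) (iv F1194) (iv D372) F1452 (iv D176) F343
theorem F1458 : act 2 n325 = n373 := d15_1 F1457 F1197 (iv F1191)
theorem F1459 : act 5 n323 = n354 := d22_2 F1453 D323 F1135
theorem F1460 : act 2 n355 = n323 := d15_3 F1459 F1134 D355
theorem F1461 : act 2 n308 = n372 := d7_4 F1452 F589 (iv F565) (iv F984) (iv D372)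
theorem F1462 : act 5 n376 = n308 := d15_0 F1461 F1194 D376
theorem F1463 : act 3 n309 = n376 := d19_3 F1462 (iv D308) D309
theorem F1464 : act 6 n384 = n309 := d20_0 F1463 F1206 D384
theorem F1465 : act 1 n380 = n380 := d30_14 F1464 (iv D309) (iv D167) (iv D91) F184 F110 F109 F108 F106 D52 D97 D179 D328 F1440 (iv D380) (iv D205) (iv D111) (iv D58) (iv D30) F64 F65 F66 F67 D31 D59 D112 D207 D384 F1448
theorem F1466 : act 2 n374 = n374 := d7_4 D380 F1465 (iv D380) (iv F1199) F1199
theorem F1467 : act 4 n298 = n437 := d18_4 F772 F1405 (iv F541) D298 F1377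
theorem F1468 : act 6 n436 = n298 := d23_0 F1467 (iv D437) D436
theorem F1469 : act 6 n389 = n293 := d23_2 F1404 D389 F934
theorem F1470 : act 2 n295 = n389 := d16_3 F1469 F933 D295
theorem F1471 : act 5 n392 = n295 := d15_0 F1470 F1242 (iv F1253)
theorem E63 : n288 = n285 := (c15_3 (iv F809) F1397 D288 (iv D285))
theorem F1472 : act 5 n285 = n155 := (sb E63 (iv D288))
def n443 : Q := act 7 n239
theorem D443 : act 7 n239 = n443 := rfl
theorem F1473 : act 1 n443 = n443 := d12_1 D443 (iv D443) F782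
theorem F1474 : act 2 n443 = n240 := d17_1 D443 (iv D240) D239
theorem F1475 : act 3 n443 = n443 := d21_1 D443 (iv D443) D442 F1393 (iv D442)
theorem F1476 : act 5 n443 = n443 := d26_1 D443 (iv D443) F783
def n444 : Q := act 3 n240
theorem D444 : act 3 n240 = n444 := rfl
theorem F1477 : act 1 n444 = n241 := d8_1 D444 (iv D241) (iv F785)
theorem F1478 : act 2 n444 = n444 := d13_1 D444 (iv D444) (iv F1474) F1475 F1474
theorem F1479 : act 5 n444 = n444 := d19_2 F786 D444 (iv D444)
theorem F1480 : act 7 n444 = n444 := d21_2 D240 D444 (iv D444) (iv D240) F444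
theorem F1481 : act 6 n282 = n444 := d30_0 F1479 F1477 F1410 F607 F608 (iv D181) F353 F351 (iv F578) (iv F1408) F791 (iv D135) F259 F142 F90 F58 (iv D13) (iv D6) F15 F14 D4 F23 F25 D10 D21 D42 D80 D152 D282
def n445 : Q := act 6 n240
theorem D445 : act 6 n240 = n445 := rfl
theorem F1482 : act 1 n445 = n242 := d11_1 D445 (iv D242) (iv F785)
theorem F1483 : act 3 n445 = n282 := d20_1 D445 F1481 (iv D444)
theorem F1484 : act 7 n445 = n250 := d27_2 D240 D445 (iv D250) (iv D133) (iv F446)
def n446 : Q := act 4 n241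
theorem D446 : act 4 n241 = n446 := rfl
theorem F1485 : act 2 n446 = n330 := d14_1 D446 F1051 (iv F1410)
theorem F1486 : act 5 n446 = n244 := d22_2 (iv F787) D446 (iv D244)
theorem F1487 : act 6 n446 = n316 := d23_2 (iv F1411) D446 F1008
theorem F1488 : act 7 n446 = n446 := d24_2 F788 D446 (iv D446)
def n447 : Q := act 1 n243
theorem D447 : act 1 n243 = n447 := rfl
theorem F1489 : act 0 n447 = n447 := d0_1 D447 (iv D447) (iv F1215) F1465 F1215
theorem F1490 : act 2 n447 = n447 := d7_2 D243 D447 (iv D447) (iv D243) F449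
theorem F1491 : act 3 n447 = n447 := d8_2 F792 D447 (iv D447)
theorem F1492 : act 5 n447 = n447 := d10_2 (iv F1441) D447 (iv D447) F1441 F606
theorem F1493 : act 6 n447 = n447 := d11_2 F793 D447 (iv D447)
theorem F1494 : act 7 n447 = n447 := d12_2 F794 D447 (iv D447)
def n448 : Q := act 4 n243
theorem D448 : act 4 n243 = n448 := rfl
theorem F1495 : act 2 n448 = n244 := d14_1 D448 (iv D244) D243
theorem F1496 : act 5 n448 = n330 := d22_2 (iv F1441) D448 F1051
theorem F1497 : act 6 n448 = n448 := d23_2 F793 D448 (iv D448)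
theorem F1498 : act 7 n448 = n448 := d24_2 F794 D448 (iv D448)
def n449 : Q := act 1 n245
theorem D449 : act 1 n245 = n449 := rfl
theorem F1499 : act 0 n449 = n449 := d0_1 D449 (iv D449) F798 F454 (iv F798)
def n450 : Q := act 3 n245
theorem D450 : act 3 n245 = n450 := rfl
theorem F1500 : act 0 n450 = n247 := d2_1 D450 (iv D247) (iv F798)
theorem F1501 : act 2 n450 = n450 := d13_1 D450 (iv D450) (iv D245) F452 D245
theorem F1502 : act 5 n450 = n277 := d19_2 (iv F799) D450 (iv D277)
def n451 : Q := act 7 n245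
theorem D451 : act 7 n245 = n451 := rfl
theorem F1503 : act 0 n451 = n248 := d6_1 D451 (iv D248) (iv F798)
theorem F1504 : act 2 n451 = n246 := d17_1 D451 (iv D246) D245
theorem F1505 : act 5 n451 = n278 := d26_1 D451 (iv D278) (iv F799)
def n452 : Q := act 3 n246
theorem D452 : act 3 n246 = n452 := rfl
theorem F1506 : act 0 n452 = n249 := d2_1 D452 (iv D249) (iv F800)
theorem F1507 : act 5 n452 = n279 := d19_2 (iv F801) D452 (iv D279)
theorem F1508 : act 7 n452 = n452 := d21_2 D246 D452 (iv D452) (iv D246) F452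
theorem F1509 : act 2 n280 = n452 := d1_0 F1506 F1397 (iv F896)
theorem F1510 : act 6 n278 = n452 := d5_0 F1506 F1398 (iv F891)
def n453 : Q := act 6 n246
theorem D453 : act 6 n246 = n453 := rfl
theorem F1511 : act 0 n453 = n250 := d5_1 D453 (iv D250) (iv F800)
theorem F1512 : act 3 n453 = n278 := d20_1 D453 F1510 (iv D452)
def n454 : Q := act 4 n247
theorem D454 : act 4 n247 = n454 := rfl
theorem F1513 : act 1 n454 = n454 := d9_1 D454 (iv D454) F802
theorem F1514 : act 2 n454 = n454 := d14_1 D454 (iv D454) F803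
theorem F1515 : act 5 n454 = n281 := d22_2 (iv F804) D454 (iv D281)
def n455 : Q := act 7 n247
theorem D455 : act 7 n247 = n455 := rfl
theorem F1516 : act 1 n455 = n455 := d12_1 D455 (iv D455) F802
theorem F1517 : act 2 n455 = n455 := d17_1 D455 (iv D455) F803
theorem F1518 : act 5 n455 = n282 := d26_1 D455 (iv D282) (iv F804)
theorem F1519 : act 6 n455 = n455 := d27_1 D455 (iv D455) (iv F1392) F1393 F1392
def n456 : Q := act 3 n248
theorem D456 : act 3 n248 = n456 := rfl
theorem F1520 : act 1 n456 = n456 := d8_1 D456 (iv D456) F805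
theorem F1521 : act 2 n456 = n287 := d13_1 D456 F913 (iv F1397) (iv D249) (iv F806)
theorem F1522 : act 5 n456 = n250 := d19_2 (iv F807) D456 F1407
theorem F1523 : act 6 n285 = n456 := d25_0 F1522 (iv D250) F457 D155 (iv F1472)
def n457 : Q := act 6 n248
theorem D457 : act 6 n248 = n457 := rfl
theorem F1524 : act 1 n457 = n457 := d11_1 D457 (iv D457) F805
theorem F1525 : act 2 n457 = n250 := d16_1 D457 (iv D250) (iv F806)
theorem F1526 : act 3 n457 = n285 := d20_1 D457 F1523 (iv D456)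
theorem F1527 : act 5 n457 = n287 := d25_1 D457 (iv D287) (iv F809) F1398 (iv F807)
def n458 : Q := act 4 n249
theorem D458 : act 4 n249 = n458 := rfl
theorem F1528 : act 1 n458 = n252 := d9_1 D458 (iv D252) (iv F808)
theorem F1529 : act 2 n458 = n270 := d14_1 D458 F868 (iv F1397)
theorem F1530 : act 5 n458 = n286 := d22_2 (iv F809) D458 (iv D286)
theorem F1531 : act 6 n458 = n268 := d23_2 (iv F1398) D458 F865
theorem F1532 : act 7 n458 = n458 := d24_2 F810 D458 (iv D458)
def n459 : Q := act 3 n254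
theorem D459 : act 3 n254 = n459 := rfl
theorem F1533 : act 1 n459 = n459 := d8_1 D459 (iv D459) F819
theorem F1534 : act 4 n459 = n459 := d18_2 D254 D459 (iv D459) (iv D254) F463
theorem F1535 : act 5 n459 = n301 := d19_2 (iv F1394) D459 F959
theorem F1536 : act 6 n459 = n459 := d20_2 F821 D459 (iv D459)
def n460 : Q := act 2 n255
theorem D460 : act 2 n255 = n460 := rfl
theorem F1537 : act 0 n460 = n256 := d1_1 D460 (iv D256) D255
theorem F1538 : act 4 n460 = n460 := d14_2 F825 D460 (iv D460)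
theorem F1539 : act 6 n460 = n460 := d16_2 F826 D460 (iv D460)
def n461 : Q := act 7 n255
theorem D461 : act 7 n255 = n461 := rfl
theorem F1540 : act 0 n461 = n257 := d6_1 D461 (iv D257) D255
theorem F1541 : act 1 n461 = n461 := d12_1 D461 (iv D461) F823
theorem F1542 : act 4 n461 = n461 := d24_1 D461 (iv D461) F825
def n462 : Q := act 3 n256
theorem D462 : act 3 n256 = n462 := rfl
theorem F1543 : act 1 n462 = n462 := d8_1 D462 (iv D462) F827
theorem F1544 : act 2 n462 = n267 := d13_1 D462 (iv D267) (iv D144) (iv F469) D256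
theorem F1545 : act 6 n462 = n462 := d20_2 F829 D462 (iv D462)
def n463 : Q := act 7 n256
theorem D463 : act 7 n256 = n463 := rfl
theorem F1546 : act 1 n463 = n463 := d12_1 D463 (iv D463) F827
theorem F1547 : act 2 n463 = n257 := d17_1 D463 (iv D257) D256
theorem F1548 : act 4 n463 = n463 := d24_1 D463 (iv D463) F828
def n464 : Q := act 3 n257
theorem D464 : act 3 n257 = n464 := rfl
theorem F1549 : act 1 n464 = n258 := d8_1 D464 (iv D258) (iv F830)
theorem F1550 : act 7 n464 = n269 := d21_2 D257 D464 (iv D269) (iv D145) (iv F469)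
def n465 : Q := act 6 n257
theorem D465 : act 6 n257 = n465 := rfl
theorem F1551 : act 1 n465 = n259 := d11_1 D465 (iv D259) (iv F830)
theorem F1552 : act 4 n465 = n465 := d23_1 D465 (iv D465) F831
theorem F1553 : act 7 n465 = n465 := d27_2 D257 D465 (iv D465) (iv D257) F471
def n466 : Q := act 2 n258
theorem D466 : act 2 n258 = n466 := rfl
theorem F1554 : act 0 n466 = n466 := d1_1 D466 (iv D466) F832
theorem F1555 : act 3 n466 = n466 := d13_2 D258 D466 (iv D466) (iv D258) F473
theorem F1556 : act 5 n466 = n260 := d15_2 (iv F833) D466 (iv D260)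
theorem F1557 : act 7 n466 = n271 := d17_2 (iv F834) D466 (iv D271)
def n467 : Q := act 4 n258
theorem D467 : act 4 n258 = n467 := rfl
theorem F1558 : act 0 n467 = n467 := d3_1 D467 (iv D467) F832
theorem F1559 : act 3 n467 = n467 := d18_1 D467 (iv D467) (iv D258) F474 D258
theorem F1560 : act 5 n467 = n261 := d22_2 (iv F833) D467 (iv D261)
theorem F1561 : act 7 n467 = n272 := d24_2 (iv F834) D467 (iv D272)
theorem F1562 : act 6 n466 = n467 := d31_4 (iv F875) (iv F1561) (iv D467) D466 F1559 F1560 F844 (iv D149) D148 F504 F503 (iv F552) F553 F551 (iv D164) D165 F555 F318 F319 F317 (iv F294) (iv D83) D82 F291 F170 D84 F298 F299 (iv F506)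
def n468 : Q := act 6 n258
theorem D468 : act 6 n258 = n468 := rfl
theorem F1563 : act 0 n468 = n468 := d5_1 D468 (iv D468) F832
theorem F1564 : act 2 n468 = n467 := d16_1 D468 (iv F1562) (iv D466)
theorem F1565 : act 3 n468 = n259 := d20_1 D468 (iv D259) D258
theorem F1566 : act 4 n468 = n466 := d23_1 D468 F1562 (iv D467)
def n469 : Q := act 5 n259
theorem D469 : act 5 n259 = n469 := rfl
theorem F1567 : act 0 n469 = n469 := d4_1 D469 (iv D469) F835
theorem F1568 : act 2 n469 = n469 := d15_1 D469 (iv D469) F836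
theorem F1569 : act 4 n469 = n469 := d22_1 D469 (iv D469) F837
theorem F1570 : act 6 n469 = n263 := d25_2 D259 D469 (iv D263) (iv D141) (iv F475)
theorem F1571 : act 7 n469 = n469 := d26_2 F838 D469 (iv D469)
def n470 : Q := act 1 n260
theorem D470 : act 1 n260 = n470 := rfl
theorem F1572 : act 3 n470 = n470 := d8_2 F840 D470 (iv D470)
theorem F1573 : act 7 n470 = n274 := d12_2 (iv F841) D470 (iv D274)
def n471 : Q := act 4 n260
theorem D471 : act 4 n260 = n471 := rfl
theorem F1574 : act 0 n471 = n471 := d3_1 D471 (iv D471) F839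
theorem F1575 : act 2 n471 = n261 := d14_1 D471 (iv D261) D260
theorem F1576 : act 5 n471 = n468 := d22_2 F1556 D471 F1566
theorem F1577 : act 7 n471 = n275 := d24_2 (iv F841) D471 (iv D275)
theorem F1578 : act 3 n469 = n471 := d19_3 F1576 F1565 D469
def n472 : Q := act 6 n260
theorem D472 : act 6 n260 = n472 := rfl
theorem F1579 : act 0 n472 = n472 := d5_1 D472 (iv D472) F839
theorem F1580 : act 2 n472 = n262 := d16_1 D472 (iv D262) D260
theorem F1581 : act 3 n472 = n472 := d20_1 D472 (iv D472) F840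
theorem F1582 : act 7 n472 = n472 := d27_2 (iv F841) D472 (iv D472) F841 F504
def n473 : Q := act 6 n261
theorem D473 : act 6 n261 = n473 := rfl
theorem F1583 : act 0 n473 = n473 := d5_1 D473 (iv D473) F842
theorem F1584 : act 3 n473 = n473 := d20_1 D473 (iv D473) F843
theorem F1585 : act 4 n473 = n262 := d23_1 D473 (iv D262) D261
theorem F1586 : act 5 n473 = n472 := d25_1 D473 (iv D472) (iv F1556) F1562 F1560
theorem F1587 : act 7 n473 = n473 := d27_2 (iv F844) D473 (iv D473) F844 F507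
def n474 : Q := act 5 n262
theorem D474 : act 5 n262 = n474 := rfl
theorem F1588 : act 0 n474 = n474 := d4_1 D474 (iv D474) F845
theorem F1589 : act 2 n474 = n473 := d15_1 D474 F1586 F1580
theorem F1590 : act 3 n474 = n263 := d19_1 D474 (iv D263) (iv F846)
theorem F1591 : act 4 n474 = n472 := d22_1 D474 (iv F1586) F1585
theorem F1592 : act 6 n474 = n471 := d25_2 D262 D474 F1576 (iv D468) F833
theorem F1593 : act 7 n474 = n474 := d26_2 F847 D474 (iv D474)
def n475 : Q := act 1 n263
theorem D475 : act 1 n263 = n475 := rfl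
theorem F1594 : act 4 n475 = n475 := d9_2 F850 D475 (iv D475)
theorem F1595 : act 7 n475 = n264 := d12_2 (iv F851) D475 (iv D264)
def n476 : Q := act 0 n264
theorem D476 : act 0 n264 = n476 := rfl
theorem F1596 : act 1 n476 = n476 := d0_2 D264 D476 (iv D476) (iv D264) F482
theorem F1597 : act 3 n476 = n476 := d2_2 F852 D476 (iv D476)
theorem F1598 : act 4 n476 = n476 := d3_2 F853 D476 (iv D476)
theorem F1599 : act 6 n476 = n476 := d5_2 F854 D476 (iv D476)
def n477 : Q := act 2 n264
theorem D477 : act 2 n264 = n477 := rfl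
theorem F1600 : act 1 n477 = n477 := d7_1 D477 (iv D477) (iv D264) F483 D264
theorem F1601 : act 4 n477 = n477 := d14_2 F853 D477 (iv D477)
theorem F1602 : act 6 n477 = n477 := d16_2 F854 D477 (iv D477)
def n478 : Q := act 1 n265
theorem D478 : act 1 n265 = n478 := rfl
theorem F1603 : act 0 n478 = n291 := d0_1 D478 (iv D291) F529 (iv F490) (iv F855)
theorem F1604 : act 2 n478 = n478 := d7_2 D265 D478 (iv D478) (iv D265) F487
theorem F1605 : act 4 n478 = n276 := d9_2 (iv F856) D478 (iv D276)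
theorem F1606 : act 6 n478 = n478 := d11_2 F857 D478 (iv D478)
def n479 : Q := act 3 n265
theorem D479 : act 3 n265 = n479 := rfl
theorem F1607 : act 0 n479 = n267 := d2_1 D479 (iv D267) (iv F855)
theorem F1608 : act 6 n479 = n479 := d20_2 F857 D479 (iv D479)
def n480 : Q := act 7 n265
theorem D480 : act 7 n265 = n480 := rfl
theorem F1609 : act 0 n480 = n268 := d6_1 D480 (iv D268) (iv F855)
theorem F1610 : act 2 n480 = n266 := d17_1 D480 (iv D266) D265
theorem F1611 : act 4 n480 = n278 := d24_1 D480 (iv D278) (iv F856)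
def n481 : Q := act 3 n266
theorem D481 : act 3 n266 = n481 := rfl
theorem F1612 : act 0 n481 = n269 := d2_1 D481 (iv D269) (iv F858)
theorem F1613 : act 1 n481 = n481 := d8_1 D481 (iv D481) F859
def n482 : Q := act 6 n266
theorem D482 : act 6 n266 = n482 := rfl
theorem F1614 : act 0 n482 = n270 := d5_1 D482 (iv D270) (iv F858)
theorem F1615 : act 1 n482 = n482 := d11_1 D482 (iv D482) F859
theorem F1616 : act 4 n482 = n280 := d23_1 D482 (iv D280) (iv F860)
theorem F1617 : act 7 n482 = n482 := d27_2 D266 D482 (iv D482) (iv D266) F489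
def n483 : Q := act 4 n267
theorem D483 : act 4 n267 = n483 := rfl
theorem F1618 : act 1 n483 = n296 := d9_1 D483 (iv D296) (iv F861)
theorem F1619 : act 3 n483 = n281 := d18_1 D483 (iv D281) (iv D152) (iv F491) D267
theorem F1620 : act 6 n483 = n483 := d23_2 F862 D483 (iv D483)
def n484 : Q := act 7 n267
theorem D484 : act 7 n267 = n484 := rfl
theorem F1621 : act 1 n484 = n297 := d12_1 D484 (iv D297) (iv F861)
def n485 : Q := act 3 n268
theorem D485 : act 3 n268 = n485 := rfl
theorem F1622 : act 1 n485 = n298 := d8_1 D485 (iv D298) (iv F863)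
def n486 : Q := act 2 n269
theorem D486 : act 2 n269 = n486 := rfl
def n487 : Q := act 4 n269
theorem D487 : act 4 n269 = n487 := rfl
theorem F1623 : act 1 n487 = n272 := d9_1 D487 (iv D272) (iv F866)
theorem F1624 : act 3 n487 = n286 := d18_1 D487 (iv D286) (iv D154) (iv F494) D269
def n488 : Q := act 6 n269
theorem D488 : act 6 n269 = n488 := rfl
theorem F1625 : act 1 n488 = n273 := d11_1 D488 (iv D273) (iv F866)
theorem F1626 : act 3 n488 = n270 := d20_1 D488 (iv D270) D269
def n489 : Q := act 5 n270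
theorem D489 : act 5 n270 = n489 := rfl
theorem F1627 : act 1 n489 = n489 := d10_1 D489 (iv D489) F867 F500 (iv F867)
theorem F1628 : act 2 n489 = n286 := d15_1 D489 (iv F1530) F1529
theorem F1629 : act 4 n489 = n285 := d22_1 D489 F1472 (iv F868)
theorem F1630 : act 7 n489 = n489 := d26_2 F869 D489 (iv D489)
def n490 : Q := act 1 n271
theorem D490 : act 1 n271 = n490 := rfl
theorem F1631 : act 3 n490 = n303 := d8_2 (iv F871) D490 (iv D303)
def n491 : Q := act 4 n271
theorem D491 : act 4 n271 = n491 := rfl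
theorem F1632 : act 0 n491 = n491 := d3_1 D491 (iv D491) F870
theorem F1633 : act 2 n491 = n272 := d14_1 D491 (iv D272) D271
theorem F1634 : act 3 n491 = n491 := d18_1 D491 (iv D491) F871 F551 (iv F871)
theorem F1635 : act 5 n491 = n275 := d22_2 (iv F872) D491 (iv D275)
theorem F1636 : act 7 n491 = n468 := d24_2 F1557 D491 F1566
def n492 : Q := act 6 n271
theorem D492 : act 6 n271 = n492 := rfl
theorem F1637 : act 0 n492 = n492 := d5_1 D492 (iv D492) F870
theorem F1638 : act 2 n492 = n273 := d16_1 D492 (iv D273) D271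
theorem F1639 : act 3 n492 = n304 := d20_1 D492 (iv D304) (iv F871)
theorem F1640 : act 5 n492 = n492 := d25_1 D492 (iv D492) F872 F504 (iv F872)
def n493 : Q := act 6 n272
theorem D493 : act 6 n272 = n493 := rfl
theorem F1641 : act 0 n493 = n493 := d5_1 D493 (iv D493) F873
theorem F1642 : act 3 n493 = n289 := d20_1 D493 (iv D289) (iv F874)
theorem F1643 : act 4 n493 = n273 := d23_1 D493 (iv D273) D272
theorem F1644 : act 5 n493 = n493 := d25_1 D493 (iv D493) F875 F507 (iv F875)
theorem F1645 : act 7 n493 = n492 := d27_2 F1561 D493 (iv D492) (iv F1557) F1562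
def n494 : Q := act 7 n273
theorem D494 : act 7 n273 = n494 := rfl
theorem F1646 : act 0 n494 = n494 := d6_1 D494 (iv D494) F876
theorem F1647 : act 2 n494 = n493 := d17_1 D494 F1645 F1638
theorem F1648 : act 3 n494 = n494 := d21_1 D494 (iv D494) F877 F501 (iv F877)
theorem F1649 : act 4 n494 = n492 := d24_1 D494 (iv F1645) F1643
theorem F1650 : act 5 n494 = n494 := d26_1 D494 (iv D494) F878
theorem F1651 : act 6 n494 = n491 := d27_1 D494 F1636 (iv D468) F834 D273
def n495 : Q := act 0 n274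
theorem D495 : act 0 n274 = n495 := rfl
theorem F1652 : act 1 n495 = n495 := d0_2 D274 D495 (iv D495) (iv D274) F502
theorem F1653 : act 3 n495 = n306 := d2_2 (iv F879) D495 (iv D306)
theorem F1654 : act 6 n495 = n495 := d5_2 F880 D495 (iv D495)
def n496 : Q := act 4 n274
theorem D496 : act 4 n274 = n496 := rfl
theorem F1655 : act 1 n496 = n275 := d9_1 D496 (iv D275) D274
theorem F1656 : act 3 n496 = n496 := d18_1 D496 (iv D496) F879 F559 (iv F879)
theorem F1657 : act 6 n496 = n496 := d23_2 F880 D496 (iv D496)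
def n497 : Q := act 5 n274
theorem D497 : act 5 n274 = n497 := rfl
theorem F1658 : act 3 n497 = n307 := d19_1 D497 (iv D307) (iv F879)
def n498 : Q := act 3 n276
theorem D498 : act 3 n276 = n498 := rfl
theorem F1659 : act 0 n498 = n308 := d2_1 D498 (iv D308) (iv F885)
theorem F1660 : act 1 n498 = n277 := d8_1 D498 (iv D277) D276
theorem F1661 : act 6 n498 = n498 := d20_2 F887 D498 (iv D498)
def n499 : Q := act 5 n276
theorem D499 : act 5 n276 = n499 := rfl
theorem F1662 : act 0 n499 = n309 := d4_1 D499 (iv D309) (iv F885)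
theorem F1663 : act 2 n499 = n499 := d15_1 D499 (iv D499) F886
def n500 : Q := act 7 n276
theorem D500 : act 7 n276 = n500 := rfl
theorem F1664 : act 0 n500 = n310 := d6_1 D500 (iv D310) (iv F885)
theorem F1665 : act 1 n500 = n278 := d12_1 D500 (iv D278) D276
theorem F1666 : act 2 n500 = n500 := d17_1 D500 (iv D500) F886
def n501 : Q := act 4 n277
theorem D501 : act 4 n277 = n501 := rfl
theorem F1667 : act 0 n501 = n281 := d3_1 D501 (iv D281) (iv F888)
theorem F1668 : act 2 n501 = n501 := d14_1 D501 (iv D501) F889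
theorem F1669 : act 6 n501 = n501 := d23_2 F890 D501 (iv D501)
def n502 : Q := act 7 n277
theorem D502 : act 7 n277 = n502 := rfl
theorem F1670 : act 0 n502 = n282 := d6_1 D502 (iv D282) (iv F888)
theorem F1671 : act 2 n502 = n502 := d17_1 D502 (iv D502) F889
def n503 : Q := act 2 n279
theorem D503 : act 2 n279 = n503 := rfl
theorem F1672 : act 0 n503 = n285 := d1_1 D503 (iv D285) (iv F893)
theorem F1673 : act 5 n503 = n280 := d15_2 F1507 D503 F1509
theorem F1674 : act 7 n503 = n503 := d17_2 F895 D503 (iv D503)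
def n504 : Q := act 4 n279
theorem D504 : act 4 n279 = n504 := rfl
theorem F1675 : act 0 n504 = n286 := d3_1 D504 (iv D286) (iv F893)
theorem F1676 : act 1 n504 = n504 := d9_1 D504 (iv D504) F894
theorem F1677 : act 7 n504 = n504 := d24_2 F895 D504 (iv D504)
def n505 : Q := act 6 n279
theorem D505 : act 6 n279 = n505 := rfl
theorem F1678 : act 0 n505 = n287 := d5_1 D505 (iv D287) (iv F893)
theorem F1679 : act 1 n505 = n505 := d11_1 D505 (iv D505) F894
theorem F1680 : act 3 n505 = n280 := d20_1 D505 (iv D280) D279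
def n506 : Q := act 7 n281
theorem D506 : act 7 n281 = n506 := rfl
theorem F1681 : act 1 n506 = n316 := d12_1 D506 (iv D316) (iv F899)
theorem F1682 : act 2 n506 = n506 := d17_1 D506 (iv D506) F900
theorem F1683 : act 4 n506 = n282 := d24_1 D506 (iv D282) D281
def n507 : Q := act 6 n286
theorem D507 : act 6 n286 = n507 := rfl
theorem F1684 : act 1 n507 = n289 := d11_1 D507 (iv D289) (iv F910)
theorem F1685 : act 4 n507 = n287 := d23_1 D507 (iv D287) D286
def n508 : Q := act 7 n287
theorem D508 : act 7 n287 = n508 := rfl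
theorem F1686 : act 1 n508 = n290 := d12_1 D508 (iv D290) (iv F912)
theorem F1687 : act 3 n508 = n508 := d21_1 D508 (iv D508) F913 F520 (iv F913)
theorem F1688 : act 6 n508 = n508 := d27_1 D508 (iv D508) (iv D287) F518 D287
def n509 : Q := act 7 n289
theorem D509 : act 7 n289 = n509 := rfl
theorem F1689 : act 0 n509 = n509 := d6_1 D509 (iv D509) F916
theorem F1690 : act 2 n509 = n509 := d17_1 D509 (iv D509) F917
theorem F1691 : act 4 n509 = n290 := d24_1 D509 (iv D290) (iv F918)
theorem F1692 : act 5 n509 = n509 := d26_1 D509 (iv D509) F919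
theorem F1693 : act 6 n509 = n509 := d27_1 D509 (iv D509) (iv D289) F524 D289
def n510 : Q := act 3 n291
theorem D510 : act 3 n291 = n510 := rfl
theorem F1694 : act 1 n510 = n292 := d8_1 D510 (iv D292) D291
theorem F1695 : act 6 n510 = n510 := d20_2 F927 D510 (iv D510)
def n511 : Q := act 5 n291
theorem D511 : act 5 n291 = n511 := rfl
theorem F1696 : act 1 n511 = n511 := d10_1 D511 (iv D511) (iv D291) F531 D291
theorem F1697 : act 2 n511 = n511 := d15_1 D511 (iv D511) F925
theorem F1698 : act 4 n511 = n309 := d22_1 D511 (iv D309) (iv F926)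
def n512 : Q := act 7 n291
theorem D512 : act 7 n291 = n512 := rfl
theorem F1699 : act 1 n512 = n293 := d12_1 D512 (iv D293) D291
theorem F1700 : act 2 n512 = n512 := d17_1 D512 (iv D512) F925
theorem F1701 : act 4 n512 = n310 := d24_1 D512 (iv D310) (iv F926)
def n513 : Q := act 4 n292
theorem D513 : act 4 n292 = n513 := rfl
theorem F1702 : act 0 n513 = n296 := d3_1 D513 (iv D296) (iv F928)
theorem F1703 : act 2 n513 = n513 := d14_1 D513 (iv D513) F929
theorem F1704 : act 3 n513 = n311 := d18_1 D513 (iv D311) (iv D168) (iv F530) D292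
theorem F1705 : act 5 n513 = n513 := d22_2 F930 D513 (iv D513)
theorem F1706 : act 6 n513 = n513 := d23_2 F931 D513 (iv D513)
def n514 : Q := act 7 n292
theorem D514 : act 7 n292 = n514 := rfl
theorem F1707 : act 0 n514 = n297 := d6_1 D514 (iv D297) (iv F928)
theorem F1708 : act 2 n514 = n514 := d17_1 D514 (iv D514) F929
theorem F1709 : act 5 n514 = n514 := d26_1 D514 (iv D514) F930
def n515 : Q := act 3 n293
theorem D515 : act 3 n293 = n515 := rfl
theorem F1710 : act 0 n515 = n298 := d2_1 D515 (iv D298) (iv F932)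
theorem F1711 : act 5 n515 = n515 := d19_2 F935 D515 (iv D515)
def n516 : Q := act 2 n294
theorem D516 : act 2 n294 = n516 := rfl
theorem F1712 : act 0 n516 = n300 := d1_1 D516 (iv D300) (iv F936)
theorem F1713 : act 4 n516 = n516 := d14_2 F938 D516 (iv D516)
theorem F1714 : act 5 n516 = n516 := d15_2 F939 D516 (iv D516)
theorem F1715 : act 7 n516 = n516 := d17_2 F940 D516 (iv D516)
def n517 : Q := act 6 n294
theorem D517 : act 6 n294 = n517 := rfl
theorem F1716 : act 0 n517 = n301 := d5_1 D517 (iv D301) (iv F936)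
theorem F1717 : act 1 n517 = n517 := d11_1 D517 (iv D517) F937
theorem F1718 : act 3 n517 = n295 := d20_1 D517 (iv D295) D294
theorem F1719 : act 4 n517 = n517 := d23_1 D517 (iv D517) F938
def n518 : Q := act 7 n296
theorem D518 : act 7 n296 = n518 := rfl
theorem F1720 : act 2 n518 = n518 := d17_1 D518 (iv D518) F945
theorem F1721 : act 4 n518 = n297 := d24_1 D518 (iv D297) D296
theorem F1722 : act 5 n518 = n518 := d26_1 D518 (iv D518) F947
def n519 : Q := act 3 n297
theorem D519 : act 3 n297 = n519 := rfl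
theorem F1723 : act 5 n519 = n519 := d19_2 F950 D519 (iv D519)
theorem F1724 : act 7 n519 = n298 := d21_2 D297 D519 (iv D298) (iv D161) D160
def n520 : Q := act 6 n297
theorem D520 : act 6 n297 = n520 := rfl
theorem F1725 : act 2 n520 = n520 := d16_1 D520 (iv D520) F949
theorem F1726 : act 7 n520 = n520 := d27_2 D297 D520 (iv D520) (iv D297) F539
def n521 : Q := act 2 n298
theorem D521 : act 2 n298 = n521 := rfl
theorem F1727 : act 3 n521 = n300 := d13_2 D298 D521 (iv D300) (iv D162) (iv F540)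
theorem F1728 : act 5 n521 = n521 := d15_2 F951 D521 (iv D521)
def n522 : Q := act 1 n300
theorem D522 : act 1 n300 = n522 := rfl
theorem F1729 : act 2 n522 = n303 := d7_2 D300 D522 (iv D303) (iv D164) (iv F543)
theorem F1730 : act 4 n522 = n522 := d9_2 F955 D522 (iv D522)
theorem F1731 : act 7 n522 = n522 := d12_2 F957 D522 (iv D522)
def n523 : Q := act 6 n300
theorem D523 : act 6 n300 = n523 := rfl
theorem F1732 : act 2 n523 = n301 := d16_1 D523 (iv D301) D300
theorem F1733 : act 4 n523 = n523 := d23_1 D523 (iv D523) F955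
def n524 : Q := act 7 n301
theorem D524 : act 7 n301 = n524 := rfl
theorem F1734 : act 1 n524 = n305 := d12_1 D524 (iv D305) (iv F958)
theorem F1735 : act 3 n524 = n524 := d21_1 D524 (iv D524) F959 F549 (iv F959)
theorem F1736 : act 4 n524 = n524 := d24_1 D524 (iv D524) F960
theorem F1737 : act 6 n524 = n524 := d27_1 D524 (iv D524) (iv D301) F546 D301
def n525 : Q := act 0 n303
theorem D525 : act 0 n303 = n525 := rfl
theorem F1738 : act 1 n525 = n525 := d0_2 D303 D525 (iv D525) (iv D303) F550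
theorem F1739 : act 4 n525 = n525 := d3_2 F965 D525 (iv D525)
theorem F1740 : act 7 n525 = n525 := d6_2 F966 D525 (iv D525)
def n526 : Q := act 5 n303
theorem D526 : act 5 n303 = n526 := rfl
theorem F1741 : act 1 n526 = n307 := d10_1 D526 (iv D307) (iv D166) (iv F552) D303
theorem F1742 : act 4 n526 = n526 := d22_1 D526 (iv D526) F965
theorem F1743 : act 7 n526 = n526 := d26_2 F966 D526 (iv D526)
def n527 : Q := act 6 n303
theorem D527 : act 6 n303 = n527 := rfl
theorem F1744 : act 1 n527 = n304 := d11_1 D527 (iv D304) D303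
theorem F1745 : act 4 n527 = n527 := d23_1 D527 (iv D527) F965
def n528 : Q := act 7 n304
theorem D528 : act 7 n304 = n528 := rfl
theorem F1746 : act 0 n528 = n528 := d6_1 D528 (iv D528) F967
theorem F1747 : act 2 n528 = n305 := d17_1 D528 (iv D305) (iv F968)
theorem F1748 : act 3 n528 = n509 := d21_1 D528 (iv D509) (iv F1642) F1645 F1639
theorem F1749 : act 4 n528 = n528 := d24_1 D528 (iv D528) F969
theorem F1750 : act 5 n528 = n528 := d26_1 D528 (iv D528) F970
theorem F1751 : act 6 n528 = n528 := d27_1 D528 (iv D528) (iv D304) F553 D304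
def n529 : Q := act 5 n306
theorem D529 : act 5 n306 = n529 := rfl
theorem F1752 : act 0 n529 = n307 := d4_1 D529 (iv D307) D306
theorem F1753 : act 2 n529 = n529 := d15_1 D529 (iv D529) F977
theorem F1754 : act 4 n529 = n529 := d22_1 D529 (iv D529) F978
theorem F1755 : act 7 n529 = n529 := d26_2 F980 D529 (iv D529)
def n530 : Q := act 6 n307
theorem D530 : act 6 n307 = n530 := rfl
theorem F1756 : act 2 n530 = n530 := d16_1 D530 (iv D530) F981
theorem F1757 : act 4 n530 = n530 := d23_1 D530 (iv D530) F982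
theorem F1758 : act 5 n530 = n530 := d25_1 D530 (iv D530) (iv D307) F560 D307
def n531 : Q := act 4 n308
theorem D531 : act 4 n308 = n531 := rfl
theorem F1759 : act 1 n531 = n311 := d9_1 D531 (iv D311) (iv F984)
theorem F1760 : act 6 n531 = n531 := d23_2 F985 D531 (iv D531)
def n532 : Q := act 7 n308
theorem D532 : act 7 n308 = n532 := rfl
theorem F1761 : act 1 n532 = n312 := d12_1 D532 (iv D312) (iv F984)
def n533 : Q := act 7 n309
theorem D533 : act 7 n309 = n533 := rfl
theorem F1762 : act 1 n533 = n533 := d12_1 D533 (iv D533) F986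
theorem F1763 : act 2 n533 = n533 := d17_1 D533 (iv D533) F987
theorem F1764 : act 5 n533 = n310 := d26_1 D533 (iv D310) D309
theorem F1765 : act 6 n533 = n533 := d27_1 D533 (iv D533) (iv F1464) F1448 F1464
def n534 : Q := act 7 n311
theorem D534 : act 7 n311 = n534 := rfl
theorem F1766 : act 0 n534 = n316 := d6_1 D534 (iv D316) (iv F990)
theorem F1767 : act 2 n534 = n327 := d17_1 D534 (iv D327) (iv F991)
theorem F1768 : act 4 n534 = n312 := d24_1 D534 (iv D312) D311
theorem F1769 : act 5 n534 = n534 := d26_1 D534 (iv D534) F992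
def n535 : Q := act 3 n316
theorem D535 : act 3 n316 = n535 := rfl
theorem F1770 : act 5 n535 = n535 := d19_2 F1009 D535 (iv D535)
def n536 : Q := act 7 n323
theorem D536 : act 7 n323 = n536 := rfl
theorem F1771 : act 0 n536 = n536 := d6_1 D536 (iv D536) F1025
theorem F1772 : act 1 n536 = n327 := d12_1 D536 (iv D327) (iv F1026)
theorem F1773 : act 4 n536 = n325 := d24_1 D536 (iv D325) D323
def n537 : Q := act 6 n325
theorem D537 : act 6 n325 = n537 := rfl
theorem F1774 : act 0 n537 = n537 := d5_1 D537 (iv D537) F1032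
theorem F1775 : act 1 n537 = n328 := d11_1 D537 (iv D328) (iv F1033)
theorem F1776 : act 3 n537 = n537 := d20_1 D537 (iv D537) F1034
theorem F1777 : act 5 n537 = n537 := d25_1 D537 (iv D537) (iv F1457) F1192 F1457
theorem F1778 : act 7 n537 = n537 := d27_2 D325 D537 (iv D537) (iv D325) F590
def n538 : Q := act 3 n327
theorem D538 : act 3 n327 = n538 := rfl
theorem F1779 : act 0 n538 = n329 := d2_1 D538 (iv D329) (iv F1040)
theorem F1780 : act 4 n538 = n538 := d18_2 (iv F1041) D538 (iv D538) F1041 F601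
theorem F1781 : act 5 n538 = n538 := d19_2 F1042 D538 (iv D538)
theorem F1782 : act 7 n538 = n538 := d21_2 D327 D538 (iv D538) (iv D327) F597
def n539 : Q := act 6 n327
theorem D539 : act 6 n327 = n539 := rfl
theorem F1783 : act 0 n539 = n330 := d5_1 D539 (iv D330) (iv F1040)
theorem F1784 : act 4 n539 = n328 := d23_1 D539 (iv D328) (iv F1041)
theorem F1785 : act 7 n539 = n539 := d27_2 D327 D539 (iv D539) (iv D327) F599
def n540 : Q := act 2 n329
theorem D540 : act 2 n329 = n540 := rfl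
theorem F1786 : act 4 n540 = n540 := d14_2 F1047 D540 (iv D540)
theorem F1787 : act 5 n540 = n540 := d15_2 F1048 D540 (iv D540)
theorem F1788 : act 7 n540 = n540 := d17_2 F1049 D540 (iv D540)
def n541 : Q := act 6 n329
theorem D541 : act 6 n329 = n541 := rfl
theorem F1789 : act 1 n541 = n541 := d11_1 D541 (iv D541) F1046
theorem F1790 : act 3 n541 = n330 := d20_1 D541 (iv D330) D329
theorem F1791 : act 4 n541 = n541 := d23_1 D541 (iv D541) F1047
def n542 : Q := act 5 n333
theorem D542 : act 5 n333 = n542 := rfl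
theorem F1792 : act 0 n542 = n542 := d4_1 D542 (iv D542) F1060
theorem F1793 : act 2 n542 = n542 := d15_1 D542 (iv D542) F1062
theorem F1794 : act 3 n542 = n542 := d19_1 D542 (iv D542) F1063
theorem F1795 : act 4 n542 = n542 := d22_1 D542 (iv D542) F1064
theorem F1796 : act 6 n542 = n542 := d25_2 D333 D542 (iv D542) (iv D333) F1426
def n543 : Q := act 7 n333
theorem D543 : act 7 n333 = n543 := rfl
theorem F1797 : act 0 n543 = n543 := d6_1 D543 (iv D543) F1060
theorem F1798 : act 1 n543 = n339 := d12_1 D543 (iv D339) (iv F1061)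
theorem F1799 : act 2 n543 = n543 := d17_1 D543 (iv D543) F1062
theorem F1800 : act 4 n543 = n543 := d24_1 D543 (iv D543) F1064
def n544 : Q := act 1 n338
theorem D544 : act 1 n338 = n544 := rfl
theorem F1801 : act 3 n544 = n544 := d8_2 F1081 D544 (iv D544)
theorem F1802 : act 4 n544 = n544 := d9_2 F1082 D544 (iv D544)
def n545 : Q := act 7 n338
theorem D545 : act 7 n338 = n545 := rfl
theorem F1803 : act 0 n545 = n401 := d6_1 D545 (iv D401) (iv F1079)
theorem F1804 : act 2 n545 = n349 := d17_1 D545 (iv D349) (iv F1080)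
theorem F1805 : act 4 n545 = n545 := d24_1 D545 (iv D545) F1082
theorem F1806 : act 5 n545 = n339 := d26_1 D545 (iv D339) D338
def n546 : Q := act 3 n339
theorem D546 : act 3 n339 = n546 := rfl
theorem F1807 : act 0 n546 = n402 := d2_1 D546 (iv D402) (iv F1083)
theorem F1808 : act 7 n546 = n546 := d21_2 D339 D546 (iv D546) (iv D339) F619
def n547 : Q := act 5 n343
theorem D547 : act 5 n343 = n547 := rfl
theorem F1809 : act 0 n547 = n547 := d4_1 D547 (iv D547) F1095
theorem F1810 : act 2 n547 = n547 := d15_1 D547 (iv D547) F1428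
theorem F1811 : act 3 n547 = n355 := d19_1 D547 (iv D355) (iv F1097)
theorem F1812 : act 4 n547 = n547 := d22_1 D547 (iv D547) F1098
theorem F1813 : act 6 n547 = n547 := d25_2 D343 D547 (iv D547) (iv D343) F627
def n548 : Q := act 7 n343
theorem D548 : act 7 n343 = n548 := rfl
theorem F1814 : act 0 n548 = n548 := d6_1 D548 (iv D548) F1095
theorem F1815 : act 1 n548 = n346 := d12_1 D548 (iv D346) (iv F1096)
theorem F1816 : act 2 n548 = n548 := d17_1 D548 (iv D548) F1428
theorem F1817 : act 4 n548 = n548 := d24_1 D548 (iv D548) F1098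
theorem F1818 : act 6 n548 = n543 := d27_1 D548 (iv D543) (iv D333) F1425 D343
def n549 : Q := act 1 n345
theorem D549 : act 1 n345 = n549 := rfl
theorem F1819 : act 3 n549 = n357 := d8_2 (iv F1105) D549 (iv D357)
theorem F1820 : act 4 n549 = n549 := d9_2 F1106 D549 (iv D549)
theorem F1821 : act 6 n549 = n348 := d11_2 (iv F1107) D549 (iv D348)
def n550 : Q := act 7 n345
theorem D550 : act 7 n345 = n550 := rfl
theorem F1822 : act 0 n550 = n408 := d6_1 D550 (iv D408) (iv F1104)
theorem F1823 : act 4 n550 = n550 := d24_1 D550 (iv D550) F1106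
theorem F1824 : act 5 n550 = n346 := d26_1 D550 (iv D346) D345
def n551 : Q := act 3 n346
theorem D551 : act 3 n346 = n551 := rfl
theorem F1825 : act 0 n551 = n409 := d2_1 D551 (iv D409) (iv F1108)
theorem F1826 : act 6 n551 = n546 := d20_2 (iv F1436) D551 (iv D546)
theorem F1827 : act 7 n551 = n359 := d21_2 D346 D551 (iv D359) (iv D195) (iv F629)
def n552 : Q := act 0 n348
theorem D552 : act 0 n348 = n552 := rfl
theorem F1828 : act 1 n552 = n412 := d0_2 D348 D552 (iv D412) (iv D223) (iv F635)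
theorem F1829 : act 3 n552 = n360 := d2_2 (iv F1113) D552 (iv D360)
theorem F1830 : act 4 n552 = n552 := d3_2 F1114 D552 (iv D552)
theorem F1831 : act 5 n552 = n552 := d4_2 F1115 D552 (iv D552)
def n553 : Q := act 2 n348
theorem D553 : act 2 n348 = n553 := rfl
theorem F1832 : act 4 n553 = n553 := d14_2 F1114 D553 (iv D553)
theorem F1833 : act 5 n553 = n553 := d15_2 F1115 D553 (iv D553)
def n554 : Q := act 7 n348
theorem D554 : act 7 n348 = n554 := rfl
theorem F1834 : act 1 n554 = n349 := d12_1 D554 (iv D349) D348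
theorem F1835 : act 4 n554 = n554 := d24_1 D554 (iv D554) F1114
theorem F1836 : act 5 n554 = n554 := d26_1 D554 (iv D554) F1115
def n555 : Q := act 3 n349
theorem D555 : act 3 n349 = n555 := rfl
theorem F1837 : act 0 n555 = n415 := d2_1 D555 (iv D415) (iv F1116)
theorem F1838 : act 5 n555 = n350 := d19_2 (iv F1118) D555 (iv D350)
theorem F1839 : act 7 n555 = n363 := d21_2 D349 D555 (iv D363) (iv D197) (iv F636)
def n556 : Q := act 6 n349
theorem D556 : act 6 n349 = n556 := rfl
theorem F1840 : act 0 n556 = n416 := d5_1 D556 (iv D416) (iv F1116)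
theorem F1841 : act 4 n556 = n556 := d23_1 D556 (iv D556) F1117
def n557 : Q := act 2 n350
theorem D557 : act 2 n350 = n557 := rfl
theorem F1842 : act 0 n557 = n417 := d1_1 D557 (iv D417) (iv F1119)
theorem F1843 : act 7 n557 = n365 := d17_2 (iv F1121) D557 (iv D365)
def n558 : Q := act 4 n350
theorem D558 : act 4 n350 = n558 := rfl
theorem F1844 : act 0 n558 = n418 := d3_1 D558 (iv D418) (iv F1119)
theorem F1845 : act 1 n558 = n558 := d9_1 D558 (iv D558) F1120
theorem F1846 : act 3 n558 = n558 := d18_1 D558 (iv D558) (iv D350) F640 D350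
theorem F1847 : act 7 n558 = n366 := d24_2 (iv F1121) D558 (iv D366)
def n559 : Q := act 6 n350
theorem D559 : act 6 n350 = n559 := rfl
theorem F1848 : act 0 n559 = n419 := d5_1 D559 (iv D419) (iv F1119)
theorem F1849 : act 1 n559 = n559 := d11_1 D559 (iv D559) F1120
theorem F1850 : act 3 n559 = n351 := d20_1 D559 (iv D351) D350
theorem F1851 : act 7 n559 = n559 := d27_2 (iv F1121) D559 (iv D559) F1121 F669
def n560 : Q := act 5 n351
theorem D560 : act 5 n351 = n560 := rfl
theorem F1852 : act 0 n560 = n420 := d4_1 D560 (iv D420) (iv F1122)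
theorem F1853 : act 2 n560 = n550 := d15_1 D560 F1824 (iv F1437)
theorem F1854 : act 4 n560 = n560 := d22_1 D560 (iv D560) F1124
theorem F1855 : act 7 n560 = n352 := d26_2 (iv F1125) D560 (iv D352)
def n561 : Q := act 1 n352
theorem D561 : act 1 n352 = n561 := rfl
theorem F1856 : act 3 n561 = n561 := d8_2 F1127 D561 (iv D561)
theorem F1857 : act 4 n561 = n561 := d9_2 F1128 D561 (iv D561)
theorem F1858 : act 5 n561 = n561 := d10_2 D352 D561 (iv D561) (iv D352) F642
theorem F1859 : act 6 n561 = n544 := d11_2 (iv F1433) D561 (iv D544)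
def n562 : Q := act 7 n354
theorem D562 : act 7 n354 = n562 := rfl
theorem F1860 : act 0 n562 = n562 := d6_1 D562 (iv D562) F1132
theorem F1861 : act 1 n562 = n562 := d12_1 D562 (iv D562) F1133
theorem F1862 : act 2 n562 = n356 := d17_1 D562 (iv D356) (iv F1134)
theorem F1863 : act 4 n562 = n371 := d24_1 D562 (iv D371) (iv F1135)
theorem F1864 : act 5 n562 = n536 := d26_1 D562 (iv D536) F1459
theorem F1865 : act 6 n562 = n562 := d27_1 D562 (iv D562) (iv D354) F649 D354
def n563 : Q := act 1 n355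
theorem D563 : act 1 n355 = n563 := rfl
theorem F1866 : act 2 n563 = n531 := d7_2 (iv F1460) D563 F1759 F991 (iv F1026)
theorem F1867 : act 4 n563 = n372 := d9_2 (iv F1137) D563 (iv D372)
theorem F1868 : act 5 n563 = n357 := d10_2 D355 D563 (iv D357) (iv D194) (iv F651)
theorem F1869 : act 6 n563 = n563 := d11_2 F1138 D563 (iv D563)
def n564 : Q := act 7 n355
theorem D564 : act 7 n355 = n564 := rfl
theorem F1870 : act 0 n564 = n564 := d6_1 D564 (iv D564) F1136
theorem F1871 : act 2 n564 = n536 := d17_1 D564 (iv D536) (iv F1460)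
theorem F1872 : act 4 n564 = n373 := d24_1 D564 (iv D373) (iv F1137)
theorem F1873 : act 5 n564 = n356 := d26_1 D564 (iv D356) D355
def n565 : Q := act 3 n356
theorem D565 : act 3 n356 = n565 := rfl
theorem F1874 : act 0 n565 = n565 := d2_1 D565 (iv D565) F1139
theorem F1875 : act 1 n565 = n359 := d8_1 D565 (iv D359) (iv F1140)
theorem F1876 : act 6 n565 = n565 := d20_2 F1142 D565 (iv D565)
def n566 : Q := act 0 n357
theorem D566 : act 0 n357 = n566 := rfl
theorem F1877 : act 1 n566 = n422 := d0_2 D357 D566 (iv D422) (iv D228) (iv F653)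
theorem F1878 : act 4 n566 = n375 := d3_2 (iv F1143) D566 (iv D375)
theorem F1879 : act 6 n566 = n360 := d5_2 (iv F1144) D566 (iv D360)
def n567 : Q := act 2 n357
theorem D567 : act 2 n357 = n567 := rfl
theorem F1880 : act 1 n567 = n567 := d7_1 D567 (iv D567) (iv D357) F654 D357
theorem F1881 : act 4 n567 = n376 := d14_2 (iv F1143) D567 (iv D376)
theorem F1882 : act 5 n567 = n531 := d15_2 F1868 D567 (iv F1866)
theorem F1883 : act 6 n567 = n361 := d16_2 (iv F1144) D567 (iv D361)
def n568 : Q := act 7 n357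
theorem D568 : act 7 n357 = n568 := rfl
theorem F1884 : act 1 n568 = n358 := d12_1 D568 (iv D358) D357
theorem F1885 : act 4 n568 = n377 := d24_1 D568 (iv D377) (iv F1143)
def n569 : Q := act 3 n358
theorem D569 : act 3 n358 = n569 := rfl
theorem F1886 : act 0 n569 = n425 := d2_1 D569 (iv D425) (iv F1145)
theorem F1887 : act 5 n569 = n359 := d19_2 (iv F1148) D569 (iv D359)
def n570 : Q := act 6 n358
theorem D570 : act 6 n358 = n570 := rfl
theorem F1888 : act 0 n570 = n426 := d5_1 D570 (iv D426) (iv F1145)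
theorem F1889 : act 2 n570 = n570 := d16_1 D570 (iv D570) F1146
theorem F1890 : act 4 n570 = n379 := d23_1 D570 (iv D379) (iv F1147)
theorem F1891 : act 5 n570 = n570 := d25_1 D570 (iv D570) F1148 F660 (iv F1148)
theorem F1892 : act 7 n570 = n364 := d27_2 D358 D570 (iv D364) (iv D197) (iv F656)
def n571 : Q := act 2 n359
theorem D571 : act 2 n359 = n571 := rfl
theorem F1893 : act 0 n571 = n427 := d1_1 D571 (iv D427) (iv F1149)
theorem F1894 : act 3 n571 = n571 := d13_2 D359 D571 (iv D571) (iv D359) F658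
theorem F1895 : act 6 n571 = n571 := d16_2 F1150 D571 (iv D571)
def n572 : Q := act 4 n359
theorem D572 : act 4 n359 = n572 := rfl
theorem F1896 : act 0 n572 = n428 := d3_1 D572 (iv D428) (iv F1149)
theorem F1897 : act 3 n572 = n381 := d18_1 D572 (iv D381) (iv D205) (iv F659) D359
theorem F1898 : act 6 n572 = n572 := d23_2 F1150 D572 (iv D572)
def n573 : Q := act 2 n360
theorem D573 : act 2 n360 = n573 := rfl
theorem F1899 : act 0 n573 = n361 := d1_1 D573 (iv D361) D360
theorem F1900 : act 4 n573 = n382 := d14_2 (iv F1152) D573 (iv D382)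
theorem F1901 : act 5 n573 = n573 := d15_2 F1153 D573 (iv D573)
def n574 : Q := act 7 n360
theorem D574 : act 7 n360 = n574 := rfl
theorem F1902 : act 0 n574 = n362 := d6_1 D574 (iv D362) D360
theorem F1903 : act 1 n574 = n430 := d12_1 D574 (iv D430) (iv F1151)
theorem F1904 : act 4 n574 = n383 := d24_1 D574 (iv D383) (iv F1152)
theorem F1905 : act 5 n574 = n574 := d26_1 D574 (iv D574) F1153
def n575 : Q := act 3 n361
theorem D575 : act 3 n361 = n575 := rfl
theorem F1906 : act 1 n575 = n575 := d8_1 D575 (iv D575) F1154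
theorem F1907 : act 5 n575 = n575 := d19_2 F1156 D575 (iv D575)
def n576 : Q := act 7 n361
theorem D576 : act 7 n361 = n576 := rfl
theorem F1908 : act 1 n576 = n576 := d12_1 D576 (iv D576) F1154
theorem F1909 : act 2 n576 = n362 := d17_1 D576 (iv D362) D361
theorem F1910 : act 4 n576 = n385 := d24_1 D576 (iv D385) (iv F1155)
theorem F1911 : act 5 n576 = n576 := d26_1 D576 (iv D576) F1156
def n577 : Q := act 3 n362
theorem D577 : act 3 n362 = n577 := rfl
theorem F1912 : act 1 n577 = n363 := d8_1 D577 (iv D363) (iv F1157)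
theorem F1913 : act 5 n577 = n577 := d19_2 F1159 D577 (iv D577)
def n578 : Q := act 6 n362
theorem D578 : act 6 n362 = n578 := rfl
theorem F1914 : act 1 n578 = n364 := d11_1 D578 (iv D364) (iv F1157)
theorem F1915 : act 4 n578 = n387 := d23_1 D578 (iv D387) (iv F1158)
def n579 : Q := act 2 n363
theorem D579 : act 2 n363 = n579 := rfl
theorem F1916 : act 0 n579 = n435 := d1_1 D579 (iv D435) (iv F1160)
theorem F1917 : act 3 n579 = n579 := d13_2 D363 D579 (iv D579) (iv D363) F664
theorem F1918 : act 5 n579 = n365 := d15_2 (iv F1161) D579 (iv D365)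
def n580 : Q := act 4 n363
theorem D580 : act 4 n363 = n580 := rfl
theorem F1919 : act 0 n580 = n436 := d3_1 D580 (iv D436) (iv F1160)
theorem F1920 : act 3 n580 = n389 := d18_1 D580 (iv D389) (iv D209) (iv F665) D363
theorem F1921 : act 5 n580 = n366 := d22_2 (iv F1161) D580 (iv D366)
theorem F1922 : act 6 n515 = n580 := d20_0 F1920 F1469 D515
def n581 : Q := act 6 n363
theorem D581 : act 6 n363 = n581 := rfl
theorem F1923 : act 0 n581 = n437 := d5_1 D581 (iv D437) (iv F1160)
theorem F1924 : act 3 n581 = n364 := d20_1 D581 (iv D364) D363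
theorem F1925 : act 4 n581 = n515 := d23_1 D581 F1922 (iv D580)
theorem F1926 : act 5 n581 = n581 := d25_1 D581 (iv D581) F1161 F669 (iv F1161)
def n582 : Q := act 1 n365
theorem D582 : act 1 n365 = n582 := rfl
theorem F1927 : act 2 n582 = n582 := d7_2 D365 D582 (iv D582) (iv D365) F668
theorem F1928 : act 3 n582 = n582 := d8_2 F1167 D582 (iv D582)
theorem F1929 : act 6 n582 = n582 := d11_2 F1168 D582 (iv D582)
def n583 : Q := act 4 n365
theorem D583 : act 4 n365 = n583 := rfl
theorem F1930 : act 0 n583 = n439 := d3_1 D583 (iv D439) (iv F1166)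
theorem F1931 : act 2 n583 = n366 := d14_1 D583 (iv D366) D365
theorem F1932 : act 6 n583 = n583 := d23_2 F1168 D583 (iv D583)
def n584 : Q := act 0 n372
theorem D584 : act 0 n372 = n584 := rfl
theorem F1933 : act 1 n584 = n584 := d0_2 D372 D584 (iv D584) (iv D372) F677
theorem F1934 : act 2 n584 = n498 := d1_2 F1461 D584 F1659
theorem F1935 : act 3 n584 = n584 := d2_2 F1193 D584 (iv D584)
theorem F1936 : act 5 n584 = n375 := d4_2 (iv F1194) D584 (iv D375)
theorem F1937 : act 6 n584 = n584 := d5_2 F1195 D584 (iv D584)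
def n585 : Q := act 7 n372
theorem D585 : act 7 n372 = n585 := rfl
theorem F1938 : act 1 n585 = n373 := d12_1 D585 (iv D373) D372
theorem F1939 : act 2 n585 = n532 := d17_1 D585 (iv D532) F1461
theorem F1940 : act 5 n585 = n377 := d26_1 D585 (iv D377) (iv F1194)
def n586 : Q := act 3 n373
theorem D586 : act 3 n373 = n586 := rfl
theorem F1941 : act 0 n586 = n586 := d2_1 D586 (iv D586) F1196
theorem F1942 : act 2 n586 = n586 := d13_1 D586 (iv D586) (iv F1458) F1034 F1458
theorem F1943 : act 5 n586 = n374 := d19_2 (iv F1197) D586 (iv D374)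
theorem F1944 : act 7 n586 = n586 := d21_2 D373 D586 (iv D586) (iv D373) F678
def n587 : Q := act 6 n373
theorem D587 : act 6 n373 = n587 := rfl
theorem F1945 : act 0 n587 = n587 := d5_1 D587 (iv D587) F1196
theorem F1946 : act 2 n587 = n537 := d16_1 D587 (iv D537) F1458
theorem F1947 : act 5 n587 = n587 := d25_1 D587 (iv D587) F1197 F682 (iv F1197)
theorem F1948 : act 7 n587 = n587 := d27_2 D373 D587 (iv D587) (iv D373) F679
def n588 : Q := act 4 n374
theorem D588 : act 4 n374 = n588 := rfl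
theorem F1949 : act 0 n588 = n588 := d3_1 D588 (iv D588) F1198
theorem F1950 : act 1 n588 = n381 := d9_1 D588 (iv D381) (iv F1199)
theorem F1951 : act 2 n588 = n588 := d14_1 D588 (iv D588) F1466
theorem F1952 : act 6 n588 = n588 := d23_2 F1200 D588 (iv D588)
theorem F1953 : act 7 n588 = n588 := d24_2 F1201 D588 (iv D588)
def n589 : Q := act 2 n375
theorem D589 : act 2 n375 = n589 := rfl
theorem F1954 : act 0 n589 = n376 := d1_1 D589 (iv D376) D375
theorem F1955 : act 5 n589 = n498 := d15_2 F1936 D589 (iv F1934)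
theorem F1956 : act 6 n589 = n382 := d16_2 (iv F1204) D589 (iv D382)
theorem F1957 : act 3 n499 = n589 := d19_3 F1955 (iv D498) D499
def n590 : Q := act 7 n375
theorem D590 : act 7 n375 = n590 := rfl
theorem F1958 : act 0 n590 = n377 := d6_1 D590 (iv D377) D375
theorem F1959 : act 1 n590 = n441 := d12_1 D590 (iv D441) (iv F1202)
def n591 : Q := act 7 n376
theorem D591 : act 7 n376 = n591 := rfl
theorem F1960 : act 1 n591 = n591 := d12_1 D591 (iv D591) F1205
theorem F1961 : act 2 n591 = n377 := d17_1 D591 (iv D377) D376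
theorem F1962 : act 5 n591 = n532 := d26_1 D591 (iv D532) (iv F1462)
def n592 : Q := act 3 n377
theorem D592 : act 3 n377 = n592 := rfl
theorem F1963 : act 1 n592 = n378 := d8_1 D592 (iv D378) (iv F1207)
theorem F1964 : act 7 n592 = n592 := d21_2 D377 D592 (iv D592) (iv D377) F683
theorem F1965 : act 6 n532 = n592 := d11_0 F1963 (iv F1438) (iv F1761)
def n593 : Q := act 6 n377
theorem D593 : act 6 n377 = n593 := rfl
theorem F1966 : act 1 n593 = n379 := d11_1 D593 (iv D379) (iv F1207)
theorem F1967 : act 3 n593 = n532 := d20_1 D593 F1965 (iv D592)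
theorem F1968 : act 7 n593 = n387 := d27_2 D377 D593 (iv D387) (iv D208) (iv F684)
def n594 : Q := act 4 n378
theorem D594 : act 4 n378 = n594 := rfl
theorem F1969 : act 0 n594 = n446 := d3_1 D594 (iv D446) (iv F1208)
theorem F1970 : act 2 n594 = n539 := d14_1 D594 F1784 (iv F1439)
theorem F1971 : act 5 n594 = n381 := d22_2 (iv F1209) D594 (iv D381)
theorem F1972 : act 6 n594 = n534 := d23_2 F1438 D594 F1768
theorem F1973 : act 7 n594 = n594 := d24_2 F1210 D594 (iv D594)
def n595 : Q := act 4 n380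
theorem D595 : act 4 n380 = n595 := rfl
theorem F1974 : act 0 n595 = n448 := d3_1 D595 (iv D448) (iv F1215)
theorem F1975 : act 1 n595 = n595 := d9_1 D595 (iv D595) F1465
theorem F1976 : act 2 n595 = n381 := d14_1 D595 (iv D381) D380
theorem F1977 : act 5 n595 = n539 := d22_2 F1440 D595 F1784
theorem F1978 : act 6 n595 = n595 := d23_2 F1217 D595 (iv D595)
theorem F1979 : act 7 n595 = n595 := d24_2 F1218 D595 (iv D595)
def n596 : Q := act 1 n382
theorem D596 : act 1 n382 = n596 := rfl
theorem F1980 : act 0 n596 = n596 := d0_1 D596 (iv D596) F1222 F694 (iv F1222)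
theorem F1981 : act 2 n596 = n449 := d7_2 D382 D596 (iv D449) (iv D245) (iv F691)
def n597 : Q := act 3 n382
theorem D597 : act 3 n382 = n597 := rfl
theorem F1982 : act 0 n597 = n384 := d2_1 D597 (iv D384) (iv F1222)
theorem F1983 : act 2 n597 = n597 := d13_1 D597 (iv D597) (iv D382) F692 D382
theorem F1984 : act 5 n597 = n597 := d19_2 F1223 D597 (iv D597)
theorem F1985 : act 6 n597 = n499 := d20_2 F1956 D597 F1957
theorem F1986 : act 7 n597 = n597 := d6_0 F1982 F1448 (iv F1982)
def n598 : Q := act 7 n382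
theorem D598 : act 7 n382 = n598 := rfl
theorem F1987 : act 0 n598 = n385 := d6_1 D598 (iv D385) (iv F1222)
theorem F1988 : act 2 n598 = n383 := d17_1 D598 (iv D383) D382
theorem F1989 : act 3 n598 = n598 := d21_1 D598 (iv D598) D597 F1986 (iv D597)
theorem F1990 : act 5 n598 = n598 := d26_1 D598 (iv D598) F1223
def n599 : Q := act 3 n383
theorem D599 : act 3 n383 = n599 := rfl
theorem F1991 : act 0 n599 = n386 := d2_1 D599 (iv D386) (iv F1224)
theorem F1992 : act 1 n599 = n452 := d8_1 D599 (iv D452) (iv F1225)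
theorem F1993 : act 2 n599 = n599 := d13_1 D599 (iv D599) (iv F1988) F1989 F1988
theorem F1994 : act 5 n599 = n599 := d19_2 F1226 D599 (iv D599)
theorem F1995 : act 7 n599 = n599 := d21_2 D383 D599 (iv D599) (iv D383) F692
theorem F1996 : act 6 n500 = n599 := d11_0 F1992 (iv F1510) (iv F1665)
def n600 : Q := act 6 n383
theorem D600 : act 6 n383 = n600 := rfl
theorem F1997 : act 0 n600 = n387 := d5_1 D600 (iv D387) (iv F1224)
theorem F1998 : act 1 n600 = n453 := d11_1 D600 (iv D453) (iv F1225)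
theorem F1999 : act 3 n600 = n500 := d20_1 D600 F1996 (iv D599)
def n601 : Q := act 4 n384
theorem D601 : act 4 n384 = n601 := rfl
theorem F2000 : act 1 n601 = n601 := d9_1 D601 (iv D601) F1227
theorem F2001 : act 2 n601 = n601 := d14_1 D601 (iv D601) F1228
theorem F2002 : act 5 n601 = n601 := d22_2 F1229 D601 (iv D601)
theorem F2003 : act 6 n601 = n511 := d23_2 (iv F1464) D601 F1698
theorem F2004 : act 7 n601 = n601 := d24_2 F1448 D601 (iv D601)
def n602 : Q := act 6 n385
theorem D602 : act 6 n385 = n602 := rfl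
theorem F2005 : act 1 n602 = n602 := d11_1 D602 (iv D602) F1230
theorem F2006 : act 2 n602 = n387 := d16_1 D602 (iv D387) (iv F1231)
theorem F2007 : act 3 n602 = n602 := d20_1 D602 (iv D602) F1447
def n603 : Q := act 4 n386
theorem D603 : act 4 n386 = n603 := rfl
theorem F2008 : act 1 n603 = n389 := d9_1 D603 (iv D389) (iv F1233)
theorem F2009 : act 2 n603 = n603 := d14_1 D603 (iv D603) F1446
theorem F2010 : act 5 n603 = n603 := d22_2 F1234 D603 (iv D603)
theorem F2011 : act 6 n603 = n512 := d23_2 (iv F1445) D603 F1701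
theorem F2012 : act 7 n603 = n603 := d24_2 F1235 D603 (iv D603)
def n604 : Q := act 5 n387
theorem D604 : act 5 n387 = n604 := rfl
theorem F2013 : act 1 n604 = n604 := d10_1 D604 (iv D604) F1236 F703 (iv F1236)
theorem F2014 : act 3 n604 = n533 := d19_1 D604 F1764 F1444
theorem F2015 : act 6 n604 = n604 := d25_2 D387 D604 (iv D604) (iv D387) F697
def n605 : Q := act 4 n391
theorem D605 : act 4 n391 = n605 := rfl
theorem F2016 : act 0 n605 = n605 := d3_1 D605 (iv D605) F1247
theorem F2017 : act 1 n605 = n392 := d9_1 D605 (iv D392) D391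
theorem F2018 : act 2 n605 = n605 := d14_1 D605 (iv D605) F1248
theorem F2019 : act 5 n605 = n605 := d22_2 F1456 D605 (iv D605)
theorem F2020 : act 6 n605 = n605 := d23_2 F1250 D605 (iv D605)
theorem F2021 : act 7 n605 = n605 := d24_2 F1251 D605 (iv D605)
def n606 : Q := act 3 n392
theorem D606 : act 3 n392 = n606 := rfl
theorem F2022 : act 0 n606 = n459 := d2_1 D606 (iv D459) (iv F1252)
theorem F2023 : act 4 n606 = n606 := d18_2 D392 D606 (iv D606) (iv D392) F705
theorem F2024 : act 5 n606 = n517 := d19_2 (iv F1471) D606 F1718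
theorem F2025 : act 6 n606 = n606 := d20_2 F1254 D606 (iv D606)
def n607 : Q := act 0 n400
theorem D607 : act 0 n400 = n607 := rfl
theorem F2026 : act 3 n607 = n607 := d2_2 F1279 D607 (iv D607)
theorem F2027 : act 4 n607 = n607 := d3_2 F1280 D607 (iv D607)
theorem F2028 : act 5 n607 = n607 := d4_2 F1281 D607 (iv D607)
def n608 : Q := act 2 n400
theorem D608 : act 2 n400 = n608 := rfl
theorem F2029 : act 1 n608 = n413 := d7_1 D608 (iv D413) (iv D223) (iv F722) D400
theorem F2030 : act 4 n608 = n608 := d14_2 F1280 D608 (iv D608)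
theorem F2031 : act 5 n608 = n608 := d15_2 F1281 D608 (iv D608)
def n609 : Q := act 7 n400
theorem D609 : act 7 n400 = n609 := rfl
theorem F2032 : act 1 n609 = n401 := d12_1 D609 (iv D401) D400
theorem F2033 : act 4 n609 = n609 := d24_1 D609 (iv D609) F1280
theorem F2034 : act 5 n609 = n609 := d26_1 D609 (iv D609) F1281
def n610 : Q := act 3 n401
theorem D610 : act 3 n401 = n610 := rfl
theorem F2035 : act 5 n610 = n402 := d19_2 (iv F1284) D610 (iv D402)
theorem F2036 : act 7 n610 = n610 := d21_2 D401 D610 (iv D610) (iv D401) F723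
def n611 : Q := act 6 n401
theorem D611 : act 6 n401 = n611 := rfl
theorem F2037 : act 2 n611 = n416 := d16_1 D611 (iv D416) (iv F1282)
theorem F2038 : act 4 n611 = n611 := d23_1 D611 (iv D611) F1283
def n612 : Q := act 2 n402
theorem D612 : act 2 n402 = n612 := rfl
theorem F2039 : act 3 n612 = n417 := d13_2 D402 D612 (iv D417) (iv D225) (iv F726)
theorem F2040 : act 7 n612 = n612 := d17_2 F1286 D612 (iv D612)
def n613 : Q := act 4 n402
theorem D613 : act 4 n402 = n613 := rfl
theorem F2041 : act 1 n613 = n613 := d9_1 D613 (iv D613) F1285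
theorem F2042 : act 3 n613 = n613 := d18_1 D613 (iv D613) (iv D402) F727 D402
theorem F2043 : act 7 n613 = n613 := d24_2 F1286 D613 (iv D613)
def n614 : Q := act 0 n407
theorem D614 : act 0 n407 = n614 := rfl
theorem F2044 : act 3 n614 = n422 := d2_2 (iv F1300) D614 (iv D422)
theorem F2045 : act 4 n614 = n614 := d3_2 F1301 D614 (iv D614)
theorem F2046 : act 5 n614 = n614 := d4_2 F1302 D614 (iv D614)
theorem F2047 : act 6 n614 = n412 := d5_2 (iv F1303) D614 (iv D412)
def n615 : Q := act 2 n407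
theorem D615 : act 2 n407 = n615 := rfl
theorem F2048 : act 4 n615 = n615 := d14_2 F1301 D615 (iv D615)
theorem F2049 : act 5 n615 = n615 := d15_2 F1302 D615 (iv D615)
theorem F2050 : act 6 n615 = n413 := d16_2 (iv F1303) D615 (iv D413)
def n616 : Q := act 7 n407
theorem D616 : act 7 n407 = n616 := rfl
theorem F2051 : act 1 n616 = n408 := d12_1 D616 (iv D408) D407
theorem F2052 : act 4 n616 = n616 := d24_1 D616 (iv D616) F1301
theorem F2053 : act 5 n616 = n616 := d26_1 D616 (iv D616) F1302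
def n617 : Q := act 3 n408
theorem D617 : act 3 n408 = n617 := rfl
theorem F2054 : act 5 n617 = n409 := d19_2 (iv F1305) D617 (iv D409)
theorem F2055 : act 7 n617 = n425 := d21_2 D408 D617 (iv D425) (iv D229) (iv F734)
def n618 : Q := act 6 n408
theorem D618 : act 6 n408 = n618 := rfl
theorem F2056 : act 4 n618 = n618 := d23_1 D618 (iv D618) F1304
theorem F2057 : act 5 n618 = n611 := d25_1 D618 (iv D611) F1284 F1419 (iv F1305)
theorem F2058 : act 7 n618 = n416 := d27_2 D408 D618 (iv D416) (iv D224) (iv F736)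
def n619 : Q := act 2 n409
theorem D619 : act 2 n409 = n619 := rfl
theorem F2059 : act 6 n619 = n612 := d16_2 (iv F1442) D619 (iv D612)
theorem F2060 : act 7 n619 = n427 := d17_2 (iv F1307) D619 (iv D427)
def n620 : Q := act 4 n409
theorem D620 : act 4 n409 = n620 := rfl
theorem F2061 : act 1 n620 = n620 := d9_1 D620 (iv D620) F1306
theorem F2062 : act 3 n620 = n620 := d18_1 D620 (iv D620) (iv D409) F738 D409
theorem F2063 : act 6 n620 = n613 := d23_2 (iv F1442) D620 (iv D613)
theorem F2064 : act 7 n620 = n428 := d24_2 (iv F1307) D620 (iv D428)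
def n621 : Q := act 2 n412
theorem D621 : act 2 n412 = n621 := rfl
theorem F2065 : act 0 n621 = n413 := d1_1 D621 (iv D413) D412
theorem F2066 : act 4 n621 = n621 := d14_2 F1315 D621 (iv D621)
theorem F2067 : act 5 n621 = n460 := d15_2 (iv F1316) D621 (iv D460)
def n622 : Q := act 7 n412
theorem D622 : act 7 n412 = n622 := rfl
theorem F2068 : act 0 n622 = n414 := d6_1 D622 (iv D414) D412
theorem F2069 : act 4 n622 = n622 := d24_1 D622 (iv D622) F1315
theorem F2070 : act 5 n622 = n461 := d26_1 D622 (iv D461) (iv F1316)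
def n623 : Q := act 3 n413
theorem D623 : act 3 n413 = n623 := rfl
theorem F2071 : act 2 n623 = n431 := d13_1 D623 (iv D431) (iv D232) (iv F742) D413
theorem F2072 : act 5 n623 = n462 := d19_2 (iv F1318) D623 (iv D462)
def n624 : Q := act 7 n413
theorem D624 : act 7 n413 = n624 := rfl
theorem F2073 : act 2 n624 = n414 := d17_1 D624 (iv D414) D413
theorem F2074 : act 4 n624 = n624 := d24_1 D624 (iv D624) F1317
theorem F2075 : act 5 n624 = n463 := d26_1 D624 (iv D463) (iv F1318)
def n625 : Q := act 3 n414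
theorem D625 : act 3 n414 = n625 := rfl
theorem F2076 : act 1 n625 = n415 := d8_1 D625 (iv D415) (iv F1319)
theorem F2077 : act 5 n625 = n464 := d19_2 (iv F1321) D625 (iv D464)
theorem F2078 : act 7 n625 = n433 := d21_2 D414 D625 (iv D433) (iv D233) (iv F742)
def n626 : Q := act 6 n414
theorem D626 : act 6 n414 = n626 := rfl
theorem F2079 : act 1 n626 = n416 := d11_1 D626 (iv D416) (iv F1319)
theorem F2080 : act 4 n626 = n626 := d23_1 D626 (iv D626) F1320
def n627 : Q := act 2 n415
theorem D627 : act 2 n415 = n627 := rfl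
theorem F2081 : act 5 n627 = n417 := d15_2 (iv F1322) D627 (iv D417)
theorem F2082 : act 7 n627 = n435 := d17_2 (iv F1323) D627 (iv D435)
def n628 : Q := act 4 n415
theorem D628 : act 4 n415 = n628 := rfl
theorem F2083 : act 3 n628 = n628 := d18_1 D628 (iv D628) (iv D415) F745 D415
theorem F2084 : act 5 n628 = n418 := d22_2 (iv F1322) D628 (iv D418)
theorem F2085 : act 7 n628 = n436 := d24_2 (iv F1323) D628 (iv D436)
def n629 : Q := act 6 n415
theorem D629 : act 6 n415 = n629 := rfl
theorem F2086 : act 3 n629 = n416 := d20_1 D629 (iv D416) D415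
def n630 : Q := act 5 n416
theorem D630 : act 5 n416 = n630 := rfl
theorem F2087 : act 2 n630 = n618 := d15_1 D630 F2057 F2037
theorem F2088 : act 4 n630 = n630 := d22_1 D630 (iv D630) F1324
theorem F2089 : act 6 n630 = n420 := d25_2 D416 D630 (iv D420) (iv D226) (iv F746)
theorem F2090 : act 7 n630 = n611 := d26_2 F2058 D630 (iv F2057)
def n631 : Q := act 1 n417
theorem D631 : act 1 n417 = n631 := rfl
theorem F2091 : act 2 n631 = n470 := d7_2 D417 D631 (iv D470) (iv D260) (iv F747)
theorem F2092 : act 7 n631 = n438 := d12_2 (iv F1325) D631 (iv D438)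
def n632 : Q := act 4 n417
theorem D632 : act 4 n417 = n632 := rfl
theorem F2093 : act 2 n632 = n418 := d14_1 D632 (iv D418) D417
theorem F2094 : act 7 n632 = n439 := d24_2 (iv F1325) D632 (iv D439)
def n633 : Q := act 6 n417
theorem D633 : act 6 n417 = n633 := rfl
theorem F2095 : act 2 n633 = n419 := d16_1 D633 (iv D419) D417
theorem F2096 : act 3 n633 = n619 := d20_1 D633 F2059 F2039
theorem F2097 : act 7 n633 = n633 := d27_2 (iv F1325) D633 (iv D633) F1325 F775
def n634 : Q := act 6 n418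
theorem D634 : act 6 n418 = n634 := rfl
theorem F2098 : act 1 n634 = n473 := d11_1 D634 (iv D473) (iv F1326)
theorem F2099 : act 3 n634 = n634 := d20_1 D634 (iv D634) F1327
theorem F2100 : act 4 n634 = n419 := d23_1 D634 (iv D419) D418
theorem F2101 : act 7 n634 = n634 := d27_2 (iv F1328) D634 (iv D634) F1328 F778
def n635 : Q := act 5 n419
theorem D635 : act 5 n419 = n635 := rfl
theorem F2102 : act 3 n635 = n420 := d19_1 D635 (iv D420) (iv F1330)
theorem F2103 : act 7 n635 = n635 := d26_2 F1331 D635 (iv D635)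
def n636 : Q := act 1 n420
theorem D636 : act 1 n420 = n636 := rfl
theorem F2104 : act 4 n636 = n636 := d9_2 F1332 D636 (iv D636)
theorem F2105 : act 5 n636 = n475 := d10_2 D420 D636 (iv D475) (iv D263) (iv F749)
theorem F2106 : act 7 n636 = n421 := d12_2 (iv F1333) D636 (iv D421)
def n637 : Q := act 0 n421
theorem D637 : act 0 n421 = n637 := rfl
theorem F2107 : act 3 n637 = n637 := d2_2 F1334 D637 (iv D637)
theorem F2108 : act 4 n637 = n637 := d3_2 F1335 D637 (iv D637)
theorem F2109 : act 5 n637 = n476 := d4_2 (iv F1336) D637 (iv D476)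
theorem F2110 : act 6 n637 = n607 := d5_2 (iv F1434) D637 (iv D607)
def n638 : Q := act 2 n421
theorem D638 : act 2 n421 = n638 := rfl
theorem F2111 : act 1 n638 = n615 := d7_1 D638 (iv D615) (iv D407) (iv F1414) D421
theorem F2112 : act 4 n638 = n638 := d14_2 F1335 D638 (iv D638)
theorem F2113 : act 5 n638 = n477 := d15_2 (iv F1336) D638 (iv D477)
theorem F2114 : act 6 n638 = n608 := d16_2 (iv F1434) D638 (iv D608)
def n639 : Q := act 2 n422
theorem D639 : act 2 n422 = n639 := rfl
theorem F2115 : act 0 n639 = n423 := d1_1 D639 (iv D423) D422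
theorem F2116 : act 4 n639 = n440 := d14_2 (iv F1337) D639 (iv D440)
theorem F2117 : act 5 n639 = n639 := d15_2 F1338 D639 (iv D639)
theorem F2118 : act 6 n639 = n429 := d16_2 (iv F1339) D639 (iv D429)
def n640 : Q := act 7 n422
theorem D640 : act 7 n422 = n640 := rfl
theorem F2119 : act 0 n640 = n424 := d6_1 D640 (iv D424) D422
theorem F2120 : act 4 n640 = n441 := d24_1 D640 (iv D441) (iv F1337)
theorem F2121 : act 5 n640 = n640 := d26_1 D640 (iv D640) F1338
def n641 : Q := act 3 n423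
theorem D641 : act 3 n423 = n641 := rfl
theorem F2122 : act 1 n641 = n641 := d8_1 D641 (iv D641) F1340
theorem F2123 : act 5 n641 = n641 := d19_2 F1342 D641 (iv D641)
theorem F2124 : act 6 n641 = n431 := d20_2 (iv F1343) D641 (iv D431)
def n642 : Q := act 7 n423
theorem D642 : act 7 n423 = n642 := rfl
theorem F2125 : act 1 n642 = n642 := d12_1 D642 (iv D642) F1340
theorem F2126 : act 2 n642 = n424 := d17_1 D642 (iv D424) D423
theorem F2127 : act 4 n642 = n443 := d24_1 D642 (iv D443) (iv F1341)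
theorem F2128 : act 5 n642 = n642 := d26_1 D642 (iv D642) F1342
def n643 : Q := act 3 n424
theorem D643 : act 3 n424 = n643 := rfl
theorem F2129 : act 1 n643 = n425 := d8_1 D643 (iv D425) (iv F1344)
theorem F2130 : act 5 n643 = n643 := d19_2 F1346 D643 (iv D643)
def n644 : Q := act 6 n424
theorem D644 : act 6 n424 = n644 := rfl
theorem F2131 : act 1 n644 = n426 := d11_1 D644 (iv D426) (iv F1344)
theorem F2132 : act 4 n644 = n445 := d23_1 D644 (iv D445) (iv F1345)
theorem F2133 : act 7 n644 = n434 := d27_2 D424 D644 (iv D434) (iv D233) (iv F756)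
def n645 : Q := act 2 n425
theorem D645 : act 2 n425 = n645 := rfl
theorem F2134 : act 3 n645 = n645 := d13_2 D425 D645 (iv D645) (iv D425) F757
theorem F2135 : act 5 n645 = n427 := d15_2 (iv F1347) D645 (iv D427)
def n646 : Q := act 4 n425
theorem D646 : act 4 n425 = n646 := rfl
theorem F2136 : act 3 n646 = n446 := d18_1 D646 (iv D446) (iv D241) (iv F758) D425
theorem F2137 : act 5 n646 = n428 := d22_2 (iv F1347) D646 (iv D428)
theorem F2138 : act 6 n535 = n646 := d20_0 F2136 F1487 D535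
def n647 : Q := act 6 n425
theorem D647 : act 6 n425 = n647 := rfl
theorem F2139 : act 3 n647 = n426 := d20_1 D647 (iv D426) D425
theorem F2140 : act 4 n647 = n535 := d23_1 D647 F2138 (iv D646)
theorem F2141 : act 5 n647 = n647 := d25_1 D647 (iv D647) F1347 F761 (iv F1347)
def n648 : Q := act 1 n427
theorem D648 : act 1 n427 = n648 := rfl
theorem F2142 : act 2 n648 = n648 := d7_2 D427 D648 (iv D648) (iv D427) F760
theorem F2143 : act 3 n648 = n648 := d8_2 F1352 D648 (iv D648)
theorem F2144 : act 6 n648 = n648 := d11_2 F1353 D648 (iv D648)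
def n649 : Q := act 4 n427
theorem D649 : act 4 n427 = n649 := rfl
theorem F2145 : act 2 n649 = n428 := d14_1 D649 (iv D428) D427
theorem F2146 : act 6 n649 = n649 := d23_2 F1353 D649 (iv D649)
def n650 : Q := act 1 n429
theorem D650 : act 1 n429 = n650 := rfl
theorem F2147 : act 0 n650 = n650 := d0_1 D650 (iv D650) F1357 F764 (iv F1357)
theorem F2148 : act 4 n650 = n449 := d9_2 (iv F1358) D650 (iv D449)
def n651 : Q := act 3 n429
theorem D651 : act 3 n429 = n651 := rfl
theorem F2149 : act 0 n651 = n431 := d2_1 D651 (iv D431) (iv F1357)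
theorem F2150 : act 5 n651 = n479 := d19_2 (iv F1359) D651 (iv D479)
def n652 : Q := act 7 n429
theorem D652 : act 7 n429 = n652 := rfl
theorem F2151 : act 0 n652 = n432 := d6_1 D652 (iv D432) (iv F1357)
theorem F2152 : act 2 n652 = n430 := d17_1 D652 (iv D430) D429
theorem F2153 : act 4 n652 = n451 := d24_1 D652 (iv D451) (iv F1358)
theorem F2154 : act 5 n652 = n480 := d26_1 D652 (iv D480) (iv F1359)
def n653 : Q := act 3 n430
theorem D653 : act 3 n430 = n653 := rfl
theorem F2155 : act 0 n653 = n433 := d2_1 D653 (iv D433) (iv F1360)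
theorem F2156 : act 5 n653 = n481 := d19_2 (iv F1362) D653 (iv D481)
def n654 : Q := act 6 n430
theorem D654 : act 6 n430 = n654 := rfl
theorem F2157 : act 0 n654 = n434 := d5_1 D654 (iv D434) (iv F1360)
theorem F2158 : act 4 n654 = n453 := d23_1 D654 (iv D453) (iv F1361)
def n655 : Q := act 4 n431
theorem D655 : act 4 n431 = n655 := rfl
theorem F2159 : act 1 n655 = n655 := d9_1 D655 (iv D655) F1363
theorem F2160 : act 3 n655 = n454 := d18_1 D655 (iv D454) (iv D247) (iv F765) D431
theorem F2161 : act 5 n655 = n483 := d22_2 (iv F1364) D655 (iv D483)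
def n656 : Q := act 7 n431
theorem D656 : act 7 n431 = n656 := rfl
theorem F2162 : act 1 n656 = n656 := d12_1 D656 (iv D656) F1363
theorem F2163 : act 5 n656 = n484 := d26_1 D656 (iv D484) (iv F1364)
def n657 : Q := act 3 n432
theorem D657 : act 3 n432 = n657 := rfl
theorem F2164 : act 1 n657 = n657 := d8_1 D657 (iv D657) F1365
theorem F2165 : act 5 n657 = n485 := d19_2 (iv F1368) D657 (iv D485)
def n658 : Q := act 6 n432
theorem D658 : act 6 n432 = n658 := rfl
theorem F2166 : act 1 n658 = n658 := d11_1 D658 (iv D658) F1365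
theorem F2167 : act 2 n658 = n434 := d16_1 D658 (iv D434) (iv F1366)
theorem F2168 : act 4 n658 = n457 := d23_1 D658 (iv D457) (iv F1367)
theorem F2169 : act 5 n658 = n507 := d25_1 D658 (iv D507) (iv F1530) F1531 (iv F1368)
def n659 : Q := act 2 n433
theorem D659 : act 2 n433 = n659 := rfl
theorem F2170 : act 5 n659 = n486 := d15_2 (iv F1370) D659 (iv D486)
def n660 : Q := act 4 n433
theorem D660 : act 4 n433 = n660 := rfl
theorem F2171 : act 1 n660 = n436 := d9_1 D660 (iv D436) (iv F1369)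
theorem F2172 : act 3 n660 = n458 := d18_1 D660 (iv D458) (iv D249) (iv F768) D433
theorem F2173 : act 5 n660 = n487 := d22_2 (iv F1370) D660 (iv D487)
theorem F2174 : act 6 n485 = n660 := d20_0 F2172 F1531 D485
def n661 : Q := act 6 n433
theorem D661 : act 6 n433 = n661 := rfl
theorem F2175 : act 1 n661 = n437 := d11_1 D661 (iv D437) (iv F1369)
theorem F2176 : act 3 n661 = n434 := d20_1 D661 (iv D434) D433
theorem F2177 : act 4 n661 = n485 := d23_1 D661 F2174 (iv D660)
def n662 : Q := act 5 n434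
theorem D662 : act 5 n434 = n662 := rfl
theorem F2178 : act 1 n662 = n662 := d10_1 D662 (iv D662) F1371 F773 (iv F1371)
theorem F2179 : act 2 n662 = n507 := d15_1 D662 (iv F2169) F2167
theorem F2180 : act 4 n662 = n456 := d22_1 D662 F1522 (iv F1372)
theorem F2181 : act 6 n662 = n489 := d25_2 D434 D662 (iv D489) (iv D270) (iv F769)
def n663 : Q := act 1 n435
theorem D663 : act 1 n435 = n663 := rfl
theorem F2182 : act 3 n663 = n663 := d8_2 F1373 D663 (iv D663)
def n664 : Q := act 4 n435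
theorem D664 : act 4 n435 = n664 := rfl
theorem F2183 : act 2 n664 = n436 := d14_1 D664 (iv D436) D435
theorem F2184 : act 5 n664 = n439 := d22_2 (iv F1374) D664 (iv D439)
theorem F2185 : act 3 n523 = n664 := d31_29 F2184 (iv F2094) (iv D632) (iv D417) D419 F1330 D420 F1333 F753 F1414 F736 F423 (iv D66) D67 F248 F143 F144 D72 (iv F458) F459 D252 F1399 (iv D163) D162 F545 F546 F544 D300 D523
theorem F2186 : act 6 n664 = n521 := d20_2 D523 F2185 F1727
def n665 : Q := act 6 n435
theorem D665 : act 6 n435 = n665 := rfl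
theorem F2187 : act 2 n665 = n437 := d16_1 D665 (iv D437) D435
theorem F2188 : act 3 n665 = n665 := d20_1 D665 (iv D665) F1373
theorem F2189 : act 4 n665 = n521 := d23_1 D665 (iv F2186) (iv D664)
theorem F2190 : act 5 n665 = n665 := d25_1 D665 (iv D665) F1374 F775 (iv F1374)
def n666 : Q := act 7 n437
theorem D666 : act 7 n437 = n666 := rfl
theorem F2191 : act 4 n666 = n519 := d24_1 D666 F1724 F1467
theorem F2192 : act 5 n666 = n666 := d26_1 D666 (iv D666) F1378
def n667 : Q := act 0 n438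
theorem D667 : act 0 n438 = n667 := rfl
theorem F2193 : act 2 n667 = n495 := d1_2 (iv F1379) D667 (iv D495)
theorem F2194 : act 3 n667 = n667 := d2_2 F1380 D667 (iv D667)
theorem F2195 : act 6 n667 = n667 := d5_2 F1381 D667 (iv D667)
def n668 : Q := act 4 n438
theorem D668 : act 4 n438 = n668 := rfl
theorem F2196 : act 1 n668 = n439 := d9_1 D668 (iv D439) D438
theorem F2197 : act 2 n668 = n496 := d14_1 D668 (iv D496) (iv F1379)
theorem F2198 : act 6 n668 = n668 := d23_2 F1381 D668 (iv D668)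
def n669 : Q := act 5 n438
theorem D669 : act 5 n438 = n669 := rfl
theorem F2199 : act 2 n669 = n497 := d15_1 D669 (iv D497) (iv F1379)
theorem F2200 : act 3 n669 = n669 := d19_1 D669 (iv D669) F1380
def n670 : Q := act 3 n439
theorem D670 : act 3 n439 = n670 := rfl
theorem F2201 : act 2 n670 = n459 := d13_1 D670 (iv D459) F820 (iv F777) (iv F1382)
theorem F2202 : act 4 n670 = n670 := d18_2 D439 D670 (iv D670) (iv D439) F774
theorem F2203 : act 5 n670 = n523 := d19_2 F2184 D670 F2185
theorem F2204 : act 6 n670 = n670 := d20_2 F1383 D670 (iv D670)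
def n671 : Q := act 1 n440
theorem D671 : act 1 n440 = n671 := rfl
theorem F2205 : act 0 n671 = n671 := d0_1 D671 (iv D671) F1384 F782 (iv F1384)
theorem F2206 : act 6 n671 = n449 := d11_2 (iv F1386) D671 (iv D449)
def n672 : Q := act 3 n440
theorem D672 : act 3 n440 = n672 := rfl
theorem F2207 : act 0 n672 = n442 := d2_1 D672 (iv D442) (iv F1384)
theorem F2208 : act 2 n672 = n672 := d13_1 D672 (iv D672) (iv D440) F779 D440
theorem F2209 : act 5 n672 = n672 := d19_2 F1385 D672 (iv D672)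
theorem F2210 : act 6 n672 = n450 := d20_2 (iv F1386) D672 (iv D450)
theorem F2211 : act 7 n672 = n672 := d6_0 F2207 F1393 (iv F2207)
def n673 : Q := act 7 n440
theorem D673 : act 7 n440 = n673 := rfl
theorem F2212 : act 0 n673 = n443 := d6_1 D673 (iv D443) (iv F1384)
theorem F2213 : act 2 n673 = n441 := d17_1 D673 (iv D441) D440
theorem F2214 : act 3 n673 = n673 := d21_1 D673 (iv D673) D672 F2211 (iv D672)
theorem F2215 : act 5 n673 = n673 := d26_1 D673 (iv D673) F1385
def n674 : Q := act 3 n441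
theorem D674 : act 3 n441 = n674 := rfl
theorem F2216 : act 0 n674 = n444 := d2_1 D674 (iv D444) (iv F1387)
theorem F2217 : act 2 n674 = n674 := d13_1 D674 (iv D674) (iv F2213) F2214 F2213
theorem F2218 : act 5 n674 = n674 := d19_2 F1388 D674 (iv D674)
theorem F2219 : act 7 n674 = n674 := d21_2 D441 D674 (iv D674) (iv D441) F779
theorem F2220 : act 6 n502 = n674 := d5_0 F2216 (iv F1481) (iv F1670)
def n675 : Q := act 6 n441
theorem D675 : act 6 n441 = n675 := rfl
theorem F2221 : act 0 n675 = n445 := d5_1 D675 (iv D445) (iv F1387)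
theorem F2222 : act 3 n675 = n502 := d20_1 D675 F2220 (iv D674)
theorem F2223 : act 7 n675 = n453 := d27_2 D441 D675 (iv D453) (iv D246) (iv F781)
def n676 : Q := act 4 n442
theorem D676 : act 4 n442 = n676 := rfl
theorem F2224 : act 1 n676 = n676 := d9_1 D676 (iv D676) F1389
theorem F2225 : act 2 n676 = n676 := d14_1 D676 (iv D676) F1390
theorem F2226 : act 5 n676 = n676 := d22_2 F1391 D676 (iv D676)
theorem F2227 : act 6 n676 = n454 := d23_2 (iv F1392) D676 (iv D454)
theorem F2228 : act 7 n676 = n676 := d24_2 F1393 D676 (iv D676)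
def n677 : Q := act 6 n443
theorem D677 : act 6 n443 = n677 := rfl
theorem F2229 : act 1 n677 = n677 := d11_1 D677 (iv D677) F1473
theorem F2230 : act 2 n677 = n445 := d16_1 D677 (iv D445) (iv F1474)
theorem F2231 : act 3 n677 = n677 := d20_1 D677 (iv D677) F1475
theorem F2232 : act 7 n677 = n457 := d27_2 D443 D677 (iv D457) (iv D248) (iv F784)
theorem F2233 : act 5 n508 = n677 := d26_3 F2232 F1527 D508
def n678 : Q := act 4 n444
theorem D678 : act 4 n444 = n678 := rfl
theorem F2234 : act 1 n678 = n446 := d9_1 D678 (iv D446) (iv F1477)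
theorem F2235 : act 2 n678 = n678 := d14_1 D678 (iv D678) F1478
theorem F2236 : act 5 n678 = n678 := d22_2 F1479 D678 (iv D678)
theorem F2237 : act 6 n678 = n506 := d23_2 F1481 D678 F1683
theorem F2238 : act 7 n678 = n678 := d24_2 F1480 D678 (iv D678)
def n679 : Q := act 5 n445
theorem D679 : act 5 n445 = n679 := rfl
theorem F2239 : act 1 n679 = n679 := d10_1 D679 (iv D679) F1482 F790 (iv F1482)
theorem F2240 : act 2 n679 = n508 := d15_1 D679 F2233 F2230
theorem F2241 : act 3 n679 = n455 := d19_1 D679 F1518 (iv F1483)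
theorem F2242 : act 6 n679 = n679 := d25_2 D445 D679 (iv D679) (iv D445) F786
theorem F2243 : act 7 n679 = n456 := d26_2 (iv F1484) D679 F1522
def n680 : Q := act 4 n447
theorem D680 : act 4 n447 = n680 := rfl
theorem F2244 : act 0 n680 = n680 := d3_1 D680 (iv D680) F1489
theorem F2245 : act 1 n680 = n448 := d9_1 D680 (iv D448) D447
theorem F2246 : act 2 n680 = n680 := d14_1 D680 (iv D680) F1490
theorem F2247 : act 5 n680 = n680 := d22_2 F1492 D680 (iv D680)
theorem F2248 : act 6 n680 = n680 := d23_2 F1493 D680 (iv D680)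
theorem F2249 : act 7 n680 = n680 := d24_2 F1494 D680 (iv D680)
def n681 : Q := act 3 n448
theorem D681 : act 3 n448 = n681 := rfl
theorem F2250 : act 4 n681 = n681 := d18_2 D448 D681 (iv D681) (iv D448) F792
theorem F2251 : act 5 n681 = n541 := d19_2 (iv F1496) D681 F1790
theorem F2252 : act 6 n681 = n681 := d20_2 F1497 D681 (iv D681)
def n682 : Q := act 3 n449
theorem D682 : act 3 n449 = n682 := rfl
theorem F2253 : act 0 n682 = n682 := d2_1 D682 (iv D682) F1499
theorem F2254 : act 1 n682 = n450 := d8_1 D682 (iv D450) D449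
def n683 : Q := act 5 n449
theorem D683 : act 5 n449 = n683 := rfl
theorem F2255 : act 0 n683 = n683 := d4_1 D683 (iv D683) F1499
theorem F2256 : act 1 n683 = n499 := d10_1 D683 (iv D499) (iv D276) (iv F799) D449
def n684 : Q := act 7 n449
theorem D684 : act 7 n449 = n684 := rfl
theorem F2257 : act 0 n684 = n684 := d6_1 D684 (iv D684) F1499
theorem F2258 : act 1 n684 = n451 := d12_1 D684 (iv D451) D449
def n685 : Q := act 4 n450
theorem D685 : act 4 n450 = n685 := rfl
theorem F2259 : act 0 n685 = n454 := d3_1 D685 (iv D454) (iv F1500)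
theorem F2260 : act 2 n685 = n685 := d14_1 D685 (iv D685) F1501
theorem F2261 : act 5 n685 = n501 := d22_2 (iv F1502) D685 (iv D501)
def n686 : Q := act 7 n450
theorem D686 : act 7 n450 = n686 := rfl
theorem F2262 : act 0 n686 = n455 := d6_1 D686 (iv D455) (iv F1500)
theorem F2263 : act 2 n686 = n686 := d17_1 D686 (iv D686) F1501
theorem F2264 : act 5 n686 = n502 := d26_1 D686 (iv D502) (iv F1502)
theorem F2265 : act 6 n686 = n686 := d27_1 D686 (iv D686) (iv F2210) F2211 F2210
def n687 : Q := act 3 n451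
theorem D687 : act 3 n451 = n687 := rfl
theorem F2266 : act 0 n687 = n456 := d2_1 D687 (iv D456) (iv F1503)
theorem F2267 : act 2 n687 = n505 := d13_1 D687 F1680 F1509 (iv D452) (iv F1504)
theorem F2268 : act 5 n687 = n453 := d19_2 (iv F1505) D687 F1512
theorem F2269 : act 6 n503 = n687 := d25_0 F2268 (iv D453) F801 D280 (iv F1673)
def n688 : Q := act 6 n451
theorem D688 : act 6 n451 = n688 := rfl
theorem F2270 : act 0 n688 = n457 := d5_1 D688 (iv D457) (iv F1503)
theorem F2271 : act 2 n688 = n453 := d16_1 D688 (iv D453) (iv F1504)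
theorem F2272 : act 3 n688 = n503 := d20_1 D688 F2269 (iv D687)
theorem F2273 : act 5 n688 = n505 := d25_1 D688 (iv D505) (iv F1507) (iv F1510) (iv F1505)
def n689 : Q := act 4 n452
theorem D689 : act 4 n452 = n689 := rfl
theorem F2274 : act 0 n689 = n458 := d3_1 D689 (iv D458) (iv F1506)
theorem F2275 : act 2 n689 = n482 := d14_1 D689 F1616 F1509
theorem F2276 : act 5 n689 = n504 := d22_2 (iv F1507) D689 (iv D504)
theorem F2277 : act 6 n689 = n480 := d23_2 F1510 D689 F1611
theorem F2278 : act 7 n689 = n689 := d24_2 F1508 D689 (iv D689)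
def n690 : Q := act 7 n454
theorem D690 : act 7 n454 = n690 := rfl
theorem F2279 : act 1 n690 = n690 := d12_1 D690 (iv D690) F1513
theorem F2280 : act 2 n690 = n690 := d17_1 D690 (iv D690) F1514
theorem F2281 : act 4 n690 = n455 := d24_1 D690 (iv D455) D454
theorem F2282 : act 5 n690 = n506 := d26_1 D690 (iv D506) (iv F1515)
theorem F2283 : act 6 n690 = n690 := d27_1 D690 (iv D690) (iv F2227) F2228 F2227
def n691 : Q := act 7 n459
theorem D691 : act 7 n459 = n691 := rfl
theorem F2284 : act 1 n691 = n691 := d12_1 D691 (iv D691) F1533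
theorem F2285 : act 3 n691 = n691 := d21_1 D691 (iv D691) (iv D459) F822 D459
theorem F2286 : act 4 n691 = n691 := d24_1 D691 (iv D691) F1534
theorem F2287 : act 5 n691 = n524 := d26_1 D691 (iv D524) (iv F1535)
def n692 : Q := act 1 n460
theorem D692 : act 1 n460 = n692 := rfl
theorem F2288 : act 0 n692 = n692 := d0_1 D692 (iv D692) F1537 F827 (iv F1537)
theorem F2289 : act 2 n692 = n692 := d7_2 D460 D692 (iv D692) (iv D460) F823
theorem F2290 : act 4 n692 = n692 := d9_2 F1538 D692 (iv D692)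
theorem F2291 : act 6 n692 = n692 := d11_2 F1539 D692 (iv D692)
def n693 : Q := act 3 n460
theorem D693 : act 3 n460 = n693 := rfl
theorem F2292 : act 0 n693 = n462 := d2_1 D693 (iv D462) (iv F1537)
theorem F2293 : act 2 n693 = n479 := d13_1 D693 (iv D479) (iv D265) (iv F824) D460
theorem F2294 : act 6 n693 = n693 := d20_2 F1539 D693 (iv D693)
def n694 : Q := act 7 n460
theorem D694 : act 7 n460 = n694 := rfl
theorem F2295 : act 0 n694 = n463 := d6_1 D694 (iv D463) (iv F1537)
theorem F2296 : act 2 n694 = n461 := d17_1 D694 (iv D461) D460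
theorem F2297 : act 4 n694 = n694 := d24_1 D694 (iv D694) F1538
def n695 : Q := act 3 n461
theorem D695 : act 3 n461 = n695 := rfl
theorem F2298 : act 0 n695 = n464 := d2_1 D695 (iv D464) (iv F1540)
theorem F2299 : act 1 n695 = n695 := d8_1 D695 (iv D695) F1541
theorem F2300 : act 7 n695 = n481 := d21_2 D461 D695 (iv D481) (iv D266) (iv F824)
def n696 : Q := act 6 n461
theorem D696 : act 6 n461 = n696 := rfl
theorem F2301 : act 0 n696 = n465 := d5_1 D696 (iv D465) (iv F1540)
theorem F2302 : act 1 n696 = n696 := d11_1 D696 (iv D696) F1541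
theorem F2303 : act 4 n696 = n696 := d23_1 D696 (iv D696) F1542
theorem F2304 : act 7 n696 = n696 := d27_2 D461 D696 (iv D696) (iv D461) F826
def n697 : Q := act 4 n462
theorem D697 : act 4 n462 = n697 := rfl
theorem F2305 : act 1 n697 = n697 := d9_1 D697 (iv D697) F1543
theorem F2306 : act 2 n697 = n483 := d14_1 D697 (iv D483) (iv F1544)
theorem F2307 : act 3 n697 = n697 := d18_1 D697 (iv D697) (iv D462) F828 D462
theorem F2308 : act 6 n697 = n697 := d23_2 F1545 D697 (iv D697)
def n698 : Q := act 7 n462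
theorem D698 : act 7 n462 = n698 := rfl
theorem F2309 : act 1 n698 = n698 := d12_1 D698 (iv D698) F1543
theorem F2310 : act 2 n698 = n484 := d17_1 D698 (iv D484) (iv F1544)
def n699 : Q := act 3 n463
theorem D699 : act 3 n463 = n699 := rfl
theorem F2311 : act 1 n699 = n699 := d8_1 D699 (iv D699) F1546
def n700 : Q := act 6 n463
theorem D700 : act 6 n463 = n700 := rfl
theorem F2312 : act 1 n700 = n700 := d11_1 D700 (iv D700) F1546
theorem F2313 : act 2 n700 = n465 := d16_1 D700 (iv D465) (iv F1547)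
theorem F2314 : act 4 n700 = n700 := d23_1 D700 (iv D700) F1548
theorem F2315 : act 7 n700 = n700 := d27_2 D463 D700 (iv D700) (iv D463) F829
def n701 : Q := act 2 n464
theorem D701 : act 2 n464 = n701 := rfl
theorem F2316 : act 7 n701 = n486 := d17_2 (iv F1550) D701 (iv D486)
def n702 : Q := act 4 n464
theorem D702 : act 4 n464 = n702 := rfl
theorem F2317 : act 1 n702 = n467 := d9_1 D702 (iv D467) (iv F1549)
theorem F2318 : act 3 n702 = n702 := d18_1 D702 (iv D702) (iv D464) F831 D464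
theorem F2319 : act 7 n702 = n487 := d24_2 (iv F1550) D702 (iv D487)
def n703 : Q := act 6 n464
theorem D703 : act 6 n464 = n703 := rfl
theorem F2320 : act 1 n703 = n468 := d11_1 D703 (iv D468) (iv F1549)
theorem F2321 : act 3 n703 = n465 := d20_1 D703 (iv D465) D464
def n704 : Q := act 5 n465
theorem D704 : act 5 n465 = n704 := rfl
theorem F2322 : act 4 n704 = n704 := d22_1 D704 (iv D704) F1552
theorem F2323 : act 7 n704 = n704 := d26_2 F1553 D704 (iv D704)
def n705 : Q := act 1 n466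
theorem D705 : act 1 n466 = n705 := rfl
theorem F2324 : act 3 n705 = n705 := d8_2 F1555 D705 (iv D705)
theorem F2325 : act 4 n705 = n703 := d9_2 F1566 D705 F2320
theorem F2326 : act 6 n705 = n702 := d11_2 (iv F1562) D705 F2317
theorem F2327 : act 7 n705 = n490 := d12_2 (iv F1557) D705 (iv D490)
def n706 : Q := act 1 n469
theorem D706 : act 1 n469 = n706 := rfl
theorem F2328 : act 4 n706 = n706 := d9_2 F1569 D706 (iv D706)
theorem F2329 : act 6 n706 = n475 := d11_2 (iv F1570) D706 (iv D475)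
theorem F2330 : act 7 n706 = n706 := d12_2 F1571 D706 (iv D706)
def n707 : Q := act 0 n470
theorem D707 : act 0 n470 = n707 := rfl
theorem F2331 : act 1 n707 = n707 := d0_2 D470 D707 (iv D707) (iv D470) F839
theorem F2332 : act 3 n707 = n707 := d2_2 F1572 D707 (iv D707)
theorem F2333 : act 7 n707 = n495 := d6_2 (iv F1573) D707 (iv D495)
def n708 : Q := act 4 n470
theorem D708 : act 4 n470 = n708 := rfl
theorem F2334 : act 1 n708 = n471 := d9_1 D708 (iv D471) D470
theorem F2335 : act 7 n708 = n496 := d24_2 (iv F1573) D708 (iv D496)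
theorem F2336 : act 3 n706 = n708 := d8_0 F2334 (iv F1578) D706
def n709 : Q := act 5 n470
theorem D709 : act 5 n470 = n709 := rfl
theorem F2337 : act 3 n709 = n709 := d19_1 D709 (iv D709) F1572
theorem F2338 : act 7 n709 = n497 := d26_2 (iv F1573) D709 (iv D497)
def n710 : Q := act 6 n470
theorem D710 : act 6 n470 = n710 := rfl
theorem F2339 : act 1 n710 = n472 := d11_1 D710 (iv D472) D470
theorem F2340 : act 3 n710 = n710 := d20_1 D710 (iv D710) F1572
theorem F2341 : act 7 n710 = n710 := d27_2 (iv F1573) D710 (iv D710) F1573 F880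
def n711 : Q := act 1 n474
theorem D711 : act 1 n474 = n711 := rfl
theorem F2342 : act 3 n711 = n475 := d8_2 (iv F1590) D711 (iv D475)
theorem F2343 : act 4 n711 = n710 := d9_2 (iv F1591) D711 F2339
theorem F2344 : act 6 n711 = n708 := d11_2 (iv F1592) D711 F2334
theorem F2345 : act 7 n711 = n711 := d12_2 F1593 D711 (iv D711)
def n712 : Q := act 0 n475
theorem D712 : act 0 n475 = n712 := rfl
theorem F2346 : act 1 n712 = n712 := d0_2 D475 D712 (iv D712) (iv D475) F848
theorem F2347 : act 4 n712 = n712 := d3_2 F1594 D712 (iv D712)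
theorem F2348 : act 7 n712 = n476 := d6_2 (iv F1595) D712 (iv D476)
def n713 : Q := act 2 n475
theorem D713 : act 2 n475 = n713 := rfl
theorem F2349 : act 1 n713 = n713 := d7_1 D713 (iv D713) (iv D475) F849 D475
theorem F2350 : act 4 n713 = n713 := d14_2 F1594 D713 (iv D713)
theorem F2351 : act 7 n713 = n477 := d17_2 (iv F1595) D713 (iv D477)
def n714 : Q := act 2 n476
theorem D714 : act 2 n476 = n714 := rfl
theorem F2352 : act 0 n714 = n477 := d1_1 D714 (iv D477) D476
theorem F2353 : act 4 n714 = n714 := d14_2 F1598 D714 (iv D714)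
theorem F2354 : act 6 n714 = n714 := d16_2 F1599 D714 (iv D714)
def n715 : Q := act 3 n477
theorem D715 : act 3 n477 = n715 := rfl
theorem F2355 : act 1 n715 = n715 := d8_1 D715 (iv D715) F1600
theorem F2356 : act 2 n715 = n715 := d13_1 D715 (iv D715) (iv D477) F852 D477
theorem F2357 : act 6 n715 = n715 := d20_2 F1602 D715 (iv D715)
def n716 : Q := act 3 n478
theorem D716 : act 3 n478 = n716 := rfl
theorem F2358 : act 0 n716 = n510 := d2_1 D716 (iv D510) (iv F1603)
theorem F2359 : act 1 n716 = n479 := d8_1 D716 (iv D479) D478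
theorem F2360 : act 6 n716 = n716 := d20_2 F1606 D716 (iv D716)
def n717 : Q := act 5 n478
theorem D717 : act 5 n478 = n717 := rfl
theorem F2361 : act 0 n717 = n511 := d4_1 D717 (iv D511) (iv F1603)
theorem F2362 : act 2 n717 = n717 := d15_1 D717 (iv D717) F1604
theorem F2363 : act 4 n717 = n499 := d22_1 D717 (iv D499) (iv F1605)
def n718 : Q := act 7 n478
theorem D718 : act 7 n478 = n718 := rfl
theorem F2364 : act 0 n718 = n512 := d6_1 D718 (iv D512) (iv F1603)
theorem F2365 : act 1 n718 = n480 := d12_1 D718 (iv D480) D478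
theorem F2366 : act 2 n718 = n718 := d17_1 D718 (iv D718) F1604
theorem F2367 : act 4 n718 = n500 := d24_1 D718 (iv D500) (iv F1605)
def n719 : Q := act 4 n479
theorem D719 : act 4 n479 = n719 := rfl
theorem F2368 : act 0 n719 = n483 := d3_1 D719 (iv D483) (iv F1607)
theorem F2369 : act 3 n719 = n501 := d18_1 D719 (iv D501) (iv D277) (iv F856) D479
theorem F2370 : act 6 n719 = n719 := d23_2 F1608 D719 (iv D719)
def n720 : Q := act 7 n479
theorem D720 : act 7 n479 = n720 := rfl
theorem F2371 : act 0 n720 = n484 := d6_1 D720 (iv D484) (iv F1607)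
def n721 : Q := act 3 n480
theorem D721 : act 3 n480 = n721 := rfl
theorem F2372 : act 0 n721 = n485 := d2_1 D721 (iv D485) (iv F1609)
def n722 : Q := act 2 n481
theorem D722 : act 2 n481 = n722 := rfl
theorem F2373 : act 0 n722 = n486 := d1_1 D722 (iv D486) (iv F1612)
def n723 : Q := act 4 n481
theorem D723 : act 4 n481 = n723 := rfl
theorem F2374 : act 0 n723 = n487 := d3_1 D723 (iv D487) (iv F1612)
theorem F2375 : act 1 n723 = n723 := d9_1 D723 (iv D723) F1613
theorem F2376 : act 3 n723 = n504 := d18_1 D723 (iv D504) (iv D279) (iv F860) D481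
def n724 : Q := act 6 n481
theorem D724 : act 6 n481 = n724 := rfl
theorem F2377 : act 0 n724 = n488 := d5_1 D724 (iv D488) (iv F1612)
theorem F2378 : act 1 n724 = n724 := d11_1 D724 (iv D724) F1613
theorem F2379 : act 3 n724 = n482 := d20_1 D724 (iv D482) D481
def n725 : Q := act 5 n482
theorem D725 : act 5 n482 = n725 := rfl
theorem F2380 : act 0 n725 = n489 := d4_1 D725 (iv D489) (iv F1614)
theorem F2381 : act 2 n725 = n504 := d15_1 D725 (iv F2276) F2275
theorem F2382 : act 4 n725 = n503 := d22_1 D725 F1673 (iv F1616)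
theorem F2383 : act 7 n725 = n725 := d26_2 F1617 D725 (iv D725)
def n726 : Q := act 7 n483
theorem D726 : act 7 n483 = n726 := rfl
theorem F2384 : act 1 n726 = n518 := d12_1 D726 (iv D518) (iv F1618)
theorem F2385 : act 4 n726 = n484 := d24_1 D726 (iv D484) D483
def n727 : Q := act 3 n484
theorem D727 : act 3 n484 = n727 := rfl
theorem F2386 : act 1 n727 = n519 := d8_1 D727 (iv D519) (iv F1621)
theorem F2387 : act 7 n727 = n485 := d21_2 D484 D727 (iv D485) (iv D268) D267
def n728 : Q := act 6 n484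
theorem D728 : act 6 n484 = n728 := rfl
theorem F2388 : act 1 n728 = n520 := d11_1 D728 (iv D520) (iv F1621)
theorem F2389 : act 7 n728 = n728 := d27_2 D484 D728 (iv D728) (iv D484) F862
def n729 : Q := act 2 n485
theorem D729 : act 2 n485 = n729 := rfl
theorem F2390 : act 3 n729 = n486 := d13_2 D485 D729 (iv D486) (iv D269) (iv F864)
def n730 : Q := act 1 n486
theorem D730 : act 1 n486 = n730 := rfl
theorem F2391 : act 2 n730 = n490 := d7_2 D486 D730 (iv D490) (iv D271) (iv F866)
def n731 : Q := act 4 n486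
theorem D731 : act 4 n486 = n731 := rfl
theorem F2392 : act 2 n731 = n487 := d14_1 D731 (iv D487) D486
def n732 : Q := act 6 n486
theorem D732 : act 6 n486 = n732 := rfl
theorem F2393 : act 2 n732 = n488 := d16_1 D732 (iv D488) D486
def n733 : Q := act 6 n487
theorem D733 : act 6 n487 = n733 := rfl
theorem F2394 : act 1 n733 = n493 := d11_1 D733 (iv D493) (iv F1623)
theorem F2395 : act 3 n733 = n507 := d20_1 D733 (iv D507) (iv F1624)
theorem F2396 : act 4 n733 = n488 := d23_1 D733 (iv D488) D487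
def n734 : Q := act 5 n488
theorem D734 : act 5 n488 = n734 := rfl
theorem F2397 : act 1 n734 = n734 := d10_1 D734 (iv D734) F1625 F878 (iv F1625)
theorem F2398 : act 3 n734 = n489 := d19_1 D734 (iv D489) (iv F1626)
def n735 : Q := act 7 n488
theorem D735 : act 7 n488 = n735 := rfl
theorem F2399 : act 1 n735 = n494 := d12_1 D735 (iv D494) (iv F1625)
theorem F2400 : act 3 n735 = n735 := d21_1 D735 (iv D735) F1626 F869 (iv F1626)
def n736 : Q := act 0 n490
theorem D736 : act 0 n490 = n736 := rfl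
theorem F2401 : act 1 n736 = n736 := d0_2 D490 D736 (iv D736) (iv D490) F870
theorem F2402 : act 3 n736 = n525 := d2_2 (iv F1631) D736 (iv D525)
def n737 : Q := act 4 n490
theorem D737 : act 4 n490 = n737 := rfl
theorem F2403 : act 1 n737 = n491 := d9_1 D737 (iv D491) D490
theorem F2404 : act 3 n737 = n737 := d18_1 D737 (iv D737) F1631 F965 (iv F1631)
theorem F2405 : act 7 n737 = n703 := d24_2 F2327 D737 (iv F2325)
theorem F2406 : act 6 n735 = n737 := d27_5 F2405 (iv D703) F1550 D488 D735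
def n738 : Q := act 5 n490
theorem D738 : act 5 n490 = n738 := rfl
theorem F2407 : act 1 n738 = n497 := d10_1 D738 (iv D497) (iv D274) (iv F872) D490
theorem F2408 : act 3 n738 = n526 := d19_1 D738 (iv D526) (iv F1631)
def n739 : Q := act 6 n490
theorem D739 : act 6 n490 = n739 := rfl
theorem F2409 : act 1 n739 = n492 := d11_1 D739 (iv D492) D490
theorem F2410 : act 3 n739 = n527 := d20_1 D739 (iv D527) (iv F1631)
theorem F2411 : act 4 n739 = n735 := d23_1 D739 F2406 (iv D737)
theorem F2412 : act 7 n739 = n733 := d27_2 F2327 D739 (iv D733) (iv F2319) (iv F2326)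
def n740 : Q := act 4 n495
theorem D740 : act 4 n495 = n740 := rfl
theorem F2413 : act 0 n740 = n496 := d3_1 D740 (iv D496) D495
theorem F2414 : act 1 n740 = n740 := d9_1 D740 (iv D740) F1652
theorem F2415 : act 3 n740 = n740 := d18_1 D740 (iv D740) F1653 F978 (iv F1653)
theorem F2416 : act 6 n740 = n740 := d23_2 F1654 D740 (iv D740)
def n741 : Q := act 5 n495
theorem D741 : act 5 n495 = n741 := rfl
theorem F2417 : act 0 n741 = n497 := d4_1 D741 (iv D497) D495
theorem F2418 : act 3 n741 = n529 := d19_1 D741 (iv D529) (iv F1653)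
def n742 : Q := act 5 n496
theorem D742 : act 5 n496 = n742 := rfl
theorem F2419 : act 3 n742 = n742 := d19_1 D742 (iv D742) F1656
theorem F2420 : act 4 n742 = n497 := d22_1 D742 (iv D497) D496
def n743 : Q := act 6 n497
theorem D743 : act 6 n497 = n743 := rfl
theorem F2421 : act 3 n743 = n530 := d20_1 D743 (iv D530) (iv F1658)
theorem F2422 : act 5 n743 = n743 := d25_1 D743 (iv D743) (iv D497) F880 D497
def n744 : Q := act 4 n498
theorem D744 : act 4 n498 = n744 := rfl
theorem F2423 : act 0 n744 = n531 := d3_1 D744 (iv D531) (iv F1659)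
theorem F2424 : act 1 n744 = n501 := d9_1 D744 (iv D501) (iv F1660)
theorem F2425 : act 6 n744 = n744 := d23_2 F1661 D744 (iv D744)
def n745 : Q := act 7 n498
theorem D745 : act 7 n498 = n745 := rfl
theorem F2426 : act 0 n745 = n532 := d6_1 D745 (iv D532) (iv F1659)
theorem F2427 : act 1 n745 = n502 := d12_1 D745 (iv D502) (iv F1660)
def n746 : Q := act 7 n499
theorem D746 : act 7 n499 = n746 := rfl
theorem F2428 : act 0 n746 = n533 := d6_1 D746 (iv D533) (iv F1662)
theorem F2429 : act 2 n746 = n746 := d17_1 D746 (iv D746) F1663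
theorem F2430 : act 5 n746 = n500 := d26_1 D746 (iv D500) D499
theorem F2431 : act 6 n746 = n746 := d27_1 D746 (iv D746) (iv F1985) F1986 F1985
def n747 : Q := act 7 n501
theorem D747 : act 7 n501 = n747 := rfl
theorem F2432 : act 0 n747 = n506 := d6_1 D747 (iv D506) (iv F1667)
theorem F2433 : act 2 n747 = n747 := d17_1 D747 (iv D747) F1668
theorem F2434 : act 4 n747 = n502 := d24_1 D747 (iv D502) D501
def n748 : Q := act 1 n503
theorem D748 : act 1 n503 = n748 := rfl
theorem F2435 : act 0 n748 = n748 := d0_1 D748 (iv D748) F1672 F908 (iv F1672)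
theorem F2436 : act 2 n748 = n748 := d7_2 D503 D748 (iv D748) (iv D503) F894
theorem F2437 : act 5 n748 = n748 := d10_2 (iv F1673) D748 (iv D748) F1673 F897
theorem F2438 : act 7 n748 = n748 := d12_2 F1674 D748 (iv D748)
def n749 : Q := act 6 n504
theorem D749 : act 6 n504 = n749 := rfl
theorem F2439 : act 0 n749 = n507 := d5_1 D749 (iv D507) (iv F1675)
theorem F2440 : act 1 n749 = n749 := d11_1 D749 (iv D749) F1676
theorem F2441 : act 4 n749 = n505 := d23_1 D749 (iv D505) D504
def n750 : Q := act 7 n505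
theorem D750 : act 7 n505 = n750 := rfl
theorem F2442 : act 0 n750 = n508 := d6_1 D750 (iv D508) (iv F1678)
theorem F2443 : act 1 n750 = n750 := d12_1 D750 (iv D750) F1679
theorem F2444 : act 3 n750 = n750 := d21_1 D750 (iv D750) F1680 F898 (iv F1680)
theorem F2445 : act 6 n750 = n750 := d27_1 D750 (iv D750) (iv D505) F895 D505
def n751 : Q := act 3 n506
theorem D751 : act 3 n506 = n751 := rfl
theorem F2446 : act 1 n751 = n535 := d8_1 D751 (iv D535) (iv F1681)
def n752 : Q := act 7 n507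
theorem D752 : act 7 n507 = n752 := rfl
theorem F2447 : act 1 n752 = n509 := d12_1 D752 (iv D509) (iv F1684)
theorem F2448 : act 4 n752 = n508 := d24_1 D752 (iv D508) (iv F1685)
theorem F2449 : act 6 n752 = n752 := d27_1 D752 (iv D752) (iv D507) F911 D507
def n753 : Q := act 2 n510
theorem D753 : act 2 n510 = n753 := rfl
theorem F2450 : act 1 n753 = n753 := d7_1 D753 (iv D753) F1694 F929 (iv F1694)
theorem F2451 : act 3 n753 = n753 := d13_2 D510 D753 (iv D753) (iv D510) F925
theorem F2452 : act 6 n753 = n753 := d16_2 F1695 D753 (iv D753)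
def n754 : Q := act 4 n510
theorem D754 : act 4 n510 = n754 := rfl
theorem F2453 : act 1 n754 = n513 := d9_1 D754 (iv D513) (iv F1694)
theorem F2454 : act 3 n754 = n531 := d18_1 D754 (iv D531) (iv D308) (iv F926) D510
theorem F2455 : act 6 n754 = n754 := d23_2 F1695 D754 (iv D754)
def n755 : Q := act 5 n510
theorem D755 : act 5 n510 = n755 := rfl
theorem F2456 : act 1 n755 = n755 := d10_1 D755 (iv D755) F1694 F930 (iv F1694)
theorem F2457 : act 3 n755 = n511 := d19_1 D755 (iv D511) D510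
def n756 : Q := act 7 n510
theorem D756 : act 7 n510 = n756 := rfl
theorem F2458 : act 1 n756 = n514 := d12_1 D756 (iv D514) (iv F1694)
def n757 : Q := act 7 n511
theorem D757 : act 7 n511 = n757 := rfl
theorem F2459 : act 1 n757 = n757 := d12_1 D757 (iv D757) F1696
theorem F2460 : act 2 n757 = n757 := d17_1 D757 (iv D757) F1697
theorem F2461 : act 4 n757 = n533 := d24_1 D757 (iv D533) (iv F1698)
theorem F2462 : act 5 n757 = n512 := d26_1 D757 (iv D512) D511
theorem F2463 : act 6 n757 = n757 := d27_1 D757 (iv D757) (iv F2003) F2004 F2003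
def n758 : Q := act 3 n512
theorem D758 : act 3 n512 = n758 := rfl
theorem F2464 : act 1 n758 = n515 := d8_1 D758 (iv D515) (iv F1699)
def n759 : Q := act 7 n513
theorem D759 : act 7 n513 = n759 := rfl
theorem F2465 : act 0 n759 = n518 := d6_1 D759 (iv D518) (iv F1702)
theorem F2466 : act 2 n759 = n759 := d17_1 D759 (iv D759) F1703
theorem F2467 : act 4 n759 = n514 := d24_1 D759 (iv D514) D513
theorem F2468 : act 5 n759 = n759 := d26_1 D759 (iv D759) F1705
def n760 : Q := act 3 n514
theorem D760 : act 3 n514 = n760 := rfl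
theorem F2469 : act 0 n760 = n519 := d2_1 D760 (iv D519) (iv F1707)
theorem F2470 : act 5 n760 = n760 := d19_2 F1709 D760 (iv D760)
theorem F2471 : act 7 n760 = n515 := d21_2 D514 D760 (iv D515) (iv D293) D292
def n761 : Q := act 6 n514
theorem D761 : act 6 n514 = n761 := rfl
theorem F2472 : act 0 n761 = n520 := d5_1 D761 (iv D520) (iv F1707)
theorem F2473 : act 2 n761 = n761 := d16_1 D761 (iv D761) F1708
theorem F2474 : act 7 n761 = n761 := d27_2 D514 D761 (iv D761) (iv D514) F931
def n762 : Q := act 2 n515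
theorem D762 : act 2 n515 = n762 := rfl
theorem F2475 : act 0 n762 = n521 := d1_1 D762 (iv D521) (iv F1710)
theorem F2476 : act 3 n762 = n516 := d13_2 D515 D762 (iv D516) (iv D294) (iv F933)
theorem F2477 : act 5 n762 = n762 := d15_2 F1711 D762 (iv D762)
def n763 : Q := act 1 n516
theorem D763 : act 1 n516 = n763 := rfl
theorem F2478 : act 2 n763 = n763 := d7_2 D516 D763 (iv D763) (iv D516) F937
theorem F2479 : act 4 n763 = n763 := d9_2 F1713 D763 (iv D763)
theorem F2480 : act 7 n763 = n763 := d12_2 F1715 D763 (iv D763)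
def n764 : Q := act 6 n516
theorem D764 : act 6 n516 = n764 := rfl
theorem F2481 : act 0 n764 = n523 := d5_1 D764 (iv D523) (iv F1712)
theorem F2482 : act 2 n764 = n517 := d16_1 D764 (iv D517) D516
theorem F2483 : act 4 n764 = n764 := d23_1 D764 (iv D764) F1713
def n765 : Q := act 7 n517
theorem D765 : act 7 n517 = n765 := rfl
theorem F2484 : act 0 n765 = n524 := d6_1 D765 (iv D524) (iv F1716)
theorem F2485 : act 1 n765 = n765 := d12_1 D765 (iv D765) F1717
theorem F2486 : act 3 n765 = n765 := d21_1 D765 (iv D765) F1718 F944 (iv F1718)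
theorem F2487 : act 4 n765 = n765 := d24_1 D765 (iv D765) F1719
theorem F2488 : act 6 n765 = n765 := d27_1 D765 (iv D765) (iv D517) F940 D517
def n766 : Q := act 3 n518
theorem D766 : act 3 n518 = n766 := rfl
theorem F2489 : act 5 n766 = n766 := d19_2 F1722 D766 (iv D766)
theorem F2490 : act 7 n766 = n535 := d21_2 D518 D766 (iv D535) (iv D316) (iv F946)
def n767 : Q := act 6 n518
theorem D767 : act 6 n518 = n767 := rfl
theorem F2491 : act 2 n767 = n767 := d16_1 D767 (iv D767) F1720
theorem F2492 : act 4 n767 = n520 := d23_1 D767 (iv D520) (iv F1721)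
theorem F2493 : act 7 n767 = n767 := d27_2 D518 D767 (iv D767) (iv D518) F948
def n768 : Q := act 2 n519
theorem D768 : act 2 n519 = n768 := rfl
theorem F2494 : act 3 n768 = n768 := d13_2 D519 D768 (iv D768) (iv D519) F949
theorem F2495 : act 5 n768 = n768 := d15_2 F1723 D768 (iv D768)
theorem F2496 : act 7 n768 = n521 := d17_2 (iv F1724) D768 (iv D521)
def n769 : Q := act 6 n519
theorem D769 : act 6 n519 = n769 := rfl
theorem F2497 : act 3 n769 = n520 := d20_1 D769 (iv D520) D519
def n770 : Q := act 5 n520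
theorem D770 : act 5 n520 = n770 := rfl
theorem F2498 : act 2 n770 = n770 := d15_1 D770 (iv D770) F1725
theorem F2499 : act 6 n770 = n770 := d25_2 D520 D770 (iv D770) (iv D520) F950
theorem F2500 : act 7 n770 = n770 := d26_2 F1726 D770 (iv D770)
def n771 : Q := act 1 n521
theorem D771 : act 1 n521 = n771 := rfl
theorem F2501 : act 3 n771 = n522 := d8_2 (iv F1727) D771 (iv D522)
def n772 : Q := act 0 n522
theorem D772 : act 0 n522 = n772 := rfl
theorem F2502 : act 2 n772 = n525 := d1_2 (iv F1729) D772 (iv D525)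
theorem F2503 : act 4 n772 = n772 := d3_2 F1730 D772 (iv D772)
theorem F2504 : act 7 n772 = n772 := d6_2 F1731 D772 (iv D772)
def n773 : Q := act 5 n522
theorem D773 : act 5 n522 = n773 := rfl
theorem F2505 : act 1 n773 = n773 := d10_1 D773 (iv D773) (iv D522) F956 D522
theorem F2506 : act 2 n773 = n526 := d15_1 D773 (iv D526) (iv F1729)
theorem F2507 : act 4 n773 = n773 := d22_1 D773 (iv D773) F1730
theorem F2508 : act 7 n773 = n773 := d26_2 F1731 D773 (iv D773)
def n774 : Q := act 6 n522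
theorem D774 : act 6 n522 = n774 := rfl
theorem F2509 : act 1 n774 = n523 := d11_1 D774 (iv D523) D522
theorem F2510 : act 2 n774 = n527 := d16_1 D774 (iv D527) (iv F1729)
theorem F2511 : act 4 n774 = n774 := d23_1 D774 (iv D774) F1730
def n775 : Q := act 7 n523
theorem D775 : act 7 n523 = n775 := rfl
theorem F2512 : act 2 n775 = n524 := d17_1 D775 (iv D524) (iv F1732)
theorem F2513 : act 4 n775 = n775 := d24_1 D775 (iv D775) F1733
theorem F2514 : act 6 n775 = n775 := d27_1 D775 (iv D775) (iv D523) F957 D523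
def n776 : Q := act 5 n525
theorem D776 : act 5 n525 = n776 := rfl
theorem F2515 : act 0 n776 = n526 := d4_1 D776 (iv D526) D525
theorem F2516 : act 4 n776 = n776 := d22_1 D776 (iv D776) F1739
theorem F2517 : act 7 n776 = n776 := d26_2 F1740 D776 (iv D776)
def n777 : Q := act 6 n525
theorem D777 : act 6 n525 = n777 := rfl
theorem F2518 : act 0 n777 = n527 := d5_1 D777 (iv D527) D525
theorem F2519 : act 1 n777 = n777 := d11_1 D777 (iv D777) F1738
theorem F2520 : act 4 n777 = n777 := d23_1 D777 (iv D777) F1739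
def n778 : Q := act 6 n526
theorem D778 : act 6 n526 = n778 := rfl
theorem F2521 : act 1 n778 = n530 := d11_1 D778 (iv D530) (iv F1741)
theorem F2522 : act 4 n778 = n778 := d23_1 D778 (iv D778) F1742
def n779 : Q := act 5 n527
theorem D779 : act 5 n527 = n779 := rfl
theorem F2523 : act 1 n779 = n779 := d10_1 D779 (iv D779) F1744 F970 (iv F1744)
theorem F2524 : act 4 n779 = n779 := d22_1 D779 (iv D779) F1745
def n780 : Q := act 7 n527
theorem D780 : act 7 n527 = n780 := rfl
theorem F2525 : act 1 n780 = n528 := d12_1 D780 (iv D528) (iv F1744)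
theorem F2526 : act 3 n780 = n752 := d21_1 D780 (iv D752) (iv F2395) (iv F2412) F2410
theorem F2527 : act 4 n780 = n780 := d24_1 D780 (iv D780) F1745
theorem F2528 : act 6 n780 = n780 := d27_1 D780 (iv D780) (iv D527) F966 D527
def n781 : Q := act 1 n529
theorem D781 : act 1 n529 = n781 := rfl
theorem F2529 : act 4 n781 = n781 := d9_2 F1754 D781 (iv D781)
theorem F2530 : act 5 n781 = n781 := d10_2 D529 D781 (iv D781) (iv D529) F976
theorem F2531 : act 7 n781 = n781 := d12_2 F1755 D781 (iv D781)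
def n782 : Q := act 6 n529
theorem D782 : act 6 n529 = n782 := rfl
theorem F2532 : act 0 n782 = n530 := d5_1 D782 (iv D530) (iv F1752)
theorem F2533 : act 2 n782 = n782 := d16_1 D782 (iv D782) F1753
theorem F2534 : act 4 n782 = n782 := d23_1 D782 (iv D782) F1754
theorem F2535 : act 5 n782 = n782 := d25_1 D782 (iv D782) (iv D529) F979 D529
def n783 : Q := act 7 n530
theorem D783 : act 7 n530 = n783 := rfl
theorem F2536 : act 2 n783 = n783 := d17_1 D783 (iv D783) F1756
theorem F2537 : act 4 n783 = n783 := d24_1 D783 (iv D783) F1757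
theorem F2538 : act 5 n783 = n783 := d26_1 D783 (iv D783) F1758
theorem F2539 : act 6 n783 = n783 := d27_1 D783 (iv D783) (iv D530) F983 D530
def n784 : Q := act 7 n531
theorem D784 : act 7 n531 = n784 := rfl
theorem F2540 : act 1 n784 = n534 := d12_1 D784 (iv D534) (iv F1759)
theorem F2541 : act 4 n784 = n532 := d24_1 D784 (iv D532) D531
def n785 : Q := act 3 n534
theorem D785 : act 3 n534 = n785 := rfl
theorem F2542 : act 0 n785 = n535 := d2_1 D785 (iv D535) (iv F1766)
theorem F2543 : act 5 n785 = n785 := d19_2 F1769 D785 (iv D785)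
def n786 : Q := act 2 n535
theorem D786 : act 2 n535 = n786 := rfl
theorem F2544 : act 3 n786 = n540 := d13_2 D535 D786 (iv D540) (iv D329) (iv F1007)
theorem F2545 : act 5 n786 = n786 := d15_2 F1770 D786 (iv D786)
def n787 : Q := act 3 n536
theorem D787 : act 3 n536 = n787 := rfl
theorem F2546 : act 0 n787 = n787 := d2_1 D787 (iv D787) F1771
theorem F2547 : act 1 n787 = n538 := d8_1 D787 (iv D538) (iv F1772)
theorem F2548 : act 4 n787 = n787 := d18_2 (iv F1773) D787 (iv D787) F1773 F1034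
theorem F2549 : act 7 n787 = n787 := d21_2 D536 D787 (iv D787) (iv D536) F1027
def n788 : Q := act 6 n536
theorem D788 : act 6 n536 = n788 := rfl
theorem F2550 : act 0 n788 = n788 := d5_1 D788 (iv D788) F1771
theorem F2551 : act 1 n788 = n539 := d11_1 D788 (iv D539) (iv F1772)
theorem F2552 : act 4 n788 = n537 := d23_1 D788 (iv D537) (iv F1773)
theorem F2553 : act 5 n788 = n788 := d25_1 D788 (iv D788) (iv F1864) F1865 F1864
theorem F2554 : act 7 n788 = n788 := d27_2 D536 D788 (iv D788) (iv D536) F1028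
def n789 : Q := act 2 n538
theorem D789 : act 2 n538 = n789 := rfl
theorem F2555 : act 0 n789 = n540 := d1_1 D789 (iv D540) (iv F1779)
theorem F2556 : act 4 n789 = n789 := d14_2 F1780 D789 (iv D789)
theorem F2557 : act 5 n789 = n789 := d15_2 F1781 D789 (iv D789)
theorem F2558 : act 7 n789 = n789 := d17_2 F1782 D789 (iv D789)
def n790 : Q := act 6 n538
theorem D790 : act 6 n538 = n790 := rfl
theorem F2559 : act 0 n790 = n541 := d5_1 D790 (iv D541) (iv F1779)
theorem F2560 : act 3 n790 = n539 := d20_1 D790 (iv D539) D538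
theorem F2561 : act 4 n790 = n790 := d23_1 D790 (iv D790) F1780
def n791 : Q := act 1 n540
theorem D791 : act 1 n540 = n791 := rfl
theorem F2562 : act 2 n791 = n791 := d7_2 D540 D791 (iv D791) (iv D540) F1046
theorem F2563 : act 4 n791 = n791 := d9_2 F1786 D791 (iv D791)
theorem F2564 : act 7 n791 = n791 := d12_2 F1788 D791 (iv D791)
def n792 : Q := act 6 n540
theorem D792 : act 6 n540 = n792 := rfl
theorem F2565 : act 2 n792 = n541 := d16_1 D792 (iv D541) D540
theorem F2566 : act 4 n792 = n792 := d23_1 D792 (iv D792) F1786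
def n793 : Q := act 7 n541
theorem D793 : act 7 n541 = n793 := rfl
theorem F2567 : act 1 n793 = n793 := d12_1 D793 (iv D793) F1789
theorem F2568 : act 3 n793 = n793 := d21_1 D793 (iv D793) F1790 F1052 (iv F1790)
theorem F2569 : act 4 n793 = n793 := d24_1 D793 (iv D793) F1791
theorem F2570 : act 6 n793 = n793 := d27_1 D793 (iv D793) (iv D541) F1049 D541
def n794 : Q := act 1 n542
theorem D794 : act 1 n542 = n794 := rfl
theorem F2571 : act 3 n794 = n794 := d8_2 F1794 D794 (iv D794)
theorem F2572 : act 4 n794 = n794 := d9_2 F1795 D794 (iv D794)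
theorem F2573 : act 5 n794 = n544 := d10_2 D542 D794 (iv D544) (iv D338) (iv F1061)
theorem F2574 : act 6 n794 = n794 := d11_2 F1796 D794 (iv D794)
def n795 : Q := act 7 n542
theorem D795 : act 7 n542 = n795 := rfl
theorem F2575 : act 0 n795 = n795 := d6_1 D795 (iv D795) F1792
theorem F2576 : act 2 n795 = n795 := d17_1 D795 (iv D795) F1793
theorem F2577 : act 4 n795 = n795 := d24_1 D795 (iv D795) F1795
theorem F2578 : act 5 n795 = n543 := d26_1 D795 (iv D543) D542
def n796 : Q := act 3 n543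
theorem D796 : act 3 n543 = n796 := rfl
theorem F2579 : act 0 n796 = n796 := d2_1 D796 (iv D796) F1797
theorem F2580 : act 1 n796 = n546 := d8_1 D796 (iv D546) (iv F1798)
theorem F2581 : act 7 n796 = n796 := d21_2 D543 D796 (iv D796) (iv D543) F1063
def n797 : Q := act 0 n544
theorem D797 : act 0 n544 = n797 := rfl
theorem F2582 : act 1 n797 = n607 := d0_2 D544 D797 (iv D607) (iv D400) (iv F1079)
theorem F2583 : act 3 n797 = n797 := d2_2 F1801 D797 (iv D797)
theorem F2584 : act 4 n797 = n797 := d3_2 F1802 D797 (iv D797)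
def n798 : Q := act 2 n544
theorem D798 : act 2 n544 = n798 := rfl
theorem F2585 : act 1 n798 = n553 := d7_1 D798 (iv D553) (iv D348) (iv F1080) D544
theorem F2586 : act 4 n798 = n798 := d14_2 F1802 D798 (iv D798)
def n799 : Q := act 7 n544
theorem D799 : act 7 n544 = n799 := rfl
theorem F2587 : act 1 n799 = n545 := d12_1 D799 (iv D545) D544
theorem F2588 : act 4 n799 = n799 := d24_1 D799 (iv D799) F1802
def n800 : Q := act 3 n545
theorem D800 : act 3 n545 = n800 := rfl
theorem F2589 : act 0 n800 = n610 := d2_1 D800 (iv D610) (iv F1803)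
theorem F2590 : act 5 n800 = n546 := d19_2 (iv F1806) D800 (iv D546)
theorem F2591 : act 7 n800 = n800 := d21_2 D545 D800 (iv D800) (iv D545) F1081
def n801 : Q := act 6 n545
theorem D801 : act 6 n545 = n801 := rfl
theorem F2592 : act 0 n801 = n611 := d5_1 D801 (iv D611) (iv F1803)
theorem F2593 : act 2 n801 = n556 := d16_1 D801 (iv D556) (iv F1804)
theorem F2594 : act 4 n801 = n801 := d23_1 D801 (iv D801) F1805
def n802 : Q := act 2 n546
theorem D802 : act 2 n546 = n802 := rfl
theorem F2595 : act 0 n802 = n612 := d1_1 D802 (iv D612) (iv F1807)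
theorem F2596 : act 3 n802 = n557 := d13_2 D546 D802 (iv D557) (iv D350) (iv F1084)
theorem F2597 : act 7 n802 = n802 := d17_2 F1808 D802 (iv D802)
def n803 : Q := act 4 n546
theorem D803 : act 4 n546 = n803 := rfl
theorem F2598 : act 0 n803 = n613 := d3_1 D803 (iv D613) (iv F1807)
theorem F2599 : act 3 n803 = n803 := d18_1 D803 (iv D803) (iv D546) F1085 D546
theorem F2600 : act 7 n803 = n803 := d24_2 F1808 D803 (iv D803)
def n804 : Q := act 1 n547
theorem D804 : act 1 n547 = n804 := rfl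
theorem F2601 : act 3 n804 = n563 := d8_2 (iv F1811) D804 (iv D563)
theorem F2602 : act 4 n804 = n804 := d9_2 F1812 D804 (iv D804)
theorem F2603 : act 5 n804 = n549 := d10_2 D547 D804 (iv D549) (iv D345) (iv F1096)
theorem F2604 : act 6 n804 = n804 := d11_2 F1813 D804 (iv D804)
def n805 : Q := act 7 n547
theorem D805 : act 7 n547 = n805 := rfl
theorem F2605 : act 0 n805 = n805 := d6_1 D805 (iv D805) F1809
theorem F2606 : act 2 n805 = n805 := d17_1 D805 (iv D805) F1810
theorem F2607 : act 4 n805 = n805 := d24_1 D805 (iv D805) F1812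
theorem F2608 : act 5 n805 = n548 := d26_1 D805 (iv D548) D547
def n806 : Q := act 3 n548
theorem D806 : act 3 n548 = n806 := rfl
theorem F2609 : act 0 n806 = n806 := d2_1 D806 (iv D806) F1814
theorem F2610 : act 1 n806 = n551 := d8_1 D806 (iv D551) (iv F1815)
theorem F2611 : act 6 n806 = n796 := d20_2 (iv F1818) D806 (iv D796)
theorem F2612 : act 7 n806 = n565 := d21_2 D548 D806 (iv D565) (iv D356) (iv F1097)
def n807 : Q := act 0 n549
theorem D807 : act 0 n549 = n807 := rfl
theorem F2613 : act 1 n807 = n614 := d0_2 D549 D807 (iv D614) (iv D407) (iv F1104)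
theorem F2614 : act 3 n807 = n566 := d2_2 (iv F1819) D807 (iv D566)
theorem F2615 : act 4 n807 = n807 := d3_2 F1820 D807 (iv D807)
theorem F2616 : act 6 n807 = n552 := d5_2 (iv F1821) D807 (iv D552)
def n808 : Q := act 2 n549
theorem D808 : act 2 n549 = n808 := rfl
theorem F2617 : act 4 n808 = n808 := d14_2 F1820 D808 (iv D808)
theorem F2618 : act 6 n808 = n553 := d16_2 (iv F1821) D808 (iv D553)
def n809 : Q := act 7 n549
theorem D809 : act 7 n549 = n809 := rfl
theorem F2619 : act 1 n809 = n550 := d12_1 D809 (iv D550) D549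
theorem F2620 : act 4 n809 = n809 := d24_1 D809 (iv D809) F1820
def n810 : Q := act 3 n550
theorem D810 : act 3 n550 = n810 := rfl
theorem F2621 : act 0 n810 = n617 := d2_1 D810 (iv D617) (iv F1822)
theorem F2622 : act 5 n810 = n551 := d19_2 (iv F1824) D810 (iv D551)
theorem F2623 : act 7 n810 = n569 := d21_2 D550 D810 (iv D569) (iv D358) (iv F1105)
def n811 : Q := act 6 n550
theorem D811 : act 6 n550 = n811 := rfl
theorem F2624 : act 0 n811 = n618 := d5_1 D811 (iv D618) (iv F1822)
theorem F2625 : act 4 n811 = n811 := d23_1 D811 (iv D811) F1823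
theorem F2626 : act 5 n811 = n801 := d25_1 D811 (iv D801) F1806 (iv F1436) (iv F1824)
theorem F2627 : act 7 n811 = n556 := d27_2 D550 D811 (iv D556) (iv D349) (iv F1107)
def n812 : Q := act 2 n551
theorem D812 : act 2 n551 = n812 := rfl
theorem F2628 : act 0 n812 = n619 := d1_1 D812 (iv D619) (iv F1825)
theorem F2629 : act 6 n812 = n802 := d16_2 (iv F1826) D812 (iv D802)
theorem F2630 : act 7 n812 = n571 := d17_2 (iv F1827) D812 (iv D571)
def n813 : Q := act 4 n551
theorem D813 : act 4 n551 = n813 := rfl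
theorem F2631 : act 0 n813 = n620 := d3_1 D813 (iv D620) (iv F1825)
theorem F2632 : act 3 n813 = n813 := d18_1 D813 (iv D813) (iv D551) F1109 D551
theorem F2633 : act 6 n813 = n803 := d23_2 (iv F1826) D813 (iv D803)
theorem F2634 : act 7 n813 = n572 := d24_2 (iv F1827) D813 (iv D572)
def n814 : Q := act 2 n552
theorem D814 : act 2 n552 = n814 := rfl
theorem F2635 : act 0 n814 = n553 := d1_1 D814 (iv D553) D552
theorem F2636 : act 4 n814 = n814 := d14_2 F1830 D814 (iv D814)
theorem F2637 : act 5 n814 = n814 := d15_2 F1831 D814 (iv D814)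
def n815 : Q := act 7 n552
theorem D815 : act 7 n552 = n815 := rfl
theorem F2638 : act 0 n815 = n554 := d6_1 D815 (iv D554) D552
theorem F2639 : act 1 n815 = n622 := d12_1 D815 (iv D622) (iv F1828)
theorem F2640 : act 4 n815 = n815 := d24_1 D815 (iv D815) F1830
theorem F2641 : act 5 n815 = n815 := d26_1 D815 (iv D815) F1831
def n816 : Q := act 3 n553
theorem D816 : act 3 n553 = n816 := rfl
theorem F2642 : act 2 n816 = n575 := d13_1 D816 (iv D575) (iv D361) (iv F1113) D553
theorem F2643 : act 5 n816 = n816 := d19_2 F1833 D816 (iv D816)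
def n817 : Q := act 7 n553
theorem D817 : act 7 n553 = n817 := rfl
theorem F2644 : act 2 n817 = n554 := d17_1 D817 (iv D554) D553
theorem F2645 : act 4 n817 = n817 := d24_1 D817 (iv D817) F1832
theorem F2646 : act 5 n817 = n817 := d26_1 D817 (iv D817) F1833
def n818 : Q := act 3 n554
theorem D818 : act 3 n554 = n818 := rfl
theorem F2647 : act 1 n818 = n555 := d8_1 D818 (iv D555) (iv F1834)
theorem F2648 : act 5 n818 = n818 := d19_2 F1836 D818 (iv D818)
theorem F2649 : act 7 n818 = n577 := d21_2 D554 D818 (iv D577) (iv D362) (iv F1113)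
def n819 : Q := act 6 n554
theorem D819 : act 6 n554 = n819 := rfl
theorem F2650 : act 1 n819 = n556 := d11_1 D819 (iv D556) (iv F1834)
theorem F2651 : act 4 n819 = n819 := d23_1 D819 (iv D819) F1835
def n820 : Q := act 2 n555
theorem D820 : act 2 n555 = n820 := rfl
theorem F2652 : act 0 n820 = n627 := d1_1 D820 (iv D627) (iv F1837)
theorem F2653 : act 5 n820 = n557 := d15_2 (iv F1838) D820 (iv D557)
theorem F2654 : act 7 n820 = n579 := d17_2 (iv F1839) D820 (iv D579)
def n821 : Q := act 4 n555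
theorem D821 : act 4 n555 = n821 := rfl
theorem F2655 : act 0 n821 = n628 := d3_1 D821 (iv D628) (iv F1837)
theorem F2656 : act 3 n821 = n821 := d18_1 D821 (iv D821) (iv D555) F1117 D555
theorem F2657 : act 5 n821 = n558 := d22_2 (iv F1838) D821 (iv D558)
theorem F2658 : act 7 n821 = n580 := d24_2 (iv F1839) D821 (iv D580)
def n822 : Q := act 6 n555
theorem D822 : act 6 n555 = n822 := rfl
theorem F2659 : act 0 n822 = n629 := d5_1 D822 (iv D629) (iv F1837)
theorem F2660 : act 3 n822 = n556 := d20_1 D822 (iv D556) D555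
def n823 : Q := act 5 n556
theorem D823 : act 5 n556 = n823 := rfl
theorem F2661 : act 0 n823 = n630 := d4_1 D823 (iv D630) (iv F1840)
theorem F2662 : act 2 n823 = n811 := d15_1 D823 F2626 F2593
theorem F2663 : act 4 n823 = n823 := d22_1 D823 (iv D823) F1841
theorem F2664 : act 6 n823 = n560 := d25_2 D556 D823 (iv D560) (iv D351) (iv F1118)
theorem F2665 : act 7 n823 = n801 := d26_2 F2627 D823 (iv F2626)
def n824 : Q := act 1 n557
theorem D824 : act 1 n557 = n824 := rfl
theorem F2666 : act 2 n824 = n824 := d7_2 D557 D824 (iv D824) (iv D557) F1120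
theorem F2667 : act 7 n824 = n582 := d12_2 (iv F1843) D824 (iv D582)
def n825 : Q := act 4 n557
theorem D825 : act 4 n557 = n825 := rfl
theorem F2668 : act 0 n825 = n632 := d3_1 D825 (iv D632) (iv F1842)
theorem F2669 : act 2 n825 = n558 := d14_1 D825 (iv D558) D557
theorem F2670 : act 7 n825 = n583 := d24_2 (iv F1843) D825 (iv D583)
def n826 : Q := act 6 n557
theorem D826 : act 6 n557 = n826 := rfl
theorem F2671 : act 0 n826 = n633 := d5_1 D826 (iv D633) (iv F1842)
theorem F2672 : act 2 n826 = n559 := d16_1 D826 (iv D559) D557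
theorem F2673 : act 3 n826 = n812 := d20_1 D826 F2629 F2596
theorem F2674 : act 7 n826 = n826 := d27_2 (iv F1843) D826 (iv D826) F1843 F1168
def n827 : Q := act 6 n558
theorem D827 : act 6 n558 = n827 := rfl
theorem F2675 : act 0 n827 = n634 := d5_1 D827 (iv D634) (iv F1844)
theorem F2676 : act 1 n827 = n827 := d11_1 D827 (iv D827) F1845
theorem F2677 : act 3 n827 = n827 := d20_1 D827 (iv D827) F1846
theorem F2678 : act 4 n827 = n559 := d23_1 D827 (iv D559) D558
theorem F2679 : act 7 n827 = n827 := d27_2 (iv F1847) D827 (iv D827) F1847 F1172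
def n828 : Q := act 5 n559
theorem D828 : act 5 n559 = n828 := rfl
theorem F2680 : act 0 n828 = n635 := d4_1 D828 (iv D635) (iv F1848)
theorem F2681 : act 3 n828 = n560 := d19_1 D828 (iv D560) (iv F1850)
theorem F2682 : act 7 n828 = n828 := d26_2 F1851 D828 (iv D828)
def n829 : Q := act 1 n560
theorem D829 : act 1 n560 = n829 := rfl
theorem F2683 : act 4 n829 = n829 := d9_2 F1854 D829 (iv D829)
theorem F2684 : act 5 n829 = n829 := d10_2 D560 D829 (iv D829) (iv D560) F1123
theorem F2685 : act 7 n829 = n561 := d12_2 (iv F1855) D829 (iv D561)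
def n830 : Q := act 0 n561
theorem D830 : act 0 n561 = n830 := rfl
theorem F2686 : act 1 n830 = n637 := d0_2 D561 D830 (iv D637) (iv D421) (iv F1126)
theorem F2687 : act 3 n830 = n830 := d2_2 F1856 D830 (iv D830)
theorem F2688 : act 4 n830 = n830 := d3_2 F1857 D830 (iv D830)
theorem F2689 : act 5 n830 = n830 := d4_2 F1858 D830 (iv D830)
theorem F2690 : act 6 n830 = n797 := d5_2 (iv F1859) D830 (iv D797)
def n831 : Q := act 2 n561
theorem D831 : act 2 n561 = n831 := rfl
theorem F2691 : act 1 n831 = n808 := d7_1 D831 (iv D808) (iv D549) F1435 D561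
theorem F2692 : act 4 n831 = n831 := d14_2 F1857 D831 (iv D831)
theorem F2693 : act 5 n831 = n831 := d15_2 F1858 D831 (iv D831)
theorem F2694 : act 6 n831 = n798 := d16_2 (iv F1859) D831 (iv D798)
def n832 : Q := act 3 n562
theorem D832 : act 3 n562 = n832 := rfl
theorem F2695 : act 0 n832 = n832 := d2_1 D832 (iv D832) F1860
theorem F2696 : act 1 n832 = n832 := d8_1 D832 (iv D832) F1861
theorem F2697 : act 4 n832 = n832 := d18_2 (iv F1863) D832 (iv D832) F1863 F1451
theorem F2698 : act 5 n832 = n787 := d19_2 (iv F1864) D832 (iv D787)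
theorem F2699 : act 6 n832 = n832 := d20_2 F1865 D832 (iv D832)
theorem F2700 : act 7 n832 = n832 := d21_2 D562 D832 (iv D832) (iv D562) F1429
def n833 : Q := act 0 n563
theorem D833 : act 0 n563 = n833 := rfl
theorem F2701 : act 1 n833 = n833 := d0_2 D563 D833 (iv D833) (iv D563) F1136
theorem F2702 : act 2 n833 = n744 := d1_2 (iv F1866) D833 F2423
theorem F2703 : act 4 n833 = n584 := d3_2 (iv F1867) D833 (iv D584)
theorem F2704 : act 5 n833 = n566 := d4_2 (iv F1868) D833 (iv D566)
theorem F2705 : act 6 n833 = n833 := d5_2 F1869 D833 (iv D833)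
def n834 : Q := act 7 n563
theorem D834 : act 7 n563 = n834 := rfl
theorem F2706 : act 1 n834 = n564 := d12_1 D834 (iv D564) D563
theorem F2707 : act 2 n834 = n784 := d17_1 D834 (iv D784) (iv F1866)
theorem F2708 : act 4 n834 = n585 := d24_1 D834 (iv D585) (iv F1867)
theorem F2709 : act 5 n834 = n568 := d26_1 D834 (iv D568) (iv F1868)
def n835 : Q := act 3 n564
theorem D835 : act 3 n564 = n835 := rfl
theorem F2710 : act 0 n835 = n835 := d2_1 D835 (iv D835) F1870
theorem F2711 : act 5 n835 = n565 := d19_2 (iv F1873) D835 (iv D565)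
def n836 : Q := act 6 n564
theorem D836 : act 6 n564 = n836 := rfl
theorem F2712 : act 0 n836 = n836 := d5_1 D836 (iv D836) F1870
theorem F2713 : act 2 n836 = n788 := d16_1 D836 (iv D788) (iv F1871)
theorem F2714 : act 4 n836 = n587 := d23_1 D836 (iv D587) (iv F1872)
theorem F2715 : act 5 n836 = n836 := d25_1 D836 (iv D836) F1873 F1142 (iv F1873)
theorem F2716 : act 7 n836 = n836 := d27_2 D564 D836 (iv D836) (iv D564) F1138
def n837 : Q := act 2 n565
theorem D837 : act 2 n565 = n837 := rfl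
theorem F2717 : act 0 n837 = n837 := d1_1 D837 (iv D837) F1874
theorem F2718 : act 6 n837 = n837 := d16_2 F1876 D837 (iv D837)
def n838 : Q := act 4 n565
theorem D838 : act 4 n565 = n838 := rfl
theorem F2719 : act 0 n838 = n838 := d3_1 D838 (iv D838) F1874
theorem F2720 : act 1 n838 = n572 := d9_1 D838 (iv D572) (iv F1875)
theorem F2721 : act 3 n838 = n588 := d18_1 D838 (iv D588) (iv D374) (iv F1141) D565
theorem F2722 : act 6 n838 = n838 := d23_2 F1876 D838 (iv D838)
def n839 : Q := act 2 n566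
theorem D839 : act 2 n566 = n839 := rfl
theorem F2723 : act 0 n839 = n567 := d1_1 D839 (iv D567) D566
theorem F2724 : act 4 n839 = n589 := d14_2 (iv F1878) D839 (iv D589)
theorem F2725 : act 5 n839 = n744 := d15_2 F2704 D839 (iv F2702)
theorem F2726 : act 6 n839 = n573 := d16_2 (iv F1879) D839 (iv D573)
def n840 : Q := act 7 n566
theorem D840 : act 7 n566 = n840 := rfl
theorem F2727 : act 0 n840 = n568 := d6_1 D840 (iv D568) D566
theorem F2728 : act 1 n840 = n640 := d12_1 D840 (iv D640) (iv F1877)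
theorem F2729 : act 4 n840 = n590 := d24_1 D840 (iv D590) (iv F1878)
def n841 : Q := act 3 n567
theorem D841 : act 3 n567 = n841 := rfl
theorem F2730 : act 1 n841 = n841 := d8_1 D841 (iv D841) F1880
theorem F2731 : act 4 n841 = n755 := d18_2 (iv F1881) D841 F2457 F1698 F1463
theorem F2732 : act 5 n841 = n754 := d19_2 (iv F1882) D841 F2454
theorem F2733 : act 6 n841 = n575 := d20_2 (iv F1883) D841 (iv D575)
def n842 : Q := act 7 n567
theorem D842 : act 7 n567 = n842 := rfl
theorem F2734 : act 1 n842 = n842 := d12_1 D842 (iv D842) F1880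
theorem F2735 : act 2 n842 = n568 := d17_1 D842 (iv D568) D567
theorem F2736 : act 4 n842 = n591 := d24_1 D842 (iv D591) (iv F1881)
theorem F2737 : act 5 n842 = n784 := d26_1 D842 (iv D784) (iv F1882)
def n843 : Q := act 3 n568
theorem D843 : act 3 n568 = n843 := rfl
theorem F2738 : act 1 n843 = n569 := d8_1 D843 (iv D569) (iv F1884)
def n844 : Q := act 6 n568
theorem D844 : act 6 n568 = n844 := rfl
theorem F2739 : act 1 n844 = n570 := d11_1 D844 (iv D570) (iv F1884)
theorem F2740 : act 4 n844 = n593 := d23_1 D844 (iv D593) (iv F1885)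
theorem F2741 : act 7 n844 = n578 := d27_2 D568 D844 (iv D578) (iv D362) (iv F1144)
def n845 : Q := act 2 n569
theorem D845 : act 2 n569 = n845 := rfl
theorem F2742 : act 0 n845 = n645 := d1_1 D845 (iv D645) (iv F1886)
theorem F2743 : act 3 n845 = n845 := d13_2 D569 D845 (iv D845) (iv D569) F1146
theorem F2744 : act 5 n845 = n571 := d15_2 (iv F1887) D845 (iv D571)
def n846 : Q := act 4 n569
theorem D846 : act 4 n569 = n846 := rfl
theorem F2745 : act 0 n846 = n646 := d3_1 D846 (iv D646) (iv F1886)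
theorem F2746 : act 3 n846 = n594 := d18_1 D846 (iv D594) (iv D378) (iv F1147) D569
theorem F2747 : act 5 n846 = n572 := d22_2 (iv F1887) D846 (iv D572)
theorem F2748 : act 6 n785 = n846 := d20_0 F2746 F1972 D785
def n847 : Q := act 6 n569
theorem D847 : act 6 n569 = n847 := rfl
theorem F2749 : act 0 n847 = n647 := d5_1 D847 (iv D647) (iv F1886)
theorem F2750 : act 3 n847 = n570 := d20_1 D847 (iv D570) D569
theorem F2751 : act 4 n847 = n785 := d23_1 D847 F2748 (iv D846)
theorem F2752 : act 5 n847 = n847 := d25_1 D847 (iv D847) F1887 F1150 (iv F1887)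
def n848 : Q := act 1 n571
theorem D848 : act 1 n571 = n848 := rfl
theorem F2753 : act 3 n848 = n848 := d8_2 F1894 D848 (iv D848)
theorem F2754 : act 6 n848 = n848 := d11_2 F1895 D848 (iv D848)
def n849 : Q := act 4 n571
theorem D849 : act 4 n571 = n849 := rfl
theorem F2755 : act 0 n849 = n649 := d3_1 D849 (iv D649) (iv F1893)
theorem F2756 : act 2 n849 = n572 := d14_1 D849 (iv D572) D571
theorem F2757 : act 6 n849 = n849 := d23_2 F1895 D849 (iv D849)
def n850 : Q := act 1 n573
theorem D850 : act 1 n573 = n850 := rfl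
theorem F2758 : act 0 n850 = n850 := d0_1 D850 (iv D850) F1899 F1154 (iv F1899)
theorem F2759 : act 2 n850 = n650 := d7_2 D573 D850 (iv D650) (iv D429) (iv F1151)
theorem F2760 : act 4 n850 = n596 := d9_2 (iv F1900) D850 (iv D596)
def n851 : Q := act 3 n573
theorem D851 : act 3 n573 = n851 := rfl
theorem F2761 : act 0 n851 = n575 := d2_1 D851 (iv D575) (iv F1899)
theorem F2762 : act 5 n851 = n851 := d19_2 F1901 D851 (iv D851)
def n852 : Q := act 7 n573
theorem D852 : act 7 n573 = n852 := rfl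
theorem F2763 : act 0 n852 = n576 := d6_1 D852 (iv D576) (iv F1899)
theorem F2764 : act 2 n852 = n574 := d17_1 D852 (iv D574) D573
theorem F2765 : act 4 n852 = n598 := d24_1 D852 (iv D598) (iv F1900)
theorem F2766 : act 5 n852 = n852 := d26_1 D852 (iv D852) F1901
def n853 : Q := act 3 n574
theorem D853 : act 3 n574 = n853 := rfl
theorem F2767 : act 0 n853 = n577 := d2_1 D853 (iv D577) (iv F1902)
theorem F2768 : act 1 n853 = n653 := d8_1 D853 (iv D653) (iv F1903)
theorem F2769 : act 5 n853 = n853 := d19_2 F1905 D853 (iv D853)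
def n854 : Q := act 6 n574
theorem D854 : act 6 n574 = n854 := rfl
theorem F2770 : act 0 n854 = n578 := d5_1 D854 (iv D578) (iv F1902)
theorem F2771 : act 1 n854 = n654 := d11_1 D854 (iv D654) (iv F1903)
theorem F2772 : act 4 n854 = n600 := d23_1 D854 (iv D600) (iv F1904)
def n855 : Q := act 4 n575
theorem D855 : act 4 n575 = n855 := rfl
theorem F2773 : act 1 n855 = n855 := d9_1 D855 (iv D855) F1906
theorem F2774 : act 3 n855 = n601 := d18_1 D855 (iv D601) (iv D384) (iv F1155) D575
theorem F2775 : act 5 n855 = n855 := d22_2 F1907 D855 (iv D855)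
theorem F2776 : act 6 n855 = n755 := d23_2 F2733 D855 (iv F2731)
def n856 : Q := act 7 n575
theorem D856 : act 7 n575 = n856 := rfl
theorem F2777 : act 1 n856 = n856 := d12_1 D856 (iv D856) F1906
theorem F2778 : act 5 n856 = n856 := d26_1 D856 (iv D856) F1907
def n857 : Q := act 3 n576
theorem D857 : act 3 n576 = n857 := rfl
theorem F2779 : act 1 n857 = n857 := d8_1 D857 (iv D857) F1908
theorem F2780 : act 4 n857 = n857 := d18_2 (iv F1910) D857 (iv D857) F1910 F1447
theorem F2781 : act 5 n857 = n857 := d19_2 F1911 D857 (iv D857)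
def n858 : Q := act 6 n576
theorem D858 : act 6 n576 = n858 := rfl
theorem F2782 : act 1 n858 = n858 := d11_1 D858 (iv D858) F1908
theorem F2783 : act 2 n858 = n578 := d16_1 D858 (iv D578) (iv F1909)
theorem F2784 : act 4 n858 = n602 := d23_1 D858 (iv D602) (iv F1910)
def n859 : Q := act 2 n577
theorem D859 : act 2 n577 = n859 := rfl
theorem F2785 : act 5 n859 = n859 := d15_2 F1913 D859 (iv D859)
def n860 : Q := act 4 n577
theorem D860 : act 4 n577 = n860 := rfl
theorem F2786 : act 1 n860 = n580 := d9_1 D860 (iv D580) (iv F1912)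
theorem F2787 : act 3 n860 = n603 := d18_1 D860 (iv D603) (iv D386) (iv F1158) D577
theorem F2788 : act 5 n860 = n860 := d22_2 F1913 D860 (iv D860)
theorem F2789 : act 6 n758 = n860 := d20_0 F2787 F2011 D758
def n861 : Q := act 6 n577
theorem D861 : act 6 n577 = n861 := rfl
theorem F2790 : act 1 n861 = n581 := d11_1 D861 (iv D581) (iv F1912)
theorem F2791 : act 3 n861 = n578 := d20_1 D861 (iv D578) D577
theorem F2792 : act 4 n861 = n758 := d23_1 D861 F2789 (iv D860)
def n862 : Q := act 5 n578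
theorem D862 : act 5 n578 = n862 := rfl
theorem F2793 : act 1 n862 = n862 := d10_1 D862 (iv D862) F1914 F1165 (iv F1914)
theorem F2794 : act 4 n862 = n604 := d22_1 D862 (iv D604) (iv F1915)
theorem F2795 : act 6 n862 = n862 := d25_2 D578 D862 (iv D862) (iv D578) F1159
def n863 : Q := act 1 n579
theorem D863 : act 1 n579 = n863 := rfl
theorem F2796 : act 3 n863 = n863 := d8_2 F1917 D863 (iv D863)
def n864 : Q := act 4 n579
theorem D864 : act 4 n579 = n864 := rfl
theorem F2797 : act 0 n864 = n664 := d3_1 D864 (iv D664) (iv F1916)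
theorem F2798 : act 2 n864 = n580 := d14_1 D864 (iv D580) D579
theorem F2799 : act 5 n864 = n583 := d22_2 (iv F1918) D864 (iv D583)
theorem F2800 : act 3 n764 = n864 := d31_29 F2799 (iv F2670) (iv D825) (iv D557) D559 F1850 D560 F1855 F1128 (iv F1435) F1107 F636 (iv D106) D107 F381 F227 F228 D114 (iv F699) F700 D389 (iv F1470) (iv D295) D294 F939 F940 F938 D516 D764
theorem F2801 : act 6 n864 = n762 := d20_2 D764 F2800 F2476
def n865 : Q := act 6 n579
theorem D865 : act 6 n579 = n865 := rfl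
theorem F2802 : act 0 n865 = n665 := d5_1 D865 (iv D665) (iv F1916)
theorem F2803 : act 2 n865 = n581 := d16_1 D865 (iv D581) D579
theorem F2804 : act 3 n865 = n865 := d20_1 D865 (iv D865) F1917
theorem F2805 : act 4 n865 = n762 := d23_1 D865 (iv F2801) (iv D864)
theorem F2806 : act 5 n865 = n865 := d25_1 D865 (iv D865) F1918 F1168 (iv F1918)
def n866 : Q := act 7 n581
theorem D866 : act 7 n581 = n866 := rfl
theorem F2807 : act 0 n866 = n666 := d6_1 D866 (iv D666) (iv F1923)
theorem F2808 : act 4 n866 = n760 := d24_1 D866 F2471 (iv F1925)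
theorem F2809 : act 5 n866 = n866 := d26_1 D866 (iv D866) F1926
def n867 : Q := act 0 n582
theorem D867 : act 0 n582 = n867 := rfl
theorem F2810 : act 1 n867 = n667 := d0_2 D582 D867 (iv D667) (iv D438) (iv F1166)
theorem F2811 : act 2 n867 = n867 := d1_2 F1927 D867 (iv D867)
theorem F2812 : act 3 n867 = n867 := d2_2 F1928 D867 (iv D867)
theorem F2813 : act 6 n867 = n867 := d5_2 F1929 D867 (iv D867)
def n868 : Q := act 4 n582
theorem D868 : act 4 n582 = n868 := rfl
theorem F2814 : act 1 n868 = n583 := d9_1 D868 (iv D583) D582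
theorem F2815 : act 2 n868 = n868 := d14_1 D868 (iv D868) F1927
theorem F2816 : act 6 n868 = n868 := d23_2 F1929 D868 (iv D868)
def n869 : Q := act 5 n582
theorem D869 : act 5 n582 = n869 := rfl
theorem F2817 : act 2 n869 = n869 := d15_1 D869 (iv D869) F1927
theorem F2818 : act 3 n869 = n869 := d19_1 D869 (iv D869) F1928
def n870 : Q := act 3 n583
theorem D870 : act 3 n583 = n870 := rfl
theorem F2819 : act 0 n870 = n670 := d2_1 D870 (iv D670) (iv F1930)
theorem F2820 : act 2 n870 = n606 := d13_1 D870 (iv D606) F1253 (iv F1171) (iv F1931)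
theorem F2821 : act 4 n870 = n870 := d18_2 D583 D870 (iv D870) (iv D583) F1167
theorem F2822 : act 5 n870 = n764 := d19_2 F2799 D870 F2800
theorem F2823 : act 6 n870 = n870 := d20_2 F1932 D870 (iv D870)
def n871 : Q := act 7 n584
theorem D871 : act 7 n584 = n871 := rfl
theorem F2824 : act 0 n871 = n585 := d6_1 D871 (iv D585) D584
theorem F2825 : act 1 n871 = n871 := d12_1 D871 (iv D871) F1933
theorem F2826 : act 2 n871 = n745 := d17_1 D871 (iv D745) (iv F1934)
theorem F2827 : act 5 n871 = n590 := d26_1 D871 (iv D590) (iv F1936)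
def n872 : Q := act 3 n585
theorem D872 : act 3 n585 = n872 := rfl
theorem F2828 : act 1 n872 = n586 := d8_1 D872 (iv D586) (iv F1938)
theorem F2829 : act 5 n872 = n592 := d19_2 (iv F1940) D872 (iv D592)
theorem F2830 : act 7 n872 = n872 := d21_2 D585 D872 (iv D872) (iv D585) F1193
def n873 : Q := act 6 n585
theorem D873 : act 6 n585 = n873 := rfl
theorem F2831 : act 1 n873 = n587 := d11_1 D873 (iv D587) (iv F1938)
theorem F2832 : act 2 n873 = n592 := d16_1 D873 (iv F1965) (iv F1939)
theorem F2833 : act 7 n873 = n873 := d27_2 D585 D873 (iv D873) (iv D585) F1195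
def n874 : Q := act 4 n586
theorem D874 : act 4 n586 = n874 := rfl
theorem F2834 : act 0 n874 = n874 := d3_1 D874 (iv D874) F1941
theorem F2835 : act 2 n874 = n874 := d14_1 D874 (iv D874) F1942
theorem F2836 : act 5 n874 = n588 := d22_2 (iv F1943) D874 (iv D588)
theorem F2837 : act 7 n874 = n874 := d24_2 F1944 D874 (iv D874)
def n875 : Q := act 6 n586
theorem D875 : act 6 n586 = n875 := rfl
theorem F2838 : act 0 n875 = n875 := d5_1 D875 (iv D875) F1941
theorem F2839 : act 2 n875 = n875 := d16_1 D875 (iv D875) F1942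
theorem F2840 : act 3 n875 = n587 := d20_1 D875 (iv D587) D586
theorem F2841 : act 5 n875 = n875 := d25_1 D875 (iv D875) F1943 F1200 (iv F1943)
def n876 : Q := act 1 n589
theorem D876 : act 1 n589 = n876 := rfl
theorem F2842 : act 0 n876 = n876 := d0_1 D876 (iv D876) F1954 F1205 (iv F1954)
theorem F2843 : act 2 n876 = n671 := d7_2 D589 D876 (iv D671) (iv D440) (iv F1202)
theorem F2844 : act 3 n876 = n683 := d8_2 F1957 D876 F2256
theorem F2845 : act 5 n876 = n682 := d10_2 (iv F1955) D876 F2254 F1502 (iv F1660)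
theorem F2846 : act 6 n876 = n596 := d11_2 (iv F1956) D876 (iv D596)
def n877 : Q := act 7 n589
theorem D877 : act 7 n589 = n877 := rfl
theorem F2847 : act 0 n877 = n591 := d6_1 D877 (iv D591) (iv F1954)
theorem F2848 : act 2 n877 = n590 := d17_1 D877 (iv D590) D589
theorem F2849 : act 5 n877 = n745 := d26_1 D877 (iv D745) (iv F1955)
def n878 : Q := act 3 n590
theorem D878 : act 3 n590 = n878 := rfl
theorem F2850 : act 0 n878 = n592 := d2_1 D878 (iv D592) (iv F1958)
theorem F2851 : act 1 n878 = n674 := d8_1 D878 (iv D674) (iv F1959)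
theorem F2852 : act 7 n878 = n878 := d21_2 D590 D878 (iv D878) (iv D590) F1203
theorem F2853 : act 6 n745 = n878 := d11_0 F2851 (iv F2220) (iv F2427)
def n879 : Q := act 6 n590
theorem D879 : act 6 n590 = n879 := rfl
theorem F2854 : act 0 n879 = n593 := d5_1 D879 (iv D593) (iv F1958)
theorem F2855 : act 1 n879 = n675 := d11_1 D879 (iv D675) (iv F1959)
theorem F2856 : act 3 n879 = n745 := d20_1 D879 F2853 (iv D878)
theorem F2857 : act 7 n879 = n600 := d27_2 D590 D879 (iv D600) (iv D383) (iv F1204)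
def n880 : Q := act 3 n591
theorem D880 : act 3 n591 = n880 := rfl
theorem F2858 : act 1 n880 = n880 := d8_1 D880 (iv D880) F1960
theorem F2859 : act 5 n880 = n593 := d19_2 (iv F1962) D880 F1967
theorem F2860 : act 7 n880 = n604 := d21_2 D591 D880 F2014 (iv D533) F1463
def n881 : Q := act 6 n591
theorem D881 : act 6 n591 = n881 := rfl
theorem F2861 : act 1 n881 = n881 := d11_1 D881 (iv D881) F1960
theorem F2862 : act 2 n881 = n593 := d16_1 D881 (iv D593) (iv F1961)
theorem F2863 : act 7 n881 = n602 := d27_2 D591 D881 (iv D602) (iv D385) (iv F1206)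
def n882 : Q := act 4 n592
theorem D882 : act 4 n592 = n882 := rfl
theorem F2864 : act 1 n882 = n594 := d9_1 D882 (iv D594) (iv F1963)
theorem F2865 : act 6 n882 = n784 := d23_2 F1965 D882 F2541
theorem F2866 : act 7 n882 = n882 := d24_2 F1964 D882 (iv D882)
def n883 : Q := act 3 n595
theorem D883 : act 3 n595 = n883 := rfl
theorem F2867 : act 0 n883 = n681 := d2_1 D883 (iv D681) (iv F1974)
theorem F2868 : act 1 n883 = n883 := d8_1 D883 (iv D883) F1975
theorem F2869 : act 4 n883 = n883 := d18_2 D595 D883 (iv D883) (iv D595) F1216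
theorem F2870 : act 5 n883 = n790 := d19_2 (iv F1977) D883 F2560
theorem F2871 : act 6 n883 = n883 := d20_2 F1978 D883 (iv D883)
def n884 : Q := act 3 n596
theorem D884 : act 3 n596 = n884 := rfl
theorem F2872 : act 0 n884 = n884 := d2_1 D884 (iv D884) F1980
theorem F2873 : act 1 n884 = n597 := d8_1 D884 (iv D597) D596
theorem F2874 : act 6 n884 = n683 := d20_2 F2846 D884 (iv F2844)
theorem F2875 : act 7 n884 = n884 := d12_0 F2873 F1986 (iv F2873)
def n885 : Q := act 5 n596
theorem D885 : act 5 n596 = n885 := rfl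
theorem F2876 : act 0 n885 = n885 := d4_1 D885 (iv D885) F1980
theorem F2877 : act 1 n885 = n885 := d10_1 D885 (iv D885) (iv D596) F1223 D596
theorem F2878 : act 2 n885 = n683 := d15_1 D885 (iv D683) (iv F1981)
def n886 : Q := act 7 n596
theorem D886 : act 7 n596 = n886 := rfl
theorem F2879 : act 0 n886 = n886 := d6_1 D886 (iv D886) F1980
theorem F2880 : act 1 n886 = n598 := d12_1 D886 (iv D598) D596
theorem F2881 : act 2 n886 = n684 := d17_1 D886 (iv D684) (iv F1981)
theorem F2882 : act 3 n886 = n886 := d21_1 D886 (iv D886) D884 F2875 (iv D884)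
def n887 : Q := act 4 n597
theorem D887 : act 4 n597 = n887 := rfl
theorem F2883 : act 0 n887 = n601 := d3_1 D887 (iv D601) (iv F1982)
theorem F2884 : act 2 n887 = n887 := d14_1 D887 (iv D887) F1983
theorem F2885 : act 5 n887 = n887 := d22_2 F1984 D887 (iv D887)
theorem F2886 : act 6 n887 = n717 := d23_2 (iv F1985) D887 F2363
theorem F2887 : act 7 n887 = n887 := d24_2 F1986 D887 (iv D887)
def n888 : Q := act 6 n598
theorem D888 : act 6 n598 = n888 := rfl
theorem F2888 : act 0 n888 = n602 := d5_1 D888 (iv D602) (iv F1987)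
theorem F2889 : act 2 n888 = n600 := d16_1 D888 (iv D600) (iv F1988)
theorem F2890 : act 3 n888 = n888 := d20_1 D888 (iv D888) F1989
def n889 : Q := act 4 n599
theorem D889 : act 4 n599 = n889 := rfl
theorem F2891 : act 0 n889 = n603 := d3_1 D889 (iv D603) (iv F1991)
theorem F2892 : act 1 n889 = n689 := d9_1 D889 (iv D689) (iv F1992)
theorem F2893 : act 2 n889 = n889 := d14_1 D889 (iv D889) F1993
theorem F2894 : act 5 n889 = n889 := d22_2 F1994 D889 (iv D889)
theorem F2895 : act 6 n889 = n718 := d23_2 F1996 D889 F2367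
theorem F2896 : act 7 n889 = n889 := d24_2 F1995 D889 (iv D889)
def n890 : Q := act 5 n600
theorem D890 : act 5 n600 = n890 := rfl
theorem F2897 : act 0 n890 = n604 := d4_1 D890 (iv D604) (iv F1997)
theorem F2898 : act 3 n890 = n746 := d19_1 D890 F2430 (iv F1999)
theorem F2899 : act 6 n890 = n890 := d25_2 D600 D890 (iv D890) (iv D600) F1226
def n891 : Q := act 5 n602
theorem D891 : act 5 n602 = n891 := rfl
theorem F2900 : act 2 n891 = n604 := d15_1 D891 (iv D604) (iv F2006)
theorem F2901 : act 3 n891 = n891 := d19_1 D891 (iv D891) F2007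
theorem F2902 : act 6 n891 = n891 := d25_2 D602 D891 (iv D891) (iv D602) F1232
def n892 : Q := act 3 n605
theorem D892 : act 3 n605 = n892 := rfl
theorem F2903 : act 0 n892 = n892 := d2_1 D892 (iv D892) F2016
theorem F2904 : act 1 n892 = n606 := d8_1 D892 (iv D606) (iv F2017)
theorem F2905 : act 4 n892 = n892 := d18_2 D605 D892 (iv D892) (iv D605) F1249
theorem F2906 : act 5 n892 = n892 := d19_2 F2019 D892 (iv D892)
theorem F2907 : act 6 n892 = n892 := d20_2 F2020 D892 (iv D892)
def n893 : Q := act 7 n606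
theorem D893 : act 7 n606 = n893 := rfl
theorem F2908 : act 0 n893 = n691 := d6_1 D893 (iv D691) (iv F2022)
theorem F2909 : act 3 n893 = n893 := d21_1 D893 (iv D893) (iv D606) F1255 D606
theorem F2910 : act 4 n893 = n893 := d24_1 D893 (iv D893) F2023
theorem F2911 : act 5 n893 = n765 := d26_1 D893 (iv D765) (iv F2024)
def n894 : Q := act 2 n607
theorem D894 : act 2 n607 = n894 := rfl
theorem F2912 : act 0 n894 = n608 := d1_1 D894 (iv D608) D607
theorem F2913 : act 4 n894 = n894 := d14_2 F2027 D894 (iv D894)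
theorem F2914 : act 5 n894 = n894 := d15_2 F2028 D894 (iv D894)
def n895 : Q := act 7 n607
theorem D895 : act 7 n607 = n895 := rfl
theorem F2915 : act 0 n895 = n609 := d6_1 D895 (iv D609) D607
theorem F2916 : act 4 n895 = n895 := d24_1 D895 (iv D895) F2027
theorem F2917 : act 5 n895 = n895 := d26_1 D895 (iv D895) F2028
def n896 : Q := act 3 n608
theorem D896 : act 3 n608 = n896 := rfl
theorem F2918 : act 1 n896 = n623 := d8_1 D896 (iv D623) (iv F2029)
theorem F2919 : act 2 n896 = n896 := d13_1 D896 (iv D896) (iv D608) F1279 D608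
theorem F2920 : act 5 n896 = n896 := d19_2 F2031 D896 (iv D896)
def n897 : Q := act 7 n608
theorem D897 : act 7 n608 = n897 := rfl
theorem F2921 : act 1 n897 = n624 := d12_1 D897 (iv D624) (iv F2029)
theorem F2922 : act 2 n897 = n609 := d17_1 D897 (iv D609) D608
theorem F2923 : act 4 n897 = n897 := d24_1 D897 (iv D897) F2030
theorem F2924 : act 5 n897 = n897 := d26_1 D897 (iv D897) F2031
def n898 : Q := act 3 n609
theorem D898 : act 3 n609 = n898 := rfl
theorem F2925 : act 1 n898 = n610 := d8_1 D898 (iv D610) (iv F2032)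
theorem F2926 : act 5 n898 = n898 := d19_2 F2034 D898 (iv D898)
theorem F2927 : act 7 n898 = n898 := d21_2 D609 D898 (iv D898) (iv D609) F1279
def n899 : Q := act 6 n609
theorem D899 : act 6 n609 = n899 := rfl
theorem F2928 : act 1 n899 = n611 := d11_1 D899 (iv D611) (iv F2032)
theorem F2929 : act 4 n899 = n899 := d23_1 D899 (iv D899) F2033
def n900 : Q := act 2 n610
theorem D900 : act 2 n610 = n900 := rfl
theorem F2930 : act 3 n900 = n627 := d13_2 D610 D900 (iv D627) (iv D415) (iv F1282)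
theorem F2931 : act 5 n900 = n612 := d15_2 (iv F2035) D900 (iv D612)
theorem F2932 : act 7 n900 = n900 := d17_2 F2036 D900 (iv D900)
def n901 : Q := act 4 n610
theorem D901 : act 4 n610 = n901 := rfl
theorem F2933 : act 3 n901 = n901 := d18_1 D901 (iv D901) (iv D610) F1283 D610
theorem F2934 : act 5 n901 = n613 := d22_2 (iv F2035) D901 (iv D613)
theorem F2935 : act 7 n901 = n901 := d24_2 F2036 D901 (iv D901)
def n902 : Q := act 6 n610
theorem D902 : act 6 n610 = n902 := rfl
theorem F2936 : act 3 n902 = n611 := d20_1 D902 (iv D611) D610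
def n903 : Q := act 1 n612
theorem D903 : act 1 n612 = n903 := rfl
theorem F2937 : act 2 n903 = n903 := d7_2 D612 D903 (iv D903) (iv D612) F1285
theorem F2938 : act 3 n903 = n631 := d8_2 (iv F2039) D903 (iv D631)
theorem F2939 : act 7 n903 = n903 := d12_2 F2040 D903 (iv D903)
def n904 : Q := act 4 n612
theorem D904 : act 4 n612 = n904 := rfl
theorem F2940 : act 2 n904 = n613 := d14_1 D904 (iv D613) D612
theorem F2941 : act 7 n904 = n904 := d24_2 F2040 D904 (iv D904)
def n905 : Q := act 2 n614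
theorem D905 : act 2 n614 = n905 := rfl
theorem F2942 : act 0 n905 = n615 := d1_1 D905 (iv D615) D614
theorem F2943 : act 4 n905 = n905 := d14_2 F2045 D905 (iv D905)
theorem F2944 : act 5 n905 = n905 := d15_2 F2046 D905 (iv D905)
theorem F2945 : act 6 n905 = n621 := d16_2 (iv F2047) D905 (iv D621)
def n906 : Q := act 7 n614
theorem D906 : act 7 n614 = n906 := rfl
theorem F2946 : act 0 n906 = n616 := d6_1 D906 (iv D616) D614
theorem F2947 : act 4 n906 = n906 := d24_1 D906 (iv D906) F2045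
theorem F2948 : act 5 n906 = n906 := d26_1 D906 (iv D906) F2046
def n907 : Q := act 3 n615
theorem D907 : act 3 n615 = n907 := rfl
theorem F2949 : act 2 n907 = n641 := d13_1 D907 (iv D641) (iv D423) (iv F1300) D615
theorem F2950 : act 5 n907 = n907 := d19_2 F2049 D907 (iv D907)
theorem F2951 : act 6 n907 = n623 := d20_2 (iv F2050) D907 (iv D623)
def n908 : Q := act 7 n615
theorem D908 : act 7 n615 = n908 := rfl
theorem F2952 : act 2 n908 = n616 := d17_1 D908 (iv D616) D615
theorem F2953 : act 4 n908 = n908 := d24_1 D908 (iv D908) F2048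
theorem F2954 : act 5 n908 = n908 := d26_1 D908 (iv D908) F2049
def n909 : Q := act 3 n616
theorem D909 : act 3 n616 = n909 := rfl
theorem F2955 : act 1 n909 = n617 := d8_1 D909 (iv D617) (iv F2051)
theorem F2956 : act 5 n909 = n909 := d19_2 F2053 D909 (iv D909)
theorem F2957 : act 7 n909 = n643 := d21_2 D616 D909 (iv D643) (iv D424) (iv F1300)
def n910 : Q := act 6 n616
theorem D910 : act 6 n616 = n910 := rfl
theorem F2958 : act 1 n910 = n618 := d11_1 D910 (iv D618) (iv F2051)
theorem F2959 : act 4 n910 = n910 := d23_1 D910 (iv D910) F2052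
theorem F2960 : act 7 n910 = n626 := d27_2 D616 D910 (iv D626) (iv D414) (iv F1303)
def n911 : Q := act 2 n617
theorem D911 : act 2 n617 = n911 := rfl
theorem F2961 : act 5 n911 = n619 := d15_2 (iv F2054) D911 (iv D619)
theorem F2962 : act 7 n911 = n645 := d17_2 (iv F2055) D911 (iv D645)
def n912 : Q := act 4 n617
theorem D912 : act 4 n617 = n912 := rfl
theorem F2963 : act 3 n912 = n912 := d18_1 D912 (iv D912) (iv D617) F1304 D617
theorem F2964 : act 5 n912 = n620 := d22_2 (iv F2054) D912 (iv D620)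
theorem F2965 : act 7 n912 = n646 := d24_2 (iv F2055) D912 (iv D646)
def n913 : Q := act 6 n617
theorem D913 : act 6 n617 = n913 := rfl
theorem F2966 : act 3 n913 = n618 := d20_1 D913 (iv D618) D617
theorem F2967 : act 5 n913 = n902 := d25_1 D913 (iv D902) F2035 (iv F1442) (iv F2054)
def n914 : Q := act 1 n619
theorem D914 : act 1 n619 = n914 := rfl
theorem F2968 : act 2 n914 = n914 := d7_2 D619 D914 (iv D914) (iv D619) F1306
theorem F2969 : act 6 n914 = n903 := d11_2 (iv F2059) D914 (iv D903)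
theorem F2970 : act 7 n914 = n648 := d12_2 (iv F2060) D914 (iv D648)
def n915 : Q := act 4 n619
theorem D915 : act 4 n619 = n915 := rfl
theorem F2971 : act 2 n915 = n620 := d14_1 D915 (iv D620) D619
theorem F2972 : act 6 n915 = n904 := d23_2 (iv F2059) D915 (iv D904)
theorem F2973 : act 7 n915 = n649 := d24_2 (iv F2060) D915 (iv D649)
def n916 : Q := act 1 n621
theorem D916 : act 1 n621 = n916 := rfl
theorem F2974 : act 4 n916 = n916 := d9_2 F2066 D916 (iv D916)
def n917 : Q := act 3 n621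
theorem D917 : act 3 n621 = n917 := rfl
theorem F2975 : act 0 n917 = n623 := d2_1 D917 (iv D623) (iv F2065)
theorem F2976 : act 2 n917 = n651 := d13_1 D917 (iv D651) (iv D429) (iv F1314) D621
theorem F2977 : act 5 n917 = n693 := d19_2 (iv F2067) D917 (iv D693)
def n918 : Q := act 7 n621
theorem D918 : act 7 n621 = n918 := rfl
theorem F2978 : act 0 n918 = n624 := d6_1 D918 (iv D624) (iv F2065)
theorem F2979 : act 2 n918 = n622 := d17_1 D918 (iv D622) D621
theorem F2980 : act 4 n918 = n918 := d24_1 D918 (iv D918) F2066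
theorem F2981 : act 5 n918 = n694 := d26_1 D918 (iv D694) (iv F2067)
def n919 : Q := act 3 n622
theorem D919 : act 3 n622 = n919 := rfl
theorem F2982 : act 0 n919 = n625 := d2_1 D919 (iv D625) (iv F2068)
theorem F2983 : act 5 n919 = n695 := d19_2 (iv F2070) D919 (iv D695)
theorem F2984 : act 7 n919 = n653 := d21_2 D622 D919 (iv D653) (iv D430) (iv F1314)
def n920 : Q := act 6 n622
theorem D920 : act 6 n622 = n920 := rfl
theorem F2985 : act 0 n920 = n626 := d5_1 D920 (iv D626) (iv F2068)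
theorem F2986 : act 4 n920 = n920 := d23_1 D920 (iv D920) F2069
def n921 : Q := act 4 n623
theorem D921 : act 4 n623 = n921 := rfl
theorem F2987 : act 2 n921 = n655 := d14_1 D921 (iv D655) (iv F2071)
theorem F2988 : act 3 n921 = n921 := d18_1 D921 (iv D921) (iv D623) F1317 D623
theorem F2989 : act 5 n921 = n697 := d22_2 (iv F2072) D921 (iv D697)
def n922 : Q := act 7 n623
theorem D922 : act 7 n623 = n922 := rfl
theorem F2990 : act 2 n922 = n656 := d17_1 D922 (iv D656) (iv F2071)
theorem F2991 : act 5 n922 = n698 := d26_1 D922 (iv D698) (iv F2072)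
def n923 : Q := act 3 n624
theorem D923 : act 3 n624 = n923 := rfl
theorem F2992 : act 5 n923 = n699 := d19_2 (iv F2075) D923 (iv D699)
def n924 : Q := act 6 n624
theorem D924 : act 6 n624 = n924 := rfl
theorem F2993 : act 2 n924 = n626 := d16_1 D924 (iv D626) (iv F2073)
theorem F2994 : act 4 n924 = n924 := d23_1 D924 (iv D924) F2074
def n925 : Q := act 2 n625
theorem D925 : act 2 n625 = n925 := rfl
theorem F2995 : act 5 n925 = n701 := d15_2 (iv F2077) D925 (iv D701)
theorem F2996 : act 7 n925 = n659 := d17_2 (iv F2078) D925 (iv D659)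
def n926 : Q := act 4 n625
theorem D926 : act 4 n625 = n926 := rfl
theorem F2997 : act 1 n926 = n628 := d9_1 D926 (iv D628) (iv F2076)
theorem F2998 : act 3 n926 = n926 := d18_1 D926 (iv D926) (iv D625) F1320 D625
theorem F2999 : act 5 n926 = n702 := d22_2 (iv F2077) D926 (iv D702)
theorem F3000 : act 7 n926 = n660 := d24_2 (iv F2078) D926 (iv D660)
def n927 : Q := act 6 n625
theorem D927 : act 6 n625 = n927 := rfl
theorem F3001 : act 1 n927 = n629 := d11_1 D927 (iv D629) (iv F2076)
theorem F3002 : act 3 n927 = n626 := d20_1 D927 (iv D626) D625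
def n928 : Q := act 5 n626
theorem D928 : act 5 n626 = n928 := rfl
theorem F3003 : act 4 n928 = n928 := d22_1 D928 (iv D928) F2080
theorem F3004 : act 6 n928 = n704 := d25_2 D626 D928 (iv D704) (iv D465) (iv F1321)
def n929 : Q := act 1 n627
theorem D929 : act 1 n627 = n929 := rfl
theorem F3005 : act 7 n929 = n663 := d12_2 (iv F2082) D929 (iv D663)
def n930 : Q := act 4 n627
theorem D930 : act 4 n627 = n930 := rfl
theorem F3006 : act 2 n930 = n628 := d14_1 D930 (iv D628) D627
theorem F3007 : act 5 n930 = n632 := d22_2 (iv F2081) D930 (iv D632)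
theorem F3008 : act 7 n930 = n664 := d24_2 (iv F2082) D930 (iv D664)
def n931 : Q := act 6 n627
theorem D931 : act 6 n627 = n931 := rfl
theorem F3009 : act 2 n931 = n629 := d16_1 D931 (iv D629) D627
def n932 : Q := act 6 n628
theorem D932 : act 6 n628 = n932 := rfl
theorem F3010 : act 3 n932 = n932 := d20_1 D932 (iv D932) F2083
theorem F3011 : act 4 n932 = n629 := d23_1 D932 (iv D629) D628
theorem F3012 : act 7 n932 = n769 := d27_2 (iv F2085) D932 (iv D769) F1724 (iv F1468)
def n933 : Q := act 5 n629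
theorem D933 : act 5 n629 = n933 := rfl
theorem F3013 : act 3 n933 = n630 := d19_1 D933 (iv D630) (iv F2086)
theorem F3014 : act 6 n933 = n635 := d25_2 D629 D933 (iv D635) (iv D419) (iv F1322)
def n934 : Q := act 7 n629
theorem D934 : act 7 n629 = n934 := rfl
theorem F3015 : act 4 n934 = n769 := d24_1 D934 (iv F3012) F3011
theorem F3016 : act 6 n934 = n666 := d27_1 D934 (iv D666) (iv D437) (iv F1323) D629
def n935 : Q := act 1 n630
theorem D935 : act 1 n630 = n935 := rfl
theorem F3017 : act 4 n935 = n935 := d9_2 F2088 D935 (iv D935)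
theorem F3018 : act 6 n935 = n636 := d11_2 (iv F2089) D935 (iv D636)
theorem F3019 : act 7 n935 = n899 := d12_2 (iv F2090) D935 F2928
def n936 : Q := act 0 n631
theorem D936 : act 0 n631 = n936 := rfl
theorem F3020 : act 2 n936 = n707 := d1_2 (iv F2091) D936 (iv D707)
theorem F3021 : act 7 n936 = n667 := d6_2 (iv F2092) D936 (iv D667)
def n937 : Q := act 4 n631
theorem D937 : act 4 n631 = n937 := rfl
theorem F3022 : act 1 n937 = n632 := d9_1 D937 (iv D632) D631
theorem F3023 : act 2 n937 = n708 := d14_1 D937 (iv D708) (iv F2091)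
theorem F3024 : act 7 n937 = n668 := d24_2 (iv F2092) D937 (iv D668)
def n938 : Q := act 5 n631
theorem D938 : act 5 n631 = n938 := rfl
theorem F3025 : act 2 n938 = n709 := d15_1 D938 (iv D709) (iv F2091)
theorem F3026 : act 7 n938 = n669 := d26_2 (iv F2092) D938 (iv D669)
def n939 : Q := act 6 n631
theorem D939 : act 6 n631 = n939 := rfl
theorem F3027 : act 1 n939 = n633 := d11_1 D939 (iv D633) D631
theorem F3028 : act 2 n939 = n710 := d16_1 D939 (iv D710) (iv F2091)
theorem F3029 : act 3 n939 = n914 := d20_1 D939 F2969 F2938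
theorem F3030 : act 7 n939 = n939 := d27_2 (iv F2092) D939 (iv D939) F2092 F1381
def n940 : Q := act 3 n632
theorem D940 : act 3 n632 = n940 := rfl
theorem F3031 : act 2 n940 = n940 := d13_1 D940 (iv D940) F2093 F1327 (iv F2093)
def n941 : Q := act 6 n632
theorem D941 : act 6 n632 = n941 := rfl
theorem F3032 : act 2 n941 = n634 := d16_1 D941 (iv D634) (iv F2093)
theorem F3033 : act 4 n941 = n633 := d23_1 D941 (iv D633) D632
theorem F3034 : act 7 n941 = n941 := d27_2 (iv F2094) D941 (iv D941) F2094 F1383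
def n942 : Q := act 5 n633
theorem D942 : act 5 n633 = n942 := rfl
theorem F3035 : act 2 n942 = n635 := d15_1 D942 (iv D635) (iv F2095)
theorem F3036 : act 3 n942 = n911 := d19_1 D942 F2961 (iv F2096)
theorem F3037 : act 7 n942 = n942 := d26_2 F2097 D942 (iv D942)
def n943 : Q := act 5 n634
theorem D943 : act 5 n634 = n943 := rfl
theorem F3038 : act 3 n943 = n943 := d19_1 D943 (iv D943) F2099
theorem F3039 : act 4 n943 = n635 := d22_1 D943 (iv D635) (iv F2100)
theorem F3040 : act 7 n943 = n943 := d26_2 F2101 D943 (iv D943)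
def n944 : Q := act 1 n635
theorem D944 : act 1 n635 = n944 := rfl
theorem F3041 : act 3 n944 = n636 := d8_2 (iv F2102) D944 (iv D636)
theorem F3042 : act 5 n944 = n711 := d10_2 D635 D944 (iv D711) (iv D474) (iv F1329)
theorem F3043 : act 7 n944 = n944 := d12_2 F2103 D944 (iv D944)
def n945 : Q := act 0 n636
theorem D945 : act 0 n636 = n945 := rfl
theorem F3044 : act 4 n945 = n945 := d3_2 F2104 D945 (iv D945)
theorem F3045 : act 5 n945 = n712 := d4_2 (iv F2105) D945 (iv D712)
theorem F3046 : act 7 n945 = n637 := d6_2 (iv F2106) D945 (iv D637)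
def n946 : Q := act 2 n636
theorem D946 : act 2 n636 = n946 := rfl
theorem F3047 : act 1 n946 = n908 := d7_1 D946 F2952 F2051 F1443 D636
theorem F3048 : act 4 n946 = n946 := d14_2 F2104 D946 (iv D946)
theorem F3049 : act 5 n946 = n713 := d15_2 (iv F2105) D946 (iv D713)
theorem F3050 : act 7 n946 = n638 := d17_2 (iv F2106) D946 (iv D638)
def n947 : Q := act 2 n637
theorem D947 : act 2 n637 = n947 := rfl
theorem F3051 : act 0 n947 = n638 := d1_1 D947 (iv D638) D637
theorem F3052 : act 4 n947 = n947 := d14_2 F2108 D947 (iv D947)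
theorem F3053 : act 5 n947 = n714 := d15_2 (iv F2109) D947 (iv D714)
theorem F3054 : act 6 n947 = n894 := d16_2 (iv F2110) D947 (iv D894)
def n948 : Q := act 3 n638
theorem D948 : act 3 n638 = n948 := rfl
theorem F3055 : act 1 n948 = n907 := d8_1 D948 (iv D907) (iv F2111)
theorem F3056 : act 2 n948 = n948 := d13_1 D948 (iv D948) (iv D638) F1334 D638
theorem F3057 : act 5 n948 = n715 := d19_2 (iv F2113) D948 (iv D715)
theorem F3058 : act 6 n948 = n896 := d20_2 (iv F2114) D948 (iv D896)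
def n949 : Q := act 1 n639
theorem D949 : act 1 n639 = n949 := rfl
theorem F3059 : act 0 n949 = n949 := d0_1 D949 (iv D949) F2115 F1340 (iv F2115)
theorem F3060 : act 4 n949 = n671 := d9_2 (iv F2116) D949 (iv D671)
theorem F3061 : act 6 n949 = n650 := d11_2 (iv F2118) D949 (iv D650)
def n950 : Q := act 3 n639
theorem D950 : act 3 n639 = n950 := rfl
theorem F3062 : act 0 n950 = n641 := d2_1 D950 (iv D641) (iv F2115)
theorem F3063 : act 5 n950 = n950 := d19_2 F2117 D950 (iv D950)
theorem F3064 : act 6 n950 = n651 := d20_2 (iv F2118) D950 (iv D651)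
def n951 : Q := act 7 n639
theorem D951 : act 7 n639 = n951 := rfl
theorem F3065 : act 0 n951 = n642 := d6_1 D951 (iv D642) (iv F2115)
theorem F3066 : act 2 n951 = n640 := d17_1 D951 (iv D640) D639
theorem F3067 : act 4 n951 = n673 := d24_1 D951 (iv D673) (iv F2116)
theorem F3068 : act 5 n951 = n951 := d26_1 D951 (iv D951) F2117
def n952 : Q := act 3 n640
theorem D952 : act 3 n640 = n952 := rfl
theorem F3069 : act 0 n952 = n643 := d2_1 D952 (iv D643) (iv F2119)
theorem F3070 : act 5 n952 = n952 := d19_2 F2121 D952 (iv D952)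
def n953 : Q := act 6 n640
theorem D953 : act 6 n640 = n953 := rfl
theorem F3071 : act 0 n953 = n644 := d5_1 D953 (iv D644) (iv F2119)
theorem F3072 : act 4 n953 = n675 := d23_1 D953 (iv D675) (iv F2120)
theorem F3073 : act 7 n953 = n654 := d27_2 D640 D953 (iv D654) (iv D430) (iv F1339)
def n954 : Q := act 4 n641
theorem D954 : act 4 n641 = n954 := rfl
theorem F3074 : act 1 n954 = n954 := d9_1 D954 (iv D954) F2122
theorem F3075 : act 3 n954 = n676 := d18_1 D954 (iv D676) (iv D442) (iv F1341) D641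
theorem F3076 : act 5 n954 = n954 := d22_2 F2123 D954 (iv D954)
theorem F3077 : act 6 n954 = n655 := d23_2 (iv F2124) D954 (iv D655)
def n955 : Q := act 7 n641
theorem D955 : act 7 n641 = n955 := rfl
theorem F3078 : act 1 n955 = n955 := d12_1 D955 (iv D955) F2122
theorem F3079 : act 5 n955 = n955 := d26_1 D955 (iv D955) F2123
def n956 : Q := act 3 n642
theorem D956 : act 3 n642 = n956 := rfl
theorem F3080 : act 1 n956 = n956 := d8_1 D956 (iv D956) F2125
theorem F3081 : act 4 n956 = n956 := d18_2 (iv F2127) D956 (iv D956) F2127 F1475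
theorem F3082 : act 5 n956 = n956 := d19_2 F2128 D956 (iv D956)
def n957 : Q := act 6 n642
theorem D957 : act 6 n642 = n957 := rfl
theorem F3083 : act 1 n957 = n957 := d11_1 D957 (iv D957) F2125
theorem F3084 : act 2 n957 = n644 := d16_1 D957 (iv D644) (iv F2126)
theorem F3085 : act 4 n957 = n677 := d23_1 D957 (iv D677) (iv F2127)
theorem F3086 : act 7 n957 = n658 := d27_2 D642 D957 (iv D658) (iv D432) (iv F1343)
theorem F3087 : act 5 n752 = n957 := d26_3 F3086 F2169 D752
def n958 : Q := act 2 n643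
theorem D958 : act 2 n643 = n958 := rfl
theorem F3088 : act 5 n958 = n958 := d15_2 F2130 D958 (iv D958)
def n959 : Q := act 4 n643
theorem D959 : act 4 n643 = n959 := rfl
theorem F3089 : act 1 n959 = n646 := d9_1 D959 (iv D646) (iv F2129)
theorem F3090 : act 3 n959 = n678 := d18_1 D959 (iv D678) (iv D444) (iv F1345) D643
theorem F3091 : act 5 n959 = n959 := d22_2 F2130 D959 (iv D959)
theorem F3092 : act 6 n751 = n959 := d20_0 F3090 F2237 D751
def n960 : Q := act 6 n643
theorem D960 : act 6 n643 = n960 := rfl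
theorem F3093 : act 1 n960 = n647 := d11_1 D960 (iv D647) (iv F2129)
theorem F3094 : act 3 n960 = n644 := d20_1 D960 (iv D644) D643
theorem F3095 : act 4 n960 = n751 := d23_1 D960 F3092 (iv D959)
def n961 : Q := act 5 n644
theorem D961 : act 5 n644 = n961 := rfl
theorem F3096 : act 1 n961 = n961 := d10_1 D961 (iv D961) F2131 F1350 (iv F2131)
theorem F3097 : act 2 n961 = n752 := d15_1 D961 F3087 F3084
theorem F3098 : act 4 n961 = n679 := d22_1 D961 (iv D679) (iv F2132)
theorem F3099 : act 6 n961 = n961 := d25_2 D644 D961 (iv D961) (iv D644) F1346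
theorem F3100 : act 7 n961 = n662 := d26_2 (iv F2133) D961 (iv D662)
def n962 : Q := act 1 n645
theorem D962 : act 1 n645 = n962 := rfl
theorem F3101 : act 3 n962 = n962 := d8_2 F2134 D962 (iv D962)
def n963 : Q := act 4 n645
theorem D963 : act 4 n645 = n963 := rfl
theorem F3102 : act 2 n963 = n646 := d14_1 D963 (iv D646) D645
theorem F3103 : act 5 n963 = n649 := d22_2 (iv F2135) D963 (iv D649)
theorem F3104 : act 3 n792 = n963 := d31_29 F3103 (iv F2973) (iv D915) (iv D619) F1442 (iv D402) (iv F1284) (iv D401) F724 F722 (iv F736) F734 (iv D123) D124 F435 F254 F255 D130 (iv F787) F788 D446 F1485 (iv D330) D329 F1048 F1049 F1047 D540 D792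
theorem F3105 : act 6 n963 = n786 := d20_2 D792 F3104 F2544
def n964 : Q := act 6 n645
theorem D964 : act 6 n645 = n964 := rfl
theorem F3106 : act 2 n964 = n647 := d16_1 D964 (iv D647) D645
theorem F3107 : act 3 n964 = n964 := d20_1 D964 (iv D964) F2134
theorem F3108 : act 4 n964 = n786 := d23_1 D964 (iv F3105) (iv D963)
theorem F3109 : act 5 n964 = n964 := d25_1 D964 (iv D964) F2135 F1353 (iv F2135)
def n965 : Q := act 7 n647
theorem D965 : act 7 n647 = n965 := rfl
theorem F3110 : act 3 n965 = n666 := d21_1 D965 (iv D666) F1377 (iv F1351) (iv F2139)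
theorem F3111 : act 4 n965 = n766 := d24_1 D965 F2490 (iv F2140)
theorem F3112 : act 5 n965 = n965 := d26_1 D965 (iv D965) F2141
def n966 : Q := act 0 n648
theorem D966 : act 0 n648 = n966 := rfl
theorem F3113 : act 2 n966 = n966 := d1_2 F2142 D966 (iv D966)
theorem F3114 : act 3 n966 = n966 := d2_2 F2143 D966 (iv D966)
theorem F3115 : act 6 n966 = n966 := d5_2 F2144 D966 (iv D966)
def n967 : Q := act 4 n648
theorem D967 : act 4 n648 = n967 := rfl
theorem F3116 : act 1 n967 = n649 := d9_1 D967 (iv D649) D648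
theorem F3117 : act 2 n967 = n967 := d14_1 D967 (iv D967) F2142
theorem F3118 : act 6 n967 = n967 := d23_2 F2144 D967 (iv D967)
def n968 : Q := act 5 n648
theorem D968 : act 5 n648 = n968 := rfl
theorem F3119 : act 2 n968 = n968 := d15_1 D968 (iv D968) F2142
theorem F3120 : act 3 n968 = n968 := d19_1 D968 (iv D968) F2143
def n969 : Q := act 3 n649
theorem D969 : act 3 n649 = n969 := rfl
theorem F3121 : act 2 n969 = n681 := d13_1 D969 (iv D681) F1495 (iv F1355) (iv F2145)
theorem F3122 : act 4 n969 = n969 := d18_2 D649 D969 (iv D969) (iv D649) F1352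
theorem F3123 : act 5 n969 = n792 := d19_2 F3103 D969 F3104
theorem F3124 : act 6 n969 = n969 := d20_2 F2146 D969 (iv D969)
def n970 : Q := act 3 n650
theorem D970 : act 3 n650 = n970 := rfl
theorem F3125 : act 0 n970 = n970 := d2_1 D970 (iv D970) F2147
theorem F3126 : act 1 n970 = n651 := d8_1 D970 (iv D651) D650
def n971 : Q := act 5 n650
theorem D971 : act 5 n650 = n971 := rfl
theorem F3127 : act 0 n971 = n971 := d4_1 D971 (iv D971) F2147
theorem F3128 : act 1 n971 = n717 := d10_1 D971 (iv D717) (iv D478) (iv F1359) D650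
theorem F3129 : act 4 n971 = n683 := d22_1 D971 (iv D683) (iv F2148)
def n972 : Q := act 7 n650
theorem D972 : act 7 n650 = n972 := rfl
theorem F3130 : act 0 n972 = n972 := d6_1 D972 (iv D972) F2147
theorem F3131 : act 1 n972 = n652 := d12_1 D972 (iv D652) D650
theorem F3132 : act 4 n972 = n684 := d24_1 D972 (iv D684) (iv F2148)
def n973 : Q := act 4 n651
theorem D973 : act 4 n651 = n973 := rfl
theorem F3133 : act 0 n973 = n655 := d3_1 D973 (iv D655) (iv F2149)
theorem F3134 : act 3 n973 = n685 := d18_1 D973 (iv D685) (iv D450) (iv F1358) D651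
theorem F3135 : act 5 n973 = n719 := d22_2 (iv F2150) D973 (iv D719)
def n974 : Q := act 7 n651
theorem D974 : act 7 n651 = n974 := rfl
theorem F3136 : act 0 n974 = n656 := d6_1 D974 (iv D656) (iv F2149)
theorem F3137 : act 5 n974 = n720 := d26_1 D974 (iv D720) (iv F2150)
def n975 : Q := act 3 n652
theorem D975 : act 3 n652 = n975 := rfl
theorem F3138 : act 0 n975 = n657 := d2_1 D975 (iv D657) (iv F2151)
theorem F3139 : act 5 n975 = n721 := d19_2 (iv F2154) D975 (iv D721)
def n976 : Q := act 6 n652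
theorem D976 : act 6 n652 = n976 := rfl
theorem F3140 : act 0 n976 = n658 := d5_1 D976 (iv D658) (iv F2151)
theorem F3141 : act 2 n976 = n654 := d16_1 D976 (iv D654) (iv F2152)
theorem F3142 : act 4 n976 = n688 := d23_1 D976 (iv D688) (iv F2153)
theorem F3143 : act 5 n976 = n749 := d25_1 D976 (iv D749) (iv F2276) F2277 (iv F2154)
def n977 : Q := act 2 n653
theorem D977 : act 2 n653 = n977 := rfl
theorem F3144 : act 0 n977 = n659 := d1_1 D977 (iv D659) (iv F2155)
theorem F3145 : act 5 n977 = n722 := d15_2 (iv F2156) D977 (iv D722)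
def n978 : Q := act 4 n653
theorem D978 : act 4 n653 = n978 := rfl
theorem F3146 : act 0 n978 = n660 := d3_1 D978 (iv D660) (iv F2155)
theorem F3147 : act 3 n978 = n689 := d18_1 D978 (iv D689) (iv D452) (iv F1361) D653
theorem F3148 : act 5 n978 = n723 := d22_2 (iv F2156) D978 (iv D723)
theorem F3149 : act 6 n721 = n978 := d20_0 F3147 F2277 D721
def n979 : Q := act 6 n653
theorem D979 : act 6 n653 = n979 := rfl
theorem F3150 : act 0 n979 = n661 := d5_1 D979 (iv D661) (iv F2155)
theorem F3151 : act 3 n979 = n654 := d20_1 D979 (iv D654) D653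
theorem F3152 : act 4 n979 = n721 := d23_1 D979 F3149 (iv D978)
def n980 : Q := act 5 n654
theorem D980 : act 5 n654 = n980 := rfl
theorem F3153 : act 0 n980 = n662 := d4_1 D980 (iv D662) (iv F2157)
theorem F3154 : act 2 n980 = n749 := d15_1 D980 (iv F3143) F3141
theorem F3155 : act 4 n980 = n687 := d22_1 D980 F2268 (iv F2158)
theorem F3156 : act 6 n980 = n725 := d25_2 D654 D980 (iv D725) (iv D482) (iv F1362)
def n981 : Q := act 7 n655
theorem D981 : act 7 n655 = n981 := rfl
theorem F3157 : act 1 n981 = n981 := d12_1 D981 (iv D981) F2159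
theorem F3158 : act 4 n981 = n656 := d24_1 D981 (iv D656) D655
theorem F3159 : act 5 n981 = n726 := d26_1 D981 (iv D726) (iv F2161)
def n982 : Q := act 3 n656
theorem D982 : act 3 n656 = n982 := rfl
theorem F3160 : act 1 n982 = n982 := d8_1 D982 (iv D982) F2162
theorem F3161 : act 5 n982 = n727 := d19_2 (iv F2163) D982 (iv D727)
theorem F3162 : act 7 n982 = n657 := d21_2 D656 D982 (iv D657) (iv D432) D431
def n983 : Q := act 6 n656
theorem D983 : act 6 n656 = n983 := rfl
theorem F3163 : act 1 n983 = n983 := d11_1 D983 (iv D983) F2162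
def n984 : Q := act 2 n657
theorem D984 : act 2 n657 = n984 := rfl
theorem F3164 : act 3 n984 = n659 := d13_2 D657 D984 (iv D659) (iv D433) (iv F1366)
theorem F3165 : act 5 n984 = n729 := d15_2 (iv F2165) D984 (iv D729)
def n985 : Q := act 4 n657
theorem D985 : act 4 n657 = n985 := rfl
theorem F3166 : act 1 n985 = n985 := d9_1 D985 (iv D985) F2164
theorem F3167 : act 3 n985 = n662 := d18_1 D985 F2180 (iv D456) (iv F1367) D657
theorem F3168 : act 5 n985 = n661 := d22_2 (iv F2165) D985 F2177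
theorem F3169 : act 6 n734 = n985 := d25_0 F3168 (iv D661) F1370 D488 D734
def n986 : Q := act 6 n657
theorem D986 : act 6 n657 = n986 := rfl
theorem F3170 : act 1 n986 = n986 := d11_1 D986 (iv D986) F2164
theorem F3171 : act 3 n986 = n658 := d20_1 D986 (iv D658) D657
theorem F3172 : act 4 n986 = n734 := d23_1 D986 F3169 (iv D985)
theorem F3173 : act 5 n986 = n733 := d25_1 D986 (iv D733) (iv F2173) (iv F2174) (iv F2165)
def n987 : Q := act 1 n659
theorem D987 : act 1 n659 = n987 := rfl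
theorem F3174 : act 2 n987 = n663 := d7_2 D659 D987 (iv D663) (iv D435) (iv F1369)
def n988 : Q := act 4 n659
theorem D988 : act 4 n659 = n988 := rfl
theorem F3175 : act 2 n988 = n660 := d14_1 D988 (iv D660) D659
theorem F3176 : act 5 n988 = n731 := d22_2 (iv F2170) D988 (iv D731)
theorem F3177 : act 3 n732 = n988 := d13_0 F3175 F2172 F1529 (iv F1626) (iv F2393)
theorem F3178 : act 6 n729 = n988 := d16_0 F3175 (iv F2174) D729
def n989 : Q := act 6 n659
theorem D989 : act 6 n659 = n989 := rfl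
theorem F3179 : act 2 n989 = n661 := d16_1 D989 (iv D661) D659
theorem F3180 : act 4 n989 = n729 := d23_1 D989 F3178 (iv D988)
def n990 : Q := act 7 n661
theorem D990 : act 7 n661 = n990 := rfl
theorem F3181 : act 1 n990 = n666 := d12_1 D990 (iv D666) (iv F2175)
theorem F3182 : act 4 n990 = n727 := d24_1 D990 F2387 (iv F2177)
def n991 : Q := act 0 n663
theorem D991 : act 0 n663 = n991 := rfl
theorem F3183 : act 3 n991 = n991 := d2_2 F2182 D991 (iv D991)
def n992 : Q := act 4 n663
theorem D992 : act 4 n663 = n992 := rfl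
theorem F3184 : act 1 n992 = n664 := d9_1 D992 (iv D664) D663
theorem F3185 : act 3 n774 = n992 := d8_0 F3184 (iv F2185) (iv F2509)
theorem F3186 : act 6 n771 = n992 := d11_0 F3184 F2186 D771
def n993 : Q := act 5 n663
theorem D993 : act 5 n663 = n993 := rfl
theorem F3187 : act 1 n993 = n669 := d10_1 D993 (iv D669) (iv D438) (iv F1374) D663
theorem F3188 : act 3 n993 = n993 := d19_1 D993 (iv D993) F2182
def n994 : Q := act 6 n663
theorem D994 : act 6 n663 = n994 := rfl
theorem F3189 : act 1 n994 = n665 := d11_1 D994 (iv D665) D663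
theorem F3190 : act 3 n994 = n994 := d20_1 D994 (iv D994) F2182
theorem F3191 : act 4 n994 = n771 := d23_1 D994 F3186 (iv D992)
def n995 : Q := act 7 n665
theorem D995 : act 7 n665 = n995 := rfl
theorem F3192 : act 2 n995 = n666 := d17_1 D995 (iv D666) (iv F2187)
theorem F3193 : act 4 n995 = n768 := d24_1 D995 F2496 (iv F2189)
theorem F3194 : act 5 n995 = n995 := d26_1 D995 (iv D995) F2190
def n996 : Q := act 4 n667
theorem D996 : act 4 n667 = n996 := rfl
theorem F3195 : act 0 n996 = n668 := d3_1 D996 (iv D668) D667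
theorem F3196 : act 2 n996 = n740 := d14_1 D996 (iv D740) (iv F2193)
theorem F3197 : act 6 n996 = n996 := d23_2 F2195 D996 (iv D996)
def n997 : Q := act 5 n667
theorem D997 : act 5 n667 = n997 := rfl
theorem F3198 : act 0 n997 = n669 := d4_1 D997 (iv D669) D667
theorem F3199 : act 2 n997 = n741 := d15_1 D997 (iv D741) (iv F2193)
theorem F3200 : act 3 n997 = n997 := d19_1 D997 (iv D997) F2194
def n998 : Q := act 3 n668
theorem D998 : act 3 n668 = n998 := rfl
theorem F3201 : act 1 n998 = n670 := d8_1 D998 (iv D670) (iv F2196)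
theorem F3202 : act 2 n998 = n998 := d13_1 D998 (iv D998) F2197 F1656 (iv F2197)
theorem F3203 : act 4 n998 = n998 := d18_2 D668 D998 (iv D998) (iv D668) F1380
theorem F3204 : act 6 n998 = n998 := d20_2 F2198 D998 (iv D998)
def n999 : Q := act 5 n668
theorem D999 : act 5 n668 = n999 := rfl
theorem F3205 : act 2 n999 = n742 := d15_1 D999 (iv D742) (iv F2197)
theorem F3206 : act 4 n999 = n669 := d22_1 D999 (iv D669) D668
def n1000 : Q := act 6 n669
theorem D1000 : act 6 n669 = n1000 := rfl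
theorem F3207 : act 2 n1000 = n743 := d16_1 D1000 (iv D743) (iv F2199)
theorem F3208 : act 3 n1000 = n1000 := d20_1 D1000 (iv D1000) F2200
theorem F3209 : act 5 n1000 = n1000 := d25_1 D1000 (iv D1000) (iv D669) F1381 D669
def n1001 : Q := act 7 n670
theorem D1001 : act 7 n670 = n1001 := rfl
theorem F3210 : act 2 n1001 = n691 := d17_1 D1001 (iv D691) (iv F2201)
theorem F3211 : act 4 n1001 = n1001 := d24_1 D1001 (iv D1001) F2202
theorem F3212 : act 5 n1001 = n775 := d26_1 D1001 (iv D775) (iv F2203)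
def n1002 : Q := act 3 n671
theorem D1002 : act 3 n671 = n1002 := rfl
theorem F3213 : act 0 n1002 = n1002 := d2_1 D1002 (iv D1002) F2205
theorem F3214 : act 1 n1002 = n672 := d8_1 D1002 (iv D672) D671
theorem F3215 : act 6 n1002 = n682 := d20_2 (iv F2206) D1002 (iv D682)
theorem F3216 : act 7 n1002 = n1002 := d12_0 F3214 F2211 (iv F3214)
def n1003 : Q := act 5 n671
theorem D1003 : act 5 n671 = n1003 := rfl
theorem F3217 : act 0 n1003 = n1003 := d4_1 D1003 (iv D1003) F2205
theorem F3218 : act 1 n1003 = n1003 := d10_1 D1003 (iv D1003) (iv D671) F1385 D671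
theorem F3219 : act 2 n1003 = n682 := d15_1 D1003 (iv F2845) F2843
def n1004 : Q := act 7 n671
theorem D1004 : act 7 n671 = n1004 := rfl
theorem F3220 : act 0 n1004 = n1004 := d6_1 D1004 (iv D1004) F2205
theorem F3221 : act 1 n1004 = n673 := d12_1 D1004 (iv D673) D671
theorem F3222 : act 3 n1004 = n1004 := d21_1 D1004 (iv D1004) D1002 F3216 (iv D1002)
def n1005 : Q := act 4 n672
theorem D1005 : act 4 n672 = n1005 := rfl
theorem F3223 : act 0 n1005 = n676 := d3_1 D1005 (iv D676) (iv F2207)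
theorem F3224 : act 2 n1005 = n1005 := d14_1 D1005 (iv D1005) F2208
theorem F3225 : act 5 n1005 = n1005 := d22_2 F2209 D1005 (iv D1005)
theorem F3226 : act 6 n1005 = n685 := d23_2 (iv F2210) D1005 (iv D685)
theorem F3227 : act 7 n1005 = n1005 := d24_2 F2211 D1005 (iv D1005)
def n1006 : Q := act 6 n673
theorem D1006 : act 6 n673 = n1006 := rfl
theorem F3228 : act 0 n1006 = n677 := d5_1 D1006 (iv D677) (iv F2212)
theorem F3229 : act 2 n1006 = n675 := d16_1 D1006 (iv D675) (iv F2213)
theorem F3230 : act 3 n1006 = n1006 := d20_1 D1006 (iv D1006) F2214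
theorem F3231 : act 7 n1006 = n688 := d27_2 D673 D1006 (iv D688) (iv D451) (iv F1386)
theorem F3232 : act 5 n750 = n1006 := d26_3 F3231 F2273 D750
def n1007 : Q := act 4 n674
theorem D1007 : act 4 n674 = n1007 := rfl
theorem F3233 : act 0 n1007 = n678 := d3_1 D1007 (iv D678) (iv F2216)
theorem F3234 : act 2 n1007 = n1007 := d14_1 D1007 (iv D1007) F2217
theorem F3235 : act 5 n1007 = n1007 := d22_2 F2218 D1007 (iv D1007)
theorem F3236 : act 6 n1007 = n747 := d23_2 F2220 D1007 F2434
theorem F3237 : act 7 n1007 = n1007 := d24_2 F2219 D1007 (iv D1007)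
def n1008 : Q := act 5 n675
theorem D1008 : act 5 n675 = n1008 := rfl
theorem F3238 : act 0 n1008 = n679 := d4_1 D1008 (iv D679) (iv F2221)
theorem F3239 : act 2 n1008 = n750 := d15_1 D1008 F3232 F3229
theorem F3240 : act 3 n1008 = n686 := d19_1 D1008 F2264 (iv F2222)
theorem F3241 : act 6 n1008 = n1008 := d25_2 D675 D1008 (iv D1008) (iv D675) F1388
theorem F3242 : act 7 n1008 = n687 := d26_2 (iv F2223) D1008 F2268
def n1009 : Q := act 3 n680
theorem D1009 : act 3 n680 = n1009 := rfl
theorem F3243 : act 0 n1009 = n1009 := d2_1 D1009 (iv D1009) F2244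
theorem F3244 : act 1 n1009 = n681 := d8_1 D1009 (iv D681) (iv F2245)
theorem F3245 : act 4 n1009 = n1009 := d18_2 D680 D1009 (iv D1009) (iv D680) F1491
theorem F3246 : act 5 n1009 = n1009 := d19_2 F2247 D1009 (iv D1009)
theorem F3247 : act 6 n1009 = n1009 := d20_2 F2248 D1009 (iv D1009)
def n1010 : Q := act 7 n681
theorem D1010 : act 7 n681 = n1010 := rfl
theorem F3248 : act 3 n1010 = n1010 := d21_1 D1010 (iv D1010) (iv D681) F1498 D681
theorem F3249 : act 4 n1010 = n1010 := d24_1 D1010 (iv D1010) F2250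
theorem F3250 : act 5 n1010 = n793 := d26_1 D1010 (iv D793) (iv F2251)
def n1011 : Q := act 4 n682
theorem D1011 : act 4 n682 = n1011 := rfl
theorem F3251 : act 0 n1011 = n1011 := d3_1 D1011 (iv D1011) F2253
theorem F3252 : act 1 n1011 = n685 := d9_1 D1011 (iv D685) (iv F2254)
def n1012 : Q := act 7 n682
theorem D1012 : act 7 n682 = n1012 := rfl
theorem F3253 : act 0 n1012 = n1012 := d6_1 D1012 (iv D1012) F2253
theorem F3254 : act 1 n1012 = n686 := d12_1 D1012 (iv D686) (iv F2254)
theorem F3255 : act 6 n1012 = n1012 := d27_1 D1012 (iv D1012) (iv F3215) F3216 F3215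
def n1013 : Q := act 7 n683
theorem D1013 : act 7 n683 = n1013 := rfl
theorem F3256 : act 0 n1013 = n1013 := d6_1 D1013 (iv D1013) F2255
theorem F3257 : act 1 n1013 = n746 := d12_1 D1013 (iv D746) (iv F2256)
theorem F3258 : act 5 n1013 = n684 := d26_1 D1013 (iv D684) D683
theorem F3259 : act 6 n1013 = n1013 := d27_1 D1013 (iv D1013) (iv F2874) F2875 F2874
def n1014 : Q := act 3 n684
theorem D1014 : act 3 n684 = n1014 := rfl
theorem F3260 : act 0 n1014 = n1014 := d2_1 D1014 (iv D1014) F2257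
theorem F3261 : act 1 n1014 = n687 := d8_1 D1014 (iv D687) (iv F2258)
theorem F3262 : act 2 n1014 = n1014 := d13_1 D1014 (iv D1014) (iv F2881) F2882 F2881
theorem F3263 : act 6 n748 = n1014 := d11_0 F3261 (iv F2269) D748
def n1015 : Q := act 6 n684
theorem D1015 : act 6 n684 = n1015 := rfl
theorem F3264 : act 0 n1015 = n1015 := d5_1 D1015 (iv D1015) F2257
theorem F3265 : act 1 n1015 = n688 := d11_1 D1015 (iv D688) (iv F2258)
theorem F3266 : act 3 n1015 = n748 := d20_1 D1015 F3263 (iv D1014)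
theorem F3267 : act 5 n1015 = n1015 := d25_1 D1015 (iv D1015) (iv F3258) F3259 F3258
def n1016 : Q := act 7 n685
theorem D1016 : act 7 n685 = n1016 := rfl
theorem F3268 : act 0 n1016 = n690 := d6_1 D1016 (iv D690) (iv F2259)
theorem F3269 : act 2 n1016 = n1016 := d17_1 D1016 (iv D1016) F2260
theorem F3270 : act 4 n1016 = n686 := d24_1 D1016 (iv D686) D685
theorem F3271 : act 5 n1016 = n747 := d26_1 D1016 (iv D747) (iv F2261)
theorem F3272 : act 6 n1016 = n1016 := d27_1 D1016 (iv D1016) (iv F3226) F3227 F3226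
def n1017 : Q := act 3 n690
theorem D1017 : act 3 n690 = n1017 := rfl
theorem F3273 : act 1 n1017 = n1017 := d8_1 D1017 (iv D1017) F2279
theorem F3274 : act 5 n1017 = n751 := d19_2 (iv F2282) D1017 (iv D751)
theorem F3275 : act 6 n1017 = n1017 := d20_2 F2283 D1017 (iv D1017)
def n1018 : Q := act 6 n691
theorem D1018 : act 6 n691 = n1018 := rfl
theorem F3276 : act 1 n1018 = n1018 := d11_1 D1018 (iv D1018) F2284
theorem F3277 : act 3 n1018 = n1018 := d20_1 D1018 (iv D1018) F2285
theorem F3278 : act 4 n1018 = n1018 := d23_1 D1018 (iv D1018) F2286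
theorem F3279 : act 5 n1018 = n1018 := d25_1 D1018 (iv D1018) F2287 F1737 (iv F2287)
theorem F3280 : act 7 n1018 = n1018 := d27_2 D691 D1018 (iv D1018) (iv D691) F1536
def n1019 : Q := act 3 n692
theorem D1019 : act 3 n692 = n1019 := rfl
theorem F3281 : act 0 n1019 = n1019 := d2_1 D1019 (iv D1019) F2288
theorem F3282 : act 1 n1019 = n693 := d8_1 D1019 (iv D693) D692
theorem F3283 : act 6 n1019 = n1019 := d20_2 F2291 D1019 (iv D1019)
def n1020 : Q := act 5 n692
theorem D1020 : act 5 n692 = n1020 := rfl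
theorem F3284 : act 0 n1020 = n1020 := d4_1 D1020 (iv D1020) F2288
theorem F3285 : act 2 n1020 = n1020 := d15_1 D1020 (iv D1020) F2289
theorem F3286 : act 4 n1020 = n1020 := d22_1 D1020 (iv D1020) F2290
def n1021 : Q := act 7 n692
theorem D1021 : act 7 n692 = n1021 := rfl
theorem F3287 : act 0 n1021 = n1021 := d6_1 D1021 (iv D1021) F2288
theorem F3288 : act 1 n1021 = n694 := d12_1 D1021 (iv D694) D692
theorem F3289 : act 2 n1021 = n1021 := d17_1 D1021 (iv D1021) F2289
theorem F3290 : act 4 n1021 = n1021 := d24_1 D1021 (iv D1021) F2290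
def n1022 : Q := act 4 n693
theorem D1022 : act 4 n693 = n1022 := rfl
theorem F3291 : act 0 n1022 = n697 := d3_1 D1022 (iv D697) (iv F2292)
theorem F3292 : act 2 n1022 = n719 := d14_1 D1022 (iv D719) (iv F2293)
theorem F3293 : act 3 n1022 = n1022 := d18_1 D1022 (iv D1022) (iv D693) F1538 D693
theorem F3294 : act 6 n1022 = n1022 := d23_2 F2294 D1022 (iv D1022)
def n1023 : Q := act 7 n693
theorem D1023 : act 7 n693 = n1023 := rfl
theorem F3295 : act 0 n1023 = n698 := d6_1 D1023 (iv D698) (iv F2292)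
theorem F3296 : act 2 n1023 = n720 := d17_1 D1023 (iv D720) (iv F2293)
def n1024 : Q := act 3 n694
theorem D1024 : act 3 n694 = n1024 := rfl
theorem F3297 : act 0 n1024 = n699 := d2_1 D1024 (iv D699) (iv F2295)
def n1025 : Q := act 6 n694
theorem D1025 : act 6 n694 = n1025 := rfl
theorem F3298 : act 0 n1025 = n700 := d5_1 D1025 (iv D700) (iv F2295)
theorem F3299 : act 2 n1025 = n696 := d16_1 D1025 (iv D696) (iv F2296)
theorem F3300 : act 4 n1025 = n1025 := d23_1 D1025 (iv D1025) F2297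
theorem F3301 : act 7 n1025 = n1025 := d27_2 D694 D1025 (iv D1025) (iv D694) F1539
def n1026 : Q := act 2 n695
theorem D1026 : act 2 n695 = n1026 := rfl
theorem F3302 : act 0 n1026 = n701 := d1_1 D1026 (iv D701) (iv F2298)
theorem F3303 : act 7 n1026 = n722 := d17_2 (iv F2300) D1026 (iv D722)
def n1027 : Q := act 4 n695
theorem D1027 : act 4 n695 = n1027 := rfl
theorem F3304 : act 0 n1027 = n702 := d3_1 D1027 (iv D702) (iv F2298)
theorem F3305 : act 1 n1027 = n1027 := d9_1 D1027 (iv D1027) F2299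
theorem F3306 : act 3 n1027 = n1027 := d18_1 D1027 (iv D1027) (iv D695) F1542 D695
theorem F3307 : act 7 n1027 = n723 := d24_2 (iv F2300) D1027 (iv D723)
def n1028 : Q := act 6 n695
theorem D1028 : act 6 n695 = n1028 := rfl
theorem F3308 : act 0 n1028 = n703 := d5_1 D1028 (iv D703) (iv F2298)
theorem F3309 : act 1 n1028 = n1028 := d11_1 D1028 (iv D1028) F2299
theorem F3310 : act 3 n1028 = n696 := d20_1 D1028 (iv D696) D695
def n1029 : Q := act 5 n696
theorem D1029 : act 5 n696 = n1029 := rfl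
theorem F3311 : act 0 n1029 = n704 := d4_1 D1029 (iv D704) (iv F2301)
theorem F3312 : act 4 n1029 = n1029 := d22_1 D1029 (iv D1029) F2303
theorem F3313 : act 7 n1029 = n1029 := d26_2 F2304 D1029 (iv D1029)
def n1030 : Q := act 7 n697
theorem D1030 : act 7 n697 = n1030 := rfl
theorem F3314 : act 1 n1030 = n1030 := d12_1 D1030 (iv D1030) F2305
theorem F3315 : act 2 n1030 = n726 := d17_1 D1030 (iv D726) (iv F2306)
theorem F3316 : act 4 n1030 = n698 := d24_1 D1030 (iv D698) D697
def n1031 : Q := act 3 n698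
theorem D1031 : act 3 n698 = n1031 := rfl
theorem F3317 : act 1 n1031 = n1031 := d8_1 D1031 (iv D1031) F2309
theorem F3318 : act 7 n1031 = n699 := d21_2 D698 D1031 (iv D699) (iv D463) D462
def n1032 : Q := act 6 n698
theorem D1032 : act 6 n698 = n1032 := rfl
theorem F3319 : act 1 n1032 = n1032 := d11_1 D1032 (iv D1032) F2309
theorem F3320 : act 2 n1032 = n728 := d16_1 D1032 (iv D728) (iv F2310)
theorem F3321 : act 7 n1032 = n1032 := d27_2 D698 D1032 (iv D1032) (iv D698) F1545
def n1033 : Q := act 2 n699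
theorem D1033 : act 2 n699 = n1033 := rfl
theorem F3322 : act 3 n1033 = n701 := d13_2 D699 D1033 (iv D701) (iv D464) (iv F1547)
def n1034 : Q := act 4 n699
theorem D1034 : act 4 n699 = n1034 := rfl
theorem F3323 : act 1 n1034 = n1034 := d9_1 D1034 (iv D1034) F2311
theorem F3324 : act 3 n1034 = n1034 := d18_1 D1034 (iv D1034) (iv D699) F1548 D699
def n1035 : Q := act 6 n699
theorem D1035 : act 6 n699 = n1035 := rfl
theorem F3325 : act 1 n1035 = n1035 := d11_1 D1035 (iv D1035) F2311
theorem F3326 : act 3 n1035 = n700 := d20_1 D1035 (iv D700) D699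
def n1036 : Q := act 5 n700
theorem D1036 : act 5 n700 = n1036 := rfl
theorem F3327 : act 2 n1036 = n704 := d15_1 D1036 (iv D704) (iv F2313)
theorem F3328 : act 4 n1036 = n1036 := d22_1 D1036 (iv D1036) F2314
theorem F3329 : act 7 n1036 = n1036 := d26_2 F2315 D1036 (iv D1036)
def n1037 : Q := act 1 n701
theorem D1037 : act 1 n701 = n1037 := rfl
theorem F3330 : act 2 n1037 = n705 := d7_2 D701 D1037 (iv D705) (iv D466) (iv F1549)
theorem F3331 : act 7 n1037 = n730 := d12_2 (iv F2316) D1037 (iv D730)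
def n1038 : Q := act 4 n701
theorem D1038 : act 4 n701 = n1038 := rfl
theorem F3332 : act 2 n1038 = n702 := d14_1 D1038 (iv D702) D701
theorem F3333 : act 7 n1038 = n731 := d24_2 (iv F2316) D1038 (iv D731)
theorem F3334 : act 6 n1037 = n1038 := d16_0 F3332 (iv F2326) (iv F3330)
def n1039 : Q := act 6 n701
theorem D1039 : act 6 n701 = n1039 := rfl
theorem F3335 : act 1 n1039 = n1038 := d11_1 D1039 (iv F3334) (iv D1037)
theorem F3336 : act 2 n1039 = n703 := d16_1 D1039 (iv D703) D701
theorem F3337 : act 4 n1039 = n1037 := d23_1 D1039 F3334 (iv D1038)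
def n1040 : Q := act 5 n703
theorem D1040 : act 5 n703 = n1040 := rfl
theorem F3338 : act 3 n1040 = n704 := d19_1 D1040 (iv D704) (iv F2321)
def n1041 : Q := act 1 n704
theorem D1041 : act 1 n704 = n1041 := rfl
theorem F3339 : act 4 n1041 = n1041 := d9_2 F2322 D1041 (iv D1041)
theorem F3340 : act 5 n1041 = n706 := d10_2 D704 D1041 (iv D706) (iv D469) (iv F1551)
theorem F3341 : act 7 n1041 = n1041 := d12_2 F2323 D1041 (iv D1041)
def n1042 : Q := act 0 n705
theorem D1042 : act 0 n705 = n1042 := rfl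
theorem F3342 : act 1 n1042 = n1042 := d0_2 D705 D1042 (iv D1042) (iv D705) F1554
theorem F3343 : act 3 n1042 = n1042 := d2_2 F2324 D1042 (iv D1042)
theorem F3344 : act 4 n1042 = n1028 := d3_2 (iv F2325) D1042 F3308
theorem F3345 : act 6 n1042 = n1027 := d5_2 (iv F2326) D1042 F3304
theorem F3346 : act 7 n1042 = n736 := d6_2 (iv F2327) D1042 (iv D736)
def n1043 : Q := act 5 n705
theorem D1043 : act 5 n705 = n1043 := rfl
theorem F3347 : act 1 n1043 = n709 := d10_1 D1043 (iv D709) (iv D470) (iv F1556) D705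
theorem F3348 : act 3 n1043 = n1043 := d19_1 D1043 (iv D1043) F2324
theorem F3349 : act 4 n1043 = n1040 := d22_1 D1043 (iv D1040) (iv F2325)
theorem F3350 : act 7 n1043 = n738 := d26_2 (iv F2327) D1043 (iv D738)
def n1044 : Q := act 0 n706
theorem D1044 : act 0 n706 = n1044 := rfl
theorem F3351 : act 1 n1044 = n1044 := d0_2 D706 D1044 (iv D1044) (iv D706) F1567
theorem F3352 : act 4 n1044 = n1044 := d3_2 F2328 D1044 (iv D1044)
theorem F3353 : act 6 n1044 = n712 := d5_2 (iv F2329) D1044 (iv D712)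
theorem F3354 : act 7 n1044 = n1044 := d6_2 F2330 D1044 (iv D1044)
def n1045 : Q := act 2 n706
theorem D1045 : act 2 n706 = n1045 := rfl
theorem F3355 : act 1 n1045 = n1045 := d7_1 D1045 (iv D1045) (iv D706) F1568 D706
theorem F3356 : act 4 n1045 = n1045 := d14_2 F2328 D1045 (iv D1045)
theorem F3357 : act 6 n1045 = n713 := d16_2 (iv F2329) D1045 (iv D713)
theorem F3358 : act 7 n1045 = n1045 := d17_2 F2330 D1045 (iv D1045)
def n1046 : Q := act 4 n707
theorem D1046 : act 4 n707 = n1046 := rfl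
theorem F3359 : act 0 n1046 = n708 := d3_1 D1046 (iv D708) D707
theorem F3360 : act 1 n1046 = n1046 := d9_1 D1046 (iv D1046) F2331
theorem F3361 : act 7 n1046 = n740 := d24_2 (iv F2333) D1046 (iv D740)
theorem F3362 : act 3 n1044 = n1046 := d2_0 F3359 (iv F2336) D1044
def n1047 : Q := act 5 n707
theorem D1047 : act 5 n707 = n1047 := rfl
theorem F3363 : act 0 n1047 = n709 := d4_1 D1047 (iv D709) D707
theorem F3364 : act 3 n1047 = n1047 := d19_1 D1047 (iv D1047) F2332
theorem F3365 : act 7 n1047 = n741 := d26_2 (iv F2333) D1047 (iv D741)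
def n1048 : Q := act 6 n707
theorem D1048 : act 6 n707 = n1048 := rfl
theorem F3366 : act 0 n1048 = n710 := d5_1 D1048 (iv D710) D707
theorem F3367 : act 1 n1048 = n1048 := d11_1 D1048 (iv D1048) F2331
theorem F3368 : act 3 n1048 = n1048 := d20_1 D1048 (iv D1048) F2332
theorem F3369 : act 7 n1048 = n1048 := d27_2 (iv F2333) D1048 (iv D1048) F2333 F1654
def n1049 : Q := act 5 n708
theorem D1049 : act 5 n708 = n1049 := rfl
theorem F3370 : act 1 n1049 = n1040 := d10_1 D1049 (iv D1040) F2320 (iv F1576) (iv F2334)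
theorem F3371 : act 3 n1049 = n1041 := d19_1 D1049 F3340 F2336
theorem F3372 : act 4 n1049 = n709 := d22_1 D1049 (iv D709) D708
theorem F3373 : act 7 n1049 = n742 := d26_2 (iv F2335) D1049 (iv D742)
def n1050 : Q := act 6 n709
theorem D1050 : act 6 n709 = n1050 := rfl
theorem F3374 : act 3 n1050 = n1050 := d20_1 D1050 (iv D1050) F2337
def n1051 : Q := act 5 n710
theorem D1051 : act 5 n710 = n1051 := rfl
theorem F3375 : act 1 n1051 = n943 := d10_1 D1051 (iv D943) F2098 F1586 (iv F2339)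
theorem F3376 : act 3 n1051 = n1051 := d19_1 D1051 (iv D1051) F2340
theorem F3377 : act 4 n1051 = n944 := d22_1 D1051 F3042 F2343
theorem F3378 : act 7 n1051 = n1051 := d26_2 F2341 D1051 (iv D1051)
def n1052 : Q := act 0 n711
theorem D1052 : act 0 n711 = n1052 := rfl
theorem F3379 : act 1 n1052 = n1052 := d0_2 D711 D1052 (iv D1052) (iv D711) F1588
theorem F3380 : act 3 n1052 = n712 := d2_2 (iv F2342) D1052 (iv D712)
theorem F3381 : act 4 n1052 = n1048 := d3_2 (iv F2343) D1052 F3366
theorem F3382 : act 6 n1052 = n1046 := d5_2 (iv F2344) D1052 F3359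
theorem F3383 : act 7 n1052 = n1052 := d6_2 F2345 D1052 (iv D1052)
def n1053 : Q := act 2 n711
theorem D1053 : act 2 n711 = n1053 := rfl
theorem F3384 : act 1 n1053 = n941 := d7_1 D1053 F3032 F2098 (iv F1589) D711
theorem F3385 : act 4 n1053 = n939 := d14_2 (iv F2343) D1053 F3028
theorem F3386 : act 6 n1053 = n937 := d16_2 (iv F2344) D1053 F3023
theorem F3387 : act 7 n1053 = n1053 := d17_2 F2345 D1053 (iv D1053)
def n1054 : Q := act 2 n712
theorem D1054 : act 2 n712 = n1054 := rfl
theorem F3388 : act 0 n1054 = n713 := d1_1 D1054 (iv D713) D712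
theorem F3389 : act 4 n1054 = n1054 := d14_2 F2347 D1054 (iv D1054)
theorem F3390 : act 7 n1054 = n714 := d17_2 (iv F2348) D1054 (iv D714)
def n1055 : Q := act 3 n713
theorem D1055 : act 3 n713 = n1055 := rfl
theorem F3391 : act 1 n1055 = n1055 := d8_1 D1055 (iv D1055) F2349
def n1056 : Q := act 1 n714
theorem D1056 : act 1 n714 = n1056 := rfl
theorem F3392 : act 0 n1056 = n1056 := d0_1 D1056 (iv D1056) F2352 F1600 (iv F2352)
theorem F3393 : act 2 n1056 = n1056 := d7_2 D714 D1056 (iv D1056) (iv D714) F1596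
theorem F3394 : act 4 n1056 = n1056 := d9_2 F2353 D1056 (iv D1056)
theorem F3395 : act 6 n1056 = n1056 := d11_2 F2354 D1056 (iv D1056)
def n1057 : Q := act 3 n714
theorem D1057 : act 3 n714 = n1057 := rfl
theorem F3396 : act 0 n1057 = n715 := d2_1 D1057 (iv D715) (iv F2352)
theorem F3397 : act 2 n1057 = n1057 := d13_1 D1057 (iv D1057) (iv D714) F1597 D714
theorem F3398 : act 6 n1057 = n1057 := d20_2 F2354 D1057 (iv D1057)
def n1058 : Q := act 4 n715
theorem D1058 : act 4 n715 = n1058 := rfl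
theorem F3399 : act 1 n1058 = n1058 := d9_1 D1058 (iv D1058) F2355
theorem F3400 : act 2 n1058 = n1058 := d14_1 D1058 (iv D1058) F2356
theorem F3401 : act 3 n1058 = n1058 := d18_1 D1058 (iv D1058) (iv D715) F1601 D715
theorem F3402 : act 6 n1058 = n1058 := d23_2 F2357 D1058 (iv D1058)
def n1059 : Q := act 7 n715
theorem D1059 : act 7 n715 = n1059 := rfl
theorem F3403 : act 1 n1059 = n1059 := d12_1 D1059 (iv D1059) F2355
theorem F3404 : act 2 n1059 = n1059 := d17_1 D1059 (iv D1059) F2356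
def n1060 : Q := act 2 n716
theorem D1060 : act 2 n716 = n1060 := rfl
theorem F3405 : act 0 n1060 = n753 := d1_1 D1060 (iv D753) (iv F2358)
theorem F3406 : act 3 n1060 = n1060 := d13_2 D716 D1060 (iv D1060) (iv D716) F1604
theorem F3407 : act 6 n1060 = n1060 := d16_2 F2360 D1060 (iv D1060)
def n1061 : Q := act 4 n716
theorem D1061 : act 4 n716 = n1061 := rfl
theorem F3408 : act 0 n1061 = n754 := d3_1 D1061 (iv D754) (iv F2358)
theorem F3409 : act 1 n1061 = n719 := d9_1 D1061 (iv D719) (iv F2359)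
theorem F3410 : act 3 n1061 = n744 := d18_1 D1061 (iv D744) (iv D498) (iv F1605) D716
theorem F3411 : act 6 n1061 = n1061 := d23_2 F2360 D1061 (iv D1061)
def n1062 : Q := act 5 n716
theorem D1062 : act 5 n716 = n1062 := rfl
theorem F3412 : act 0 n1062 = n755 := d4_1 D1062 (iv D755) (iv F2358)
theorem F3413 : act 3 n1062 = n717 := d19_1 D1062 (iv D717) D716
def n1063 : Q := act 7 n716
theorem D1063 : act 7 n716 = n1063 := rfl
theorem F3414 : act 0 n1063 = n756 := d6_1 D1063 (iv D756) (iv F2358)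
theorem F3415 : act 1 n1063 = n720 := d12_1 D1063 (iv D720) (iv F2359)
def n1064 : Q := act 7 n717
theorem D1064 : act 7 n717 = n1064 := rfl
theorem F3416 : act 0 n1064 = n757 := d6_1 D1064 (iv D757) (iv F2361)
theorem F3417 : act 2 n1064 = n1064 := d17_1 D1064 (iv D1064) F2362
theorem F3418 : act 4 n1064 = n746 := d24_1 D1064 (iv D746) (iv F2363)
theorem F3419 : act 5 n1064 = n718 := d26_1 D1064 (iv D718) D717
theorem F3420 : act 6 n1064 = n1064 := d27_1 D1064 (iv D1064) (iv F2886) F2887 F2886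
def n1065 : Q := act 3 n718
theorem D1065 : act 3 n718 = n1065 := rfl
theorem F3421 : act 0 n1065 = n758 := d2_1 D1065 (iv D758) (iv F2364)
theorem F3422 : act 1 n1065 = n721 := d8_1 D1065 (iv D721) (iv F2365)
def n1066 : Q := act 7 n719
theorem D1066 : act 7 n719 = n1066 := rfl
theorem F3423 : act 0 n1066 = n726 := d6_1 D1066 (iv D726) (iv F2368)
theorem F3424 : act 4 n1066 = n720 := d24_1 D1066 (iv D720) D719
def n1067 : Q := act 3 n720
theorem D1067 : act 3 n720 = n1067 := rfl
theorem F3425 : act 0 n1067 = n727 := d2_1 D1067 (iv D727) (iv F2371)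
theorem F3426 : act 7 n1067 = n721 := d21_2 D720 D1067 (iv D721) (iv D480) D479
def n1068 : Q := act 6 n720
theorem D1068 : act 6 n720 = n1068 := rfl
theorem F3427 : act 0 n1068 = n728 := d5_1 D1068 (iv D728) (iv F2371)
theorem F3428 : act 7 n1068 = n1068 := d27_2 D720 D1068 (iv D1068) (iv D720) F1608
def n1069 : Q := act 2 n721
theorem D1069 : act 2 n721 = n1069 := rfl
theorem F3429 : act 0 n1069 = n729 := d1_1 D1069 (iv D729) (iv F2372)
theorem F3430 : act 3 n1069 = n722 := d13_2 D721 D1069 (iv D722) (iv D481) (iv F1610)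
def n1070 : Q := act 1 n722
theorem D1070 : act 1 n722 = n1070 := rfl
theorem F3431 : act 2 n1070 = n1070 := d7_2 D722 D1070 (iv D1070) (iv D722) F1613
def n1071 : Q := act 4 n722
theorem D1071 : act 4 n722 = n1071 := rfl
theorem F3432 : act 0 n1071 = n731 := d3_1 D1071 (iv D731) (iv F2373)
theorem F3433 : act 2 n1071 = n723 := d14_1 D1071 (iv D723) D722
def n1072 : Q := act 6 n722
theorem D1072 : act 6 n722 = n1072 := rfl
theorem F3434 : act 0 n1072 = n732 := d5_1 D1072 (iv D732) (iv F2373)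
theorem F3435 : act 2 n1072 = n724 := d16_1 D1072 (iv D724) D722
def n1073 : Q := act 6 n723
theorem D1073 : act 6 n723 = n1073 := rfl
theorem F3436 : act 0 n1073 = n733 := d5_1 D1073 (iv D733) (iv F2374)
theorem F3437 : act 1 n1073 = n1073 := d11_1 D1073 (iv D1073) F2375
theorem F3438 : act 3 n1073 = n749 := d20_1 D1073 (iv D749) (iv F2376)
theorem F3439 : act 4 n1073 = n724 := d23_1 D1073 (iv D724) D723
def n1074 : Q := act 5 n724
theorem D1074 : act 5 n724 = n1074 := rfl
theorem F3440 : act 0 n1074 = n734 := d4_1 D1074 (iv D734) (iv F2377)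
theorem F3441 : act 3 n1074 = n725 := d19_1 D1074 (iv D725) (iv F2379)
def n1075 : Q := act 7 n724
theorem D1075 : act 7 n724 = n1075 := rfl
theorem F3442 : act 0 n1075 = n735 := d6_1 D1075 (iv D735) (iv F2377)
theorem F3443 : act 1 n1075 = n1075 := d12_1 D1075 (iv D1075) F2378
theorem F3444 : act 3 n1075 = n1075 := d21_1 D1075 (iv D1075) F2379 F1617 (iv F2379)
def n1076 : Q := act 1 n725
theorem D1076 : act 1 n725 = n1076 := rfl
theorem F3445 : act 0 n1076 = n1076 := d0_1 D1076 (iv D1076) F2380 F1627 (iv F2380)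
theorem F3446 : act 2 n1076 = n1076 := d7_2 (iv F2381) D1076 (iv D1076) F2381 F1676
theorem F3447 : act 4 n1076 = n748 := d9_2 (iv F2382) D1076 (iv D748)
theorem F3448 : act 5 n1076 = n1076 := d10_2 D725 D1076 (iv D1076) (iv D725) F1615
theorem F3449 : act 7 n1076 = n1076 := d12_2 F2383 D1076 (iv D1076)
def n1077 : Q := act 3 n726
theorem D1077 : act 3 n726 = n1077 := rfl
theorem F3450 : act 1 n1077 = n766 := d8_1 D1077 (iv D766) (iv F2384)
theorem F3451 : act 7 n1077 = n751 := d21_2 D726 D1077 (iv D751) (iv D506) (iv F1619)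
def n1078 : Q := act 6 n726
theorem D1078 : act 6 n726 = n1078 := rfl
theorem F3452 : act 1 n1078 = n767 := d11_1 D1078 (iv D767) (iv F2384)
theorem F3453 : act 4 n1078 = n728 := d23_1 D1078 (iv D728) (iv F2385)
theorem F3454 : act 7 n1078 = n1078 := d27_2 D726 D1078 (iv D1078) (iv D726) F1620
def n1079 : Q := act 2 n727
theorem D1079 : act 2 n727 = n1079 := rfl
theorem F3455 : act 7 n1079 = n729 := d17_2 (iv F2387) D1079 (iv D729)
def n1080 : Q := act 6 n727
theorem D1080 : act 6 n727 = n1080 := rfl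
theorem F3456 : act 1 n1080 = n769 := d11_1 D1080 (iv D769) (iv F2386)
theorem F3457 : act 3 n1080 = n728 := d20_1 D1080 (iv D728) D727
def n1081 : Q := act 5 n728
theorem D1081 : act 5 n728 = n1081 := rfl
theorem F3458 : act 7 n1081 = n1081 := d26_2 F2389 D1081 (iv D1081)
def n1082 : Q := act 1 n729
theorem D1082 : act 1 n729 = n1082 := rfl
theorem F3459 : act 2 n1082 = n771 := d7_2 D729 D1082 (iv D771) (iv D521) (iv F1622)
theorem F3460 : act 3 n1082 = n730 := d8_2 (iv F2390) D1082 (iv D730)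
def n1083 : Q := act 0 n730
theorem D1083 : act 0 n730 = n1083 := rfl
theorem F3461 : act 2 n1083 = n736 := d1_2 (iv F2391) D1083 (iv D736)
def n1084 : Q := act 4 n730
theorem D1084 : act 4 n730 = n1084 := rfl
theorem F3462 : act 1 n1084 = n731 := d9_1 D1084 (iv D731) D730
theorem F3463 : act 2 n1084 = n737 := d14_1 D1084 (iv D737) (iv F2391)
theorem F3464 : act 7 n1084 = n1039 := d24_2 F3331 D1084 F3337
def n1085 : Q := act 5 n730
theorem D1085 : act 5 n730 = n1085 := rfl
theorem F3465 : act 2 n1085 = n738 := d15_1 D1085 (iv D738) (iv F2391)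
def n1086 : Q := act 6 n730
theorem D1086 : act 6 n730 = n1086 := rfl
theorem F3466 : act 1 n1086 = n732 := d11_1 D1086 (iv D732) D730
theorem F3467 : act 2 n1086 = n739 := d16_1 D1086 (iv D739) (iv F2391)
def n1087 : Q := act 3 n731
theorem D1087 : act 3 n731 = n1087 := rfl
theorem F3468 : act 2 n1087 = n734 := d13_1 D1087 F2398 F1628 (iv F1624) (iv F2392)
theorem F3469 : act 5 n1087 = n732 := d19_2 F3176 D1087 F3177
def n1088 : Q := act 6 n731
theorem D1088 : act 6 n731 = n1088 := rfl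
theorem F3470 : act 2 n1088 = n733 := d16_1 D1088 (iv D733) (iv F2392)
theorem F3471 : act 4 n1088 = n732 := d23_1 D1088 (iv D732) D731
theorem F3472 : act 7 n1088 = n1086 := d27_2 F3333 D1088 (iv D1086) (iv F3331) F3334
def n1089 : Q := act 7 n732
theorem D1089 : act 7 n732 = n1089 := rfl
theorem F3473 : act 1 n1089 = n1088 := d12_1 D1089 F3472 F3466
theorem F3474 : act 2 n1089 = n735 := d17_1 D1089 (iv D735) (iv F2393)
theorem F3475 : act 4 n1089 = n1086 := d24_1 D1089 (iv F3472) F3471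
theorem F3476 : act 6 n1089 = n1084 := d27_1 D1089 F3464 (iv D1039) F2316 D732
def n1090 : Q := act 7 n734
theorem D1090 : act 7 n734 = n1090 := rfl
theorem F3477 : act 1 n1090 = n1090 := d12_1 D1090 (iv D1090) F2397
theorem F3478 : act 3 n1090 = n1090 := d21_1 D1090 (iv D1090) F2398 F1630 (iv F2398)
theorem F3479 : act 5 n1090 = n735 := d26_1 D1090 (iv D735) D734
def n1091 : Q := act 4 n736
theorem D1091 : act 4 n736 = n1091 := rfl
theorem F3480 : act 0 n1091 = n737 := d3_1 D1091 (iv D737) D736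
theorem F3481 : act 1 n1091 = n1091 := d9_1 D1091 (iv D1091) F2401
theorem F3482 : act 3 n1091 = n1091 := d18_1 D1091 (iv D1091) F2402 F1739 (iv F2402)
theorem F3483 : act 7 n1091 = n1028 := d24_2 F3346 D1091 (iv F3344)
theorem F3484 : act 6 n1075 = n1091 := d27_5 F3483 (iv D1028) F2300 D724 D1075
def n1092 : Q := act 5 n736
theorem D1092 : act 5 n736 = n1092 := rfl
theorem F3485 : act 0 n1092 = n738 := d4_1 D1092 (iv D738) D736
theorem F3486 : act 3 n1092 = n776 := d19_1 D1092 (iv D776) (iv F2402)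
def n1093 : Q := act 6 n736
theorem D1093 : act 6 n736 = n1093 := rfl
theorem F3487 : act 0 n1093 = n739 := d5_1 D1093 (iv D739) D736
theorem F3488 : act 1 n1093 = n1093 := d11_1 D1093 (iv D1093) F2401
theorem F3489 : act 3 n1093 = n777 := d20_1 D1093 (iv D777) (iv F2402)
theorem F3490 : act 4 n1093 = n1075 := d23_1 D1093 F3484 (iv D1091)
theorem F3491 : act 7 n1093 = n1073 := d27_2 F3346 D1093 (iv D1073) (iv F3307) (iv F3345)
def n1094 : Q := act 5 n737
theorem D1094 : act 5 n737 = n1094 := rfl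
theorem F3492 : act 1 n1094 = n742 := d10_1 D1094 (iv D742) F1655 (iv F1635) (iv F2403)
theorem F3493 : act 3 n1094 = n1094 := d19_1 D1094 (iv D1094) F2404
theorem F3494 : act 4 n1094 = n738 := d22_1 D1094 (iv D738) D737
theorem F3495 : act 7 n1094 = n1040 := d26_2 (iv F2405) D1094 (iv D1040)
def n1095 : Q := act 6 n738
theorem D1095 : act 6 n738 = n1095 := rfl
theorem F3496 : act 1 n1095 = n743 := d11_1 D1095 (iv D743) (iv F2407)
theorem F3497 : act 3 n1095 = n778 := d20_1 D1095 (iv D778) (iv F2408)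
def n1096 : Q := act 5 n739
theorem D1096 : act 5 n739 = n1096 := rfl
theorem F3498 : act 1 n1096 = n1096 := d10_1 D1096 (iv D1096) F2409 F1640 (iv F2409)
theorem F3499 : act 3 n1096 = n779 := d19_1 D1096 (iv D779) (iv F2410)
theorem F3500 : act 4 n1096 = n1090 := d22_1 D1096 F3479 (iv F2411)
theorem F3501 : act 7 n1096 = n986 := d26_2 (iv F2412) D1096 F3173
def n1097 : Q := act 5 n740
theorem D1097 : act 5 n740 = n1097 := rfl
theorem F3502 : act 0 n1097 = n742 := d4_1 D1097 (iv D742) (iv F2413)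
theorem F3503 : act 3 n1097 = n1097 := d19_1 D1097 (iv D1097) F2415
theorem F3504 : act 4 n1097 = n741 := d22_1 D1097 (iv D741) D740
def n1098 : Q := act 1 n741
theorem D1098 : act 1 n741 = n1098 := rfl
theorem F3505 : act 3 n1098 = n781 := d8_2 (iv F2418) D1098 (iv D781)
theorem F3506 : act 5 n1098 = n1098 := d10_2 D741 D1098 (iv D1098) (iv D741) F1652
def n1099 : Q := act 6 n741
theorem D1099 : act 6 n741 = n1099 := rfl
theorem F3507 : act 0 n1099 = n743 := d5_1 D1099 (iv D743) (iv F2417)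
theorem F3508 : act 3 n1099 = n782 := d20_1 D1099 (iv D782) (iv F2418)
theorem F3509 : act 5 n1099 = n1099 := d25_1 D1099 (iv D1099) (iv D741) F1654 D741
def n1100 : Q := act 6 n742
theorem D1100 : act 6 n742 = n1100 := rfl
theorem F3510 : act 3 n1100 = n1100 := d20_1 D1100 (iv D1100) F2419
theorem F3511 : act 4 n1100 = n743 := d23_1 D1100 (iv D743) (iv F2420)
theorem F3512 : act 5 n1100 = n1100 := d25_1 D1100 (iv D1100) (iv D742) F1657 D742
def n1101 : Q := act 7 n743
theorem D1101 : act 7 n743 = n1101 := rfl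
theorem F3513 : act 5 n1101 = n1101 := d26_1 D1101 (iv D1101) F2422
def n1102 : Q := act 7 n744
theorem D1102 : act 7 n744 = n1102 := rfl
theorem F3514 : act 0 n1102 = n784 := d6_1 D1102 (iv D784) (iv F2423)
theorem F3515 : act 1 n1102 = n747 := d12_1 D1102 (iv D747) (iv F2424)
theorem F3516 : act 4 n1102 = n745 := d24_1 D1102 (iv D745) D744
def n1103 : Q := act 3 n747
theorem D1103 : act 3 n747 = n1103 := rfl
theorem F3517 : act 0 n1103 = n751 := d2_1 D1103 (iv D751) (iv F2432)
def n1104 : Q := act 7 n749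
theorem D1104 : act 7 n749 = n1104 := rfl
theorem F3518 : act 0 n1104 = n752 := d6_1 D1104 (iv D752) (iv F2439)
theorem F3519 : act 1 n1104 = n1104 := d12_1 D1104 (iv D1104) F2440
theorem F3520 : act 4 n1104 = n750 := d24_1 D1104 (iv D750) (iv F2441)
theorem F3521 : act 6 n1104 = n1104 := d27_1 D1104 (iv D1104) (iv D749) F1677 D749
def n1105 : Q := act 2 n751
theorem D1105 : act 2 n751 = n1105 := rfl
theorem F3522 : act 3 n1105 = n1105 := d13_2 D751 D1105 (iv D1105) (iv D751) F1682
def n1106 : Q := act 4 n753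
theorem D1106 : act 4 n753 = n1106 := rfl
theorem F3523 : act 1 n1106 = n1106 := d9_1 D1106 (iv D1106) F2450
theorem F3524 : act 2 n1106 = n754 := d14_1 D1106 (iv D754) D753
theorem F3525 : act 6 n1106 = n1106 := d23_2 F2452 D1106 (iv D1106)
def n1107 : Q := act 5 n753
theorem D1107 : act 5 n753 = n1107 := rfl
theorem F3526 : act 2 n1107 = n755 := d15_1 D1107 (iv D755) D753
theorem F3527 : act 3 n1107 = n1107 := d19_1 D1107 (iv D1107) F2451
def n1108 : Q := act 7 n753
theorem D1108 : act 7 n753 = n1108 := rfl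
theorem F3528 : act 1 n1108 = n1108 := d12_1 D1108 (iv D1108) F2450
theorem F3529 : act 2 n1108 = n756 := d17_1 D1108 (iv D756) D753
def n1109 : Q := act 7 n754
theorem D1109 : act 7 n754 = n1109 := rfl
theorem F3530 : act 1 n1109 = n759 := d12_1 D1109 (iv D759) (iv F2453)
theorem F3531 : act 4 n1109 = n756 := d24_1 D1109 (iv D756) D754
def n1110 : Q := act 7 n755
theorem D1110 : act 7 n755 = n1110 := rfl
theorem F3532 : act 1 n1110 = n1110 := d12_1 D1110 (iv D1110) F2456
theorem F3533 : act 5 n1110 = n756 := d26_1 D1110 (iv D756) D755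
def n1111 : Q := act 3 n756
theorem D1111 : act 3 n756 = n1111 := rfl
theorem F3534 : act 1 n1111 = n760 := d8_1 D1111 (iv D760) (iv F2458)
theorem F3535 : act 7 n1111 = n758 := d21_2 D756 D1111 (iv D758) (iv D512) D510
def n1112 : Q := act 6 n756
theorem D1112 : act 6 n756 = n1112 := rfl
theorem F3536 : act 1 n1112 = n761 := d11_1 D1112 (iv D761) (iv F2458)
theorem F3537 : act 7 n1112 = n1112 := d27_2 D756 D1112 (iv D1112) (iv D756) F1695
def n1113 : Q := act 3 n757
theorem D1113 : act 3 n757 = n1113 := rfl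
theorem F3538 : act 1 n1113 = n1113 := d8_1 D1113 (iv D1113) F2459
theorem F3539 : act 5 n1113 = n758 := d19_2 (iv F2462) D1113 (iv D758)
theorem F3540 : act 6 n1113 = n1113 := d20_2 F2463 D1113 (iv D1113)
def n1114 : Q := act 2 n758
theorem D1114 : act 2 n758 = n1114 := rfl
theorem F3541 : act 3 n1114 = n1114 := d13_2 D758 D1114 (iv D1114) (iv D758) F1700
def n1115 : Q := act 3 n759
theorem D1115 : act 3 n759 = n1115 := rfl
theorem F3542 : act 0 n1115 = n766 := d2_1 D1115 (iv D766) (iv F2465)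
theorem F3543 : act 5 n1115 = n1115 := d19_2 F2468 D1115 (iv D1115)
theorem F3544 : act 7 n1115 = n785 := d21_2 D759 D1115 (iv D785) (iv D534) (iv F1704)
def n1116 : Q := act 6 n759
theorem D1116 : act 6 n759 = n1116 := rfl
theorem F3545 : act 0 n1116 = n767 := d5_1 D1116 (iv D767) (iv F2465)
theorem F3546 : act 2 n1116 = n1116 := d16_1 D1116 (iv D1116) F2466
theorem F3547 : act 4 n1116 = n761 := d23_1 D1116 (iv D761) (iv F2467)
theorem F3548 : act 7 n1116 = n1116 := d27_2 D759 D1116 (iv D1116) (iv D759) F1706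
def n1117 : Q := act 2 n760
theorem D1117 : act 2 n760 = n1117 := rfl
theorem F3549 : act 0 n1117 = n768 := d1_1 D1117 (iv D768) (iv F2469)
theorem F3550 : act 3 n1117 = n1117 := d13_2 D760 D1117 (iv D1117) (iv D760) F1708
theorem F3551 : act 5 n1117 = n1117 := d15_2 F2470 D1117 (iv D1117)
theorem F3552 : act 7 n1117 = n762 := d17_2 (iv F2471) D1117 (iv D762)
def n1118 : Q := act 6 n760
theorem D1118 : act 6 n760 = n1118 := rfl
theorem F3553 : act 0 n1118 = n769 := d5_1 D1118 (iv D769) (iv F2469)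
theorem F3554 : act 3 n1118 = n761 := d20_1 D1118 (iv D761) D760
def n1119 : Q := act 5 n761
theorem D1119 : act 5 n761 = n1119 := rfl
theorem F3555 : act 0 n1119 = n770 := d4_1 D1119 (iv D770) (iv F2472)
theorem F3556 : act 2 n1119 = n1119 := d15_1 D1119 (iv D1119) F2473
theorem F3557 : act 6 n1119 = n1119 := d25_2 D761 D1119 (iv D1119) (iv D761) F1709
theorem F3558 : act 7 n1119 = n1119 := d26_2 F2474 D1119 (iv D1119)
def n1120 : Q := act 1 n762
theorem D1120 : act 1 n762 = n1120 := rfl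
theorem F3559 : act 3 n1120 = n763 := d8_2 (iv F2476) D1120 (iv D763)
def n1121 : Q := act 0 n763
theorem D1121 : act 0 n763 = n1121 := rfl
theorem F3560 : act 1 n1121 = n772 := d0_2 D763 D1121 (iv D772) (iv D522) (iv F1712)
theorem F3561 : act 2 n1121 = n1121 := d1_2 F2478 D1121 (iv D1121)
theorem F3562 : act 4 n1121 = n1121 := d3_2 F2479 D1121 (iv D1121)
theorem F3563 : act 7 n1121 = n1121 := d6_2 F2480 D1121 (iv D1121)
def n1122 : Q := act 5 n763
theorem D1122 : act 5 n763 = n1122 := rfl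
theorem F3564 : act 1 n1122 = n1122 := d10_1 D1122 (iv D1122) (iv D763) F1714 D763
theorem F3565 : act 2 n1122 = n1122 := d15_1 D1122 (iv D1122) F2478
theorem F3566 : act 4 n1122 = n1122 := d22_1 D1122 (iv D1122) F2479
theorem F3567 : act 7 n1122 = n1122 := d26_2 F2480 D1122 (iv D1122)
def n1123 : Q := act 6 n763
theorem D1123 : act 6 n763 = n1123 := rfl
theorem F3568 : act 1 n1123 = n764 := d11_1 D1123 (iv D764) D763
theorem F3569 : act 2 n1123 = n1123 := d16_1 D1123 (iv D1123) F2478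
theorem F3570 : act 4 n1123 = n1123 := d23_1 D1123 (iv D1123) F2479
def n1124 : Q := act 7 n764
theorem D1124 : act 7 n764 = n1124 := rfl
theorem F3571 : act 0 n1124 = n775 := d6_1 D1124 (iv D775) (iv F2481)
theorem F3572 : act 2 n1124 = n765 := d17_1 D1124 (iv D765) (iv F2482)
theorem F3573 : act 4 n1124 = n1124 := d24_1 D1124 (iv D1124) F2483
theorem F3574 : act 6 n1124 = n1124 := d27_1 D1124 (iv D1124) (iv D764) F1715 D764
def n1125 : Q := act 2 n766
theorem D1125 : act 2 n766 = n1125 := rfl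
theorem F3575 : act 3 n1125 = n1125 := d13_2 D766 D1125 (iv D1125) (iv D766) F1720
theorem F3576 : act 5 n1125 = n1125 := d15_2 F2489 D1125 (iv D1125)
theorem F3577 : act 7 n1125 = n786 := d17_2 (iv F2490) D1125 (iv D786)
def n1126 : Q := act 6 n766
theorem D1126 : act 6 n766 = n1126 := rfl
theorem F3578 : act 3 n1126 = n767 := d20_1 D1126 (iv D767) D766
def n1127 : Q := act 5 n767
theorem D1127 : act 5 n767 = n1127 := rfl
theorem F3579 : act 2 n1127 = n1127 := d15_1 D1127 (iv D1127) F2491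
theorem F3580 : act 4 n1127 = n770 := d22_1 D1127 (iv D770) (iv F2492)
theorem F3581 : act 6 n1127 = n1127 := d25_2 D767 D1127 (iv D1127) (iv D767) F1722
theorem F3582 : act 7 n1127 = n1127 := d26_2 F2493 D1127 (iv D1127)
def n1128 : Q := act 1 n768
theorem D1128 : act 1 n768 = n1128 := rfl
theorem F3583 : act 3 n1128 = n1128 := d8_2 F2494 D1128 (iv D1128)
theorem F3584 : act 7 n1128 = n771 := d12_2 (iv F2496) D1128 (iv D771)
def n1129 : Q := act 6 n768
theorem D1129 : act 6 n768 = n1129 := rfl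
theorem F3585 : act 2 n1129 = n769 := d16_1 D1129 (iv D769) D768
theorem F3586 : act 3 n1129 = n1129 := d20_1 D1129 (iv D1129) F2494
def n1130 : Q := act 5 n769
theorem D1130 : act 5 n769 = n1130 := rfl
theorem F3587 : act 3 n1130 = n770 := d19_1 D1130 (iv D770) (iv F2497)
theorem F3588 : act 6 n1130 = n1130 := d25_2 D769 D1130 (iv D1130) (iv D769) F1723
def n1131 : Q := act 1 n770
theorem D1131 : act 1 n770 = n1131 := rfl
theorem F3589 : act 6 n1131 = n1131 := d11_2 F2499 D1131 (iv D1131)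
theorem F3590 : act 7 n1131 = n1131 := d12_2 F2500 D1131 (iv D1131)
def n1132 : Q := act 0 n771
theorem D1132 : act 0 n771 = n1132 := rfl
theorem F3591 : act 3 n1132 = n772 := d2_2 (iv F2501) D1132 (iv D772)
def n1133 : Q := act 5 n771
theorem D1133 : act 5 n771 = n1133 := rfl
theorem F3592 : act 1 n1133 = n1133 := d10_1 D1133 (iv D1133) (iv D771) F1728 D771
theorem F3593 : act 3 n1133 = n773 := d19_1 D1133 (iv D773) (iv F2501)
def n1134 : Q := act 5 n772
theorem D1134 : act 5 n772 = n1134 := rfl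
theorem F3594 : act 0 n1134 = n773 := d4_1 D1134 (iv D773) D772
theorem F3595 : act 2 n1134 = n776 := d15_1 D1134 (iv D776) (iv F2502)
theorem F3596 : act 4 n1134 = n1134 := d22_1 D1134 (iv D1134) F2503
theorem F3597 : act 7 n1134 = n1134 := d26_2 F2504 D1134 (iv D1134)
def n1135 : Q := act 6 n772
theorem D1135 : act 6 n772 = n1135 := rfl
theorem F3598 : act 0 n1135 = n774 := d5_1 D1135 (iv D774) D772
theorem F3599 : act 2 n1135 = n777 := d16_1 D1135 (iv D777) (iv F2502)
theorem F3600 : act 4 n1135 = n1135 := d23_1 D1135 (iv D1135) F2503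
def n1136 : Q := act 6 n773
theorem D1136 : act 6 n773 = n1136 := rfl
theorem F3601 : act 1 n1136 = n1136 := d11_1 D1136 (iv D1136) F2505
theorem F3602 : act 2 n1136 = n778 := d16_1 D1136 (iv D778) (iv F2506)
theorem F3603 : act 4 n1136 = n1136 := d23_1 D1136 (iv D1136) F2507
def n1137 : Q := act 5 n774
theorem D1137 : act 5 n774 = n1137 := rfl
theorem F3604 : act 2 n1137 = n779 := d15_1 D1137 (iv D779) (iv F2510)
theorem F3605 : act 4 n1137 = n1137 := d22_1 D1137 (iv D1137) F2511
def n1138 : Q := act 7 n774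
theorem D1138 : act 7 n774 = n1138 := rfl
theorem F3606 : act 1 n1138 = n775 := d12_1 D1138 (iv D775) (iv F2509)
theorem F3607 : act 2 n1138 = n780 := d17_1 D1138 (iv D780) (iv F2510)
theorem F3608 : act 4 n1138 = n1138 := d24_1 D1138 (iv D1138) F2511
theorem F3609 : act 6 n1138 = n1138 := d27_1 D1138 (iv D1138) (iv D774) F1731 D774
def n1139 : Q := act 3 n775
theorem D1139 : act 3 n775 = n1139 := rfl
theorem F3610 : act 2 n1139 = n1139 := d13_1 D1139 (iv D1139) F2512 F1735 (iv F2512)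
theorem F3611 : act 6 n1139 = n1139 := d20_2 F2514 D1139 (iv D1139)
def n1140 : Q := act 1 n776
theorem D1140 : act 1 n776 = n1140 := rfl
theorem F3612 : act 0 n1140 = n781 := d0_1 D1140 (iv D781) F1752 (iv F1741) (iv F2515)
theorem F3613 : act 4 n1140 = n1140 := d9_2 F2516 D1140 (iv D1140)
theorem F3614 : act 5 n1140 = n1140 := d10_2 D776 D1140 (iv D1140) (iv D776) F1738
theorem F3615 : act 7 n1140 = n1140 := d12_2 F2517 D1140 (iv D1140)
def n1141 : Q := act 6 n776
theorem D1141 : act 6 n776 = n1141 := rfl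
theorem F3616 : act 0 n1141 = n778 := d5_1 D1141 (iv D778) (iv F2515)
theorem F3617 : act 4 n1141 = n1141 := d23_1 D1141 (iv D1141) F2516
def n1142 : Q := act 5 n777
theorem D1142 : act 5 n777 = n1142 := rfl
theorem F3618 : act 0 n1142 = n779 := d4_1 D1142 (iv D779) (iv F2518)
theorem F3619 : act 4 n1142 = n1142 := d22_1 D1142 (iv D1142) F2520
def n1143 : Q := act 7 n777
theorem D1143 : act 7 n777 = n1143 := rfl
theorem F3620 : act 0 n1143 = n780 := d6_1 D1143 (iv D780) (iv F2518)
theorem F3621 : act 1 n1143 = n1143 := d12_1 D1143 (iv D1143) F2519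
theorem F3622 : act 3 n1143 = n1104 := d21_1 D1143 (iv D1104) (iv F3438) (iv F3491) F3489
theorem F3623 : act 4 n1143 = n1143 := d24_1 D1143 (iv D1143) F2520
theorem F3624 : act 6 n1143 = n1143 := d27_1 D1143 (iv D1143) (iv D777) F1740 D777
def n1144 : Q := act 5 n778
theorem D1144 : act 5 n778 = n1144 := rfl
theorem F3625 : act 1 n1144 = n1144 := d10_1 D1144 (iv D1144) F2521 F1758 (iv F2521)
theorem F3626 : act 4 n1144 = n1144 := d22_1 D1144 (iv D1144) F2522
theorem F3627 : act 6 n1144 = n779 := d25_2 D778 D1144 (iv D779) (iv D527) D526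
def n1145 : Q := act 7 n778
theorem D1145 : act 7 n778 = n1145 := rfl
theorem F3628 : act 1 n1145 = n783 := d12_1 D1145 (iv D783) (iv F2521)
theorem F3629 : act 4 n1145 = n1145 := d24_1 D1145 (iv D1145) F2522
theorem F3630 : act 6 n1145 = n1145 := d27_1 D1145 (iv D1145) (iv D778) F1743 D778
def n1146 : Q := act 7 n779
theorem D1146 : act 7 n779 = n1146 := rfl
theorem F3631 : act 1 n1146 = n1146 := d12_1 D1146 (iv D1146) F2523
theorem F3632 : act 3 n1146 = n957 := d21_1 D1146 F3086 (iv F3171) (iv F3501) F3499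
theorem F3633 : act 4 n1146 = n1146 := d24_1 D1146 (iv D1146) F2524
theorem F3634 : act 5 n1146 = n780 := d26_1 D1146 (iv D780) D779
theorem F3635 : act 6 n956 = n1146 := d20_0 F3632 (iv D957) D956
def n1147 : Q := act 2 n781
theorem D1147 : act 2 n781 = n1147 := rfl
theorem F3636 : act 1 n1147 = n1147 := d7_1 D1147 (iv D1147) (iv D781) F1753 D781
theorem F3637 : act 4 n1147 = n1147 := d14_2 F2529 D1147 (iv D1147)
theorem F3638 : act 5 n1147 = n1147 := d15_2 F2530 D1147 (iv D1147)
theorem F3639 : act 7 n1147 = n1147 := d17_2 F2531 D1147 (iv D1147)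
def n1148 : Q := act 6 n781
theorem D1148 : act 6 n781 = n1148 := rfl
theorem F3640 : act 1 n1148 = n782 := d11_1 D1148 (iv D782) D781
theorem F3641 : act 4 n1148 = n1148 := d23_1 D1148 (iv D1148) F2529
def n1149 : Q := act 7 n782
theorem D1149 : act 7 n782 = n1149 := rfl
theorem F3642 : act 0 n1149 = n783 := d6_1 D1149 (iv D783) (iv F2532)
theorem F3643 : act 2 n1149 = n1149 := d17_1 D1149 (iv D1149) F2533
theorem F3644 : act 4 n1149 = n1149 := d24_1 D1149 (iv D1149) F2534
theorem F3645 : act 5 n1149 = n1149 := d26_1 D1149 (iv D1149) F2535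
theorem F3646 : act 6 n1149 = n1149 := d27_1 D1149 (iv D1149) (iv D782) F1755 D782
def n1150 : Q := act 3 n783
theorem D1150 : act 3 n783 = n1150 := rfl
theorem F3647 : act 5 n1150 = n1150 := d19_2 F2538 D1150 (iv D1150)
theorem F3648 : act 6 n1150 = n1150 := d20_2 F2539 D1150 (iv D1150)
def n1151 : Q := act 3 n784
theorem D1151 : act 3 n784 = n1151 := rfl
theorem F3649 : act 1 n1151 = n785 := d8_1 D1151 (iv D785) (iv F2540)
def n1152 : Q := act 2 n785
theorem D1152 : act 2 n785 = n1152 := rfl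
theorem F3650 : act 0 n1152 = n786 := d1_1 D1152 (iv D786) (iv F2542)
theorem F3651 : act 3 n1152 = n789 := d13_2 D785 D1152 (iv D789) (iv D538) (iv F1767)
theorem F3652 : act 5 n1152 = n1152 := d15_2 F2543 D1152 (iv D1152)
def n1153 : Q := act 1 n786
theorem D1153 : act 1 n786 = n1153 := rfl
theorem F3653 : act 3 n1153 = n791 := d8_2 (iv F2544) D1153 (iv D791)
def n1154 : Q := act 2 n787
theorem D1154 : act 2 n787 = n1154 := rfl
theorem F3654 : act 0 n1154 = n1154 := d1_1 D1154 (iv D1154) F2546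
theorem F3655 : act 4 n1154 = n1154 := d14_2 F2548 D1154 (iv D1154)
theorem F3656 : act 7 n1154 = n1154 := d17_2 F2549 D1154 (iv D1154)
def n1155 : Q := act 6 n787
theorem D1155 : act 6 n787 = n1155 := rfl
theorem F3657 : act 0 n1155 = n1155 := d5_1 D1155 (iv D1155) F2546
theorem F3658 : act 1 n1155 = n790 := d11_1 D1155 (iv D790) (iv F2547)
theorem F3659 : act 3 n1155 = n788 := d20_1 D1155 (iv D788) D787
theorem F3660 : act 4 n1155 = n1155 := d23_1 D1155 (iv D1155) F2548
theorem F3661 : act 5 n1155 = n1155 := d25_1 D1155 (iv D1155) (iv F2698) F2699 F2698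
def n1156 : Q := act 1 n789
theorem D1156 : act 1 n789 = n1156 := rfl
theorem F3662 : act 4 n1156 = n1156 := d9_2 F2556 D1156 (iv D1156)
theorem F3663 : act 7 n1156 = n1156 := d12_2 F2558 D1156 (iv D1156)
def n1157 : Q := act 6 n789
theorem D1157 : act 6 n789 = n1157 := rfl
theorem F3664 : act 0 n1157 = n792 := d5_1 D1157 (iv D792) (iv F2555)
theorem F3665 : act 2 n1157 = n790 := d16_1 D1157 (iv D790) D789
theorem F3666 : act 4 n1157 = n1157 := d23_1 D1157 (iv D1157) F2556
def n1158 : Q := act 7 n790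
theorem D1158 : act 7 n790 = n1158 := rfl
theorem F3667 : act 0 n1158 = n793 := d6_1 D1158 (iv D793) (iv F2559)
theorem F3668 : act 3 n1158 = n1158 := d21_1 D1158 (iv D1158) F2560 F1785 (iv F2560)
theorem F3669 : act 4 n1158 = n1158 := d24_1 D1158 (iv D1158) F2561
theorem F3670 : act 6 n1158 = n1158 := d27_1 D1158 (iv D1158) (iv D790) F1782 D790
def n1159 : Q := act 0 n791
theorem D1159 : act 0 n791 = n1159 := rfl
theorem F3671 : act 2 n1159 = n1159 := d1_2 F2562 D1159 (iv D1159)
theorem F3672 : act 4 n1159 = n1159 := d3_2 F2563 D1159 (iv D1159)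
theorem F3673 : act 7 n1159 = n1159 := d6_2 F2564 D1159 (iv D1159)
def n1160 : Q := act 5 n791
theorem D1160 : act 5 n791 = n1160 := rfl
theorem F3674 : act 1 n1160 = n1160 := d10_1 D1160 (iv D1160) (iv D791) F1787 D791
theorem F3675 : act 2 n1160 = n1160 := d15_1 D1160 (iv D1160) F2562
theorem F3676 : act 4 n1160 = n1160 := d22_1 D1160 (iv D1160) F2563
theorem F3677 : act 7 n1160 = n1160 := d26_2 F2564 D1160 (iv D1160)
def n1161 : Q := act 6 n791
theorem D1161 : act 6 n791 = n1161 := rfl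
theorem F3678 : act 1 n1161 = n792 := d11_1 D1161 (iv D792) D791
theorem F3679 : act 2 n1161 = n1161 := d16_1 D1161 (iv D1161) F2562
theorem F3680 : act 4 n1161 = n1161 := d23_1 D1161 (iv D1161) F2563
def n1162 : Q := act 7 n792
theorem D1162 : act 7 n792 = n1162 := rfl
theorem F3681 : act 2 n1162 = n793 := d17_1 D1162 (iv D793) (iv F2565)
theorem F3682 : act 4 n1162 = n1162 := d24_1 D1162 (iv D1162) F2566
theorem F3683 : act 6 n1162 = n1162 := d27_1 D1162 (iv D1162) (iv D792) F1788 D792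
def n1163 : Q := act 0 n794
theorem D1163 : act 0 n794 = n1163 := rfl
theorem F3684 : act 1 n1163 = n1163 := d0_2 D794 D1163 (iv D1163) (iv D794) F1792
theorem F3685 : act 3 n1163 = n1163 := d2_2 F2571 D1163 (iv D1163)
theorem F3686 : act 4 n1163 = n1163 := d3_2 F2572 D1163 (iv D1163)
theorem F3687 : act 5 n1163 = n797 := d4_2 (iv F2573) D1163 (iv D797)
theorem F3688 : act 6 n1163 = n1163 := d5_2 F2574 D1163 (iv D1163)
def n1164 : Q := act 2 n794
theorem D1164 : act 2 n794 = n1164 := rfl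
theorem F3689 : act 1 n1164 = n1164 := d7_1 D1164 (iv D1164) (iv D794) F1793 D794
theorem F3690 : act 4 n1164 = n1164 := d14_2 F2572 D1164 (iv D1164)
theorem F3691 : act 5 n1164 = n798 := d15_2 (iv F2573) D1164 (iv D798)
theorem F3692 : act 6 n1164 = n1164 := d16_2 F2574 D1164 (iv D1164)
def n1165 : Q := act 7 n794
theorem D1165 : act 7 n794 = n1165 := rfl
theorem F3693 : act 1 n1165 = n795 := d12_1 D1165 (iv D795) D794
theorem F3694 : act 4 n1165 = n1165 := d24_1 D1165 (iv D1165) F2572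
theorem F3695 : act 5 n1165 = n799 := d26_1 D1165 (iv D799) (iv F2573)
def n1166 : Q := act 3 n795
theorem D1166 : act 3 n795 = n1166 := rfl
theorem F3696 : act 0 n1166 = n1166 := d2_1 D1166 (iv D1166) F2575
theorem F3697 : act 5 n1166 = n796 := d19_2 (iv F2578) D1166 (iv D796)
theorem F3698 : act 7 n1166 = n1166 := d21_2 D795 D1166 (iv D1166) (iv D795) F1794
def n1167 : Q := act 6 n795
theorem D1167 : act 6 n795 = n1167 := rfl
theorem F3699 : act 0 n1167 = n1167 := d5_1 D1167 (iv D1167) F2575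
theorem F3700 : act 2 n1167 = n1167 := d16_1 D1167 (iv D1167) F2576
theorem F3701 : act 4 n1167 = n1167 := d23_1 D1167 (iv D1167) F2577
theorem F3702 : act 7 n1167 = n1167 := d27_2 D795 D1167 (iv D1167) (iv D795) F1796
def n1168 : Q := act 2 n796
theorem D1168 : act 2 n796 = n1168 := rfl
theorem F3703 : act 0 n1168 = n1168 := d1_1 D1168 (iv D1168) F2579
theorem F3704 : act 3 n1168 = n1168 := d13_2 D796 D1168 (iv D1168) (iv D796) F1799
theorem F3705 : act 7 n1168 = n1168 := d17_2 F2581 D1168 (iv D1168)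
theorem F3706 : act 4 n1166 = n1168 := d31_2 (iv F3697) F3698 (iv D1168) (iv F2611) (iv D806) (iv F2608) (iv D805) F1812 F1810 F1813 F1811 (iv D355) D356 F1141 (iv F1191) F1192 F1451 F1457 (iv D325) D323 (iv F1460) F1138 (iv F1811) (iv D547) D548 F1817 F1816 F1818 D796
def n1169 : Q := act 4 n796
theorem D1169 : act 4 n796 = n1169 := rfl
theorem F3707 : act 0 n1169 = n1169 := d3_1 D1169 (iv D1169) F2579
theorem F3708 : act 1 n1169 = n803 := d9_1 D1169 (iv D803) (iv F2580)
theorem F3709 : act 2 n1169 = n1166 := d14_1 D1169 F3706 (iv D1168)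
theorem F3710 : act 3 n1169 = n1169 := d18_1 D1169 (iv D1169) (iv D796) F1800 D796
theorem F3711 : act 5 n1169 = n1168 := d22_2 F3697 D1169 (iv F3706)
theorem F3712 : act 7 n1169 = n1169 := d24_2 F2581 D1169 (iv D1169)
def n1170 : Q := act 2 n797
theorem D1170 : act 2 n797 = n1170 := rfl
theorem F3713 : act 0 n1170 = n798 := d1_1 D1170 (iv D798) D797
theorem F3714 : act 4 n1170 = n1170 := d14_2 F2584 D1170 (iv D1170)
def n1171 : Q := act 7 n797
theorem D1171 : act 7 n797 = n1171 := rfl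
theorem F3715 : act 0 n1171 = n799 := d6_1 D1171 (iv D799) D797
theorem F3716 : act 1 n1171 = n895 := d12_1 D1171 (iv D895) (iv F2582)
theorem F3717 : act 4 n1171 = n1171 := d24_1 D1171 (iv D1171) F2584
def n1172 : Q := act 3 n798
theorem D1172 : act 3 n798 = n1172 := rfl
theorem F3718 : act 1 n1172 = n816 := d8_1 D1172 (iv D816) (iv F2585)
theorem F3719 : act 2 n1172 = n1172 := d13_1 D1172 (iv D1172) (iv D798) F1801 D798
def n1173 : Q := act 7 n798
theorem D1173 : act 7 n798 = n1173 := rfl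
theorem F3720 : act 1 n1173 = n817 := d12_1 D1173 (iv D817) (iv F2585)
theorem F3721 : act 2 n1173 = n799 := d17_1 D1173 (iv D799) D798
theorem F3722 : act 4 n1173 = n1173 := d24_1 D1173 (iv D1173) F2586
def n1174 : Q := act 3 n799
theorem D1174 : act 3 n799 = n1174 := rfl
theorem F3723 : act 1 n1174 = n800 := d8_1 D1174 (iv D800) (iv F2587)
theorem F3724 : act 7 n1174 = n1174 := d21_2 D799 D1174 (iv D1174) (iv D799) F1801
def n1175 : Q := act 6 n799
theorem D1175 : act 6 n799 = n1175 := rfl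
theorem F3725 : act 1 n1175 = n801 := d11_1 D1175 (iv D801) (iv F2587)
theorem F3726 : act 4 n1175 = n1175 := d23_1 D1175 (iv D1175) F2588
def n1176 : Q := act 2 n800
theorem D1176 : act 2 n800 = n1176 := rfl
theorem F3727 : act 0 n1176 = n900 := d1_1 D1176 (iv D900) (iv F2589)
theorem F3728 : act 3 n1176 = n820 := d13_2 D800 D1176 (iv D820) (iv D555) (iv F1804)
theorem F3729 : act 5 n1176 = n802 := d15_2 (iv F2590) D1176 (iv D802)
theorem F3730 : act 7 n1176 = n1176 := d17_2 F2591 D1176 (iv D1176)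
def n1177 : Q := act 4 n800
theorem D1177 : act 4 n800 = n1177 := rfl
theorem F3731 : act 0 n1177 = n901 := d3_1 D1177 (iv D901) (iv F2589)
theorem F3732 : act 3 n1177 = n1177 := d18_1 D1177 (iv D1177) (iv D800) F1805 D800
theorem F3733 : act 5 n1177 = n803 := d22_2 (iv F2590) D1177 (iv D803)
theorem F3734 : act 7 n1177 = n1177 := d24_2 F2591 D1177 (iv D1177)
def n1178 : Q := act 6 n800
theorem D1178 : act 6 n800 = n1178 := rfl
theorem F3735 : act 0 n1178 = n902 := d5_1 D1178 (iv D902) (iv F2589)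
theorem F3736 : act 3 n1178 = n801 := d20_1 D1178 (iv D801) D800
def n1179 : Q := act 1 n802
theorem D1179 : act 1 n802 = n1179 := rfl
theorem F3737 : act 3 n1179 = n824 := d8_2 (iv F2596) D1179 (iv D824)
theorem F3738 : act 7 n1179 = n1179 := d12_2 F2597 D1179 (iv D1179)
def n1180 : Q := act 4 n802
theorem D1180 : act 4 n802 = n1180 := rfl
theorem F3739 : act 0 n1180 = n904 := d3_1 D1180 (iv D904) (iv F2595)
theorem F3740 : act 2 n1180 = n803 := d14_1 D1180 (iv D803) D802
theorem F3741 : act 7 n1180 = n1180 := d24_2 F2597 D1180 (iv D1180)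
def n1181 : Q := act 0 n804
theorem D1181 : act 0 n804 = n1181 := rfl
theorem F3742 : act 1 n1181 = n1181 := d0_2 D804 D1181 (iv D1181) (iv D804) F1809
theorem F3743 : act 3 n1181 = n833 := d2_2 (iv F2601) D1181 (iv D833)
theorem F3744 : act 4 n1181 = n1181 := d3_2 F2602 D1181 (iv D1181)
theorem F3745 : act 5 n1181 = n807 := d4_2 (iv F2603) D1181 (iv D807)
theorem F3746 : act 6 n1181 = n1181 := d5_2 F2604 D1181 (iv D1181)
def n1182 : Q := act 2 n804
theorem D1182 : act 2 n804 = n1182 := rfl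
theorem F3747 : act 1 n1182 = n1182 := d7_1 D1182 (iv D1182) (iv D804) F1810 D804
theorem F3748 : act 3 n1182 = n1106 := d13_2 (iv F2601) D1182 F3524 F2454 (iv F1866)
theorem F3749 : act 4 n1182 = n1182 := d14_2 F2602 D1182 (iv D1182)
theorem F3750 : act 5 n1182 = n808 := d15_2 (iv F2603) D1182 (iv D808)
theorem F3751 : act 6 n1182 = n1182 := d16_2 F2604 D1182 (iv D1182)
def n1183 : Q := act 7 n804
theorem D1183 : act 7 n804 = n1183 := rfl
theorem F3752 : act 1 n1183 = n805 := d12_1 D1183 (iv D805) D804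
theorem F3753 : act 4 n1183 = n1183 := d24_1 D1183 (iv D1183) F2602
theorem F3754 : act 5 n1183 = n809 := d26_1 D1183 (iv D809) (iv F2603)
def n1184 : Q := act 3 n805
theorem D1184 : act 3 n805 = n1184 := rfl
theorem F3755 : act 0 n1184 = n1184 := d2_1 D1184 (iv D1184) F2605
theorem F3756 : act 5 n1184 = n806 := d19_2 (iv F2608) D1184 (iv D806)
theorem F3757 : act 7 n1184 = n835 := d21_2 D805 D1184 (iv D835) (iv D564) (iv F1811)
def n1185 : Q := act 6 n805
theorem D1185 : act 6 n805 = n1185 := rfl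
theorem F3758 : act 0 n1185 = n1185 := d5_1 D1185 (iv D1185) F2605
theorem F3759 : act 2 n1185 = n1185 := d16_1 D1185 (iv D1185) F2606
theorem F3760 : act 4 n1185 = n1185 := d23_1 D1185 (iv D1185) F2607
theorem F3761 : act 5 n1185 = n1167 := d25_1 D1185 (iv D1167) F2578 (iv F1818) (iv F2608)
theorem F3762 : act 7 n1185 = n1185 := d27_2 D805 D1185 (iv D1185) (iv D805) F1813
def n1186 : Q := act 2 n806
theorem D1186 : act 2 n806 = n1186 := rfl
theorem F3763 : act 0 n1186 = n1186 := d1_1 D1186 (iv D1186) F2609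
theorem F3764 : act 3 n1186 = n1186 := d13_2 D806 D1186 (iv D1186) (iv D806) F1816
theorem F3765 : act 6 n1186 = n1168 := d16_2 (iv F2611) D1186 (iv D1168)
theorem F3766 : act 7 n1186 = n837 := d17_2 (iv F2612) D1186 (iv D837)
def n1187 : Q := act 4 n806
theorem D1187 : act 4 n806 = n1187 := rfl
theorem F3767 : act 0 n1187 = n1187 := d3_1 D1187 (iv D1187) F2609
theorem F3768 : act 1 n1187 = n813 := d9_1 D1187 (iv D813) (iv F2610)
theorem F3769 : act 3 n1187 = n1187 := d18_1 D1187 (iv D1187) (iv D806) F1817 D806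
theorem F3770 : act 6 n1187 = n1169 := d23_2 (iv F2611) D1187 (iv D1169)
theorem F3771 : act 7 n1187 = n838 := d24_2 (iv F2612) D1187 (iv D838)
def n1188 : Q := act 2 n807
theorem D1188 : act 2 n807 = n1188 := rfl
theorem F3772 : act 0 n1188 = n808 := d1_1 D1188 (iv D808) D807
theorem F3773 : act 4 n1188 = n1188 := d14_2 F2615 D1188 (iv D1188)
theorem F3774 : act 6 n1188 = n814 := d16_2 (iv F2616) D1188 (iv D814)
def n1189 : Q := act 7 n807
theorem D1189 : act 7 n807 = n1189 := rfl
theorem F3775 : act 0 n1189 = n809 := d6_1 D1189 (iv D809) D807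
theorem F3776 : act 1 n1189 = n906 := d12_1 D1189 (iv D906) (iv F2613)
theorem F3777 : act 4 n1189 = n1189 := d24_1 D1189 (iv D1189) F2615
def n1190 : Q := act 3 n808
theorem D1190 : act 3 n808 = n1190 := rfl
theorem F3778 : act 2 n1190 = n841 := d13_1 D1190 (iv D841) (iv D567) (iv F1819) D808
theorem F3779 : act 5 n1190 = n1106 := d19_2 F3750 D1190 (iv F3748)
theorem F3780 : act 6 n1190 = n816 := d20_2 (iv F2618) D1190 (iv D816)
theorem F3781 : act 4 n1107 = n1190 := d22_3 F3779 (iv D1106) D1107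
def n1191 : Q := act 7 n808
theorem D1191 : act 7 n808 = n1191 := rfl
theorem F3782 : act 2 n1191 = n809 := d17_1 D1191 (iv D809) D808
theorem F3783 : act 4 n1191 = n1191 := d24_1 D1191 (iv D1191) F2617
def n1192 : Q := act 3 n809
theorem D1192 : act 3 n809 = n1192 := rfl
theorem F3784 : act 1 n1192 = n810 := d8_1 D1192 (iv D810) (iv F2619)
theorem F3785 : act 7 n1192 = n843 := d21_2 D809 D1192 (iv D843) (iv D568) (iv F1819)
def n1193 : Q := act 6 n809
theorem D1193 : act 6 n809 = n1193 := rfl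
theorem F3786 : act 1 n1193 = n811 := d11_1 D1193 (iv D811) (iv F2619)
theorem F3787 : act 4 n1193 = n1193 := d23_1 D1193 (iv D1193) F2620
theorem F3788 : act 7 n1193 = n819 := d27_2 D809 D1193 (iv D819) (iv D554) (iv F1821)
def n1194 : Q := act 2 n810
theorem D1194 : act 2 n810 = n1194 := rfl
theorem F3789 : act 0 n1194 = n911 := d1_1 D1194 (iv D911) (iv F2621)
theorem F3790 : act 5 n1194 = n812 := d15_2 (iv F2622) D1194 (iv D812)
theorem F3791 : act 7 n1194 = n845 := d17_2 (iv F2623) D1194 (iv D845)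
def n1195 : Q := act 4 n810
theorem D1195 : act 4 n810 = n1195 := rfl
theorem F3792 : act 0 n1195 = n912 := d3_1 D1195 (iv D912) (iv F2621)
theorem F3793 : act 3 n1195 = n1195 := d18_1 D1195 (iv D1195) (iv D810) F1823 D810
theorem F3794 : act 5 n1195 = n813 := d22_2 (iv F2622) D1195 (iv D813)
theorem F3795 : act 7 n1195 = n846 := d24_2 (iv F2623) D1195 (iv D846)
def n1196 : Q := act 6 n810
theorem D1196 : act 6 n810 = n1196 := rfl
theorem F3796 : act 0 n1196 = n913 := d5_1 D1196 (iv D913) (iv F2621)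
theorem F3797 : act 3 n1196 = n811 := d20_1 D1196 (iv D811) D810
theorem F3798 : act 5 n1196 = n1178 := d25_1 D1196 (iv D1178) F2590 (iv F1826) (iv F2622)
def n1197 : Q := act 1 n812
theorem D1197 : act 1 n812 = n1197 := rfl
theorem F3799 : act 6 n1197 = n1179 := d11_2 (iv F2629) D1197 (iv D1179)
theorem F3800 : act 7 n1197 = n848 := d12_2 (iv F2630) D1197 (iv D848)
def n1198 : Q := act 4 n812
theorem D1198 : act 4 n812 = n1198 := rfl
theorem F3801 : act 0 n1198 = n915 := d3_1 D1198 (iv D915) (iv F2628)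
theorem F3802 : act 2 n1198 = n813 := d14_1 D1198 (iv D813) D812
theorem F3803 : act 6 n1198 = n1180 := d23_2 (iv F2629) D1198 (iv D1180)
theorem F3804 : act 7 n1198 = n849 := d24_2 (iv F2630) D1198 (iv D849)
def n1199 : Q := act 1 n814
theorem D1199 : act 1 n814 = n1199 := rfl
theorem F3805 : act 2 n1199 = n916 := d7_2 D814 D1199 (iv D916) (iv D621) (iv F1828)
theorem F3806 : act 4 n1199 = n1199 := d9_2 F2636 D1199 (iv D1199)
def n1200 : Q := act 3 n814
theorem D1200 : act 3 n814 = n1200 := rfl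
theorem F3807 : act 0 n1200 = n816 := d2_1 D1200 (iv D816) (iv F2635)
theorem F3808 : act 2 n1200 = n851 := d13_1 D1200 (iv D851) (iv D573) (iv F1829) D814
theorem F3809 : act 5 n1200 = n1200 := d19_2 F2637 D1200 (iv D1200)
def n1201 : Q := act 7 n814
theorem D1201 : act 7 n814 = n1201 := rfl
theorem F3810 : act 0 n1201 = n817 := d6_1 D1201 (iv D817) (iv F2635)
theorem F3811 : act 2 n1201 = n815 := d17_1 D1201 (iv D815) D814
theorem F3812 : act 4 n1201 = n1201 := d24_1 D1201 (iv D1201) F2636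
theorem F3813 : act 5 n1201 = n1201 := d26_1 D1201 (iv D1201) F2637
def n1202 : Q := act 3 n815
theorem D1202 : act 3 n815 = n1202 := rfl
theorem F3814 : act 0 n1202 = n818 := d2_1 D1202 (iv D818) (iv F2638)
theorem F3815 : act 1 n1202 = n919 := d8_1 D1202 (iv D919) (iv F2639)
theorem F3816 : act 5 n1202 = n1202 := d19_2 F2641 D1202 (iv D1202)
theorem F3817 : act 7 n1202 = n853 := d21_2 D815 D1202 (iv D853) (iv D574) (iv F1829)
def n1203 : Q := act 6 n815
theorem D1203 : act 6 n815 = n1203 := rfl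
theorem F3818 : act 0 n1203 = n819 := d5_1 D1203 (iv D819) (iv F2638)
theorem F3819 : act 1 n1203 = n920 := d11_1 D1203 (iv D920) (iv F2639)
theorem F3820 : act 4 n1203 = n1203 := d23_1 D1203 (iv D1203) F2640
def n1204 : Q := act 4 n816
theorem D1204 : act 4 n816 = n1204 := rfl
theorem F3821 : act 2 n1204 = n855 := d14_1 D1204 (iv D855) (iv F2642)
theorem F3822 : act 3 n1204 = n1204 := d18_1 D1204 (iv D1204) (iv D816) F1832 D816
theorem F3823 : act 5 n1204 = n1204 := d22_2 F2643 D1204 (iv D1204)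
theorem F3824 : act 6 n1204 = n1107 := d23_2 F3780 D1204 F3781
def n1205 : Q := act 7 n816
theorem D1205 : act 7 n816 = n1205 := rfl
theorem F3825 : act 2 n1205 = n856 := d17_1 D1205 (iv D856) (iv F2642)
theorem F3826 : act 5 n1205 = n1205 := d26_1 D1205 (iv D1205) F2643
def n1206 : Q := act 3 n817
theorem D1206 : act 3 n817 = n1206 := rfl
theorem F3827 : act 5 n1206 = n1206 := d19_2 F2646 D1206 (iv D1206)
def n1207 : Q := act 6 n817
theorem D1207 : act 6 n817 = n1207 := rfl
theorem F3828 : act 2 n1207 = n819 := d16_1 D1207 (iv D819) (iv F2644)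
theorem F3829 : act 4 n1207 = n1207 := d23_1 D1207 (iv D1207) F2645
def n1208 : Q := act 2 n818
theorem D1208 : act 2 n818 = n1208 := rfl
theorem F3830 : act 5 n1208 = n1208 := d15_2 F2648 D1208 (iv D1208)
theorem F3831 : act 7 n1208 = n859 := d17_2 (iv F2649) D1208 (iv D859)
def n1209 : Q := act 4 n818
theorem D1209 : act 4 n818 = n1209 := rfl
theorem F3832 : act 1 n1209 = n821 := d9_1 D1209 (iv D821) (iv F2647)
theorem F3833 : act 3 n1209 = n1209 := d18_1 D1209 (iv D1209) (iv D818) F1835 D818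
theorem F3834 : act 5 n1209 = n1209 := d22_2 F2648 D1209 (iv D1209)
theorem F3835 : act 7 n1209 = n860 := d24_2 (iv F2649) D1209 (iv D860)
def n1210 : Q := act 6 n818
theorem D1210 : act 6 n818 = n1210 := rfl
theorem F3836 : act 1 n1210 = n822 := d11_1 D1210 (iv D822) (iv F2647)
theorem F3837 : act 3 n1210 = n819 := d20_1 D1210 (iv D819) D818
def n1211 : Q := act 5 n819
theorem D1211 : act 5 n819 = n1211 := rfl
theorem F3838 : act 4 n1211 = n1211 := d22_1 D1211 (iv D1211) F2651
theorem F3839 : act 6 n1211 = n1211 := d25_2 D819 D1211 (iv D1211) (iv D819) F1836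
def n1212 : Q := act 1 n820
theorem D1212 : act 1 n820 = n1212 := rfl
theorem F3840 : act 7 n1212 = n863 := d12_2 (iv F2654) D1212 (iv D863)
def n1213 : Q := act 4 n820
theorem D1213 : act 4 n820 = n1213 := rfl
theorem F3841 : act 0 n1213 = n930 := d3_1 D1213 (iv D930) (iv F2652)
theorem F3842 : act 2 n1213 = n821 := d14_1 D1213 (iv D821) D820
theorem F3843 : act 5 n1213 = n825 := d22_2 (iv F2653) D1213 (iv D825)
theorem F3844 : act 7 n1213 = n864 := d24_2 (iv F2654) D1213 (iv D864)
def n1214 : Q := act 6 n820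
theorem D1214 : act 6 n820 = n1214 := rfl
theorem F3845 : act 0 n1214 = n931 := d5_1 D1214 (iv D931) (iv F2652)
theorem F3846 : act 2 n1214 = n822 := d16_1 D1214 (iv D822) D820
def n1215 : Q := act 6 n821
theorem D1215 : act 6 n821 = n1215 := rfl
theorem F3847 : act 0 n1215 = n932 := d5_1 D1215 (iv D932) (iv F2655)
theorem F3848 : act 3 n1215 = n1215 := d20_1 D1215 (iv D1215) F2656
theorem F3849 : act 4 n1215 = n822 := d23_1 D1215 (iv D822) D821
theorem F3850 : act 7 n1215 = n1118 := d27_2 (iv F2658) D1215 (iv D1118) F2471 F1922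
def n1216 : Q := act 5 n822
theorem D1216 : act 5 n822 = n1216 := rfl
theorem F3851 : act 0 n1216 = n933 := d4_1 D1216 (iv D933) (iv F2659)
theorem F3852 : act 3 n1216 = n823 := d19_1 D1216 (iv D823) (iv F2660)
theorem F3853 : act 6 n1216 = n828 := d25_2 D822 D1216 (iv D828) (iv D559) (iv F1838)
def n1217 : Q := act 7 n822
theorem D1217 : act 7 n822 = n1217 := rfl
theorem F3854 : act 0 n1217 = n934 := d6_1 D1217 (iv D934) (iv F2659)
theorem F3855 : act 4 n1217 = n1118 := d24_1 D1217 (iv F3850) F3849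
theorem F3856 : act 6 n1217 = n866 := d27_1 D1217 (iv D866) (iv D581) (iv F1839) D822
def n1218 : Q := act 1 n823
theorem D1218 : act 1 n823 = n1218 := rfl
theorem F3857 : act 4 n1218 = n1218 := d9_2 F2663 D1218 (iv D1218)
theorem F3858 : act 6 n1218 = n829 := d11_2 (iv F2664) D1218 (iv D829)
theorem F3859 : act 7 n1218 = n1175 := d12_2 (iv F2665) D1218 F3725
def n1219 : Q := act 0 n824
theorem D1219 : act 0 n824 = n1219 := rfl
theorem F3860 : act 1 n1219 = n936 := d0_2 D824 D1219 (iv D936) (iv D631) (iv F1842)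
theorem F3861 : act 2 n1219 = n1219 := d1_2 F2666 D1219 (iv D1219)
theorem F3862 : act 7 n1219 = n867 := d6_2 (iv F2667) D1219 (iv D867)
def n1220 : Q := act 4 n824
theorem D1220 : act 4 n824 = n1220 := rfl
theorem F3863 : act 1 n1220 = n825 := d9_1 D1220 (iv D825) D824
theorem F3864 : act 2 n1220 = n1220 := d14_1 D1220 (iv D1220) F2666
theorem F3865 : act 7 n1220 = n868 := d24_2 (iv F2667) D1220 (iv D868)
def n1221 : Q := act 5 n824
theorem D1221 : act 5 n824 = n1221 := rfl
theorem F3866 : act 2 n1221 = n1221 := d15_1 D1221 (iv D1221) F2666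
theorem F3867 : act 7 n1221 = n869 := d26_2 (iv F2667) D1221 (iv D869)
def n1222 : Q := act 6 n824
theorem D1222 : act 6 n824 = n1222 := rfl
theorem F3868 : act 1 n1222 = n826 := d11_1 D1222 (iv D826) D824
theorem F3869 : act 2 n1222 = n1222 := d16_1 D1222 (iv D1222) F2666
theorem F3870 : act 3 n1222 = n1197 := d20_1 D1222 F3799 F3737
theorem F3871 : act 7 n1222 = n1222 := d27_2 (iv F2667) D1222 (iv D1222) F2667 F1929
def n1223 : Q := act 3 n825
theorem D1223 : act 3 n825 = n1223 := rfl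
theorem F3872 : act 0 n1223 = n940 := d2_1 D1223 (iv D940) (iv F2668)
theorem F3873 : act 2 n1223 = n1223 := d13_1 D1223 (iv D1223) F2669 F1846 (iv F2669)
def n1224 : Q := act 6 n825
theorem D1224 : act 6 n825 = n1224 := rfl
theorem F3874 : act 0 n1224 = n941 := d5_1 D1224 (iv D941) (iv F2668)
theorem F3875 : act 2 n1224 = n827 := d16_1 D1224 (iv D827) (iv F2669)
theorem F3876 : act 4 n1224 = n826 := d23_1 D1224 (iv D826) D825
theorem F3877 : act 7 n1224 = n1224 := d27_2 (iv F2670) D1224 (iv D1224) F2670 F1932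
def n1225 : Q := act 5 n826
theorem D1225 : act 5 n826 = n1225 := rfl
theorem F3878 : act 0 n1225 = n942 := d4_1 D1225 (iv D942) (iv F2671)
theorem F3879 : act 2 n1225 = n828 := d15_1 D1225 (iv D828) (iv F2672)
theorem F3880 : act 3 n1225 = n1194 := d19_1 D1225 F3790 (iv F2673)
theorem F3881 : act 7 n1225 = n1225 := d26_2 F2674 D1225 (iv D1225)
def n1226 : Q := act 5 n827
theorem D1226 : act 5 n827 = n1226 := rfl
theorem F3882 : act 0 n1226 = n943 := d4_1 D1226 (iv D943) (iv F2675)
theorem F3883 : act 3 n1226 = n1226 := d19_1 D1226 (iv D1226) F2677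
theorem F3884 : act 4 n1226 = n828 := d22_1 D1226 (iv D828) (iv F2678)
theorem F3885 : act 7 n1226 = n1226 := d26_2 F2679 D1226 (iv D1226)
def n1227 : Q := act 1 n828
theorem D1227 : act 1 n828 = n1227 := rfl
theorem F3886 : act 3 n1227 = n829 := d8_2 (iv F2681) D1227 (iv D829)
theorem F3887 : act 5 n1227 = n1227 := d10_2 D828 D1227 (iv D1227) (iv D828) F1849
theorem F3888 : act 7 n1227 = n1227 := d12_2 F2682 D1227 (iv D1227)
def n1228 : Q := act 0 n829
theorem D1228 : act 0 n829 = n1228 := rfl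
theorem F3889 : act 1 n1228 = n945 := d0_2 D829 D1228 (iv D945) (iv D636) (iv F1852)
theorem F3890 : act 4 n1228 = n1228 := d3_2 F2683 D1228 (iv D1228)
theorem F3891 : act 5 n1228 = n1228 := d4_2 F2684 D1228 (iv D1228)
theorem F3892 : act 7 n1228 = n830 := d6_2 (iv F2685) D1228 (iv D830)
def n1229 : Q := act 2 n829
theorem D1229 : act 2 n829 = n1229 := rfl
theorem F3893 : act 1 n1229 = n1191 := d7_1 D1229 F3782 F2619 (iv F1853) D829
theorem F3894 : act 4 n1229 = n1229 := d14_2 F2683 D1229 (iv D1229)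
theorem F3895 : act 5 n1229 = n1229 := d15_2 F2684 D1229 (iv D1229)
theorem F3896 : act 7 n1229 = n831 := d17_2 (iv F2685) D1229 (iv D831)
def n1230 : Q := act 2 n830
theorem D1230 : act 2 n830 = n1230 := rfl
theorem F3897 : act 0 n1230 = n831 := d1_1 D1230 (iv D831) D830
theorem F3898 : act 4 n1230 = n1230 := d14_2 F2688 D1230 (iv D1230)
theorem F3899 : act 5 n1230 = n1230 := d15_2 F2689 D1230 (iv D1230)
theorem F3900 : act 6 n1230 = n1170 := d16_2 (iv F2690) D1230 (iv D1170)
def n1231 : Q := act 3 n831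
theorem D1231 : act 3 n831 = n1231 := rfl
theorem F3901 : act 1 n1231 = n1190 := d8_1 D1231 (iv D1190) (iv F2691)
theorem F3902 : act 2 n1231 = n1231 := d13_1 D1231 (iv D1231) (iv D831) F1856 D831
theorem F3903 : act 5 n1231 = n1231 := d19_2 F2693 D1231 (iv D1231)
theorem F3904 : act 6 n1231 = n1172 := d20_2 (iv F2694) D1231 (iv D1172)
def n1232 : Q := act 2 n832
theorem D1232 : act 2 n832 = n1232 := rfl
theorem F3905 : act 0 n1232 = n1232 := d1_1 D1232 (iv D1232) F2695
theorem F3906 : act 3 n1232 = n837 := d13_2 D832 D1232 (iv D837) (iv D565) (iv F1862)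
theorem F3907 : act 4 n1232 = n1232 := d14_2 F2697 D1232 (iv D1232)
theorem F3908 : act 5 n1232 = n1154 := d15_2 (iv F2698) D1232 (iv D1154)
theorem F3909 : act 6 n1232 = n1232 := d16_2 F2699 D1232 (iv D1232)
theorem F3910 : act 7 n1232 = n1232 := d17_2 F2700 D1232 (iv D1232)
def n1233 : Q := act 7 n833
theorem D1233 : act 7 n833 = n1233 := rfl
theorem F3911 : act 0 n1233 = n834 := d6_1 D1233 (iv D834) D833
theorem F3912 : act 1 n1233 = n1233 := d12_1 D1233 (iv D1233) F2701
theorem F3913 : act 2 n1233 = n1102 := d17_1 D1233 (iv D1102) (iv F2702)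
theorem F3914 : act 4 n1233 = n871 := d24_1 D1233 (iv D871) (iv F2703)
theorem F3915 : act 5 n1233 = n840 := d26_1 D1233 (iv D840) (iv F2704)
def n1234 : Q := act 3 n834
theorem D1234 : act 3 n834 = n1234 := rfl
theorem F3916 : act 1 n1234 = n835 := d8_1 D1234 (iv D835) (iv F2706)
theorem F3917 : act 5 n1234 = n843 := d19_2 (iv F2709) D1234 (iv D843)
def n1235 : Q := act 6 n834
theorem D1235 : act 6 n834 = n1235 := rfl
theorem F3918 : act 1 n1235 = n836 := d11_1 D1235 (iv D836) (iv F2706)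
theorem F3919 : act 2 n1235 = n882 := d16_1 D1235 F2865 (iv F2707)
theorem F3920 : act 4 n1235 = n873 := d23_1 D1235 (iv D873) (iv F2708)
theorem F3921 : act 7 n1235 = n1235 := d27_2 D834 D1235 (iv D1235) (iv D834) F1869
def n1236 : Q := act 2 n835
theorem D1236 : act 2 n835 = n1236 := rfl
theorem F3922 : act 0 n1236 = n1236 := d1_1 D1236 (iv D1236) F2710
theorem F3923 : act 3 n1236 = n1154 := d13_2 D835 D1236 (iv D1154) (iv D787) (iv F1871)
theorem F3924 : act 5 n1236 = n837 := d15_2 (iv F2711) D1236 (iv D837)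
def n1237 : Q := act 4 n835
theorem D1237 : act 4 n835 = n1237 := rfl
theorem F3925 : act 0 n1237 = n1237 := d3_1 D1237 (iv D1237) F2710
theorem F3926 : act 3 n1237 = n874 := d18_1 D1237 (iv D874) (iv D586) (iv F1872) D835
theorem F3927 : act 5 n1237 = n838 := d22_2 (iv F2711) D1237 (iv D838)
def n1238 : Q := act 6 n835
theorem D1238 : act 6 n835 = n1238 := rfl
theorem F3928 : act 0 n1238 = n1238 := d5_1 D1238 (iv D1238) F2710
theorem F3929 : act 3 n1238 = n836 := d20_1 D1238 (iv D836) D835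
theorem F3930 : act 5 n1238 = n1238 := d25_1 D1238 (iv D1238) F2711 F1876 (iv F2711)
def n1239 : Q := act 1 n837
theorem D1239 : act 1 n837 = n1239 := rfl
theorem F3931 : act 2 n1239 = n848 := d7_2 D837 D1239 (iv D848) (iv D571) (iv F1875)
theorem F3932 : act 6 n1239 = n1239 := d11_2 F2718 D1239 (iv D1239)
def n1240 : Q := act 4 n837
theorem D1240 : act 4 n837 = n1240 := rfl
theorem F3933 : act 0 n1240 = n1240 := d3_1 D1240 (iv D1240) F2717
theorem F3934 : act 2 n1240 = n838 := d14_1 D1240 (iv D838) D837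
theorem F3935 : act 3 n1240 = n1240 := d18_1 D1240 (iv D1240) (iv F3906) F3907 F3906
theorem F3936 : act 6 n1240 = n1240 := d23_2 F2718 D1240 (iv D1240)
def n1241 : Q := act 1 n839
theorem D1241 : act 1 n839 = n1241 := rfl
theorem F3937 : act 0 n1241 = n1241 := d0_1 D1241 (iv D1241) F2723 F1880 (iv F2723)
theorem F3938 : act 2 n1241 = n949 := d7_2 D839 D1241 (iv D949) (iv D639) (iv F1877)
theorem F3939 : act 4 n1241 = n876 := d9_2 (iv F2724) D1241 (iv D876)
theorem F3940 : act 5 n1241 = n1011 := d10_2 (iv F2725) D1241 F3252 F2261 (iv F2424)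
theorem F3941 : act 6 n1241 = n850 := d11_2 (iv F2726) D1241 (iv D850)
def n1242 : Q := act 3 n839
theorem D1242 : act 3 n839 = n1242 := rfl
theorem F3942 : act 0 n1242 = n841 := d2_1 D1242 (iv D841) (iv F2723)
theorem F3943 : act 4 n1242 = n1062 := d18_2 (iv F2724) D1242 F3413 F2363 F1957
theorem F3944 : act 5 n1242 = n1061 := d19_2 (iv F2725) D1242 F3410
theorem F3945 : act 6 n1242 = n851 := d20_2 (iv F2726) D1242 (iv D851)
def n1243 : Q := act 7 n839
theorem D1243 : act 7 n839 = n1243 := rfl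
theorem F3946 : act 0 n1243 = n842 := d6_1 D1243 (iv D842) (iv F2723)
theorem F3947 : act 2 n1243 = n840 := d17_1 D1243 (iv D840) D839
theorem F3948 : act 4 n1243 = n877 := d24_1 D1243 (iv D877) (iv F2724)
theorem F3949 : act 5 n1243 = n1102 := d26_1 D1243 (iv D1102) (iv F2725)
def n1244 : Q := act 3 n840
theorem D1244 : act 3 n840 = n1244 := rfl
theorem F3950 : act 0 n1244 = n843 := d2_1 D1244 (iv D843) (iv F2727)
theorem F3951 : act 1 n1244 = n952 := d8_1 D1244 (iv D952) (iv F2728)
def n1245 : Q := act 6 n840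
theorem D1245 : act 6 n840 = n1245 := rfl
theorem F3952 : act 0 n1245 = n844 := d5_1 D1245 (iv D844) (iv F2727)
theorem F3953 : act 1 n1245 = n953 := d11_1 D1245 (iv D953) (iv F2728)
theorem F3954 : act 4 n1245 = n879 := d23_1 D1245 (iv D879) (iv F2729)
theorem F3955 : act 7 n1245 = n854 := d27_2 D840 D1245 (iv D854) (iv D574) (iv F1879)
def n1246 : Q := act 7 n841
theorem D1246 : act 7 n841 = n1246 := rfl
theorem F3956 : act 1 n1246 = n1246 := d12_1 D1246 (iv D1246) F2730
theorem F3957 : act 4 n1246 = n1110 := d24_1 D1246 (iv D1110) (iv F2731)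
theorem F3958 : act 5 n1246 = n1109 := d26_1 D1246 (iv D1109) (iv F2732)
def n1247 : Q := act 3 n842
theorem D1247 : act 3 n842 = n1247 := rfl
theorem F3959 : act 1 n1247 = n1247 := d8_1 D1247 (iv D1247) F2734
theorem F3960 : act 5 n1247 = n1151 := d19_2 (iv F2737) D1247 (iv D1151)
def n1248 : Q := act 6 n842
theorem D1248 : act 6 n842 = n1248 := rfl
theorem F3961 : act 1 n1248 = n1248 := d11_1 D1248 (iv D1248) F2734
theorem F3962 : act 2 n1248 = n844 := d16_1 D1248 (iv D844) (iv F2735)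
theorem F3963 : act 4 n1248 = n881 := d23_1 D1248 (iv D881) (iv F2736)
theorem F3964 : act 7 n1248 = n858 := d27_2 D842 D1248 (iv D858) (iv D576) (iv F1883)
def n1249 : Q := act 2 n843
theorem D1249 : act 2 n843 = n1249 := rfl
def n1250 : Q := act 4 n843
theorem D1250 : act 4 n843 = n1250 := rfl
theorem F3965 : act 1 n1250 = n846 := d9_1 D1250 (iv D846) (iv F2738)
theorem F3966 : act 3 n1250 = n882 := d18_1 D1250 (iv D882) (iv D592) (iv F1885) D843
theorem F3967 : act 6 n1151 = n1250 := d20_0 F3966 F2865 D1151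
def n1251 : Q := act 6 n843
theorem D1251 : act 6 n843 = n1251 := rfl
theorem F3968 : act 1 n1251 = n847 := d11_1 D1251 (iv D847) (iv F2738)
theorem F3969 : act 3 n1251 = n844 := d20_1 D1251 (iv D844) D843
theorem F3970 : act 4 n1251 = n1151 := d23_1 D1251 F3967 (iv D1250)
def n1252 : Q := act 5 n844
theorem D1252 : act 5 n844 = n1252 := rfl
theorem F3971 : act 1 n1252 = n1252 := d10_1 D1252 (iv D1252) F2739 F1891 (iv F2739)
theorem F3972 : act 4 n1252 = n880 := d22_1 D1252 F2859 (iv F2740)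
theorem F3973 : act 7 n1252 = n862 := d26_2 (iv F2741) D1252 (iv D862)
def n1253 : Q := act 1 n845
theorem D1253 : act 1 n845 = n1253 := rfl
theorem F3974 : act 3 n1253 = n1253 := d8_2 F2743 D1253 (iv D1253)
def n1254 : Q := act 4 n845
theorem D1254 : act 4 n845 = n1254 := rfl
theorem F3975 : act 0 n1254 = n963 := d3_1 D1254 (iv D963) (iv F2742)
theorem F3976 : act 2 n1254 = n846 := d14_1 D1254 (iv D846) D845
theorem F3977 : act 5 n1254 = n849 := d22_2 (iv F2744) D1254 (iv D849)
theorem F3978 : act 3 n1157 = n1254 := d31_29 F3977 (iv F3804) (iv D1198) (iv D812) F1826 (iv D546) (iv F1806) (iv D545) F1082 F1080 (iv F1107) F1105 (iv D194) D195 F659 F395 F396 D205 (iv F1209) F1210 D594 F1970 (iv D539) D538 F1781 F1782 F1780 D789 D1157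
theorem F3979 : act 6 n1254 = n1152 := d20_2 D1157 F3978 F3651
def n1255 : Q := act 6 n845
theorem D1255 : act 6 n845 = n1255 := rfl
theorem F3980 : act 0 n1255 = n964 := d5_1 D1255 (iv D964) (iv F2742)
theorem F3981 : act 2 n1255 = n847 := d16_1 D1255 (iv D847) D845
theorem F3982 : act 3 n1255 = n1255 := d20_1 D1255 (iv D1255) F2743
theorem F3983 : act 4 n1255 = n1152 := d23_1 D1255 (iv F3979) (iv D1254)
theorem F3984 : act 5 n1255 = n1255 := d25_1 D1255 (iv D1255) F2744 F1895 (iv F2744)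
def n1256 : Q := act 7 n847
theorem D1256 : act 7 n847 = n1256 := rfl
theorem F3985 : act 0 n1256 = n965 := d6_1 D1256 (iv D965) (iv F2749)
theorem F3986 : act 3 n1256 = n866 := d21_1 D1256 (iv D866) F1924 (iv F1892) (iv F2750)
theorem F3987 : act 4 n1256 = n1115 := d24_1 D1256 F3544 (iv F2751)
theorem F3988 : act 5 n1256 = n1256 := d26_1 D1256 (iv D1256) F2752
def n1257 : Q := act 0 n848
theorem D1257 : act 0 n848 = n1257 := rfl
theorem F3989 : act 1 n1257 = n966 := d0_2 D848 D1257 (iv D966) (iv D648) (iv F1893)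
theorem F3990 : act 3 n1257 = n1257 := d2_2 F2753 D1257 (iv D1257)
theorem F3991 : act 6 n1257 = n1257 := d5_2 F2754 D1257 (iv D1257)
def n1258 : Q := act 4 n848
theorem D1258 : act 4 n848 = n1258 := rfl
theorem F3992 : act 1 n1258 = n849 := d9_1 D1258 (iv D849) D848
theorem F3993 : act 6 n1258 = n1258 := d23_2 F2754 D1258 (iv D1258)
def n1259 : Q := act 5 n848
theorem D1259 : act 5 n848 = n1259 := rfl
theorem F3994 : act 3 n1259 = n1259 := d19_1 D1259 (iv D1259) F2753
def n1260 : Q := act 3 n849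
theorem D1260 : act 3 n849 = n1260 := rfl
theorem F3995 : act 0 n1260 = n969 := d2_1 D1260 (iv D969) (iv F2755)
theorem F3996 : act 2 n1260 = n883 := d13_1 D1260 (iv D883) F1976 (iv F1897) (iv F2756)
theorem F3997 : act 4 n1260 = n1260 := d18_2 D849 D1260 (iv D1260) (iv D849) F1894
theorem F3998 : act 5 n1260 = n1157 := d19_2 F3977 D1260 F3978
theorem F3999 : act 6 n1260 = n1260 := d20_2 F2757 D1260 (iv D1260)
def n1261 : Q := act 3 n850
theorem D1261 : act 3 n850 = n1261 := rfl
theorem F4000 : act 0 n1261 = n1261 := d2_1 D1261 (iv D1261) F2758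
theorem F4001 : act 1 n1261 = n851 := d8_1 D1261 (iv D851) D850
def n1262 : Q := act 5 n850
theorem D1262 : act 5 n850 = n1262 := rfl
theorem F4002 : act 0 n1262 = n1262 := d4_1 D1262 (iv D1262) F2758
theorem F4003 : act 1 n1262 = n1262 := d10_1 D1262 (iv D1262) (iv D850) F1901 D850
theorem F4004 : act 2 n1262 = n971 := d15_1 D1262 (iv D971) (iv F2759)
theorem F4005 : act 4 n1262 = n885 := d22_1 D1262 (iv D885) (iv F2760)
def n1263 : Q := act 7 n850
theorem D1263 : act 7 n850 = n1263 := rfl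
theorem F4006 : act 0 n1263 = n1263 := d6_1 D1263 (iv D1263) F2758
theorem F4007 : act 1 n1263 = n852 := d12_1 D1263 (iv D852) D850
theorem F4008 : act 2 n1263 = n972 := d17_1 D1263 (iv D972) (iv F2759)
theorem F4009 : act 4 n1263 = n886 := d24_1 D1263 (iv D886) (iv F2760)
def n1264 : Q := act 4 n851
theorem D1264 : act 4 n851 = n1264 := rfl
theorem F4010 : act 0 n1264 = n855 := d3_1 D1264 (iv D855) (iv F2761)
theorem F4011 : act 3 n1264 = n887 := d18_1 D1264 (iv D887) (iv D597) (iv F1900) D851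
theorem F4012 : act 5 n1264 = n1264 := d22_2 F2762 D1264 (iv D1264)
theorem F4013 : act 6 n1264 = n1062 := d23_2 F3945 D1264 (iv F3943)
def n1265 : Q := act 7 n851
theorem D1265 : act 7 n851 = n1265 := rfl
theorem F4014 : act 0 n1265 = n856 := d6_1 D1265 (iv D856) (iv F2761)
theorem F4015 : act 5 n1265 = n1265 := d26_1 D1265 (iv D1265) F2762
def n1266 : Q := act 3 n852
theorem D1266 : act 3 n852 = n1266 := rfl
theorem F4016 : act 0 n1266 = n857 := d2_1 D1266 (iv D857) (iv F2763)
theorem F4017 : act 4 n1266 = n1266 := d18_2 (iv F2765) D1266 (iv D1266) F2765 F1989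
theorem F4018 : act 5 n1266 = n1266 := d19_2 F2766 D1266 (iv D1266)
def n1267 : Q := act 6 n852
theorem D1267 : act 6 n852 = n1267 := rfl
theorem F4019 : act 0 n1267 = n858 := d5_1 D1267 (iv D858) (iv F2763)
theorem F4020 : act 2 n1267 = n854 := d16_1 D1267 (iv D854) (iv F2764)
theorem F4021 : act 4 n1267 = n888 := d23_1 D1267 (iv D888) (iv F2765)
def n1268 : Q := act 2 n853
theorem D1268 : act 2 n853 = n1268 := rfl
theorem F4022 : act 0 n1268 = n859 := d1_1 D1268 (iv D859) (iv F2767)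
theorem F4023 : act 5 n1268 = n1268 := d15_2 F2769 D1268 (iv D1268)
def n1269 : Q := act 4 n853
theorem D1269 : act 4 n853 = n1269 := rfl
theorem F4024 : act 0 n1269 = n860 := d3_1 D1269 (iv D860) (iv F2767)
theorem F4025 : act 1 n1269 = n978 := d9_1 D1269 (iv D978) (iv F2768)
theorem F4026 : act 3 n1269 = n889 := d18_1 D1269 (iv D889) (iv D599) (iv F1904) D853
theorem F4027 : act 5 n1269 = n1269 := d22_2 F2769 D1269 (iv D1269)
theorem F4028 : act 6 n1065 = n1269 := d20_0 F4026 F2895 D1065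
def n1270 : Q := act 6 n853
theorem D1270 : act 6 n853 = n1270 := rfl
theorem F4029 : act 0 n1270 = n861 := d5_1 D1270 (iv D861) (iv F2767)
theorem F4030 : act 1 n1270 = n979 := d11_1 D1270 (iv D979) (iv F2768)
theorem F4031 : act 3 n1270 = n854 := d20_1 D1270 (iv D854) D853
theorem F4032 : act 4 n1270 = n1065 := d23_1 D1270 F4028 (iv D1269)
def n1271 : Q := act 5 n854
theorem D1271 : act 5 n854 = n1271 := rfl
theorem F4033 : act 0 n1271 = n862 := d4_1 D1271 (iv D862) (iv F2770)
theorem F4034 : act 4 n1271 = n890 := d22_1 D1271 (iv D890) (iv F2772)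
theorem F4035 : act 6 n1271 = n1271 := d25_2 D854 D1271 (iv D1271) (iv D854) F1905
def n1272 : Q := act 7 n855
theorem D1272 : act 7 n855 = n1272 := rfl
theorem F4036 : act 1 n1272 = n1272 := d12_1 D1272 (iv D1272) F2773
theorem F4037 : act 3 n1272 = n1272 := d21_1 D1272 (iv D1272) F2774 F2004 (iv F2774)
theorem F4038 : act 4 n1272 = n856 := d24_1 D1272 (iv D856) D855
theorem F4039 : act 5 n1272 = n1272 := d26_1 D1272 (iv D1272) F2775
def n1273 : Q := act 3 n856
theorem D1273 : act 3 n856 = n1273 := rfl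
theorem F4040 : act 1 n1273 = n1273 := d8_1 D1273 (iv D1273) F2777
theorem F4041 : act 4 n1273 = n1273 := d18_2 F4038 D1273 (iv D1273) (iv F4038) F4037
theorem F4042 : act 5 n1273 = n1273 := d19_2 F2778 D1273 (iv D1273)
theorem F4043 : act 7 n1273 = n857 := d21_2 D856 D1273 (iv D857) (iv D576) D575
def n1274 : Q := act 6 n856
theorem D1274 : act 6 n856 = n1274 := rfl
theorem F4044 : act 1 n1274 = n1274 := d11_1 D1274 (iv D1274) F2777
def n1275 : Q := act 2 n857
theorem D1275 : act 2 n857 = n1275 := rfl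
theorem F4045 : act 3 n1275 = n859 := d13_2 D857 D1275 (iv D859) (iv D577) (iv F1909)
theorem F4046 : act 4 n1275 = n1275 := d14_2 F2780 D1275 (iv D1275)
theorem F4047 : act 5 n1275 = n1275 := d15_2 F2781 D1275 (iv D1275)
def n1276 : Q := act 6 n857
theorem D1276 : act 6 n857 = n1276 := rfl
theorem F4048 : act 1 n1276 = n1276 := d11_1 D1276 (iv D1276) F2779
theorem F4049 : act 3 n1276 = n858 := d20_1 D1276 (iv D858) D857
theorem F4050 : act 4 n1276 = n1276 := d23_1 D1276 (iv D1276) F2780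
def n1277 : Q := act 5 n858
theorem D1277 : act 5 n858 = n1277 := rfl
theorem F4051 : act 2 n1277 = n862 := d15_1 D1277 (iv D862) (iv F2783)
theorem F4052 : act 4 n1277 = n891 := d22_1 D1277 (iv D891) (iv F2784)
theorem F4053 : act 6 n1277 = n1277 := d25_2 D858 D1277 (iv D1277) (iv D858) F1911
def n1278 : Q := act 1 n859
theorem D1278 : act 1 n859 = n1278 := rfl
theorem F4054 : act 2 n1278 = n863 := d7_2 D859 D1278 (iv D863) (iv D579) (iv F1912)
def n1279 : Q := act 4 n859
theorem D1279 : act 4 n859 = n1279 := rfl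
theorem F4055 : act 2 n1279 = n860 := d14_1 D1279 (iv D860) D859
theorem F4056 : act 3 n1279 = n1279 := d18_1 D1279 (iv D1279) (iv F4045) F4046 F4045
theorem F4057 : act 5 n1279 = n1279 := d22_2 F2785 D1279 (iv D1279)
theorem F4058 : act 6 n1114 = n1279 := d16_0 F4055 (iv F2789) D1114
def n1280 : Q := act 6 n859
theorem D1280 : act 6 n859 = n1280 := rfl
theorem F4059 : act 2 n1280 = n861 := d16_1 D1280 (iv D861) D859
theorem F4060 : act 4 n1280 = n1114 := d23_1 D1280 F4058 (iv D1279)
def n1281 : Q := act 5 n861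
theorem D1281 : act 5 n861 = n1281 := rfl
theorem F4061 : act 1 n1281 = n1281 := d10_1 D1281 (iv D1281) F2790 F1926 (iv F2790)
theorem F4062 : act 3 n1281 = n862 := d19_1 D1281 (iv D862) (iv F2791)
theorem F4063 : act 4 n1281 = n1113 := d22_1 D1281 F3539 (iv F2792)
theorem F4064 : act 6 n1281 = n1281 := d25_2 D861 D1281 (iv D1281) (iv D861) F1913
def n1282 : Q := act 7 n861
theorem D1282 : act 7 n861 = n1282 := rfl
theorem F4065 : act 1 n1282 = n866 := d12_1 D1282 (iv D866) (iv F2790)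
theorem F4066 : act 4 n1282 = n1111 := d24_1 D1282 F3535 (iv F2792)
def n1283 : Q := act 0 n863
theorem D1283 : act 0 n863 = n1283 := rfl
theorem F4067 : act 1 n1283 = n991 := d0_2 D863 D1283 (iv D991) (iv D663) (iv F1916)
theorem F4068 : act 3 n1283 = n1283 := d2_2 F2796 D1283 (iv D1283)
def n1284 : Q := act 4 n863
theorem D1284 : act 4 n863 = n1284 := rfl
theorem F4069 : act 1 n1284 = n864 := d9_1 D1284 (iv D864) D863
theorem F4070 : act 3 n1123 = n1284 := d8_0 F4069 (iv F2800) (iv F3568)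
theorem F4071 : act 6 n1120 = n1284 := d11_0 F4069 F2801 D1120
def n1285 : Q := act 5 n863
theorem D1285 : act 5 n863 = n1285 := rfl
theorem F4072 : act 1 n1285 = n869 := d10_1 D1285 (iv D869) (iv D582) (iv F1918) D863
theorem F4073 : act 3 n1285 = n1285 := d19_1 D1285 (iv D1285) F2796
def n1286 : Q := act 6 n863
theorem D1286 : act 6 n863 = n1286 := rfl
theorem F4074 : act 1 n1286 = n865 := d11_1 D1286 (iv D865) D863
theorem F4075 : act 3 n1286 = n1286 := d20_1 D1286 (iv D1286) F2796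
theorem F4076 : act 4 n1286 = n1120 := d23_1 D1286 F4071 (iv D1284)
def n1287 : Q := act 7 n865
theorem D1287 : act 7 n865 = n1287 := rfl
theorem F4077 : act 0 n1287 = n995 := d6_1 D1287 (iv D995) (iv F2802)
theorem F4078 : act 2 n1287 = n866 := d17_1 D1287 (iv D866) (iv F2803)
theorem F4079 : act 4 n1287 = n1117 := d24_1 D1287 F3552 (iv F2805)
theorem F4080 : act 5 n1287 = n1287 := d26_1 D1287 (iv D1287) F2806
def n1288 : Q := act 4 n867
theorem D1288 : act 4 n867 = n1288 := rfl
theorem F4081 : act 0 n1288 = n868 := d3_1 D1288 (iv D868) D867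
theorem F4082 : act 1 n1288 = n996 := d9_1 D1288 (iv D996) (iv F2810)
theorem F4083 : act 2 n1288 = n1288 := d14_1 D1288 (iv D1288) F2811
theorem F4084 : act 6 n1288 = n1288 := d23_2 F2813 D1288 (iv D1288)
def n1289 : Q := act 5 n867
theorem D1289 : act 5 n867 = n1289 := rfl
theorem F4085 : act 0 n1289 = n869 := d4_1 D1289 (iv D869) D867
theorem F4086 : act 2 n1289 = n1289 := d15_1 D1289 (iv D1289) F2811
theorem F4087 : act 3 n1289 = n1289 := d19_1 D1289 (iv D1289) F2812
def n1290 : Q := act 3 n868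
theorem D1290 : act 3 n868 = n1290 := rfl
theorem F4088 : act 1 n1290 = n870 := d8_1 D1290 (iv D870) (iv F2814)
theorem F4089 : act 4 n1290 = n1290 := d18_2 D868 D1290 (iv D1290) (iv D868) F1928
theorem F4090 : act 6 n1290 = n1290 := d20_2 F2816 D1290 (iv D1290)
def n1291 : Q := act 5 n868
theorem D1291 : act 5 n868 = n1291 := rfl
theorem F4091 : act 2 n1291 = n1291 := d15_1 D1291 (iv D1291) F2815
theorem F4092 : act 4 n1291 = n869 := d22_1 D1291 (iv D869) D868
def n1292 : Q := act 6 n869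
theorem D1292 : act 6 n869 = n1292 := rfl
theorem F4093 : act 2 n1292 = n1292 := d16_1 D1292 (iv D1292) F2817
theorem F4094 : act 3 n1292 = n1292 := d20_1 D1292 (iv D1292) F2818
theorem F4095 : act 5 n1292 = n1292 := d25_1 D1292 (iv D1292) (iv D869) F1929 D869
def n1293 : Q := act 7 n870
theorem D1293 : act 7 n870 = n1293 := rfl
theorem F4096 : act 0 n1293 = n1001 := d6_1 D1293 (iv D1001) (iv F2819)
theorem F4097 : act 2 n1293 = n893 := d17_1 D1293 (iv D893) (iv F2820)
theorem F4098 : act 4 n1293 = n1293 := d24_1 D1293 (iv D1293) F2821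
theorem F4099 : act 5 n1293 = n1124 := d26_1 D1293 (iv D1124) (iv F2822)
def n1294 : Q := act 3 n871
theorem D1294 : act 3 n871 = n1294 := rfl
theorem F4100 : act 0 n1294 = n872 := d2_1 D1294 (iv D872) (iv F2824)
theorem F4101 : act 1 n1294 = n1294 := d8_1 D1294 (iv D1294) F2825
theorem F4102 : act 5 n1294 = n878 := d19_2 (iv F2827) D1294 (iv D878)
theorem F4103 : act 7 n1294 = n1294 := d21_2 D871 D1294 (iv D1294) (iv D871) F1935
def n1295 : Q := act 6 n871
theorem D1295 : act 6 n871 = n1295 := rfl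
theorem F4104 : act 0 n1295 = n873 := d5_1 D1295 (iv D873) (iv F2824)
theorem F4105 : act 1 n1295 = n1295 := d11_1 D1295 (iv D1295) F2825
theorem F4106 : act 2 n1295 = n878 := d16_1 D1295 (iv F2853) (iv F2826)
theorem F4107 : act 7 n1295 = n1295 := d27_2 D871 D1295 (iv D1295) (iv D871) F1937
def n1296 : Q := act 2 n872
theorem D1296 : act 2 n872 = n1296 := rfl
theorem F4108 : act 1 n1296 = n1296 := d7_1 D1296 (iv D1296) F2828 F1942 (iv F2828)
theorem F4109 : act 3 n1296 = n881 := d13_2 D872 D1296 F2862 F1967 (iv F1939)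
theorem F4110 : act 5 n1296 = n873 := d15_2 (iv F2829) D1296 F2832
theorem F4111 : act 7 n1296 = n1296 := d17_2 F2830 D1296 (iv D1296)
theorem F4112 : act 6 n880 = n1296 := d30_18 F1200 (iv F1943) (iv F2828) D1296 F4109 F2863 (iv D602) F1232 F1230 F1231 D386 F1235 F1445 (iv F1764) F1762 F1763 (iv F2014) (iv F2860) F4110 F2831 F1946 F1776 F1778 (iv D537) (iv F1457) F1190 F1191 D374 F1201
def n1297 : Q := act 4 n872
theorem D1297 : act 4 n872 = n1297 := rfl
theorem F4113 : act 1 n1297 = n874 := d9_1 D1297 (iv D874) (iv F2828)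
theorem F4114 : act 5 n1297 = n882 := d22_2 (iv F2829) D1297 (iv D882)
theorem F4115 : act 7 n1297 = n1297 := d24_2 F2830 D1297 (iv D1297)
def n1298 : Q := act 6 n872
theorem D1298 : act 6 n872 = n1298 := rfl
theorem F4116 : act 1 n1298 = n875 := d11_1 D1298 (iv D875) (iv F2828)
theorem F4117 : act 2 n1298 = n880 := d16_1 D1298 F4112 (iv D1296)
theorem F4118 : act 3 n1298 = n873 := d20_1 D1298 (iv D873) D872
theorem F4119 : act 5 n1298 = n881 := d25_1 D1298 (iv D881) F1962 F1965 (iv F2829)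
theorem F4120 : act 7 n891 = n1298 := d30_29 (iv D1298) F2829 F1963 F1439 F1044 F1045 (iv D328) F602 (iv F1033) F1458 D586 F1944 D875 F2841 (iv F4116) F4117 (iv D880) (iv D591) F1206 F695 F694 (iv D207) F397 D208 D387 D604 F2013 (iv F2900) F2901
def n1299 : Q := act 6 n874
theorem D1299 : act 6 n874 = n1299 := rfl
theorem F4121 : act 0 n1299 = n1299 := d5_1 D1299 (iv D1299) F2834
theorem F4122 : act 2 n1299 = n1299 := d16_1 D1299 (iv D1299) F2835
theorem F4123 : act 4 n1299 = n875 := d23_1 D1299 (iv D875) D874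
theorem F4124 : act 5 n1299 = n1299 := d25_1 D1299 (iv D1299) F2836 F1952 (iv F2836)
def n1300 : Q := act 7 n875
theorem D1300 : act 7 n875 = n1300 := rfl
theorem F4125 : act 0 n1300 = n1300 := d6_1 D1300 (iv D1300) F2838
theorem F4126 : act 1 n1300 = n891 := d12_1 D1300 F4120 F4116
theorem F4127 : act 2 n1300 = n1300 := d17_1 D1300 (iv D1300) F2839
theorem F4128 : act 3 n1300 = n1300 := d21_1 D1300 (iv D1300) F2840 F1948 (iv F2840)
theorem F4129 : act 5 n1300 = n1300 := d26_1 D1300 (iv D1300) F2841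
theorem F4130 : act 6 n1300 = n1300 := d27_1 D1300 (iv D1300) (iv D875) F1944 D875
def n1301 : Q := act 7 n876
theorem D1301 : act 7 n876 = n1301 := rfl
theorem F4131 : act 0 n1301 = n1301 := d6_1 D1301 (iv D1301) F2842
theorem F4132 : act 1 n1301 = n877 := d12_1 D1301 (iv D877) D876
theorem F4133 : act 2 n1301 = n1004 := d17_1 D1301 (iv D1004) (iv F2843)
theorem F4134 : act 5 n1301 = n1012 := d26_1 D1301 (iv D1012) (iv F2845)
def n1302 : Q := act 3 n877
theorem D1302 : act 3 n877 = n1302 := rfl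
theorem F4135 : act 0 n1302 = n880 := d2_1 D1302 (iv D880) (iv F2847)
theorem F4136 : act 5 n1302 = n879 := d19_2 (iv F2849) D1302 F2856
theorem F4137 : act 7 n1302 = n890 := d21_2 D877 D1302 F2898 (iv D746) F1957
def n1303 : Q := act 6 n877
theorem D1303 : act 6 n877 = n1303 := rfl
theorem F4138 : act 0 n1303 = n881 := d5_1 D1303 (iv D881) (iv F2847)
theorem F4139 : act 2 n1303 = n879 := d16_1 D1303 (iv D879) (iv F2848)
theorem F4140 : act 7 n1303 = n888 := d27_2 D877 D1303 (iv D888) (iv D598) (iv F1956)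
def n1304 : Q := act 4 n878
theorem D1304 : act 4 n878 = n1304 := rfl
theorem F4141 : act 0 n1304 = n882 := d3_1 D1304 (iv D882) (iv F2850)
theorem F4142 : act 1 n1304 = n1007 := d9_1 D1304 (iv D1007) (iv F2851)
theorem F4143 : act 6 n1304 = n1102 := d23_2 F2853 D1304 F3516
theorem F4144 : act 7 n1304 = n1304 := d24_2 F2852 D1304 (iv D1304)
def n1305 : Q := act 7 n883
theorem D1305 : act 7 n883 = n1305 := rfl
theorem F4145 : act 0 n1305 = n1010 := d6_1 D1305 (iv D1010) (iv F2867)
theorem F4146 : act 1 n1305 = n1305 := d12_1 D1305 (iv D1305) F2868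
theorem F4147 : act 3 n1305 = n1305 := d21_1 D1305 (iv D1305) (iv D883) F1979 D883
theorem F4148 : act 4 n1305 = n1305 := d24_1 D1305 (iv D1305) F2869
theorem F4149 : act 5 n1305 = n1158 := d26_1 D1305 (iv D1158) (iv F2870)
def n1306 : Q := act 2 n884
theorem D1306 : act 2 n884 = n1306 := rfl
theorem F4150 : act 0 n1306 = n1306 := d1_1 D1306 (iv D1306) F2872
theorem F4151 : act 1 n1306 = n1306 := d7_1 D1306 (iv D1306) F2873 F1983 (iv F2873)
theorem F4152 : act 3 n1306 = n1003 := d13_2 D884 D1306 F3219 (iv D682) (iv F1981)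
theorem F4153 : act 6 n1306 = n885 := d16_2 (iv F2874) D1306 F2878
theorem F4154 : act 7 n1306 = n1306 := d17_2 F2875 D1306 (iv D1306)
theorem F4155 : act 5 n1002 = n1306 := d25_5 F4153 (iv D885) (iv F2846) F2845 (iv F3215)
def n1307 : Q := act 4 n884
theorem D1307 : act 4 n884 = n1307 := rfl
theorem F4156 : act 0 n1307 = n1307 := d3_1 D1307 (iv D1307) F2872
theorem F4157 : act 1 n1307 = n887 := d9_1 D1307 (iv D887) (iv F2873)
theorem F4158 : act 6 n1307 = n971 := d23_2 (iv F2874) D1307 F3129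
theorem F4159 : act 7 n1307 = n1307 := d24_2 F2875 D1307 (iv D1307)
def n1308 : Q := act 5 n884
theorem D1308 : act 5 n884 = n1308 := rfl
theorem F4160 : act 0 n1308 = n1308 := d4_1 D1308 (iv D1308) F2872
theorem F4161 : act 1 n1308 = n1308 := d10_1 D1308 (iv D1308) F2873 F1984 (iv F2873)
theorem F4162 : act 2 n1308 = n1002 := d15_1 D1308 F4155 (iv D1306)
theorem F4163 : act 3 n1308 = n885 := d19_1 D1308 (iv D885) D884
theorem F4164 : act 6 n1308 = n1003 := d25_2 (iv F2874) D1308 (iv D1003) F2206 D683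
theorem F4165 : act 7 n1308 = n1308 := d26_2 F2875 D1308 (iv D1308)
def n1309 : Q := act 7 n885
theorem D1309 : act 7 n885 = n1309 := rfl
theorem F4166 : act 0 n1309 = n1309 := d6_1 D1309 (iv D1309) F2876
theorem F4167 : act 1 n1309 = n1309 := d12_1 D1309 (iv D1309) F2877
theorem F4168 : act 2 n1309 = n1013 := d17_1 D1309 (iv D1013) (iv F2878)
theorem F4169 : act 3 n1309 = n1309 := d21_1 D1309 (iv D1309) (iv F4163) F4165 F4163
theorem F4170 : act 5 n1309 = n886 := d26_1 D1309 (iv D886) D885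
theorem F4171 : act 6 n1309 = n1309 := d27_1 D1309 (iv D1309) (iv F4153) F4154 F4153
def n1310 : Q := act 6 n886
theorem D1310 : act 6 n886 = n1310 := rfl
theorem F4172 : act 0 n1310 = n1310 := d5_1 D1310 (iv D1310) F2879
theorem F4173 : act 1 n1310 = n888 := d11_1 D1310 (iv D888) (iv F2880)
theorem F4174 : act 2 n1310 = n1015 := d16_1 D1310 (iv D1015) (iv F2881)
theorem F4175 : act 3 n1310 = n1310 := d20_1 D1310 (iv D1310) F2882
theorem F4176 : act 5 n1310 = n1310 := d25_1 D1310 (iv D1310) (iv F4170) F4171 F4170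
def n1311 : Q := act 5 n888
theorem D1311 : act 5 n888 = n1311 := rfl
theorem F4177 : act 0 n1311 = n891 := d4_1 D1311 (iv D891) (iv F2888)
theorem F4178 : act 1 n1311 = n1311 := d10_1 D1311 (iv D1311) (iv F4173) F4176 F4173
theorem F4179 : act 2 n1311 = n890 := d15_1 D1311 (iv D890) (iv F2889)
theorem F4180 : act 3 n1311 = n1311 := d19_1 D1311 (iv D1311) F2890
theorem F4181 : act 6 n1311 = n1311 := d25_2 D888 D1311 (iv D1311) (iv D888) F1990
def n1312 : Q := act 1 n890
theorem D1312 : act 1 n890 = n1312 := rfl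
theorem F4182 : act 0 n1312 = n1312 := d0_1 D1312 (iv D1312) F2897 F2013 (iv F2897)
theorem F4183 : act 2 n1312 = n1312 := d7_2 F4179 D1312 (iv D1312) (iv F4179) F4178
theorem F4184 : act 3 n1312 = n1013 := d8_2 (iv F2898) D1312 F3257
theorem F4185 : act 5 n1312 = n1014 := d10_2 D890 D1312 F3261 F2268 (iv F1998)
theorem F4186 : act 6 n1312 = n1312 := d11_2 F2899 D1312 (iv D1312)
def n1313 : Q := act 2 n892
theorem D1313 : act 2 n892 = n1313 := rfl
theorem F4187 : act 0 n1313 = n1313 := d1_1 D1313 (iv D1313) F2903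
theorem F4188 : act 3 n1313 = n1313 := d13_2 D892 D1313 (iv D1313) (iv D892) F2018
theorem F4189 : act 4 n1313 = n1313 := d14_2 F2905 D1313 (iv D1313)
theorem F4190 : act 5 n1313 = n1313 := d15_2 F2906 D1313 (iv D1313)
theorem F4191 : act 6 n1313 = n1313 := d16_2 F2907 D1313 (iv D1313)
def n1314 : Q := act 7 n892
theorem D1314 : act 7 n892 = n1314 := rfl
theorem F4192 : act 0 n1314 = n1314 := d6_1 D1314 (iv D1314) F2903
theorem F4193 : act 1 n1314 = n893 := d12_1 D1314 (iv D893) (iv F2904)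
theorem F4194 : act 3 n1314 = n1314 := d21_1 D1314 (iv D1314) (iv D892) F2021 D892
theorem F4195 : act 4 n1314 = n1314 := d24_1 D1314 (iv D1314) F2905
theorem F4196 : act 5 n1314 = n1314 := d26_1 D1314 (iv D1314) F2906
def n1315 : Q := act 6 n893
theorem D1315 : act 6 n893 = n1315 := rfl
theorem F4197 : act 0 n1315 = n1018 := d5_1 D1315 (iv D1018) (iv F2908)
theorem F4198 : act 3 n1315 = n1315 := d20_1 D1315 (iv D1315) F2909
theorem F4199 : act 4 n1315 = n1315 := d23_1 D1315 (iv D1315) F2910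
theorem F4200 : act 5 n1315 = n1315 := d25_1 D1315 (iv D1315) F2911 F2488 (iv F2911)
theorem F4201 : act 7 n1315 = n1315 := d27_2 D893 D1315 (iv D1315) (iv D893) F2025
def n1316 : Q := act 1 n894
theorem D1316 : act 1 n894 = n1316 := rfl
theorem F4202 : act 0 n1316 = n916 := d0_1 D1316 (iv D916) F2065 (iv F2029) (iv F2912)
theorem F4203 : act 4 n1316 = n1316 := d9_2 F2913 D1316 (iv D1316)
def n1317 : Q := act 3 n894
theorem D1317 : act 3 n894 = n1317 := rfl
theorem F4204 : act 0 n1317 = n896 := d2_1 D1317 (iv D896) (iv F2912)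
theorem F4205 : act 2 n1317 = n1317 := d13_1 D1317 (iv D1317) (iv D894) F2026 D894
theorem F4206 : act 5 n1317 = n1317 := d19_2 F2914 D1317 (iv D1317)
def n1318 : Q := act 7 n894
theorem D1318 : act 7 n894 = n1318 := rfl
theorem F4207 : act 0 n1318 = n897 := d6_1 D1318 (iv D897) (iv F2912)
theorem F4208 : act 2 n1318 = n895 := d17_1 D1318 (iv D895) D894
theorem F4209 : act 4 n1318 = n1318 := d24_1 D1318 (iv D1318) F2913
theorem F4210 : act 5 n1318 = n1318 := d26_1 D1318 (iv D1318) F2914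
def n1319 : Q := act 3 n895
theorem D1319 : act 3 n895 = n1319 := rfl
theorem F4211 : act 0 n1319 = n898 := d2_1 D1319 (iv D898) (iv F2915)
theorem F4212 : act 5 n1319 = n1319 := d19_2 F2917 D1319 (iv D1319)
theorem F4213 : act 7 n1319 = n1319 := d21_2 D895 D1319 (iv D1319) (iv D895) F2026
def n1320 : Q := act 6 n895
theorem D1320 : act 6 n895 = n1320 := rfl
theorem F4214 : act 0 n1320 = n899 := d5_1 D1320 (iv D899) (iv F2915)
theorem F4215 : act 4 n1320 = n1320 := d23_1 D1320 (iv D1320) F2916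
def n1321 : Q := act 4 n896
theorem D1321 : act 4 n896 = n1321 := rfl
theorem F4216 : act 1 n1321 = n921 := d9_1 D1321 (iv D921) (iv F2918)
theorem F4217 : act 2 n1321 = n1321 := d14_1 D1321 (iv D1321) F2919
theorem F4218 : act 3 n1321 = n1321 := d18_1 D1321 (iv D1321) (iv D896) F2030 D896
theorem F4219 : act 5 n1321 = n1321 := d22_2 F2920 D1321 (iv D1321)
def n1322 : Q := act 7 n896
theorem D1322 : act 7 n896 = n1322 := rfl
theorem F4220 : act 1 n1322 = n922 := d12_1 D1322 (iv D922) (iv F2918)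
theorem F4221 : act 2 n1322 = n1322 := d17_1 D1322 (iv D1322) F2919
theorem F4222 : act 5 n1322 = n1322 := d26_1 D1322 (iv D1322) F2920
def n1323 : Q := act 3 n897
theorem D1323 : act 3 n897 = n1323 := rfl
theorem F4223 : act 1 n1323 = n923 := d8_1 D1323 (iv D923) (iv F2921)
theorem F4224 : act 5 n1323 = n1323 := d19_2 F2924 D1323 (iv D1323)
def n1324 : Q := act 6 n897
theorem D1324 : act 6 n897 = n1324 := rfl
theorem F4225 : act 1 n1324 = n924 := d11_1 D1324 (iv D924) (iv F2921)
theorem F4226 : act 2 n1324 = n899 := d16_1 D1324 (iv D899) (iv F2922)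
theorem F4227 : act 4 n1324 = n1324 := d23_1 D1324 (iv D1324) F2923
def n1325 : Q := act 2 n898
theorem D1325 : act 2 n898 = n1325 := rfl
theorem F4228 : act 5 n1325 = n1325 := d15_2 F2926 D1325 (iv D1325)
theorem F4229 : act 7 n1325 = n1325 := d17_2 F2927 D1325 (iv D1325)
def n1326 : Q := act 4 n898
theorem D1326 : act 4 n898 = n1326 := rfl
theorem F4230 : act 1 n1326 = n901 := d9_1 D1326 (iv D901) (iv F2925)
theorem F4231 : act 3 n1326 = n1326 := d18_1 D1326 (iv D1326) (iv D898) F2033 D898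
theorem F4232 : act 5 n1326 = n1326 := d22_2 F2926 D1326 (iv D1326)
theorem F4233 : act 7 n1326 = n1326 := d24_2 F2927 D1326 (iv D1326)
def n1327 : Q := act 6 n898
theorem D1327 : act 6 n898 = n1327 := rfl
theorem F4234 : act 1 n1327 = n902 := d11_1 D1327 (iv D902) (iv F2925)
theorem F4235 : act 3 n1327 = n899 := d20_1 D1327 (iv D899) D898
def n1328 : Q := act 5 n899
theorem D1328 : act 5 n899 = n1328 := rfl
theorem F4236 : act 4 n1328 = n1328 := d22_1 D1328 (iv D1328) F2929
theorem F4237 : act 6 n1328 = n1328 := d25_2 D899 D1328 (iv D1328) (iv D899) F2034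
def n1329 : Q := act 1 n900
theorem D1329 : act 1 n900 = n1329 := rfl
theorem F4238 : act 3 n1329 = n929 := d8_2 (iv F2930) D1329 (iv D929)
theorem F4239 : act 7 n1329 = n1329 := d12_2 F2932 D1329 (iv D1329)
def n1330 : Q := act 4 n900
theorem D1330 : act 4 n900 = n1330 := rfl
theorem F4240 : act 2 n1330 = n901 := d14_1 D1330 (iv D901) D900
theorem F4241 : act 5 n1330 = n904 := d22_2 (iv F2931) D1330 (iv D904)
theorem F4242 : act 7 n1330 = n1330 := d24_2 F2932 D1330 (iv D1330)
def n1331 : Q := act 6 n900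
theorem D1331 : act 6 n900 = n1331 := rfl
theorem F4243 : act 2 n1331 = n902 := d16_1 D1331 (iv D902) D900
theorem F4244 : act 3 n1331 = n931 := d20_1 D1331 (iv D931) (iv F2930)
def n1332 : Q := act 6 n901
theorem D1332 : act 6 n901 = n1332 := rfl
theorem F4245 : act 3 n1332 = n1332 := d20_1 D1332 (iv D1332) F2933
theorem F4246 : act 4 n1332 = n902 := d23_1 D1332 (iv D902) D901
def n1333 : Q := act 7 n902
theorem D1333 : act 7 n902 = n1333 := rfl
theorem F4247 : act 6 n1333 = n1333 := d27_1 D1333 (iv D1333) (iv D902) F2036 D902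
def n1334 : Q := act 0 n903
theorem D1334 : act 0 n903 = n1334 := rfl
theorem F4248 : act 2 n1334 = n1334 := d1_2 F2937 D1334 (iv D1334)
theorem F4249 : act 3 n1334 = n936 := d2_2 (iv F2938) D1334 (iv D936)
theorem F4250 : act 7 n1334 = n1334 := d6_2 F2939 D1334 (iv D1334)
def n1335 : Q := act 4 n903
theorem D1335 : act 4 n903 = n1335 := rfl
theorem F4251 : act 1 n1335 = n904 := d9_1 D1335 (iv D904) D903
theorem F4252 : act 2 n1335 = n1335 := d14_1 D1335 (iv D1335) F2937
theorem F4253 : act 7 n1335 = n1335 := d24_2 F2939 D1335 (iv D1335)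
def n1336 : Q := act 5 n903
theorem D1336 : act 5 n903 = n1336 := rfl
theorem F4254 : act 2 n1336 = n1336 := d15_1 D1336 (iv D1336) F2937
theorem F4255 : act 3 n1336 = n938 := d19_1 D1336 (iv D938) (iv F2938)
theorem F4256 : act 7 n1336 = n1336 := d26_2 F2939 D1336 (iv D1336)
def n1337 : Q := act 3 n904
theorem D1337 : act 3 n904 = n1337 := rfl
theorem F4257 : act 2 n1337 = n1337 := d13_1 D1337 (iv D1337) F2940 F2042 (iv F2940)
theorem F4258 : act 4 n1337 = n940 := d18_2 D904 D1337 (iv D940) (iv D632) (iv F2039)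
def n1338 : Q := act 1 n905
theorem D1338 : act 1 n905 = n1338 := rfl
theorem F4259 : act 4 n1338 = n1338 := d9_2 F2943 D1338 (iv D1338)
theorem F4260 : act 6 n1338 = n916 := d11_2 (iv F2945) D1338 (iv D916)
def n1339 : Q := act 3 n905
theorem D1339 : act 3 n905 = n1339 := rfl
theorem F4261 : act 0 n1339 = n907 := d2_1 D1339 (iv D907) (iv F2942)
theorem F4262 : act 2 n1339 = n950 := d13_1 D1339 (iv D950) (iv D639) (iv F2044) D905
theorem F4263 : act 5 n1339 = n1339 := d19_2 F2944 D1339 (iv D1339)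
theorem F4264 : act 6 n1339 = n917 := d20_2 (iv F2945) D1339 (iv D917)
def n1340 : Q := act 7 n905
theorem D1340 : act 7 n905 = n1340 := rfl
theorem F4265 : act 0 n1340 = n908 := d6_1 D1340 (iv D908) (iv F2942)
theorem F4266 : act 2 n1340 = n906 := d17_1 D1340 (iv D906) D905
theorem F4267 : act 4 n1340 = n1340 := d24_1 D1340 (iv D1340) F2943
theorem F4268 : act 5 n1340 = n1340 := d26_1 D1340 (iv D1340) F2944
def n1341 : Q := act 3 n906
theorem D1341 : act 3 n906 = n1341 := rfl
theorem F4269 : act 0 n1341 = n909 := d2_1 D1341 (iv D909) (iv F2946)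
theorem F4270 : act 5 n1341 = n1341 := d19_2 F2948 D1341 (iv D1341)
theorem F4271 : act 7 n1341 = n952 := d21_2 D906 D1341 (iv D952) (iv D640) (iv F2044)
def n1342 : Q := act 6 n906
theorem D1342 : act 6 n906 = n1342 := rfl
theorem F4272 : act 0 n1342 = n910 := d5_1 D1342 (iv D910) (iv F2946)
theorem F4273 : act 4 n1342 = n1342 := d23_1 D1342 (iv D1342) F2947
theorem F4274 : act 7 n1342 = n920 := d27_2 D906 D1342 (iv D920) (iv D622) (iv F2047)
def n1343 : Q := act 4 n907
theorem D1343 : act 4 n907 = n1343 := rfl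
theorem F4275 : act 2 n1343 = n954 := d14_1 D1343 (iv D954) (iv F2949)
theorem F4276 : act 3 n1343 = n1343 := d18_1 D1343 (iv D1343) (iv D907) F2048 D907
theorem F4277 : act 5 n1343 = n1343 := d22_2 F2950 D1343 (iv D1343)
theorem F4278 : act 6 n1343 = n921 := d23_2 (iv F2951) D1343 (iv D921)
def n1344 : Q := act 7 n907
theorem D1344 : act 7 n907 = n1344 := rfl
theorem F4279 : act 2 n1344 = n955 := d17_1 D1344 (iv D955) (iv F2949)
theorem F4280 : act 5 n1344 = n1344 := d26_1 D1344 (iv D1344) F2950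
def n1345 : Q := act 3 n908
theorem D1345 : act 3 n908 = n1345 := rfl
theorem F4281 : act 5 n1345 = n1345 := d19_2 F2954 D1345 (iv D1345)
def n1346 : Q := act 6 n908
theorem D1346 : act 6 n908 = n1346 := rfl
theorem F4282 : act 2 n1346 = n910 := d16_1 D1346 (iv D910) (iv F2952)
theorem F4283 : act 4 n1346 = n1346 := d23_1 D1346 (iv D1346) F2953
theorem F4284 : act 7 n1346 = n924 := d27_2 D908 D1346 (iv D924) (iv D624) (iv F2050)
def n1347 : Q := act 2 n909
theorem D1347 : act 2 n909 = n1347 := rfl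
theorem F4285 : act 5 n1347 = n1347 := d15_2 F2956 D1347 (iv D1347)
theorem F4286 : act 7 n1347 = n958 := d17_2 (iv F2957) D1347 (iv D958)
def n1348 : Q := act 4 n909
theorem D1348 : act 4 n909 = n1348 := rfl
theorem F4287 : act 1 n1348 = n912 := d9_1 D1348 (iv D912) (iv F2955)
theorem F4288 : act 3 n1348 = n1348 := d18_1 D1348 (iv D1348) (iv D909) F2052 D909
theorem F4289 : act 5 n1348 = n1348 := d22_2 F2956 D1348 (iv D1348)
theorem F4290 : act 7 n1348 = n959 := d24_2 (iv F2957) D1348 (iv D959)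
def n1349 : Q := act 6 n909
theorem D1349 : act 6 n909 = n1349 := rfl
theorem F4291 : act 1 n1349 = n913 := d11_1 D1349 (iv D913) (iv F2955)
theorem F4292 : act 3 n1349 = n910 := d20_1 D1349 (iv D910) D909
def n1350 : Q := act 5 n910
theorem D1350 : act 5 n910 = n1350 := rfl
theorem F4293 : act 1 n1350 = n1328 := d10_1 D1350 (iv D1328) F2928 (iv F2057) (iv F2958)
theorem F4294 : act 4 n1350 = n1350 := d22_1 D1350 (iv D1350) F2959
theorem F4295 : act 6 n1350 = n1350 := d25_2 D910 D1350 (iv D1350) (iv D910) F2053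
theorem F4296 : act 7 n1350 = n928 := d26_2 (iv F2960) D1350 (iv D928)
def n1351 : Q := act 1 n911
theorem D1351 : act 1 n911 = n1351 := rfl
theorem F4297 : act 7 n1351 = n962 := d12_2 (iv F2962) D1351 (iv D962)
def n1352 : Q := act 4 n911
theorem D1352 : act 4 n911 = n1352 := rfl
theorem F4298 : act 2 n1352 = n912 := d14_1 D1352 (iv D912) D911
theorem F4299 : act 5 n1352 = n915 := d22_2 (iv F2961) D1352 (iv D915)
theorem F4300 : act 7 n1352 = n963 := d24_2 (iv F2962) D1352 (iv D963)
def n1353 : Q := act 6 n911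
theorem D1353 : act 6 n911 = n1353 := rfl
theorem F4301 : act 2 n1353 = n913 := d16_1 D1353 (iv D913) D911
theorem F4302 : act 5 n1353 = n1331 := d25_1 D1353 (iv D1331) F2931 (iv F2059) (iv F2961)
def n1354 : Q := act 6 n912
theorem D1354 : act 6 n912 = n1354 := rfl
theorem F4303 : act 3 n1354 = n1354 := d20_1 D1354 (iv D1354) F2963
theorem F4304 : act 4 n1354 = n913 := d23_1 D1354 (iv D913) D912
theorem F4305 : act 5 n1354 = n1332 := d25_1 D1354 (iv D1332) F2934 (iv F2063) (iv F2964)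
theorem F4306 : act 7 n1354 = n1126 := d27_2 (iv F2965) D1354 (iv D1126) F2490 F2138
def n1355 : Q := act 7 n913
theorem D1355 : act 7 n913 = n1355 := rfl
theorem F4307 : act 3 n1355 = n934 := d21_1 D1355 (iv D934) F2086 (iv F2058) (iv F2966)
theorem F4308 : act 4 n1355 = n1126 := d24_1 D1355 (iv F4306) F4304
theorem F4309 : act 5 n1355 = n1333 := d26_1 D1355 (iv D1333) (iv F2967)
theorem F4310 : act 6 n1355 = n965 := d27_1 D1355 (iv D965) (iv D647) (iv F2055) D913
def n1356 : Q := act 0 n914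
theorem D1356 : act 0 n914 = n1356 := rfl
theorem F4311 : act 2 n1356 = n1356 := d1_2 F2968 D1356 (iv D1356)
theorem F4312 : act 6 n1356 = n1334 := d5_2 (iv F2969) D1356 (iv D1334)
theorem F4313 : act 7 n1356 = n966 := d6_2 (iv F2970) D1356 (iv D966)
def n1357 : Q := act 4 n914
theorem D1357 : act 4 n914 = n1357 := rfl
theorem F4314 : act 1 n1357 = n915 := d9_1 D1357 (iv D915) D914
theorem F4315 : act 2 n1357 = n1357 := d14_1 D1357 (iv D1357) F2968
theorem F4316 : act 6 n1357 = n1335 := d23_2 (iv F2969) D1357 (iv D1335)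
theorem F4317 : act 7 n1357 = n967 := d24_2 (iv F2970) D1357 (iv D967)
def n1358 : Q := act 5 n914
theorem D1358 : act 5 n914 = n1358 := rfl
theorem F4318 : act 2 n1358 = n1358 := d15_1 D1358 (iv D1358) F2968
theorem F4319 : act 7 n1358 = n968 := d26_2 (iv F2970) D1358 (iv D968)
def n1359 : Q := act 3 n915
theorem D1359 : act 3 n915 = n1359 := rfl
theorem F4320 : act 2 n1359 = n1359 := d13_1 D1359 (iv D1359) F2971 F2062 (iv F2971)
theorem F4321 : act 6 n1359 = n1337 := d20_2 (iv F2972) D1359 (iv D1337)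
def n1360 : Q := act 3 n916
theorem D1360 : act 3 n916 = n1360 := rfl
theorem F4322 : act 1 n1360 = n917 := d8_1 D1360 (iv D917) D916
def n1361 : Q := act 5 n916
theorem D1361 : act 5 n916 = n1361 := rfl
theorem F4323 : act 1 n1361 = n1020 := d10_1 D1361 (iv D1020) (iv D692) (iv F2067) D916
theorem F4324 : act 4 n1361 = n1361 := d22_1 D1361 (iv D1361) F2974
def n1362 : Q := act 7 n916
theorem D1362 : act 7 n916 = n1362 := rfl
theorem F4325 : act 1 n1362 = n918 := d12_1 D1362 (iv D918) D916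
theorem F4326 : act 4 n1362 = n1362 := d24_1 D1362 (iv D1362) F2974
def n1363 : Q := act 4 n917
theorem D1363 : act 4 n917 = n1363 := rfl
theorem F4327 : act 0 n1363 = n921 := d3_1 D1363 (iv D921) (iv F2975)
theorem F4328 : act 2 n1363 = n973 := d14_1 D1363 (iv D973) (iv F2976)
theorem F4329 : act 3 n1363 = n1363 := d18_1 D1363 (iv D1363) (iv D917) F2066 D917
theorem F4330 : act 5 n1363 = n1022 := d22_2 (iv F2977) D1363 (iv D1022)
def n1364 : Q := act 7 n917
theorem D1364 : act 7 n917 = n1364 := rfl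
theorem F4331 : act 0 n1364 = n922 := d6_1 D1364 (iv D922) (iv F2975)
theorem F4332 : act 2 n1364 = n974 := d17_1 D1364 (iv D974) (iv F2976)
theorem F4333 : act 5 n1364 = n1023 := d26_1 D1364 (iv D1023) (iv F2977)
def n1365 : Q := act 3 n918
theorem D1365 : act 3 n918 = n1365 := rfl
theorem F4334 : act 0 n1365 = n923 := d2_1 D1365 (iv D923) (iv F2978)
theorem F4335 : act 5 n1365 = n1024 := d19_2 (iv F2981) D1365 (iv D1024)
def n1366 : Q := act 6 n918
theorem D1366 : act 6 n918 = n1366 := rfl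
theorem F4336 : act 0 n1366 = n924 := d5_1 D1366 (iv D924) (iv F2978)
theorem F4337 : act 2 n1366 = n920 := d16_1 D1366 (iv D920) (iv F2979)
theorem F4338 : act 4 n1366 = n1366 := d23_1 D1366 (iv D1366) F2980
def n1367 : Q := act 2 n919
theorem D1367 : act 2 n919 = n1367 := rfl
theorem F4339 : act 0 n1367 = n925 := d1_1 D1367 (iv D925) (iv F2982)
theorem F4340 : act 5 n1367 = n1026 := d15_2 (iv F2983) D1367 (iv D1026)
theorem F4341 : act 7 n1367 = n977 := d17_2 (iv F2984) D1367 (iv D977)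
def n1368 : Q := act 4 n919
theorem D1368 : act 4 n919 = n1368 := rfl
theorem F4342 : act 0 n1368 = n926 := d3_1 D1368 (iv D926) (iv F2982)
theorem F4343 : act 3 n1368 = n1368 := d18_1 D1368 (iv D1368) (iv D919) F2069 D919
theorem F4344 : act 5 n1368 = n1027 := d22_2 (iv F2983) D1368 (iv D1027)
theorem F4345 : act 7 n1368 = n978 := d24_2 (iv F2984) D1368 (iv D978)
def n1369 : Q := act 6 n919
theorem D1369 : act 6 n919 = n1369 := rfl
theorem F4346 : act 0 n1369 = n927 := d5_1 D1369 (iv D927) (iv F2982)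
theorem F4347 : act 3 n1369 = n920 := d20_1 D1369 (iv D920) D919
def n1370 : Q := act 5 n920
theorem D1370 : act 5 n920 = n1370 := rfl
theorem F4348 : act 0 n1370 = n928 := d4_1 D1370 (iv D928) (iv F2985)
theorem F4349 : act 4 n1370 = n1370 := d22_1 D1370 (iv D1370) F2986
theorem F4350 : act 6 n1370 = n1029 := d25_2 D920 D1370 (iv D1029) (iv D696) (iv F2070)
def n1371 : Q := act 7 n921
theorem D1371 : act 7 n921 = n1371 := rfl
theorem F4351 : act 2 n1371 = n981 := d17_1 D1371 (iv D981) (iv F2987)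
theorem F4352 : act 4 n1371 = n922 := d24_1 D1371 (iv D922) D921
theorem F4353 : act 5 n1371 = n1030 := d26_1 D1371 (iv D1030) (iv F2989)
def n1372 : Q := act 3 n922
theorem D1372 : act 3 n922 = n1372 := rfl
theorem F4354 : act 5 n1372 = n1031 := d19_2 (iv F2991) D1372 (iv D1031)
theorem F4355 : act 7 n1372 = n923 := d21_2 D922 D1372 (iv D923) (iv D624) D623
def n1373 : Q := act 6 n922
theorem D1373 : act 6 n922 = n1373 := rfl
theorem F4356 : act 2 n1373 = n983 := d16_1 D1373 (iv D983) (iv F2990)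
def n1374 : Q := act 2 n923
theorem D1374 : act 2 n923 = n1374 := rfl
theorem F4357 : act 3 n1374 = n925 := d13_2 D923 D1374 (iv D925) (iv D625) (iv F2073)
theorem F4358 : act 5 n1374 = n1033 := d15_2 (iv F2992) D1374 (iv D1033)
def n1375 : Q := act 4 n923
theorem D1375 : act 4 n923 = n1375 := rfl
theorem F4359 : act 3 n1375 = n1375 := d18_1 D1375 (iv D1375) (iv D923) F2074 D923
theorem F4360 : act 5 n1375 = n1034 := d22_2 (iv F2992) D1375 (iv D1034)
def n1376 : Q := act 6 n923
theorem D1376 : act 6 n923 = n1376 := rfl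
theorem F4361 : act 3 n1376 = n924 := d20_1 D1376 (iv D924) D923
def n1377 : Q := act 5 n924
theorem D1377 : act 5 n924 = n1377 := rfl
theorem F4362 : act 2 n1377 = n928 := d15_1 D1377 (iv D928) (iv F2993)
theorem F4363 : act 4 n1377 = n1377 := d22_1 D1377 (iv D1377) F2994
theorem F4364 : act 6 n1377 = n1036 := d25_2 D924 D1377 (iv D1036) (iv D700) (iv F2075)
def n1378 : Q := act 1 n925
theorem D1378 : act 1 n925 = n1378 := rfl
theorem F4365 : act 2 n1378 = n929 := d7_2 D925 D1378 (iv D929) (iv D627) (iv F2076)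
theorem F4366 : act 7 n1378 = n987 := d12_2 (iv F2996) D1378 (iv D987)
def n1379 : Q := act 4 n925
theorem D1379 : act 4 n925 = n1379 := rfl
theorem F4367 : act 2 n1379 = n926 := d14_1 D1379 (iv D926) D925
theorem F4368 : act 5 n1379 = n1038 := d22_2 (iv F2995) D1379 (iv D1038)
theorem F4369 : act 7 n1379 = n988 := d24_2 (iv F2996) D1379 (iv D988)
def n1380 : Q := act 6 n925
theorem D1380 : act 6 n925 = n1380 := rfl
theorem F4370 : act 2 n1380 = n927 := d16_1 D1380 (iv D927) D925
def n1381 : Q := act 6 n926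
theorem D1381 : act 6 n926 = n1381 := rfl
theorem F4371 : act 1 n1381 = n932 := d11_1 D1381 (iv D932) (iv F2997)
theorem F4372 : act 3 n1381 = n1381 := d20_1 D1381 (iv D1381) F2998
theorem F4373 : act 4 n1381 = n927 := d23_1 D1381 (iv D927) D926
theorem F4374 : act 7 n1381 = n1080 := d27_2 (iv F3000) D1381 (iv D1080) F2387 F2174
def n1382 : Q := act 5 n927
theorem D1382 : act 5 n927 = n1382 := rfl
theorem F4375 : act 3 n1382 = n928 := d19_1 D1382 (iv D928) (iv F3002)
theorem F4376 : act 6 n1382 = n1040 := d25_2 D927 D1382 (iv D1040) (iv D703) (iv F2077)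
def n1383 : Q := act 7 n927
theorem D1383 : act 7 n927 = n1383 := rfl
theorem F4377 : act 1 n1383 = n934 := d12_1 D1383 (iv D934) (iv F3001)
theorem F4378 : act 4 n1383 = n1080 := d24_1 D1383 (iv F4374) F4373
theorem F4379 : act 6 n1383 = n990 := d27_1 D1383 (iv D990) (iv D661) (iv F2078) D927
def n1384 : Q := act 1 n928
theorem D1384 : act 1 n928 = n1384 := rfl
theorem F4380 : act 4 n1384 = n1384 := d9_2 F3003 D1384 (iv D1384)
theorem F4381 : act 5 n1384 = n935 := d10_2 D928 D1384 (iv D935) (iv D630) (iv F2079)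
theorem F4382 : act 6 n1384 = n1041 := d11_2 (iv F3004) D1384 (iv D1041)
theorem F4383 : act 7 n1384 = n1328 := d12_2 F4296 D1384 (iv F4293)
def n1385 : Q := act 0 n929
theorem D1385 : act 0 n929 = n1385 := rfl
theorem F4384 : act 7 n1385 = n991 := d6_2 (iv F3005) D1385 (iv D991)
def n1386 : Q := act 4 n929
theorem D1386 : act 4 n929 = n1386 := rfl
theorem F4385 : act 1 n1386 = n930 := d9_1 D1386 (iv D930) D929
theorem F4386 : act 7 n1386 = n992 := d24_2 (iv F3005) D1386 (iv D992)
def n1387 : Q := act 5 n929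
theorem D1387 : act 5 n929 = n1387 := rfl
theorem F4387 : act 1 n1387 = n938 := d10_1 D1387 (iv D938) (iv D631) (iv F2081) D929
theorem F4388 : act 7 n1387 = n993 := d26_2 (iv F3005) D1387 (iv D993)
def n1388 : Q := act 6 n929
theorem D1388 : act 6 n929 = n1388 := rfl
theorem F4389 : act 1 n1388 = n931 := d11_1 D1388 (iv D931) D929
def n1389 : Q := act 3 n930
theorem D1389 : act 3 n930 = n1389 := rfl
theorem F4390 : act 2 n1389 = n1389 := d13_1 D1389 (iv D1389) F3006 F2083 (iv F3006)
theorem F4391 : act 5 n1389 = n940 := d19_2 (iv F3007) D1389 (iv D940)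
theorem F4392 : act 7 n1389 = n1139 := d21_2 (iv F3008) D1389 (iv D1139) (iv D775) F2185
def n1390 : Q := act 6 n930
theorem D1390 : act 6 n930 = n1390 := rfl
theorem F4393 : act 2 n1390 = n932 := d16_1 D1390 (iv D932) (iv F3006)
theorem F4394 : act 4 n1390 = n931 := d23_1 D1390 (iv D931) D930
theorem F4395 : act 7 n1390 = n1129 := d27_2 (iv F3008) D1390 (iv D1129) F2496 (iv F2186)
def n1391 : Q := act 5 n931
theorem D1391 : act 5 n931 = n1391 := rfl
theorem F4396 : act 2 n1391 = n933 := d15_1 D1391 (iv D933) (iv F3009)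
theorem F4397 : act 3 n1391 = n1353 := d19_1 D1391 F4302 F4244
theorem F4398 : act 6 n1391 = n942 := d25_2 D931 D1391 (iv D942) (iv D633) (iv F2081)
def n1392 : Q := act 7 n931
theorem D1392 : act 7 n931 = n1392 := rfl
theorem F4399 : act 2 n1392 = n934 := d17_1 D1392 (iv D934) (iv F3009)
theorem F4400 : act 4 n1392 = n1129 := d24_1 D1392 (iv F4395) F4394
theorem F4401 : act 6 n1392 = n995 := d27_1 D1392 (iv D995) (iv D665) (iv F2082) D931
def n1393 : Q := act 5 n932
theorem D1393 : act 5 n932 = n1393 := rfl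
theorem F4402 : act 3 n1393 = n1393 := d19_1 D1393 (iv D1393) F3010
theorem F4403 : act 4 n1393 = n933 := d22_1 D1393 (iv D933) (iv F3011)
theorem F4404 : act 6 n1393 = n943 := d25_2 D932 D1393 (iv D943) (iv D634) (iv F2084)
theorem F4405 : act 7 n1393 = n1130 := d26_2 (iv F3012) D1393 (iv D1130)
def n1394 : Q := act 1 n933
theorem D1394 : act 1 n933 = n1394 := rfl
theorem F4406 : act 3 n1394 = n935 := d8_2 (iv F3013) D1394 (iv D935)
theorem F4407 : act 6 n1394 = n944 := d11_2 (iv F3014) D1394 (iv D944)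
def n1395 : Q := act 7 n933
theorem D1395 : act 7 n933 = n1395 := rfl
theorem F4408 : act 3 n1395 = n1333 := d21_1 D1395 (iv D1333) F2936 (iv F2090) (iv F3013)
theorem F4409 : act 4 n1395 = n1130 := d24_1 D1395 (iv F4405) F4403
theorem F4410 : act 5 n1395 = n934 := d26_1 D1395 (iv D934) D933
theorem F4411 : act 6 n1395 = n1395 := d27_1 D1395 (iv D1395) F3014 F2103 (iv F3014)
def n1396 : Q := act 0 n935
theorem D1396 : act 0 n935 = n1396 := rfl
theorem F4412 : act 4 n1396 = n1396 := d3_2 F3017 D1396 (iv D1396)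
theorem F4413 : act 6 n1396 = n945 := d5_2 (iv F3018) D1396 (iv D945)
theorem F4414 : act 7 n1396 = n1320 := d6_2 (iv F3019) D1396 F4214
def n1397 : Q := act 2 n935
theorem D1397 : act 2 n935 = n1397 := rfl
theorem F4415 : act 1 n1397 = n1346 := d7_1 D1397 F4282 F2958 (iv F2087) D935
theorem F4416 : act 4 n1397 = n1397 := d14_2 F3017 D1397 (iv D1397)
theorem F4417 : act 6 n1397 = n946 := d16_2 (iv F3018) D1397 (iv D946)
theorem F4418 : act 7 n1397 = n1324 := d17_2 (iv F3019) D1397 F4226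
def n1398 : Q := act 4 n936
theorem D1398 : act 4 n936 = n1398 := rfl
theorem F4419 : act 0 n1398 = n937 := d3_1 D1398 (iv D937) D936
theorem F4420 : act 2 n1398 = n1046 := d14_1 D1398 (iv D1046) (iv F3020)
theorem F4421 : act 7 n1398 = n996 := d24_2 (iv F3021) D1398 (iv D996)
def n1399 : Q := act 5 n936
theorem D1399 : act 5 n936 = n1399 := rfl
theorem F4422 : act 0 n1399 = n938 := d4_1 D1399 (iv D938) D936
theorem F4423 : act 2 n1399 = n1047 := d15_1 D1399 (iv D1047) (iv F3020)
theorem F4424 : act 7 n1399 = n997 := d26_2 (iv F3021) D1399 (iv D997)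
def n1400 : Q := act 6 n936
theorem D1400 : act 6 n936 = n1400 := rfl
theorem F4425 : act 0 n1400 = n939 := d5_1 D1400 (iv D939) D936
theorem F4426 : act 2 n1400 = n1048 := d16_1 D1400 (iv D1048) (iv F3020)
theorem F4427 : act 3 n1400 = n1356 := d20_1 D1400 F4312 F4249
theorem F4428 : act 7 n1400 = n1400 := d27_2 (iv F3021) D1400 (iv D1400) F3021 F2195
def n1401 : Q := act 3 n937
theorem D1401 : act 3 n937 = n1401 := rfl
theorem F4429 : act 1 n1401 = n940 := d8_1 D1401 (iv D940) (iv F3022)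
def n1402 : Q := act 5 n937
theorem D1402 : act 5 n937 = n1402 := rfl
theorem F4430 : act 2 n1402 = n1049 := d15_1 D1402 (iv D1049) (iv F3023)
theorem F4431 : act 4 n1402 = n938 := d22_1 D1402 (iv D938) D937
theorem F4432 : act 7 n1402 = n999 := d26_2 (iv F3024) D1402 (iv D999)
def n1403 : Q := act 6 n938
theorem D1403 : act 6 n938 = n1403 := rfl
theorem F4433 : act 2 n1403 = n1050 := d16_1 D1403 (iv D1050) (iv F3025)
def n1404 : Q := act 5 n939
theorem D1404 : act 5 n939 = n1404 := rfl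
theorem F4434 : act 2 n1404 = n1051 := d15_1 D1404 (iv D1051) (iv F3028)
theorem F4435 : act 3 n1404 = n1358 := d19_1 D1404 (iv D1358) (iv F3029)
theorem F4436 : act 7 n1404 = n1404 := d26_2 F3030 D1404 (iv D1404)
def n1405 : Q := act 6 n940
theorem D1405 : act 6 n940 = n1405 := rfl
theorem F4437 : act 2 n1405 = n1405 := d16_1 D1405 (iv D1405) F3031
theorem F4438 : act 3 n1405 = n941 := d20_1 D1405 (iv D941) D940
theorem F4439 : act 4 n1405 = n1359 := d23_1 D1405 F4321 F4258
def n1406 : Q := act 7 n940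
theorem D1406 : act 7 n940 = n1406 := rfl
theorem F4440 : act 2 n1406 = n1406 := d17_1 D1406 (iv D1406) F3031
theorem F4441 : act 3 n1406 = n1001 := d21_1 D1406 (iv D1001) (iv D670) (iv F2094) D940
theorem F4442 : act 5 n1406 = n1139 := d26_1 D1406 (iv F4392) F4391
def n1407 : Q := act 5 n941
theorem D1407 : act 5 n941 = n1407 := rfl
theorem F4443 : act 2 n1407 = n943 := d15_1 D1407 (iv D943) (iv F3032)
theorem F4444 : act 4 n1407 = n942 := d22_1 D1407 (iv D942) (iv F3033)
theorem F4445 : act 7 n1407 = n1407 := d26_2 F3034 D1407 (iv D1407)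
def n1408 : Q := act 1 n942
theorem D1408 : act 1 n942 = n1408 := rfl
theorem F4446 : act 3 n1408 = n1351 := d8_2 (iv F3036) D1408 (iv D1351)
theorem F4447 : act 7 n1408 = n1408 := d12_2 F3037 D1408 (iv D1408)
def n1409 : Q := act 0 n944
theorem D1409 : act 0 n944 = n1409 := rfl
theorem F4448 : act 3 n1409 = n945 := d2_2 (iv F3041) D1409 (iv D945)
theorem F4449 : act 5 n1409 = n1052 := d4_2 (iv F3042) D1409 (iv D1052)
theorem F4450 : act 7 n1409 = n1409 := d6_2 F3043 D1409 (iv D1409)
def n1410 : Q := act 2 n944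
theorem D1410 : act 2 n944 = n1410 := rfl
theorem F4451 : act 4 n1410 = n1404 := d14_2 F3377 D1410 F4434
theorem F4452 : act 5 n1410 = n1053 := d15_2 (iv F3042) D1410 (iv D1053)
theorem F4453 : act 7 n1410 = n1410 := d17_2 F3043 D1410 (iv D1410)
def n1411 : Q := act 2 n945
theorem D1411 : act 2 n945 = n1411 := rfl
theorem F4454 : act 0 n1411 = n946 := d1_1 D1411 (iv D946) D945
theorem F4455 : act 4 n1411 = n1411 := d14_2 F3044 D1411 (iv D1411)
theorem F4456 : act 5 n1411 = n1054 := d15_2 (iv F3045) D1411 (iv D1054)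
theorem F4457 : act 7 n1411 = n947 := d17_2 (iv F3046) D1411 (iv D947)
def n1412 : Q := act 3 n946
theorem D1412 : act 3 n946 = n1412 := rfl
theorem F4458 : act 1 n1412 = n1345 := d8_1 D1412 (iv D1345) (iv F3047)
theorem F4459 : act 5 n1412 = n1055 := d19_2 (iv F3049) D1412 (iv D1055)
def n1413 : Q := act 1 n947
theorem D1413 : act 1 n947 = n1413 := rfl
theorem F4460 : act 0 n1413 = n1338 := d0_1 D1413 (iv D1338) F2942 (iv F2111) (iv F3051)
theorem F4461 : act 4 n1413 = n1413 := d9_2 F3052 D1413 (iv D1413)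
theorem F4462 : act 6 n1413 = n1316 := d11_2 (iv F3054) D1413 (iv D1316)
def n1414 : Q := act 3 n947
theorem D1414 : act 3 n947 = n1414 := rfl
theorem F4463 : act 0 n1414 = n948 := d2_1 D1414 (iv D948) (iv F3051)
theorem F4464 : act 2 n1414 = n1414 := d13_1 D1414 (iv D1414) (iv D947) F2107 D947
theorem F4465 : act 5 n1414 = n1057 := d19_2 (iv F3053) D1414 (iv D1057)
theorem F4466 : act 6 n1414 = n1317 := d20_2 (iv F3054) D1414 (iv D1317)
def n1415 : Q := act 4 n948
theorem D1415 : act 4 n948 = n1415 := rfl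
theorem F4467 : act 1 n1415 = n1343 := d9_1 D1415 (iv D1343) (iv F3055)
theorem F4468 : act 2 n1415 = n1415 := d14_1 D1415 (iv D1415) F3056
theorem F4469 : act 3 n1415 = n1415 := d18_1 D1415 (iv D1415) (iv D948) F2112 D948
theorem F4470 : act 5 n1415 = n1058 := d22_2 (iv F3057) D1415 (iv D1058)
theorem F4471 : act 6 n1415 = n1321 := d23_2 (iv F3058) D1415 (iv D1321)
def n1416 : Q := act 7 n948
theorem D1416 : act 7 n948 = n1416 := rfl
theorem F4472 : act 1 n1416 = n1344 := d12_1 D1416 (iv D1344) (iv F3055)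
theorem F4473 : act 2 n1416 = n1416 := d17_1 D1416 (iv D1416) F3056
theorem F4474 : act 5 n1416 = n1059 := d26_1 D1416 (iv D1059) (iv F3057)
def n1417 : Q := act 3 n949
theorem D1417 : act 3 n949 = n1417 := rfl
theorem F4475 : act 0 n1417 = n1417 := d2_1 D1417 (iv D1417) F3059
theorem F4476 : act 1 n1417 = n950 := d8_1 D1417 (iv D950) D949
theorem F4477 : act 6 n1417 = n970 := d20_2 (iv F3061) D1417 (iv D970)
def n1418 : Q := act 5 n949
theorem D1418 : act 5 n949 = n1418 := rfl
theorem F4478 : act 0 n1418 = n1418 := d4_1 D1418 (iv D1418) F3059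
theorem F4479 : act 1 n1418 = n1418 := d10_1 D1418 (iv D1418) (iv D949) F2117 D949
theorem F4480 : act 2 n1418 = n1011 := d15_1 D1418 (iv F3940) F3938
theorem F4481 : act 4 n1418 = n1003 := d22_1 D1418 (iv D1003) (iv F3060)
def n1419 : Q := act 7 n949
theorem D1419 : act 7 n949 = n1419 := rfl
theorem F4482 : act 0 n1419 = n1419 := d6_1 D1419 (iv D1419) F3059
theorem F4483 : act 1 n1419 = n951 := d12_1 D1419 (iv D951) D949
theorem F4484 : act 4 n1419 = n1004 := d24_1 D1419 (iv D1004) (iv F3060)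
def n1420 : Q := act 4 n950
theorem D1420 : act 4 n950 = n1420 := rfl
theorem F4485 : act 0 n1420 = n954 := d3_1 D1420 (iv D954) (iv F3062)
theorem F4486 : act 3 n1420 = n1005 := d18_1 D1420 (iv D1005) (iv D672) (iv F2116) D950
theorem F4487 : act 5 n1420 = n1420 := d22_2 F3063 D1420 (iv D1420)
theorem F4488 : act 6 n1420 = n973 := d23_2 (iv F3064) D1420 (iv D973)
def n1421 : Q := act 7 n950
theorem D1421 : act 7 n950 = n1421 := rfl
theorem F4489 : act 0 n1421 = n955 := d6_1 D1421 (iv D955) (iv F3062)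
theorem F4490 : act 5 n1421 = n1421 := d26_1 D1421 (iv D1421) F3063
def n1422 : Q := act 3 n951
theorem D1422 : act 3 n951 = n1422 := rfl
theorem F4491 : act 0 n1422 = n956 := d2_1 D1422 (iv D956) (iv F3065)
theorem F4492 : act 4 n1422 = n1422 := d18_2 (iv F3067) D1422 (iv D1422) F3067 F2214
theorem F4493 : act 5 n1422 = n1422 := d19_2 F3068 D1422 (iv D1422)
def n1423 : Q := act 6 n951
theorem D1423 : act 6 n951 = n1423 := rfl
theorem F4494 : act 0 n1423 = n957 := d5_1 D1423 (iv D957) (iv F3065)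
theorem F4495 : act 2 n1423 = n953 := d16_1 D1423 (iv D953) (iv F3066)
theorem F4496 : act 4 n1423 = n1006 := d23_1 D1423 (iv D1006) (iv F3067)
theorem F4497 : act 7 n1423 = n976 := d27_2 D951 D1423 (iv D976) (iv D652) (iv F2118)
theorem F4498 : act 5 n1104 = n1423 := d26_3 F4497 F3143 D1104
def n1424 : Q := act 2 n952
theorem D1424 : act 2 n952 = n1424 := rfl
theorem F4499 : act 0 n1424 = n958 := d1_1 D1424 (iv D958) (iv F3069)
theorem F4500 : act 5 n1424 = n1424 := d15_2 F3070 D1424 (iv D1424)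
def n1425 : Q := act 4 n952
theorem D1425 : act 4 n952 = n1425 := rfl
theorem F4501 : act 0 n1425 = n959 := d3_1 D1425 (iv D959) (iv F3069)
theorem F4502 : act 3 n1425 = n1007 := d18_1 D1425 (iv D1007) (iv D674) (iv F2120) D952
theorem F4503 : act 5 n1425 = n1425 := d22_2 F3070 D1425 (iv D1425)
theorem F4504 : act 6 n1103 = n1425 := d20_0 F4502 F3236 D1103
def n1426 : Q := act 6 n952
theorem D1426 : act 6 n952 = n1426 := rfl
theorem F4505 : act 0 n1426 = n960 := d5_1 D1426 (iv D960) (iv F3069)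
theorem F4506 : act 3 n1426 = n953 := d20_1 D1426 (iv D953) D952
theorem F4507 : act 4 n1426 = n1103 := d23_1 D1426 F4504 (iv D1425)
def n1427 : Q := act 5 n953
theorem D1427 : act 5 n953 = n1427 := rfl
theorem F4508 : act 0 n1427 = n961 := d4_1 D1427 (iv D961) (iv F3071)
theorem F4509 : act 2 n1427 = n1104 := d15_1 D1427 F4498 F4495
theorem F4510 : act 4 n1427 = n1008 := d22_1 D1427 (iv D1008) (iv F3072)
theorem F4511 : act 6 n1427 = n1427 := d25_2 D953 D1427 (iv D1427) (iv D953) F2121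
theorem F4512 : act 7 n1427 = n980 := d26_2 (iv F3073) D1427 (iv D980)
def n1428 : Q := act 7 n954
theorem D1428 : act 7 n954 = n1428 := rfl
theorem F4513 : act 1 n1428 = n1428 := d12_1 D1428 (iv D1428) F3074
theorem F4514 : act 3 n1428 = n1428 := d21_1 D1428 (iv D1428) F3075 F2228 (iv F3075)
theorem F4515 : act 4 n1428 = n955 := d24_1 D1428 (iv D955) D954
theorem F4516 : act 5 n1428 = n1428 := d26_1 D1428 (iv D1428) F3076
def n1429 : Q := act 3 n955
theorem D1429 : act 3 n955 = n1429 := rfl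
theorem F4517 : act 1 n1429 = n1429 := d8_1 D1429 (iv D1429) F3078
theorem F4518 : act 4 n1429 = n1429 := d18_2 F4515 D1429 (iv D1429) (iv F4515) F4514
theorem F4519 : act 5 n1429 = n1429 := d19_2 F3079 D1429 (iv D1429)
theorem F4520 : act 7 n1429 = n956 := d21_2 D955 D1429 (iv D956) (iv D642) D641
def n1430 : Q := act 6 n955
theorem D1430 : act 6 n955 = n1430 := rfl
theorem F4521 : act 1 n1430 = n1430 := d11_1 D1430 (iv D1430) F3078
theorem F4522 : act 7 n1430 = n983 := d27_2 D955 D1430 (iv D983) (iv D656) (iv F2124)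
def n1431 : Q := act 2 n956
theorem D1431 : act 2 n956 = n1431 := rfl
theorem F4523 : act 3 n1431 = n958 := d13_2 D956 D1431 (iv D958) (iv D643) (iv F2126)
theorem F4524 : act 4 n1431 = n1431 := d14_2 F3081 D1431 (iv D1431)
theorem F4525 : act 5 n1431 = n1431 := d15_2 F3082 D1431 (iv D1431)
def n1432 : Q := act 1 n958
theorem D1432 : act 1 n958 = n1432 := rfl
theorem F4526 : act 2 n1432 = n962 := d7_2 D958 D1432 (iv D962) (iv D645) (iv F2129)
def n1433 : Q := act 4 n958
theorem D1433 : act 4 n958 = n1433 := rfl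
theorem F4527 : act 2 n1433 = n959 := d14_1 D1433 (iv D959) D958
theorem F4528 : act 3 n1433 = n1433 := d18_1 D1433 (iv D1433) (iv F4523) F4524 F4523
theorem F4529 : act 5 n1433 = n1433 := d22_2 F3088 D1433 (iv D1433)
theorem F4530 : act 6 n1105 = n1433 := d16_0 F4527 (iv F3092) D1105
def n1434 : Q := act 6 n958
theorem D1434 : act 6 n958 = n1434 := rfl
theorem F4531 : act 2 n1434 = n960 := d16_1 D1434 (iv D960) D958
theorem F4532 : act 4 n1434 = n1105 := d23_1 D1434 F4530 (iv D1433)
def n1435 : Q := act 5 n960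
theorem D1435 : act 5 n960 = n1435 := rfl
theorem F4533 : act 1 n1435 = n1435 := d10_1 D1435 (iv D1435) F3093 F2141 (iv F3093)
theorem F4534 : act 3 n1435 = n961 := d19_1 D1435 (iv D961) (iv F3094)
theorem F4535 : act 4 n1435 = n1017 := d22_1 D1435 F3274 (iv F3095)
theorem F4536 : act 6 n1435 = n1435 := d25_2 D960 D1435 (iv D1435) (iv D960) F2130
def n1436 : Q := act 7 n960
theorem D1436 : act 7 n960 = n1436 := rfl
theorem F4537 : act 1 n1436 = n965 := d12_1 D1436 (iv D965) (iv F3093)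
theorem F4538 : act 3 n1436 = n990 := d21_1 D1436 (iv D990) F2176 (iv F2133) (iv F3094)
theorem F4539 : act 4 n1436 = n1077 := d24_1 D1436 F3451 (iv F3095)
def n1437 : Q := act 0 n962
theorem D1437 : act 0 n962 = n1437 := rfl
theorem F4540 : act 3 n1437 = n1437 := d2_2 F3101 D1437 (iv D1437)
def n1438 : Q := act 4 n962
theorem D1438 : act 4 n962 = n1438 := rfl
theorem F4541 : act 1 n1438 = n963 := d9_1 D1438 (iv D963) D962
theorem F4542 : act 3 n1161 = n1438 := d8_0 F4541 (iv F3104) (iv F3678)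
theorem F4543 : act 6 n1153 = n1438 := d11_0 F4541 F3105 D1153
def n1439 : Q := act 5 n962
theorem D1439 : act 5 n962 = n1439 := rfl
theorem F4544 : act 1 n1439 = n968 := d10_1 D1439 (iv D968) (iv D648) (iv F2135) D962
theorem F4545 : act 3 n1439 = n1439 := d19_1 D1439 (iv D1439) F3101
def n1440 : Q := act 6 n962
theorem D1440 : act 6 n962 = n1440 := rfl
theorem F4546 : act 1 n1440 = n964 := d11_1 D1440 (iv D964) D962
theorem F4547 : act 3 n1440 = n1440 := d20_1 D1440 (iv D1440) F3101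
theorem F4548 : act 4 n1440 = n1153 := d23_1 D1440 F4543 (iv D1438)
def n1441 : Q := act 7 n964
theorem D1441 : act 7 n964 = n1441 := rfl
theorem F4549 : act 2 n1441 = n965 := d17_1 D1441 (iv D965) (iv F3106)
theorem F4550 : act 4 n1441 = n1125 := d24_1 D1441 F3577 (iv F3108)
theorem F4551 : act 5 n1441 = n1441 := d26_1 D1441 (iv D1441) F3109
def n1442 : Q := act 4 n966
theorem D1442 : act 4 n966 = n1442 := rfl
theorem F4552 : act 0 n1442 = n967 := d3_1 D1442 (iv D967) D966
theorem F4553 : act 2 n1442 = n1442 := d14_1 D1442 (iv D1442) F3113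
theorem F4554 : act 6 n1442 = n1442 := d23_2 F3115 D1442 (iv D1442)
def n1443 : Q := act 5 n966
theorem D1443 : act 5 n966 = n1443 := rfl
theorem F4555 : act 0 n1443 = n968 := d4_1 D1443 (iv D968) D966
theorem F4556 : act 2 n1443 = n1443 := d15_1 D1443 (iv D1443) F3113
theorem F4557 : act 3 n1443 = n1443 := d19_1 D1443 (iv D1443) F3114
def n1444 : Q := act 3 n967
theorem D1444 : act 3 n967 = n1444 := rfl
theorem F4558 : act 1 n1444 = n969 := d8_1 D1444 (iv D969) (iv F3116)
theorem F4559 : act 4 n1444 = n1444 := d18_2 D967 D1444 (iv D1444) (iv D967) F2143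
theorem F4560 : act 6 n1444 = n1444 := d20_2 F3118 D1444 (iv D1444)
def n1445 : Q := act 5 n967
theorem D1445 : act 5 n967 = n1445 := rfl
theorem F4561 : act 2 n1445 = n1445 := d15_1 D1445 (iv D1445) F3117
theorem F4562 : act 4 n1445 = n968 := d22_1 D1445 (iv D968) D967
def n1446 : Q := act 6 n968
theorem D1446 : act 6 n968 = n1446 := rfl
theorem F4563 : act 2 n1446 = n1446 := d16_1 D1446 (iv D1446) F3119
theorem F4564 : act 3 n1446 = n1446 := d20_1 D1446 (iv D1446) F3120
theorem F4565 : act 5 n1446 = n1446 := d25_1 D1446 (iv D1446) (iv D968) F2144 D968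
def n1447 : Q := act 7 n969
theorem D1447 : act 7 n969 = n1447 := rfl
theorem F4566 : act 2 n1447 = n1010 := d17_1 D1447 (iv D1010) (iv F3121)
theorem F4567 : act 4 n1447 = n1447 := d24_1 D1447 (iv D1447) F3122
theorem F4568 : act 5 n1447 = n1162 := d26_1 D1447 (iv D1162) (iv F3123)
def n1448 : Q := act 2 n970
theorem D1448 : act 2 n970 = n1448 := rfl
theorem F4569 : act 0 n1448 = n1448 := d1_1 D1448 (iv D1448) F3125
def n1449 : Q := act 4 n970
theorem D1449 : act 4 n970 = n1449 := rfl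
theorem F4570 : act 0 n1449 = n1449 := d3_1 D1449 (iv D1449) F3125
theorem F4571 : act 1 n1449 = n973 := d9_1 D1449 (iv D973) (iv F3126)
theorem F4572 : act 3 n1449 = n1011 := d18_1 D1449 (iv D1011) (iv D682) (iv F2148) D970
def n1450 : Q := act 5 n970
theorem D1450 : act 5 n970 = n1450 := rfl
theorem F4573 : act 0 n1450 = n1450 := d4_1 D1450 (iv D1450) F3125
theorem F4574 : act 1 n1450 = n1062 := d10_1 D1450 (iv D1062) F2359 (iv F2150) (iv F3126)
theorem F4575 : act 3 n1450 = n971 := d19_1 D1450 (iv D971) D970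
def n1451 : Q := act 7 n970
theorem D1451 : act 7 n970 = n1451 := rfl
theorem F4576 : act 0 n1451 = n1451 := d6_1 D1451 (iv D1451) F3125
theorem F4577 : act 1 n1451 = n974 := d12_1 D1451 (iv D974) (iv F3126)
def n1452 : Q := act 7 n971
theorem D1452 : act 7 n971 = n1452 := rfl
theorem F4578 : act 0 n1452 = n1452 := d6_1 D1452 (iv D1452) F3127
theorem F4579 : act 1 n1452 = n1064 := d12_1 D1452 (iv D1064) (iv F3128)
theorem F4580 : act 4 n1452 = n1013 := d24_1 D1452 (iv D1013) (iv F3129)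
theorem F4581 : act 5 n1452 = n972 := d26_1 D1452 (iv D972) D971
theorem F4582 : act 6 n1452 = n1452 := d27_1 D1452 (iv D1452) (iv F4158) F4159 F4158
def n1453 : Q := act 3 n972
theorem D1453 : act 3 n972 = n1453 := rfl
theorem F4583 : act 0 n1453 = n1453 := d2_1 D1453 (iv D1453) F3130
theorem F4584 : act 1 n1453 = n975 := d8_1 D1453 (iv D975) (iv F3131)
def n1454 : Q := act 6 n972
theorem D1454 : act 6 n972 = n1454 := rfl
theorem F4585 : act 0 n1454 = n1454 := d5_1 D1454 (iv D1454) F3130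
theorem F4586 : act 1 n1454 = n976 := d11_1 D1454 (iv D976) (iv F3131)
theorem F4587 : act 4 n1454 = n1015 := d23_1 D1454 (iv D1015) (iv F3132)
theorem F4588 : act 5 n1454 = n1454 := d25_1 D1454 (iv D1454) (iv F4581) F4582 F4581
def n1455 : Q := act 7 n973
theorem D1455 : act 7 n973 = n1455 := rfl
theorem F4589 : act 0 n1455 = n981 := d6_1 D1455 (iv D981) (iv F3133)
theorem F4590 : act 4 n1455 = n974 := d24_1 D1455 (iv D974) D973
theorem F4591 : act 5 n1455 = n1066 := d26_1 D1455 (iv D1066) (iv F3135)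
def n1456 : Q := act 3 n974
theorem D1456 : act 3 n974 = n1456 := rfl
theorem F4592 : act 0 n1456 = n982 := d2_1 D1456 (iv D982) (iv F3136)
theorem F4593 : act 5 n1456 = n1067 := d19_2 (iv F3137) D1456 (iv D1067)
theorem F4594 : act 7 n1456 = n975 := d21_2 D974 D1456 (iv D975) (iv D652) D651
def n1457 : Q := act 6 n974
theorem D1457 : act 6 n974 = n1457 := rfl
theorem F4595 : act 0 n1457 = n983 := d5_1 D1457 (iv D983) (iv F3136)
def n1458 : Q := act 2 n975
theorem D1458 : act 2 n975 = n1458 := rfl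
theorem F4596 : act 0 n1458 = n984 := d1_1 D1458 (iv D984) (iv F3138)
theorem F4597 : act 3 n1458 = n977 := d13_2 D975 D1458 (iv D977) (iv D653) (iv F2152)
theorem F4598 : act 5 n1458 = n1069 := d15_2 (iv F3139) D1458 (iv D1069)
def n1459 : Q := act 4 n975
theorem D1459 : act 4 n975 = n1459 := rfl
theorem F4599 : act 0 n1459 = n985 := d3_1 D1459 (iv D985) (iv F3138)
theorem F4600 : act 3 n1459 = n980 := d18_1 D1459 F3155 (iv D687) (iv F2153) D975
theorem F4601 : act 5 n1459 = n979 := d22_2 (iv F3139) D1459 F3152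
theorem F4602 : act 6 n1074 = n1459 := d25_0 F4601 (iv D979) F2156 D724 D1074
def n1460 : Q := act 6 n975
theorem D1460 : act 6 n975 = n1460 := rfl
theorem F4603 : act 0 n1460 = n986 := d5_1 D1460 (iv D986) (iv F3138)
theorem F4604 : act 3 n1460 = n976 := d20_1 D1460 (iv D976) D975
theorem F4605 : act 4 n1460 = n1074 := d23_1 D1460 F4602 (iv D1459)
theorem F4606 : act 5 n1460 = n1073 := d25_1 D1460 (iv D1073) (iv F3148) (iv F3149) (iv F3139)
def n1461 : Q := act 1 n977
theorem D1461 : act 1 n977 = n1461 := rfl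
def n1462 : Q := act 4 n977
theorem D1462 : act 4 n977 = n1462 := rfl
theorem F4607 : act 0 n1462 = n988 := d3_1 D1462 (iv D988) (iv F3144)
theorem F4608 : act 2 n1462 = n978 := d14_1 D1462 (iv D978) D977
theorem F4609 : act 5 n1462 = n1071 := d22_2 (iv F3145) D1462 (iv D1071)
theorem F4610 : act 3 n1072 = n1462 := d13_0 F4608 F3147 F2275 (iv F2379) (iv F3435)
theorem F4611 : act 6 n1069 = n1462 := d16_0 F4608 (iv F3149) D1069
def n1463 : Q := act 6 n977
theorem D1463 : act 6 n977 = n1463 := rfl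
theorem F4612 : act 0 n1463 = n989 := d5_1 D1463 (iv D989) (iv F3144)
theorem F4613 : act 2 n1463 = n979 := d16_1 D1463 (iv D979) D977
theorem F4614 : act 4 n1463 = n1069 := d23_1 D1463 F4611 (iv D1462)
def n1464 : Q := act 7 n979
theorem D1464 : act 7 n979 = n1464 := rfl
theorem F4615 : act 0 n1464 = n990 := d6_1 D1464 (iv D990) (iv F3150)
theorem F4616 : act 4 n1464 = n1067 := d24_1 D1464 F3426 (iv F3152)
def n1465 : Q := act 1 n980
theorem D1465 : act 1 n980 = n1465 := rfl
theorem F4617 : act 0 n1465 = n1465 := d0_1 D1465 (iv D1465) F3153 F2178 (iv F3153)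
theorem F4618 : act 2 n1465 = n1465 := d7_2 (iv F3154) D1465 (iv D1465) F3154 F2440
theorem F4619 : act 4 n1465 = n1014 := d9_2 (iv F3155) D1465 F3261
theorem F4620 : act 6 n1465 = n1076 := d11_2 (iv F3156) D1465 (iv D1076)
def n1466 : Q := act 3 n981
theorem D1466 : act 3 n981 = n1466 := rfl
theorem F4621 : act 1 n1466 = n1466 := d8_1 D1466 (iv D1466) F3157
theorem F4622 : act 5 n1466 = n1077 := d19_2 (iv F3159) D1466 (iv D1077)
theorem F4623 : act 7 n1466 = n1017 := d21_2 D981 D1466 (iv D1017) (iv D690) (iv F2160)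
def n1467 : Q := act 6 n981
theorem D1467 : act 6 n981 = n1467 := rfl
theorem F4624 : act 1 n1467 = n1467 := d11_1 D1467 (iv D1467) F3157
theorem F4625 : act 4 n1467 = n983 := d23_1 D1467 (iv D983) (iv F3158)
def n1468 : Q := act 2 n982
theorem D1468 : act 2 n982 = n1468 := rfl
theorem F4626 : act 5 n1468 = n1079 := d15_2 (iv F3161) D1468 (iv D1079)
theorem F4627 : act 7 n1468 = n984 := d17_2 (iv F3162) D1468 (iv D984)
def n1469 : Q := act 4 n982
theorem D1469 : act 4 n982 = n1469 := rfl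
theorem F4628 : act 1 n1469 = n1469 := d9_1 D1469 (iv D1469) F3160
theorem F4629 : act 5 n1469 = n990 := d22_2 (iv F3161) D1469 F3182
theorem F4630 : act 7 n1469 = n985 := d24_2 (iv F3162) D1469 (iv D985)
def n1470 : Q := act 6 n982
theorem D1470 : act 6 n982 = n1470 := rfl
theorem F4631 : act 1 n1470 = n1470 := d11_1 D1470 (iv D1470) F3160
theorem F4632 : act 3 n1470 = n983 := d20_1 D1470 (iv D983) D982
def n1471 : Q := act 5 n983
theorem D1471 : act 5 n983 = n1471 := rfl
theorem F4633 : act 6 n1471 = n1081 := d25_2 D983 D1471 (iv D1081) (iv D728) (iv F2163)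
def n1472 : Q := act 1 n984
theorem D1472 : act 1 n984 = n1472 := rfl
theorem F4634 : act 2 n1472 = n1472 := d7_2 D984 D1472 (iv D1472) (iv D984) F2164
theorem F4635 : act 3 n1472 = n987 := d8_2 (iv F3164) D1472 (iv D987)
def n1473 : Q := act 4 n984
theorem D1473 : act 4 n984 = n1473 := rfl
theorem F4636 : act 2 n1473 = n985 := d14_1 D1473 (iv D985) D984
theorem F4637 : act 3 n1473 = n1088 := d18_1 D1473 F3471 F3177 (iv D988) (iv F3164)
theorem F4638 : act 5 n1473 = n989 := d22_2 (iv F3165) D1473 F3180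
theorem F4639 : act 6 n1087 = n1473 := d25_0 F4638 (iv D989) F2170 D732 (iv F3469)
def n1474 : Q := act 6 n984
theorem D1474 : act 6 n984 = n1474 := rfl
theorem F4640 : act 2 n1474 = n986 := d16_1 D1474 (iv D986) D984
theorem F4641 : act 3 n1474 = n989 := d20_1 D1474 (iv D989) (iv F3164)
theorem F4642 : act 4 n1474 = n1087 := d23_1 D1474 F4639 (iv D1473)
theorem F4643 : act 5 n1474 = n1088 := d25_1 D1474 (iv D1088) (iv F3176) (iv F3178) (iv F3165)
def n1475 : Q := act 0 n987
theorem D1475 : act 0 n987 = n1475 := rfl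
theorem F4644 : act 2 n1475 = n991 := d1_2 (iv F3174) D1475 (iv D991)
def n1476 : Q := act 4 n987
theorem D1476 : act 4 n987 = n1476 := rfl
theorem F4645 : act 1 n1476 = n988 := d9_1 D1476 (iv D988) D987
theorem F4646 : act 2 n1476 = n992 := d14_1 D1476 (iv D992) (iv F3174)
theorem F4647 : act 3 n1086 = n1476 := d13_0 F4646 (iv F3185) F2510 (iv F2410) (iv F3467)
theorem F4648 : act 6 n1082 = n1476 := d16_0 F4646 (iv F3186) (iv F3459)
def n1477 : Q := act 5 n987
theorem D1477 : act 5 n987 = n1477 := rfl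
theorem F4649 : act 1 n1477 = n1085 := d10_1 D1477 (iv D1085) (iv D730) (iv F2170) D987
theorem F4650 : act 2 n1477 = n993 := d15_1 D1477 (iv D993) (iv F3174)
def n1478 : Q := act 6 n987
theorem D1478 : act 6 n987 = n1478 := rfl
theorem F4651 : act 1 n1478 = n989 := d11_1 D1478 (iv D989) D987
theorem F4652 : act 2 n1478 = n994 := d16_1 D1478 (iv D994) (iv F3174)
theorem F4653 : act 4 n1478 = n1082 := d23_1 D1478 F4648 (iv D1476)
def n1479 : Q := act 7 n989
theorem D1479 : act 7 n989 = n1479 := rfl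
theorem F4654 : act 2 n1479 = n990 := d17_1 D1479 (iv D990) (iv F3179)
theorem F4655 : act 4 n1479 = n1079 := d24_1 D1479 F3455 (iv F3180)
def n1480 : Q := act 4 n991
theorem D1480 : act 4 n991 = n1480 := rfl
theorem F4656 : act 0 n1480 = n992 := d3_1 D1480 (iv D992) D991
theorem F4657 : act 3 n1135 = n1480 := d2_0 F4656 (iv F3185) (iv F3598)
theorem F4658 : act 6 n1132 = n1480 := d5_0 F4656 (iv F3186) D1132
def n1481 : Q := act 5 n991
theorem D1481 : act 5 n991 = n1481 := rfl
theorem F4659 : act 0 n1481 = n993 := d4_1 D1481 (iv D993) D991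
theorem F4660 : act 3 n1481 = n1481 := d19_1 D1481 (iv D1481) F3183
def n1482 : Q := act 6 n991
theorem D1482 : act 6 n991 = n1482 := rfl
theorem F4661 : act 0 n1482 = n994 := d5_1 D1482 (iv D994) D991
theorem F4662 : act 3 n1482 = n1482 := d20_1 D1482 (iv D1482) F3183
theorem F4663 : act 4 n1482 = n1132 := d23_1 D1482 F4658 (iv D1480)
def n1483 : Q := act 5 n992
theorem D1483 : act 5 n992 = n1483 := rfl
theorem F4664 : act 1 n1483 = n999 := d10_1 D1483 (iv D999) F2196 (iv F2184) (iv F3184)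
theorem F4665 : act 3 n1483 = n1137 := d19_1 D1483 (iv D1137) F3185
theorem F4666 : act 4 n1483 = n993 := d22_1 D1483 (iv D993) D992
def n1484 : Q := act 6 n993
theorem D1484 : act 6 n993 = n1484 := rfl
theorem F4667 : act 1 n1484 = n1000 := d11_1 D1484 (iv D1000) (iv F3187)
theorem F4668 : act 3 n1484 = n1484 := d20_1 D1484 (iv D1484) F3188
def n1485 : Q := act 5 n994
theorem D1485 : act 5 n994 = n1485 := rfl
theorem F4669 : act 1 n1485 = n1485 := d10_1 D1485 (iv D1485) F3189 F2190 (iv F3189)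
theorem F4670 : act 3 n1485 = n1485 := d19_1 D1485 (iv D1485) F3190
theorem F4671 : act 4 n1485 = n1133 := d22_1 D1485 (iv D1133) (iv F3191)
def n1486 : Q := act 7 n994
theorem D1486 : act 7 n994 = n1486 := rfl
theorem F4672 : act 1 n1486 = n995 := d12_1 D1486 (iv D995) (iv F3189)
theorem F4673 : act 4 n1486 = n1128 := d24_1 D1486 F3584 (iv F3191)
theorem F4674 : act 3 n1486 = n1036 := d29_10 (iv F2410) (iv F3467) F3466 (iv F3469) F4639 F4638 (iv F4651) F4652 F3190 D1486 F3327 D1041 F3340 F2329 (iv F2105) (iv D636) (iv F1443) D617 F2055 (iv D425) F757 (iv F1344) F1346 D644 D961 F3096 F3097 (iv F2526) (iv D780)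
theorem F4675 : act 5 n1035 = n1486 := d19_0 F4674 (iv D1036) (iv F3326)
theorem F4676 : act 7 n1485 = n1035 := d26_0 F4675 (iv D1486) D1485
def n1487 : Q := act 3 n995
theorem D1487 : act 3 n995 = n1487 := rfl
theorem F4677 : act 1 n1487 = n1036 := d8_1 D1487 (iv F4674) F4672
theorem F4678 : act 4 n1487 = n1487 := d18_2 (iv F3193) D1487 (iv D1487) F3193 F2494
theorem F4679 : act 5 n1487 = n1487 := d19_2 F3194 D1487 (iv D1487)
theorem F4680 : act 7 n1487 = n1487 := d21_2 D995 D1487 (iv D1487) (iv D995) F2188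
def n1488 : Q := act 3 n996
theorem D1488 : act 3 n996 = n1488 := rfl
theorem F4681 : act 0 n1488 = n998 := d2_1 D1488 (iv D998) (iv F3195)
theorem F4682 : act 2 n1488 = n1488 := d13_1 D1488 (iv D1488) F3196 F2415 (iv F3196)
theorem F4683 : act 4 n1488 = n1488 := d18_2 D996 D1488 (iv D1488) (iv D996) F2194
theorem F4684 : act 6 n1488 = n1488 := d20_2 F3197 D1488 (iv D1488)
def n1489 : Q := act 5 n996
theorem D1489 : act 5 n996 = n1489 := rfl
theorem F4685 : act 0 n1489 = n999 := d4_1 D1489 (iv D999) (iv F3195)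
theorem F4686 : act 2 n1489 = n1097 := d15_1 D1489 (iv D1097) (iv F3196)
theorem F4687 : act 4 n1489 = n997 := d22_1 D1489 (iv D997) D996
def n1490 : Q := act 1 n997
theorem D1490 : act 1 n997 = n1490 := rfl
theorem F4688 : act 3 n1490 = n1490 := d8_2 F3200 D1490 (iv D1490)
def n1491 : Q := act 6 n997
theorem D1491 : act 6 n997 = n1491 := rfl
theorem F4689 : act 0 n1491 = n1000 := d5_1 D1491 (iv D1000) (iv F3198)
theorem F4690 : act 2 n1491 = n1099 := d16_1 D1491 (iv D1099) (iv F3199)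
theorem F4691 : act 3 n1491 = n1491 := d20_1 D1491 (iv D1491) F3200
theorem F4692 : act 5 n1491 = n1491 := d25_1 D1491 (iv D1491) (iv D997) F2195 D997
def n1492 : Q := act 5 n998
theorem D1492 : act 5 n998 = n1492 := rfl
theorem F4693 : act 1 n1492 = n1137 := d10_1 D1492 (iv D1137) F2509 (iv F2203) (iv F3201)
theorem F4694 : act 2 n1492 = n1492 := d15_1 D1492 (iv D1492) F3202
theorem F4695 : act 3 n1492 = n999 := d19_1 D1492 (iv D999) D998
theorem F4696 : act 4 n1492 = n1492 := d22_1 D1492 (iv D1492) F3203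
def n1493 : Q := act 7 n998
theorem D1493 : act 7 n998 = n1493 := rfl
theorem F4697 : act 1 n1493 = n1001 := d12_1 D1493 (iv D1001) (iv F3201)
theorem F4698 : act 2 n1493 = n1493 := d17_1 D1493 (iv D1493) F3202
theorem F4699 : act 4 n1493 = n1493 := d24_1 D1493 (iv D1493) F3203
def n1494 : Q := act 6 n999
theorem D1494 : act 6 n999 = n1494 := rfl
theorem F4700 : act 2 n1494 = n1100 := d16_1 D1494 (iv D1100) (iv F3205)
theorem F4701 : act 4 n1494 = n1000 := d23_1 D1494 (iv D1000) (iv F3206)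
theorem F4702 : act 5 n1494 = n1494 := d25_1 D1494 (iv D1494) (iv D999) F2198 D999
def n1495 : Q := act 7 n1000
theorem D1495 : act 7 n1000 = n1495 := rfl
theorem F4703 : act 2 n1495 = n1101 := d17_1 D1495 (iv D1101) (iv F3207)
theorem F4704 : act 5 n1495 = n1495 := d26_1 D1495 (iv D1495) F3209
def n1496 : Q := act 6 n1001
theorem D1496 : act 6 n1001 = n1496 := rfl
theorem F4705 : act 2 n1496 = n1018 := d16_1 D1496 (iv D1018) (iv F3210)
theorem F4706 : act 4 n1496 = n1496 := d23_1 D1496 (iv D1496) F3211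
theorem F4707 : act 5 n1496 = n1496 := d25_1 D1496 (iv D1496) F3212 F2514 (iv F3212)
theorem F4708 : act 7 n1496 = n1496 := d27_2 D1001 D1496 (iv D1496) (iv D1001) F2204
def n1497 : Q := act 4 n1002
theorem D1497 : act 4 n1002 = n1497 := rfl
theorem F4709 : act 0 n1497 = n1497 := d3_1 D1497 (iv D1497) F3213
theorem F4710 : act 1 n1497 = n1005 := d9_1 D1497 (iv D1005) (iv F3214)
theorem F4711 : act 6 n1497 = n1011 := d23_2 (iv F3215) D1497 (iv D1011)
theorem F4712 : act 7 n1497 = n1497 := d24_2 F3216 D1497 (iv D1497)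
def n1498 : Q := act 7 n1003
theorem D1498 : act 7 n1003 = n1498 := rfl
theorem F4713 : act 0 n1498 = n1498 := d6_1 D1498 (iv D1498) F3217
theorem F4714 : act 1 n1498 = n1498 := d12_1 D1498 (iv D1498) F3218
theorem F4715 : act 2 n1498 = n1012 := d17_1 D1498 (iv D1012) (iv F3219)
theorem F4716 : act 3 n1498 = n1498 := d21_1 D1498 (iv D1498) (iv F4152) F4154 F4152
theorem F4717 : act 5 n1498 = n1004 := d26_1 D1498 (iv D1004) D1003
theorem F4718 : act 6 n1498 = n1498 := d27_1 D1498 (iv D1498) (iv F4164) F4165 F4164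
def n1499 : Q := act 6 n1004
theorem D1499 : act 6 n1004 = n1499 := rfl
theorem F4719 : act 0 n1499 = n1499 := d5_1 D1499 (iv D1499) F3220
theorem F4720 : act 1 n1499 = n1006 := d11_1 D1499 (iv D1006) (iv F3221)
theorem F4721 : act 3 n1499 = n1499 := d20_1 D1499 (iv D1499) F3222
theorem F4722 : act 5 n1499 = n1499 := d25_1 D1499 (iv D1499) (iv F4717) F4718 F4717
theorem F4723 : act 7 n1499 = n1015 := d27_2 D1004 D1499 (iv D1015) (iv D684) (iv F2206)
def n1500 : Q := act 1 n1008
theorem D1500 : act 1 n1008 = n1500 := rfl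
theorem F4724 : act 0 n1500 = n1500 := d0_1 D1500 (iv D1500) F3238 F2239 (iv F3238)
theorem F4725 : act 2 n1500 = n1500 := d7_2 (iv F3239) D1500 (iv D1500) F3239 F2443
theorem F4726 : act 3 n1500 = n1012 := d8_2 (iv F3240) D1500 F3254
theorem F4727 : act 6 n1500 = n1500 := d11_2 F3241 D1500 (iv D1500)
theorem F4728 : act 7 n1500 = n1014 := d12_2 (iv F3242) D1500 F3261
def n1501 : Q := act 2 n1009
theorem D1501 : act 2 n1009 = n1501 := rfl
theorem F4729 : act 0 n1501 = n1501 := d1_1 D1501 (iv D1501) F3243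
theorem F4730 : act 3 n1501 = n1501 := d13_2 D1009 D1501 (iv D1501) (iv D1009) F2246
theorem F4731 : act 4 n1501 = n1501 := d14_2 F3245 D1501 (iv D1501)
theorem F4732 : act 5 n1501 = n1501 := d15_2 F3246 D1501 (iv D1501)
theorem F4733 : act 6 n1501 = n1501 := d16_2 F3247 D1501 (iv D1501)
def n1502 : Q := act 7 n1009
theorem D1502 : act 7 n1009 = n1502 := rfl
theorem F4734 : act 0 n1502 = n1502 := d6_1 D1502 (iv D1502) F3243
theorem F4735 : act 1 n1502 = n1010 := d12_1 D1502 (iv D1010) (iv F3244)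
theorem F4736 : act 3 n1502 = n1502 := d21_1 D1502 (iv D1502) (iv D1009) F2249 D1009
theorem F4737 : act 4 n1502 = n1502 := d24_1 D1502 (iv D1502) F3245
theorem F4738 : act 5 n1502 = n1502 := d26_1 D1502 (iv D1502) F3246
def n1503 : Q := act 6 n1010
theorem D1503 : act 6 n1010 = n1503 := rfl
theorem F4739 : act 3 n1503 = n1503 := d20_1 D1503 (iv D1503) F3248
theorem F4740 : act 4 n1503 = n1503 := d23_1 D1503 (iv D1503) F3249
theorem F4741 : act 5 n1503 = n1503 := d25_1 D1503 (iv D1503) F3250 F2570 (iv F3250)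
theorem F4742 : act 7 n1503 = n1503 := d27_2 D1010 D1503 (iv D1503) (iv D1010) F2252
def n1504 : Q := act 7 n1011
theorem D1504 : act 7 n1011 = n1504 := rfl
theorem F4743 : act 0 n1504 = n1504 := d6_1 D1504 (iv D1504) F3251
theorem F4744 : act 1 n1504 = n1016 := d12_1 D1504 (iv D1016) (iv F3252)
theorem F4745 : act 4 n1504 = n1012 := d24_1 D1504 (iv D1012) D1011
theorem F4746 : act 6 n1504 = n1504 := d27_1 D1504 (iv D1504) (iv F4711) F4712 F4711
def n1505 : Q := act 3 n1016
theorem D1505 : act 3 n1016 = n1505 := rfl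
theorem F4747 : act 0 n1505 = n1017 := d2_1 D1505 (iv D1017) (iv F3268)
theorem F4748 : act 5 n1505 = n1103 := d19_2 (iv F3271) D1505 (iv D1103)
theorem F4749 : act 6 n1505 = n1505 := d20_2 F3272 D1505 (iv D1505)
def n1506 : Q := act 2 n1017
theorem D1506 : act 2 n1017 = n1506 := rfl
theorem F4750 : act 3 n1506 = n1506 := d13_2 D1017 D1506 (iv D1506) (iv D1017) F2280
theorem F4751 : act 5 n1506 = n1105 := d15_2 (iv F3274) D1506 (iv D1105)
theorem F4752 : act 6 n1506 = n1506 := d16_2 F3275 D1506 (iv D1506)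
def n1507 : Q := act 2 n1019
theorem D1507 : act 2 n1019 = n1507 := rfl
theorem F4753 : act 0 n1507 = n1507 := d1_1 D1507 (iv D1507) F3281
theorem F4754 : act 1 n1507 = n1060 := d7_1 D1507 (iv D1060) F2359 (iv F2293) (iv F3282)
theorem F4755 : act 3 n1507 = n1507 := d13_2 D1019 D1507 (iv D1507) (iv D1019) F2289
theorem F4756 : act 6 n1507 = n1507 := d16_2 F3283 D1507 (iv D1507)
def n1508 : Q := act 4 n1019
theorem D1508 : act 4 n1019 = n1508 := rfl
theorem F4757 : act 0 n1508 = n1508 := d3_1 D1508 (iv D1508) F3281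
theorem F4758 : act 1 n1508 = n1022 := d9_1 D1508 (iv D1022) (iv F3282)
theorem F4759 : act 3 n1508 = n1508 := d18_1 D1508 (iv D1508) (iv D1019) F2290 D1019
theorem F4760 : act 6 n1508 = n1508 := d23_2 F3283 D1508 (iv D1508)
def n1509 : Q := act 5 n1019
theorem D1509 : act 5 n1019 = n1509 := rfl
theorem F4761 : act 0 n1509 = n1509 := d4_1 D1509 (iv D1509) F3281
theorem F4762 : act 3 n1509 = n1020 := d19_1 D1509 (iv D1020) D1019
def n1510 : Q := act 7 n1019
theorem D1510 : act 7 n1019 = n1510 := rfl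
theorem F4763 : act 0 n1510 = n1510 := d6_1 D1510 (iv D1510) F3281
theorem F4764 : act 1 n1510 = n1023 := d12_1 D1510 (iv D1023) (iv F3282)
def n1511 : Q := act 6 n1020
theorem D1511 : act 6 n1020 = n1511 := rfl
theorem F4765 : act 0 n1511 = n1511 := d5_1 D1511 (iv D1511) F3284
theorem F4766 : act 2 n1511 = n1511 := d16_1 D1511 (iv D1511) F3285
theorem F4767 : act 4 n1511 = n1511 := d23_1 D1511 (iv D1511) F3286
theorem F4768 : act 5 n1511 = n1511 := d25_1 D1511 (iv D1511) (iv D1020) F2291 D1020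
def n1512 : Q := act 7 n1020
theorem D1512 : act 7 n1020 = n1512 := rfl
theorem F4769 : act 0 n1512 = n1512 := d6_1 D1512 (iv D1512) F3284
theorem F4770 : act 2 n1512 = n1512 := d17_1 D1512 (iv D1512) F3285
theorem F4771 : act 4 n1512 = n1512 := d24_1 D1512 (iv D1512) F3286
theorem F4772 : act 5 n1512 = n1021 := d26_1 D1512 (iv D1021) D1020
def n1513 : Q := act 3 n1021
theorem D1513 : act 3 n1021 = n1513 := rfl
theorem F4773 : act 0 n1513 = n1513 := d2_1 D1513 (iv D1513) F3287
theorem F4774 : act 1 n1513 = n1024 := d8_1 D1513 (iv D1024) (iv F3288)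
def n1514 : Q := act 6 n1021
theorem D1514 : act 6 n1021 = n1514 := rfl
theorem F4775 : act 0 n1514 = n1514 := d5_1 D1514 (iv D1514) F3287
theorem F4776 : act 1 n1514 = n1025 := d11_1 D1514 (iv D1025) (iv F3288)
theorem F4777 : act 2 n1514 = n1514 := d16_1 D1514 (iv D1514) F3289
theorem F4778 : act 4 n1514 = n1514 := d23_1 D1514 (iv D1514) F3290
theorem F4779 : act 7 n1514 = n1514 := d27_2 D1021 D1514 (iv D1514) (iv D1021) F2291
def n1515 : Q := act 7 n1022
theorem D1515 : act 7 n1022 = n1515 := rfl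
theorem F4780 : act 0 n1515 = n1030 := d6_1 D1515 (iv D1030) (iv F3291)
theorem F4781 : act 2 n1515 = n1066 := d17_1 D1515 (iv D1066) (iv F3292)
theorem F4782 : act 4 n1515 = n1023 := d24_1 D1515 (iv D1023) D1022
def n1516 : Q := act 3 n1023
theorem D1516 : act 3 n1023 = n1516 := rfl
theorem F4783 : act 0 n1516 = n1031 := d2_1 D1516 (iv D1031) (iv F3295)
theorem F4784 : act 7 n1516 = n1024 := d21_2 D1023 D1516 (iv D1024) (iv D694) D693
def n1517 : Q := act 6 n1023
theorem D1517 : act 6 n1023 = n1517 := rfl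
theorem F4785 : act 0 n1517 = n1032 := d5_1 D1517 (iv D1032) (iv F3295)
theorem F4786 : act 2 n1517 = n1068 := d16_1 D1517 (iv D1068) (iv F3296)
theorem F4787 : act 7 n1517 = n1517 := d27_2 D1023 D1517 (iv D1517) (iv D1023) F2294
def n1518 : Q := act 2 n1024
theorem D1518 : act 2 n1024 = n1518 := rfl
theorem F4788 : act 0 n1518 = n1033 := d1_1 D1518 (iv D1033) (iv F3297)
theorem F4789 : act 3 n1518 = n1026 := d13_2 D1024 D1518 (iv D1026) (iv D695) (iv F2296)
def n1519 : Q := act 4 n1024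
theorem D1519 : act 4 n1024 = n1519 := rfl
theorem F4790 : act 0 n1519 = n1034 := d3_1 D1519 (iv D1034) (iv F3297)
theorem F4791 : act 3 n1519 = n1519 := d18_1 D1519 (iv D1519) (iv D1024) F2297 D1024
def n1520 : Q := act 6 n1024
theorem D1520 : act 6 n1024 = n1520 := rfl
theorem F4792 : act 0 n1520 = n1035 := d5_1 D1520 (iv D1035) (iv F3297)
theorem F4793 : act 3 n1520 = n1025 := d20_1 D1520 (iv D1025) D1024
def n1521 : Q := act 5 n1025
theorem D1521 : act 5 n1025 = n1521 := rfl
theorem F4794 : act 0 n1521 = n1036 := d4_1 D1521 (iv D1036) (iv F3298)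
theorem F4795 : act 2 n1521 = n1029 := d15_1 D1521 (iv D1029) (iv F3299)
theorem F4796 : act 4 n1521 = n1521 := d22_1 D1521 (iv D1521) F3300
theorem F4797 : act 7 n1521 = n1521 := d26_2 F3301 D1521 (iv D1521)
def n1522 : Q := act 1 n1026
theorem D1522 : act 1 n1026 = n1522 := rfl
theorem F4798 : act 2 n1522 = n1522 := d7_2 D1026 D1522 (iv D1522) (iv D1026) F2299
theorem F4799 : act 7 n1522 = n1070 := d12_2 (iv F3303) D1522 (iv D1070)
def n1523 : Q := act 4 n1026
theorem D1523 : act 4 n1026 = n1523 := rfl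
theorem F4800 : act 0 n1523 = n1038 := d3_1 D1523 (iv D1038) (iv F3302)
theorem F4801 : act 2 n1523 = n1027 := d14_1 D1523 (iv D1027) D1026
theorem F4802 : act 7 n1523 = n1071 := d24_2 (iv F3303) D1523 (iv D1071)
def n1524 : Q := act 6 n1026
theorem D1524 : act 6 n1026 = n1524 := rfl
theorem F4803 : act 0 n1524 = n1039 := d5_1 D1524 (iv D1039) (iv F3302)
theorem F4804 : act 2 n1524 = n1028 := d16_1 D1524 (iv D1028) D1026
def n1525 : Q := act 5 n1028
theorem D1525 : act 5 n1028 = n1525 := rfl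
theorem F4805 : act 0 n1525 = n1040 := d4_1 D1525 (iv D1040) (iv F3308)
theorem F4806 : act 3 n1525 = n1029 := d19_1 D1525 (iv D1029) (iv F3310)
def n1526 : Q := act 1 n1029
theorem D1526 : act 1 n1029 = n1526 := rfl
theorem F4807 : act 4 n1526 = n1526 := d9_2 F3312 D1526 (iv D1526)
theorem F4808 : act 5 n1526 = n1526 := d10_2 D1029 D1526 (iv D1526) (iv D1029) F2302
theorem F4809 : act 7 n1526 = n1526 := d12_2 F3313 D1526 (iv D1526)
def n1527 : Q := act 3 n1030
theorem D1527 : act 3 n1030 = n1527 := rfl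
theorem F4810 : act 1 n1527 = n1527 := d8_1 D1527 (iv D1527) F3314
theorem F4811 : act 7 n1527 = n1527 := d21_2 D1030 D1527 (iv D1527) (iv D1030) F2307
def n1528 : Q := act 6 n1030
theorem D1528 : act 6 n1030 = n1528 := rfl
theorem F4812 : act 1 n1528 = n1528 := d11_1 D1528 (iv D1528) F3314
theorem F4813 : act 2 n1528 = n1078 := d16_1 D1528 (iv D1078) (iv F3315)
theorem F4814 : act 4 n1528 = n1032 := d23_1 D1528 (iv D1032) (iv F3316)
theorem F4815 : act 7 n1528 = n1528 := d27_2 D1030 D1528 (iv D1528) (iv D1030) F2308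
def n1529 : Q := act 2 n1031
theorem D1529 : act 2 n1031 = n1529 := rfl
theorem F4816 : act 3 n1529 = n1079 := d13_2 D1031 D1529 (iv D1079) (iv D727) (iv F2310)
theorem F4817 : act 7 n1529 = n1033 := d17_2 (iv F3318) D1529 (iv D1033)
def n1530 : Q := act 4 n1031
theorem D1530 : act 4 n1031 = n1530 := rfl
theorem F4818 : act 1 n1530 = n1530 := d9_1 D1530 (iv D1530) F3317
theorem F4819 : act 7 n1530 = n1034 := d24_2 (iv F3318) D1530 (iv D1034)
def n1531 : Q := act 6 n1031
theorem D1531 : act 6 n1031 = n1531 := rfl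
theorem F4820 : act 1 n1531 = n1531 := d11_1 D1531 (iv D1531) F3317
theorem F4821 : act 3 n1531 = n1032 := d20_1 D1531 (iv D1032) D1031
def n1532 : Q := act 5 n1032
theorem D1532 : act 5 n1032 = n1532 := rfl
theorem F4822 : act 2 n1532 = n1081 := d15_1 D1532 (iv D1081) (iv F3320)
theorem F4823 : act 7 n1532 = n1532 := d26_2 F3321 D1532 (iv D1532)
def n1533 : Q := act 1 n1033
theorem D1533 : act 1 n1033 = n1533 := rfl
theorem F4824 : act 2 n1533 = n1533 := d7_2 D1033 D1533 (iv D1533) (iv D1033) F2311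
theorem F4825 : act 3 n1533 = n1037 := d8_2 (iv F3322) D1533 (iv D1037)
def n1534 : Q := act 4 n1033
theorem D1534 : act 4 n1033 = n1534 := rfl
theorem F4826 : act 2 n1534 = n1034 := d14_1 D1534 (iv D1034) D1033
def n1535 : Q := act 6 n1033
theorem D1535 : act 6 n1033 = n1535 := rfl
theorem F4827 : act 2 n1535 = n1035 := d16_1 D1535 (iv D1035) D1033
theorem F4828 : act 3 n1535 = n1039 := d20_1 D1535 (iv D1039) (iv F3322)
def n1536 : Q := act 6 n1034
theorem D1536 : act 6 n1034 = n1536 := rfl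
theorem F4829 : act 1 n1536 = n1536 := d11_1 D1536 (iv D1536) F3323
theorem F4830 : act 3 n1536 = n1536 := d20_1 D1536 (iv D1536) F3324
theorem F4831 : act 4 n1536 = n1035 := d23_1 D1536 (iv D1035) D1034
theorem F4832 : act 5 n1128 = n1536 := d22_0 F4831 F4675 F4673
theorem F4833 : act 7 n1133 = n1536 := d24_0 F4831 (iv F4676) F4671
def n1537 : Q := act 0 n1037
theorem D1537 : act 0 n1037 = n1537 := rfl
theorem F4834 : act 2 n1537 = n1042 := d1_2 (iv F3330) D1537 (iv D1042)
theorem F4835 : act 4 n1537 = n1524 := d3_2 F3337 D1537 F4803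
theorem F4836 : act 6 n1537 = n1523 := d5_2 (iv F3334) D1537 F4800
theorem F4837 : act 7 n1537 = n1083 := d6_2 (iv F3331) D1537 (iv D1083)
def n1538 : Q := act 5 n1037
theorem D1538 : act 5 n1037 = n1538 := rfl
theorem F4838 : act 2 n1538 = n1043 := d15_1 D1538 (iv D1043) (iv F3330)
theorem F4839 : act 7 n1538 = n1085 := d26_2 (iv F3331) D1538 (iv D1085)
def n1539 : Q := act 3 n1038
theorem D1539 : act 3 n1038 = n1539 := rfl
theorem F4840 : act 1 n1539 = n1535 := d8_1 D1539 F4828 F3335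
theorem F4841 : act 2 n1539 = n1539 := d13_1 D1539 (iv D1539) F3332 F2318 (iv F3332)
theorem F4842 : act 6 n1539 = n1533 := d20_2 F3334 D1539 F4825
def n1540 : Q := act 5 n1039
theorem D1540 : act 5 n1039 = n1540 := rfl
theorem F4843 : act 2 n1540 = n1040 := d15_1 D1540 (iv D1040) (iv F3336)
theorem F4844 : act 4 n1540 = n1538 := d22_1 D1540 (iv D1538) (iv F3337)
def n1541 : Q := act 0 n1041
theorem D1541 : act 0 n1041 = n1541 := rfl
theorem F4845 : act 4 n1541 = n1541 := d3_2 F3339 D1541 (iv D1541)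
theorem F4846 : act 5 n1541 = n1044 := d4_2 (iv F3340) D1541 (iv D1044)
theorem F4847 : act 7 n1541 = n1541 := d6_2 F3341 D1541 (iv D1541)
def n1542 : Q := act 2 n1041
theorem D1542 : act 2 n1041 = n1542 := rfl
theorem F4848 : act 4 n1542 = n1542 := d14_2 F3339 D1542 (iv D1542)
theorem F4849 : act 5 n1542 = n1045 := d15_2 (iv F3340) D1542 (iv D1045)
theorem F4850 : act 7 n1542 = n1542 := d17_2 F3341 D1542 (iv D1542)
def n1543 : Q := act 5 n1042
theorem D1543 : act 5 n1042 = n1543 := rfl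
theorem F4851 : act 0 n1543 = n1043 := d4_1 D1543 (iv D1043) D1042
theorem F4852 : act 3 n1543 = n1543 := d19_1 D1543 (iv D1543) F3343
theorem F4853 : act 4 n1543 = n1525 := d22_1 D1543 (iv D1525) (iv F3344)
theorem F4854 : act 7 n1543 = n1092 := d26_2 (iv F3346) D1543 (iv D1092)
def n1544 : Q := act 6 n1043
theorem D1544 : act 6 n1043 = n1544 := rfl
theorem F4855 : act 1 n1544 = n1050 := d11_1 D1544 (iv D1050) (iv F3347)
theorem F4856 : act 3 n1544 = n1544 := d20_1 D1544 (iv D1544) F3348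
theorem F4857 : act 4 n1544 = n1382 := d23_1 D1544 F4376 (iv F3349)
theorem F4858 : act 5 n1544 = n1381 := d25_1 D1544 (iv D1381) F2999 (iv F2326) D1043
def n1545 : Q := act 2 n1044
theorem D1545 : act 2 n1044 = n1545 := rfl
theorem F4859 : act 0 n1545 = n1045 := d1_1 D1545 (iv D1045) D1044
theorem F4860 : act 4 n1545 = n1545 := d14_2 F3352 D1545 (iv D1545)
theorem F4861 : act 6 n1545 = n1054 := d16_2 (iv F3353) D1545 (iv D1054)
theorem F4862 : act 7 n1545 = n1545 := d17_2 F3354 D1545 (iv D1545)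
def n1546 : Q := act 3 n1045
theorem D1546 : act 3 n1045 = n1546 := rfl
theorem F4863 : act 1 n1546 = n1546 := d8_1 D1546 (iv D1546) F3355
theorem F4864 : act 2 n1546 = n1401 := d13_1 D1546 (iv D1401) F3023 (iv F2336) D1045
theorem F4865 : act 6 n1546 = n1055 := d20_2 (iv F3357) D1546 (iv D1055)
def n1547 : Q := act 5 n1046
theorem D1547 : act 5 n1046 = n1547 := rfl
theorem F4866 : act 0 n1547 = n1049 := d4_1 D1547 (iv D1049) (iv F3359)
theorem F4867 : act 3 n1547 = n1541 := d19_1 D1547 F4846 F3362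
theorem F4868 : act 4 n1547 = n1047 := d22_1 D1547 (iv D1047) D1046
theorem F4869 : act 7 n1547 = n1097 := d26_2 (iv F3361) D1547 (iv D1097)
def n1548 : Q := act 1 n1047
theorem D1548 : act 1 n1047 = n1548 := rfl
theorem F4870 : act 3 n1548 = n1548 := d8_2 F3364 D1548 (iv D1548)
theorem F4871 : act 5 n1548 = n1548 := d10_2 D1047 D1548 (iv D1548) (iv D1047) F2331
theorem F4872 : act 7 n1548 = n1098 := d12_2 (iv F3365) D1548 (iv D1098)
def n1549 : Q := act 6 n1047
theorem D1549 : act 6 n1047 = n1549 := rfl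
theorem F4873 : act 0 n1549 = n1050 := d5_1 D1549 (iv D1050) (iv F3363)
theorem F4874 : act 3 n1549 = n1549 := d20_1 D1549 (iv D1549) F3364
def n1550 : Q := act 5 n1048
theorem D1550 : act 5 n1048 = n1550 := rfl
theorem F4875 : act 0 n1550 = n1051 := d4_1 D1550 (iv D1051) (iv F3366)
theorem F4876 : act 3 n1550 = n1550 := d19_1 D1550 (iv D1550) F3368
theorem F4877 : act 4 n1550 = n1409 := d22_1 D1550 F4449 F3381
theorem F4878 : act 7 n1550 = n1550 := d26_2 F3369 D1550 (iv D1550)
def n1551 : Q := act 6 n1049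
theorem D1551 : act 6 n1049 = n1551 := rfl
theorem F4879 : act 1 n1551 = n1382 := d11_1 D1551 F4376 (iv F3370)
theorem F4880 : act 3 n1551 = n1384 := d20_1 D1551 F4382 (iv F3371)
theorem F4881 : act 4 n1551 = n1050 := d23_1 D1551 (iv D1050) (iv F3372)
theorem F4882 : act 5 n1551 = n1394 := d25_1 D1551 F4407 F3042 F2344 D1049
def n1552 : Q := act 5 n1050
theorem D1552 : act 5 n1050 = n1552 := rfl
theorem F4883 : act 1 n1552 = n1393 := d10_1 D1552 (iv D1393) (iv F4371) (iv F4858) F4855
theorem F4884 : act 3 n1552 = n1552 := d19_1 D1552 (iv D1552) F3374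
theorem F4885 : act 4 n1552 = n1394 := d22_1 D1552 (iv F4882) F4881
theorem F4886 : act 6 n1552 = n1051 := d25_2 D1050 D1552 (iv D1051) (iv D710) D709
def n1553 : Q := act 7 n1050
theorem D1553 : act 7 n1050 = n1553 := rfl
theorem F4887 : act 6 n1553 = n1101 := d27_1 D1553 (iv D1101) (iv D743) (iv F2338) D1050
def n1554 : Q := act 2 n1052
theorem D1554 : act 2 n1052 = n1554 := rfl
theorem F4888 : act 0 n1554 = n1053 := d1_1 D1554 (iv D1053) D1052
theorem F4889 : act 4 n1554 = n1400 := d14_2 (iv F3381) D1554 F4426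
theorem F4890 : act 6 n1554 = n1398 := d16_2 (iv F3382) D1554 F4420
theorem F4891 : act 7 n1554 = n1554 := d17_2 F3383 D1554 (iv D1554)
def n1555 : Q := act 3 n1053
theorem D1555 : act 3 n1053 = n1555 := rfl
theorem F4892 : act 1 n1555 = n1405 := d8_1 D1555 F4438 (iv F3384)
theorem F4893 : act 2 n1555 = n1055 := d13_1 D1555 (iv D1055) (iv D713) (iv F2342) D1053
theorem F4894 : act 6 n1555 = n1401 := d20_2 (iv F3386) D1555 (iv D1401)
def n1556 : Q := act 1 n1054
theorem D1556 : act 1 n1054 = n1556 := rfl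
theorem F4895 : act 0 n1556 = n1556 := d0_1 D1556 (iv D1556) F3388 F2349 (iv F3388)
theorem F4896 : act 2 n1556 = n1556 := d7_2 D1054 D1556 (iv D1556) (iv D1054) F2346
theorem F4897 : act 4 n1556 = n1556 := d9_2 F3389 D1556 (iv D1556)
theorem F4898 : act 7 n1556 = n1056 := d12_2 (iv F3390) D1556 (iv D1056)
def n1557 : Q := act 3 n1054
theorem D1557 : act 3 n1054 = n1557 := rfl
theorem F4899 : act 0 n1557 = n1055 := d2_1 D1557 (iv D1055) (iv F3388)
def n1558 : Q := act 4 n1055
theorem D1558 : act 4 n1055 = n1558 := rfl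
theorem F4900 : act 1 n1558 = n1558 := d9_1 D1558 (iv D1558) F3391
theorem F4901 : act 3 n1558 = n1558 := d18_1 D1558 (iv D1558) (iv D1055) F2350 D1055
def n1559 : Q := act 7 n1055
theorem D1559 : act 7 n1055 = n1559 := rfl
theorem F4902 : act 1 n1559 = n1559 := d12_1 D1559 (iv D1559) F3391
theorem F4903 : act 3 n1559 = n1059 := d21_1 D1559 (iv D1059) (iv D715) (iv F2351) D1055
def n1560 : Q := act 3 n1056
theorem D1560 : act 3 n1056 = n1560 := rfl
theorem F4904 : act 0 n1560 = n1560 := d2_1 D1560 (iv D1560) F3392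
theorem F4905 : act 1 n1560 = n1057 := d8_1 D1560 (iv D1057) D1056
theorem F4906 : act 6 n1560 = n1560 := d20_2 F3395 D1560 (iv D1560)
def n1561 : Q := act 5 n1056
theorem D1561 : act 5 n1056 = n1561 := rfl
theorem F4907 : act 0 n1561 = n1561 := d4_1 D1561 (iv D1561) F3392
theorem F4908 : act 2 n1561 = n1561 := d15_1 D1561 (iv D1561) F3393
theorem F4909 : act 4 n1561 = n1561 := d22_1 D1561 (iv D1561) F3394
def n1562 : Q := act 4 n1057
theorem D1562 : act 4 n1057 = n1562 := rfl
theorem F4910 : act 0 n1562 = n1058 := d3_1 D1562 (iv D1058) (iv F3396)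
theorem F4911 : act 2 n1562 = n1562 := d14_1 D1562 (iv D1562) F3397
theorem F4912 : act 3 n1562 = n1562 := d18_1 D1562 (iv D1562) (iv D1057) F2353 D1057
theorem F4913 : act 6 n1562 = n1562 := d23_2 F3398 D1562 (iv D1562)
def n1563 : Q := act 7 n1057
theorem D1563 : act 7 n1057 = n1563 := rfl
theorem F4914 : act 0 n1563 = n1059 := d6_1 D1563 (iv D1059) (iv F3396)
theorem F4915 : act 2 n1563 = n1563 := d17_1 D1563 (iv D1563) F3397
def n1564 : Q := act 7 n1058
theorem D1564 : act 7 n1058 = n1564 := rfl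
theorem F4916 : act 1 n1564 = n1564 := d12_1 D1564 (iv D1564) F3399
theorem F4917 : act 2 n1564 = n1564 := d17_1 D1564 (iv D1564) F3400
theorem F4918 : act 4 n1564 = n1059 := d24_1 D1564 (iv D1059) D1058
def n1565 : Q := act 6 n1059
theorem D1565 : act 6 n1059 = n1565 := rfl
theorem F4919 : act 1 n1565 = n1565 := d11_1 D1565 (iv D1565) F3403
theorem F4920 : act 2 n1565 = n1565 := d16_1 D1565 (iv D1565) F3404
theorem F4921 : act 7 n1565 = n1565 := d27_2 D1059 D1565 (iv D1565) (iv D1059) F2357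
def n1566 : Q := act 4 n1060
theorem D1566 : act 4 n1060 = n1566 := rfl
theorem F4922 : act 0 n1566 = n1106 := d3_1 D1566 (iv D1106) (iv F3405)
theorem F4923 : act 2 n1566 = n1061 := d14_1 D1566 (iv D1061) D1060
theorem F4924 : act 6 n1566 = n1566 := d23_2 F3407 D1566 (iv D1566)
def n1567 : Q := act 5 n1060
theorem D1567 : act 5 n1060 = n1567 := rfl
theorem F4925 : act 0 n1567 = n1107 := d4_1 D1567 (iv D1107) (iv F3405)
theorem F4926 : act 2 n1567 = n1062 := d15_1 D1567 (iv D1062) D1060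
theorem F4927 : act 3 n1567 = n1567 := d19_1 D1567 (iv D1567) F3406
def n1568 : Q := act 7 n1060
theorem D1568 : act 7 n1060 = n1568 := rfl
theorem F4928 : act 0 n1568 = n1108 := d6_1 D1568 (iv D1108) (iv F3405)
theorem F4929 : act 2 n1568 = n1063 := d17_1 D1568 (iv D1063) D1060
def n1569 : Q := act 7 n1061
theorem D1569 : act 7 n1061 = n1569 := rfl
theorem F4930 : act 0 n1569 = n1109 := d6_1 D1569 (iv D1109) (iv F3408)
theorem F4931 : act 1 n1569 = n1066 := d12_1 D1569 (iv D1066) (iv F3409)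
theorem F4932 : act 4 n1569 = n1063 := d24_1 D1569 (iv D1063) D1061
def n1570 : Q := act 7 n1062
theorem D1570 : act 7 n1062 = n1570 := rfl
theorem F4933 : act 0 n1570 = n1110 := d6_1 D1570 (iv D1110) (iv F3412)
theorem F4934 : act 5 n1570 = n1063 := d26_1 D1570 (iv D1063) D1062
def n1571 : Q := act 3 n1063
theorem D1571 : act 3 n1063 = n1571 := rfl
theorem F4935 : act 0 n1571 = n1111 := d2_1 D1571 (iv D1111) (iv F3414)
theorem F4936 : act 1 n1571 = n1067 := d8_1 D1571 (iv D1067) (iv F3415)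
theorem F4937 : act 7 n1571 = n1065 := d21_2 D1063 D1571 (iv D1065) (iv D718) D716
def n1572 : Q := act 6 n1063
theorem D1572 : act 6 n1063 = n1572 := rfl
theorem F4938 : act 0 n1572 = n1112 := d5_1 D1572 (iv D1112) (iv F3414)
theorem F4939 : act 1 n1572 = n1068 := d11_1 D1572 (iv D1068) (iv F3415)
theorem F4940 : act 7 n1572 = n1572 := d27_2 D1063 D1572 (iv D1572) (iv D1063) F2360
def n1573 : Q := act 3 n1064
theorem D1573 : act 3 n1064 = n1573 := rfl
theorem F4941 : act 0 n1573 = n1113 := d2_1 D1573 (iv D1113) (iv F3416)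
theorem F4942 : act 5 n1573 = n1065 := d19_2 (iv F3419) D1573 (iv D1065)
theorem F4943 : act 6 n1573 = n1573 := d20_2 F3420 D1573 (iv D1573)
def n1574 : Q := act 2 n1065
theorem D1574 : act 2 n1065 = n1574 := rfl
theorem F4944 : act 0 n1574 = n1114 := d1_1 D1574 (iv D1114) (iv F3421)
theorem F4945 : act 3 n1574 = n1574 := d13_2 D1065 D1574 (iv D1574) (iv D1065) F2366
def n1575 : Q := act 3 n1066
theorem D1575 : act 3 n1066 = n1575 := rfl
theorem F4946 : act 0 n1575 = n1077 := d2_1 D1575 (iv D1077) (iv F3423)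
theorem F4947 : act 7 n1575 = n1103 := d21_2 D1066 D1575 (iv D1103) (iv D747) (iv F2369)
def n1576 : Q := act 6 n1066
theorem D1576 : act 6 n1066 = n1576 := rfl
theorem F4948 : act 0 n1576 = n1078 := d5_1 D1576 (iv D1078) (iv F3423)
theorem F4949 : act 4 n1576 = n1068 := d23_1 D1576 (iv D1068) (iv F3424)
theorem F4950 : act 7 n1576 = n1576 := d27_2 D1066 D1576 (iv D1576) (iv D1066) F2370
def n1577 : Q := act 2 n1067
theorem D1577 : act 2 n1067 = n1577 := rfl
theorem F4951 : act 0 n1577 = n1079 := d1_1 D1577 (iv D1079) (iv F3425)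
theorem F4952 : act 7 n1577 = n1069 := d17_2 (iv F3426) D1577 (iv D1069)
def n1578 : Q := act 6 n1067
theorem D1578 : act 6 n1067 = n1578 := rfl
theorem F4953 : act 0 n1578 = n1080 := d5_1 D1578 (iv D1080) (iv F3425)
theorem F4954 : act 3 n1578 = n1068 := d20_1 D1578 (iv D1068) D1067
def n1579 : Q := act 5 n1068
theorem D1579 : act 5 n1068 = n1579 := rfl
theorem F4955 : act 0 n1579 = n1081 := d4_1 D1579 (iv D1081) (iv F3427)
theorem F4956 : act 7 n1579 = n1579 := d26_2 F3428 D1579 (iv D1579)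
def n1580 : Q := act 1 n1069
theorem D1580 : act 1 n1069 = n1580 := rfl
theorem F4957 : act 3 n1580 = n1070 := d8_2 (iv F3430) D1580 (iv D1070)
def n1581 : Q := act 0 n1070
theorem D1581 : act 0 n1070 = n1581 := rfl
theorem F4958 : act 1 n1581 = n1083 := d0_2 D1070 D1581 (iv D1083) (iv D730) (iv F2373)
theorem F4959 : act 2 n1581 = n1581 := d1_2 F3431 D1581 (iv D1581)
def n1582 : Q := act 4 n1070
theorem D1582 : act 4 n1070 = n1582 := rfl
theorem F4960 : act 1 n1582 = n1071 := d9_1 D1582 (iv D1071) D1070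
theorem F4961 : act 2 n1582 = n1582 := d14_1 D1582 (iv D1582) F3431
def n1583 : Q := act 5 n1070
theorem D1583 : act 5 n1070 = n1583 := rfl
theorem F4962 : act 2 n1583 = n1583 := d15_1 D1583 (iv D1583) F3431
def n1584 : Q := act 6 n1070
theorem D1584 : act 6 n1070 = n1584 := rfl
theorem F4963 : act 1 n1584 = n1072 := d11_1 D1584 (iv D1072) D1070
theorem F4964 : act 2 n1584 = n1584 := d16_1 D1584 (iv D1584) F3431
def n1585 : Q := act 3 n1071
theorem D1585 : act 3 n1071 = n1585 := rfl
theorem F4965 : act 0 n1585 = n1087 := d2_1 D1585 (iv D1087) (iv F3432)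
theorem F4966 : act 2 n1585 = n1074 := d13_1 D1585 F3441 F2381 (iv F2376) (iv F3433)
theorem F4967 : act 5 n1585 = n1072 := d19_2 F4609 D1585 F4610
def n1586 : Q := act 6 n1071
theorem D1586 : act 6 n1071 = n1586 := rfl
theorem F4968 : act 0 n1586 = n1088 := d5_1 D1586 (iv D1088) (iv F3432)
theorem F4969 : act 2 n1586 = n1073 := d16_1 D1586 (iv D1073) (iv F3433)
theorem F4970 : act 4 n1586 = n1072 := d23_1 D1586 (iv D1072) D1071
def n1587 : Q := act 7 n1072
theorem D1587 : act 7 n1072 = n1587 := rfl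
theorem F4971 : act 0 n1587 = n1089 := d6_1 D1587 (iv D1089) (iv F3434)
theorem F4972 : act 2 n1587 = n1075 := d17_1 D1587 (iv D1075) (iv F3435)
def n1588 : Q := act 1 n1074
theorem D1588 : act 1 n1074 = n1588 := rfl
theorem F4973 : act 0 n1588 = n1588 := d0_1 D1588 (iv D1588) F3440 F2397 (iv F3440)
theorem F4974 : act 3 n1588 = n1076 := d8_2 (iv F3441) D1588 (iv D1076)
theorem F4975 : act 5 n1588 = n1588 := d10_2 D1074 D1588 (iv D1588) (iv D1074) F2378
def n1589 : Q := act 7 n1074
theorem D1589 : act 7 n1074 = n1589 := rfl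
theorem F4976 : act 0 n1589 = n1090 := d6_1 D1589 (iv D1090) (iv F3440)
theorem F4977 : act 3 n1589 = n1589 := d21_1 D1589 (iv D1589) F3441 F2383 (iv F3441)
theorem F4978 : act 5 n1589 = n1075 := d26_1 D1589 (iv D1075) D1074
def n1590 : Q := act 2 n1077
theorem D1590 : act 2 n1077 = n1590 := rfl
theorem F4979 : act 7 n1590 = n1105 := d17_2 (iv F3451) D1590 (iv D1105)
def n1591 : Q := act 6 n1077
theorem D1591 : act 6 n1077 = n1591 := rfl
theorem F4980 : act 1 n1591 = n1126 := d11_1 D1591 (iv D1126) (iv F3450)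
theorem F4981 : act 3 n1591 = n1078 := d20_1 D1591 (iv D1078) D1077
def n1592 : Q := act 5 n1078
theorem D1592 : act 5 n1078 = n1592 := rfl
theorem F4982 : act 4 n1592 = n1081 := d22_1 D1592 (iv D1081) (iv F3453)
theorem F4983 : act 7 n1592 = n1592 := d26_2 F3454 D1592 (iv D1592)
def n1593 : Q := act 1 n1079
theorem D1593 : act 1 n1079 = n1593 := rfl
theorem F4984 : act 2 n1593 = n1128 := d7_2 D1079 D1593 (iv D1128) (iv D768) (iv F2386)
theorem F4985 : act 7 n1593 = n1082 := d12_2 (iv F3455) D1593 (iv D1082)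
def n1594 : Q := act 6 n1079
theorem D1594 : act 6 n1079 = n1594 := rfl
theorem F4986 : act 2 n1594 = n1080 := d16_1 D1594 (iv D1080) D1079
def n1595 : Q := act 5 n1080
theorem D1595 : act 5 n1080 = n1595 := rfl
theorem F4987 : act 3 n1595 = n1081 := d19_1 D1595 (iv D1081) (iv F3457)
theorem F4988 : act 7 n1595 = n1544 := d26_2 F4374 D1595 F4858
theorem F4989 : act 1 n1553 = n1595 := d12_3 F4988 F4855 D1553
def n1596 : Q := act 1 n1081
theorem D1596 : act 1 n1081 = n1596 := rfl
theorem F4990 : act 3 n1596 = n1553 := d8_2 F4987 D1596 F4989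
theorem F4991 : act 5 n1596 = n1131 := d10_2 D1081 D1596 (iv D1131) (iv D770) (iv F2388)
theorem F4992 : act 7 n1596 = n1596 := d12_2 F3458 D1596 (iv D1596)
def n1597 : Q := act 0 n1082
theorem D1597 : act 0 n1082 = n1597 := rfl
theorem F4993 : act 2 n1597 = n1132 := d1_2 (iv F3459) D1597 (iv D1132)
theorem F4994 : act 3 n1597 = n1083 := d2_2 (iv F3460) D1597 (iv D1083)
def n1598 : Q := act 5 n1082
theorem D1598 : act 5 n1082 = n1598 := rfl
theorem F4995 : act 2 n1598 = n1133 := d15_1 D1598 (iv D1133) (iv F3459)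
theorem F4996 : act 3 n1598 = n1085 := d19_1 D1598 (iv D1085) (iv F3460)
def n1599 : Q := act 4 n1083
theorem D1599 : act 4 n1083 = n1599 := rfl
theorem F4997 : act 0 n1599 = n1084 := d3_1 D1599 (iv D1084) D1083
theorem F4998 : act 2 n1599 = n1091 := d14_1 D1599 (iv D1091) (iv F3461)
theorem F4999 : act 7 n1599 = n1524 := d24_2 F4837 D1599 (iv F4835)
theorem F5000 : act 6 n1587 = n1599 := d27_5 F4999 (iv D1524) F3303 D1072 D1587
def n1600 : Q := act 5 n1083
theorem D1600 : act 5 n1083 = n1600 := rfl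
theorem F5001 : act 0 n1600 = n1085 := d4_1 D1600 (iv D1085) D1083
theorem F5002 : act 2 n1600 = n1092 := d15_1 D1600 (iv D1092) (iv F3461)
def n1601 : Q := act 6 n1083
theorem D1601 : act 6 n1083 = n1601 := rfl
theorem F5003 : act 0 n1601 = n1086 := d5_1 D1601 (iv D1086) D1083
theorem F5004 : act 2 n1601 = n1093 := d16_1 D1601 (iv D1093) (iv F3461)
theorem F5005 : act 4 n1601 = n1587 := d23_1 D1601 F5000 (iv D1599)
theorem F5006 : act 7 n1601 = n1586 := d27_2 F4837 D1601 (iv D1586) (iv F4802) (iv F4836)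
def n1602 : Q := act 3 n1084
theorem D1602 : act 3 n1084 = n1602 := rfl
theorem F5007 : act 1 n1602 = n1087 := d8_1 D1602 (iv D1087) (iv F3462)
theorem F5008 : act 2 n1602 = n1602 := d13_1 D1602 (iv D1602) F3463 F2404 (iv F3463)
def n1603 : Q := act 5 n1084
theorem D1603 : act 5 n1084 = n1603 := rfl
theorem F5009 : act 2 n1603 = n1094 := d15_1 D1603 (iv D1094) (iv F3463)
theorem F5010 : act 4 n1603 = n1085 := d22_1 D1603 (iv D1085) D1084
theorem F5011 : act 7 n1603 = n1540 := d26_2 (iv F3464) D1603 (iv D1540)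
def n1604 : Q := act 6 n1085
theorem D1604 : act 6 n1085 = n1604 := rfl
theorem F5012 : act 2 n1604 = n1095 := d16_1 D1604 (iv D1095) (iv F3465)
def n1605 : Q := act 5 n1086
theorem D1605 : act 5 n1086 = n1605 := rfl
theorem F5013 : act 2 n1605 = n1096 := d15_1 D1605 (iv D1096) (iv F3467)
theorem F5014 : act 7 n1605 = n1474 := d26_2 F3472 D1605 F4643
def n1606 : Q := act 7 n1087
theorem D1606 : act 7 n1087 = n1606 := rfl
theorem F5015 : act 2 n1606 = n1090 := d17_1 D1606 (iv D1090) (iv F3468)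
theorem F5016 : act 4 n1606 = n1605 := d24_1 D1606 F5014 F4642
theorem F5017 : act 5 n1606 = n1089 := d26_1 D1606 (iv D1089) (iv F3469)
def n1607 : Q := act 3 n1089
theorem D1607 : act 3 n1089 = n1607 := rfl
theorem F5018 : act 1 n1607 = n1473 := d8_1 D1607 F4637 (iv F3473)
theorem F5019 : act 2 n1607 = n1607 := d13_1 D1607 (iv D1607) F3474 F2400 (iv F3474)
theorem F5020 : act 4 n1607 = n1472 := d18_2 (iv F3475) D1607 F4635 D1476 (iv F4647)
theorem F5021 : act 6 n1607 = n1602 := d20_2 (iv F3476) D1607 (iv D1602)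
def n1608 : Q := act 6 n1090
theorem D1608 : act 6 n1090 = n1608 := rfl
theorem F5022 : act 1 n1608 = n1608 := d11_1 D1608 (iv D1608) F3477
theorem F5023 : act 3 n1608 = n1608 := d20_1 D1608 (iv D1608) F3478
def n1609 : Q := act 5 n1091
theorem D1609 : act 5 n1091 = n1609 := rfl
theorem F5024 : act 0 n1609 = n1094 := d4_1 D1609 (iv D1094) (iv F3480)
theorem F5025 : act 3 n1609 = n1609 := d19_1 D1609 (iv D1609) F3482
theorem F5026 : act 4 n1609 = n1092 := d22_1 D1609 (iv D1092) D1091
theorem F5027 : act 7 n1609 = n1525 := d26_2 (iv F3483) D1609 (iv D1525)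
def n1610 : Q := act 1 n1092
theorem D1610 : act 1 n1092 = n1610 := rfl
theorem F5028 : act 0 n1610 = n1098 := d0_1 D1610 (iv D1098) F2417 (iv F2407) (iv F3485)
theorem F5029 : act 3 n1610 = n1140 := d8_2 (iv F3486) D1610 (iv D1140)
theorem F5030 : act 5 n1610 = n1610 := d10_2 D1092 D1610 (iv D1610) (iv D1092) F2401
def n1611 : Q := act 6 n1092
theorem D1611 : act 6 n1092 = n1611 := rfl
theorem F5031 : act 0 n1611 = n1095 := d5_1 D1611 (iv D1095) (iv F3485)
theorem F5032 : act 3 n1611 = n1141 := d20_1 D1611 (iv D1141) (iv F3486)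
def n1612 : Q := act 5 n1093
theorem D1612 : act 5 n1093 = n1612 := rfl
theorem F5033 : act 0 n1612 = n1096 := d4_1 D1612 (iv D1096) (iv F3487)
theorem F5034 : act 3 n1612 = n1142 := d19_1 D1612 (iv D1142) (iv F3489)
theorem F5035 : act 4 n1612 = n1589 := d22_1 D1612 F4978 (iv F3490)
theorem F5036 : act 7 n1612 = n1460 := d26_2 (iv F3491) D1612 F4606
def n1613 : Q := act 6 n1094
theorem D1613 : act 6 n1094 = n1613 := rfl
theorem F5037 : act 1 n1613 = n1100 := d11_1 D1613 (iv D1100) (iv F3492)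
theorem F5038 : act 3 n1613 = n1613 := d20_1 D1613 (iv D1613) F3493
theorem F5039 : act 4 n1613 = n1095 := d23_1 D1613 (iv D1095) (iv F3494)
theorem F5040 : act 5 n1613 = n1608 := d25_1 D1613 (iv D1608) F3479 F2406 D1094
def n1614 : Q := act 5 n1095
theorem D1614 : act 5 n1095 = n1614 := rfl
theorem F5041 : act 1 n1614 = n1614 := d10_1 D1614 (iv D1614) F3496 F2422 (iv F3496)
theorem F5042 : act 3 n1614 = n1144 := d19_1 D1614 (iv D1144) (iv F3497)
theorem F5043 : act 4 n1614 = n1608 := d22_1 D1614 (iv F5040) F5039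
theorem F5044 : act 6 n1614 = n1096 := d25_2 D1095 D1614 (iv D1096) (iv D739) D738
theorem F5045 : act 7 n1470 = n1614 := d27_0 F5044 F3501 (iv D986) (iv F3162) D1470
def n1615 : Q := act 7 n1095
theorem D1615 : act 7 n1095 = n1615 := rfl
theorem F5046 : act 1 n1615 = n1101 := d12_1 D1615 (iv D1101) (iv F3496)
theorem F5047 : act 5 n1615 = n1470 := d26_1 D1615 F5045 (iv D1614)
theorem F5048 : act 6 n1615 = n1595 := d27_1 D1615 F4988 (iv D1544) F3350 D1095
theorem F5049 : act 3 n1471 = n1615 := d20_3 F5048 F4987 (iv F4633)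
def n1616 : Q := act 1 n1097
theorem D1616 : act 1 n1097 = n1616 := rfl
theorem F5050 : act 3 n1616 = n1616 := d8_2 F3503 D1616 (iv D1616)
theorem F5051 : act 4 n1616 = n1098 := d9_2 (iv F3504) D1616 (iv D1098)
theorem F5052 : act 5 n1616 = n1616 := d10_2 D1097 D1616 (iv D1616) (iv D1097) F2414
def n1617 : Q := act 6 n1097
theorem D1617 : act 6 n1097 = n1617 := rfl
theorem F5053 : act 0 n1617 = n1100 := d5_1 D1617 (iv D1100) (iv F3502)
theorem F5054 : act 3 n1617 = n1617 := d20_1 D1617 (iv D1617) F3503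
theorem F5055 : act 4 n1617 = n1099 := d23_1 D1617 (iv D1099) (iv F3504)
theorem F5056 : act 5 n1617 = n1617 := d25_1 D1617 (iv D1617) (iv D1097) F2416 D1097
def n1618 : Q := act 2 n1098
theorem D1618 : act 2 n1098 = n1618 := rfl
theorem F5057 : act 5 n1618 = n1618 := d15_2 F3506 D1618 (iv D1618)
def n1619 : Q := act 6 n1098
theorem D1619 : act 6 n1098 = n1619 := rfl
theorem F5058 : act 1 n1619 = n1099 := d11_1 D1619 (iv D1099) D1098
theorem F5059 : act 3 n1619 = n1148 := d20_1 D1619 (iv D1148) (iv F3505)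
def n1620 : Q := act 7 n1099
theorem D1620 : act 7 n1099 = n1620 := rfl
theorem F5060 : act 0 n1620 = n1101 := d6_1 D1620 (iv D1101) (iv F3507)
theorem F5061 : act 5 n1620 = n1620 := d26_1 D1620 (iv D1620) F3509
def n1621 : Q := act 7 n1100
theorem D1621 : act 7 n1100 = n1621 := rfl
theorem F5062 : act 4 n1621 = n1101 := d24_1 D1621 (iv D1101) (iv F3511)
theorem F5063 : act 5 n1621 = n1621 := d26_1 D1621 (iv D1621) F3512
def n1622 : Q := act 3 n1101
theorem D1622 : act 3 n1101 = n1622 := rfl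
theorem F5064 : act 1 n1622 = n1471 := d8_1 D1622 F5049 F5046
theorem F5065 : act 5 n1622 = n1622 := d19_2 F3513 D1622 (iv D1622)
theorem F5066 : act 6 n1622 = n1596 := d20_2 F4887 D1622 F4990
theorem F5067 : act 7 n1622 = n1150 := d21_2 D1101 D1622 (iv D1150) (iv D783) (iv F2421)
def n1623 : Q := act 3 n1102
theorem D1623 : act 3 n1102 = n1623 := rfl
theorem F5068 : act 0 n1623 = n1151 := d2_1 D1623 (iv D1151) (iv F3514)
theorem F5069 : act 1 n1623 = n1103 := d8_1 D1623 (iv D1103) (iv F3515)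
def n1624 : Q := act 2 n1103
theorem D1624 : act 2 n1103 = n1624 := rfl
theorem F5070 : act 0 n1624 = n1105 := d1_1 D1624 (iv D1105) (iv F3517)
theorem F5071 : act 3 n1624 = n1624 := d13_2 D1103 D1624 (iv D1624) (iv D1103) F2433
def n1625 : Q := act 1 n1105
theorem D1625 : act 1 n1105 = n1625 := rfl
theorem F5072 : act 2 n1625 = n1153 := d7_2 D1105 D1625 (iv D1153) (iv D786) (iv F2446)
theorem F5073 : act 3 n1625 = n1625 := d8_2 F3522 D1625 (iv D1625)
def n1626 : Q := act 7 n1106
theorem D1626 : act 7 n1106 = n1626 := rfl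
theorem F5074 : act 1 n1626 = n1626 := d12_1 D1626 (iv D1626) F3523
theorem F5075 : act 2 n1626 = n1109 := d17_1 D1626 (iv D1109) (iv F3524)
theorem F5076 : act 4 n1626 = n1108 := d24_1 D1626 (iv D1108) D1106
def n1627 : Q := act 1 n1107
theorem D1627 : act 1 n1107 = n1627 := rfl
theorem F5077 : act 2 n1627 = n1627 := d7_2 (iv F3526) D1627 (iv D1627) F3526 F2456
theorem F5078 : act 3 n1627 = n1627 := d8_2 F3527 D1627 (iv D1627)
theorem F5079 : act 4 n1627 = n1231 := d9_2 (iv F3781) D1627 F3901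
theorem F5080 : act 5 n1627 = n1627 := d10_2 D1107 D1627 (iv D1627) (iv D1107) F2450
def n1628 : Q := act 7 n1107
theorem D1628 : act 7 n1107 = n1628 := rfl
theorem F5081 : act 2 n1628 = n1110 := d17_1 D1628 (iv D1110) (iv F3526)
theorem F5082 : act 5 n1628 = n1108 := d26_1 D1628 (iv D1108) D1107
def n1629 : Q := act 3 n1108
theorem D1629 : act 3 n1108 = n1629 := rfl
theorem F5083 : act 1 n1629 = n1629 := d8_1 D1629 (iv D1629) F3528
theorem F5084 : act 7 n1629 = n1629 := d21_2 D1108 D1629 (iv D1629) (iv D1108) F2451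
def n1630 : Q := act 6 n1108
theorem D1630 : act 6 n1108 = n1630 := rfl
theorem F5085 : act 1 n1630 = n1630 := d11_1 D1630 (iv D1630) F3528
theorem F5086 : act 2 n1630 = n1112 := d16_1 D1630 (iv D1112) (iv F3529)
theorem F5087 : act 7 n1630 = n1630 := d27_2 D1108 D1630 (iv D1630) (iv D1108) F2452
def n1631 : Q := act 3 n1109
theorem D1631 : act 3 n1109 = n1631 := rfl
theorem F5088 : act 1 n1631 = n1115 := d8_1 D1631 (iv D1115) (iv F3530)
theorem F5089 : act 7 n1631 = n1151 := d21_2 D1109 D1631 (iv D1151) (iv D784) (iv F2454)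
def n1632 : Q := act 6 n1109
theorem D1632 : act 6 n1109 = n1632 := rfl
theorem F5090 : act 1 n1632 = n1116 := d11_1 D1632 (iv D1116) (iv F3530)
theorem F5091 : act 4 n1632 = n1112 := d23_1 D1632 (iv D1112) (iv F3531)
theorem F5092 : act 7 n1632 = n1632 := d27_2 D1109 D1632 (iv D1632) (iv D1109) F2455
def n1633 : Q := act 3 n1110
theorem D1633 : act 3 n1110 = n1633 := rfl
theorem F5093 : act 1 n1633 = n1633 := d8_1 D1633 (iv D1633) F3532
theorem F5094 : act 5 n1633 = n1111 := d19_2 (iv F3533) D1633 (iv D1111)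
theorem F5095 : act 7 n1633 = n1113 := d21_2 D1110 D1633 (iv D1113) (iv D757) (iv F2457)
def n1634 : Q := act 6 n1110
theorem D1634 : act 6 n1110 = n1634 := rfl
theorem F5096 : act 1 n1634 = n1634 := d11_1 D1634 (iv D1634) F3532
def n1635 : Q := act 2 n1111
theorem D1635 : act 2 n1111 = n1635 := rfl
theorem F5097 : act 7 n1635 = n1114 := d17_2 (iv F3535) D1635 (iv D1114)
def n1636 : Q := act 6 n1111
theorem D1636 : act 6 n1111 = n1636 := rfl
theorem F5098 : act 1 n1636 = n1118 := d11_1 D1636 (iv D1118) (iv F3534)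
theorem F5099 : act 3 n1636 = n1112 := d20_1 D1636 (iv D1112) D1111
def n1637 : Q := act 5 n1112
theorem D1637 : act 5 n1112 = n1637 := rfl
theorem F5100 : act 7 n1637 = n1637 := d26_2 F3537 D1637 (iv D1637)
def n1638 : Q := act 2 n1113
theorem D1638 : act 2 n1113 = n1638 := rfl
theorem F5101 : act 3 n1638 = n1638 := d13_2 D1113 D1638 (iv D1638) (iv D1113) F2460
theorem F5102 : act 5 n1638 = n1114 := d15_2 (iv F3539) D1638 (iv D1114)
theorem F5103 : act 6 n1638 = n1638 := d16_2 F3540 D1638 (iv D1638)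
def n1639 : Q := act 1 n1114
theorem D1639 : act 1 n1114 = n1639 := rfl
theorem F5104 : act 2 n1639 = n1120 := d7_2 D1114 D1639 (iv D1120) (iv D762) (iv F2464)
theorem F5105 : act 3 n1639 = n1639 := d8_2 F3541 D1639 (iv D1639)
def n1640 : Q := act 2 n1115
theorem D1640 : act 2 n1115 = n1640 := rfl
theorem F5106 : act 0 n1640 = n1125 := d1_1 D1640 (iv D1125) (iv F3542)
theorem F5107 : act 3 n1640 = n1640 := d13_2 D1115 D1640 (iv D1640) (iv D1115) F2466
theorem F5108 : act 5 n1640 = n1640 := d15_2 F3543 D1640 (iv D1640)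
theorem F5109 : act 7 n1640 = n1152 := d17_2 (iv F3544) D1640 (iv D1152)
def n1641 : Q := act 6 n1115
theorem D1641 : act 6 n1115 = n1641 := rfl
theorem F5110 : act 0 n1641 = n1126 := d5_1 D1641 (iv D1126) (iv F3542)
theorem F5111 : act 3 n1641 = n1116 := d20_1 D1641 (iv D1116) D1115
def n1642 : Q := act 5 n1116
theorem D1642 : act 5 n1116 = n1642 := rfl
theorem F5112 : act 0 n1642 = n1127 := d4_1 D1642 (iv D1127) (iv F3545)
theorem F5113 : act 2 n1642 = n1642 := d15_1 D1642 (iv D1642) F3546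
theorem F5114 : act 4 n1642 = n1119 := d22_1 D1642 (iv D1119) (iv F3547)
theorem F5115 : act 6 n1642 = n1642 := d25_2 D1116 D1642 (iv D1642) (iv D1116) F2468
theorem F5116 : act 7 n1642 = n1642 := d26_2 F3548 D1642 (iv D1642)
def n1643 : Q := act 1 n1117
theorem D1643 : act 1 n1117 = n1643 := rfl
theorem F5117 : act 3 n1643 = n1643 := d8_2 F3550 D1643 (iv D1643)
theorem F5118 : act 7 n1643 = n1120 := d12_2 (iv F3552) D1643 (iv D1120)
def n1644 : Q := act 6 n1117
theorem D1644 : act 6 n1117 = n1644 := rfl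
theorem F5119 : act 0 n1644 = n1129 := d5_1 D1644 (iv D1129) (iv F3549)
theorem F5120 : act 2 n1644 = n1118 := d16_1 D1644 (iv D1118) D1117
theorem F5121 : act 3 n1644 = n1644 := d20_1 D1644 (iv D1644) F3550
def n1645 : Q := act 5 n1118
theorem D1645 : act 5 n1118 = n1645 := rfl
theorem F5122 : act 0 n1645 = n1130 := d4_1 D1645 (iv D1130) (iv F3553)
theorem F5123 : act 3 n1645 = n1119 := d19_1 D1645 (iv D1119) (iv F3554)
theorem F5124 : act 6 n1645 = n1645 := d25_2 D1118 D1645 (iv D1645) (iv D1118) F2470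
def n1646 : Q := act 1 n1119
theorem D1646 : act 1 n1119 = n1646 := rfl
theorem F5125 : act 6 n1646 = n1646 := d11_2 F3557 D1646 (iv D1646)
theorem F5126 : act 7 n1646 = n1646 := d12_2 F3558 D1646 (iv D1646)
def n1647 : Q := act 0 n1120
theorem D1647 : act 0 n1120 = n1647 := rfl
theorem F5127 : act 1 n1647 = n1132 := d0_2 D1120 D1647 (iv D1132) (iv D771) (iv F2475)
theorem F5128 : act 3 n1647 = n1121 := d2_2 (iv F3559) D1647 (iv D1121)
def n1648 : Q := act 5 n1120
theorem D1648 : act 5 n1120 = n1648 := rfl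
theorem F5129 : act 1 n1648 = n1648 := d10_1 D1648 (iv D1648) (iv D1120) F2477 D1120
theorem F5130 : act 3 n1648 = n1122 := d19_1 D1648 (iv D1122) (iv F3559)
def n1649 : Q := act 5 n1121
theorem D1649 : act 5 n1121 = n1649 := rfl
theorem F5131 : act 0 n1649 = n1122 := d4_1 D1649 (iv D1122) D1121
theorem F5132 : act 2 n1649 = n1649 := d15_1 D1649 (iv D1649) F3561
theorem F5133 : act 4 n1649 = n1649 := d22_1 D1649 (iv D1649) F3562
theorem F5134 : act 7 n1649 = n1649 := d26_2 F3563 D1649 (iv D1649)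
def n1650 : Q := act 6 n1121
theorem D1650 : act 6 n1121 = n1650 := rfl
theorem F5135 : act 0 n1650 = n1123 := d5_1 D1650 (iv D1123) D1121
theorem F5136 : act 1 n1650 = n1135 := d11_1 D1650 (iv D1135) (iv F3560)
theorem F5137 : act 2 n1650 = n1650 := d16_1 D1650 (iv D1650) F3561
theorem F5138 : act 4 n1650 = n1650 := d23_1 D1650 (iv D1650) F3562
def n1651 : Q := act 6 n1122
theorem D1651 : act 6 n1122 = n1651 := rfl
theorem F5139 : act 1 n1651 = n1651 := d11_1 D1651 (iv D1651) F3564
theorem F5140 : act 2 n1651 = n1651 := d16_1 D1651 (iv D1651) F3565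
theorem F5141 : act 4 n1651 = n1651 := d23_1 D1651 (iv D1651) F3566
def n1652 : Q := act 5 n1123
theorem D1652 : act 5 n1123 = n1652 := rfl
theorem F5142 : act 2 n1652 = n1652 := d15_1 D1652 (iv D1652) F3569
theorem F5143 : act 4 n1652 = n1652 := d22_1 D1652 (iv D1652) F3570
def n1653 : Q := act 7 n1123
theorem D1653 : act 7 n1123 = n1653 := rfl
theorem F5144 : act 1 n1653 = n1124 := d12_1 D1653 (iv D1124) (iv F3568)
theorem F5145 : act 2 n1653 = n1653 := d17_1 D1653 (iv D1653) F3569
theorem F5146 : act 4 n1653 = n1653 := d24_1 D1653 (iv D1653) F3570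
theorem F5147 : act 6 n1653 = n1653 := d27_1 D1653 (iv D1653) (iv D1123) F2480 D1123
def n1654 : Q := act 3 n1124
theorem D1654 : act 3 n1124 = n1654 := rfl
theorem F5148 : act 0 n1654 = n1139 := d2_1 D1654 (iv D1139) (iv F3571)
theorem F5149 : act 2 n1654 = n1654 := d13_1 D1654 (iv D1654) F3572 F2486 (iv F3572)
theorem F5150 : act 6 n1654 = n1654 := d20_2 F3574 D1654 (iv D1654)
def n1655 : Q := act 1 n1125
theorem D1655 : act 1 n1125 = n1655 := rfl
theorem F5151 : act 3 n1655 = n1655 := d8_2 F3575 D1655 (iv D1655)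
theorem F5152 : act 7 n1655 = n1153 := d12_2 (iv F3577) D1655 (iv D1153)
def n1656 : Q := act 6 n1125
theorem D1656 : act 6 n1125 = n1656 := rfl
theorem F5153 : act 2 n1656 = n1126 := d16_1 D1656 (iv D1126) D1125
theorem F5154 : act 3 n1656 = n1656 := d20_1 D1656 (iv D1656) F3575
def n1657 : Q := act 5 n1126
theorem D1657 : act 5 n1126 = n1657 := rfl
theorem F5155 : act 3 n1657 = n1127 := d19_1 D1657 (iv D1127) (iv F3578)
theorem F5156 : act 4 n1657 = n1333 := d22_1 D1657 (iv F4309) F4308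
theorem F5157 : act 6 n1657 = n1657 := d25_2 D1126 D1657 (iv D1657) (iv D1126) F2489
theorem F5158 : act 7 n1657 = n1332 := d26_2 F4306 D1657 (iv F4305)
def n1658 : Q := act 1 n1127
theorem D1658 : act 1 n1127 = n1658 := rfl
theorem F5159 : act 4 n1658 = n1131 := d9_2 (iv F3580) D1658 (iv D1131)
theorem F5160 : act 6 n1658 = n1658 := d11_2 F3581 D1658 (iv D1658)
theorem F5161 : act 7 n1658 = n1658 := d12_2 F3582 D1658 (iv D1658)
def n1659 : Q := act 0 n1128
theorem D1659 : act 0 n1128 = n1659 := rfl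
theorem F5162 : act 3 n1659 = n1659 := d2_2 F3583 D1659 (iv D1659)
theorem F5163 : act 7 n1659 = n1132 := d6_2 (iv F3584) D1659 (iv D1132)
def n1660 : Q := act 6 n1128
theorem D1660 : act 6 n1128 = n1660 := rfl
theorem F5164 : act 1 n1660 = n1129 := d11_1 D1660 (iv D1129) D1128
theorem F5165 : act 3 n1660 = n1660 := d20_1 D1660 (iv D1660) F3583
def n1661 : Q := act 5 n1129
theorem D1661 : act 5 n1129 = n1661 := rfl
theorem F5166 : act 2 n1661 = n1130 := d15_1 D1661 (iv D1130) (iv F3585)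
theorem F5167 : act 3 n1661 = n1661 := d19_1 D1661 (iv D1661) F3586
theorem F5168 : act 6 n1661 = n1661 := d25_2 D1129 D1661 (iv D1661) (iv D1129) F2495
def n1662 : Q := act 1 n1130
theorem D1662 : act 1 n1130 = n1662 := rfl
theorem F5169 : act 3 n1662 = n1131 := d8_2 (iv F3587) D1662 (iv D1131)
theorem F5170 : act 5 n1662 = n1553 := d10_2 D1130 D1662 F4989 (iv D1595) F3456
theorem F5171 : act 6 n1662 = n1662 := d11_2 F3588 D1662 (iv D1662)
theorem F5172 : act 7 n1662 = n1552 := d12_2 F4405 D1662 F4883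
def n1663 : Q := act 0 n1131
theorem D1663 : act 0 n1131 = n1663 := rfl
theorem F5173 : act 6 n1663 = n1663 := d5_2 F3589 D1663 (iv D1663)
theorem F5174 : act 7 n1663 = n1663 := d6_2 F3590 D1663 (iv D1663)
def n1664 : Q := act 2 n1131
theorem D1664 : act 2 n1131 = n1664 := rfl
theorem F5175 : act 1 n1664 = n1664 := d7_1 D1664 (iv D1664) (iv D1131) F2498 D1131
theorem F5176 : act 6 n1664 = n1664 := d16_2 F3589 D1664 (iv D1664)
theorem F5177 : act 7 n1664 = n1664 := d17_2 F3590 D1664 (iv D1664)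
def n1665 : Q := act 5 n1132
theorem D1665 : act 5 n1132 = n1665 := rfl
theorem F5178 : act 0 n1665 = n1133 := d4_1 D1665 (iv D1133) D1132
theorem F5179 : act 3 n1665 = n1134 := d19_1 D1665 (iv D1134) (iv F3591)
def n1666 : Q := act 6 n1133
theorem D1666 : act 6 n1133 = n1666 := rfl
theorem F5180 : act 1 n1666 = n1666 := d11_1 D1666 (iv D1666) F3592
theorem F5181 : act 3 n1666 = n1136 := d20_1 D1666 (iv D1136) (iv F3593)
def n1667 : Q := act 1 n1134
theorem D1667 : act 1 n1134 = n1667 := rfl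
theorem F5182 : act 0 n1667 = n1667 := d0_1 D1667 (iv D1667) F3594 F2505 (iv F3594)
theorem F5183 : act 4 n1667 = n1667 := d9_2 F3596 D1667 (iv D1667)
theorem F5184 : act 7 n1667 = n1667 := d12_2 F3597 D1667 (iv D1667)
def n1668 : Q := act 6 n1134
theorem D1668 : act 6 n1134 = n1668 := rfl
theorem F5185 : act 0 n1668 = n1136 := d5_1 D1668 (iv D1136) (iv F3594)
theorem F5186 : act 2 n1668 = n1141 := d16_1 D1668 (iv D1141) (iv F3595)
theorem F5187 : act 4 n1668 = n1668 := d23_1 D1668 (iv D1668) F3596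
def n1669 : Q := act 5 n1135
theorem D1669 : act 5 n1135 = n1669 := rfl
theorem F5188 : act 0 n1669 = n1137 := d4_1 D1669 (iv D1137) (iv F3598)
theorem F5189 : act 2 n1669 = n1142 := d15_1 D1669 (iv D1142) (iv F3599)
theorem F5190 : act 4 n1669 = n1669 := d22_1 D1669 (iv D1669) F3600
def n1670 : Q := act 7 n1135
theorem D1670 : act 7 n1135 = n1670 := rfl
theorem F5191 : act 0 n1670 = n1138 := d6_1 D1670 (iv D1138) (iv F3598)
theorem F5192 : act 2 n1670 = n1143 := d17_1 D1670 (iv D1143) (iv F3599)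
theorem F5193 : act 4 n1670 = n1670 := d24_1 D1670 (iv D1670) F3600
theorem F5194 : act 6 n1670 = n1670 := d27_1 D1670 (iv D1670) (iv D1135) F2504 D1135
def n1671 : Q := act 5 n1136
theorem D1671 : act 5 n1136 = n1671 := rfl
theorem F5195 : act 2 n1671 = n1144 := d15_1 D1671 (iv D1144) (iv F3602)
theorem F5196 : act 4 n1671 = n1671 := d22_1 D1671 (iv D1671) F3603
theorem F5197 : act 6 n1671 = n1137 := d25_2 D1136 D1671 (iv D1137) (iv D774) D773
def n1672 : Q := act 7 n1136
theorem D1672 : act 7 n1136 = n1672 := rfl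
theorem F5198 : act 1 n1672 = n1672 := d12_1 D1672 (iv D1672) F3601
theorem F5199 : act 2 n1672 = n1145 := d17_1 D1672 (iv D1145) (iv F3602)
theorem F5200 : act 4 n1672 = n1672 := d24_1 D1672 (iv D1672) F3603
theorem F5201 : act 6 n1672 = n1672 := d27_1 D1672 (iv D1672) (iv D1136) F2508 D1136
def n1673 : Q := act 7 n1137
theorem D1673 : act 7 n1137 = n1673 := rfl
theorem F5202 : act 2 n1673 = n1146 := d17_1 D1673 (iv D1146) (iv F3604)
theorem F5203 : act 4 n1673 = n1673 := d24_1 D1673 (iv D1673) F3605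
theorem F5204 : act 5 n1673 = n1138 := d26_1 D1673 (iv D1138) D1137
theorem F5205 : act 3 n1434 = n1673 := d30_4 D647 F2141 (iv F3093) (iv F4531) (iv D1673) (iv F5197) (iv D1671) F3601 F3602 (iv F3497) D1615 F5048 (iv D1595) F3456 (iv F3585) F3586 (iv F4395) (iv D1390) F3007 (iv F3022) F3023 (iv F2336) F2330 F2329 (iv F2105) (iv D636) (iv F1443) D617 F2055
theorem F5206 : act 6 n1673 = n1431 := d20_2 D1434 F5205 F4523
def n1674 : Q := act 3 n1138
theorem D1674 : act 3 n1138 = n1674 := rfl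
theorem F5207 : act 1 n1674 = n1139 := d8_1 D1674 (iv D1139) (iv F3606)
theorem F5208 : act 2 n1674 = n1435 := d13_1 D1674 F4534 F3097 (iv F2526) (iv F3607)
theorem F5209 : act 5 n1674 = n1434 := d19_2 F5204 D1674 F5205
theorem F5210 : act 6 n1674 = n1674 := d20_2 F3609 D1674 (iv D1674)
theorem F5211 : act 4 n1506 = n1674 := d22_3 F5209 F4532 (iv F4751)
def n1675 : Q := act 4 n1139
theorem D1675 : act 4 n1139 = n1675 := rfl
theorem F5212 : act 1 n1675 = n1506 := d9_1 D1675 F5211 F5207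
theorem F5213 : act 2 n1675 = n1675 := d14_1 D1675 (iv D1675) F3610
theorem F5214 : act 3 n1675 = n1675 := d18_1 D1675 (iv D1675) (iv D1139) F2513 D1139
theorem F5215 : act 6 n1675 = n1675 := d23_2 F3611 D1675 (iv D1675)
def n1676 : Q := act 2 n1140
theorem D1676 : act 2 n1140 = n1676 := rfl
theorem F5216 : act 0 n1676 = n1147 := d1_1 D1676 (iv D1147) (iv F3612)
theorem F5217 : act 4 n1676 = n1676 := d14_2 F3613 D1676 (iv D1676)
theorem F5218 : act 5 n1676 = n1676 := d15_2 F3614 D1676 (iv D1676)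
theorem F5219 : act 7 n1676 = n1676 := d17_2 F3615 D1676 (iv D1676)
def n1677 : Q := act 6 n1140
theorem D1677 : act 6 n1140 = n1677 := rfl
theorem F5220 : act 0 n1677 = n1148 := d5_1 D1677 (iv D1148) (iv F3612)
theorem F5221 : act 1 n1677 = n1141 := d11_1 D1677 (iv D1141) D1140
theorem F5222 : act 4 n1677 = n1677 := d23_1 D1677 (iv D1677) F3613
def n1678 : Q := act 5 n1141
theorem D1678 : act 5 n1141 = n1678 := rfl
theorem F5223 : act 0 n1678 = n1144 := d4_1 D1678 (iv D1144) (iv F3616)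
theorem F5224 : act 4 n1678 = n1678 := d22_1 D1678 (iv D1678) F3617
theorem F5225 : act 6 n1678 = n1142 := d25_2 D1141 D1678 (iv D1142) (iv D777) D776
def n1679 : Q := act 7 n1141
theorem D1679 : act 7 n1141 = n1679 := rfl
theorem F5226 : act 0 n1679 = n1145 := d6_1 D1679 (iv D1145) (iv F3616)
theorem F5227 : act 4 n1679 = n1679 := d24_1 D1679 (iv D1679) F3617
theorem F5228 : act 6 n1679 = n1679 := d27_1 D1679 (iv D1679) (iv D1141) F2517 D1141
def n1680 : Q := act 1 n1142
theorem D1680 : act 1 n1142 = n1680 := rfl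
theorem F5229 : act 0 n1680 = n1680 := d0_1 D1680 (iv D1680) F3618 F2523 (iv F3618)
theorem F5230 : act 4 n1680 = n1680 := d9_2 F3619 D1680 (iv D1680)
theorem F5231 : act 5 n1680 = n1680 := d10_2 D1142 D1680 (iv D1680) (iv D1142) F2519
def n1681 : Q := act 7 n1142
theorem D1681 : act 7 n1142 = n1681 := rfl
theorem F5232 : act 0 n1681 = n1146 := d6_1 D1681 (iv D1146) (iv F3618)
theorem F5233 : act 3 n1681 = n1423 := d21_1 D1681 F4497 (iv F4604) (iv F5036) F5034
theorem F5234 : act 4 n1681 = n1681 := d24_1 D1681 (iv D1681) F3619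
theorem F5235 : act 5 n1681 = n1143 := d26_1 D1681 (iv D1143) D1142
theorem F5236 : act 6 n1422 = n1681 := d20_0 F5233 (iv D1423) D1422
def n1682 : Q := act 7 n1144
theorem D1682 : act 7 n1144 = n1682 := rfl
theorem F5237 : act 1 n1682 = n1682 := d12_1 D1682 (iv D1682) F3625
theorem F5238 : act 3 n1682 = n1430 := d21_1 D1682 F4522 (iv F4632) F5045 F5042
theorem F5239 : act 4 n1682 = n1682 := d24_1 D1682 (iv D1682) F3626
theorem F5240 : act 5 n1682 = n1145 := d26_1 D1682 (iv D1145) D1144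
theorem F5241 : act 6 n1682 = n1429 := d27_1 D1682 F4520 F3635 (iv D1146) (iv F3627)
def n1683 : Q := act 3 n1145
theorem D1683 : act 3 n1145 = n1683 := rfl
theorem F5242 : act 1 n1683 = n1150 := d8_1 D1683 (iv D1150) (iv F3628)
theorem F5243 : act 5 n1683 = n1430 := d19_2 F5240 D1683 (iv F5238)
theorem F5244 : act 6 n1683 = n1683 := d20_2 F3630 D1683 (iv D1683)
theorem F5245 : act 7 n1683 = n1471 := d21_2 D1145 D1683 F5049 (iv D1615) F3497
def n1684 : Q := act 3 n1147
theorem D1684 : act 3 n1147 = n1684 := rfl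
theorem F5246 : act 1 n1684 = n1684 := d8_1 D1684 (iv D1684) F3636
theorem F5247 : act 5 n1684 = n1684 := d19_2 F3638 D1684 (iv D1684)
def n1685 : Q := act 6 n1147
theorem D1685 : act 6 n1147 = n1685 := rfl
theorem F5248 : act 1 n1685 = n1685 := d11_1 D1685 (iv D1685) F3636
theorem F5249 : act 2 n1685 = n1148 := d16_1 D1685 (iv D1148) D1147
theorem F5250 : act 4 n1685 = n1685 := d23_1 D1685 (iv D1685) F3637
def n1686 : Q := act 5 n1148
theorem D1686 : act 5 n1148 = n1686 := rfl
theorem F5251 : act 1 n1686 = n1686 := d10_1 D1686 (iv D1686) F3640 F2535 (iv F3640)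
theorem F5252 : act 4 n1686 = n1686 := d22_1 D1686 (iv D1686) F3641
theorem F5253 : act 6 n1686 = n1686 := d25_2 D1148 D1686 (iv D1686) (iv D1148) F2530
def n1687 : Q := act 7 n1148
theorem D1687 : act 7 n1148 = n1687 := rfl
theorem F5254 : act 1 n1687 = n1149 := d12_1 D1687 (iv D1149) (iv F3640)
theorem F5255 : act 4 n1687 = n1687 := d24_1 D1687 (iv D1687) F3641
theorem F5256 : act 6 n1687 = n1687 := d27_1 D1687 (iv D1687) (iv D1148) F2531 D1148
def n1688 : Q := act 3 n1149
theorem D1688 : act 3 n1149 = n1688 := rfl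
theorem F5257 : act 0 n1688 = n1150 := d2_1 D1688 (iv D1150) (iv F3642)
theorem F5258 : act 5 n1688 = n1688 := d19_2 F3645 D1688 (iv D1688)
theorem F5259 : act 6 n1688 = n1688 := d20_2 F3646 D1688 (iv D1688)
def n1689 : Q := act 2 n1150
theorem D1689 : act 2 n1150 = n1689 := rfl
theorem F5260 : act 3 n1689 = n1689 := d13_2 D1150 D1689 (iv D1689) (iv D1150) F2536
theorem F5261 : act 5 n1689 = n1689 := d15_2 F3647 D1689 (iv D1689)
theorem F5262 : act 6 n1689 = n1689 := d16_2 F3648 D1689 (iv D1689)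
def n1690 : Q := act 4 n1150
theorem D1690 : act 4 n1150 = n1690 := rfl
theorem F5263 : act 3 n1690 = n1690 := d18_1 D1690 (iv D1690) (iv D1150) F2537 D1150
theorem F5264 : act 5 n1690 = n1690 := d22_2 F3647 D1690 (iv D1690)
theorem F5265 : act 6 n1690 = n1690 := d23_2 F3648 D1690 (iv D1690)
def n1691 : Q := act 2 n1151
theorem D1691 : act 2 n1151 = n1691 := rfl
def n1692 : Q := act 1 n1152
theorem D1692 : act 1 n1152 = n1692 := rfl
theorem F5266 : act 3 n1692 = n1156 := d8_2 (iv F3651) D1692 (iv D1156)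
def n1693 : Q := act 0 n1153
theorem D1693 : act 0 n1153 = n1693 := rfl
theorem F5267 : act 3 n1693 = n1159 := d2_2 (iv F3653) D1693 (iv D1159)
def n1694 : Q := act 5 n1153
theorem D1694 : act 5 n1153 = n1694 := rfl
theorem F5268 : act 1 n1694 = n1694 := d10_1 D1694 (iv D1694) (iv D1153) F2545 D1153
theorem F5269 : act 3 n1694 = n1160 := d19_1 D1694 (iv D1160) (iv F3653)
def n1695 : Q := act 1 n1154
theorem D1695 : act 1 n1154 = n1695 := rfl
theorem F5270 : act 2 n1695 = n1156 := d7_2 D1154 D1695 (iv D1156) (iv D789) (iv F2547)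
theorem F5271 : act 4 n1695 = n1695 := d9_2 F3655 D1695 (iv D1695)
theorem F5272 : act 7 n1695 = n1695 := d12_2 F3656 D1695 (iv D1695)
def n1696 : Q := act 6 n1154
theorem D1696 : act 6 n1154 = n1696 := rfl
theorem F5273 : act 0 n1696 = n1696 := d5_1 D1696 (iv D1696) F3654
theorem F5274 : act 2 n1696 = n1155 := d16_1 D1696 (iv D1155) D1154
theorem F5275 : act 4 n1696 = n1696 := d23_1 D1696 (iv D1696) F3655
theorem F5276 : act 5 n1696 = n1696 := d25_1 D1696 (iv D1696) (iv F3908) F3909 F3908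
def n1697 : Q := act 7 n1155
theorem D1697 : act 7 n1155 = n1697 := rfl
theorem F5277 : act 0 n1697 = n1697 := d6_1 D1697 (iv D1697) F3657
theorem F5278 : act 1 n1697 = n1158 := d12_1 D1697 (iv D1158) (iv F3658)
theorem F5279 : act 3 n1697 = n1697 := d21_1 D1697 (iv D1697) F3659 F2554 (iv F3659)
theorem F5280 : act 4 n1697 = n1697 := d24_1 D1697 (iv D1697) F3660
theorem F5281 : act 5 n1697 = n1697 := d26_1 D1697 (iv D1697) F3661
theorem F5282 : act 6 n1697 = n1697 := d27_1 D1697 (iv D1697) (iv D1155) F2549 D1155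
def n1698 : Q := act 0 n1156
theorem D1698 : act 0 n1156 = n1698 := rfl
theorem F5283 : act 1 n1698 = n1159 := d0_2 D1156 D1698 (iv D1159) (iv D791) (iv F2555)
theorem F5284 : act 4 n1698 = n1698 := d3_2 F3662 D1698 (iv D1698)
theorem F5285 : act 7 n1698 = n1698 := d6_2 F3663 D1698 (iv D1698)
def n1699 : Q := act 5 n1156
theorem D1699 : act 5 n1156 = n1699 := rfl
theorem F5286 : act 1 n1699 = n1699 := d10_1 D1699 (iv D1699) (iv D1156) F2557 D1156
theorem F5287 : act 4 n1699 = n1699 := d22_1 D1699 (iv D1699) F3662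
theorem F5288 : act 7 n1699 = n1699 := d26_2 F3663 D1699 (iv D1699)
def n1700 : Q := act 6 n1156
theorem D1700 : act 6 n1156 = n1700 := rfl
theorem F5289 : act 1 n1700 = n1157 := d11_1 D1700 (iv D1157) D1156
theorem F5290 : act 4 n1700 = n1700 := d23_1 D1700 (iv D1700) F3662
def n1701 : Q := act 7 n1157
theorem D1701 : act 7 n1157 = n1701 := rfl
theorem F5291 : act 0 n1701 = n1162 := d6_1 D1701 (iv D1162) (iv F3664)
theorem F5292 : act 2 n1701 = n1158 := d17_1 D1701 (iv D1158) (iv F3665)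
theorem F5293 : act 4 n1701 = n1701 := d24_1 D1701 (iv D1701) F3666
theorem F5294 : act 6 n1701 = n1701 := d27_1 D1701 (iv D1701) (iv D1157) F2558 D1157
def n1702 : Q := act 5 n1159
theorem D1702 : act 5 n1159 = n1702 := rfl
theorem F5295 : act 0 n1702 = n1160 := d4_1 D1702 (iv D1160) D1159
theorem F5296 : act 2 n1702 = n1702 := d15_1 D1702 (iv D1702) F3671
theorem F5297 : act 4 n1702 = n1702 := d22_1 D1702 (iv D1702) F3672
theorem F5298 : act 7 n1702 = n1702 := d26_2 F3673 D1702 (iv D1702)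
def n1703 : Q := act 6 n1159
theorem D1703 : act 6 n1159 = n1703 := rfl
theorem F5299 : act 0 n1703 = n1161 := d5_1 D1703 (iv D1161) D1159
theorem F5300 : act 2 n1703 = n1703 := d16_1 D1703 (iv D1703) F3671
theorem F5301 : act 4 n1703 = n1703 := d23_1 D1703 (iv D1703) F3672
def n1704 : Q := act 6 n1160
theorem D1704 : act 6 n1160 = n1704 := rfl
theorem F5302 : act 1 n1704 = n1704 := d11_1 D1704 (iv D1704) F3674
theorem F5303 : act 2 n1704 = n1704 := d16_1 D1704 (iv D1704) F3675
theorem F5304 : act 4 n1704 = n1704 := d23_1 D1704 (iv D1704) F3676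
def n1705 : Q := act 5 n1161
theorem D1705 : act 5 n1161 = n1705 := rfl
theorem F5305 : act 2 n1705 = n1705 := d15_1 D1705 (iv D1705) F3679
theorem F5306 : act 4 n1705 = n1705 := d22_1 D1705 (iv D1705) F3680
def n1706 : Q := act 7 n1161
theorem D1706 : act 7 n1161 = n1706 := rfl
theorem F5307 : act 1 n1706 = n1162 := d12_1 D1706 (iv D1162) (iv F3678)
theorem F5308 : act 2 n1706 = n1706 := d17_1 D1706 (iv D1706) F3679
theorem F5309 : act 4 n1706 = n1706 := d24_1 D1706 (iv D1706) F3680
theorem F5310 : act 6 n1706 = n1706 := d27_1 D1706 (iv D1706) (iv D1161) F2564 D1161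
def n1707 : Q := act 3 n1162
theorem D1707 : act 3 n1162 = n1707 := rfl
theorem F5311 : act 2 n1707 = n1707 := d13_1 D1707 (iv D1707) F3681 F2568 (iv F3681)
theorem F5312 : act 6 n1707 = n1707 := d20_2 F3683 D1707 (iv D1707)
def n1708 : Q := act 2 n1163
theorem D1708 : act 2 n1163 = n1708 := rfl
theorem F5313 : act 0 n1708 = n1164 := d1_1 D1708 (iv D1164) D1163
theorem F5314 : act 4 n1708 = n1708 := d14_2 F3686 D1708 (iv D1708)
theorem F5315 : act 5 n1708 = n1170 := d15_2 (iv F3687) D1708 (iv D1170)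
theorem F5316 : act 6 n1708 = n1708 := d16_2 F3688 D1708 (iv D1708)
def n1709 : Q := act 7 n1163
theorem D1709 : act 7 n1163 = n1709 := rfl
theorem F5317 : act 0 n1709 = n1165 := d6_1 D1709 (iv D1165) D1163
theorem F5318 : act 1 n1709 = n1709 := d12_1 D1709 (iv D1709) F3684
theorem F5319 : act 4 n1709 = n1709 := d24_1 D1709 (iv D1709) F3686
theorem F5320 : act 5 n1709 = n1171 := d26_1 D1709 (iv D1171) (iv F3687)
def n1710 : Q := act 3 n1164
theorem D1710 : act 3 n1164 = n1710 := rfl
theorem F5321 : act 1 n1710 = n1710 := d8_1 D1710 (iv D1710) F3689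
theorem F5322 : act 2 n1710 = n1710 := d13_1 D1710 (iv D1710) (iv D1164) F2571 D1164
theorem F5323 : act 5 n1710 = n1172 := d19_2 (iv F3691) D1710 (iv D1172)
theorem F5324 : act 6 n1710 = n1710 := d20_2 F3692 D1710 (iv D1710)
def n1711 : Q := act 7 n1164
theorem D1711 : act 7 n1164 = n1711 := rfl
theorem F5325 : act 1 n1711 = n1711 := d12_1 D1711 (iv D1711) F3689
theorem F5326 : act 2 n1711 = n1165 := d17_1 D1711 (iv D1165) D1164
theorem F5327 : act 4 n1711 = n1711 := d24_1 D1711 (iv D1711) F3690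
theorem F5328 : act 5 n1711 = n1173 := d26_1 D1711 (iv D1173) (iv F3691)
def n1712 : Q := act 3 n1165
theorem D1712 : act 3 n1165 = n1712 := rfl
theorem F5329 : act 1 n1712 = n1166 := d8_1 D1712 (iv D1166) (iv F3693)
theorem F5330 : act 5 n1712 = n1174 := d19_2 (iv F3695) D1712 (iv D1174)
theorem F5331 : act 7 n1712 = n1712 := d21_2 D1165 D1712 (iv D1712) (iv D1165) F2571
def n1713 : Q := act 6 n1165
theorem D1713 : act 6 n1165 = n1713 := rfl
theorem F5332 : act 1 n1713 = n1167 := d11_1 D1713 (iv D1167) (iv F3693)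
theorem F5333 : act 4 n1713 = n1713 := d23_1 D1713 (iv D1713) F3694
theorem F5334 : act 7 n1713 = n1713 := d27_2 D1165 D1713 (iv D1713) (iv D1165) F2574
def n1714 : Q := act 6 n1166
theorem D1714 : act 6 n1166 = n1714 := rfl
theorem F5335 : act 0 n1714 = n1714 := d5_1 D1714 (iv D1714) F3696
theorem F5336 : act 2 n1714 = n1187 := d16_1 D1714 F3770 F3709
theorem F5337 : act 3 n1714 = n1167 := d20_1 D1714 (iv D1167) D1166
theorem F5338 : act 4 n1714 = n1186 := d23_1 D1714 F3765 (iv F3706)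
theorem F5339 : act 7 n1240 = n1714 := d24_0 F5338 F3766 D1240
def n1715 : Q := act 1 n1168
theorem D1715 : act 1 n1168 = n1715 := rfl
theorem F5340 : act 2 n1715 = n1179 := d7_2 D1168 D1715 (iv D1179) (iv D802) (iv F2580)
theorem F5341 : act 3 n1715 = n1715 := d8_2 F3704 D1715 (iv D1715)
theorem F5342 : act 4 n1715 = n1712 := d9_2 F3706 D1715 F5329
theorem F5343 : act 7 n1715 = n1715 := d12_2 F3705 D1715 (iv D1715)
def n1716 : Q := act 1 n1170
theorem D1716 : act 1 n1170 = n1716 := rfl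
theorem F5344 : act 0 n1716 = n1199 := d0_1 D1716 (iv D1199) F2635 (iv F2585) (iv F3713)
theorem F5345 : act 2 n1716 = n1316 := d7_2 D1170 D1716 (iv D1316) (iv D894) (iv F2582)
theorem F5346 : act 4 n1716 = n1716 := d9_2 F3714 D1716 (iv D1716)
def n1717 : Q := act 3 n1170
theorem D1717 : act 3 n1170 = n1717 := rfl
theorem F5347 : act 0 n1717 = n1172 := d2_1 D1717 (iv D1172) (iv F3713)
theorem F5348 : act 2 n1717 = n1717 := d13_1 D1717 (iv D1717) (iv D1170) F2583 D1170
def n1718 : Q := act 7 n1170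
theorem D1718 : act 7 n1170 = n1718 := rfl
theorem F5349 : act 0 n1718 = n1173 := d6_1 D1718 (iv D1173) (iv F3713)
theorem F5350 : act 2 n1718 = n1171 := d17_1 D1718 (iv D1171) D1170
theorem F5351 : act 4 n1718 = n1718 := d24_1 D1718 (iv D1718) F3714
def n1719 : Q := act 3 n1171
theorem D1719 : act 3 n1171 = n1719 := rfl
theorem F5352 : act 0 n1719 = n1174 := d2_1 D1719 (iv D1174) (iv F3715)
theorem F5353 : act 1 n1719 = n1319 := d8_1 D1719 (iv D1319) (iv F3716)
theorem F5354 : act 7 n1719 = n1719 := d21_2 D1171 D1719 (iv D1719) (iv D1171) F2583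
def n1720 : Q := act 6 n1171
theorem D1720 : act 6 n1171 = n1720 := rfl
theorem F5355 : act 0 n1720 = n1175 := d5_1 D1720 (iv D1175) (iv F3715)
theorem F5356 : act 1 n1720 = n1320 := d11_1 D1720 (iv D1320) (iv F3716)
theorem F5357 : act 4 n1720 = n1720 := d23_1 D1720 (iv D1720) F3717
def n1721 : Q := act 4 n1172
theorem D1721 : act 4 n1172 = n1721 := rfl
theorem F5358 : act 1 n1721 = n1204 := d9_1 D1721 (iv D1204) (iv F3718)
theorem F5359 : act 2 n1721 = n1721 := d14_1 D1721 (iv D1721) F3719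
theorem F5360 : act 3 n1721 = n1721 := d18_1 D1721 (iv D1721) (iv D1172) F2586 D1172
theorem F5361 : act 6 n1721 = n1627 := d23_2 F3904 D1721 F5079
def n1722 : Q := act 7 n1172
theorem D1722 : act 7 n1172 = n1722 := rfl
theorem F5362 : act 1 n1722 = n1205 := d12_1 D1722 (iv D1205) (iv F3718)
theorem F5363 : act 2 n1722 = n1722 := d17_1 D1722 (iv D1722) F3719
def n1723 : Q := act 3 n1173
theorem D1723 : act 3 n1173 = n1723 := rfl
theorem F5364 : act 1 n1723 = n1206 := d8_1 D1723 (iv D1206) (iv F3720)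
def n1724 : Q := act 6 n1173
theorem D1724 : act 6 n1173 = n1724 := rfl
theorem F5365 : act 1 n1724 = n1207 := d11_1 D1724 (iv D1207) (iv F3720)
theorem F5366 : act 2 n1724 = n1175 := d16_1 D1724 (iv D1175) (iv F3721)
theorem F5367 : act 4 n1724 = n1724 := d23_1 D1724 (iv D1724) F3722
def n1725 : Q := act 2 n1174
theorem D1725 : act 2 n1174 = n1725 := rfl
theorem F5368 : act 7 n1725 = n1725 := d17_2 F3724 D1725 (iv D1725)
def n1726 : Q := act 4 n1174
theorem D1726 : act 4 n1174 = n1726 := rfl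
theorem F5369 : act 1 n1726 = n1177 := d9_1 D1726 (iv D1177) (iv F3723)
theorem F5370 : act 3 n1726 = n1726 := d18_1 D1726 (iv D1726) (iv D1174) F2588 D1174
theorem F5371 : act 5 n1726 = n1715 := d22_2 F5330 D1726 F5342
theorem F5372 : act 7 n1726 = n1726 := d24_2 F3724 D1726 (iv D1726)
def n1727 : Q := act 6 n1174
theorem D1727 : act 6 n1174 = n1727 := rfl
theorem F5373 : act 1 n1727 = n1178 := d11_1 D1727 (iv D1178) (iv F3723)
theorem F5374 : act 3 n1727 = n1175 := d20_1 D1727 (iv D1175) D1174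
def n1728 : Q := act 5 n1175
theorem D1728 : act 5 n1175 = n1728 := rfl
theorem F5375 : act 4 n1728 = n1728 := d22_1 D1728 (iv D1728) F3726
def n1729 : Q := act 1 n1176
theorem D1729 : act 1 n1176 = n1729 := rfl
theorem F5376 : act 3 n1729 = n1212 := d8_2 (iv F3728) D1729 (iv D1212)
theorem F5377 : act 7 n1729 = n1729 := d12_2 F3730 D1729 (iv D1729)
def n1730 : Q := act 4 n1176
theorem D1730 : act 4 n1176 = n1730 := rfl
theorem F5378 : act 0 n1730 = n1330 := d3_1 D1730 (iv D1330) (iv F3727)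
theorem F5379 : act 2 n1730 = n1177 := d14_1 D1730 (iv D1177) D1176
theorem F5380 : act 5 n1730 = n1180 := d22_2 (iv F3729) D1730 (iv D1180)
theorem F5381 : act 7 n1730 = n1730 := d24_2 F3730 D1730 (iv D1730)
def n1731 : Q := act 6 n1176
theorem D1731 : act 6 n1176 = n1731 := rfl
theorem F5382 : act 0 n1731 = n1331 := d5_1 D1731 (iv D1331) (iv F3727)
theorem F5383 : act 2 n1731 = n1178 := d16_1 D1731 (iv D1178) D1176
theorem F5384 : act 3 n1731 = n1214 := d20_1 D1731 (iv D1214) (iv F3728)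
def n1732 : Q := act 6 n1177
theorem D1732 : act 6 n1177 = n1732 := rfl
theorem F5385 : act 0 n1732 = n1332 := d5_1 D1732 (iv D1332) (iv F3731)
theorem F5386 : act 3 n1732 = n1732 := d20_1 D1732 (iv D1732) F3732
theorem F5387 : act 4 n1732 = n1178 := d23_1 D1732 (iv D1178) D1177
def n1733 : Q := act 7 n1178
theorem D1733 : act 7 n1178 = n1733 := rfl
theorem F5388 : act 0 n1733 = n1333 := d6_1 D1733 (iv D1333) (iv F3735)
theorem F5389 : act 6 n1733 = n1733 := d27_1 D1733 (iv D1733) (iv D1178) F2591 D1178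
def n1734 : Q := act 0 n1179
theorem D1734 : act 0 n1179 = n1734 := rfl
theorem F5390 : act 1 n1734 = n1334 := d0_2 D1179 D1734 (iv D1334) (iv D903) (iv F2595)
theorem F5391 : act 3 n1734 = n1219 := d2_2 (iv F3737) D1734 (iv D1219)
theorem F5392 : act 7 n1734 = n1734 := d6_2 F3738 D1734 (iv D1734)
def n1735 : Q := act 4 n1179
theorem D1735 : act 4 n1179 = n1735 := rfl
theorem F5393 : act 1 n1735 = n1180 := d9_1 D1735 (iv D1180) D1179
theorem F5394 : act 2 n1735 = n1712 := d14_1 D1735 (iv F5342) F5340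
theorem F5395 : act 7 n1735 = n1735 := d24_2 F3738 D1735 (iv D1735)
theorem F5396 : act 5 n1725 = n1735 := d15_0 F5394 F5330 D1725
def n1736 : Q := act 5 n1179
theorem D1736 : act 5 n1179 = n1736 := rfl
theorem F5397 : act 2 n1736 = n1726 := d15_1 D1736 F5371 F5340
theorem F5398 : act 3 n1736 = n1221 := d19_1 D1736 (iv D1221) (iv F3737)
theorem F5399 : act 4 n1736 = n1725 := d22_1 D1736 F5396 (iv D1735)
theorem F5400 : act 7 n1736 = n1736 := d26_2 F3738 D1736 (iv D1736)
def n1737 : Q := act 3 n1180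
theorem D1737 : act 3 n1180 = n1737 := rfl
theorem F5401 : act 0 n1737 = n1337 := d2_1 D1737 (iv D1337) (iv F3739)
theorem F5402 : act 2 n1737 = n1737 := d13_1 D1737 (iv D1737) F3740 F2599 (iv F3740)
theorem F5403 : act 4 n1737 = n1223 := d18_2 D1180 D1737 (iv D1223) (iv D825) (iv F2596)
def n1738 : Q := act 2 n1181
theorem D1738 : act 2 n1181 = n1738 := rfl
theorem F5404 : act 0 n1738 = n1182 := d1_1 D1738 (iv D1182) D1181
theorem F5405 : act 3 n1738 = n1566 := d13_2 (iv F3743) D1738 F4923 F3410 (iv F2702)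
theorem F5406 : act 4 n1738 = n1738 := d14_2 F3744 D1738 (iv D1738)
theorem F5407 : act 5 n1738 = n1188 := d15_2 (iv F3745) D1738 (iv D1188)
theorem F5408 : act 6 n1738 = n1738 := d16_2 F3746 D1738 (iv D1738)
def n1739 : Q := act 7 n1181
theorem D1739 : act 7 n1181 = n1739 := rfl
theorem F5409 : act 0 n1739 = n1183 := d6_1 D1739 (iv D1183) D1181
theorem F5410 : act 1 n1739 = n1739 := d12_1 D1739 (iv D1739) F3742
theorem F5411 : act 4 n1739 = n1739 := d24_1 D1739 (iv D1739) F3744
theorem F5412 : act 5 n1739 = n1189 := d26_1 D1739 (iv D1189) (iv F3745)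
def n1740 : Q := act 7 n1182
theorem D1740 : act 7 n1182 = n1740 := rfl
theorem F5413 : act 1 n1740 = n1740 := d12_1 D1740 (iv D1740) F3747
theorem F5414 : act 2 n1740 = n1183 := d17_1 D1740 (iv D1183) D1182
theorem F5415 : act 4 n1740 = n1740 := d24_1 D1740 (iv D1740) F3749
theorem F5416 : act 5 n1740 = n1191 := d26_1 D1740 (iv D1191) (iv F3750)
def n1741 : Q := act 3 n1183
theorem D1741 : act 3 n1183 = n1741 := rfl
theorem F5417 : act 1 n1741 = n1184 := d8_1 D1741 (iv D1184) (iv F3752)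
theorem F5418 : act 5 n1741 = n1192 := d19_2 (iv F3754) D1741 (iv D1192)
theorem F5419 : act 7 n1741 = n1234 := d21_2 D1183 D1741 (iv D1234) (iv D834) (iv F2601)
def n1742 : Q := act 6 n1183
theorem D1742 : act 6 n1183 = n1742 := rfl
theorem F5420 : act 1 n1742 = n1185 := d11_1 D1742 (iv D1185) (iv F3752)
theorem F5421 : act 4 n1742 = n1742 := d23_1 D1742 (iv D1742) F3753
theorem F5422 : act 7 n1742 = n1742 := d27_2 D1183 D1742 (iv D1742) (iv D1183) F2604
def n1743 : Q := act 2 n1184
theorem D1743 : act 2 n1184 = n1743 := rfl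
theorem F5423 : act 0 n1743 = n1743 := d1_1 D1743 (iv D1743) F3755
theorem F5424 : act 3 n1743 = n1743 := d13_2 D1184 D1743 (iv D1743) (iv D1184) F2606
theorem F5425 : act 5 n1743 = n1186 := d15_2 (iv F3756) D1743 (iv D1186)
theorem F5426 : act 7 n1743 = n1236 := d17_2 (iv F3757) D1743 (iv D1236)
def n1744 : Q := act 4 n1184
theorem D1744 : act 4 n1184 = n1744 := rfl
theorem F5427 : act 0 n1744 = n1744 := d3_1 D1744 (iv D1744) F3755
theorem F5428 : act 3 n1744 = n1744 := d18_1 D1744 (iv D1744) (iv D1184) F2607 D1184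
theorem F5429 : act 5 n1744 = n1187 := d22_2 (iv F3756) D1744 (iv D1187)
theorem F5430 : act 7 n1744 = n1237 := d24_2 (iv F3757) D1744 (iv D1237)
theorem F5431 : act 6 n1743 = n1744 := d31_4 (iv F3927) (iv F5430) (iv D1744) D1743 F5428 F5429 F3771 (iv D838) D837 F2718 (iv F3906) F3908 F3656 F3655 (iv D1154) D1155 F3659 F2553 F2554 F2552 (iv F1946) (iv D587) D586 F1943 F1201 D588 F1951 F1952 (iv F2721)
def n1745 : Q := act 6 n1184
theorem D1745 : act 6 n1184 = n1745 := rfl
theorem F5432 : act 0 n1745 = n1745 := d5_1 D1745 (iv D1745) F3755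
theorem F5433 : act 2 n1745 = n1744 := d16_1 D1745 (iv F5431) (iv D1743)
theorem F5434 : act 3 n1745 = n1185 := d20_1 D1745 (iv D1185) D1184
theorem F5435 : act 4 n1745 = n1743 := d23_1 D1745 F5431 (iv D1744)
theorem F5436 : act 5 n1745 = n1714 := d25_1 D1745 (iv D1714) F3697 (iv F2611) (iv F3756)
def n1746 : Q := act 1 n1186
theorem D1746 : act 1 n1186 = n1746 := rfl
theorem F5437 : act 2 n1746 = n1197 := d7_2 D1186 D1746 (iv D1197) (iv D812) (iv F2610)
theorem F5438 : act 3 n1746 = n1746 := d8_2 F3764 D1746 (iv D1746)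
theorem F5439 : act 6 n1746 = n1715 := d11_2 (iv F3765) D1746 (iv D1715)
theorem F5440 : act 7 n1746 = n1239 := d12_2 (iv F3766) D1746 (iv D1239)
def n1747 : Q := act 1 n1188
theorem D1747 : act 1 n1188 = n1747 := rfl
theorem F5441 : act 2 n1747 = n1338 := d7_2 D1188 D1747 (iv D1338) (iv D905) (iv F2613)
theorem F5442 : act 4 n1747 = n1747 := d9_2 F3773 D1747 (iv D1747)
theorem F5443 : act 6 n1747 = n1199 := d11_2 (iv F3774) D1747 (iv D1199)
def n1748 : Q := act 3 n1188
theorem D1748 : act 3 n1188 = n1748 := rfl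
theorem F5444 : act 0 n1748 = n1190 := d2_1 D1748 (iv D1190) (iv F3772)
theorem F5445 : act 2 n1748 = n1242 := d13_1 D1748 (iv D1242) (iv D839) (iv F2614) D1188
theorem F5446 : act 5 n1748 = n1566 := d19_2 F5407 D1748 (iv F5405)
theorem F5447 : act 6 n1748 = n1200 := d20_2 (iv F3774) D1748 (iv D1200)
theorem F5448 : act 4 n1567 = n1748 := d22_3 F5446 (iv D1566) D1567
def n1749 : Q := act 7 n1188
theorem D1749 : act 7 n1188 = n1749 := rfl
theorem F5449 : act 0 n1749 = n1191 := d6_1 D1749 (iv D1191) (iv F3772)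
theorem F5450 : act 2 n1749 = n1189 := d17_1 D1749 (iv D1189) D1188
theorem F5451 : act 4 n1749 = n1749 := d24_1 D1749 (iv D1749) F3773
def n1750 : Q := act 3 n1189
theorem D1750 : act 3 n1189 = n1750 := rfl
theorem F5452 : act 0 n1750 = n1192 := d2_1 D1750 (iv D1192) (iv F3775)
theorem F5453 : act 1 n1750 = n1341 := d8_1 D1750 (iv D1341) (iv F3776)
theorem F5454 : act 7 n1750 = n1244 := d21_2 D1189 D1750 (iv D1244) (iv D840) (iv F2614)
def n1751 : Q := act 6 n1189
theorem D1751 : act 6 n1189 = n1751 := rfl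
theorem F5455 : act 0 n1751 = n1193 := d5_1 D1751 (iv D1193) (iv F3775)
theorem F5456 : act 1 n1751 = n1342 := d11_1 D1751 (iv D1342) (iv F3776)
theorem F5457 : act 4 n1751 = n1751 := d23_1 D1751 (iv D1751) F3777
theorem F5458 : act 7 n1751 = n1203 := d27_2 D1189 D1751 (iv D1203) (iv D815) (iv F2616)
def n1752 : Q := act 7 n1190
theorem D1752 : act 7 n1190 = n1752 := rfl
theorem F5459 : act 2 n1752 = n1246 := d17_1 D1752 (iv D1246) (iv F3778)
theorem F5460 : act 4 n1752 = n1628 := d24_1 D1752 (iv D1628) F3781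
theorem F5461 : act 5 n1752 = n1626 := d26_1 D1752 (iv D1626) (iv F3779)
def n1753 : Q := act 3 n1191
theorem D1753 : act 3 n1191 = n1753 := rfl
def n1754 : Q := act 6 n1191
theorem D1754 : act 6 n1191 = n1754 := rfl
theorem F5462 : act 2 n1754 = n1193 := d16_1 D1754 (iv D1193) (iv F3782)
theorem F5463 : act 4 n1754 = n1754 := d23_1 D1754 (iv D1754) F3783
theorem F5464 : act 7 n1754 = n1207 := d27_2 D1191 D1754 (iv D1207) (iv D817) (iv F2618)
def n1755 : Q := act 2 n1192
theorem D1755 : act 2 n1192 = n1755 := rfl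
theorem F5465 : act 7 n1755 = n1249 := d17_2 (iv F3785) D1755 (iv D1249)
def n1756 : Q := act 4 n1192
theorem D1756 : act 4 n1192 = n1756 := rfl
theorem F5466 : act 1 n1756 = n1195 := d9_1 D1756 (iv D1195) (iv F3784)
theorem F5467 : act 3 n1756 = n1756 := d18_1 D1756 (iv D1756) (iv D1192) F2620 D1192
theorem F5468 : act 7 n1756 = n1250 := d24_2 (iv F3785) D1756 (iv D1250)
def n1757 : Q := act 6 n1192
theorem D1757 : act 6 n1192 = n1757 := rfl
theorem F5469 : act 1 n1757 = n1196 := d11_1 D1757 (iv D1196) (iv F3784)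
theorem F5470 : act 3 n1757 = n1193 := d20_1 D1757 (iv D1193) D1192
def n1758 : Q := act 5 n1193
theorem D1758 : act 5 n1193 = n1758 := rfl
theorem F5471 : act 1 n1758 = n1728 := d10_1 D1758 (iv D1728) F3725 (iv F2626) (iv F3786)
theorem F5472 : act 4 n1758 = n1758 := d22_1 D1758 (iv D1758) F3787
theorem F5473 : act 7 n1758 = n1211 := d26_2 (iv F3788) D1758 (iv D1211)
def n1759 : Q := act 1 n1194
theorem D1759 : act 1 n1194 = n1759 := rfl
theorem F5474 : act 7 n1759 = n1253 := d12_2 (iv F3791) D1759 (iv D1253)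
def n1760 : Q := act 4 n1194
theorem D1760 : act 4 n1194 = n1760 := rfl
theorem F5475 : act 0 n1760 = n1352 := d3_1 D1760 (iv D1352) (iv F3789)
theorem F5476 : act 2 n1760 = n1195 := d14_1 D1760 (iv D1195) D1194
theorem F5477 : act 5 n1760 = n1198 := d22_2 (iv F3790) D1760 (iv D1198)
theorem F5478 : act 7 n1760 = n1254 := d24_2 (iv F3791) D1760 (iv D1254)
def n1761 : Q := act 6 n1194
theorem D1761 : act 6 n1194 = n1761 := rfl
theorem F5479 : act 0 n1761 = n1353 := d5_1 D1761 (iv D1353) (iv F3789)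
theorem F5480 : act 2 n1761 = n1196 := d16_1 D1761 (iv D1196) D1194
theorem F5481 : act 5 n1761 = n1731 := d25_1 D1761 (iv D1731) F3729 (iv F2629) (iv F3790)
def n1762 : Q := act 6 n1195
theorem D1762 : act 6 n1195 = n1762 := rfl
theorem F5482 : act 0 n1762 = n1354 := d5_1 D1762 (iv D1354) (iv F3792)
theorem F5483 : act 3 n1762 = n1762 := d20_1 D1762 (iv D1762) F3793
theorem F5484 : act 4 n1762 = n1196 := d23_1 D1762 (iv D1196) D1195
theorem F5485 : act 5 n1762 = n1732 := d25_1 D1762 (iv D1732) F3733 (iv F2633) (iv F3794)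
theorem F5486 : act 7 n1762 = n1641 := d27_2 (iv F3795) D1762 (iv D1641) F3544 F2748
def n1763 : Q := act 7 n1196
theorem D1763 : act 7 n1196 = n1763 := rfl
theorem F5487 : act 0 n1763 = n1355 := d6_1 D1763 (iv D1355) (iv F3796)
theorem F5488 : act 3 n1763 = n1217 := d21_1 D1763 (iv D1217) F2660 (iv F2627) (iv F3797)
theorem F5489 : act 4 n1763 = n1641 := d24_1 D1763 (iv F5486) F5484
theorem F5490 : act 5 n1763 = n1733 := d26_1 D1763 (iv D1733) (iv F3798)
theorem F5491 : act 6 n1763 = n1256 := d27_1 D1763 (iv D1256) (iv D847) (iv F2623) D1196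
def n1764 : Q := act 0 n1197
theorem D1764 : act 0 n1197 = n1764 := rfl
theorem F5492 : act 1 n1764 = n1356 := d0_2 D1197 D1764 (iv D1356) (iv D914) (iv F2628)
theorem F5493 : act 6 n1764 = n1734 := d5_2 (iv F3799) D1764 (iv D1734)
theorem F5494 : act 7 n1764 = n1257 := d6_2 (iv F3800) D1764 (iv D1257)
def n1765 : Q := act 4 n1197
theorem D1765 : act 4 n1197 = n1765 := rfl
theorem F5495 : act 1 n1765 = n1198 := d9_1 D1765 (iv D1198) D1197
theorem F5496 : act 6 n1765 = n1735 := d23_2 (iv F3799) D1765 (iv D1735)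
theorem F5497 : act 7 n1765 = n1258 := d24_2 (iv F3800) D1765 (iv D1258)
def n1766 : Q := act 5 n1197
theorem D1766 : act 5 n1197 = n1766 := rfl
theorem F5498 : act 7 n1766 = n1259 := d26_2 (iv F3800) D1766 (iv D1259)
def n1767 : Q := act 3 n1198
theorem D1767 : act 3 n1198 = n1767 := rfl
theorem F5499 : act 0 n1767 = n1359 := d2_1 D1767 (iv D1359) (iv F3801)
theorem F5500 : act 2 n1767 = n1767 := d13_1 D1767 (iv D1767) F3802 F2632 (iv F3802)
theorem F5501 : act 6 n1767 = n1737 := d20_2 (iv F3803) D1767 (iv D1737)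
def n1768 : Q := act 3 n1199
theorem D1768 : act 3 n1199 = n1768 := rfl
theorem F5502 : act 1 n1768 = n1200 := d8_1 D1768 (iv D1200) D1199
def n1769 : Q := act 5 n1199
theorem D1769 : act 5 n1199 = n1769 := rfl
theorem F5503 : act 1 n1769 = n1769 := d10_1 D1769 (iv D1769) (iv D1199) F2637 D1199
theorem F5504 : act 2 n1769 = n1361 := d15_1 D1769 (iv D1361) (iv F3805)
theorem F5505 : act 4 n1769 = n1769 := d22_1 D1769 (iv D1769) F3806
def n1770 : Q := act 7 n1199
theorem D1770 : act 7 n1199 = n1770 := rfl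
theorem F5506 : act 1 n1770 = n1201 := d12_1 D1770 (iv D1201) D1199
theorem F5507 : act 2 n1770 = n1362 := d17_1 D1770 (iv D1362) (iv F3805)
theorem F5508 : act 4 n1770 = n1770 := d24_1 D1770 (iv D1770) F3806
def n1771 : Q := act 4 n1200
theorem D1771 : act 4 n1200 = n1771 := rfl
theorem F5509 : act 0 n1771 = n1204 := d3_1 D1771 (iv D1204) (iv F3807)
theorem F5510 : act 2 n1771 = n1264 := d14_1 D1771 (iv D1264) (iv F3808)
theorem F5511 : act 3 n1771 = n1771 := d18_1 D1771 (iv D1771) (iv D1200) F2636 D1200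
theorem F5512 : act 5 n1771 = n1771 := d22_2 F3809 D1771 (iv D1771)
theorem F5513 : act 6 n1771 = n1567 := d23_2 F5447 D1771 F5448
def n1772 : Q := act 7 n1200
theorem D1772 : act 7 n1200 = n1772 := rfl
theorem F5514 : act 0 n1772 = n1205 := d6_1 D1772 (iv D1205) (iv F3807)
theorem F5515 : act 2 n1772 = n1265 := d17_1 D1772 (iv D1265) (iv F3808)
theorem F5516 : act 5 n1772 = n1772 := d26_1 D1772 (iv D1772) F3809
def n1773 : Q := act 3 n1201
theorem D1773 : act 3 n1201 = n1773 := rfl
theorem F5517 : act 0 n1773 = n1206 := d2_1 D1773 (iv D1206) (iv F3810)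
theorem F5518 : act 5 n1773 = n1773 := d19_2 F3813 D1773 (iv D1773)
def n1774 : Q := act 6 n1201
theorem D1774 : act 6 n1201 = n1774 := rfl
theorem F5519 : act 0 n1774 = n1207 := d5_1 D1774 (iv D1207) (iv F3810)
theorem F5520 : act 2 n1774 = n1203 := d16_1 D1774 (iv D1203) (iv F3811)
theorem F5521 : act 4 n1774 = n1774 := d23_1 D1774 (iv D1774) F3812
def n1775 : Q := act 2 n1202
theorem D1775 : act 2 n1202 = n1775 := rfl
theorem F5522 : act 0 n1775 = n1208 := d1_1 D1775 (iv D1208) (iv F3814)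
theorem F5523 : act 5 n1775 = n1775 := d15_2 F3816 D1775 (iv D1775)
theorem F5524 : act 7 n1775 = n1268 := d17_2 (iv F3817) D1775 (iv D1268)
def n1776 : Q := act 4 n1202
theorem D1776 : act 4 n1202 = n1776 := rfl
theorem F5525 : act 0 n1776 = n1209 := d3_1 D1776 (iv D1209) (iv F3814)
theorem F5526 : act 1 n1776 = n1368 := d9_1 D1776 (iv D1368) (iv F3815)
theorem F5527 : act 3 n1776 = n1776 := d18_1 D1776 (iv D1776) (iv D1202) F2640 D1202
theorem F5528 : act 5 n1776 = n1776 := d22_2 F3816 D1776 (iv D1776)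
theorem F5529 : act 7 n1776 = n1269 := d24_2 (iv F3817) D1776 (iv D1269)
def n1777 : Q := act 6 n1202
theorem D1777 : act 6 n1202 = n1777 := rfl
theorem F5530 : act 0 n1777 = n1210 := d5_1 D1777 (iv D1210) (iv F3814)
theorem F5531 : act 1 n1777 = n1369 := d11_1 D1777 (iv D1369) (iv F3815)
theorem F5532 : act 3 n1777 = n1203 := d20_1 D1777 (iv D1203) D1202
def n1778 : Q := act 5 n1203
theorem D1778 : act 5 n1203 = n1778 := rfl
theorem F5533 : act 0 n1778 = n1211 := d4_1 D1778 (iv D1211) (iv F3818)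
theorem F5534 : act 4 n1778 = n1778 := d22_1 D1778 (iv D1778) F3820
theorem F5535 : act 6 n1778 = n1778 := d25_2 D1203 D1778 (iv D1778) (iv D1203) F2641
def n1779 : Q := act 7 n1204
theorem D1779 : act 7 n1204 = n1779 := rfl
theorem F5536 : act 2 n1779 = n1272 := d17_1 D1779 (iv D1272) (iv F3821)
theorem F5537 : act 4 n1779 = n1205 := d24_1 D1779 (iv D1205) D1204
theorem F5538 : act 5 n1779 = n1779 := d26_1 D1779 (iv D1779) F3823
def n1780 : Q := act 3 n1205
theorem D1780 : act 3 n1205 = n1780 := rfl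
theorem F5539 : act 5 n1780 = n1780 := d19_2 F3826 D1780 (iv D1780)
theorem F5540 : act 7 n1780 = n1206 := d21_2 D1205 D1780 (iv D1206) (iv D817) D816
def n1781 : Q := act 6 n1205
theorem D1781 : act 6 n1205 = n1781 := rfl
theorem F5541 : act 2 n1781 = n1274 := d16_1 D1781 (iv D1274) (iv F3825)
def n1782 : Q := act 2 n1206
theorem D1782 : act 2 n1206 = n1782 := rfl
theorem F5542 : act 3 n1782 = n1208 := d13_2 D1206 D1782 (iv D1208) (iv D818) (iv F2644)
theorem F5543 : act 5 n1782 = n1782 := d15_2 F3827 D1782 (iv D1782)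
def n1783 : Q := act 4 n1206
theorem D1783 : act 4 n1206 = n1783 := rfl
theorem F5544 : act 3 n1783 = n1783 := d18_1 D1783 (iv D1783) (iv D1206) F2645 D1206
theorem F5545 : act 5 n1783 = n1783 := d22_2 F3827 D1783 (iv D1783)
def n1784 : Q := act 6 n1206
theorem D1784 : act 6 n1206 = n1784 := rfl
theorem F5546 : act 3 n1784 = n1207 := d20_1 D1784 (iv D1207) D1206
def n1785 : Q := act 5 n1207
theorem D1785 : act 5 n1207 = n1785 := rfl
theorem F5547 : act 2 n1785 = n1211 := d15_1 D1785 (iv D1211) (iv F3828)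
theorem F5548 : act 4 n1785 = n1785 := d22_1 D1785 (iv D1785) F3829
theorem F5549 : act 6 n1785 = n1785 := d25_2 D1207 D1785 (iv D1785) (iv D1207) F2646
def n1786 : Q := act 1 n1208
theorem D1786 : act 1 n1208 = n1786 := rfl
theorem F5550 : act 2 n1786 = n1212 := d7_2 D1208 D1786 (iv D1212) (iv D820) (iv F2647)
theorem F5551 : act 7 n1786 = n1278 := d12_2 (iv F3831) D1786 (iv D1278)
def n1787 : Q := act 4 n1208
theorem D1787 : act 4 n1208 = n1787 := rfl
theorem F5552 : act 2 n1787 = n1209 := d14_1 D1787 (iv D1209) D1208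
theorem F5553 : act 5 n1787 = n1787 := d22_2 F3830 D1787 (iv D1787)
theorem F5554 : act 7 n1787 = n1279 := d24_2 (iv F3831) D1787 (iv D1279)
def n1788 : Q := act 6 n1208
theorem D1788 : act 6 n1208 = n1788 := rfl
theorem F5555 : act 2 n1788 = n1210 := d16_1 D1788 (iv D1210) D1208
def n1789 : Q := act 6 n1209
theorem D1789 : act 6 n1209 = n1789 := rfl
theorem F5556 : act 1 n1789 = n1215 := d11_1 D1789 (iv D1215) (iv F3832)
theorem F5557 : act 3 n1789 = n1789 := d20_1 D1789 (iv D1789) F3833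
theorem F5558 : act 4 n1789 = n1210 := d23_1 D1789 (iv D1210) D1209
theorem F5559 : act 7 n1789 = n1636 := d27_2 (iv F3835) D1789 (iv D1636) F3535 F2789
def n1790 : Q := act 5 n1210
theorem D1790 : act 5 n1210 = n1790 := rfl
theorem F5560 : act 3 n1790 = n1211 := d19_1 D1790 (iv D1211) (iv F3837)
theorem F5561 : act 6 n1790 = n1790 := d25_2 D1210 D1790 (iv D1790) (iv D1210) F2648
def n1791 : Q := act 7 n1210
theorem D1791 : act 7 n1210 = n1791 := rfl
theorem F5562 : act 1 n1791 = n1217 := d12_1 D1791 (iv D1217) (iv F3836)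
theorem F5563 : act 4 n1791 = n1636 := d24_1 D1791 (iv F5559) F5558
theorem F5564 : act 6 n1791 = n1282 := d27_1 D1791 (iv D1282) (iv D861) (iv F2649) D1210
def n1792 : Q := act 1 n1211
theorem D1792 : act 1 n1211 = n1792 := rfl
theorem F5565 : act 4 n1792 = n1792 := d9_2 F3838 D1792 (iv D1792)
theorem F5566 : act 5 n1792 = n1218 := d10_2 D1211 D1792 (iv D1218) (iv D823) (iv F2650)
theorem F5567 : act 6 n1792 = n1792 := d11_2 F3839 D1792 (iv D1792)
theorem F5568 : act 7 n1792 = n1728 := d12_2 F5473 D1792 (iv F5471)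
def n1793 : Q := act 0 n1212
theorem D1793 : act 0 n1212 = n1793 := rfl
theorem F5569 : act 1 n1793 = n1385 := d0_2 D1212 D1793 (iv D1385) (iv D929) (iv F2652)
theorem F5570 : act 7 n1793 = n1283 := d6_2 (iv F3840) D1793 (iv D1283)
def n1794 : Q := act 4 n1212
theorem D1794 : act 4 n1212 = n1794 := rfl
theorem F5571 : act 1 n1794 = n1213 := d9_1 D1794 (iv D1213) D1212
theorem F5572 : act 7 n1794 = n1284 := d24_2 (iv F3840) D1794 (iv D1284)
def n1795 : Q := act 5 n1212
theorem D1795 : act 5 n1212 = n1795 := rfl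
theorem F5573 : act 1 n1795 = n1221 := d10_1 D1795 (iv D1221) (iv D824) (iv F2653) D1212
theorem F5574 : act 7 n1795 = n1285 := d26_2 (iv F3840) D1795 (iv D1285)
def n1796 : Q := act 6 n1212
theorem D1796 : act 6 n1212 = n1796 := rfl
theorem F5575 : act 1 n1796 = n1214 := d11_1 D1796 (iv D1214) D1212
def n1797 : Q := act 3 n1213
theorem D1797 : act 3 n1213 = n1797 := rfl
theorem F5576 : act 0 n1797 = n1389 := d2_1 D1797 (iv D1389) (iv F3841)
theorem F5577 : act 2 n1797 = n1797 := d13_1 D1797 (iv D1797) F3842 F2656 (iv F3842)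
theorem F5578 : act 5 n1797 = n1223 := d19_2 (iv F3843) D1797 (iv D1223)
theorem F5579 : act 7 n1797 = n1654 := d21_2 (iv F3844) D1797 (iv D1654) (iv D1124) F2800
def n1798 : Q := act 6 n1213
theorem D1798 : act 6 n1213 = n1798 := rfl
theorem F5580 : act 0 n1798 = n1390 := d5_1 D1798 (iv D1390) (iv F3841)
theorem F5581 : act 2 n1798 = n1215 := d16_1 D1798 (iv D1215) (iv F3842)
theorem F5582 : act 4 n1798 = n1214 := d23_1 D1798 (iv D1214) D1213
theorem F5583 : act 7 n1798 = n1644 := d27_2 (iv F3844) D1798 (iv D1644) F3552 (iv F2801)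
def n1799 : Q := act 5 n1214
theorem D1799 : act 5 n1214 = n1799 := rfl
theorem F5584 : act 0 n1799 = n1391 := d4_1 D1799 (iv D1391) (iv F3845)
theorem F5585 : act 2 n1799 = n1216 := d15_1 D1799 (iv D1216) (iv F3846)
theorem F5586 : act 3 n1799 = n1761 := d19_1 D1799 F5481 F5384
theorem F5587 : act 6 n1799 = n1225 := d25_2 D1214 D1799 (iv D1225) (iv D826) (iv F2653)
def n1800 : Q := act 7 n1214
theorem D1800 : act 7 n1214 = n1800 := rfl
theorem F5588 : act 0 n1800 = n1392 := d6_1 D1800 (iv D1392) (iv F3845)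
theorem F5589 : act 2 n1800 = n1217 := d17_1 D1800 (iv D1217) (iv F3846)
theorem F5590 : act 4 n1800 = n1644 := d24_1 D1800 (iv F5583) F5582
theorem F5591 : act 6 n1800 = n1287 := d27_1 D1800 (iv D1287) (iv D865) (iv F2654) D1214
def n1801 : Q := act 5 n1215
theorem D1801 : act 5 n1215 = n1801 := rfl
theorem F5592 : act 0 n1801 = n1393 := d4_1 D1801 (iv D1393) (iv F3847)
theorem F5593 : act 3 n1801 = n1801 := d19_1 D1801 (iv D1801) F3848
theorem F5594 : act 4 n1801 = n1216 := d22_1 D1801 (iv D1216) (iv F3849)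
theorem F5595 : act 6 n1801 = n1226 := d25_2 D1215 D1801 (iv D1226) (iv D827) (iv F2657)
theorem F5596 : act 7 n1801 = n1645 := d26_2 (iv F3850) D1801 (iv D1645)
def n1802 : Q := act 1 n1216
theorem D1802 : act 1 n1216 = n1802 := rfl
theorem F5597 : act 3 n1802 = n1218 := d8_2 (iv F3852) D1802 (iv D1218)
theorem F5598 : act 6 n1802 = n1227 := d11_2 (iv F3853) D1802 (iv D1227)
def n1803 : Q := act 7 n1216
theorem D1803 : act 7 n1216 = n1803 := rfl
theorem F5599 : act 0 n1803 = n1395 := d6_1 D1803 (iv D1395) (iv F3851)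
theorem F5600 : act 3 n1803 = n1733 := d21_1 D1803 (iv D1733) F3736 (iv F2665) (iv F3852)
theorem F5601 : act 4 n1803 = n1645 := d24_1 D1803 (iv F5596) F5594
theorem F5602 : act 5 n1803 = n1217 := d26_1 D1803 (iv D1217) D1216
theorem F5603 : act 6 n1803 = n1803 := d27_1 D1803 (iv D1803) F3853 F2682 (iv F3853)
def n1804 : Q := act 0 n1218
theorem D1804 : act 0 n1218 = n1804 := rfl
theorem F5604 : act 1 n1804 = n1396 := d0_2 D1218 D1804 (iv D1396) (iv D935) (iv F2661)
theorem F5605 : act 4 n1804 = n1804 := d3_2 F3857 D1804 (iv D1804)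
theorem F5606 : act 6 n1804 = n1228 := d5_2 (iv F3858) D1804 (iv D1228)
theorem F5607 : act 7 n1804 = n1720 := d6_2 (iv F3859) D1804 F5355
def n1805 : Q := act 2 n1218
theorem D1805 : act 2 n1218 = n1805 := rfl
theorem F5608 : act 1 n1805 = n1754 := d7_1 D1805 F5462 F3786 (iv F2662) D1218
theorem F5609 : act 4 n1805 = n1805 := d14_2 F3857 D1805 (iv D1805)
theorem F5610 : act 6 n1805 = n1229 := d16_2 (iv F3858) D1805 (iv D1229)
theorem F5611 : act 7 n1805 = n1724 := d17_2 (iv F3859) D1805 F5366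
def n1806 : Q := act 4 n1219
theorem D1806 : act 4 n1219 = n1806 := rfl
theorem F5612 : act 0 n1806 = n1220 := d3_1 D1806 (iv D1220) D1219
theorem F5613 : act 1 n1806 = n1398 := d9_1 D1806 (iv D1398) (iv F3860)
theorem F5614 : act 2 n1806 = n1806 := d14_1 D1806 (iv D1806) F3861
theorem F5615 : act 7 n1806 = n1288 := d24_2 (iv F3862) D1806 (iv D1288)
def n1807 : Q := act 5 n1219
theorem D1807 : act 5 n1219 = n1807 := rfl
theorem F5616 : act 0 n1807 = n1221 := d4_1 D1807 (iv D1221) D1219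
theorem F5617 : act 2 n1807 = n1807 := d15_1 D1807 (iv D1807) F3861
theorem F5618 : act 7 n1807 = n1289 := d26_2 (iv F3862) D1807 (iv D1289)
def n1808 : Q := act 6 n1219
theorem D1808 : act 6 n1219 = n1808 := rfl
theorem F5619 : act 0 n1808 = n1222 := d5_1 D1808 (iv D1222) D1219
theorem F5620 : act 1 n1808 = n1400 := d11_1 D1808 (iv D1400) (iv F3860)
theorem F5621 : act 2 n1808 = n1808 := d16_1 D1808 (iv D1808) F3861
theorem F5622 : act 3 n1808 = n1764 := d20_1 D1808 F5493 F5391
theorem F5623 : act 7 n1808 = n1808 := d27_2 (iv F3862) D1808 (iv D1808) F3862 F2813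
def n1809 : Q := act 3 n1220
theorem D1809 : act 3 n1220 = n1809 := rfl
theorem F5624 : act 1 n1809 = n1223 := d8_1 D1809 (iv D1223) (iv F3863)
def n1810 : Q := act 5 n1220
theorem D1810 : act 5 n1220 = n1810 := rfl
theorem F5625 : act 2 n1810 = n1810 := d15_1 D1810 (iv D1810) F3864
theorem F5626 : act 4 n1810 = n1221 := d22_1 D1810 (iv D1221) D1220
theorem F5627 : act 7 n1810 = n1291 := d26_2 (iv F3865) D1810 (iv D1291)
def n1811 : Q := act 6 n1220
theorem D1811 : act 6 n1220 = n1811 := rfl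
theorem F5628 : act 1 n1811 = n1224 := d11_1 D1811 (iv D1224) (iv F3863)
theorem F5629 : act 2 n1811 = n1811 := d16_1 D1811 (iv D1811) F3864
theorem F5630 : act 4 n1811 = n1222 := d23_1 D1811 (iv D1222) D1220
theorem F5631 : act 7 n1811 = n1811 := d27_2 (iv F3865) D1811 (iv D1811) F3865 F2816
def n1812 : Q := act 6 n1221
theorem D1812 : act 6 n1221 = n1812 := rfl
theorem F5632 : act 2 n1812 = n1812 := d16_1 D1812 (iv D1812) F3866
def n1813 : Q := act 5 n1222
theorem D1813 : act 5 n1222 = n1813 := rfl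
theorem F5633 : act 2 n1813 = n1813 := d15_1 D1813 (iv D1813) F3869
theorem F5634 : act 3 n1813 = n1766 := d19_1 D1813 (iv D1766) (iv F3870)
theorem F5635 : act 7 n1813 = n1813 := d26_2 F3871 D1813 (iv D1813)
def n1814 : Q := act 6 n1223
theorem D1814 : act 6 n1223 = n1814 := rfl
theorem F5636 : act 0 n1814 = n1405 := d5_1 D1814 (iv D1405) (iv F3872)
theorem F5637 : act 2 n1814 = n1814 := d16_1 D1814 (iv D1814) F3873
theorem F5638 : act 3 n1814 = n1224 := d20_1 D1814 (iv D1224) D1223
theorem F5639 : act 4 n1814 = n1767 := d23_1 D1814 F5501 F5403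
def n1815 : Q := act 7 n1223
theorem D1815 : act 7 n1223 = n1815 := rfl
theorem F5640 : act 0 n1815 = n1406 := d6_1 D1815 (iv D1406) (iv F3872)
theorem F5641 : act 2 n1815 = n1815 := d17_1 D1815 (iv D1815) F3873
theorem F5642 : act 3 n1815 = n1293 := d21_1 D1815 (iv D1293) (iv D870) (iv F2670) D1223
theorem F5643 : act 5 n1815 = n1654 := d26_1 D1815 (iv F5579) F5578
def n1816 : Q := act 5 n1224
theorem D1816 : act 5 n1224 = n1816 := rfl
theorem F5644 : act 0 n1816 = n1407 := d4_1 D1816 (iv D1407) (iv F3874)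
theorem F5645 : act 2 n1816 = n1226 := d15_1 D1816 (iv D1226) (iv F3875)
theorem F5646 : act 4 n1816 = n1225 := d22_1 D1816 (iv D1225) (iv F3876)
theorem F5647 : act 7 n1816 = n1816 := d26_2 F3877 D1816 (iv D1816)
def n1817 : Q := act 1 n1225
theorem D1817 : act 1 n1225 = n1817 := rfl
theorem F5648 : act 3 n1817 = n1759 := d8_2 (iv F3880) D1817 (iv D1759)
theorem F5649 : act 7 n1817 = n1817 := d12_2 F3881 D1817 (iv D1817)
def n1818 : Q := act 1 n1226
theorem D1818 : act 1 n1226 = n1818 := rfl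
theorem F5650 : act 3 n1818 = n1818 := d8_2 F3883 D1818 (iv D1818)
theorem F5651 : act 4 n1818 = n1227 := d9_2 (iv F3884) D1818 (iv D1227)
theorem F5652 : act 5 n1818 = n1818 := d10_2 D1226 D1818 (iv D1818) (iv D1226) F2676
theorem F5653 : act 7 n1818 = n1818 := d12_2 F3885 D1818 (iv D1818)
def n1819 : Q := act 0 n1227
theorem D1819 : act 0 n1227 = n1819 := rfl
theorem F5654 : act 1 n1819 = n1409 := d0_2 D1227 D1819 (iv D1409) (iv D944) (iv F2680)
theorem F5655 : act 3 n1819 = n1228 := d2_2 (iv F3886) D1819 (iv D1228)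
theorem F5656 : act 5 n1819 = n1819 := d4_2 F3887 D1819 (iv D1819)
theorem F5657 : act 7 n1819 = n1819 := d6_2 F3888 D1819 (iv D1819)
def n1820 : Q := act 2 n1227
theorem D1820 : act 2 n1227 = n1820 := rfl
theorem F5658 : act 5 n1820 = n1820 := d15_2 F3887 D1820 (iv D1820)
theorem F5659 : act 7 n1820 = n1820 := d17_2 F3888 D1820 (iv D1820)
def n1821 : Q := act 2 n1228
theorem D1821 : act 2 n1228 = n1821 := rfl
theorem F5660 : act 0 n1821 = n1229 := d1_1 D1821 (iv D1229) D1228
theorem F5661 : act 4 n1821 = n1821 := d14_2 F3890 D1821 (iv D1821)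
theorem F5662 : act 5 n1821 = n1821 := d15_2 F3891 D1821 (iv D1821)
theorem F5663 : act 7 n1821 = n1230 := d17_2 (iv F3892) D1821 (iv D1230)
def n1822 : Q := act 3 n1229
theorem D1822 : act 3 n1229 = n1822 := rfl
theorem F5664 : act 1 n1822 = n1753 := d8_1 D1822 (iv D1753) (iv F3893)
theorem F5665 : act 5 n1822 = n1822 := d19_2 F3895 D1822 (iv D1822)
def n1823 : Q := act 1 n1230
theorem D1823 : act 1 n1230 = n1823 := rfl
theorem F5666 : act 0 n1823 = n1747 := d0_1 D1823 (iv D1747) F3772 (iv F2691) (iv F3897)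
theorem F5667 : act 2 n1823 = n1413 := d7_2 D1230 D1823 (iv D1413) (iv D947) (iv F2686)
theorem F5668 : act 4 n1823 = n1823 := d9_2 F3898 D1823 (iv D1823)
theorem F5669 : act 6 n1823 = n1716 := d11_2 (iv F3900) D1823 (iv D1716)
def n1824 : Q := act 3 n1230
theorem D1824 : act 3 n1230 = n1824 := rfl
theorem F5670 : act 0 n1824 = n1231 := d2_1 D1824 (iv D1231) (iv F3897)
theorem F5671 : act 2 n1824 = n1824 := d13_1 D1824 (iv D1824) (iv D1230) F2687 D1230
theorem F5672 : act 5 n1824 = n1824 := d19_2 F3899 D1824 (iv D1824)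
theorem F5673 : act 6 n1824 = n1717 := d20_2 (iv F3900) D1824 (iv D1717)
def n1825 : Q := act 7 n1231
theorem D1825 : act 7 n1231 = n1825 := rfl
theorem F5674 : act 1 n1825 = n1752 := d12_1 D1825 (iv D1752) (iv F3901)
theorem F5675 : act 2 n1825 = n1825 := d17_1 D1825 (iv D1825) F3902
theorem F5676 : act 5 n1825 = n1825 := d26_1 D1825 (iv D1825) F3903
def n1826 : Q := act 1 n1232
theorem D1826 : act 1 n1232 = n1826 := rfl
theorem F5677 : act 2 n1826 = n1826 := d7_2 D1232 D1826 (iv D1826) (iv D1232) F2696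
theorem F5678 : act 3 n1826 = n1239 := d8_2 (iv F3906) D1826 (iv D1239)
theorem F5679 : act 4 n1826 = n1826 := d9_2 F3907 D1826 (iv D1826)
theorem F5680 : act 6 n1826 = n1826 := d11_2 F3909 D1826 (iv D1826)
theorem F5681 : act 7 n1826 = n1826 := d12_2 F3910 D1826 (iv D1826)
def n1827 : Q := act 3 n1233
theorem D1827 : act 3 n1233 = n1827 := rfl
theorem F5682 : act 0 n1827 = n1234 := d2_1 D1827 (iv D1234) (iv F3911)
theorem F5683 : act 1 n1827 = n1827 := d8_1 D1827 (iv D1827) F3912
theorem F5684 : act 5 n1827 = n1244 := d19_2 (iv F3915) D1827 (iv D1244)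
def n1828 : Q := act 6 n1233
theorem D1828 : act 6 n1233 = n1828 := rfl
theorem F5685 : act 0 n1828 = n1235 := d5_1 D1828 (iv D1235) (iv F3911)
theorem F5686 : act 1 n1828 = n1828 := d11_1 D1828 (iv D1828) F3912
theorem F5687 : act 2 n1828 = n1304 := d16_1 D1828 F4143 (iv F3913)
theorem F5688 : act 4 n1828 = n1295 := d23_1 D1828 (iv D1295) (iv F3914)
theorem F5689 : act 7 n1828 = n1828 := d27_2 D1233 D1828 (iv D1828) (iv D1233) F2705
def n1829 : Q := act 2 n1234
theorem D1829 : act 2 n1234 = n1829 := rfl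
theorem F5690 : act 3 n1829 = n1691 := d13_2 D1234 D1829 (iv D1691) (iv D1151) (iv F2707)
theorem F5691 : act 5 n1829 = n1249 := d15_2 (iv F3917) D1829 (iv D1249)
def n1830 : Q := act 4 n1234
theorem D1830 : act 4 n1234 = n1830 := rfl
theorem F5692 : act 1 n1830 = n1237 := d9_1 D1830 (iv D1237) (iv F3916)
theorem F5693 : act 3 n1830 = n1297 := d18_1 D1830 (iv D1297) (iv D872) (iv F2708) D1234
theorem F5694 : act 5 n1830 = n1250 := d22_2 (iv F3917) D1830 (iv D1250)
def n1831 : Q := act 6 n1234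
theorem D1831 : act 6 n1234 = n1831 := rfl
theorem F5695 : act 1 n1831 = n1238 := d11_1 D1831 (iv D1238) (iv F3916)
theorem F5696 : act 3 n1831 = n1235 := d20_1 D1831 (iv D1235) D1234
def n1832 : Q := act 5 n1235
theorem D1832 : act 5 n1235 = n1832 := rfl
theorem F5697 : act 1 n1832 = n1832 := d10_1 D1832 (iv D1832) F3918 F2715 (iv F3918)
theorem F5698 : act 2 n1832 = n1297 := d15_1 D1832 F4114 (iv F3919)
theorem F5699 : act 4 n1832 = n1296 := d22_1 D1832 F4110 (iv F3920)
theorem F5700 : act 6 n1832 = n1252 := d25_2 D1235 D1832 (iv D1252) (iv D844) (iv F2709)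
theorem F5701 : act 7 n1832 = n1832 := d26_2 F3921 D1832 (iv D1832)
def n1833 : Q := act 1 n1236
theorem D1833 : act 1 n1236 = n1833 := rfl
theorem F5702 : act 3 n1833 = n1695 := d8_2 (iv F3923) D1833 (iv D1695)
def n1834 : Q := act 4 n1236
theorem D1834 : act 4 n1236 = n1834 := rfl
theorem F5703 : act 0 n1834 = n1834 := d3_1 D1834 (iv D1834) F3922
theorem F5704 : act 2 n1834 = n1237 := d14_1 D1834 (iv D1237) D1236
theorem F5705 : act 3 n1834 = n1834 := d18_1 D1834 (iv D1834) F3923 F3655 (iv F3923)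
theorem F5706 : act 5 n1834 = n1240 := d22_2 (iv F3924) D1834 (iv D1240)
theorem F5707 : act 7 n1834 = n1745 := d24_2 F5426 D1834 F5435
def n1835 : Q := act 6 n1236
theorem D1835 : act 6 n1236 = n1835 := rfl
theorem F5708 : act 0 n1835 = n1835 := d5_1 D1835 (iv D1835) F3922
theorem F5709 : act 2 n1835 = n1238 := d16_1 D1835 (iv D1238) D1236
theorem F5710 : act 3 n1835 = n1696 := d20_1 D1835 (iv D1696) (iv F3923)
theorem F5711 : act 5 n1835 = n1835 := d25_1 D1835 (iv D1835) F3924 F2718 (iv F3924)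
def n1836 : Q := act 6 n1237
theorem D1836 : act 6 n1237 = n1836 := rfl
theorem F5712 : act 0 n1836 = n1836 := d5_1 D1836 (iv D1836) F3925
theorem F5713 : act 3 n1836 = n1299 := d20_1 D1836 (iv D1299) (iv F3926)
theorem F5714 : act 4 n1836 = n1238 := d23_1 D1836 (iv D1238) D1237
theorem F5715 : act 5 n1836 = n1836 := d25_1 D1836 (iv D1836) F3927 F2722 (iv F3927)
theorem F5716 : act 7 n1836 = n1835 := d27_2 F5430 D1836 (iv D1835) (iv F5426) F5431
def n1837 : Q := act 7 n1238
theorem D1837 : act 7 n1238 = n1837 := rfl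
theorem F5717 : act 0 n1837 = n1837 := d6_1 D1837 (iv D1837) F3928
theorem F5718 : act 2 n1837 = n1836 := d17_1 D1837 F5716 F5709
theorem F5719 : act 3 n1837 = n1837 := d21_1 D1837 (iv D1837) F3929 F2716 (iv F3929)
theorem F5720 : act 4 n1837 = n1835 := d24_1 D1837 (iv F5716) F5714
theorem F5721 : act 5 n1837 = n1837 := d26_1 D1837 (iv D1837) F3930
theorem F5722 : act 6 n1837 = n1834 := d27_1 D1837 F5707 (iv D1745) F3757 D1238
def n1838 : Q := act 0 n1239
theorem D1838 : act 0 n1239 = n1838 := rfl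
theorem F5723 : act 1 n1838 = n1838 := d0_2 D1239 D1838 (iv D1838) (iv D1239) F2717
theorem F5724 : act 2 n1838 = n1257 := d1_2 (iv F3931) D1838 (iv D1257)
theorem F5725 : act 6 n1838 = n1838 := d5_2 F3932 D1838 (iv D1838)
def n1839 : Q := act 4 n1239
theorem D1839 : act 4 n1239 = n1839 := rfl
theorem F5726 : act 1 n1839 = n1240 := d9_1 D1839 (iv D1240) D1239
theorem F5727 : act 2 n1839 = n1258 := d14_1 D1839 (iv D1258) (iv F3931)
theorem F5728 : act 3 n1839 = n1839 := d18_1 D1839 (iv D1839) (iv F5678) F5679 F5678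
theorem F5729 : act 6 n1839 = n1839 := d23_2 F3932 D1839 (iv D1839)
def n1840 : Q := act 5 n1239
theorem D1840 : act 5 n1239 = n1840 := rfl
theorem F5730 : act 2 n1840 = n1259 := d15_1 D1840 (iv D1259) (iv F3931)
def n1841 : Q := act 3 n1241
theorem D1841 : act 3 n1241 = n1841 := rfl
theorem F5731 : act 0 n1841 = n1841 := d2_1 D1841 (iv D1841) F3937
theorem F5732 : act 1 n1841 = n1242 := d8_1 D1841 (iv D1242) D1241
theorem F5733 : act 4 n1841 = n1450 := d18_2 (iv F3939) D1841 F4575 F3129 (iv F2844)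
theorem F5734 : act 5 n1841 = n1449 := d19_2 (iv F3940) D1841 F4572
theorem F5735 : act 6 n1841 = n1261 := d20_2 (iv F3941) D1841 (iv D1261)
def n1842 : Q := act 7 n1241
theorem D1842 : act 7 n1241 = n1842 := rfl
theorem F5736 : act 0 n1842 = n1842 := d6_1 D1842 (iv D1842) F3937
theorem F5737 : act 1 n1842 = n1243 := d12_1 D1842 (iv D1243) D1241
theorem F5738 : act 2 n1842 = n1419 := d17_1 D1842 (iv D1419) (iv F3938)
theorem F5739 : act 4 n1842 = n1301 := d24_1 D1842 (iv D1301) (iv F3939)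
theorem F5740 : act 5 n1842 = n1504 := d26_1 D1842 (iv D1504) (iv F3940)
def n1843 : Q := act 7 n1242
theorem D1843 : act 7 n1242 = n1843 := rfl
theorem F5741 : act 0 n1843 = n1246 := d6_1 D1843 (iv D1246) (iv F3942)
theorem F5742 : act 4 n1843 = n1570 := d24_1 D1843 (iv D1570) (iv F3943)
theorem F5743 : act 5 n1843 = n1569 := d26_1 D1843 (iv D1569) (iv F3944)
def n1844 : Q := act 3 n1243
theorem D1844 : act 3 n1243 = n1844 := rfl
theorem F5744 : act 0 n1844 = n1247 := d2_1 D1844 (iv D1247) (iv F3946)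
theorem F5745 : act 5 n1844 = n1623 := d19_2 (iv F3949) D1844 (iv D1623)
def n1845 : Q := act 6 n1243
theorem D1845 : act 6 n1243 = n1845 := rfl
theorem F5746 : act 0 n1845 = n1248 := d5_1 D1845 (iv D1248) (iv F3946)
theorem F5747 : act 2 n1845 = n1245 := d16_1 D1845 (iv D1245) (iv F3947)
theorem F5748 : act 4 n1845 = n1303 := d23_1 D1845 (iv D1303) (iv F3948)
theorem F5749 : act 7 n1845 = n1267 := d27_2 D1243 D1845 (iv D1267) (iv D852) (iv F2726)
def n1846 : Q := act 2 n1244
theorem D1846 : act 2 n1244 = n1846 := rfl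
theorem F5750 : act 0 n1846 = n1249 := d1_1 D1846 (iv D1249) (iv F3950)
def n1847 : Q := act 4 n1244
theorem D1847 : act 4 n1244 = n1847 := rfl
theorem F5751 : act 0 n1847 = n1250 := d3_1 D1847 (iv D1250) (iv F3950)
theorem F5752 : act 1 n1847 = n1425 := d9_1 D1847 (iv D1425) (iv F3951)
theorem F5753 : act 3 n1847 = n1304 := d18_1 D1847 (iv D1304) (iv D878) (iv F2729) D1244
theorem F5754 : act 6 n1623 = n1847 := d20_0 F5753 F4143 D1623
def n1848 : Q := act 6 n1244
theorem D1848 : act 6 n1244 = n1848 := rfl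
theorem F5755 : act 0 n1848 = n1251 := d5_1 D1848 (iv D1251) (iv F3950)
theorem F5756 : act 1 n1848 = n1426 := d11_1 D1848 (iv D1426) (iv F3951)
theorem F5757 : act 3 n1848 = n1245 := d20_1 D1848 (iv D1245) D1244
theorem F5758 : act 4 n1848 = n1623 := d23_1 D1848 F5754 (iv D1847)
def n1849 : Q := act 5 n1245
theorem D1849 : act 5 n1245 = n1849 := rfl
theorem F5759 : act 0 n1849 = n1252 := d4_1 D1849 (iv D1252) (iv F3952)
theorem F5760 : act 4 n1849 = n1302 := d22_1 D1849 F4136 (iv F3954)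
theorem F5761 : act 7 n1849 = n1271 := d26_2 (iv F3955) D1849 (iv D1271)
def n1850 : Q := act 3 n1246
theorem D1850 : act 3 n1246 = n1850 := rfl
theorem F5762 : act 1 n1850 = n1850 := d8_1 D1850 (iv D1850) F3956
theorem F5763 : act 5 n1850 = n1631 := d19_2 (iv F3958) D1850 (iv D1631)
theorem F5764 : act 7 n1850 = n1247 := d21_2 D1246 D1850 (iv D1247) (iv D842) D841
def n1851 : Q := act 6 n1246
theorem D1851 : act 6 n1246 = n1851 := rfl
theorem F5765 : act 1 n1851 = n1851 := d11_1 D1851 (iv D1851) F3956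
theorem F5766 : act 4 n1851 = n1634 := d23_1 D1851 (iv D1634) (iv F3957)
theorem F5767 : act 7 n1851 = n1274 := d27_2 D1246 D1851 (iv D1274) (iv D856) (iv F2733)
def n1852 : Q := act 2 n1247
theorem D1852 : act 2 n1247 = n1852 := rfl
theorem F5768 : act 3 n1852 = n1249 := d13_2 D1247 D1852 (iv D1249) (iv D843) (iv F2735)
theorem F5769 : act 5 n1852 = n1691 := d15_2 (iv F3960) D1852 (iv D1691)
def n1853 : Q := act 4 n1247
theorem D1853 : act 4 n1247 = n1853 := rfl
theorem F5770 : act 1 n1853 = n1853 := d9_1 D1853 (iv D1853) F3959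
theorem F5771 : act 3 n1853 = n1252 := d18_1 D1853 F3972 (iv D880) (iv F2736) D1247
theorem F5772 : act 5 n1853 = n1251 := d22_2 (iv F3960) D1853 F3970
def n1854 : Q := act 6 n1247
theorem D1854 : act 6 n1247 = n1854 := rfl
theorem F5773 : act 1 n1854 = n1854 := d11_1 D1854 (iv D1854) F3959
theorem F5774 : act 3 n1854 = n1248 := d20_1 D1854 (iv D1248) D1247
def n1855 : Q := act 5 n1248
theorem D1855 : act 5 n1248 = n1855 := rfl
theorem F5775 : act 2 n1855 = n1252 := d15_1 D1855 (iv D1252) (iv F3962)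
theorem F5776 : act 4 n1855 = n1298 := d22_1 D1855 F4119 (iv F3963)
theorem F5777 : act 6 n1855 = n1297 := d25_2 D1248 D1855 F4114 F2865 (iv F2737)
theorem F5778 : act 7 n1855 = n1277 := d26_2 (iv F3964) D1855 (iv D1277)
theorem F5779 : act 1 n1299 = n1855 := d11_3 F5777 F4113 D1299
def n1856 : Q := act 1 n1249
theorem D1856 : act 1 n1249 = n1856 := rfl
theorem F5780 : act 2 n1856 = n1253 := d7_2 D1249 D1856 (iv D1253) (iv D845) (iv F2738)
def n1857 : Q := act 4 n1249
theorem D1857 : act 4 n1249 = n1857 := rfl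
theorem F5781 : act 2 n1857 = n1250 := d14_1 D1857 (iv D1250) D1249
theorem F5782 : act 6 n1691 = n1857 := d16_0 F5781 (iv F3967) D1691
def n1858 : Q := act 6 n1249
theorem D1858 : act 6 n1249 = n1858 := rfl
theorem F5783 : act 2 n1858 = n1251 := d16_1 D1858 (iv D1251) D1249
theorem F5784 : act 4 n1858 = n1691 := d23_1 D1858 F5782 (iv D1857)
def n1859 : Q := act 7 n1251
theorem D1859 : act 7 n1251 = n1859 := rfl
theorem F5785 : act 1 n1859 = n1256 := d12_1 D1859 (iv D1256) (iv F3968)
theorem F5786 : act 3 n1859 = n1282 := d21_1 D1859 (iv D1282) F2791 (iv F2741) (iv F3969)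
theorem F5787 : act 4 n1859 = n1631 := d24_1 D1859 F5089 (iv F3970)
def n1860 : Q := act 0 n1253
theorem D1860 : act 0 n1253 = n1860 := rfl
theorem F5788 : act 1 n1860 = n1437 := d0_2 D1253 D1860 (iv D1437) (iv D962) (iv F2742)
theorem F5789 : act 3 n1860 = n1860 := d2_2 F3974 D1860 (iv D1860)
def n1861 : Q := act 4 n1253
theorem D1861 : act 4 n1253 = n1861 := rfl
theorem F5790 : act 1 n1861 = n1254 := d9_1 D1861 (iv D1254) D1253
theorem F5791 : act 3 n1700 = n1861 := d8_0 F5790 (iv F3978) (iv F5289)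
theorem F5792 : act 6 n1692 = n1861 := d11_0 F5790 F3979 D1692
def n1862 : Q := act 5 n1253
theorem D1862 : act 5 n1253 = n1862 := rfl
theorem F5793 : act 1 n1862 = n1259 := d10_1 D1862 (iv D1259) (iv D848) (iv F2744) D1253
theorem F5794 : act 3 n1862 = n1862 := d19_1 D1862 (iv D1862) F3974
def n1863 : Q := act 6 n1253
theorem D1863 : act 6 n1253 = n1863 := rfl
theorem F5795 : act 1 n1863 = n1255 := d11_1 D1863 (iv D1255) D1253
theorem F5796 : act 3 n1863 = n1863 := d20_1 D1863 (iv D1863) F3974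
theorem F5797 : act 4 n1863 = n1692 := d23_1 D1863 F5792 (iv D1861)
def n1864 : Q := act 7 n1255
theorem D1864 : act 7 n1255 = n1864 := rfl
theorem F5798 : act 0 n1864 = n1441 := d6_1 D1864 (iv D1441) (iv F3980)
theorem F5799 : act 2 n1864 = n1256 := d17_1 D1864 (iv D1256) (iv F3981)
theorem F5800 : act 4 n1864 = n1640 := d24_1 D1864 F5109 (iv F3983)
theorem F5801 : act 5 n1864 = n1864 := d26_1 D1864 (iv D1864) F3984
def n1865 : Q := act 4 n1257
theorem D1865 : act 4 n1257 = n1865 := rfl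
theorem F5802 : act 0 n1865 = n1258 := d3_1 D1865 (iv D1258) D1257
theorem F5803 : act 1 n1865 = n1442 := d9_1 D1865 (iv D1442) (iv F3989)
theorem F5804 : act 6 n1865 = n1865 := d23_2 F3991 D1865 (iv D1865)
def n1866 : Q := act 5 n1257
theorem D1866 : act 5 n1257 = n1866 := rfl
theorem F5805 : act 0 n1866 = n1259 := d4_1 D1866 (iv D1259) D1257
theorem F5806 : act 3 n1866 = n1866 := d19_1 D1866 (iv D1866) F3990
def n1867 : Q := act 3 n1258
theorem D1867 : act 3 n1258 = n1867 := rfl
theorem F5807 : act 1 n1867 = n1260 := d8_1 D1867 (iv D1260) (iv F3992)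
theorem F5808 : act 2 n1867 = n1867 := d13_1 D1867 (iv D1867) (iv F5727) F5728 F5727
theorem F5809 : act 4 n1867 = n1867 := d18_2 D1258 D1867 (iv D1867) (iv D1258) F2753
theorem F5810 : act 6 n1867 = n1867 := d20_2 F3993 D1867 (iv D1867)
def n1868 : Q := act 5 n1258
theorem D1868 : act 5 n1258 = n1868 := rfl
theorem F5811 : act 4 n1868 = n1259 := d22_1 D1868 (iv D1259) D1258
def n1869 : Q := act 6 n1259
theorem D1869 : act 6 n1259 = n1869 := rfl
theorem F5812 : act 3 n1869 = n1869 := d20_1 D1869 (iv D1869) F3994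
theorem F5813 : act 5 n1869 = n1869 := d25_1 D1869 (iv D1869) (iv D1259) F2754 D1259
def n1870 : Q := act 7 n1260
theorem D1870 : act 7 n1260 = n1870 := rfl
theorem F5814 : act 0 n1870 = n1447 := d6_1 D1870 (iv D1447) (iv F3995)
theorem F5815 : act 2 n1870 = n1305 := d17_1 D1870 (iv D1305) (iv F3996)
theorem F5816 : act 4 n1870 = n1870 := d24_1 D1870 (iv D1870) F3997
theorem F5817 : act 5 n1870 = n1701 := d26_1 D1870 (iv D1701) (iv F3998)
def n1871 : Q := act 2 n1261
theorem D1871 : act 2 n1261 = n1871 := rfl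
theorem F5818 : act 0 n1871 = n1871 := d1_1 D1871 (iv D1871) F4000
theorem F5819 : act 3 n1871 = n1448 := d13_2 D1261 D1871 (iv D1448) (iv D970) (iv F2759)
def n1872 : Q := act 4 n1261
theorem D1872 : act 4 n1261 = n1872 := rfl
theorem F5820 : act 0 n1872 = n1872 := d3_1 D1872 (iv D1872) F4000
theorem F5821 : act 1 n1872 = n1264 := d9_1 D1872 (iv D1264) (iv F4001)
theorem F5822 : act 3 n1872 = n1307 := d18_1 D1872 (iv D1307) (iv D884) (iv F2760) D1261
theorem F5823 : act 6 n1872 = n1450 := d23_2 F5735 D1872 (iv F5733)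
def n1873 : Q := act 5 n1261
theorem D1873 : act 5 n1261 = n1873 := rfl
theorem F5824 : act 0 n1873 = n1873 := d4_1 D1873 (iv D1873) F4000
theorem F5825 : act 1 n1873 = n1873 := d10_1 D1873 (iv D1873) F4001 F2762 (iv F4001)
theorem F5826 : act 3 n1873 = n1262 := d19_1 D1873 (iv D1262) D1261
def n1874 : Q := act 7 n1261
theorem D1874 : act 7 n1261 = n1874 := rfl
theorem F5827 : act 0 n1874 = n1874 := d6_1 D1874 (iv D1874) F4000
theorem F5828 : act 1 n1874 = n1265 := d12_1 D1874 (iv D1265) (iv F4001)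
def n1875 : Q := act 6 n1262
theorem D1875 : act 6 n1262 = n1875 := rfl
theorem F5829 : act 0 n1875 = n1875 := d5_1 D1875 (iv D1875) F4002
theorem F5830 : act 1 n1875 = n1875 := d11_1 D1875 (iv D1875) F4003
theorem F5831 : act 2 n1875 = n1307 := d16_1 D1875 F4158 (iv F4004)
theorem F5832 : act 4 n1875 = n1306 := d23_1 D1875 F4153 (iv F4005)
theorem F5833 : act 5 n1875 = n1497 := d25_1 D1875 F4711 (iv F3940) F3941 D1262
theorem F5834 : act 7 n1875 = n1875 := d26_0 F5833 F4712 (iv F5833)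
def n1876 : Q := act 7 n1262
theorem D1876 : act 7 n1262 = n1876 := rfl
theorem F5835 : act 0 n1876 = n1876 := d6_1 D1876 (iv D1876) F4002
theorem F5836 : act 1 n1876 = n1876 := d12_1 D1876 (iv D1876) F4003
theorem F5837 : act 2 n1876 = n1452 := d17_1 D1876 (iv D1452) (iv F4004)
theorem F5838 : act 4 n1876 = n1309 := d24_1 D1876 (iv D1309) (iv F4005)
theorem F5839 : act 5 n1876 = n1263 := d26_1 D1876 (iv D1263) D1262
theorem F5840 : act 6 n1876 = n1876 := d27_1 D1876 (iv D1876) D1875 F5834 (iv D1875)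
def n1877 : Q := act 3 n1263
theorem D1877 : act 3 n1263 = n1877 := rfl
theorem F5841 : act 0 n1877 = n1877 := d2_1 D1877 (iv D1877) F4006
theorem F5842 : act 1 n1877 = n1266 := d8_1 D1877 (iv D1266) (iv F4007)
theorem F5843 : act 4 n1877 = n1877 := d18_2 (iv F4009) D1877 (iv D1877) F4009 F2882
def n1878 : Q := act 6 n1263
theorem D1878 : act 6 n1263 = n1878 := rfl
theorem F5844 : act 0 n1878 = n1878 := d5_1 D1878 (iv D1878) F4006
theorem F5845 : act 1 n1878 = n1267 := d11_1 D1878 (iv D1267) (iv F4007)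
theorem F5846 : act 2 n1878 = n1454 := d16_1 D1878 (iv D1454) (iv F4008)
theorem F5847 : act 4 n1878 = n1310 := d23_1 D1878 (iv D1310) (iv F4009)
theorem F5848 : act 5 n1878 = n1878 := d25_1 D1878 (iv D1878) (iv F5839) F5840 F5839
def n1879 : Q := act 7 n1264
theorem D1879 : act 7 n1264 = n1879 := rfl
theorem F5849 : act 0 n1879 = n1272 := d6_1 D1879 (iv D1272) (iv F4010)
theorem F5850 : act 3 n1879 = n1879 := d21_1 D1879 (iv D1879) F4011 F2887 (iv F4011)
theorem F5851 : act 4 n1879 = n1265 := d24_1 D1879 (iv D1265) D1264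
theorem F5852 : act 5 n1879 = n1879 := d26_1 D1879 (iv D1879) F4012
def n1880 : Q := act 3 n1265
theorem D1880 : act 3 n1265 = n1880 := rfl
theorem F5853 : act 0 n1880 = n1273 := d2_1 D1880 (iv D1273) (iv F4014)
theorem F5854 : act 4 n1880 = n1880 := d18_2 F5851 D1880 (iv D1880) (iv F5851) F5850
theorem F5855 : act 5 n1880 = n1880 := d19_2 F4015 D1880 (iv D1880)
theorem F5856 : act 7 n1880 = n1266 := d21_2 D1265 D1880 (iv D1266) (iv D852) D851
def n1881 : Q := act 6 n1265
theorem D1881 : act 6 n1265 = n1881 := rfl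
theorem F5857 : act 0 n1881 = n1274 := d5_1 D1881 (iv D1274) (iv F4014)
def n1882 : Q := act 2 n1266
theorem D1882 : act 2 n1266 = n1882 := rfl
theorem F5858 : act 0 n1882 = n1275 := d1_1 D1882 (iv D1275) (iv F4016)
theorem F5859 : act 3 n1882 = n1268 := d13_2 D1266 D1882 (iv D1268) (iv D853) (iv F2764)
theorem F5860 : act 4 n1882 = n1882 := d14_2 F4017 D1882 (iv D1882)
theorem F5861 : act 5 n1882 = n1882 := d15_2 F4018 D1882 (iv D1882)
def n1883 : Q := act 6 n1266
theorem D1883 : act 6 n1266 = n1883 := rfl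
theorem F5862 : act 0 n1883 = n1276 := d5_1 D1883 (iv D1276) (iv F4016)
theorem F5863 : act 3 n1883 = n1267 := d20_1 D1883 (iv D1267) D1266
theorem F5864 : act 4 n1883 = n1883 := d23_1 D1883 (iv D1883) F4017
def n1884 : Q := act 5 n1267
theorem D1884 : act 5 n1267 = n1884 := rfl
theorem F5865 : act 0 n1884 = n1277 := d4_1 D1884 (iv D1277) (iv F4019)
theorem F5866 : act 1 n1884 = n1884 := d10_1 D1884 (iv D1884) (iv F5845) F5848 F5845
theorem F5867 : act 2 n1884 = n1271 := d15_1 D1884 (iv D1271) (iv F4020)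
theorem F5868 : act 4 n1884 = n1311 := d22_1 D1884 (iv D1311) (iv F4021)
theorem F5869 : act 6 n1884 = n1884 := d25_2 D1267 D1884 (iv D1884) (iv D1267) F2766
def n1885 : Q := act 1 n1268
theorem D1885 : act 1 n1268 = n1885 := rfl
theorem F5870 : act 2 n1885 = n1461 := d7_2 D1268 D1885 (iv D1461) (iv D977) (iv F2768)
def n1886 : Q := act 4 n1268
theorem D1886 : act 4 n1268 = n1886 := rfl
theorem F5871 : act 0 n1886 = n1279 := d3_1 D1886 (iv D1279) (iv F4022)
theorem F5872 : act 2 n1886 = n1269 := d14_1 D1886 (iv D1269) D1268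
theorem F5873 : act 3 n1886 = n1886 := d18_1 D1886 (iv D1886) (iv F5859) F5860 F5859
theorem F5874 : act 5 n1886 = n1886 := d22_2 F4023 D1886 (iv D1886)
theorem F5875 : act 6 n1574 = n1886 := d16_0 F5872 (iv F4028) D1574
def n1887 : Q := act 6 n1268
theorem D1887 : act 6 n1268 = n1887 := rfl
theorem F5876 : act 0 n1887 = n1280 := d5_1 D1887 (iv D1280) (iv F4022)
theorem F5877 : act 2 n1887 = n1270 := d16_1 D1887 (iv D1270) D1268
theorem F5878 : act 4 n1887 = n1574 := d23_1 D1887 F5875 (iv D1886)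
def n1888 : Q := act 5 n1270
theorem D1888 : act 5 n1270 = n1888 := rfl
theorem F5879 : act 0 n1888 = n1281 := d4_1 D1888 (iv D1281) (iv F4029)
theorem F5880 : act 3 n1888 = n1271 := d19_1 D1888 (iv D1271) (iv F4031)
theorem F5881 : act 4 n1888 = n1573 := d22_1 D1888 F4942 (iv F4032)
theorem F5882 : act 6 n1888 = n1888 := d25_2 D1270 D1888 (iv D1888) (iv D1270) F2769
def n1889 : Q := act 7 n1270
theorem D1889 : act 7 n1270 = n1889 := rfl
theorem F5883 : act 0 n1889 = n1282 := d6_1 D1889 (iv D1282) (iv F4029)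
theorem F5884 : act 1 n1889 = n1464 := d12_1 D1889 (iv D1464) (iv F4030)
theorem F5885 : act 4 n1889 = n1571 := d24_1 D1889 F4937 (iv F4032)
def n1890 : Q := act 1 n1271
theorem D1890 : act 1 n1271 = n1890 := rfl
theorem F5886 : act 0 n1890 = n1890 := d0_1 D1890 (iv D1890) F4033 F2793 (iv F4033)
theorem F5887 : act 2 n1890 = n1890 := d7_2 F5867 D1890 (iv D1890) (iv F5867) F5866
theorem F5888 : act 4 n1890 = n1312 := d9_2 (iv F4034) D1890 (iv D1312)
theorem F5889 : act 5 n1890 = n1465 := d10_2 D1271 D1890 (iv D1465) (iv D980) (iv F2771)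
theorem F5890 : act 6 n1890 = n1890 := d11_2 F4035 D1890 (iv D1890)
def n1891 : Q := act 6 n1272
theorem D1891 : act 6 n1272 = n1891 := rfl
theorem F5891 : act 1 n1891 = n1891 := d11_1 D1891 (iv D1891) F4036
theorem F5892 : act 3 n1891 = n1891 := d20_1 D1891 (iv D1891) F4037
theorem F5893 : act 4 n1891 = n1274 := d23_1 D1891 (iv D1274) (iv F4038)
theorem F5894 : act 7 n1891 = n1634 := d27_2 D1272 D1891 (iv D1634) (iv D1110) (iv F2776)
def n1892 : Q := act 2 n1273
theorem D1892 : act 2 n1273 = n1892 := rfl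
theorem F5895 : act 4 n1892 = n1892 := d14_2 F4041 D1892 (iv D1892)
theorem F5896 : act 5 n1892 = n1892 := d15_2 F4042 D1892 (iv D1892)
theorem F5897 : act 7 n1892 = n1275 := d17_2 (iv F4043) D1892 (iv D1275)
def n1893 : Q := act 6 n1273
theorem D1893 : act 6 n1273 = n1893 := rfl
theorem F5898 : act 1 n1893 = n1893 := d11_1 D1893 (iv D1893) F4040
theorem F5899 : act 3 n1893 = n1274 := d20_1 D1893 (iv D1274) D1273
theorem F5900 : act 4 n1893 = n1893 := d23_1 D1893 (iv D1893) F4041
def n1894 : Q := act 5 n1274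
theorem D1894 : act 5 n1274 = n1894 := rfl
theorem F5901 : act 6 n1894 = n1894 := d25_2 D1274 D1894 (iv D1894) (iv D1274) F2778
def n1895 : Q := act 1 n1275
theorem D1895 : act 1 n1275 = n1895 := rfl
theorem F5902 : act 2 n1895 = n1895 := d7_2 D1275 D1895 (iv D1895) (iv D1275) F2779
theorem F5903 : act 3 n1895 = n1278 := d8_2 (iv F4045) D1895 (iv D1278)
theorem F5904 : act 4 n1895 = n1895 := d9_2 F4046 D1895 (iv D1895)
def n1896 : Q := act 6 n1275
theorem D1896 : act 6 n1275 = n1896 := rfl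
theorem F5905 : act 2 n1896 = n1276 := d16_1 D1896 (iv D1276) D1275
theorem F5906 : act 3 n1896 = n1280 := d20_1 D1896 (iv D1280) (iv F4045)
theorem F5907 : act 4 n1896 = n1896 := d23_1 D1896 (iv D1896) F4046
def n1897 : Q := act 5 n1276
theorem D1897 : act 5 n1276 = n1897 := rfl
theorem F5908 : act 3 n1897 = n1277 := d19_1 D1897 (iv D1277) (iv F4049)
theorem F5909 : act 4 n1897 = n1897 := d22_1 D1897 (iv D1897) F4050
theorem F5910 : act 6 n1897 = n1897 := d25_2 D1276 D1897 (iv D1897) (iv D1276) F2781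
def n1898 : Q := act 7 n1276
theorem D1898 : act 7 n1276 = n1898 := rfl
theorem F5911 : act 1 n1898 = n1898 := d12_1 D1898 (iv D1898) F4048
theorem F5912 : act 4 n1898 = n1898 := d24_1 D1898 (iv D1898) F4050
def n1899 : Q := act 1 n1277
theorem D1899 : act 1 n1277 = n1899 := rfl
theorem F5913 : act 0 n1899 = n1899 := d0_1 D1899 (iv D1899) (iv F5865) F5866 F5865
theorem F5914 : act 2 n1899 = n1899 := d7_2 (iv F4051) D1899 (iv D1899) F4051 F2793
theorem F5915 : act 4 n1899 = n1300 := d9_2 (iv F4052) D1899 F4126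
theorem F5916 : act 5 n1899 = n1899 := d10_2 D1277 D1899 (iv D1899) (iv D1277) F2782
theorem F5917 : act 6 n1899 = n1899 := d11_2 F4053 D1899 (iv D1899)
theorem F5918 : act 7 n1899 = n1299 := d12_2 F5778 D1899 F5779
def n1900 : Q := act 0 n1278
theorem D1900 : act 0 n1278 = n1900 := rfl
theorem F5919 : act 2 n1900 = n1283 := d1_2 (iv F4054) D1900 (iv D1283)
def n1901 : Q := act 4 n1278
theorem D1901 : act 4 n1278 = n1901 := rfl
theorem F5920 : act 1 n1901 = n1279 := d9_1 D1901 (iv D1279) D1278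
theorem F5921 : act 2 n1901 = n1284 := d14_1 D1901 (iv D1284) (iv F4054)
theorem F5922 : act 3 n1901 = n1901 := d18_1 D1901 (iv D1901) (iv F5903) F5904 F5903
theorem F5923 : act 6 n1639 = n1901 := d16_0 F5921 (iv F4071) (iv F5104)
def n1902 : Q := act 5 n1278
theorem D1902 : act 5 n1278 = n1902 := rfl
theorem F5924 : act 1 n1902 = n1902 := d10_1 D1902 (iv D1902) (iv D1278) F2785 D1278
theorem F5925 : act 2 n1902 = n1285 := d15_1 D1902 (iv D1285) (iv F4054)
def n1903 : Q := act 6 n1278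
theorem D1903 : act 6 n1278 = n1903 := rfl
theorem F5926 : act 1 n1903 = n1280 := d11_1 D1903 (iv D1280) D1278
theorem F5927 : act 2 n1903 = n1286 := d16_1 D1903 (iv D1286) (iv F4054)
theorem F5928 : act 4 n1903 = n1639 := d23_1 D1903 F5923 (iv D1901)
def n1904 : Q := act 5 n1280
theorem D1904 : act 5 n1280 = n1904 := rfl
theorem F5929 : act 2 n1904 = n1281 := d15_1 D1904 (iv D1281) (iv F4059)
theorem F5930 : act 4 n1904 = n1638 := d22_1 D1904 F5102 (iv F4060)
theorem F5931 : act 6 n1904 = n1904 := d25_2 D1280 D1904 (iv D1904) (iv D1280) F2785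
def n1905 : Q := act 7 n1280
theorem D1905 : act 7 n1280 = n1905 := rfl
theorem F5932 : act 2 n1905 = n1282 := d17_1 D1905 (iv D1282) (iv F4059)
theorem F5933 : act 4 n1905 = n1635 := d24_1 D1905 F5097 (iv F4060)
def n1906 : Q := act 7 n1281
theorem D1906 : act 7 n1281 = n1906 := rfl
theorem F5934 : act 1 n1906 = n1906 := d12_1 D1906 (iv D1906) F4061
theorem F5935 : act 4 n1906 = n1633 := d24_1 D1906 F5095 (iv F4063)
theorem F5936 : act 5 n1906 = n1282 := d26_1 D1906 (iv D1282) D1281
def n1907 : Q := act 4 n1283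
theorem D1907 : act 4 n1283 = n1907 := rfl
theorem F5937 : act 0 n1907 = n1284 := d3_1 D1907 (iv D1284) D1283
theorem F5938 : act 1 n1907 = n1480 := d9_1 D1907 (iv D1480) (iv F4067)
theorem F5939 : act 3 n1650 = n1907 := d8_0 F5938 (iv F4657) (iv F5136)
theorem F5940 : act 6 n1647 = n1907 := d11_0 F5938 (iv F4658) (iv F5127)
def n1908 : Q := act 5 n1283
theorem D1908 : act 5 n1283 = n1908 := rfl
theorem F5941 : act 0 n1908 = n1285 := d4_1 D1908 (iv D1285) D1283
theorem F5942 : act 3 n1908 = n1908 := d19_1 D1908 (iv D1908) F4068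
def n1909 : Q := act 6 n1283
theorem D1909 : act 6 n1283 = n1909 := rfl
theorem F5943 : act 0 n1909 = n1286 := d5_1 D1909 (iv D1286) D1283
theorem F5944 : act 1 n1909 = n1482 := d11_1 D1909 (iv D1482) (iv F4067)
theorem F5945 : act 3 n1909 = n1909 := d20_1 D1909 (iv D1909) F4068
theorem F5946 : act 4 n1909 = n1647 := d23_1 D1909 F5940 (iv D1907)
def n1910 : Q := act 5 n1284
theorem D1910 : act 5 n1284 = n1910 := rfl
theorem F5947 : act 1 n1910 = n1291 := d10_1 D1910 (iv D1291) F2814 (iv F2799) (iv F4069)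
theorem F5948 : act 3 n1910 = n1652 := d19_1 D1910 (iv D1652) F4070
theorem F5949 : act 4 n1910 = n1285 := d22_1 D1910 (iv D1285) D1284
def n1911 : Q := act 6 n1285
theorem D1911 : act 6 n1285 = n1911 := rfl
theorem F5950 : act 1 n1911 = n1292 := d11_1 D1911 (iv D1292) (iv F4072)
theorem F5951 : act 3 n1911 = n1911 := d20_1 D1911 (iv D1911) F4073
def n1912 : Q := act 5 n1286
theorem D1912 : act 5 n1286 = n1912 := rfl
theorem F5952 : act 1 n1912 = n1912 := d10_1 D1912 (iv D1912) F4074 F2806 (iv F4074)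
theorem F5953 : act 3 n1912 = n1912 := d19_1 D1912 (iv D1912) F4075
theorem F5954 : act 4 n1912 = n1648 := d22_1 D1912 (iv D1648) (iv F4076)
def n1913 : Q := act 7 n1286
theorem D1913 : act 7 n1286 = n1913 := rfl
theorem F5955 : act 1 n1913 = n1287 := d12_1 D1913 (iv D1287) (iv F4074)
theorem F5956 : act 4 n1913 = n1643 := d24_1 D1913 F5118 (iv F4076)
def n1914 : Q := act 3 n1287
theorem D1914 : act 3 n1287 = n1914 := rfl
theorem F5957 : act 0 n1914 = n1487 := d2_1 D1914 (iv D1487) (iv F4077)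
theorem F5958 : act 4 n1914 = n1914 := d18_2 (iv F4079) D1914 (iv D1914) F4079 F3550
theorem F5959 : act 5 n1914 = n1914 := d19_2 F4080 D1914 (iv D1914)
theorem F5960 : act 7 n1914 = n1914 := d21_2 D1287 D1914 (iv D1914) (iv D1287) F2804
def n1915 : Q := act 3 n1288
theorem D1915 : act 3 n1288 = n1915 := rfl
theorem F5961 : act 0 n1915 = n1290 := d2_1 D1915 (iv D1290) (iv F4081)
theorem F5962 : act 1 n1915 = n1488 := d8_1 D1915 (iv D1488) (iv F4082)
theorem F5963 : act 4 n1915 = n1915 := d18_2 D1288 D1915 (iv D1915) (iv D1288) F2812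
theorem F5964 : act 6 n1915 = n1915 := d20_2 F4084 D1915 (iv D1915)
def n1916 : Q := act 5 n1288
theorem D1916 : act 5 n1288 = n1916 := rfl
theorem F5965 : act 0 n1916 = n1291 := d4_1 D1916 (iv D1291) (iv F4081)
theorem F5966 : act 2 n1916 = n1916 := d15_1 D1916 (iv D1916) F4083
theorem F5967 : act 4 n1916 = n1289 := d22_1 D1916 (iv D1289) D1288
def n1917 : Q := act 1 n1289
theorem D1917 : act 1 n1289 = n1917 := rfl
theorem F5968 : act 3 n1917 = n1917 := d8_2 F4087 D1917 (iv D1917)
theorem F5969 : act 5 n1917 = n1490 := d10_2 D1289 D1917 (iv D1490) (iv D997) (iv F2810)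
def n1918 : Q := act 6 n1289
theorem D1918 : act 6 n1289 = n1918 := rfl
theorem F5970 : act 0 n1918 = n1292 := d5_1 D1918 (iv D1292) (iv F4085)
theorem F5971 : act 2 n1918 = n1918 := d16_1 D1918 (iv D1918) F4086
theorem F5972 : act 3 n1918 = n1918 := d20_1 D1918 (iv D1918) F4087
theorem F5973 : act 5 n1918 = n1918 := d25_1 D1918 (iv D1918) (iv D1289) F2813 D1289
def n1919 : Q := act 2 n1290
theorem D1919 : act 2 n1290 = n1919 := rfl
theorem F5974 : act 1 n1919 = n1313 := d7_1 D1919 (iv D1313) F2904 (iv F2820) (iv F4088)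
theorem F5975 : act 3 n1919 = n1919 := d13_2 D1290 D1919 (iv D1919) (iv D1290) F2815
theorem F5976 : act 4 n1919 = n1919 := d14_2 F4089 D1919 (iv D1919)
theorem F5977 : act 6 n1919 = n1919 := d16_2 F4090 D1919 (iv D1919)
def n1920 : Q := act 5 n1290
theorem D1920 : act 5 n1290 = n1920 := rfl
theorem F5978 : act 1 n1920 = n1652 := d10_1 D1920 (iv D1652) F3568 (iv F2822) (iv F4088)
theorem F5979 : act 3 n1920 = n1291 := d19_1 D1920 (iv D1291) D1290
theorem F5980 : act 4 n1920 = n1920 := d22_1 D1920 (iv D1920) F4089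
def n1921 : Q := act 7 n1290
theorem D1921 : act 7 n1290 = n1921 := rfl
theorem F5981 : act 1 n1921 = n1293 := d12_1 D1921 (iv D1293) (iv F4088)
theorem F5982 : act 4 n1921 = n1921 := d24_1 D1921 (iv D1921) F4089
def n1922 : Q := act 6 n1291
theorem D1922 : act 6 n1291 = n1922 := rfl
theorem F5983 : act 2 n1922 = n1922 := d16_1 D1922 (iv D1922) F4091
theorem F5984 : act 4 n1922 = n1292 := d23_1 D1922 (iv D1292) (iv F4092)
theorem F5985 : act 5 n1922 = n1922 := d25_1 D1922 (iv D1922) (iv D1291) F2816 D1291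
def n1923 : Q := act 7 n1292
theorem D1923 : act 7 n1292 = n1923 := rfl
theorem F5986 : act 2 n1923 = n1923 := d17_1 D1923 (iv D1923) F4093
theorem F5987 : act 5 n1923 = n1923 := d26_1 D1923 (iv D1923) F4095
def n1924 : Q := act 6 n1293
theorem D1924 : act 6 n1293 = n1924 := rfl
theorem F5988 : act 0 n1924 = n1496 := d5_1 D1924 (iv D1496) (iv F4096)
theorem F5989 : act 2 n1924 = n1315 := d16_1 D1924 (iv D1315) (iv F4097)
theorem F5990 : act 4 n1924 = n1924 := d23_1 D1924 (iv D1924) F4098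
theorem F5991 : act 5 n1924 = n1924 := d25_1 D1924 (iv D1924) F4099 F3574 (iv F4099)
theorem F5992 : act 7 n1924 = n1924 := d27_2 D1293 D1924 (iv D1924) (iv D1293) F2823
def n1925 : Q := act 2 n1294
theorem D1925 : act 2 n1294 = n1925 := rfl
theorem F5993 : act 0 n1925 = n1296 := d1_1 D1925 (iv D1296) (iv F4100)
theorem F5994 : act 3 n1925 = n1303 := d13_2 D1294 D1925 F4139 F2856 (iv F2826)
theorem F5995 : act 5 n1925 = n1295 := d15_2 (iv F4102) D1925 F4106
theorem F5996 : act 7 n1925 = n1925 := d17_2 F4103 D1925 (iv D1925)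
theorem F5997 : act 6 n1925 = n1302 := d30_6 F3241 (iv D1008) (iv F2855) (iv F4139) (iv F5994) F5996 F4136 F2855 (iv F3229) F3230 F3231 (iv D688) F1505 (iv F1665) F1666 (iv F1999) (iv F2857) (iv D879) (iv F2827) F2825 F2826 (iv F2856) F2857 (iv D600) F1226 F1225 (iv F1504) D687 (iv F3242)
def n1926 : Q := act 4 n1294
theorem D1926 : act 4 n1294 = n1926 := rfl
theorem F5998 : act 0 n1926 = n1297 := d3_1 D1926 (iv D1297) (iv F4100)
theorem F5999 : act 1 n1926 = n1926 := d9_1 D1926 (iv D1926) F4101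
theorem F6000 : act 5 n1926 = n1304 := d22_2 (iv F4102) D1926 (iv D1304)
theorem F6001 : act 7 n1926 = n1926 := d24_2 F4103 D1926 (iv D1926)
def n1927 : Q := act 6 n1294
theorem D1927 : act 6 n1294 = n1927 := rfl
theorem F6002 : act 0 n1927 = n1298 := d5_1 D1927 (iv D1298) (iv F4100)
theorem F6003 : act 1 n1927 = n1927 := d11_1 D1927 (iv D1927) F4101
theorem F6004 : act 2 n1927 = n1302 := d16_1 D1927 (iv F5997) (iv D1925)
theorem F6005 : act 3 n1927 = n1295 := d20_1 D1927 (iv D1295) D1294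
theorem F6006 : act 5 n1927 = n1303 := d25_1 D1927 (iv D1303) F2849 F2853 (iv F4102)
theorem F6007 : act 7 n1311 = n1927 := d26_0 F6006 F4140 D1311
def n1928 : Q := act 3 n1301
theorem D1928 : act 3 n1301 = n1928 := rfl
theorem F6008 : act 0 n1928 = n1928 := d2_1 D1928 (iv D1928) F4131
theorem F6009 : act 1 n1928 = n1302 := d8_1 D1928 (iv D1302) (iv F4132)
theorem F6010 : act 2 n1928 = n1928 := d13_1 D1928 (iv D1928) F4133 F3222 (iv F4133)
theorem F6011 : act 5 n1928 = n1500 := d19_2 (iv F4134) D1928 F4726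
theorem F6012 : act 7 n1928 = n1312 := d21_2 D1301 D1928 F4184 (iv D1013) (iv F2844)
def n1929 : Q := act 6 n1301
theorem D1929 : act 6 n1301 = n1929 := rfl
theorem F6013 : act 0 n1929 = n1929 := d5_1 D1929 (iv D1929) F4131
theorem F6014 : act 1 n1929 = n1303 := d11_1 D1929 (iv D1303) (iv F4132)
theorem F6015 : act 2 n1929 = n1499 := d16_1 D1929 (iv D1499) (iv F4133)
theorem F6016 : act 5 n1929 = n1929 := d25_1 D1929 (iv D1929) F4134 F3255 (iv F4134)
theorem F6017 : act 7 n1929 = n1310 := d27_2 D1301 D1929 (iv D1310) (iv D886) (iv F2846)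
def n1930 : Q := act 6 n1305
theorem D1930 : act 6 n1305 = n1930 := rfl
theorem F6018 : act 0 n1930 = n1503 := d5_1 D1930 (iv D1503) (iv F4145)
theorem F6019 : act 1 n1930 = n1930 := d11_1 D1930 (iv D1930) F4146
theorem F6020 : act 3 n1930 = n1930 := d20_1 D1930 (iv D1930) F4147
theorem F6021 : act 4 n1930 = n1930 := d23_1 D1930 (iv D1930) F4148
theorem F6022 : act 5 n1930 = n1930 := d25_1 D1930 (iv D1930) F4149 F3670 (iv F4149)
theorem F6023 : act 7 n1930 = n1930 := d27_2 D1305 D1930 (iv D1930) (iv D1305) F2871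
def n1931 : Q := act 5 n1307
theorem D1931 : act 5 n1307 = n1931 := rfl
theorem F6024 : act 0 n1931 = n1931 := d4_1 D1931 (iv D1931) F4156
theorem F6025 : act 1 n1931 = n1931 := d10_1 D1931 (iv D1931) F4157 F2885 (iv F4157)
theorem F6026 : act 2 n1931 = n1497 := d15_1 D1931 (iv F5833) F5831
theorem F6027 : act 4 n1931 = n1308 := d22_1 D1931 (iv D1308) D1307
theorem F6028 : act 6 n1931 = n1418 := d25_2 (iv F4158) D1931 (iv D1418) F3061 D971
theorem F6029 : act 7 n1931 = n1931 := d26_2 F4159 D1931 (iv D1931)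
def n1932 : Q := act 7 n1313
theorem D1932 : act 7 n1313 = n1932 := rfl
theorem F6030 : act 0 n1932 = n1932 := d6_1 D1932 (iv D1932) F4187
theorem F6031 : act 2 n1932 = n1314 := d17_1 D1932 (iv D1314) D1313
theorem F6032 : act 4 n1932 = n1932 := d24_1 D1932 (iv D1932) F4189
theorem F6033 : act 5 n1932 = n1932 := d26_1 D1932 (iv D1932) F4190
def n1933 : Q := act 6 n1314
theorem D1933 : act 6 n1314 = n1933 := rfl
theorem F6034 : act 0 n1933 = n1933 := d5_1 D1933 (iv D1933) F4192
theorem F6035 : act 1 n1933 = n1315 := d11_1 D1933 (iv D1315) (iv F4193)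
theorem F6036 : act 3 n1933 = n1933 := d20_1 D1933 (iv D1933) F4194
theorem F6037 : act 4 n1933 = n1933 := d23_1 D1933 (iv D1933) F4195
theorem F6038 : act 7 n1933 = n1933 := d27_2 D1314 D1933 (iv D1933) (iv D1314) F2907
def n1934 : Q := act 3 n1316
theorem D1934 : act 3 n1316 = n1934 := rfl
theorem F6039 : act 0 n1934 = n1360 := d2_1 D1934 (iv D1360) (iv F4202)
theorem F6040 : act 1 n1934 = n1317 := d8_1 D1934 (iv D1317) D1316
def n1935 : Q := act 5 n1316
theorem D1935 : act 5 n1316 = n1935 := rfl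
theorem F6041 : act 0 n1935 = n1361 := d4_1 D1935 (iv D1361) (iv F4202)
theorem F6042 : act 1 n1935 = n1935 := d10_1 D1935 (iv D1935) (iv D1316) F2914 D1316
theorem F6043 : act 4 n1935 = n1935 := d22_1 D1935 (iv D1935) F4203
def n1936 : Q := act 7 n1316
theorem D1936 : act 7 n1316 = n1936 := rfl
theorem F6044 : act 0 n1936 = n1362 := d6_1 D1936 (iv D1362) (iv F4202)
theorem F6045 : act 1 n1936 = n1318 := d12_1 D1936 (iv D1318) D1316
theorem F6046 : act 4 n1936 = n1936 := d24_1 D1936 (iv D1936) F4203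
def n1937 : Q := act 4 n1317
theorem D1937 : act 4 n1317 = n1937 := rfl
theorem F6047 : act 0 n1937 = n1321 := d3_1 D1937 (iv D1321) (iv F4204)
theorem F6048 : act 2 n1937 = n1937 := d14_1 D1937 (iv D1937) F4205
theorem F6049 : act 3 n1937 = n1937 := d18_1 D1937 (iv D1937) (iv D1317) F2913 D1317
theorem F6050 : act 5 n1937 = n1937 := d22_2 F4206 D1937 (iv D1937)
def n1938 : Q := act 7 n1317
theorem D1938 : act 7 n1317 = n1938 := rfl
theorem F6051 : act 0 n1938 = n1322 := d6_1 D1938 (iv D1322) (iv F4204)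
theorem F6052 : act 2 n1938 = n1938 := d17_1 D1938 (iv D1938) F4205
theorem F6053 : act 5 n1938 = n1938 := d26_1 D1938 (iv D1938) F4206
def n1939 : Q := act 3 n1318
theorem D1939 : act 3 n1318 = n1939 := rfl
theorem F6054 : act 0 n1939 = n1323 := d2_1 D1939 (iv D1323) (iv F4207)
theorem F6055 : act 5 n1939 = n1939 := d19_2 F4210 D1939 (iv D1939)
def n1940 : Q := act 6 n1318
theorem D1940 : act 6 n1318 = n1940 := rfl
theorem F6056 : act 0 n1940 = n1324 := d5_1 D1940 (iv D1324) (iv F4207)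
theorem F6057 : act 2 n1940 = n1320 := d16_1 D1940 (iv D1320) (iv F4208)
theorem F6058 : act 4 n1940 = n1940 := d23_1 D1940 (iv D1940) F4209
def n1941 : Q := act 2 n1319
theorem D1941 : act 2 n1319 = n1941 := rfl
theorem F6059 : act 0 n1941 = n1325 := d1_1 D1941 (iv D1325) (iv F4211)
theorem F6060 : act 5 n1941 = n1941 := d15_2 F4212 D1941 (iv D1941)
theorem F6061 : act 7 n1941 = n1941 := d17_2 F4213 D1941 (iv D1941)
def n1942 : Q := act 4 n1319
theorem D1942 : act 4 n1319 = n1942 := rfl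
theorem F6062 : act 0 n1942 = n1326 := d3_1 D1942 (iv D1326) (iv F4211)
theorem F6063 : act 3 n1942 = n1942 := d18_1 D1942 (iv D1942) (iv D1319) F2916 D1319
theorem F6064 : act 5 n1942 = n1942 := d22_2 F4212 D1942 (iv D1942)
theorem F6065 : act 7 n1942 = n1942 := d24_2 F4213 D1942 (iv D1942)
def n1943 : Q := act 6 n1319
theorem D1943 : act 6 n1319 = n1943 := rfl
theorem F6066 : act 0 n1943 = n1327 := d5_1 D1943 (iv D1327) (iv F4211)
theorem F6067 : act 3 n1943 = n1320 := d20_1 D1943 (iv D1320) D1319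
def n1944 : Q := act 5 n1320
theorem D1944 : act 5 n1320 = n1944 := rfl
theorem F6068 : act 0 n1944 = n1328 := d4_1 D1944 (iv D1328) (iv F4214)
theorem F6069 : act 4 n1944 = n1944 := d22_1 D1944 (iv D1944) F4215
theorem F6070 : act 6 n1944 = n1944 := d25_2 D1320 D1944 (iv D1944) (iv D1320) F2917
def n1945 : Q := act 7 n1321
theorem D1945 : act 7 n1321 = n1945 := rfl
theorem F6071 : act 1 n1945 = n1371 := d12_1 D1945 (iv D1371) (iv F4216)
theorem F6072 : act 2 n1945 = n1945 := d17_1 D1945 (iv D1945) F4217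
theorem F6073 : act 4 n1945 = n1322 := d24_1 D1945 (iv D1322) D1321
theorem F6074 : act 5 n1945 = n1945 := d26_1 D1945 (iv D1945) F4219
def n1946 : Q := act 3 n1322
theorem D1946 : act 3 n1322 = n1946 := rfl
theorem F6075 : act 1 n1946 = n1372 := d8_1 D1946 (iv D1372) (iv F4220)
theorem F6076 : act 5 n1946 = n1946 := d19_2 F4222 D1946 (iv D1946)
theorem F6077 : act 7 n1946 = n1323 := d21_2 D1322 D1946 (iv D1323) (iv D897) D896
def n1947 : Q := act 6 n1322
theorem D1947 : act 6 n1322 = n1947 := rfl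
theorem F6078 : act 1 n1947 = n1373 := d11_1 D1947 (iv D1373) (iv F4220)
theorem F6079 : act 2 n1947 = n1947 := d16_1 D1947 (iv D1947) F4221
def n1948 : Q := act 2 n1323
theorem D1948 : act 2 n1323 = n1948 := rfl
theorem F6080 : act 3 n1948 = n1325 := d13_2 D1323 D1948 (iv D1325) (iv D898) (iv F2922)
theorem F6081 : act 5 n1948 = n1948 := d15_2 F4224 D1948 (iv D1948)
def n1949 : Q := act 4 n1323
theorem D1949 : act 4 n1323 = n1949 := rfl
theorem F6082 : act 1 n1949 = n1375 := d9_1 D1949 (iv D1375) (iv F4223)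
theorem F6083 : act 3 n1949 = n1949 := d18_1 D1949 (iv D1949) (iv D1323) F2923 D1323
theorem F6084 : act 5 n1949 = n1949 := d22_2 F4224 D1949 (iv D1949)
theorem F6085 : act 2 n1946 = n1949 := d29_1 D1946 F6082 F4360 D1536 (iv F4832) (iv D1128) (iv D768) (iv D519) (iv D297) (iv D160) (iv D86) (iv D45) (iv D23) (iv D11) F29 F27 (iv F43) D19 D39 F151 F150 (iv F238) (iv F1417) D116 D216 D400 D608 D896 D1322
theorem F6086 : act 4 n1948 = n1946 := d14_0 F6085 (iv D1949) D1948
theorem F6087 : act 7 n1949 = n1948 := d17_2 (iv F6077) F6085 (iv D1948)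
def n1950 : Q := act 6 n1323
theorem D1950 : act 6 n1323 = n1950 := rfl
theorem F6088 : act 1 n1950 = n1376 := d11_1 D1950 (iv D1376) (iv F4223)
theorem F6089 : act 3 n1950 = n1324 := d20_1 D1950 (iv D1324) D1323
def n1951 : Q := act 5 n1324
theorem D1951 : act 5 n1324 = n1951 := rfl
theorem F6090 : act 2 n1951 = n1328 := d15_1 D1951 (iv D1328) (iv F4226)
theorem F6091 : act 4 n1951 = n1951 := d22_1 D1951 (iv D1951) F4227
theorem F6092 : act 6 n1951 = n1951 := d25_2 D1324 D1951 (iv D1951) (iv D1324) F2924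
def n1952 : Q := act 1 n1325
theorem D1952 : act 1 n1325 = n1952 := rfl
theorem F6093 : act 2 n1952 = n1329 := d7_2 D1325 D1952 (iv D1329) (iv D900) (iv F2925)
theorem F6094 : act 7 n1952 = n1952 := d12_2 F4229 D1952 (iv D1952)
def n1953 : Q := act 4 n1325
theorem D1953 : act 4 n1325 = n1953 := rfl
theorem F6095 : act 2 n1953 = n1326 := d14_1 D1953 (iv D1326) D1325
theorem F6096 : act 3 n1953 = n1945 := d18_1 D1953 F6073 D1946 (iv F6086) F6080
theorem F6097 : act 5 n1953 = n1953 := d22_2 F4228 D1953 (iv D1953)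
theorem F6098 : act 7 n1953 = n1953 := d24_2 F4229 D1953 (iv D1953)
def n1954 : Q := act 6 n1325
theorem D1954 : act 6 n1325 = n1954 := rfl
theorem F6099 : act 2 n1954 = n1327 := d16_1 D1954 (iv D1327) D1325
def n1955 : Q := act 6 n1326
theorem D1955 : act 6 n1326 = n1955 := rfl
theorem F6100 : act 1 n1955 = n1332 := d11_1 D1955 (iv D1332) (iv F4230)
theorem F6101 : act 3 n1955 = n1955 := d20_1 D1955 (iv D1955) F4231
theorem F6102 : act 4 n1955 = n1327 := d23_1 D1955 (iv D1327) D1326
def n1956 : Q := act 5 n1327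
theorem D1956 : act 5 n1327 = n1956 := rfl
theorem F6103 : act 3 n1956 = n1328 := d19_1 D1956 (iv D1328) (iv F4235)
theorem F6104 : act 6 n1956 = n1956 := d25_2 D1327 D1956 (iv D1956) (iv D1327) F2926
def n1957 : Q := act 7 n1327
theorem D1957 : act 7 n1327 = n1957 := rfl
theorem F6105 : act 1 n1957 = n1333 := d12_1 D1957 (iv D1333) (iv F4234)
theorem F6106 : act 6 n1957 = n1957 := d27_1 D1957 (iv D1957) (iv D1327) F2927 D1327
def n1958 : Q := act 0 n1329
theorem D1958 : act 0 n1329 = n1958 := rfl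
theorem F6107 : act 3 n1958 = n1385 := d2_2 (iv F4238) D1958 (iv D1385)
theorem F6108 : act 7 n1958 = n1958 := d6_2 F4239 D1958 (iv D1958)
def n1959 : Q := act 4 n1329
theorem D1959 : act 4 n1329 = n1959 := rfl
theorem F6109 : act 1 n1959 = n1330 := d9_1 D1959 (iv D1330) D1329
theorem F6110 : act 7 n1959 = n1959 := d24_2 F4239 D1959 (iv D1959)
def n1960 : Q := act 5 n1329
theorem D1960 : act 5 n1329 = n1960 := rfl
theorem F6111 : act 1 n1960 = n1336 := d10_1 D1960 (iv D1336) (iv D903) (iv F2931) D1329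
theorem F6112 : act 3 n1960 = n1387 := d19_1 D1960 (iv D1387) (iv F4238)
theorem F6113 : act 7 n1960 = n1960 := d26_2 F4239 D1960 (iv D1960)
def n1961 : Q := act 6 n1329
theorem D1961 : act 6 n1329 = n1961 := rfl
theorem F6114 : act 1 n1961 = n1331 := d11_1 D1961 (iv D1331) D1329
theorem F6115 : act 3 n1961 = n1388 := d20_1 D1961 (iv D1388) (iv F4238)
def n1962 : Q := act 3 n1330
theorem D1962 : act 3 n1330 = n1962 := rfl
theorem F6116 : act 2 n1962 = n1962 := d13_1 D1962 (iv D1962) F4240 F2933 (iv F4240)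
theorem F6117 : act 4 n1962 = n1389 := d18_2 D1330 D1962 (iv D1389) (iv D930) (iv F2930)
theorem F6118 : act 5 n1962 = n1337 := d19_2 (iv F4241) D1962 (iv D1337)
theorem F6119 : act 7 n1962 = n1675 := d31_1 (iv F6118) (iv D1675) F3610 F3611 (iv D1139) (iv F3212) (iv D1001) F2202 F2201 F1536 (iv D459) F1394 F549 F548 F1395 (iv F1401) (iv F1405) F461 (iv F791) (iv F1349) F1348 (iv D426) D425 F1347 (iv F1307) D620 (iv F2971) F2972 D1337
def n1963 : Q := act 6 n1330
theorem D1963 : act 6 n1330 = n1963 := rfl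
theorem F6120 : act 2 n1963 = n1332 := d16_1 D1963 (iv D1332) (iv F4240)
theorem F6121 : act 4 n1963 = n1331 := d23_1 D1963 (iv D1331) D1330
def n1964 : Q := act 7 n1331
theorem D1964 : act 7 n1331 = n1964 := rfl
theorem F6122 : act 2 n1964 = n1333 := d17_1 D1964 (iv D1333) (iv F4243)
theorem F6123 : act 6 n1964 = n1964 := d27_1 D1964 (iv D1964) (iv D1331) F2932 D1331
def n1965 : Q := act 4 n1334
theorem D1965 : act 4 n1334 = n1965 := rfl
theorem F6124 : act 0 n1965 = n1335 := d3_1 D1965 (iv D1335) D1334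
theorem F6125 : act 2 n1965 = n1965 := d14_1 D1965 (iv D1965) F4248
theorem F6126 : act 7 n1965 = n1965 := d24_2 F4250 D1965 (iv D1965)
def n1966 : Q := act 5 n1334
theorem D1966 : act 5 n1334 = n1966 := rfl
theorem F6127 : act 0 n1966 = n1336 := d4_1 D1966 (iv D1336) D1334
theorem F6128 : act 2 n1966 = n1966 := d15_1 D1966 (iv D1966) F4248
theorem F6129 : act 3 n1966 = n1399 := d19_1 D1966 (iv D1399) (iv F4249)
theorem F6130 : act 7 n1966 = n1966 := d26_2 F4250 D1966 (iv D1966)
def n1967 : Q := act 3 n1335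
theorem D1967 : act 3 n1335 = n1967 := rfl
theorem F6131 : act 1 n1967 = n1337 := d8_1 D1967 (iv D1337) (iv F4251)
theorem F6132 : act 4 n1967 = n1401 := d18_2 D1335 D1967 (iv D1401) (iv D937) (iv F2938)
def n1968 : Q := act 5 n1335
theorem D1968 : act 5 n1335 = n1968 := rfl
theorem F6133 : act 2 n1968 = n1968 := d15_1 D1968 (iv D1968) F4252
theorem F6134 : act 4 n1968 = n1336 := d22_1 D1968 (iv D1336) D1335
theorem F6135 : act 7 n1968 = n1968 := d26_2 F4253 D1968 (iv D1968)
def n1969 : Q := act 6 n1336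
theorem D1969 : act 6 n1336 = n1969 := rfl
theorem F6136 : act 2 n1969 = n1969 := d16_1 D1969 (iv D1969) F4254
theorem F6137 : act 3 n1969 = n1403 := d20_1 D1969 (iv D1403) (iv F4255)
def n1970 : Q := act 7 n1337
theorem D1970 : act 7 n1337 = n1970 := rfl
theorem F6138 : act 2 n1970 = n1970 := d17_1 D1970 (iv D1970) F4257
theorem F6139 : act 3 n1970 = n1970 := d21_1 D1970 (iv D1970) (iv D1337) F2941 D1337
theorem F6140 : act 4 n1970 = n1406 := d24_1 D1970 (iv D1406) (iv F4258)
theorem F6141 : act 5 n1970 = n1675 := d26_1 D1970 (iv F6119) F6118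
def n1971 : Q := act 3 n1338
theorem D1971 : act 3 n1338 = n1971 := rfl
theorem F6142 : act 1 n1971 = n1339 := d8_1 D1971 (iv D1339) D1338
theorem F6143 : act 6 n1971 = n1360 := d20_2 (iv F4260) D1971 (iv D1360)
def n1972 : Q := act 5 n1338
theorem D1972 : act 5 n1338 = n1972 := rfl
theorem F6144 : act 1 n1972 = n1972 := d10_1 D1972 (iv D1972) (iv D1338) F2944 D1338
theorem F6145 : act 4 n1972 = n1972 := d22_1 D1972 (iv D1972) F4259
def n1973 : Q := act 7 n1338
theorem D1973 : act 7 n1338 = n1973 := rfl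
theorem F6146 : act 1 n1973 = n1340 := d12_1 D1973 (iv D1340) D1338
theorem F6147 : act 4 n1973 = n1973 := d24_1 D1973 (iv D1973) F4259
def n1974 : Q := act 4 n1339
theorem D1974 : act 4 n1339 = n1974 := rfl
theorem F6148 : act 0 n1974 = n1343 := d3_1 D1974 (iv D1343) (iv F4261)
theorem F6149 : act 2 n1974 = n1420 := d14_1 D1974 (iv D1420) (iv F4262)
theorem F6150 : act 3 n1974 = n1974 := d18_1 D1974 (iv D1974) (iv D1339) F2943 D1339
theorem F6151 : act 5 n1974 = n1974 := d22_2 F4263 D1974 (iv D1974)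
theorem F6152 : act 6 n1974 = n1363 := d23_2 (iv F4264) D1974 (iv D1363)
def n1975 : Q := act 7 n1339
theorem D1975 : act 7 n1339 = n1975 := rfl
theorem F6153 : act 0 n1975 = n1344 := d6_1 D1975 (iv D1344) (iv F4261)
theorem F6154 : act 2 n1975 = n1421 := d17_1 D1975 (iv D1421) (iv F4262)
theorem F6155 : act 5 n1975 = n1975 := d26_1 D1975 (iv D1975) F4263
def n1976 : Q := act 3 n1340
theorem D1976 : act 3 n1340 = n1976 := rfl
theorem F6156 : act 0 n1976 = n1345 := d2_1 D1976 (iv D1345) (iv F4265)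
theorem F6157 : act 5 n1976 = n1976 := d19_2 F4268 D1976 (iv D1976)
def n1977 : Q := act 6 n1340
theorem D1977 : act 6 n1340 = n1977 := rfl
theorem F6158 : act 0 n1977 = n1346 := d5_1 D1977 (iv D1346) (iv F4265)
theorem F6159 : act 2 n1977 = n1342 := d16_1 D1977 (iv D1342) (iv F4266)
theorem F6160 : act 4 n1977 = n1977 := d23_1 D1977 (iv D1977) F4267
theorem F6161 : act 7 n1977 = n1366 := d27_2 D1340 D1977 (iv D1366) (iv D918) (iv F2945)
def n1978 : Q := act 2 n1341
theorem D1978 : act 2 n1341 = n1978 := rfl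
theorem F6162 : act 0 n1978 = n1347 := d1_1 D1978 (iv D1347) (iv F4269)
theorem F6163 : act 5 n1978 = n1978 := d15_2 F4270 D1978 (iv D1978)
theorem F6164 : act 7 n1978 = n1424 := d17_2 (iv F4271) D1978 (iv D1424)
def n1979 : Q := act 4 n1341
theorem D1979 : act 4 n1341 = n1979 := rfl
theorem F6165 : act 0 n1979 = n1348 := d3_1 D1979 (iv D1348) (iv F4269)
theorem F6166 : act 3 n1979 = n1979 := d18_1 D1979 (iv D1979) (iv D1341) F2947 D1341
theorem F6167 : act 5 n1979 = n1979 := d22_2 F4270 D1979 (iv D1979)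
theorem F6168 : act 7 n1979 = n1425 := d24_2 (iv F4271) D1979 (iv D1425)
def n1980 : Q := act 6 n1341
theorem D1980 : act 6 n1341 = n1980 := rfl
theorem F6169 : act 0 n1980 = n1349 := d5_1 D1980 (iv D1349) (iv F4269)
theorem F6170 : act 3 n1980 = n1342 := d20_1 D1980 (iv D1342) D1341
def n1981 : Q := act 5 n1342
theorem D1981 : act 5 n1342 = n1981 := rfl
theorem F6171 : act 0 n1981 = n1350 := d4_1 D1981 (iv D1350) (iv F4272)
theorem F6172 : act 4 n1981 = n1981 := d22_1 D1981 (iv D1981) F4273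
theorem F6173 : act 6 n1981 = n1981 := d25_2 D1342 D1981 (iv D1981) (iv D1342) F2948
theorem F6174 : act 7 n1981 = n1370 := d26_2 (iv F4274) D1981 (iv D1370)
def n1982 : Q := act 7 n1343
theorem D1982 : act 7 n1343 = n1982 := rfl
theorem F6175 : act 2 n1982 = n1428 := d17_1 D1982 (iv D1428) (iv F4275)
theorem F6176 : act 4 n1982 = n1344 := d24_1 D1982 (iv D1344) D1343
theorem F6177 : act 5 n1982 = n1982 := d26_1 D1982 (iv D1982) F4277
def n1983 : Q := act 3 n1344
theorem D1983 : act 3 n1344 = n1983 := rfl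
theorem F6178 : act 5 n1983 = n1983 := d19_2 F4280 D1983 (iv D1983)
theorem F6179 : act 7 n1983 = n1345 := d21_2 D1344 D1983 (iv D1345) (iv D908) D907
def n1984 : Q := act 6 n1344
theorem D1984 : act 6 n1344 = n1984 := rfl
theorem F6180 : act 2 n1984 = n1430 := d16_1 D1984 (iv D1430) (iv F4279)
theorem F6181 : act 7 n1984 = n1373 := d27_2 D1344 D1984 (iv D1373) (iv D922) (iv F2951)
def n1985 : Q := act 2 n1345
theorem D1985 : act 2 n1345 = n1985 := rfl
theorem F6182 : act 3 n1985 = n1347 := d13_2 D1345 D1985 (iv D1347) (iv D909) (iv F2952)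
theorem F6183 : act 5 n1985 = n1985 := d15_2 F4281 D1985 (iv D1985)
def n1986 : Q := act 4 n1345
theorem D1986 : act 4 n1345 = n1986 := rfl
theorem F6184 : act 3 n1986 = n1986 := d18_1 D1986 (iv D1986) (iv D1345) F2953 D1345
theorem F6185 : act 5 n1986 = n1986 := d22_2 F4281 D1986 (iv D1986)
def n1987 : Q := act 6 n1345
theorem D1987 : act 6 n1345 = n1987 := rfl
theorem F6186 : act 3 n1987 = n1346 := d20_1 D1987 (iv D1346) D1345
def n1988 : Q := act 5 n1346
theorem D1988 : act 5 n1346 = n1988 := rfl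
theorem F6187 : act 2 n1988 = n1350 := d15_1 D1988 (iv D1350) (iv F4282)
theorem F6188 : act 4 n1988 = n1988 := d22_1 D1988 (iv D1988) F4283
theorem F6189 : act 6 n1988 = n1988 := d25_2 D1346 D1988 (iv D1988) (iv D1346) F2954
theorem F6190 : act 7 n1988 = n1377 := d26_2 (iv F4284) D1988 (iv D1377)
def n1989 : Q := act 1 n1347
theorem D1989 : act 1 n1347 = n1989 := rfl
theorem F6191 : act 2 n1989 = n1351 := d7_2 D1347 D1989 (iv D1351) (iv D911) (iv F2955)
theorem F6192 : act 7 n1989 = n1432 := d12_2 (iv F4286) D1989 (iv D1432)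
def n1990 : Q := act 4 n1347
theorem D1990 : act 4 n1347 = n1990 := rfl
theorem F6193 : act 2 n1990 = n1348 := d14_1 D1990 (iv D1348) D1347
theorem F6194 : act 5 n1990 = n1990 := d22_2 F4285 D1990 (iv D1990)
theorem F6195 : act 7 n1990 = n1433 := d24_2 (iv F4286) D1990 (iv D1433)
def n1991 : Q := act 6 n1347
theorem D1991 : act 6 n1347 = n1991 := rfl
theorem F6196 : act 2 n1991 = n1349 := d16_1 D1991 (iv D1349) D1347
def n1992 : Q := act 6 n1348
theorem D1992 : act 6 n1348 = n1992 := rfl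
theorem F6197 : act 1 n1992 = n1354 := d11_1 D1992 (iv D1354) (iv F4287)
theorem F6198 : act 3 n1992 = n1992 := d20_1 D1992 (iv D1992) F4288
theorem F6199 : act 4 n1992 = n1349 := d23_1 D1992 (iv D1349) D1348
theorem F6200 : act 7 n1992 = n1591 := d27_2 (iv F4290) D1992 (iv D1591) F3451 F3092
def n1993 : Q := act 5 n1349
theorem D1993 : act 5 n1349 = n1993 := rfl
theorem F6201 : act 1 n1993 = n1956 := d10_1 D1993 (iv D1956) F4234 (iv F2967) (iv F4291)
theorem F6202 : act 3 n1993 = n1350 := d19_1 D1993 (iv D1350) (iv F4292)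
theorem F6203 : act 6 n1993 = n1993 := d25_2 D1349 D1993 (iv D1993) (iv D1349) F2956
def n1994 : Q := act 7 n1349
theorem D1994 : act 7 n1349 = n1994 := rfl
theorem F6204 : act 1 n1994 = n1355 := d12_1 D1994 (iv D1355) (iv F4291)
theorem F6205 : act 3 n1994 = n1383 := d21_1 D1994 (iv D1383) F3002 (iv F2960) (iv F4292)
theorem F6206 : act 4 n1994 = n1591 := d24_1 D1994 (iv F6200) F6199
theorem F6207 : act 6 n1994 = n1436 := d27_1 D1994 (iv D1436) (iv D960) (iv F2957) D1349
def n1995 : Q := act 0 n1351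
theorem D1995 : act 0 n1351 = n1995 := rfl
theorem F6208 : act 7 n1995 = n1437 := d6_2 (iv F4297) D1995 (iv D1437)
def n1996 : Q := act 4 n1351
theorem D1996 : act 4 n1351 = n1996 := rfl
theorem F6209 : act 1 n1996 = n1352 := d9_1 D1996 (iv D1352) D1351
theorem F6210 : act 7 n1996 = n1438 := d24_2 (iv F4297) D1996 (iv D1438)
def n1997 : Q := act 5 n1351
theorem D1997 : act 5 n1351 = n1997 := rfl
theorem F6211 : act 1 n1997 = n1358 := d10_1 D1997 (iv D1358) (iv D914) (iv F2961) D1351
theorem F6212 : act 7 n1997 = n1439 := d26_2 (iv F4297) D1997 (iv D1439)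
def n1998 : Q := act 6 n1351
theorem D1998 : act 6 n1351 = n1998 := rfl
theorem F6213 : act 1 n1998 = n1353 := d11_1 D1998 (iv D1353) D1351
def n1999 : Q := act 3 n1352
theorem D1999 : act 3 n1352 = n1999 := rfl
theorem F6214 : act 2 n1999 = n1999 := d13_1 D1999 (iv D1999) F4298 F2963 (iv F4298)
theorem F6215 : act 5 n1999 = n1359 := d19_2 (iv F4299) D1999 (iv D1359)
theorem F6216 : act 7 n1999 = n1707 := d21_2 (iv F4300) D1999 (iv D1707) (iv D1162) F3104
def n2000 : Q := act 6 n1352
theorem D2000 : act 6 n1352 = n2000 := rfl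
theorem F6217 : act 2 n2000 = n1354 := d16_1 D2000 (iv D1354) (iv F4298)
theorem F6218 : act 4 n2000 = n1353 := d23_1 D2000 (iv D1353) D1352
theorem F6219 : act 5 n2000 = n1963 := d25_1 D2000 (iv D1963) F4241 (iv F2972) (iv F4299)
theorem F6220 : act 7 n2000 = n1656 := d27_2 (iv F4300) D2000 (iv D1656) F3577 (iv F3105)
def n2001 : Q := act 7 n1353
theorem D2001 : act 7 n1353 = n2001 := rfl
theorem F6221 : act 2 n2001 = n1355 := d17_1 D2001 (iv D1355) (iv F4301)
theorem F6222 : act 4 n2001 = n1656 := d24_1 D2001 (iv F6220) F6218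
theorem F6223 : act 5 n2001 = n1964 := d26_1 D2001 (iv D1964) (iv F4302)
theorem F6224 : act 6 n2001 = n1441 := d27_1 D2001 (iv D1441) (iv D964) (iv F2962) D1353
def n2002 : Q := act 4 n1356
theorem D2002 : act 4 n1356 = n2002 := rfl
theorem F6225 : act 0 n2002 = n1357 := d3_1 D2002 (iv D1357) D1356
theorem F6226 : act 2 n2002 = n2002 := d14_1 D2002 (iv D2002) F4311
theorem F6227 : act 6 n2002 = n1965 := d23_2 (iv F4312) D2002 (iv D1965)
theorem F6228 : act 7 n2002 = n1442 := d24_2 (iv F4313) D2002 (iv D1442)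
def n2003 : Q := act 5 n1356
theorem D2003 : act 5 n1356 = n2003 := rfl
theorem F6229 : act 0 n2003 = n1358 := d4_1 D2003 (iv D1358) D1356
theorem F6230 : act 2 n2003 = n2003 := d15_1 D2003 (iv D2003) F4311
theorem F6231 : act 7 n2003 = n1443 := d26_2 (iv F4313) D2003 (iv D1443)
def n2004 : Q := act 3 n1357
theorem D2004 : act 3 n1357 = n2004 := rfl
theorem F6232 : act 1 n2004 = n1359 := d8_1 D2004 (iv D1359) (iv F4314)
theorem F6233 : act 4 n2004 = n1555 := d18_2 D1357 D2004 (iv D1555) F3385 F3029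
theorem F6234 : act 6 n2004 = n1967 := d20_2 (iv F4316) D2004 (iv D1967)
theorem F6235 : act 2 n1558 = n2004 := d14_3 F6233 F4893 D1558
def n2005 : Q := act 5 n1357
theorem D2005 : act 5 n1357 = n2005 := rfl
theorem F6236 : act 2 n2005 = n2005 := d15_1 D2005 (iv D2005) F4315
theorem F6237 : act 4 n2005 = n1358 := d22_1 D2005 (iv D1358) D1357
theorem F6238 : act 7 n2005 = n1445 := d26_2 (iv F4317) D2005 (iv D1445)
def n2006 : Q := act 6 n1358
theorem D2006 : act 6 n1358 = n2006 := rfl
theorem F6239 : act 2 n2006 = n2006 := d16_1 D2006 (iv D2006) F4318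
theorem F6240 : act 5 n2006 = n1969 := d25_1 D2006 (iv D1969) (iv D1336) (iv F2969) D1358
def n2007 : Q := act 7 n1359
theorem D2007 : act 7 n1359 = n2007 := rfl
theorem F6241 : act 2 n2007 = n2007 := d17_1 D2007 (iv D2007) F4320
theorem F6242 : act 3 n2007 = n1447 := d21_1 D2007 (iv D1447) (iv D969) (iv F2973) D1359
theorem F6243 : act 5 n2007 = n1707 := d26_1 D2007 (iv F6216) F6215
def n2008 : Q := act 2 n1360
theorem D2008 : act 2 n1360 = n2008 := rfl
theorem F6244 : act 1 n2008 = n1448 := d7_1 D2008 (iv D1448) F3126 (iv F2976) (iv F4322)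
def n2009 : Q := act 4 n1360
theorem D2009 : act 4 n1360 = n2009 := rfl
theorem F6245 : act 1 n2009 = n1363 := d9_1 D2009 (iv D1363) (iv F4322)
theorem F6246 : act 3 n2009 = n2009 := d18_1 D2009 (iv D2009) (iv D1360) F2974 D1360
def n2010 : Q := act 5 n1360
theorem D2010 : act 5 n1360 = n2010 := rfl
theorem F6247 : act 1 n2010 = n1509 := d10_1 D2010 (iv D1509) F3282 (iv F2977) (iv F4322)
theorem F6248 : act 3 n2010 = n1361 := d19_1 D2010 (iv D1361) D1360
def n2011 : Q := act 7 n1360
theorem D2011 : act 7 n1360 = n2011 := rfl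
theorem F6249 : act 1 n2011 = n1364 := d12_1 D2011 (iv D1364) (iv F4322)
def n2012 : Q := act 6 n1361
theorem D2012 : act 6 n1361 = n2012 := rfl
theorem F6250 : act 1 n2012 = n1511 := d11_1 D2012 (iv D1511) (iv F4323)
theorem F6251 : act 4 n2012 = n2012 := d23_1 D2012 (iv D2012) F4324
def n2013 : Q := act 7 n1361
theorem D2013 : act 7 n1361 = n2013 := rfl
theorem F6252 : act 1 n2013 = n1512 := d12_1 D2013 (iv D1512) (iv F4323)
theorem F6253 : act 4 n2013 = n2013 := d24_1 D2013 (iv D2013) F4324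
theorem F6254 : act 5 n2013 = n1362 := d26_1 D2013 (iv D1362) D1361
def n2014 : Q := act 3 n1362
theorem D2014 : act 3 n1362 = n2014 := rfl
theorem F6255 : act 1 n2014 = n1365 := d8_1 D2014 (iv D1365) (iv F4325)
def n2015 : Q := act 6 n1362
theorem D2015 : act 6 n1362 = n2015 := rfl
theorem F6256 : act 1 n2015 = n1366 := d11_1 D2015 (iv D1366) (iv F4325)
theorem F6257 : act 4 n2015 = n2015 := d23_1 D2015 (iv D2015) F4326
def n2016 : Q := act 7 n1363
theorem D2016 : act 7 n1363 = n2016 := rfl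
theorem F6258 : act 0 n2016 = n1371 := d6_1 D2016 (iv D1371) (iv F4327)
theorem F6259 : act 2 n2016 = n1455 := d17_1 D2016 (iv D1455) (iv F4328)
theorem F6260 : act 4 n2016 = n1364 := d24_1 D2016 (iv D1364) D1363
theorem F6261 : act 5 n2016 = n1515 := d26_1 D2016 (iv D1515) (iv F4330)
def n2017 : Q := act 3 n1364
theorem D2017 : act 3 n1364 = n2017 := rfl
theorem F6262 : act 0 n2017 = n1372 := d2_1 D2017 (iv D1372) (iv F4331)
theorem F6263 : act 5 n2017 = n1516 := d19_2 (iv F4333) D2017 (iv D1516)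
theorem F6264 : act 7 n2017 = n1365 := d21_2 D1364 D2017 (iv D1365) (iv D918) D917
def n2018 : Q := act 6 n1364
theorem D2018 : act 6 n1364 = n2018 := rfl
theorem F6265 : act 0 n2018 = n1373 := d5_1 D2018 (iv D1373) (iv F4331)
theorem F6266 : act 2 n2018 = n1457 := d16_1 D2018 (iv D1457) (iv F4332)
def n2019 : Q := act 2 n1365
theorem D2019 : act 2 n1365 = n2019 := rfl
theorem F6267 : act 0 n2019 = n1374 := d1_1 D2019 (iv D1374) (iv F4334)
theorem F6268 : act 3 n2019 = n1367 := d13_2 D1365 D2019 (iv D1367) (iv D919) (iv F2979)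
theorem F6269 : act 5 n2019 = n1518 := d15_2 (iv F4335) D2019 (iv D1518)
def n2020 : Q := act 4 n1365
theorem D2020 : act 4 n1365 = n2020 := rfl
theorem F6270 : act 0 n2020 = n1375 := d3_1 D2020 (iv D1375) (iv F4334)
theorem F6271 : act 3 n2020 = n2020 := d18_1 D2020 (iv D2020) (iv D1365) F2980 D1365
theorem F6272 : act 5 n2020 = n1519 := d22_2 (iv F4335) D2020 (iv D1519)
def n2021 : Q := act 6 n1365
theorem D2021 : act 6 n1365 = n2021 := rfl
theorem F6273 : act 0 n2021 = n1376 := d5_1 D2021 (iv D1376) (iv F4334)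
theorem F6274 : act 3 n2021 = n1366 := d20_1 D2021 (iv D1366) D1365
def n2022 : Q := act 5 n1366
theorem D2022 : act 5 n1366 = n2022 := rfl
theorem F6275 : act 0 n2022 = n1377 := d4_1 D2022 (iv D1377) (iv F4336)
theorem F6276 : act 2 n2022 = n1370 := d15_1 D2022 (iv D1370) (iv F4337)
theorem F6277 : act 4 n2022 = n2022 := d22_1 D2022 (iv D2022) F4338
theorem F6278 : act 6 n2022 = n1521 := d25_2 D1366 D2022 (iv D1521) (iv D1025) (iv F2981)
def n2023 : Q := act 1 n1367
theorem D2023 : act 1 n1367 = n2023 := rfl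
theorem F6279 : act 7 n2023 = n1461 := d12_2 (iv F4341) D2023 (iv D1461)
def n2024 : Q := act 4 n1367
theorem D2024 : act 4 n1367 = n2024 := rfl
theorem F6280 : act 0 n2024 = n1379 := d3_1 D2024 (iv D1379) (iv F4339)
theorem F6281 : act 2 n2024 = n1368 := d14_1 D2024 (iv D1368) D1367
theorem F6282 : act 5 n2024 = n1523 := d22_2 (iv F4340) D2024 (iv D1523)
theorem F6283 : act 7 n2024 = n1462 := d24_2 (iv F4341) D2024 (iv D1462)
def n2025 : Q := act 6 n1367
theorem D2025 : act 6 n1367 = n2025 := rfl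
theorem F6284 : act 0 n2025 = n1380 := d5_1 D2025 (iv D1380) (iv F4339)
theorem F6285 : act 2 n2025 = n1369 := d16_1 D2025 (iv D1369) D1367
def n2026 : Q := act 6 n1368
theorem D2026 : act 6 n1368 = n2026 := rfl
theorem F6286 : act 0 n2026 = n1381 := d5_1 D2026 (iv D1381) (iv F4342)
theorem F6287 : act 3 n2026 = n2026 := d20_1 D2026 (iv D2026) F4343
theorem F6288 : act 4 n2026 = n1369 := d23_1 D2026 (iv D1369) D1368
theorem F6289 : act 7 n2026 = n1578 := d27_2 (iv F4345) D2026 (iv D1578) F3426 F3149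
def n2027 : Q := act 5 n1369
theorem D2027 : act 5 n1369 = n2027 := rfl
theorem F6290 : act 0 n2027 = n1382 := d4_1 D2027 (iv D1382) (iv F4346)
theorem F6291 : act 3 n2027 = n1370 := d19_1 D2027 (iv D1370) (iv F4347)
theorem F6292 : act 6 n2027 = n1525 := d25_2 D1369 D2027 (iv D1525) (iv D1028) (iv F2983)
def n2028 : Q := act 7 n1369
theorem D2028 : act 7 n1369 = n2028 := rfl
theorem F6293 : act 0 n2028 = n1383 := d6_1 D2028 (iv D1383) (iv F4346)
theorem F6294 : act 4 n2028 = n1578 := d24_1 D2028 (iv F6289) F6288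
theorem F6295 : act 6 n2028 = n1464 := d27_1 D2028 (iv D1464) (iv D979) (iv F2984) D1369
def n2029 : Q := act 1 n1370
theorem D2029 : act 1 n1370 = n2029 := rfl
theorem F6296 : act 4 n2029 = n2029 := d9_2 F4349 D2029 (iv D2029)
theorem F6297 : act 6 n2029 = n1526 := d11_2 (iv F4350) D2029 (iv D1526)
def n2030 : Q := act 3 n1371
theorem D2030 : act 3 n1371 = n2030 := rfl
theorem F6298 : act 1 n2030 = n1953 := d8_1 D2030 F6096 F6071
theorem F6299 : act 5 n2030 = n1527 := d19_2 (iv F4353) D2030 (iv D1527)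
theorem F6300 : act 7 n2030 = n2030 := d21_2 D1371 D2030 (iv D2030) (iv D1371) F2988
theorem F6301 : act 2 n1959 = n2030 := d7_0 F6298 F6095 F4230 (iv F4240) (iv F6109)
theorem F6302 : act 4 n1952 = n2030 := d9_0 F6298 (iv D1953) D1952
def n2031 : Q := act 6 n1371
theorem D2031 : act 6 n1371 = n2031 := rfl
theorem F6303 : act 2 n2031 = n1467 := d16_1 D2031 (iv D1467) (iv F4351)
theorem F6304 : act 4 n2031 = n1373 := d23_1 D2031 (iv D1373) (iv F4352)
def n2032 : Q := act 2 n1372
theorem D2032 : act 2 n1372 = n2032 := rfl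
theorem F6305 : act 3 n2032 = n1468 := d13_2 D1372 D2032 (iv D1468) (iv D982) (iv F2990)
theorem F6306 : act 5 n2032 = n1529 := d15_2 (iv F4354) D2032 (iv D1529)
theorem F6307 : act 7 n2032 = n1374 := d17_2 (iv F4355) D2032 (iv D1374)
def n2033 : Q := act 4 n1372
theorem D2033 : act 4 n1372 = n2033 := rfl
theorem F6308 : act 1 n2033 = n1948 := d9_1 D2033 F6086 F6075
theorem F6309 : act 3 n2033 = n1952 := d18_1 D2033 F6302 (iv D2030) F4352 D1372
theorem F6310 : act 5 n2033 = n1530 := d22_2 (iv F4354) D2033 (iv D1530)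
theorem F6311 : act 7 n2033 = n1375 := d24_2 (iv F4355) D2033 (iv D1375)
def n2034 : Q := act 6 n1372
theorem D2034 : act 6 n1372 = n2034 := rfl
theorem F6312 : act 3 n2034 = n1373 := d20_1 D2034 (iv D1373) D1372
def n2035 : Q := act 5 n1373
theorem D2035 : act 5 n1373 = n2035 := rfl
theorem F6313 : act 2 n2035 = n1471 := d15_1 D2035 (iv D1471) (iv F4356)
theorem F6314 : act 6 n2035 = n1532 := d25_2 D1373 D2035 (iv D1532) (iv D1032) (iv F2991)
def n2036 : Q := act 1 n1374
theorem D2036 : act 1 n1374 = n2036 := rfl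
theorem F6315 : act 2 n2036 = n2033 := d7_2 D1374 D2036 F6308 (iv D1948) F4223
theorem F6316 : act 3 n2036 = n1378 := d8_2 (iv F4357) D2036 (iv D1378)
theorem F6317 : act 4 n2032 = n2036 := d14_0 F6315 (iv D2033) D2032
def n2037 : Q := act 4 n1374
theorem D2037 : act 4 n1374 = n2037 := rfl
theorem F6318 : act 1 n2037 = n2032 := d9_1 D2037 F6317 (iv D2036)
theorem F6319 : act 2 n2037 = n1375 := d14_1 D2037 (iv D1375) D1374
theorem F6320 : act 5 n2037 = n1534 := d22_2 (iv F4358) D2037 (iv D1534)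
theorem F6321 : act 7 n2037 = n2036 := d24_2 F6307 D2037 (iv F6317)
def n2038 : Q := act 6 n1374
theorem D2038 : act 6 n1374 = n2038 := rfl
theorem F6322 : act 2 n2038 = n1376 := d16_1 D2038 (iv D1376) D1374
theorem F6323 : act 3 n2038 = n1380 := d20_1 D2038 (iv D1380) (iv F4357)
def n2039 : Q := act 6 n1375
theorem D2039 : act 6 n1375 = n2039 := rfl
theorem F6324 : act 3 n2039 = n2039 := d20_1 D2039 (iv D2039) F4359
theorem F6325 : act 4 n2039 = n1376 := d23_1 D2039 (iv D1376) D1375
theorem F6326 : act 5 n2039 = n1660 := d25_1 D2039 (iv D1660) F4832 (iv D1536) (iv F4360)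
def n2040 : Q := act 5 n1376
theorem D2040 : act 5 n1376 = n2040 := rfl
theorem F6327 : act 3 n2040 = n1377 := d19_1 D2040 (iv D1377) (iv F4361)
theorem F6328 : act 4 n2040 = n1660 := d22_1 D2040 (iv F6326) F6325
theorem F6329 : act 6 n2040 = n1486 := d25_2 D1376 D2040 (iv F4675) (iv D1035) (iv F2992)
theorem F6330 : act 1 n2040 = n1392 := d29_6 (iv F3322) (iv D1033) F2311 (iv F2992) D1376 D2040 F4399 (iv F4307) (iv D1355) F2966 (iv F2087) D935 (iv F4381) F4382 F3340 (iv D706) F1568 F1578 F1577 F883 F882 (iv F776) (iv F1376) F1468 F951 (iv F1622) D729 F2390 (iv F2316)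
theorem F6331 : act 7 n1388 = n2040 := d12_0 F6330 (iv D1392) (iv F4389)
def n2041 : Q := act 7 n1376
theorem D2041 : act 7 n1376 = n2041 := rfl
theorem F6332 : act 5 n2041 = n1388 := d26_1 D2041 F6331 (iv D2040)
def n2042 : Q := act 1 n1377
theorem D2042 : act 1 n1377 = n2042 := rfl
theorem F6333 : act 3 n2042 = n1392 := d8_2 F6327 D2042 (iv F6330)
theorem F6334 : act 4 n2042 = n2042 := d9_2 F4363 D2042 (iv D2042)
theorem F6335 : act 6 n2042 = n1487 := d11_2 (iv F4364) D2042 F4677
def n2043 : Q := act 0 n1378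
theorem D2043 : act 0 n1378 = n2043 := rfl
theorem F6336 : act 2 n2043 = n1385 := d1_2 (iv F4365) D2043 (iv D1385)
theorem F6337 : act 7 n2043 = n1475 := d6_2 (iv F4366) D2043 (iv D1475)
def n2044 : Q := act 4 n1378
theorem D2044 : act 4 n1378 = n2044 := rfl
theorem F6338 : act 1 n2044 = n1379 := d9_1 D2044 (iv D1379) D1378
theorem F6339 : act 2 n2044 = n1386 := d14_1 D2044 (iv D1386) (iv F4365)
theorem F6340 : act 7 n2044 = n1476 := d24_2 (iv F4366) D2044 (iv D1476)
def n2045 : Q := act 5 n1378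
theorem D2045 : act 5 n1378 = n2045 := rfl
theorem F6341 : act 1 n2045 = n1538 := d10_1 D2045 (iv D1538) (iv D1037) (iv F2995) D1378
theorem F6342 : act 2 n2045 = n1387 := d15_1 D2045 (iv D1387) (iv F4365)
theorem F6343 : act 7 n2045 = n1477 := d26_2 (iv F4366) D2045 (iv D1477)
def n2046 : Q := act 6 n1378
theorem D2046 : act 6 n1378 = n2046 := rfl
theorem F6344 : act 1 n2046 = n1380 := d11_1 D2046 (iv D1380) D1378
theorem F6345 : act 2 n2046 = n1388 := d16_1 D2046 (iv D1388) (iv F4365)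
def n2047 : Q := act 3 n1379
theorem D2047 : act 3 n1379 = n2047 := rfl
theorem F6346 : act 2 n2047 = n2047 := d13_1 D2047 (iv D2047) F4367 F2998 (iv F4367)
theorem F6347 : act 5 n2047 = n1539 := d19_2 (iv F4368) D2047 (iv D1539)
theorem F6348 : act 7 n2047 = n1607 := d21_2 (iv F4369) D2047 (iv D1607) (iv D1089) F3177
def n2048 : Q := act 6 n1379
theorem D2048 : act 6 n1379 = n2048 := rfl
theorem F6349 : act 2 n2048 = n1381 := d16_1 D2048 (iv D1381) (iv F4367)
theorem F6350 : act 4 n2048 = n1380 := d23_1 D2048 (iv D1380) D1379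
theorem F6351 : act 7 n2048 = n1594 := d27_2 (iv F4369) D2048 (iv D1594) F3455 F3178
def n2049 : Q := act 5 n1380
theorem D2049 : act 5 n1380 = n2049 := rfl
theorem F6352 : act 2 n2049 = n1382 := d15_1 D2049 (iv D1382) (iv F4370)
theorem F6353 : act 6 n2049 = n1540 := d25_2 D1380 D2049 (iv D1540) (iv D1039) (iv F2995)
def n2050 : Q := act 7 n1380
theorem D2050 : act 7 n1380 = n2050 := rfl
theorem F6354 : act 2 n2050 = n1383 := d17_1 D2050 (iv D1383) (iv F4370)
theorem F6355 : act 4 n2050 = n1594 := d24_1 D2050 (iv F6351) F6350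
theorem F6356 : act 6 n2050 = n1479 := d27_1 D2050 (iv D1479) (iv D989) (iv F2996) D1380
def n2051 : Q := act 7 n1382
theorem D2051 : act 7 n1382 = n2051 := rfl
theorem F6357 : act 4 n2051 = n1595 := d24_1 D2051 F4988 F4857
theorem F6358 : act 5 n2051 = n1383 := d26_1 D2051 (iv D1383) D1382
def n2052 : Q := act 0 n1384
theorem D2052 : act 0 n1384 = n2052 := rfl
theorem F6359 : act 4 n2052 = n2052 := d3_2 F4380 D2052 (iv D2052)
theorem F6360 : act 5 n2052 = n1396 := d4_2 (iv F4381) D2052 (iv D1396)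
theorem F6361 : act 6 n2052 = n1541 := d5_2 (iv F4382) D2052 (iv D1541)
theorem F6362 : act 7 n2052 = n1944 := d6_2 (iv F4383) D2052 F6068
def n2053 : Q := act 2 n1384
theorem D2053 : act 2 n1384 = n2053 := rfl
theorem F6363 : act 4 n2053 = n2053 := d14_2 F4380 D2053 (iv D2053)
theorem F6364 : act 5 n2053 = n1397 := d15_2 (iv F4381) D2053 (iv D1397)
theorem F6365 : act 6 n2053 = n1542 := d16_2 (iv F4382) D2053 (iv D1542)
theorem F6366 : act 7 n2053 = n1951 := d17_2 (iv F4383) D2053 F6090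
def n2054 : Q := act 4 n1385
theorem D2054 : act 4 n1385 = n2054 := rfl
theorem F6367 : act 0 n2054 = n1386 := d3_1 D2054 (iv D1386) D1385
theorem F6368 : act 7 n2054 = n1480 := d24_2 (iv F4384) D2054 (iv D1480)
def n2055 : Q := act 5 n1385
theorem D2055 : act 5 n1385 = n2055 := rfl
theorem F6369 : act 0 n2055 = n1387 := d4_1 D2055 (iv D1387) D1385
theorem F6370 : act 7 n2055 = n1481 := d26_2 (iv F4384) D2055 (iv D1481)
def n2056 : Q := act 6 n1385
theorem D2056 : act 6 n1385 = n2056 := rfl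
theorem F6371 : act 0 n2056 = n1388 := d5_1 D2056 (iv D1388) D1385
def n2057 : Q := act 3 n1386
theorem D2057 : act 3 n1386 = n2057 := rfl
theorem F6372 : act 1 n2057 = n1389 := d8_1 D2057 (iv D1389) (iv F4385)
theorem F6373 : act 7 n2057 = n1674 := d21_2 (iv F4386) D2057 (iv D1674) (iv D1138) F3185
def n2058 : Q := act 5 n1386
theorem D2058 : act 5 n1386 = n2058 := rfl
theorem F6374 : act 1 n2058 = n1402 := d10_1 D2058 (iv D1402) F3022 (iv F3007) (iv F4385)
theorem F6375 : act 4 n2058 = n1387 := d22_1 D2058 (iv D1387) D1386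
theorem F6376 : act 7 n2058 = n1483 := d26_2 (iv F4386) D2058 (iv D1483)
def n2059 : Q := act 6 n1386
theorem D2059 : act 6 n1386 = n2059 := rfl
theorem F6377 : act 1 n2059 = n1390 := d11_1 D2059 (iv D1390) (iv F4385)
theorem F6378 : act 4 n2059 = n1388 := d23_1 D2059 (iv D1388) D1386
theorem F6379 : act 7 n2059 = n1660 := d27_2 (iv F4386) D2059 (iv D1660) F3584 F3186
def n2060 : Q := act 6 n1387
theorem D2060 : act 6 n1387 = n2060 := rfl
theorem F6380 : act 1 n2060 = n1403 := d11_1 D2060 (iv D1403) (iv F4387)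
def n2061 : Q := act 6 n1389
theorem D2061 : act 6 n1389 = n2061 := rfl
theorem F6381 : act 2 n2061 = n2061 := d16_1 D2061 (iv D2061) F4390
theorem F6382 : act 3 n2061 = n1390 := d20_1 D2061 (iv D1390) D1389
theorem F6383 : act 7 n2061 = n2061 := d27_2 (iv F4392) D2061 (iv D2061) F4392 F3611
def n2062 : Q := act 5 n1390
theorem D2062 : act 5 n1390 = n2062 := rfl
theorem F6384 : act 2 n2062 = n1393 := d15_1 D2062 (iv D1393) (iv F4393)
theorem F6385 : act 4 n2062 = n1391 := d22_1 D2062 (iv D1391) (iv F4394)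
theorem F6386 : act 6 n2062 = n1407 := d25_2 D1390 D2062 (iv D1407) (iv D941) (iv F3007)
theorem F6387 : act 7 n2062 = n1661 := d26_2 (iv F4395) D2062 (iv D1661)
def n2063 : Q := act 1 n1391
theorem D2063 : act 1 n1391 = n2063 := rfl
theorem F6388 : act 3 n2063 = n1998 := d8_2 (iv F4397) D2063 F6213
theorem F6389 : act 6 n2063 = n1408 := d11_2 (iv F4398) D2063 (iv D1408)
def n2064 : Q := act 7 n1391
theorem D2064 : act 7 n1391 = n2064 := rfl
theorem F6390 : act 2 n2064 = n1395 := d17_1 D2064 (iv D1395) (iv F4396)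
theorem F6391 : act 4 n2064 = n1661 := d24_1 D2064 (iv F6387) F6385
theorem F6392 : act 5 n2064 = n1392 := d26_1 D2064 (iv D1392) D1391
theorem F6393 : act 6 n2064 = n2064 := d27_1 D2064 (iv D2064) F4398 F3037 (iv F4398)
def n2065 : Q := act 0 n1394
theorem D2065 : act 0 n1394 = n2065 := rfl
theorem F6394 : act 3 n2065 = n1396 := d2_2 (iv F4406) D2065 (iv D1396)
theorem F6395 : act 6 n2065 = n1409 := d5_2 (iv F4407) D2065 (iv D1409)
def n2066 : Q := act 2 n1394
theorem D2066 : act 2 n1394 = n2066 := rfl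
theorem F6396 : act 6 n2066 = n1410 := d16_2 (iv F4407) D2066 (iv D1410)
def n2067 : Q := act 7 n1394
theorem D2067 : act 7 n1394 = n2067 := rfl
theorem F6397 : act 1 n2067 = n1395 := d12_1 D2067 (iv D1395) D1394
theorem F6398 : act 3 n2067 = n1957 := d21_1 D2067 (iv D1957) F4235 (iv F3019) (iv F4406)
theorem F6399 : act 4 n2067 = n1662 := d24_1 D2067 F5172 F4885
theorem F6400 : act 6 n2067 = n2067 := d27_1 D2067 (iv D2067) F4407 F3043 (iv F4407)
def n2068 : Q := act 2 n1396
theorem D2068 : act 2 n1396 = n2068 := rfl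
theorem F6401 : act 0 n2068 = n1397 := d1_1 D2068 (iv D1397) D1396
theorem F6402 : act 4 n2068 = n2068 := d14_2 F4412 D2068 (iv D2068)
theorem F6403 : act 6 n2068 = n1411 := d16_2 (iv F4413) D2068 (iv D1411)
theorem F6404 : act 7 n2068 = n1940 := d17_2 (iv F4414) D2068 F6057
def n2069 : Q := act 3 n1397
theorem D2069 : act 3 n1397 = n2069 := rfl
theorem F6405 : act 1 n2069 = n1987 := d8_1 D2069 F6186 (iv F4415)
theorem F6406 : act 6 n2069 = n1412 := d20_2 (iv F4417) D2069 (iv D1412)
def n2070 : Q := act 3 n1398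
theorem D2070 : act 3 n1398 = n2070 := rfl
theorem F6407 : act 0 n2070 = n1401 := d2_1 D2070 (iv D1401) (iv F4419)
def n2071 : Q := act 5 n1398
theorem D2071 : act 5 n1398 = n2071 := rfl
theorem F6408 : act 0 n2071 = n1402 := d4_1 D2071 (iv D1402) (iv F4419)
theorem F6409 : act 2 n2071 = n1547 := d15_1 D2071 (iv D1547) (iv F4420)
theorem F6410 : act 4 n2071 = n1399 := d22_1 D2071 (iv D1399) D1398
theorem F6411 : act 7 n2071 = n1489 := d26_2 (iv F4421) D2071 (iv D1489)
def n2072 : Q := act 1 n1399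
theorem D2072 : act 1 n1399 = n2072 := rfl
theorem F6412 : act 7 n2072 = n1490 := d12_2 (iv F4424) D2072 (iv D1490)
def n2073 : Q := act 6 n1399
theorem D2073 : act 6 n1399 = n2073 := rfl
theorem F6413 : act 0 n2073 = n1403 := d5_1 D2073 (iv D1403) (iv F4422)
theorem F6414 : act 2 n2073 = n1549 := d16_1 D2073 (iv D1549) (iv F4423)
def n2074 : Q := act 5 n1400
theorem D2074 : act 5 n1400 = n2074 := rfl
theorem F6415 : act 0 n2074 = n1404 := d4_1 D2074 (iv D1404) (iv F4425)
theorem F6416 : act 2 n2074 = n1550 := d15_1 D2074 (iv D1550) (iv F4426)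
theorem F6417 : act 3 n2074 = n2003 := d19_1 D2074 (iv D2003) (iv F4427)
theorem F6418 : act 7 n2074 = n2074 := d26_2 F4428 D2074 (iv D2074)
def n2075 : Q := act 5 n1401
theorem D2075 : act 5 n1401 = n2075 := rfl
theorem F6419 : act 3 n2075 = n1402 := d19_1 D2075 (iv D1402) D1401
def n2076 : Q := act 7 n1401
theorem D2076 : act 7 n1401 = n2076 := rfl
theorem F6420 : act 1 n2076 = n1406 := d12_1 D2076 (iv D1406) (iv F4429)
theorem F6421 : act 3 n2076 = n1493 := d21_1 D2076 (iv D1493) (iv D998) (iv F3024) D1401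
def n2077 : Q := act 6 n1402
theorem D2077 : act 6 n1402 = n2077 := rfl
theorem F6422 : act 2 n2077 = n1551 := d16_1 D2077 (iv D1551) (iv F4430)
theorem F6423 : act 4 n2077 = n1403 := d23_1 D2077 (iv D1403) (iv F4431)
theorem F6424 : act 5 n2077 = n2066 := d25_1 D2077 F6396 F4452 F3386 D1402
def n2078 : Q := act 5 n1403
theorem D2078 : act 5 n1403 = n2078 := rfl
theorem F6425 : act 2 n2078 = n1552 := d15_1 D2078 (iv D1552) (iv F4433)
theorem F6426 : act 3 n2078 = n2006 := d19_1 D2078 F6240 F6137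
theorem F6427 : act 4 n2078 = n2066 := d22_1 D2078 (iv F6424) F6423
theorem F6428 : act 6 n2078 = n1404 := d25_2 D1403 D2078 (iv D1404) (iv D939) D938
def n2079 : Q := act 7 n1403
theorem D2079 : act 7 n1403 = n2079 := rfl
theorem F6429 : act 2 n2079 = n1553 := d17_1 D2079 (iv D1553) (iv F4433)
theorem F6430 : act 6 n2079 = n1495 := d27_1 D2079 (iv D1495) (iv D1000) (iv F3026) D1403
def n2080 : Q := act 1 n1404
theorem D2080 : act 1 n1404 = n2080 := rfl
theorem F6431 : act 3 n2080 = n1997 := d8_2 (iv F4435) D2080 F6211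
theorem F6432 : act 5 n2080 = n1408 := d10_2 D1404 D2080 (iv D1408) (iv D942) (iv F3027)
theorem F6433 : act 7 n2080 = n2080 := d12_2 F4436 D2080 (iv D2080)
def n2081 : Q := act 5 n1405
theorem D2081 : act 5 n1405 = n2081 := rfl
theorem F6434 : act 2 n2081 = n2081 := d15_1 D2081 (iv D2081) F4437
theorem F6435 : act 3 n2081 = n1407 := d19_1 D2081 (iv D1407) (iv F4438)
theorem F6436 : act 4 n2081 = n1999 := d22_1 D2081 F6215 (iv F4439)
def n2082 : Q := act 7 n1405
theorem D2082 : act 7 n1405 = n2082 := rfl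
theorem F6437 : act 2 n2082 = n2082 := d17_1 D2082 (iv D2082) F4437
theorem F6438 : act 3 n2082 = n2082 := d21_1 D2082 (iv D2082) F4438 F3034 (iv F4438)
theorem F6439 : act 4 n2082 = n2007 := d24_1 D2082 (iv D2007) (iv F4439)
def n2083 : Q := act 6 n1406
theorem D2083 : act 6 n1406 = n2083 := rfl
theorem F6440 : act 2 n2083 = n2083 := d16_1 D2083 (iv D2083) F4440
theorem F6441 : act 3 n2083 = n1496 := d20_1 D2083 (iv D1496) (iv F4441)
theorem F6442 : act 5 n2083 = n2083 := d25_1 D2083 (iv D2083) F4442 F3611 (iv F4442)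
def n2084 : Q := act 1 n1407
theorem D2084 : act 1 n1407 = n2084 := rfl
theorem F6443 : act 2 n2084 = n2080 := d7_2 (iv F4443) D2084 (iv D2080) F4434 F3375
theorem F6444 : act 4 n2084 = n1408 := d9_2 (iv F4444) D2084 (iv D1408)
theorem F6445 : act 7 n2084 = n2084 := d12_2 F4445 D2084 (iv D2084)
def n2085 : Q := act 0 n1408
theorem D2085 : act 0 n1408 = n2085 := rfl
theorem F6446 : act 3 n2085 = n1995 := d2_2 (iv F4446) D2085 (iv D1995)
theorem F6447 : act 7 n2085 = n2085 := d6_2 F4447 D2085 (iv D2085)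
def n2086 : Q := act 2 n1408
theorem D2086 : act 2 n1408 = n2086 := rfl
theorem F6448 : act 1 n2086 = n1410 := d7_1 D2086 (iv D1410) (iv D944) (iv F3035) D1408
theorem F6449 : act 4 n2086 = n2080 := d14_2 F6444 D2086 (iv F6443)
theorem F6450 : act 5 n2086 = n2084 := d15_2 F6432 D2086 F6443
theorem F6451 : act 7 n2086 = n2086 := d17_2 F4447 D2086 (iv D2086)
def n2087 : Q := act 2 n1409
theorem D2087 : act 2 n1409 = n2087 := rfl
theorem F6452 : act 0 n2087 = n1410 := d1_1 D2087 (iv D1410) D1409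
theorem F6453 : act 4 n2087 = n2074 := d14_2 F4877 D2087 F6416
theorem F6454 : act 5 n2087 = n1554 := d15_2 (iv F4449) D2087 (iv D1554)
theorem F6455 : act 7 n2087 = n2087 := d17_2 F4450 D2087 (iv D2087)
def n2088 : Q := act 3 n1410
theorem D2088 : act 3 n1410 = n2088 := rfl
theorem F6456 : act 2 n2088 = n1412 := d13_1 D2088 (iv D1412) (iv D946) (iv F3041) D1410
theorem F6457 : act 5 n2088 = n1555 := d19_2 (iv F4452) D2088 (iv D1555)
def n2089 : Q := act 1 n1411
theorem D2089 : act 1 n1411 = n2089 := rfl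
theorem F6458 : act 0 n2089 = n1973 := d0_1 D2089 F6146 F4265 (iv F3047) (iv F4454)
theorem F6459 : act 4 n2089 = n2089 := d9_2 F4455 D2089 (iv D2089)
theorem F6460 : act 7 n2089 = n1413 := d12_2 (iv F4457) D2089 (iv D1413)
def n2090 : Q := act 3 n1411
theorem D2090 : act 3 n1411 = n2090 := rfl
theorem F6461 : act 0 n2090 = n1412 := d2_1 D2090 (iv D1412) (iv F4454)
theorem F6462 : act 5 n2090 = n1557 := d19_2 (iv F4456) D2090 (iv D1557)
def n2091 : Q := act 4 n1412
theorem D2091 : act 4 n1412 = n2091 := rfl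
theorem F6463 : act 1 n2091 = n1986 := d9_1 D2091 (iv D1986) (iv F4458)
theorem F6464 : act 3 n2091 = n2091 := d18_1 D2091 (iv D2091) (iv D1412) F3048 D1412
theorem F6465 : act 5 n2091 = n1558 := d22_2 (iv F4459) D2091 (iv D1558)
def n2092 : Q := act 7 n1412
theorem D2092 : act 7 n1412 = n2092 := rfl
theorem F6466 : act 1 n2092 = n1983 := d12_1 D2092 F6179 (iv F4458)
theorem F6467 : act 3 n2092 = n1416 := d21_1 D2092 (iv D1416) (iv D948) (iv F3050) D1412
theorem F6468 : act 5 n2092 = n1559 := d26_1 D2092 (iv D1559) (iv F4459)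
def n2093 : Q := act 3 n1413
theorem D2093 : act 3 n1413 = n2093 := rfl
theorem F6469 : act 0 n2093 = n1971 := d2_1 D2093 (iv D1971) (iv F4460)
theorem F6470 : act 1 n2093 = n1414 := d8_1 D2093 (iv D1414) D1413
theorem F6471 : act 6 n2093 = n1934 := d20_2 (iv F4462) D2093 (iv D1934)
def n2094 : Q := act 5 n1413
theorem D2094 : act 5 n1413 = n2094 := rfl
theorem F6472 : act 0 n2094 = n1972 := d4_1 D2094 (iv D1972) (iv F4460)
theorem F6473 : act 1 n2094 = n1561 := d10_1 D2094 (iv D1561) (iv D1056) (iv F3053) D1413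
theorem F6474 : act 4 n2094 = n2094 := d22_1 D2094 (iv D2094) F4461
def n2095 : Q := act 4 n1414
theorem D2095 : act 4 n1414 = n2095 := rfl
theorem F6475 : act 0 n2095 = n1415 := d3_1 D2095 (iv D1415) (iv F4463)
theorem F6476 : act 2 n2095 = n2095 := d14_1 D2095 (iv D2095) F4464
theorem F6477 : act 3 n2095 = n2095 := d18_1 D2095 (iv D2095) (iv D1414) F3052 D1414
theorem F6478 : act 5 n2095 = n1562 := d22_2 (iv F4465) D2095 (iv D1562)
theorem F6479 : act 6 n2095 = n1937 := d23_2 (iv F4466) D2095 (iv D1937)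
def n2096 : Q := act 7 n1414
theorem D2096 : act 7 n1414 = n2096 := rfl
theorem F6480 : act 0 n2096 = n1416 := d6_1 D2096 (iv D1416) (iv F4463)
theorem F6481 : act 2 n2096 = n2096 := d17_1 D2096 (iv D2096) F4464
theorem F6482 : act 5 n2096 = n1563 := d26_1 D2096 (iv D1563) (iv F4465)
def n2097 : Q := act 7 n1415
theorem D2097 : act 7 n1415 = n2097 := rfl
theorem F6483 : act 1 n2097 = n1982 := d12_1 D2097 (iv D1982) (iv F4467)
theorem F6484 : act 2 n2097 = n2097 := d17_1 D2097 (iv D2097) F4468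
theorem F6485 : act 4 n2097 = n1416 := d24_1 D2097 (iv D1416) D1415
theorem F6486 : act 5 n2097 = n1564 := d26_1 D2097 (iv D1564) (iv F4470)
def n2098 : Q := act 6 n1416
theorem D2098 : act 6 n1416 = n2098 := rfl
theorem F6487 : act 1 n2098 = n1984 := d11_1 D2098 (iv D1984) (iv F4472)
theorem F6488 : act 2 n2098 = n2098 := d16_1 D2098 (iv D2098) F4473
theorem F6489 : act 7 n2098 = n1947 := d27_2 D1416 D2098 (iv D1947) (iv D1322) (iv F3058)
def n2099 : Q := act 2 n1417
theorem D2099 : act 2 n1417 = n2099 := rfl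
theorem F6490 : act 0 n2099 = n2099 := d1_1 D2099 (iv D2099) F4475
theorem F6491 : act 6 n2099 = n1448 := d16_2 (iv F4477) D2099 (iv D1448)
def n2100 : Q := act 4 n1417
theorem D2100 : act 4 n1417 = n2100 := rfl
theorem F6492 : act 0 n2100 = n2100 := d3_1 D2100 (iv D2100) F4475
theorem F6493 : act 1 n2100 = n1420 := d9_1 D2100 (iv D1420) (iv F4476)
theorem F6494 : act 3 n2100 = n1497 := d18_1 D2100 (iv D1497) (iv D1002) (iv F3060) D1417
theorem F6495 : act 6 n2100 = n1449 := d23_2 (iv F4477) D2100 (iv D1449)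
def n2101 : Q := act 5 n1417
theorem D2101 : act 5 n1417 = n2101 := rfl
theorem F6496 : act 0 n2101 = n2101 := d4_1 D2101 (iv D2101) F4475
theorem F6497 : act 1 n2101 = n2101 := d10_1 D2101 (iv D2101) F4476 F3063 (iv F4476)
theorem F6498 : act 3 n2101 = n1418 := d19_1 D2101 (iv D1418) D1417
def n2102 : Q := act 7 n1417
theorem D2102 : act 7 n1417 = n2102 := rfl
theorem F6499 : act 0 n2102 = n2102 := d6_1 D2102 (iv D2102) F4475
theorem F6500 : act 1 n2102 = n1421 := d12_1 D2102 (iv D1421) (iv F4476)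
def n2103 : Q := act 7 n1418
theorem D2103 : act 7 n1418 = n2103 := rfl
theorem F6501 : act 0 n2103 = n2103 := d6_1 D2103 (iv D2103) F4478
theorem F6502 : act 1 n2103 = n2103 := d12_1 D2103 (iv D2103) F4479
theorem F6503 : act 2 n2103 = n1504 := d17_1 D2103 (iv D1504) (iv F4480)
theorem F6504 : act 4 n2103 = n1498 := d24_1 D2103 (iv D1498) (iv F4481)
theorem F6505 : act 5 n2103 = n1419 := d26_1 D2103 (iv D1419) D1418
theorem F6506 : act 6 n2103 = n2103 := d27_1 D2103 (iv D2103) (iv F6028) F6029 F6028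
def n2104 : Q := act 3 n1419
theorem D2104 : act 3 n1419 = n2104 := rfl
theorem F6507 : act 0 n2104 = n2104 := d2_1 D2104 (iv D2104) F4482
theorem F6508 : act 1 n2104 = n1422 := d8_1 D2104 (iv D1422) (iv F4483)
theorem F6509 : act 4 n2104 = n2104 := d18_2 (iv F4484) D2104 (iv D2104) F4484 F3222
def n2105 : Q := act 6 n1419
theorem D2105 : act 6 n1419 = n2105 := rfl
theorem F6510 : act 0 n2105 = n2105 := d5_1 D2105 (iv D2105) F4482
theorem F6511 : act 1 n2105 = n1423 := d11_1 D2105 (iv D1423) (iv F4483)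
theorem F6512 : act 4 n2105 = n1499 := d23_1 D2105 (iv D1499) (iv F4484)
theorem F6513 : act 5 n2105 = n2105 := d25_1 D2105 (iv D2105) (iv F6505) F6506 F6505
theorem F6514 : act 7 n2105 = n1454 := d27_2 D1419 D2105 (iv D1454) (iv D972) (iv F3061)
def n2106 : Q := act 7 n1420
theorem D2106 : act 7 n1420 = n2106 := rfl
theorem F6515 : act 0 n2106 = n1428 := d6_1 D2106 (iv D1428) (iv F4485)
theorem F6516 : act 3 n2106 = n2106 := d21_1 D2106 (iv D2106) F4486 F3227 (iv F4486)
theorem F6517 : act 4 n2106 = n1421 := d24_1 D2106 (iv D1421) D1420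
theorem F6518 : act 5 n2106 = n2106 := d26_1 D2106 (iv D2106) F4487
def n2107 : Q := act 3 n1421
theorem D2107 : act 3 n1421 = n2107 := rfl
theorem F6519 : act 0 n2107 = n1429 := d2_1 D2107 (iv D1429) (iv F4489)
theorem F6520 : act 4 n2107 = n2107 := d18_2 F6517 D2107 (iv D2107) (iv F6517) F6516
theorem F6521 : act 5 n2107 = n2107 := d19_2 F4490 D2107 (iv D2107)
theorem F6522 : act 7 n2107 = n1422 := d21_2 D1421 D2107 (iv D1422) (iv D951) D950
def n2108 : Q := act 6 n1421
theorem D2108 : act 6 n1421 = n2108 := rfl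
theorem F6523 : act 0 n2108 = n1430 := d5_1 D2108 (iv D1430) (iv F4489)
theorem F6524 : act 7 n2108 = n1457 := d27_2 D1421 D2108 (iv D1457) (iv D974) (iv F3064)
def n2109 : Q := act 2 n1422
theorem D2109 : act 2 n1422 = n2109 := rfl
theorem F6525 : act 0 n2109 = n1431 := d1_1 D2109 (iv D1431) (iv F4491)
theorem F6526 : act 3 n2109 = n1424 := d13_2 D1422 D2109 (iv D1424) (iv D952) (iv F3066)
theorem F6527 : act 4 n2109 = n2109 := d14_2 F4492 D2109 (iv D2109)
theorem F6528 : act 5 n2109 = n2109 := d15_2 F4493 D2109 (iv D2109)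
def n2110 : Q := act 1 n1424
theorem D2110 : act 1 n1424 = n2110 := rfl
def n2111 : Q := act 4 n1424
theorem D2111 : act 4 n1424 = n2111 := rfl
theorem F6529 : act 0 n2111 = n1433 := d3_1 D2111 (iv D1433) (iv F4499)
theorem F6530 : act 2 n2111 = n1425 := d14_1 D2111 (iv D1425) D1424
theorem F6531 : act 3 n2111 = n2111 := d18_1 D2111 (iv D2111) (iv F6526) F6527 F6526
theorem F6532 : act 5 n2111 = n2111 := d22_2 F4500 D2111 (iv D2111)
theorem F6533 : act 6 n1624 = n2111 := d16_0 F6530 (iv F4504) D1624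
def n2112 : Q := act 6 n1424
theorem D2112 : act 6 n1424 = n2112 := rfl
theorem F6534 : act 0 n2112 = n1434 := d5_1 D2112 (iv D1434) (iv F4499)
theorem F6535 : act 2 n2112 = n1426 := d16_1 D2112 (iv D1426) D1424
theorem F6536 : act 4 n2112 = n1624 := d23_1 D2112 F6533 (iv D2111)
def n2113 : Q := act 5 n1426
theorem D2113 : act 5 n1426 = n2113 := rfl
theorem F6537 : act 0 n2113 = n1435 := d4_1 D2113 (iv D1435) (iv F4505)
theorem F6538 : act 3 n2113 = n1427 := d19_1 D2113 (iv D1427) (iv F4506)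
theorem F6539 : act 4 n2113 = n1505 := d22_1 D2113 F4748 (iv F4507)
theorem F6540 : act 6 n2113 = n2113 := d25_2 D1426 D2113 (iv D2113) (iv D1426) F3070
def n2114 : Q := act 7 n1426
theorem D2114 : act 7 n1426 = n2114 := rfl
theorem F6541 : act 0 n2114 = n1436 := d6_1 D2114 (iv D1436) (iv F4505)
theorem F6542 : act 3 n2114 = n1464 := d21_1 D2114 (iv D1464) F3151 (iv F3073) (iv F4506)
theorem F6543 : act 4 n2114 = n1575 := d24_1 D2114 F4947 (iv F4507)
def n2115 : Q := act 1 n1427
theorem D2115 : act 1 n1427 = n2115 := rfl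
theorem F6544 : act 0 n2115 = n2115 := d0_1 D2115 (iv D2115) F4508 F3096 (iv F4508)
theorem F6545 : act 2 n2115 = n2115 := d7_2 (iv F4509) D2115 (iv D2115) F4509 F3519
theorem F6546 : act 4 n2115 = n1500 := d9_2 (iv F4510) D2115 (iv D1500)
theorem F6547 : act 6 n2115 = n2115 := d11_2 F4511 D2115 (iv D2115)
theorem F6548 : act 7 n2115 = n1465 := d12_2 (iv F4512) D2115 (iv D1465)
def n2116 : Q := act 6 n1428
theorem D2116 : act 6 n1428 = n2116 := rfl
theorem F6549 : act 1 n2116 = n2116 := d11_1 D2116 (iv D2116) F4513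
theorem F6550 : act 3 n2116 = n2116 := d20_1 D2116 (iv D2116) F4514
theorem F6551 : act 4 n2116 = n1430 := d23_1 D2116 (iv D1430) (iv F4515)
theorem F6552 : act 7 n2116 = n1467 := d27_2 D1428 D2116 (iv D1467) (iv D981) (iv F3077)
def n2117 : Q := act 2 n1429
theorem D2117 : act 2 n1429 = n2117 := rfl
theorem F6553 : act 4 n2117 = n2117 := d14_2 F4518 D2117 (iv D2117)
theorem F6554 : act 5 n2117 = n2117 := d15_2 F4519 D2117 (iv D2117)
theorem F6555 : act 7 n2117 = n1431 := d17_2 (iv F4520) D2117 (iv D1431)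
def n2118 : Q := act 1 n1431
theorem D2118 : act 1 n1431 = n2118 := rfl
theorem F6556 : act 2 n2118 = n2118 := d7_2 D1431 D2118 (iv D2118) (iv D1431) F3080
theorem F6557 : act 3 n2118 = n1432 := d8_2 (iv F4523) D2118 (iv D1432)
theorem F6558 : act 4 n2118 = n2118 := d9_2 F4524 D2118 (iv D2118)
def n2119 : Q := act 0 n1432
theorem D2119 : act 0 n1432 = n2119 := rfl
theorem F6559 : act 2 n2119 = n1437 := d1_2 (iv F4526) D2119 (iv D1437)
def n2120 : Q := act 4 n1432
theorem D2120 : act 4 n1432 = n2120 := rfl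
theorem F6560 : act 1 n2120 = n1433 := d9_1 D2120 (iv D1433) D1432
theorem F6561 : act 2 n2120 = n1438 := d14_1 D2120 (iv D1438) (iv F4526)
theorem F6562 : act 3 n2120 = n2120 := d18_1 D2120 (iv D2120) (iv F6557) F6558 F6557
theorem F6563 : act 6 n1625 = n2120 := d16_0 F6561 (iv F4543) (iv F5072)
def n2121 : Q := act 5 n1432
theorem D2121 : act 5 n1432 = n2121 := rfl
theorem F6564 : act 1 n2121 = n2121 := d10_1 D2121 (iv D2121) (iv D1432) F3088 D1432
theorem F6565 : act 2 n2121 = n1439 := d15_1 D2121 (iv D1439) (iv F4526)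
def n2122 : Q := act 6 n1432
theorem D2122 : act 6 n1432 = n2122 := rfl
theorem F6566 : act 1 n2122 = n1434 := d11_1 D2122 (iv D1434) D1432
theorem F6567 : act 2 n2122 = n1440 := d16_1 D2122 (iv D1440) (iv F4526)
theorem F6568 : act 4 n2122 = n1625 := d23_1 D2122 F6563 (iv D2120)
theorem F6569 : act 5 n2076 = n2122 := d10_0 F6566 (iv F5209) F5207 (iv F4442) (iv F6420)
theorem F6570 : act 7 n2122 = n2075 := d26_2 D2076 F6569 (iv D2075)
def n2123 : Q := act 7 n1434
theorem D2123 : act 7 n1434 = n2123 := rfl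
theorem F6571 : act 1 n2123 = n2075 := d12_1 D2123 (iv F6570) F6566
theorem F6572 : act 2 n2123 = n1436 := d17_1 D2123 (iv D1436) (iv F4531)
theorem F6573 : act 3 n2123 = n2058 := d21_1 D2123 F6376 F4665 D1673 (iv F5205)
theorem F6574 : act 4 n2123 = n1590 := d24_1 D2123 F4979 (iv F4532)
theorem F6575 : act 5 n2123 = n2057 := d26_1 D2123 F6373 F5209
def n2124 : Q := act 7 n1435
theorem D2124 : act 7 n1435 = n2124 := rfl
theorem F6576 : act 1 n2124 = n2124 := d12_1 D2124 (iv D2124) F4533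
theorem F6577 : act 2 n2124 = n2057 := d17_1 D2124 F6373 F5208
theorem F6578 : act 3 n2124 = n1469 := d21_1 D2124 F4630 F3167 (iv F3100) (iv F4534)
theorem F6579 : act 4 n2124 = n1466 := d24_1 D2124 F4623 (iv F4535)
theorem F6580 : act 5 n2124 = n1436 := d26_1 D2124 (iv D1436) D1435
def n2125 : Q := act 4 n1437
theorem D2125 : act 4 n1437 = n2125 := rfl
theorem F6581 : act 0 n2125 = n1438 := d3_1 D2125 (iv D1438) D1437
theorem F6582 : act 3 n1703 = n2125 := d2_0 F6581 (iv F4542) (iv F5299)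
theorem F6583 : act 6 n1693 = n2125 := d5_0 F6581 (iv F4543) D1693
def n2126 : Q := act 5 n1437
theorem D2126 : act 5 n1437 = n2126 := rfl
theorem F6584 : act 0 n2126 = n1439 := d4_1 D2126 (iv D1439) D1437
theorem F6585 : act 3 n2126 = n2126 := d19_1 D2126 (iv D2126) F4540
def n2127 : Q := act 6 n1437
theorem D2127 : act 6 n1437 = n2127 := rfl
theorem F6586 : act 0 n2127 = n1440 := d5_1 D2127 (iv D1440) D1437
theorem F6587 : act 3 n2127 = n2127 := d20_1 D2127 (iv D2127) F4540
theorem F6588 : act 4 n2127 = n1693 := d23_1 D2127 F6583 (iv D2125)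
def n2128 : Q := act 5 n1438
theorem D2128 : act 5 n1438 = n2128 := rfl
theorem F6589 : act 1 n2128 = n1445 := d10_1 D2128 (iv D1445) F3116 (iv F3103) (iv F4541)
theorem F6590 : act 3 n2128 = n1705 := d19_1 D2128 (iv D1705) F4542
theorem F6591 : act 4 n2128 = n1439 := d22_1 D2128 (iv D1439) D1438
def n2129 : Q := act 6 n1439
theorem D2129 : act 6 n1439 = n2129 := rfl
theorem F6592 : act 1 n2129 = n1446 := d11_1 D2129 (iv D1446) (iv F4544)
theorem F6593 : act 3 n2129 = n2129 := d20_1 D2129 (iv D2129) F4545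
def n2130 : Q := act 5 n1440
theorem D2130 : act 5 n1440 = n2130 := rfl
theorem F6594 : act 1 n2130 = n2130 := d10_1 D2130 (iv D2130) F4546 F3109 (iv F4546)
theorem F6595 : act 2 n2130 = n2076 := d15_1 D2130 F6569 F6567
theorem F6596 : act 3 n2130 = n2130 := d19_1 D2130 (iv D2130) F4547
theorem F6597 : act 4 n2130 = n1694 := d22_1 D2130 (iv D1694) (iv F4548)
theorem F6598 : act 7 n2130 = n1546 := d30_5 F3611 (iv F4442) (iv F6420) (iv F6595) F6596 F4865 (iv F4459) F4458 D1985 F6182 F4286 D1434 (iv F5209) F5207 F3610 (iv D1139) (iv D775) (iv D523) F956 D522 F1729 (iv F1631) (iv F2327) F2326 (iv F2999) F2997 (iv F3006) D1389 F4392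
def n2131 : Q := act 7 n1440
theorem D2131 : act 7 n1440 = n2131 := rfl
theorem F6599 : act 1 n2131 = n1441 := d12_1 D2131 (iv D1441) (iv F4546)
theorem F6600 : act 2 n2131 = n2075 := d17_1 D2131 (iv F6570) F6567
theorem F6601 : act 4 n2131 = n1655 := d24_1 D2131 F5152 (iv F4548)
theorem F6602 : act 5 n2131 = n1546 := d26_1 D2131 (iv F6598) (iv D2130)
theorem F6603 : act 3 n1542 = n2131 := d19_3 F6602 (iv D1546) (iv F4849)
def n2132 : Q := act 3 n1441
theorem D2132 : act 3 n1441 = n2132 := rfl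
theorem F6604 : act 1 n2132 = n1542 := d8_1 D2132 F6603 F6599
theorem F6605 : act 2 n2132 = n1487 := d13_1 D2132 (iv D1487) F3192 (iv F3110) (iv F4549)
theorem F6606 : act 4 n2132 = n2132 := d18_2 (iv F4550) D2132 (iv D2132) F4550 F3575
theorem F6607 : act 5 n2132 = n2132 := d19_2 F4551 D2132 (iv D2132)
theorem F6608 : act 7 n2132 = n2132 := d21_2 D1441 D2132 (iv D2132) (iv D1441) F3107
def n2133 : Q := act 3 n1442
theorem D2133 : act 3 n1442 = n2133 := rfl
theorem F6609 : act 0 n2133 = n1444 := d2_1 D2133 (iv D1444) (iv F4552)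
theorem F6610 : act 4 n2133 = n2133 := d18_2 D1442 D2133 (iv D2133) (iv D1442) F3114
theorem F6611 : act 6 n2133 = n2133 := d20_2 F4554 D2133 (iv D2133)
def n2134 : Q := act 5 n1442
theorem D2134 : act 5 n1442 = n2134 := rfl
theorem F6612 : act 0 n2134 = n1445 := d4_1 D2134 (iv D1445) (iv F4552)
theorem F6613 : act 2 n2134 = n2134 := d15_1 D2134 (iv D2134) F4553
theorem F6614 : act 4 n2134 = n1443 := d22_1 D2134 (iv D1443) D1442
def n2135 : Q := act 1 n1443
theorem D2135 : act 1 n1443 = n2135 := rfl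
theorem F6615 : act 3 n2135 = n2135 := d8_2 F4557 D2135 (iv D2135)
def n2136 : Q := act 6 n1443
theorem D2136 : act 6 n1443 = n2136 := rfl
theorem F6616 : act 0 n2136 = n1446 := d5_1 D2136 (iv D1446) (iv F4555)
theorem F6617 : act 2 n2136 = n2136 := d16_1 D2136 (iv D2136) F4556
theorem F6618 : act 3 n2136 = n2136 := d20_1 D2136 (iv D2136) F4557
theorem F6619 : act 5 n2136 = n2136 := d25_1 D2136 (iv D2136) (iv D1443) F3115 D1443
def n2137 : Q := act 2 n1444
theorem D2137 : act 2 n1444 = n2137 := rfl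
theorem F6620 : act 1 n2137 = n1501 := d7_1 D2137 (iv D1501) F3244 (iv F3121) (iv F4558)
theorem F6621 : act 3 n2137 = n2137 := d13_2 D1444 D2137 (iv D2137) (iv D1444) F3117
theorem F6622 : act 4 n2137 = n2137 := d14_2 F4559 D2137 (iv D2137)
theorem F6623 : act 6 n2137 = n2137 := d16_2 F4560 D2137 (iv D2137)
def n2138 : Q := act 5 n1444
theorem D2138 : act 5 n1444 = n2138 := rfl
theorem F6624 : act 1 n2138 = n1705 := d10_1 D2138 (iv D1705) F3678 (iv F3123) (iv F4558)
theorem F6625 : act 3 n2138 = n1445 := d19_1 D2138 (iv D1445) D1444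
theorem F6626 : act 4 n2138 = n2138 := d22_1 D2138 (iv D2138) F4559
def n2139 : Q := act 7 n1444
theorem D2139 : act 7 n1444 = n2139 := rfl
theorem F6627 : act 1 n2139 = n1447 := d12_1 D2139 (iv D1447) (iv F4558)
theorem F6628 : act 4 n2139 = n2139 := d24_1 D2139 (iv D2139) F4559
def n2140 : Q := act 6 n1445
theorem D2140 : act 6 n1445 = n2140 := rfl
theorem F6629 : act 2 n2140 = n2140 := d16_1 D2140 (iv D2140) F4561
theorem F6630 : act 4 n2140 = n1446 := d23_1 D2140 (iv D1446) (iv F4562)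
theorem F6631 : act 5 n2140 = n2140 := d25_1 D2140 (iv D2140) (iv D1445) F3118 D1445
def n2141 : Q := act 7 n1446
theorem D2141 : act 7 n1446 = n2141 := rfl
theorem F6632 : act 2 n2141 = n2141 := d17_1 D2141 (iv D2141) F4563
theorem F6633 : act 5 n2141 = n2141 := d26_1 D2141 (iv D2141) F4565
def n2142 : Q := act 6 n1447
theorem D2142 : act 6 n1447 = n2142 := rfl
theorem F6634 : act 2 n2142 = n1503 := d16_1 D2142 (iv D1503) (iv F4566)
theorem F6635 : act 4 n2142 = n2142 := d23_1 D2142 (iv D2142) F4567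
theorem F6636 : act 5 n2142 = n2142 := d25_1 D2142 (iv D2142) F4568 F3683 (iv F4568)
theorem F6637 : act 7 n2142 = n2142 := d27_2 D1447 D2142 (iv D2142) (iv D1447) F3124
def n2143 : Q := act 4 n1448
theorem D2143 : act 4 n1448 = n2143 := rfl
theorem F6638 : act 0 n2143 = n2143 := d3_1 D2143 (iv D2143) F4569
theorem F6639 : act 2 n2143 = n1449 := d14_1 D2143 (iv D1449) D1448
def n2144 : Q := act 5 n1448
theorem D2144 : act 5 n1448 = n2144 := rfl
theorem F6640 : act 0 n2144 = n2144 := d4_1 D2144 (iv D2144) F4569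
theorem F6641 : act 2 n2144 = n1450 := d15_1 D2144 (iv D1450) D1448
def n2145 : Q := act 7 n1448
theorem D2145 : act 7 n1448 = n2145 := rfl
theorem F6642 : act 0 n2145 = n2145 := d6_1 D2145 (iv D2145) F4569
theorem F6643 : act 2 n2145 = n1451 := d17_1 D2145 (iv D1451) D1448
def n2146 : Q := act 7 n1449
theorem D2146 : act 7 n1449 = n2146 := rfl
theorem F6644 : act 0 n2146 = n2146 := d6_1 D2146 (iv D2146) F4570
theorem F6645 : act 1 n2146 = n1455 := d12_1 D2146 (iv D1455) (iv F4571)
theorem F6646 : act 4 n2146 = n1451 := d24_1 D2146 (iv D1451) D1449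
def n2147 : Q := act 7 n1450
theorem D2147 : act 7 n1450 = n2147 := rfl
theorem F6647 : act 0 n2147 = n2147 := d6_1 D2147 (iv D2147) F4573
theorem F6648 : act 1 n2147 = n1570 := d12_1 D2147 (iv D1570) (iv F4574)
theorem F6649 : act 5 n2147 = n1451 := d26_1 D2147 (iv D1451) D1450
def n2148 : Q := act 3 n1451
theorem D2148 : act 3 n1451 = n2148 := rfl
theorem F6650 : act 0 n2148 = n2148 := d2_1 D2148 (iv D2148) F4576
theorem F6651 : act 1 n2148 = n1456 := d8_1 D2148 (iv D1456) (iv F4577)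
theorem F6652 : act 7 n2148 = n1453 := d21_2 D1451 D2148 (iv D1453) (iv D972) D970
def n2149 : Q := act 6 n1451
theorem D2149 : act 6 n1451 = n2149 := rfl
theorem F6653 : act 0 n2149 = n2149 := d5_1 D2149 (iv D2149) F4576
theorem F6654 : act 1 n2149 = n1457 := d11_1 D2149 (iv D1457) (iv F4577)
def n2150 : Q := act 3 n1452
theorem D2150 : act 3 n1452 = n2150 := rfl
theorem F6655 : act 0 n2150 = n2150 := d2_1 D2150 (iv D2150) F4578
theorem F6656 : act 1 n2150 = n1573 := d8_1 D2150 (iv D1573) (iv F4579)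
theorem F6657 : act 5 n2150 = n1453 := d19_2 (iv F4581) D2150 (iv D1453)
theorem F6658 : act 6 n2150 = n2150 := d20_2 F4582 D2150 (iv D2150)
def n2151 : Q := act 2 n1453
theorem D2151 : act 2 n1453 = n2151 := rfl
theorem F6659 : act 0 n2151 = n2151 := d1_1 D2151 (iv D2151) F4583
def n2152 : Q := act 4 n1453
theorem D2152 : act 4 n1453 = n2152 := rfl
theorem F6660 : act 0 n2152 = n2152 := d3_1 D2152 (iv D2152) F4583
theorem F6661 : act 1 n2152 = n1459 := d9_1 D2152 (iv D1459) (iv F4584)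
theorem F6662 : act 3 n2152 = n1465 := d18_1 D2152 F4619 (iv D1014) (iv F3132) D1453
theorem F6663 : act 6 n1588 = n2152 := d20_0 F6662 F4620 (iv F4974)
def n2153 : Q := act 6 n1453
theorem D2153 : act 6 n1453 = n2153 := rfl
theorem F6664 : act 0 n2153 = n2153 := d5_1 D2153 (iv D2153) F4583
theorem F6665 : act 1 n2153 = n1460 := d11_1 D2153 (iv D1460) (iv F4584)
theorem F6666 : act 3 n2153 = n1454 := d20_1 D2153 (iv D1454) D1453
theorem F6667 : act 4 n2153 = n1588 := d23_1 D2153 F6663 (iv D2152)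
theorem F6668 : act 5 n2153 = n2153 := d25_1 D2153 (iv D2153) (iv F6657) F6658 F6657
def n2154 : Q := act 3 n1455
theorem D2154 : act 3 n1455 = n2154 := rfl
theorem F6669 : act 0 n2154 = n1466 := d2_1 D2154 (iv D1466) (iv F4589)
theorem F6670 : act 5 n2154 = n1575 := d19_2 (iv F4591) D2154 (iv D1575)
theorem F6671 : act 7 n2154 = n1505 := d21_2 D1455 D2154 (iv D1505) (iv D1016) (iv F3134)
def n2155 : Q := act 6 n1455
theorem D2155 : act 6 n1455 = n2155 := rfl
theorem F6672 : act 0 n2155 = n1467 := d5_1 D2155 (iv D1467) (iv F4589)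
theorem F6673 : act 4 n2155 = n1457 := d23_1 D2155 (iv D1457) (iv F4590)
def n2156 : Q := act 2 n1456
theorem D2156 : act 2 n1456 = n2156 := rfl
theorem F6674 : act 0 n2156 = n1468 := d1_1 D2156 (iv D1468) (iv F4592)
theorem F6675 : act 5 n2156 = n1577 := d15_2 (iv F4593) D2156 (iv D1577)
theorem F6676 : act 7 n2156 = n1458 := d17_2 (iv F4594) D2156 (iv D1458)
def n2157 : Q := act 4 n1456
theorem D2157 : act 4 n1456 = n2157 := rfl
theorem F6677 : act 0 n2157 = n1469 := d3_1 D2157 (iv D1469) (iv F4592)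
theorem F6678 : act 5 n2157 = n1464 := d22_2 (iv F4593) D2157 F4616
theorem F6679 : act 7 n2157 = n1459 := d24_2 (iv F4594) D2157 (iv D1459)
def n2158 : Q := act 6 n1456
theorem D2158 : act 6 n1456 = n2158 := rfl
theorem F6680 : act 0 n2158 = n1470 := d5_1 D2158 (iv D1470) (iv F4592)
theorem F6681 : act 3 n2158 = n1457 := d20_1 D2158 (iv D1457) D1456
def n2159 : Q := act 5 n1457
theorem D2159 : act 5 n1457 = n2159 := rfl
theorem F6682 : act 0 n2159 = n1471 := d4_1 D2159 (iv D1471) (iv F4595)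
theorem F6683 : act 6 n2159 = n1579 := d25_2 D1457 D2159 (iv D1579) (iv D1068) (iv F3137)
def n2160 : Q := act 1 n1458
theorem D2160 : act 1 n1458 = n2160 := rfl
theorem F6684 : act 3 n2160 = n1461 := d8_2 (iv F4597) D2160 (iv D1461)
def n2161 : Q := act 4 n1458
theorem D2161 : act 4 n1458 = n2161 := rfl
theorem F6685 : act 0 n2161 = n1473 := d3_1 D2161 (iv D1473) (iv F4596)
theorem F6686 : act 2 n2161 = n1459 := d14_1 D2161 (iv D1459) D1458
theorem F6687 : act 3 n2161 = n1586 := d18_1 D2161 F4970 F4610 (iv D1462) (iv F4597)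
theorem F6688 : act 5 n2161 = n1463 := d22_2 (iv F4598) D2161 F4614
theorem F6689 : act 6 n1585 = n2161 := d25_0 F6688 (iv D1463) F3145 D1072 (iv F4967)
def n2162 : Q := act 6 n1458
theorem D2162 : act 6 n1458 = n2162 := rfl
theorem F6690 : act 0 n2162 = n1474 := d5_1 D2162 (iv D1474) (iv F4596)
theorem F6691 : act 2 n2162 = n1460 := d16_1 D2162 (iv D1460) D1458
theorem F6692 : act 3 n2162 = n1463 := d20_1 D2162 (iv D1463) (iv F4597)
theorem F6693 : act 4 n2162 = n1585 := d23_1 D2162 F6689 (iv D2161)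
theorem F6694 : act 5 n2162 = n1586 := d25_1 D2162 (iv D1586) (iv F4609) (iv F4611) (iv F4598)
def n2163 : Q := act 0 n1461
theorem D2163 : act 0 n1461 = n2163 := rfl
theorem F6695 : act 1 n2163 = n1475 := d0_2 D1461 D2163 (iv D1475) (iv D987) (iv F3144)
def n2164 : Q := act 4 n1461
theorem D2164 : act 4 n1461 = n2164 := rfl
theorem F6696 : act 1 n2164 = n1462 := d9_1 D2164 (iv D1462) D1461
theorem F6697 : act 3 n1584 = n2164 := d8_0 F6696 (iv F4610) (iv F4963)
theorem F6698 : act 6 n1580 = n2164 := d11_0 F6696 (iv F4611) D1580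
def n2165 : Q := act 5 n1461
theorem D2165 : act 5 n1461 = n2165 := rfl
theorem F6699 : act 1 n2165 = n1583 := d10_1 D2165 (iv D1583) (iv D1070) (iv F3145) D1461
def n2166 : Q := act 6 n1461
theorem D2166 : act 6 n1461 = n2166 := rfl
theorem F6700 : act 1 n2166 = n1463 := d11_1 D2166 (iv D1463) D1461
theorem F6701 : act 4 n2166 = n1580 := d23_1 D2166 F6698 (iv D2164)
def n2167 : Q := act 7 n1463
theorem D2167 : act 7 n1463 = n2167 := rfl
theorem F6702 : act 0 n2167 = n1479 := d6_1 D2167 (iv D1479) (iv F4612)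
theorem F6703 : act 2 n2167 = n1464 := d17_1 D2167 (iv D1464) (iv F4613)
theorem F6704 : act 4 n2167 = n1577 := d24_1 D2167 F4952 (iv F4614)
def n2168 : Q := act 2 n1466
theorem D2168 : act 2 n1466 = n2168 := rfl
theorem F6705 : act 3 n2168 = n1959 := d13_2 D1466 D2168 F6301 (iv D2030) F4351
theorem F6706 : act 4 n2168 = n2057 := d14_2 F6579 D2168 (iv F6577)
theorem F6707 : act 5 n2168 = n1590 := d15_2 (iv F4622) D2168 (iv D1590)
theorem F6708 : act 7 n2168 = n1506 := d17_2 (iv F4623) D2168 (iv D1506)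
theorem F6709 : act 1 n1962 = n2168 := d12_3 F6708 (iv F5212) (iv F6119)
def n2169 : Q := act 6 n1466
theorem D2169 : act 6 n1466 = n2169 := rfl
theorem F6710 : act 1 n2169 = n2169 := d11_1 D2169 (iv D2169) F4621
theorem F6711 : act 3 n2169 = n1467 := d20_1 D2169 (iv D1467) D1466
theorem F6712 : act 7 n2169 = n2169 := d27_2 (iv F4623) D2169 (iv D2169) F4623 F3275
def n2170 : Q := act 5 n1467
theorem D2170 : act 5 n1467 = n2170 := rfl
theorem F6713 : act 4 n2170 = n1471 := d22_1 D2170 (iv D1471) (iv F4625)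
theorem F6714 : act 6 n2170 = n1592 := d25_2 D1467 D2170 (iv D1592) (iv D1078) (iv F3159)
def n2171 : Q := act 1 n1468
theorem D2171 : act 1 n1468 = n2171 := rfl
theorem F6715 : act 2 n2171 = n2171 := d7_2 D1468 D2171 (iv D2171) (iv D1468) F3160
theorem F6716 : act 3 n2171 = n2037 := d8_2 F6305 D2171 F6318
theorem F6717 : act 7 n2171 = n1472 := d12_2 (iv F4627) D2171 (iv D1472)
theorem F6718 : act 4 n2047 = n2171 := d24_3 F6717 (iv F5020) (iv F6348)
def n2172 : Q := act 4 n1468
theorem D2172 : act 4 n1468 = n2172 := rfl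
theorem F6719 : act 1 n2172 = n2047 := d9_1 D2172 F6718 (iv D2171)
theorem F6720 : act 2 n2172 = n1469 := d14_1 D2172 (iv D1469) D1468
theorem F6721 : act 3 n2172 = n2044 := d18_1 D2172 (iv D2044) (iv F6316) (iv F6317) F6305
theorem F6722 : act 5 n2172 = n1479 := d22_2 (iv F4626) D2172 F4655
theorem F6723 : act 7 n2172 = n1473 := d24_2 (iv F4627) D2172 (iv D1473)
def n2173 : Q := act 6 n1468
theorem D2173 : act 6 n1468 = n2173 := rfl
theorem F6724 : act 2 n2173 = n1470 := d16_1 D2173 (iv D1470) D1468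
def n2174 : Q := act 6 n1469
theorem D2174 : act 6 n1469 = n2174 := rfl
theorem F6725 : act 1 n2174 = n2174 := d11_1 D2174 (iv D2174) F4628
theorem F6726 : act 4 n2174 = n1470 := d23_1 D2174 (iv D1470) D1469
theorem F6727 : act 7 n2174 = n1608 := d27_2 (iv F4630) D2174 (iv D1608) (iv D1090) F3169
def n2175 : Q := act 0 n1472
theorem D2175 : act 0 n1472 = n2175 := rfl
theorem F6728 : act 2 n2175 = n2175 := d1_2 F4634 D2175 (iv D2175)
theorem F6729 : act 3 n2175 = n1475 := d2_2 (iv F4635) D2175 (iv D1475)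
def n2176 : Q := act 5 n1472
theorem D2176 : act 5 n1472 = n2176 := rfl
theorem F6730 : act 1 n2176 = n1598 := d10_1 D2176 (iv D1598) (iv D1082) (iv F3165) D1472
theorem F6731 : act 2 n2176 = n2176 := d15_1 D2176 (iv D2176) F4634
theorem F6732 : act 3 n2176 = n1477 := d19_1 D2176 (iv D1477) (iv F4635)
def n2177 : Q := act 6 n1472
theorem D2177 : act 6 n1472 = n2177 := rfl
theorem F6733 : act 1 n2177 = n1474 := d11_1 D2177 (iv D1474) D1472
theorem F6734 : act 2 n2177 = n2177 := d16_1 D2177 (iv D2177) F4634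
theorem F6735 : act 3 n2177 = n1478 := d20_1 D2177 (iv D1478) (iv F4635)
theorem F6736 : act 4 n2177 = n1602 := d23_1 D2177 (iv F5021) F5020
def n2178 : Q := act 4 n1475
theorem D2178 : act 4 n1475 = n2178 := rfl
theorem F6737 : act 0 n2178 = n1476 := d3_1 D2178 (iv D1476) D1475
theorem F6738 : act 2 n2178 = n1480 := d14_1 D2178 (iv D1480) (iv F4644)
theorem F6739 : act 3 n1601 = n2178 := d13_0 F6738 (iv F4657) F3599 (iv F3489) (iv F5004)
theorem F6740 : act 6 n1597 = n2178 := d16_0 F6738 (iv F4658) (iv F4993)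
def n2179 : Q := act 5 n1475
theorem D2179 : act 5 n1475 = n2179 := rfl
theorem F6741 : act 0 n2179 = n1477 := d4_1 D2179 (iv D1477) D1475
theorem F6742 : act 2 n2179 = n1481 := d15_1 D2179 (iv D1481) (iv F4644)
def n2180 : Q := act 6 n1475
theorem D2180 : act 6 n1475 = n2180 := rfl
theorem F6743 : act 0 n2180 = n1478 := d5_1 D2180 (iv D1478) D1475
theorem F6744 : act 2 n2180 = n1482 := d16_1 D2180 (iv D1482) (iv F4644)
theorem F6745 : act 4 n2180 = n1597 := d23_1 D2180 F6740 (iv D2178)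
def n2181 : Q := act 5 n1476
theorem D2181 : act 5 n1476 = n2181 := rfl
theorem F6746 : act 1 n2181 = n1603 := d10_1 D2181 (iv D1603) F3462 (iv F3176) (iv F4645)
theorem F6747 : act 2 n2181 = n1483 := d15_1 D2181 (iv D1483) (iv F4646)
theorem F6748 : act 3 n2181 = n1605 := d19_1 D2181 (iv D1605) F4647
theorem F6749 : act 4 n2181 = n1477 := d22_1 D2181 (iv D1477) D1476
def n2182 : Q := act 6 n1477
theorem D2182 : act 6 n1477 = n2182 := rfl
theorem F6750 : act 1 n2182 = n1604 := d11_1 D2182 (iv D1604) (iv F4649)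
theorem F6751 : act 2 n2182 = n1484 := d16_1 D2182 (iv D1484) (iv F4650)
def n2183 : Q := act 5 n1478
theorem D2183 : act 5 n1478 = n2183 := rfl
theorem F6752 : act 2 n2183 = n1485 := d15_1 D2183 (iv D1485) (iv F4652)
theorem F6753 : act 4 n2183 = n1598 := d22_1 D2183 (iv D1598) (iv F4653)
theorem F6754 : act 7 n1535 = n2183 := d17_0 F6752 F4676 (iv F4827)
def n2184 : Q := act 7 n1478
theorem D2184 : act 7 n1478 = n2184 := rfl
theorem F6755 : act 1 n2184 = n1479 := d12_1 D2184 (iv D1479) (iv F4651)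
theorem F6756 : act 2 n2184 = n1486 := d17_1 D2184 (iv D1486) (iv F4652)
theorem F6757 : act 4 n2184 = n1593 := d24_1 D2184 F4985 (iv F4653)
theorem F6758 : act 5 n2184 = n1535 := d26_1 D2184 F6754 (iv D2183)
theorem F6759 : act 3 n2184 = n1540 := d29_10 F3185 (iv F4646) F4645 F3176 D1088 (iv F4643) (iv F6733) F6734 F6735 D2184 F4843 (iv F3370) (iv D1049) (iv F2344) (iv F3042) (iv D944) (iv F3035) F3036 F2962 F2134 (iv D645) (iv F2129) F2130 D960 D1435 F4533 (iv F5208) (iv D1674) (iv D1138)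
def n2185 : Q := act 3 n1479
theorem D2185 : act 3 n1479 = n2185 := rfl
theorem F6760 : act 1 n2185 = n1540 := d8_1 D2185 (iv F6759) F6755
theorem F6761 : act 2 n2185 = n2058 := d13_1 D2185 (iv F6573) F6572 F4538 (iv F4654)
theorem F6762 : act 5 n2185 = n2044 := d19_2 F6722 D2185 (iv F6721)
theorem F6763 : act 7 n2185 = n2181 := d21_2 D1479 D2185 F6748 F5014 F4641
theorem F6764 : act 4 n2045 = n2185 := d24_3 F6763 F6749 (iv F6343)
def n2186 : Q := act 5 n1480
theorem D2186 : act 5 n1480 = n2186 := rfl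
theorem F6765 : act 0 n2186 = n1483 := d4_1 D2186 (iv D1483) (iv F4656)
theorem F6766 : act 3 n2186 = n1669 := d19_1 D2186 (iv D1669) F4657
theorem F6767 : act 4 n2186 = n1481 := d22_1 D2186 (iv D1481) D1480
def n2187 : Q := act 1 n1481
theorem D2187 : act 1 n1481 = n2187 := rfl
theorem F6768 : act 0 n2187 = n1490 := d0_1 D2187 (iv D1490) F3198 (iv F3187) (iv F4659)
theorem F6769 : act 3 n2187 = n2187 := d8_2 F4660 D2187 (iv D2187)
def n2188 : Q := act 6 n1481
theorem D2188 : act 6 n1481 = n2188 := rfl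
theorem F6770 : act 0 n2188 = n1484 := d5_1 D2188 (iv D1484) (iv F4659)
theorem F6771 : act 3 n2188 = n2188 := d20_1 D2188 (iv D2188) F4660
def n2189 : Q := act 5 n1482
theorem D2189 : act 5 n1482 = n2189 := rfl
theorem F6772 : act 0 n2189 = n1485 := d4_1 D2189 (iv D1485) (iv F4661)
theorem F6773 : act 3 n2189 = n2189 := d19_1 D2189 (iv D2189) F4662
theorem F6774 : act 4 n2189 = n1665 := d22_1 D2189 (iv D1665) (iv F4663)
theorem F6775 : act 7 n1520 = n2189 := d6_0 F6772 F4676 (iv F4792)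
def n2190 : Q := act 7 n1482
theorem D2190 : act 7 n1482 = n2190 := rfl
theorem F6776 : act 0 n2190 = n1486 := d6_1 D2190 (iv D1486) (iv F4661)
theorem F6777 : act 4 n2190 = n1659 := d24_1 D2190 F5163 (iv F4663)
theorem F6778 : act 5 n2190 = n1520 := d26_1 D2190 F6775 (iv D2189)
theorem F6779 : act 3 n1521 = n2190 := d19_3 F6778 F4793 D1521
def n2191 : Q := act 6 n1483
theorem D2191 : act 6 n1483 = n2191 := rfl
theorem F6780 : act 1 n2191 = n1494 := d11_1 D2191 (iv D1494) (iv F4664)
theorem F6781 : act 3 n2191 = n1671 := d20_1 D2191 F5197 (iv F4665)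
theorem F6782 : act 4 n2191 = n1484 := d23_1 D2191 (iv D1484) (iv F4666)
theorem F6783 : act 5 n2191 = n1666 := d25_1 D2191 (iv D1666) (iv D1133) F3186 D1483
def n2192 : Q := act 5 n1484
theorem D2192 : act 5 n1484 = n2192 := rfl
theorem F6784 : act 1 n2192 = n2192 := d10_1 D2192 (iv D2192) F4667 F3209 (iv F4667)
theorem F6785 : act 3 n2192 = n2192 := d19_1 D2192 (iv D2192) F4668
theorem F6786 : act 4 n2192 = n1666 := d22_1 D2192 (iv F6783) F6782
theorem F6787 : act 6 n2192 = n1485 := d25_2 D1484 D2192 (iv D1485) (iv D994) D993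
theorem F6788 : act 7 n1531 = n2192 := d27_0 F6787 F4676 (iv D1035) (iv F3318) D1531
def n2193 : Q := act 7 n1484
theorem D2193 : act 7 n1484 = n2193 := rfl
theorem F6789 : act 1 n2193 = n1495 := d12_1 D2193 (iv D1495) (iv F4667)
theorem F6790 : act 5 n2193 = n1531 := d26_1 D2193 F6788 (iv D2192)
theorem F6791 : act 3 n1532 = n2193 := d19_3 F6790 F4821 D1532
def n2194 : Q := act 5 n1488
theorem D2194 : act 5 n1488 = n2194 := rfl
theorem F6792 : act 0 n2194 = n1492 := d4_1 D2194 (iv D1492) (iv F4681)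
theorem F6793 : act 2 n2194 = n2194 := d15_1 D2194 (iv D2194) F4682
theorem F6794 : act 3 n2194 = n1489 := d19_1 D2194 (iv D1489) D1488
theorem F6795 : act 4 n2194 = n2194 := d22_1 D2194 (iv D2194) F4683
def n2195 : Q := act 7 n1488
theorem D2195 : act 7 n1488 = n2195 := rfl
theorem F6796 : act 0 n2195 = n1493 := d6_1 D2195 (iv D1493) (iv F4681)
theorem F6797 : act 2 n2195 = n2195 := d17_1 D2195 (iv D2195) F4682
theorem F6798 : act 4 n2195 = n2195 := d24_1 D2195 (iv D2195) F4683
def n2196 : Q := act 1 n1489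
theorem D2196 : act 1 n1489 = n2196 := rfl
theorem F6799 : act 4 n2196 = n1490 := d9_2 (iv F4687) D2196 (iv D1490)
def n2197 : Q := act 6 n1489
theorem D2197 : act 6 n1489 = n2197 := rfl
theorem F6800 : act 0 n2197 = n1494 := d5_1 D2197 (iv D1494) (iv F4685)
theorem F6801 : act 2 n2197 = n1617 := d16_1 D2197 (iv D1617) (iv F4686)
theorem F6802 : act 4 n2197 = n1491 := d23_1 D2197 (iv D1491) (iv F4687)
theorem F6803 : act 5 n2197 = n2197 := d25_1 D2197 (iv D2197) (iv D1489) F3197 D1489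
def n2198 : Q := act 2 n1490
theorem D2198 : act 2 n1490 = n2198 := rfl
theorem F6804 : act 1 n2198 = n1618 := d7_1 D2198 (iv D1618) (iv D1098) (iv F3199) D1490
def n2199 : Q := act 6 n1490
theorem D2199 : act 6 n1490 = n2199 := rfl
theorem F6805 : act 1 n2199 = n1491 := d11_1 D2199 (iv D1491) D1490
theorem F6806 : act 3 n2199 = n2199 := d20_1 D2199 (iv D2199) F4688
def n2200 : Q := act 7 n1491
theorem D2200 : act 7 n1491 = n2200 := rfl
theorem F6807 : act 0 n2200 = n1495 := d6_1 D2200 (iv D1495) (iv F4689)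
theorem F6808 : act 2 n2200 = n1620 := d17_1 D2200 (iv D1620) (iv F4690)
theorem F6809 : act 5 n2200 = n2200 := d26_1 D2200 (iv D2200) F4692
def n2201 : Q := act 6 n1492
theorem D2201 : act 6 n1492 = n2201 := rfl
theorem F6810 : act 1 n2201 = n1671 := d11_1 D2201 F5197 (iv F4693)
theorem F6811 : act 2 n2201 = n2201 := d16_1 D2201 (iv D2201) F4694
theorem F6812 : act 3 n2201 = n1494 := d20_1 D2201 (iv D1494) (iv F4695)
theorem F6813 : act 4 n2201 = n2201 := d23_1 D2201 (iv D2201) F4696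
theorem F6814 : act 5 n2201 = n2201 := d25_1 D2201 (iv D2201) (iv D1492) F3204 D1492
def n2202 : Q := act 7 n1492
theorem D2202 : act 7 n1492 = n2202 := rfl
theorem F6815 : act 1 n2202 = n1673 := d12_1 D2202 (iv D1673) (iv F4693)
theorem F6816 : act 2 n2202 = n2202 := d17_1 D2202 (iv D2202) F4694
theorem F6817 : act 3 n2202 = n2122 := d21_1 D2202 F6570 F6419 F4432 (iv F4695)
theorem F6818 : act 4 n2202 = n2202 := d24_1 D2202 (iv D2202) F4696
theorem F6819 : act 5 n2202 = n1493 := d26_1 D2202 (iv D1493) D1492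
theorem F6820 : act 6 n2118 = n2202 := d20_0 F6817 (iv D2122) (iv F6557)
def n2203 : Q := act 6 n1493
theorem D2203 : act 6 n1493 = n2203 := rfl
theorem F6821 : act 1 n2203 = n1496 := d11_1 D2203 (iv D1496) (iv F4697)
theorem F6822 : act 2 n2203 = n2203 := d16_1 D2203 (iv D2203) F4698
theorem F6823 : act 4 n2203 = n2203 := d23_1 D2203 (iv D2203) F4699
theorem F6824 : act 7 n2203 = n2203 := d27_2 D1493 D2203 (iv D2203) (iv D1493) F3204
def n2204 : Q := act 7 n1494
theorem D2204 : act 7 n1494 = n2204 := rfl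
theorem F6825 : act 2 n2204 = n1621 := d17_1 D2204 (iv D1621) (iv F4700)
theorem F6826 : act 4 n2204 = n1495 := d24_1 D2204 (iv D1495) (iv F4701)
theorem F6827 : act 5 n2204 = n2204 := d26_1 D2204 (iv D2204) F4702
def n2205 : Q := act 3 n1495
theorem D2205 : act 3 n1495 = n2205 := rfl
theorem F6828 : act 1 n2205 = n1532 := d8_1 D2205 F6791 F6789
theorem F6829 : act 5 n2205 = n2205 := d19_2 F4704 D2205 (iv D2205)
theorem F6830 : act 7 n2205 = n2205 := d21_2 D1495 D2205 (iv D2205) (iv D1495) F3208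
def n2206 : Q := act 7 n1501
theorem D2206 : act 7 n1501 = n2206 := rfl
theorem F6831 : act 0 n2206 = n2206 := d6_1 D2206 (iv D2206) F4729
theorem F6832 : act 2 n2206 = n1502 := d17_1 D2206 (iv D1502) D1501
theorem F6833 : act 4 n2206 = n2206 := d24_1 D2206 (iv D2206) F4731
theorem F6834 : act 5 n2206 = n2206 := d26_1 D2206 (iv D2206) F4732
def n2207 : Q := act 6 n1502
theorem D2207 : act 6 n1502 = n2207 := rfl
theorem F6835 : act 0 n2207 = n2207 := d5_1 D2207 (iv D2207) F4734
theorem F6836 : act 1 n2207 = n1503 := d11_1 D2207 (iv D1503) (iv F4735)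
theorem F6837 : act 3 n2207 = n2207 := d20_1 D2207 (iv D2207) F4736
theorem F6838 : act 4 n2207 = n2207 := d23_1 D2207 (iv D2207) F4737
theorem F6839 : act 7 n2207 = n2207 := d27_2 D1502 D2207 (iv D2207) (iv D1502) F3247
def n2208 : Q := act 3 n1504
theorem D2208 : act 3 n1504 = n2208 := rfl
theorem F6840 : act 0 n2208 = n2208 := d2_1 D2208 (iv D2208) F4743
theorem F6841 : act 1 n2208 = n1505 := d8_1 D2208 (iv D1505) (iv F4744)
theorem F6842 : act 6 n2208 = n2208 := d20_2 F4746 D2208 (iv D2208)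
def n2209 : Q := act 2 n1505
theorem D2209 : act 2 n1505 = n2209 := rfl
theorem F6843 : act 0 n2209 = n1506 := d1_1 D2209 (iv D1506) (iv F4747)
theorem F6844 : act 3 n2209 = n2209 := d13_2 D1505 D2209 (iv D2209) (iv D1505) F3269
theorem F6845 : act 5 n2209 = n1624 := d15_2 (iv F4748) D2209 (iv D1624)
theorem F6846 : act 6 n2209 = n2209 := d16_2 F4749 D2209 (iv D2209)
def n2210 : Q := act 4 n1507
theorem D2210 : act 4 n1507 = n2210 := rfl
theorem F6847 : act 0 n2210 = n2210 := d3_1 D2210 (iv D2210) F4753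
theorem F6848 : act 1 n2210 = n1566 := d9_1 D2210 (iv D1566) (iv F4754)
theorem F6849 : act 2 n2210 = n1508 := d14_1 D2210 (iv D1508) D1507
theorem F6850 : act 6 n2210 = n2210 := d23_2 F4756 D2210 (iv D2210)
def n2211 : Q := act 5 n1507
theorem D2211 : act 5 n1507 = n2211 := rfl
theorem F6851 : act 0 n2211 = n2211 := d4_1 D2211 (iv D2211) F4753
theorem F6852 : act 2 n2211 = n1509 := d15_1 D2211 (iv D1509) D1507
theorem F6853 : act 3 n2211 = n2211 := d19_1 D2211 (iv D2211) F4755
def n2212 : Q := act 7 n1507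
theorem D2212 : act 7 n1507 = n2212 := rfl
theorem F6854 : act 0 n2212 = n2212 := d6_1 D2212 (iv D2212) F4753
theorem F6855 : act 1 n2212 = n1568 := d12_1 D2212 (iv D1568) (iv F4754)
theorem F6856 : act 2 n2212 = n1510 := d17_1 D2212 (iv D1510) D1507
def n2213 : Q := act 5 n1508
theorem D2213 : act 5 n1508 = n2213 := rfl
theorem F6857 : act 0 n2213 = n2213 := d4_1 D2213 (iv D2213) F4757
theorem F6858 : act 3 n2213 = n2213 := d19_1 D2213 (iv D2213) F4759
theorem F6859 : act 4 n2213 = n1509 := d22_1 D2213 (iv D1509) D1508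
def n2214 : Q := act 7 n1508
theorem D2214 : act 7 n1508 = n2214 := rfl
theorem F6860 : act 0 n2214 = n2214 := d6_1 D2214 (iv D2214) F4757
theorem F6861 : act 1 n2214 = n1515 := d12_1 D2214 (iv D1515) (iv F4758)
theorem F6862 : act 4 n2214 = n1510 := d24_1 D2214 (iv D1510) D1508
def n2215 : Q := act 6 n1509
theorem D2215 : act 6 n1509 = n2215 := rfl
theorem F6863 : act 0 n2215 = n2215 := d5_1 D2215 (iv D2215) F4761
theorem F6864 : act 3 n2215 = n1511 := d20_1 D2215 (iv D1511) (iv F4762)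
theorem F6865 : act 5 n2215 = n2215 := d25_1 D2215 (iv D2215) (iv D1509) F3283 D1509
def n2216 : Q := act 7 n1509
theorem D2216 : act 7 n1509 = n2216 := rfl
theorem F6866 : act 0 n2216 = n2216 := d6_1 D2216 (iv D2216) F4761
theorem F6867 : act 5 n2216 = n1510 := d26_1 D2216 (iv D1510) D1509
def n2217 : Q := act 3 n1510
theorem D2217 : act 3 n1510 = n2217 := rfl
theorem F6868 : act 0 n2217 = n2217 := d2_1 D2217 (iv D2217) F4763
theorem F6869 : act 1 n2217 = n1516 := d8_1 D2217 (iv D1516) (iv F4764)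
theorem F6870 : act 7 n2217 = n1513 := d21_2 D1510 D2217 (iv D1513) (iv D1021) D1019
def n2218 : Q := act 6 n1510
theorem D2218 : act 6 n1510 = n2218 := rfl
theorem F6871 : act 0 n2218 = n2218 := d5_1 D2218 (iv D2218) F4763
theorem F6872 : act 1 n2218 = n1517 := d11_1 D2218 (iv D1517) (iv F4764)
theorem F6873 : act 7 n2218 = n2218 := d27_2 D1510 D2218 (iv D2218) (iv D1510) F3283
def n2219 : Q := act 7 n1511
theorem D2219 : act 7 n1511 = n2219 := rfl
theorem F6874 : act 0 n2219 = n2219 := d6_1 D2219 (iv D2219) F4765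
theorem F6875 : act 2 n2219 = n2219 := d17_1 D2219 (iv D2219) F4766
theorem F6876 : act 4 n2219 = n2219 := d24_1 D2219 (iv D2219) F4767
theorem F6877 : act 5 n2219 = n2219 := d26_1 D2219 (iv D2219) F4768
def n2220 : Q := act 3 n1512
theorem D2220 : act 3 n1512 = n2220 := rfl
theorem F6878 : act 0 n2220 = n2220 := d2_1 D2220 (iv D2220) F4769
theorem F6879 : act 5 n2220 = n1513 := d19_2 (iv F4772) D2220 (iv D1513)
def n2221 : Q := act 6 n1512
theorem D2221 : act 6 n1512 = n2221 := rfl
theorem F6880 : act 0 n2221 = n2221 := d5_1 D2221 (iv D2221) F4769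
theorem F6881 : act 2 n2221 = n2221 := d16_1 D2221 (iv D2221) F4770
theorem F6882 : act 4 n2221 = n2221 := d23_1 D2221 (iv D2221) F4771
def n2222 : Q := act 2 n1513
theorem D2222 : act 2 n1513 = n2222 := rfl
theorem F6883 : act 0 n2222 = n2222 := d1_1 D2222 (iv D2222) F4773
theorem F6884 : act 3 n2222 = n2222 := d13_2 D1513 D2222 (iv D2222) (iv D1513) F3289
def n2223 : Q := act 4 n1513
theorem D2223 : act 4 n1513 = n2223 := rfl
theorem F6885 : act 0 n2223 = n2223 := d3_1 D2223 (iv D2223) F4773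
theorem F6886 : act 1 n2223 = n1519 := d9_1 D2223 (iv D1519) (iv F4774)
theorem F6887 : act 3 n2223 = n2223 := d18_1 D2223 (iv D2223) (iv D1513) F3290 D1513
def n2224 : Q := act 6 n1513
theorem D2224 : act 6 n1513 = n2224 := rfl
theorem F6888 : act 0 n2224 = n2224 := d5_1 D2224 (iv D2224) F4773
theorem F6889 : act 1 n2224 = n1520 := d11_1 D2224 (iv D1520) (iv F4774)
theorem F6890 : act 3 n2224 = n1514 := d20_1 D2224 (iv D1514) D1513
def n2225 : Q := act 5 n1514
theorem D2225 : act 5 n1514 = n2225 := rfl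
theorem F6891 : act 0 n2225 = n2225 := d4_1 D2225 (iv D2225) F4775
theorem F6892 : act 2 n2225 = n2225 := d15_1 D2225 (iv D2225) F4777
theorem F6893 : act 4 n2225 = n2225 := d22_1 D2225 (iv D2225) F4778
theorem F6894 : act 7 n2225 = n2225 := d26_2 F4779 D2225 (iv D2225)
def n2226 : Q := act 3 n1515
theorem D2226 : act 3 n1515 = n2226 := rfl
theorem F6895 : act 0 n2226 = n1527 := d2_1 D2226 (iv D1527) (iv F4780)
theorem F6896 : act 7 n2226 = n2226 := d21_2 D1515 D2226 (iv D2226) (iv D1515) F3293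
def n2227 : Q := act 6 n1515
theorem D2227 : act 6 n1515 = n2227 := rfl
theorem F6897 : act 0 n2227 = n1528 := d5_1 D2227 (iv D1528) (iv F4780)
theorem F6898 : act 2 n2227 = n1576 := d16_1 D2227 (iv D1576) (iv F4781)
theorem F6899 : act 4 n2227 = n1517 := d23_1 D2227 (iv D1517) (iv F4782)
theorem F6900 : act 7 n2227 = n2227 := d27_2 D1515 D2227 (iv D2227) (iv D1515) F3294
def n2228 : Q := act 2 n1516
theorem D2228 : act 2 n1516 = n2228 := rfl
theorem F6901 : act 0 n2228 = n1529 := d1_1 D2228 (iv D1529) (iv F4783)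
theorem F6902 : act 3 n2228 = n1577 := d13_2 D1516 D2228 (iv D1577) (iv D1067) (iv F3296)
theorem F6903 : act 7 n2228 = n1518 := d17_2 (iv F4784) D2228 (iv D1518)
def n2229 : Q := act 4 n1516
theorem D2229 : act 4 n1516 = n2229 := rfl
theorem F6904 : act 0 n2229 = n1530 := d3_1 D2229 (iv D1530) (iv F4783)
theorem F6905 : act 7 n2229 = n1519 := d24_2 (iv F4784) D2229 (iv D1519)
def n2230 : Q := act 6 n1516
theorem D2230 : act 6 n1516 = n2230 := rfl
theorem F6906 : act 0 n2230 = n1531 := d5_1 D2230 (iv D1531) (iv F4783)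
theorem F6907 : act 3 n2230 = n1517 := d20_1 D2230 (iv D1517) D1516
def n2231 : Q := act 5 n1517
theorem D2231 : act 5 n1517 = n2231 := rfl
theorem F6908 : act 0 n2231 = n1532 := d4_1 D2231 (iv D1532) (iv F4785)
theorem F6909 : act 2 n2231 = n1579 := d15_1 D2231 (iv D1579) (iv F4786)
theorem F6910 : act 7 n2231 = n2231 := d26_2 F4787 D2231 (iv D2231)
def n2232 : Q := act 1 n1518
theorem D2232 : act 1 n1518 = n2232 := rfl
theorem F6911 : act 3 n2232 = n1522 := d8_2 (iv F4789) D2232 (iv D1522)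
def n2233 : Q := act 4 n1518
theorem D2233 : act 4 n1518 = n2233 := rfl
theorem F6912 : act 0 n2233 = n1534 := d3_1 D2233 (iv D1534) (iv F4788)
theorem F6913 : act 2 n2233 = n1519 := d14_1 D2233 (iv D1519) D1518
def n2234 : Q := act 6 n1518
theorem D2234 : act 6 n1518 = n2234 := rfl
theorem F6914 : act 0 n2234 = n1535 := d5_1 D2234 (iv D1535) (iv F4788)
theorem F6915 : act 2 n2234 = n1520 := d16_1 D2234 (iv D1520) D1518
theorem F6916 : act 3 n2234 = n1524 := d20_1 D2234 (iv D1524) (iv F4789)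
def n2235 : Q := act 6 n1519
theorem D2235 : act 6 n1519 = n2235 := rfl
theorem F6917 : act 0 n2235 = n1536 := d5_1 D2235 (iv D1536) (iv F4790)
theorem F6918 : act 3 n2235 = n2235 := d20_1 D2235 (iv D2235) F4791
theorem F6919 : act 4 n2235 = n1520 := d23_1 D2235 (iv D1520) D1519
theorem F6920 : act 5 n1659 = n2235 := d22_0 F6919 (iv F6778) F6777
theorem F6921 : act 7 n1665 = n2235 := d24_0 F6919 F6775 F6774
def n2236 : Q := act 1 n1521
theorem D2236 : act 1 n1521 = n2236 := rfl
theorem F6922 : act 4 n2236 = n2236 := d9_2 F4796 D2236 (iv D2236)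
theorem F6923 : act 7 n2236 = n2236 := d12_2 F4797 D2236 (iv D2236)
def n2237 : Q := act 0 n1522
theorem D2237 : act 0 n1522 = n2237 := rfl
theorem F6924 : act 1 n2237 = n1537 := d0_2 D1522 D2237 (iv D1537) (iv D1037) (iv F3302)
theorem F6925 : act 2 n2237 = n2237 := d1_2 F4798 D2237 (iv D2237)
theorem F6926 : act 7 n2237 = n1581 := d6_2 (iv F4799) D2237 (iv D1581)
def n2238 : Q := act 4 n1522
theorem D2238 : act 4 n1522 = n2238 := rfl
theorem F6927 : act 1 n2238 = n1523 := d9_1 D2238 (iv D1523) D1522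
theorem F6928 : act 2 n2238 = n2238 := d14_1 D2238 (iv D2238) F4798
theorem F6929 : act 7 n2238 = n1582 := d24_2 (iv F4799) D2238 (iv D1582)
theorem F6930 : act 6 n2237 = n2238 := d11_0 F6927 (iv F4836) (iv F6924)
def n2239 : Q := act 5 n1522
theorem D2239 : act 5 n1522 = n2239 := rfl
theorem F6931 : act 2 n2239 = n2239 := d15_1 D2239 (iv D2239) F4798
theorem F6932 : act 7 n2239 = n1583 := d26_2 (iv F4799) D2239 (iv D1583)
def n2240 : Q := act 6 n1522
theorem D2240 : act 6 n1522 = n2240 := rfl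
theorem F6933 : act 0 n2240 = n2238 := d5_1 D2240 (iv F6930) (iv D2237)
theorem F6934 : act 1 n2240 = n1524 := d11_1 D2240 (iv D1524) D1522
theorem F6935 : act 2 n2240 = n2240 := d16_1 D2240 (iv D2240) F4798
theorem F6936 : act 4 n2240 = n2237 := d23_1 D2240 F6930 (iv D2238)
def n2241 : Q := act 3 n1523
theorem D2241 : act 3 n1523 = n2241 := rfl
theorem F6937 : act 0 n2241 = n1539 := d2_1 D2241 (iv D1539) (iv F4800)
theorem F6938 : act 2 n2241 = n2241 := d13_1 D2241 (iv D2241) F4801 F3306 (iv F4801)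
def n2242 : Q := act 5 n1524
theorem D2242 : act 5 n1524 = n2242 := rfl
theorem F6939 : act 0 n2242 = n1540 := d4_1 D2242 (iv D1540) (iv F4803)
theorem F6940 : act 2 n2242 = n1525 := d15_1 D2242 (iv D1525) (iv F4804)
def n2243 : Q := act 1 n1525
theorem D2243 : act 1 n1525 = n2243 := rfl
theorem F6941 : act 3 n2243 = n1526 := d8_2 (iv F4806) D2243 (iv D1526)
theorem F6942 : act 5 n2243 = n2243 := d10_2 D1525 D2243 (iv D2243) (iv D1525) F3309
def n2244 : Q := act 0 n1526
theorem D2244 : act 0 n1526 = n2244 := rfl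
theorem F6943 : act 1 n2244 = n1541 := d0_2 D1526 D2244 (iv D1541) (iv D1041) (iv F3311)
theorem F6944 : act 4 n2244 = n2244 := d3_2 F4807 D2244 (iv D2244)
theorem F6945 : act 5 n2244 = n2244 := d4_2 F4808 D2244 (iv D2244)
theorem F6946 : act 7 n2244 = n2244 := d6_2 F4809 D2244 (iv D2244)
def n2245 : Q := act 2 n1526
theorem D2245 : act 2 n1526 = n2245 := rfl
theorem F6947 : act 4 n2245 = n2245 := d14_2 F4807 D2245 (iv D2245)
theorem F6948 : act 5 n2245 = n2245 := d15_2 F4808 D2245 (iv D2245)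
theorem F6949 : act 7 n2245 = n2245 := d17_2 F4809 D2245 (iv D2245)
def n2246 : Q := act 2 n1527
theorem D2246 : act 2 n1527 = n2246 := rfl
theorem F6950 : act 3 n2246 = n1590 := d13_2 D1527 D2246 (iv D1590) (iv D1077) (iv F3315)
theorem F6951 : act 5 n2246 = n1959 := d15_2 F6299 D2246 F6301
theorem F6952 : act 7 n2246 = n2246 := d17_2 F4811 D2246 (iv D2246)
theorem F6953 : act 1 n1968 = n2246 := d10_5 F6951 F6109 F4241 (iv F4251) D1968
theorem F6954 : act 4 n1960 = n2246 := d22_3 F6951 (iv D1959) D1960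
def n2247 : Q := act 4 n1527
theorem D2247 : act 4 n1527 = n2247 := rfl
theorem F6955 : act 1 n2247 = n2247 := d9_1 D2247 (iv D2247) F4810
theorem F6956 : act 2 n2247 = n1960 := d14_1 D2247 F6954 (iv D2246)
theorem F6957 : act 3 n2247 = n1530 := d18_1 D2247 (iv D1530) (iv D1031) (iv F3316) D1527
theorem F6958 : act 5 n2247 = n1952 := d22_2 F6299 D2247 F6302
theorem F6959 : act 7 n2247 = n2247 := d24_2 F4811 D2247 (iv D2247)
def n2248 : Q := act 6 n1527
theorem D2248 : act 6 n1527 = n2248 := rfl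
theorem F6960 : act 1 n2248 = n2248 := d11_1 D2248 (iv D2248) F4810
theorem F6961 : act 3 n2248 = n1528 := d20_1 D2248 (iv D1528) D1527
def n2249 : Q := act 5 n1528
theorem D2249 : act 5 n1528 = n2249 := rfl
theorem F6962 : act 2 n2249 = n1592 := d15_1 D2249 (iv D1592) (iv F4813)
theorem F6963 : act 4 n2249 = n1532 := d22_1 D2249 (iv D1532) (iv F4814)
theorem F6964 : act 7 n2249 = n2249 := d26_2 F4815 D2249 (iv D2249)
def n2250 : Q := act 1 n1529
theorem D2250 : act 1 n1529 = n2250 := rfl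
theorem F6965 : act 2 n2250 = n2250 := d7_2 D1529 D2250 (iv D2250) (iv D1529) F3317
theorem F6966 : act 3 n2250 = n1593 := d8_2 (iv F4816) D2250 (iv D1593)
theorem F6967 : act 7 n2250 = n1533 := d12_2 (iv F4817) D2250 (iv D1533)
def n2251 : Q := act 4 n1529
theorem D2251 : act 4 n1529 = n2251 := rfl
theorem F6968 : act 2 n2251 = n1530 := d14_1 D2251 (iv D1530) D1529
theorem F6969 : act 3 n2251 = n2045 := d18_1 D2251 F6764 (iv D2185) F4655 (iv F4816)
theorem F6970 : act 5 n2251 = n2036 := d22_2 F6306 D2251 (iv F6317)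
theorem F6971 : act 7 n2251 = n1534 := d24_2 (iv F4817) D2251 (iv D1534)
def n2252 : Q := act 6 n1529
theorem D2252 : act 6 n1529 = n2252 := rfl
theorem F6972 : act 2 n2252 = n1531 := d16_1 D2252 (iv D1531) D1529
theorem F6973 : act 3 n2252 = n1594 := d20_1 D2252 (iv D1594) (iv F4816)
def n2253 : Q := act 6 n1530
theorem D2253 : act 6 n1530 = n2253 := rfl
theorem F6974 : act 1 n2253 = n2253 := d11_1 D2253 (iv D2253) F4818
theorem F6975 : act 4 n2253 = n1531 := d23_1 D2253 (iv D1531) D1530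
theorem F6976 : act 7 n2253 = n1666 := d27_2 (iv F4819) D2253 (iv D1666) F4833 (iv D1536)
def n2254 : Q := act 0 n1533
theorem D2254 : act 0 n1533 = n2254 := rfl
theorem F6977 : act 2 n2254 = n2254 := d1_2 F4824 D2254 (iv D2254)
theorem F6978 : act 3 n2254 = n1537 := d2_2 (iv F4825) D2254 (iv D1537)
theorem F6979 : act 6 n2254 = n2241 := d5_2 F4842 D2254 F6937
def n2255 : Q := act 4 n1533
theorem D2255 : act 4 n1533 = n2255 := rfl
theorem F6980 : act 1 n2255 = n1534 := d9_1 D2255 (iv D1534) D1533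
theorem F6981 : act 2 n2255 = n2255 := d14_1 D2255 (iv D2255) F4824
theorem F6982 : act 5 n2250 = n2255 := d10_0 F6980 (iv F6320) F6318 F6306 D2250
def n2256 : Q := act 5 n1533
theorem D2256 : act 5 n1533 = n2256 := rfl
theorem F6983 : act 1 n2256 = n2251 := d10_1 D2256 F6970 (iv D2036) F4358 D1533
theorem F6984 : act 2 n2256 = n2256 := d15_1 D2256 (iv D2256) F4824
theorem F6985 : act 3 n2256 = n1538 := d19_1 D2256 (iv D1538) (iv F4825)
theorem F6986 : act 4 n2256 = n2250 := d22_1 D2256 F6982 (iv D2255)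
theorem F6987 : act 7 n2256 = n2255 := d26_2 F6967 D2256 (iv F6982)
def n2257 : Q := act 3 n1534
theorem D2257 : act 3 n1534 = n2257 := rfl
theorem F6988 : act 2 n2257 = n2257 := d13_1 D2257 (iv D2257) F4826 F3324 (iv F4826)
theorem F6989 : act 4 n2257 = n1539 := d18_2 D1534 D2257 (iv D1539) (iv D1038) (iv F3322)
theorem F6990 : act 5 n2257 = n2171 := d19_2 F6320 D2257 F6716
theorem F6991 : act 7 n2257 = n2176 := d21_2 F6971 D2257 F6732 (iv F6343) (iv F6969)
theorem F6992 : act 6 n2255 = n2257 := d29_4 D1031 D1529 D2250 F6982 F6990 (iv D2171) (iv D1468) (iv D982) (iv D656) (iv D431) (iv D232) (iv D125) (iv D66) (iv D34) D33 F130 F131 (iv F233) (iv F1418) F230 (iv D61) F128 F81 D38 D73 D138 D256 D462 D698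
def n2258 : Q := act 6 n1534
theorem D2258 : act 6 n1534 = n2258 := rfl
theorem F6993 : act 1 n2258 = n2257 := d11_1 D2258 (iv F6992) F6980
theorem F6994 : act 2 n2258 = n1536 := d16_1 D2258 (iv D1536) (iv F4826)
theorem F6995 : act 3 n2258 = n2255 := d20_1 D2258 F6992 (iv D2257)
theorem F6996 : act 4 n2258 = n1535 := d23_1 D2258 (iv D1535) D1534
theorem F6997 : act 5 n2258 = n1593 := d29_5 D1372 D2032 (iv F6318) F6320 D2258 (iv D1593) (iv D1079) (iv D727) (iv D484) (iv D267) (iv D144) (iv D76) (iv D40) (iv D20) F44 (iv F68) F69 D32 D64 F239 F1415 F232 (iv D62) D63 D120 D223 D413 D623 D922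
theorem F6998 : act 7 n1598 = n2258 := d26_0 F6997 F4985 D1598
def n2259 : Q := act 5 n1537
theorem D2259 : act 5 n1537 = n2259 := rfl
theorem F6999 : act 0 n2259 = n1538 := d4_1 D2259 (iv D1538) D1537
theorem F7000 : act 2 n2259 = n1543 := d15_1 D2259 (iv D1543) (iv F4834)
theorem F7001 : act 4 n2259 = n2242 := d22_1 D2259 (iv D2242) (iv F4835)
theorem F7002 : act 7 n2259 = n1600 := d26_2 (iv F4837) D2259 (iv D1600)
def n2260 : Q := act 6 n1538
theorem D2260 : act 6 n1538 = n2260 := rfl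
theorem F7003 : act 2 n2260 = n1544 := d16_1 D2260 (iv D1544) (iv F4838)
theorem F7004 : act 4 n2260 = n2049 := d23_1 D2260 F6353 F4844
theorem F7005 : act 5 n2260 = n2048 := d25_1 D2260 (iv D2048) F4368 (iv F3334) D1538
def n2261 : Q := act 7 n1539
theorem D2261 : act 7 n1539 = n2261 := rfl
theorem F7006 : act 1 n2261 = n2183 := d12_1 D2261 (iv F6754) (iv F4840)
theorem F7007 : act 2 n2261 = n2261 := d17_1 D2261 (iv D2261) F4841
theorem F7008 : act 3 n2261 = n1606 := d21_1 D2261 (iv D1606) (iv D1087) (iv F3333) D1539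
theorem F7009 : act 4 n2261 = n2176 := d24_1 D2261 (iv F6991) F6989
theorem F7010 : act 5 n2261 = n1607 := d26_1 D2261 (iv F6348) F6347
def n2262 : Q := act 2 n1541
theorem D2262 : act 2 n1541 = n2262 := rfl
theorem F7011 : act 0 n2262 = n1542 := d1_1 D2262 (iv D1542) D1541
theorem F7012 : act 4 n2262 = n2262 := d14_2 F4845 D2262 (iv D2262)
theorem F7013 : act 5 n2262 = n1545 := d15_2 (iv F4846) D2262 (iv D1545)
theorem F7014 : act 7 n2262 = n2262 := d17_2 F4847 D2262 (iv D2262)
def n2263 : Q := act 1 n1543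
theorem D2263 : act 1 n1543 = n2263 := rfl
theorem F7015 : act 0 n2263 = n1548 := d0_1 D2263 (iv D1548) F3363 (iv F3347) (iv F4851)
theorem F7016 : act 3 n2263 = n2263 := d8_2 F4852 D2263 (iv D2263)
theorem F7017 : act 4 n2263 = n2243 := d9_2 (iv F4853) D2263 (iv D2243)
theorem F7018 : act 5 n2263 = n2263 := d10_2 D1543 D2263 (iv D2263) (iv D1543) F3342
theorem F7019 : act 7 n2263 = n1610 := d12_2 (iv F4854) D2263 (iv D1610)
def n2264 : Q := act 6 n1543
theorem D2264 : act 6 n1543 = n2264 := rfl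
theorem F7020 : act 0 n2264 = n1544 := d5_1 D2264 (iv D1544) (iv F4851)
theorem F7021 : act 3 n2264 = n2264 := d20_1 D2264 (iv D2264) F4852
theorem F7022 : act 4 n2264 = n2027 := d23_1 D2264 F6292 (iv F4853)
theorem F7023 : act 5 n2264 = n2026 := d25_1 D2264 (iv D2026) F4344 (iv F3345) D1543
def n2265 : Q := act 1 n1545
theorem D2265 : act 1 n1545 = n2265 := rfl
theorem F7024 : act 0 n2265 = n2265 := d0_1 D2265 (iv D2265) F4859 F3355 (iv F4859)
theorem F7025 : act 2 n2265 = n2265 := d7_2 D1545 D2265 (iv D2265) (iv D1545) F3351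
theorem F7026 : act 4 n2265 = n2265 := d9_2 F4860 D2265 (iv D2265)
theorem F7027 : act 6 n2265 = n1556 := d11_2 (iv F4861) D2265 (iv D1556)
theorem F7028 : act 7 n2265 = n2265 := d12_2 F4862 D2265 (iv D2265)
def n2266 : Q := act 3 n1545
theorem D2266 : act 3 n1545 = n2266 := rfl
theorem F7029 : act 0 n2266 = n1546 := d2_1 D2266 (iv D1546) (iv F4859)
theorem F7030 : act 2 n2266 = n2070 := d13_1 D2266 (iv D2070) F4420 (iv F3362) D1545
theorem F7031 : act 6 n2266 = n1557 := d20_2 (iv F4861) D2266 (iv D1557)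
def n2267 : Q := act 4 n1546
theorem D2267 : act 4 n1546 = n2267 := rfl
theorem F7032 : act 1 n2267 = n2267 := d9_1 D2267 (iv D2267) F4863
theorem F7033 : act 2 n2267 = n1967 := d14_1 D2267 F6132 (iv F4864)
theorem F7034 : act 3 n2267 = n2267 := d18_1 D2267 (iv D2267) (iv D1546) F3356 D1546
theorem F7035 : act 5 n2267 = n1655 := d22_2 F6602 D2267 (iv F6601)
theorem F7036 : act 6 n2267 = n1558 := d23_2 (iv F4865) D2267 (iv D1558)
theorem F7037 : act 7 n2267 = n1694 := d24_2 F6598 D2267 (iv F6597)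
def n2268 : Q := act 1 n1547
theorem D2268 : act 1 n1547 = n2268 := rfl
theorem F7038 : act 0 n2268 = n2243 := d0_1 D2268 (iv D2243) F4805 (iv F3370) (iv F4866)
theorem F7039 : act 3 n2268 = n2244 := d8_2 (iv F4867) D2268 F6943
theorem F7040 : act 4 n2268 = n1548 := d9_2 (iv F4868) D2268 (iv D1548)
theorem F7041 : act 5 n2268 = n2268 := d10_2 D1547 D2268 (iv D2268) (iv D1547) F3360
theorem F7042 : act 7 n2268 = n1616 := d12_2 (iv F4869) D2268 (iv D1616)
def n2269 : Q := act 6 n1547
theorem D2269 : act 6 n1547 = n2269 := rfl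
theorem F7043 : act 0 n2269 = n1551 := d5_1 D2269 (iv D1551) (iv F4866)
theorem F7044 : act 3 n2269 = n2052 := d20_1 D2269 F6361 (iv F4867)
theorem F7045 : act 4 n2269 = n1549 := d23_1 D2269 (iv D1549) (iv F4868)
theorem F7046 : act 5 n2269 = n2065 := d25_1 D2269 F6395 F4449 F3382 D1547
def n2270 : Q := act 2 n1548
theorem D2270 : act 2 n1548 = n2270 := rfl
theorem F7047 : act 5 n2270 = n2270 := d15_2 F4871 D2270 (iv D2270)
theorem F7048 : act 7 n2270 = n1618 := d17_2 (iv F4872) D2270 (iv D1618)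
def n2271 : Q := act 6 n1548
theorem D2271 : act 6 n1548 = n2271 := rfl
theorem F7049 : act 1 n2271 = n1549 := d11_1 D2271 (iv D1549) D1548
theorem F7050 : act 3 n2271 = n2271 := d20_1 D2271 (iv D2271) F4870
def n2272 : Q := act 5 n1549
theorem D2272 : act 5 n1549 = n2272 := rfl
theorem F7051 : act 0 n2272 = n1552 := d4_1 D2272 (iv D1552) (iv F4873)
theorem F7052 : act 3 n2272 = n2272 := d19_1 D2272 (iv D2272) F4874
theorem F7053 : act 4 n2272 = n2065 := d22_1 D2272 (iv F7046) F7045
theorem F7054 : act 6 n2272 = n1550 := d25_2 D1549 D2272 (iv D1550) (iv D1048) D1047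
def n2273 : Q := act 7 n1549
theorem D2273 : act 7 n1549 = n2273 := rfl
theorem F7055 : act 0 n2273 = n1553 := d6_1 D2273 (iv D1553) (iv F4873)
theorem F7056 : act 6 n2273 = n1620 := d27_1 D2273 (iv D1620) (iv D1099) (iv F3365) D1549
def n2274 : Q := act 1 n1550
theorem D2274 : act 1 n1550 = n2274 := rfl
theorem F7057 : act 0 n2274 = n1818 := d0_1 D2274 (iv D1818) F3882 (iv F3375) (iv F4875)
theorem F7058 : act 3 n2274 = n2274 := d8_2 F4876 D2274 (iv D2274)
theorem F7059 : act 4 n2274 = n1819 := d9_2 (iv F4877) D2274 F5654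
theorem F7060 : act 5 n2274 = n2274 := d10_2 D1550 D2274 (iv D2274) (iv D1550) F3367
theorem F7061 : act 7 n2274 = n2274 := d12_2 F4878 D2274 (iv D2274)
def n2275 : Q := act 7 n1551
theorem D2275 : act 7 n1551 = n2275 := rfl
theorem F7062 : act 1 n2275 = n2051 := d12_1 D2275 (iv D2051) (iv F4879)
theorem F7063 : act 4 n2275 = n1553 := d24_1 D2275 (iv D1553) (iv F4881)
theorem F7064 : act 5 n2275 = n2067 := d26_1 D2275 (iv D2067) (iv F4882)
theorem F7065 : act 6 n2275 = n1621 := d27_1 D2275 (iv D1621) (iv D1100) (iv F3373) D1551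
def n2276 : Q := act 1 n1554
theorem D2276 : act 1 n1554 = n2276 := rfl
theorem F7066 : act 0 n2276 = n1811 := d0_1 D2276 F5628 F3874 (iv F3384) (iv F4888)
theorem F7067 : act 2 n2276 = n2276 := d7_2 D1554 D2276 (iv D2276) (iv D1554) F3379
theorem F7068 : act 4 n2276 = n1808 := d9_2 (iv F4889) D2276 F5620
theorem F7069 : act 6 n2276 = n1806 := d11_2 (iv F4890) D2276 F5613
theorem F7070 : act 7 n2276 = n2276 := d12_2 F4891 D2276 (iv D2276)
def n2277 : Q := act 3 n1554
theorem D2277 : act 3 n1554 = n2277 := rfl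
theorem F7071 : act 0 n2277 = n1555 := d2_1 D2277 (iv D1555) (iv F4888)
theorem F7072 : act 2 n2277 = n1557 := d13_1 D2277 (iv D1557) (iv D1054) (iv F3380) D1554
theorem F7073 : act 6 n2277 = n2070 := d20_2 (iv F4890) D2277 (iv D2070)
def n2278 : Q := act 7 n1555
theorem D2278 : act 7 n1555 = n2278 := rfl
theorem F7074 : act 1 n2278 = n2082 := d12_1 D2278 (iv D2082) (iv F4892)
theorem F7075 : act 2 n2278 = n1559 := d17_1 D2278 (iv D1559) (iv F4893)
theorem F7076 : act 3 n2278 = n2278 := d21_1 D2278 (iv D2278) (iv D1555) F3387 D1555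
def n2279 : Q := act 3 n1556
theorem D2279 : act 3 n1556 = n2279 := rfl
theorem F7077 : act 0 n2279 = n2279 := d2_1 D2279 (iv D2279) F4895
theorem F7078 : act 1 n2279 = n1557 := d8_1 D2279 (iv D1557) D1556
def n2280 : Q := act 5 n1556
theorem D2280 : act 5 n1556 = n2280 := rfl
theorem F7079 : act 0 n2280 = n2280 := d4_1 D2280 (iv D2280) F4895
theorem F7080 : act 2 n2280 = n2280 := d15_1 D2280 (iv D2280) F4896
theorem F7081 : act 4 n2280 = n2280 := d22_1 D2280 (iv D2280) F4897
theorem F7082 : act 7 n2280 = n1561 := d26_2 (iv F4898) D2280 (iv D1561)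
def n2281 : Q := act 4 n1557
theorem D2281 : act 4 n1557 = n2281 := rfl
theorem F7083 : act 0 n2281 = n1558 := d3_1 D2281 (iv D1558) (iv F4899)
theorem F7084 : act 3 n2281 = n2281 := d18_1 D2281 (iv D2281) (iv D1557) F3389 D1557
def n2282 : Q := act 7 n1557
theorem D2282 : act 7 n1557 = n2282 := rfl
theorem F7085 : act 0 n2282 = n1559 := d6_1 D2282 (iv D1559) (iv F4899)
theorem F7086 : act 3 n2282 = n1563 := d21_1 D2282 (iv D1563) (iv D1057) (iv F3390) D1557
def n2283 : Q := act 7 n1558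
theorem D2283 : act 7 n1558 = n2283 := rfl
theorem F7087 : act 1 n2283 = n2283 := d12_1 D2283 (iv D2283) F4900
theorem F7088 : act 4 n2283 = n1559 := d24_1 D2283 (iv D1559) D1558
def n2284 : Q := act 6 n1559
theorem D2284 : act 6 n1559 = n2284 := rfl
theorem F7089 : act 1 n2284 = n2284 := d11_1 D2284 (iv D2284) F4902
theorem F7090 : act 3 n2284 = n1565 := d20_1 D2284 (iv D1565) (iv F4903)
def n2285 : Q := act 2 n1560
theorem D2285 : act 2 n1560 = n2285 := rfl
theorem F7091 : act 0 n2285 = n2285 := d1_1 D2285 (iv D2285) F4904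
theorem F7092 : act 1 n2285 = n2285 := d7_1 D2285 (iv D2285) F4905 F3397 (iv F4905)
theorem F7093 : act 3 n2285 = n2285 := d13_2 D1560 D2285 (iv D2285) (iv D1560) F3393
theorem F7094 : act 6 n2285 = n2285 := d16_2 F4906 D2285 (iv D2285)
def n2286 : Q := act 4 n1560
theorem D2286 : act 4 n1560 = n2286 := rfl
theorem F7095 : act 0 n2286 = n2286 := d3_1 D2286 (iv D2286) F4904
theorem F7096 : act 1 n2286 = n1562 := d9_1 D2286 (iv D1562) (iv F4905)
theorem F7097 : act 3 n2286 = n2286 := d18_1 D2286 (iv D2286) (iv D1560) F3394 D1560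
theorem F7098 : act 6 n2286 = n2286 := d23_2 F4906 D2286 (iv D2286)
def n2287 : Q := act 5 n1560
theorem D2287 : act 5 n1560 = n2287 := rfl
theorem F7099 : act 0 n2287 = n2287 := d4_1 D2287 (iv D2287) F4904
theorem F7100 : act 3 n2287 = n1561 := d19_1 D2287 (iv D1561) D1560
def n2288 : Q := act 7 n1560
theorem D2288 : act 7 n1560 = n2288 := rfl
theorem F7101 : act 0 n2288 = n2288 := d6_1 D2288 (iv D2288) F4904
theorem F7102 : act 1 n2288 = n1563 := d12_1 D2288 (iv D1563) (iv F4905)
def n2289 : Q := act 6 n1561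
theorem D2289 : act 6 n1561 = n2289 := rfl
theorem F7103 : act 0 n2289 = n2289 := d5_1 D2289 (iv D2289) F4907
theorem F7104 : act 2 n2289 = n2289 := d16_1 D2289 (iv D2289) F4908
theorem F7105 : act 4 n2289 = n2289 := d23_1 D2289 (iv D2289) F4909
theorem F7106 : act 5 n2289 = n2289 := d25_1 D2289 (iv D2289) (iv D1561) F3395 D1561
def n2290 : Q := act 7 n1562
theorem D2290 : act 7 n1562 = n2290 := rfl
theorem F7107 : act 0 n2290 = n1564 := d6_1 D2290 (iv D1564) (iv F4910)
theorem F7108 : act 2 n2290 = n2290 := d17_1 D2290 (iv D2290) F4911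
theorem F7109 : act 4 n2290 = n1563 := d24_1 D2290 (iv D1563) D1562
def n2291 : Q := act 6 n1563
theorem D2291 : act 6 n1563 = n2291 := rfl
theorem F7110 : act 0 n2291 = n1565 := d5_1 D2291 (iv D1565) (iv F4914)
theorem F7111 : act 2 n2291 = n2291 := d16_1 D2291 (iv D2291) F4915
theorem F7112 : act 7 n2291 = n2291 := d27_2 D1563 D2291 (iv D2291) (iv D1563) F3398
def n2292 : Q := act 3 n1564
theorem D2292 : act 3 n1564 = n2292 := rfl
theorem F7113 : act 1 n2292 = n2292 := d8_1 D2292 (iv D2292) F4916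
theorem F7114 : act 7 n2292 = n2292 := d21_2 D1564 D2292 (iv D2292) (iv D1564) F3401
def n2293 : Q := act 6 n1564
theorem D2293 : act 6 n1564 = n2293 := rfl
theorem F7115 : act 1 n2293 = n2293 := d11_1 D2293 (iv D2293) F4916
theorem F7116 : act 2 n2293 = n2293 := d16_1 D2293 (iv D2293) F4917
theorem F7117 : act 4 n2293 = n1565 := d23_1 D2293 (iv D1565) (iv F4918)
theorem F7118 : act 7 n2293 = n2293 := d27_2 D1564 D2293 (iv D2293) (iv D1564) F3402
def n2294 : Q := act 5 n1565
theorem D2294 : act 5 n1565 = n2294 := rfl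
theorem F7119 : act 2 n2294 = n2294 := d15_1 D2294 (iv D2294) F4920
theorem F7120 : act 7 n2294 = n2294 := d26_2 F4921 D2294 (iv D2294)
def n2295 : Q := act 7 n1566
theorem D2295 : act 7 n1566 = n2295 := rfl
theorem F7121 : act 0 n2295 = n1626 := d6_1 D2295 (iv D1626) (iv F4922)
theorem F7122 : act 2 n2295 = n1569 := d17_1 D2295 (iv D1569) (iv F4923)
theorem F7123 : act 4 n2295 = n1568 := d24_1 D2295 (iv D1568) D1566
def n2296 : Q := act 1 n1567
theorem D2296 : act 1 n1567 = n2296 := rfl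
theorem F7124 : act 3 n2296 = n2296 := d8_2 F4927 D2296 (iv D2296)
def n2297 : Q := act 7 n1567
theorem D2297 : act 7 n1567 = n2297 := rfl
theorem F7125 : act 0 n2297 = n1628 := d6_1 D2297 (iv D1628) (iv F4925)
theorem F7126 : act 2 n2297 = n1570 := d17_1 D2297 (iv D1570) (iv F4926)
theorem F7127 : act 5 n2297 = n1568 := d26_1 D2297 (iv D1568) D1567
def n2298 : Q := act 3 n1568
theorem D2298 : act 3 n1568 = n2298 := rfl
theorem F7128 : act 0 n2298 = n1629 := d2_1 D2298 (iv D1629) (iv F4928)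
theorem F7129 : act 7 n2298 = n2298 := d21_2 D1568 D2298 (iv D2298) (iv D1568) F3406
def n2299 : Q := act 6 n1568
theorem D2299 : act 6 n1568 = n2299 := rfl
theorem F7130 : act 0 n2299 = n1630 := d5_1 D2299 (iv D1630) (iv F4928)
theorem F7131 : act 2 n2299 = n1572 := d16_1 D2299 (iv D1572) (iv F4929)
theorem F7132 : act 7 n2299 = n2299 := d27_2 D1568 D2299 (iv D2299) (iv D1568) F3407
def n2300 : Q := act 3 n1569
theorem D2300 : act 3 n1569 = n2300 := rfl
theorem F7133 : act 0 n2300 = n1631 := d2_1 D2300 (iv D1631) (iv F4930)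
theorem F7134 : act 1 n2300 = n1575 := d8_1 D2300 (iv D1575) (iv F4931)
theorem F7135 : act 7 n2300 = n1623 := d21_2 D1569 D2300 (iv D1623) (iv D1102) (iv F3410)
def n2301 : Q := act 6 n1569
theorem D2301 : act 6 n1569 = n2301 := rfl
theorem F7136 : act 0 n2301 = n1632 := d5_1 D2301 (iv D1632) (iv F4930)
theorem F7137 : act 1 n2301 = n1576 := d11_1 D2301 (iv D1576) (iv F4931)
theorem F7138 : act 4 n2301 = n1572 := d23_1 D2301 (iv D1572) (iv F4932)
theorem F7139 : act 7 n2301 = n2301 := d27_2 D1569 D2301 (iv D2301) (iv D1569) F3411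
def n2302 : Q := act 3 n1570
theorem D2302 : act 3 n1570 = n2302 := rfl
theorem F7140 : act 0 n2302 = n1633 := d2_1 D2302 (iv D1633) (iv F4933)
theorem F7141 : act 5 n2302 = n1571 := d19_2 (iv F4934) D2302 (iv D1571)
theorem F7142 : act 7 n2302 = n1573 := d21_2 D1570 D2302 (iv D1573) (iv D1064) (iv F3413)
def n2303 : Q := act 6 n1570
theorem D2303 : act 6 n1570 = n2303 := rfl
theorem F7143 : act 0 n2303 = n1634 := d5_1 D2303 (iv D1634) (iv F4933)
def n2304 : Q := act 2 n1571
theorem D2304 : act 2 n1571 = n2304 := rfl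
theorem F7144 : act 0 n2304 = n1635 := d1_1 D2304 (iv D1635) (iv F4935)
theorem F7145 : act 7 n2304 = n1574 := d17_2 (iv F4937) D2304 (iv D1574)
def n2305 : Q := act 6 n1571
theorem D2305 : act 6 n1571 = n2305 := rfl
theorem F7146 : act 0 n2305 = n1636 := d5_1 D2305 (iv D1636) (iv F4935)
theorem F7147 : act 1 n2305 = n1578 := d11_1 D2305 (iv D1578) (iv F4936)
theorem F7148 : act 3 n2305 = n1572 := d20_1 D2305 (iv D1572) D1571
def n2306 : Q := act 5 n1572
theorem D2306 : act 5 n1572 = n2306 := rfl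
theorem F7149 : act 0 n2306 = n1637 := d4_1 D2306 (iv D1637) (iv F4938)
theorem F7150 : act 7 n2306 = n2306 := d26_2 F4940 D2306 (iv D2306)
def n2307 : Q := act 2 n1573
theorem D2307 : act 2 n1573 = n2307 := rfl
theorem F7151 : act 0 n2307 = n1638 := d1_1 D2307 (iv D1638) (iv F4941)
theorem F7152 : act 3 n2307 = n2307 := d13_2 D1573 D2307 (iv D2307) (iv D1573) F3417
theorem F7153 : act 5 n2307 = n1574 := d15_2 (iv F4942) D2307 (iv D1574)
theorem F7154 : act 6 n2307 = n2307 := d16_2 F4943 D2307 (iv D2307)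
def n2308 : Q := act 1 n1574
theorem D2308 : act 1 n1574 = n2308 := rfl
theorem F7155 : act 2 n2308 = n1580 := d7_2 D1574 D2308 (iv D1580) (iv D1069) (iv F3422)
theorem F7156 : act 3 n2308 = n2308 := d8_2 F4945 D2308 (iv D2308)
def n2309 : Q := act 2 n1575
theorem D2309 : act 2 n1575 = n2309 := rfl
theorem F7157 : act 0 n2309 = n1590 := d1_1 D2309 (iv D1590) (iv F4946)
theorem F7158 : act 7 n2309 = n1624 := d17_2 (iv F4947) D2309 (iv D1624)
def n2310 : Q := act 6 n1575
theorem D2310 : act 6 n1575 = n2310 := rfl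
theorem F7159 : act 0 n2310 = n1591 := d5_1 D2310 (iv D1591) (iv F4946)
theorem F7160 : act 3 n2310 = n1576 := d20_1 D2310 (iv D1576) D1575
def n2311 : Q := act 5 n1576
theorem D2311 : act 5 n1576 = n2311 := rfl
theorem F7161 : act 0 n2311 = n1592 := d4_1 D2311 (iv D1592) (iv F4948)
theorem F7162 : act 4 n2311 = n1579 := d22_1 D2311 (iv D1579) (iv F4949)
theorem F7163 : act 7 n2311 = n2311 := d26_2 F4950 D2311 (iv D2311)
def n2312 : Q := act 1 n1577
theorem D2312 : act 1 n1577 = n2312 := rfl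
theorem F7164 : act 7 n2312 = n1580 := d12_2 (iv F4952) D2312 (iv D1580)
def n2313 : Q := act 6 n1577
theorem D2313 : act 6 n1577 = n2313 := rfl
theorem F7165 : act 0 n2313 = n1594 := d5_1 D2313 (iv D1594) (iv F4951)
theorem F7166 : act 2 n2313 = n1578 := d16_1 D2313 (iv D1578) D1577
def n2314 : Q := act 5 n1578
theorem D2314 : act 5 n1578 = n2314 := rfl
theorem F7167 : act 0 n2314 = n1595 := d4_1 D2314 (iv D1595) (iv F4953)
theorem F7168 : act 3 n2314 = n1579 := d19_1 D2314 (iv D1579) (iv F4954)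
theorem F7169 : act 7 n2314 = n2264 := d26_2 F6289 D2314 F7023
def n2315 : Q := act 1 n1579
theorem D2315 : act 1 n1579 = n2315 := rfl
theorem F7170 : act 7 n2315 = n2315 := d12_2 F4956 D2315 (iv D2315)
def n2316 : Q := act 0 n1580
theorem D2316 : act 0 n1580 = n2316 := rfl
theorem F7171 : act 1 n2316 = n1597 := d0_2 D1580 D2316 (iv D1597) (iv D1082) (iv F3429)
theorem F7172 : act 3 n2316 = n1581 := d2_2 (iv F4957) D2316 (iv D1581)
def n2317 : Q := act 5 n1580
theorem D2317 : act 5 n1580 = n2317 := rfl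
theorem F7173 : act 3 n2317 = n1583 := d19_1 D2317 (iv D1583) (iv F4957)
def n2318 : Q := act 4 n1581
theorem D2318 : act 4 n1581 = n2318 := rfl
theorem F7174 : act 0 n2318 = n1582 := d3_1 D2318 (iv D1582) D1581
theorem F7175 : act 1 n2318 = n1599 := d9_1 D2318 (iv D1599) (iv F4958)
theorem F7176 : act 2 n2318 = n2318 := d14_1 D2318 (iv D2318) F4959
theorem F7177 : act 7 n2318 = n2240 := d24_2 F6926 D2318 F6936
def n2319 : Q := act 5 n1581
theorem D2319 : act 5 n1581 = n2319 := rfl
theorem F7178 : act 0 n2319 = n1583 := d4_1 D2319 (iv D1583) D1581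
theorem F7179 : act 2 n2319 = n2319 := d15_1 D2319 (iv D2319) F4959
def n2320 : Q := act 6 n1581
theorem D2320 : act 6 n1581 = n2320 := rfl
theorem F7180 : act 0 n2320 = n1584 := d5_1 D2320 (iv D1584) D1581
theorem F7181 : act 1 n2320 = n1601 := d11_1 D2320 (iv D1601) (iv F4958)
theorem F7182 : act 2 n2320 = n2320 := d16_1 D2320 (iv D2320) F4959
def n2321 : Q := act 3 n1582
theorem D2321 : act 3 n1582 = n2321 := rfl
theorem F7183 : act 1 n2321 = n1585 := d8_1 D2321 (iv D1585) (iv F4960)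
def n2322 : Q := act 5 n1582
theorem D2322 : act 5 n1582 = n2322 := rfl
theorem F7184 : act 2 n2322 = n2322 := d15_1 D2322 (iv D2322) F4961
theorem F7185 : act 4 n2322 = n1583 := d22_1 D2322 (iv D1583) D1582
def n2323 : Q := act 6 n1582
theorem D2323 : act 6 n1582 = n2323 := rfl
theorem F7186 : act 1 n2323 = n1586 := d11_1 D2323 (iv D1586) (iv F4960)
theorem F7187 : act 2 n2323 = n2323 := d16_1 D2323 (iv D2323) F4961
theorem F7188 : act 4 n2323 = n1584 := d23_1 D2323 (iv D1584) D1582
theorem F7189 : act 7 n2323 = n2320 := d27_2 F6929 D2323 (iv D2320) (iv F6926) F6930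
def n2324 : Q := act 6 n1583
theorem D2324 : act 6 n1583 = n2324 := rfl
theorem F7190 : act 2 n2324 = n2324 := d16_1 D2324 (iv D2324) F4962
def n2325 : Q := act 5 n1584
theorem D2325 : act 5 n1584 = n2325 := rfl
theorem F7191 : act 2 n2325 = n2325 := d15_1 D2325 (iv D2325) F4964
def n2326 : Q := act 7 n1584
theorem D2326 : act 7 n1584 = n2326 := rfl
theorem F7192 : act 0 n2326 = n2323 := d6_1 D2326 F7189 F7180
theorem F7193 : act 1 n2326 = n1587 := d12_1 D2326 (iv D1587) (iv F4963)
theorem F7194 : act 2 n2326 = n2326 := d17_1 D2326 (iv D2326) F4964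
theorem F7195 : act 4 n2326 = n2320 := d24_1 D2326 (iv F7189) F7188
theorem F7196 : act 6 n2326 = n2318 := d27_1 D2326 F7177 (iv D2240) F4799 D1584
def n2327 : Q := act 7 n1585
theorem D2327 : act 7 n1585 = n2327 := rfl
theorem F7197 : act 0 n2327 = n1606 := d6_1 D2327 (iv D1606) (iv F4965)
theorem F7198 : act 2 n2327 = n1589 := d17_1 D2327 (iv D1589) (iv F4966)
theorem F7199 : act 5 n2327 = n1587 := d26_1 D2327 (iv D1587) (iv F4967)
def n2328 : Q := act 3 n1587
theorem D2328 : act 3 n1587 = n2328 := rfl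
theorem F7200 : act 0 n2328 = n1607 := d2_1 D2328 (iv D1607) (iv F4971)
theorem F7201 : act 2 n2328 = n2328 := d13_1 D2328 (iv D2328) F4972 F3444 (iv F4972)
theorem F7202 : act 4 n2328 = n2175 := d18_2 F5005 D2328 F6729 D2178 (iv F6739)
def n2329 : Q := act 2 n1588
theorem D2329 : act 2 n1588 = n2329 := rfl
theorem F7203 : act 0 n2329 = n2329 := d1_1 D2329 (iv D2329) F4973
theorem F7204 : act 3 n2329 = n2329 := d13_2 (iv F4974) D2329 (iv D2329) F4974 F3446
theorem F7205 : act 5 n2329 = n2329 := d15_2 F4975 D2329 (iv D2329)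
def n2330 : Q := act 7 n1588
theorem D2330 : act 7 n1588 = n2330 := rfl
theorem F7206 : act 0 n2330 = n2330 := d6_1 D2330 (iv D2330) F4973
theorem F7207 : act 1 n2330 = n1589 := d12_1 D2330 (iv D1589) D1588
theorem F7208 : act 3 n2330 = n2330 := d21_1 D2330 (iv D2330) F4974 F3449 (iv F4974)
theorem F7209 : act 5 n2330 = n2330 := d26_1 D2330 (iv D2330) F4975
def n2331 : Q := act 6 n1589
theorem D2331 : act 6 n1589 = n2331 := rfl
theorem F7210 : act 0 n2331 = n1608 := d5_1 D2331 (iv D1608) (iv F4976)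
theorem F7211 : act 3 n2331 = n2331 := d20_1 D2331 (iv D2331) F4977
def n2332 : Q := act 1 n1590
theorem D2332 : act 1 n1590 = n2332 := rfl
theorem F7212 : act 2 n2332 = n1655 := d7_2 D1590 D2332 (iv D1655) (iv D1125) (iv F3450)
theorem F7213 : act 3 n2332 = n1968 := d8_2 F6950 D2332 F6953
theorem F7214 : act 4 n2332 = n2075 := d9_2 F6574 D2332 (iv F6571)
theorem F7215 : act 5 n2332 = n1967 := d10_2 F6707 D2332 F6131 (iv F6118) F6709
theorem F7216 : act 7 n2332 = n1625 := d12_2 (iv F4979) D2332 (iv D1625)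
def n2333 : Q := act 6 n1590
theorem D2333 : act 6 n1590 = n2333 := rfl
theorem F7217 : act 2 n2333 = n1591 := d16_1 D2333 (iv D1591) D1590
def n2334 : Q := act 5 n1591
theorem D2334 : act 5 n1591 = n2334 := rfl
theorem F7218 : act 3 n2334 = n1592 := d19_1 D2334 (iv D1592) (iv F4981)
def n2335 : Q := act 1 n1592
theorem D2335 : act 1 n1592 = n2335 := rfl
theorem F7219 : act 4 n2335 = n1596 := d9_2 (iv F4982) D2335 (iv D1596)
theorem F7220 : act 5 n2335 = n1658 := d10_2 D1592 D2335 (iv D1658) (iv D1127) (iv F3452)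
theorem F7221 : act 7 n2335 = n2335 := d12_2 F4983 D2335 (iv D2335)
def n2336 : Q := act 0 n1593
theorem D2336 : act 0 n1593 = n2336 := rfl
theorem F7222 : act 2 n2336 = n1659 := d1_2 (iv F4984) D2336 (iv D1659)
theorem F7223 : act 7 n2336 = n1597 := d6_2 (iv F4985) D2336 (iv D1597)
def n2337 : Q := act 6 n1593
theorem D2337 : act 6 n1593 = n2337 := rfl
theorem F7224 : act 1 n2337 = n1594 := d11_1 D2337 (iv D1594) D1593
theorem F7225 : act 2 n2337 = n1660 := d16_1 D2337 (iv D1660) (iv F4984)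
def n2338 : Q := act 5 n1594
theorem D2338 : act 5 n1594 = n2338 := rfl
theorem F7226 : act 2 n2338 = n1595 := d15_1 D2338 (iv D1595) (iv F4986)
theorem F7227 : act 7 n2338 = n2260 := d26_2 F6351 D2338 F7005
def n2339 : Q := act 0 n1596
theorem D2339 : act 0 n1596 = n2339 := rfl
theorem F7228 : act 3 n2339 = n2273 := d2_2 (iv F4990) D2339 F7055
theorem F7229 : act 5 n2339 = n1663 := d4_2 (iv F4991) D2339 (iv D1663)
theorem F7230 : act 7 n2339 = n2339 := d6_2 F4992 D2339 (iv D2339)
def n2340 : Q := act 2 n1596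
theorem D2340 : act 2 n1596 = n2340 := rfl
theorem F7231 : act 5 n2340 = n1664 := d15_2 (iv F4991) D2340 (iv D1664)
theorem F7232 : act 7 n2340 = n2340 := d17_2 F4992 D2340 (iv D2340)
def n2341 : Q := act 5 n1597
theorem D2341 : act 5 n1597 = n2341 := rfl
theorem F7233 : act 0 n2341 = n1598 := d4_1 D2341 (iv D1598) D1597
theorem F7234 : act 2 n2341 = n1665 := d15_1 D2341 (iv D1665) (iv F4993)
theorem F7235 : act 3 n2341 = n1600 := d19_1 D2341 (iv D1600) (iv F4994)
def n2342 : Q := act 6 n1598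
theorem D2342 : act 6 n1598 = n2342 := rfl
theorem F7236 : act 2 n2342 = n1666 := d16_1 D2342 (iv D1666) (iv F4995)
theorem F7237 : act 3 n2342 = n1604 := d20_1 D2342 (iv D1604) (iv F4996)
def n2343 : Q := act 3 n1599
theorem D2343 : act 3 n1599 = n2343 := rfl
theorem F7238 : act 0 n2343 = n1602 := d2_1 D2343 (iv D1602) (iv F4997)
theorem F7239 : act 2 n2343 = n2343 := d13_1 D2343 (iv D2343) F4998 F3482 (iv F4998)
theorem F7240 : act 6 n2343 = n2328 := d20_2 F5000 D2343 (iv D2328)
def n2344 : Q := act 5 n1599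
theorem D2344 : act 5 n1599 = n2344 := rfl
theorem F7241 : act 0 n2344 = n1603 := d4_1 D2344 (iv D1603) (iv F4997)
theorem F7242 : act 2 n2344 = n1609 := d15_1 D2344 (iv D1609) (iv F4998)
theorem F7243 : act 4 n2344 = n1600 := d22_1 D2344 (iv D1600) D1599
theorem F7244 : act 7 n2344 = n2242 := d26_2 (iv F4999) D2344 (iv D2242)
def n2345 : Q := act 1 n1600
theorem D2345 : act 1 n1600 = n2345 := rfl
def n2346 : Q := act 6 n1600
theorem D2346 : act 6 n1600 = n2346 := rfl
theorem F7245 : act 0 n2346 = n1604 := d5_1 D2346 (iv D1604) (iv F5001)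
theorem F7246 : act 2 n2346 = n1611 := d16_1 D2346 (iv D1611) (iv F5002)
def n2347 : Q := act 5 n1601
theorem D2347 : act 5 n1601 = n2347 := rfl
theorem F7247 : act 0 n2347 = n1605 := d4_1 D2347 (iv D1605) (iv F5003)
theorem F7248 : act 2 n2347 = n1612 := d15_1 D2347 (iv D1612) (iv F5004)
theorem F7249 : act 4 n2347 = n2327 := d22_1 D2347 F7199 (iv F5005)
theorem F7250 : act 7 n2347 = n2162 := d26_2 (iv F5006) D2347 F6694
def n2348 : Q := act 5 n1602
theorem D2348 : act 5 n1602 = n2348 := rfl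
theorem F7251 : act 1 n2348 = n1605 := d10_1 D2348 (iv D1605) F3466 (iv F3469) (iv F5007)
theorem F7252 : act 2 n2348 = n2348 := d15_1 D2348 (iv D2348) F5008
theorem F7253 : act 3 n2348 = n1603 := d19_1 D2348 (iv D1603) D1602
theorem F7254 : act 7 n2348 = n2177 := d31_1 D2348 F6736 F5008 (iv F5021) (iv D1607) (iv F5017) (iv D1606) (iv F4642) F4640 (iv D986) (iv D657) F1368 (iv D268) F491 (iv D80) F163 F162 (iv F257) D133 (iv F768) (iv F1366) D658 (iv F3171) F3173 (iv F2412) F2411 (iv F3474) F3476 D1602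
def n2349 : Q := act 7 n1602
theorem D2349 : act 7 n1602 = n2349 := rfl
theorem F7255 : act 1 n2349 = n1606 := d12_1 D2349 (iv D1606) (iv F5007)
theorem F7256 : act 2 n2349 = n2349 := d17_1 D2349 (iv D2349) F5008
theorem F7257 : act 3 n2349 = n2183 := d21_1 D2349 (iv F6754) F4828 (iv F3464) D1602
theorem F7258 : act 4 n2349 = n2348 := d24_1 D2349 F7254 F6736
theorem F7259 : act 5 n2349 = n2177 := d26_1 D2349 (iv F7254) (iv D2348)
def n2350 : Q := act 6 n1603
theorem D2350 : act 6 n1603 = n2350 := rfl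
theorem F7260 : act 2 n2350 = n1613 := d16_1 D2350 (iv D1613) (iv F5009)
theorem F7261 : act 4 n2350 = n1604 := d23_1 D2350 (iv D1604) (iv F5010)
def n2351 : Q := act 5 n1604
theorem D2351 : act 5 n1604 = n2351 := rfl
theorem F7262 : act 2 n2351 = n1614 := d15_1 D2351 (iv D1614) (iv F5012)
theorem F7263 : act 6 n2351 = n1605 := d25_2 D1604 D2351 (iv D1605) (iv D1086) D1085
theorem F7264 : act 7 n2173 = n2351 := d27_0 F7263 F5014 (iv D1474) (iv F4627) D2173
def n2352 : Q := act 7 n1604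
theorem D2352 : act 7 n1604 = n2352 := rfl
theorem F7265 : act 2 n2352 = n1615 := d17_1 D2352 (iv D1615) (iv F5012)
theorem F7266 : act 5 n2352 = n2173 := d26_1 D2352 F7264 (iv D2351)
theorem F7267 : act 6 n2352 = n2338 := d27_1 D2352 F7227 (iv D2260) F4839 D1604
def n2353 : Q := act 6 n1606
theorem D2353 : act 6 n1606 = n2353 := rfl
theorem F7268 : act 2 n2353 = n1608 := d16_1 D2353 (iv D1608) (iv F5015)
theorem F7269 : act 4 n2353 = n2351 := d23_1 D2353 F7263 (iv F5016)
theorem F7270 : act 5 n2353 = n2350 := d25_1 D2353 (iv D2350) (iv D1603) (iv F3476) (iv F5017)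
def n2354 : Q := act 1 n1609
theorem D2354 : act 1 n1609 = n2354 := rfl
theorem F7271 : act 0 n2354 = n1616 := d0_1 D2354 (iv D1616) F3502 (iv F3492) (iv F5024)
theorem F7272 : act 3 n2354 = n2354 := d8_2 F5025 D2354 (iv D2354)
theorem F7273 : act 4 n2354 = n1610 := d9_2 (iv F5026) D2354 (iv D1610)
theorem F7274 : act 5 n2354 = n2354 := d10_2 D1609 D2354 (iv D2354) (iv D1609) F3481
theorem F7275 : act 7 n2354 = n2243 := d12_2 (iv F5027) D2354 (iv D2243)
def n2355 : Q := act 6 n1609
theorem D2355 : act 6 n1609 = n2355 := rfl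
theorem F7276 : act 0 n2355 = n1613 := d5_1 D2355 (iv D1613) (iv F5024)
theorem F7277 : act 3 n2355 = n2355 := d20_1 D2355 (iv D2355) F5025
theorem F7278 : act 4 n2355 = n1611 := d23_1 D2355 (iv D1611) (iv F5026)
theorem F7279 : act 5 n2355 = n2331 := d25_1 D2355 (iv D2331) F4978 F3484 D1609
def n2356 : Q := act 2 n1610
theorem D2356 : act 2 n1610 = n2356 := rfl
theorem F7280 : act 0 n2356 = n1618 := d1_1 D2356 (iv D1618) (iv F5028)
theorem F7281 : act 5 n2356 = n2356 := d15_2 F5030 D2356 (iv D2356)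
def n2357 : Q := act 6 n1610
theorem D2357 : act 6 n1610 = n2357 := rfl
theorem F7282 : act 0 n2357 = n1619 := d5_1 D2357 (iv D1619) (iv F5028)
theorem F7283 : act 1 n2357 = n1611 := d11_1 D2357 (iv D1611) D1610
theorem F7284 : act 3 n2357 = n1677 := d20_1 D2357 (iv D1677) (iv F5029)
def n2358 : Q := act 5 n1611
theorem D2358 : act 5 n1611 = n2358 := rfl
theorem F7285 : act 0 n2358 = n1614 := d4_1 D2358 (iv D1614) (iv F5031)
theorem F7286 : act 3 n2358 = n1678 := d19_1 D2358 (iv D1678) (iv F5032)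
theorem F7287 : act 4 n2358 = n2331 := d22_1 D2358 (iv F7279) F7278
theorem F7288 : act 6 n2358 = n1612 := d25_2 D1611 D2358 (iv D1612) (iv D1093) D1092
theorem F7289 : act 7 n2158 = n2358 := d27_0 F7288 F5036 (iv D1460) (iv F4594) D2158
def n2359 : Q := act 7 n1611
theorem D2359 : act 7 n1611 = n2359 := rfl
theorem F7290 : act 0 n2359 = n1615 := d6_1 D2359 (iv D1615) (iv F5031)
theorem F7291 : act 5 n2359 = n2158 := d26_1 D2359 F7289 (iv D2358)
theorem F7292 : act 6 n2359 = n2314 := d27_1 D2359 F7169 (iv D2264) F4854 D1611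
theorem F7293 : act 3 n2159 = n2359 := d20_3 F7292 F7168 (iv F6683)
def n2360 : Q := act 1 n1612
theorem D2360 : act 1 n1612 = n2360 := rfl
theorem F7294 : act 0 n2360 = n2360 := d0_1 D2360 (iv D2360) F5033 F3498 (iv F5033)
theorem F7295 : act 3 n2360 = n1680 := d8_2 (iv F5034) D2360 (iv D1680)
theorem F7296 : act 4 n2360 = n2330 := d9_2 (iv F5035) D2360 F7207
theorem F7297 : act 5 n2360 = n2360 := d10_2 D1612 D2360 (iv D2360) (iv D1612) F3488
theorem F7298 : act 7 n2360 = n2153 := d12_2 (iv F5036) D2360 F6665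
def n2361 : Q := act 7 n1613
theorem D2361 : act 7 n1613 = n2361 := rfl
theorem F7299 : act 1 n2361 = n1621 := d12_1 D2361 (iv D1621) (iv F5037)
theorem F7300 : act 4 n2361 = n1615 := d24_1 D2361 (iv D1615) (iv F5039)
theorem F7301 : act 5 n2361 = n2174 := d26_1 D2361 F6727 (iv F5040)
theorem F7302 : act 6 n2361 = n2051 := d27_1 D2361 (iv D2051) F4376 (iv F3495) D1613
def n2362 : Q := act 2 n1616
theorem D2362 : act 2 n1616 = n2362 := rfl
theorem F7303 : act 4 n2362 = n1618 := d14_2 (iv F5051) D2362 (iv D1618)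
theorem F7304 : act 5 n2362 = n2362 := d15_2 F5052 D2362 (iv D2362)
def n2363 : Q := act 6 n1616
theorem D2363 : act 6 n1616 = n2363 := rfl
theorem F7305 : act 1 n2363 = n1617 := d11_1 D2363 (iv D1617) D1616
theorem F7306 : act 3 n2363 = n2363 := d20_1 D2363 (iv D2363) F5050
theorem F7307 : act 4 n2363 = n1619 := d23_1 D2363 (iv D1619) (iv F5051)
def n2364 : Q := act 7 n1617
theorem D2364 : act 7 n1617 = n2364 := rfl
theorem F7308 : act 0 n2364 = n1621 := d6_1 D2364 (iv D1621) (iv F5053)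
theorem F7309 : act 4 n2364 = n1620 := d24_1 D2364 (iv D1620) (iv F5055)
theorem F7310 : act 5 n2364 = n2364 := d26_1 D2364 (iv D2364) F5056
def n2365 : Q := act 3 n1618
theorem D2365 : act 3 n1618 = n2365 := rfl
theorem F7311 : act 2 n2365 = n1684 := d13_1 D2365 (iv D1684) (iv D1147) (iv F3505) D1618
theorem F7312 : act 5 n2365 = n2365 := d19_2 F5057 D2365 (iv D2365)
def n2366 : Q := act 6 n1618
theorem D2366 : act 6 n1618 = n2366 := rfl
theorem F7313 : act 2 n2366 = n1619 := d16_1 D2366 (iv D1619) D1618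
def n2367 : Q := act 5 n1619
theorem D2367 : act 5 n1619 = n2367 := rfl
theorem F7314 : act 1 n2367 = n2367 := d10_1 D2367 (iv D2367) F5058 F3509 (iv F5058)
theorem F7315 : act 3 n2367 = n1686 := d19_1 D2367 (iv D1686) (iv F5059)
theorem F7316 : act 6 n2367 = n2367 := d25_2 D1619 D2367 (iv D2367) (iv D1619) F3506
def n2368 : Q := act 7 n1619
theorem D2368 : act 7 n1619 = n2368 := rfl
theorem F7317 : act 1 n2368 = n1620 := d12_1 D2368 (iv D1620) (iv F5058)
def n2369 : Q := act 3 n1620
theorem D2369 : act 3 n1620 = n2369 := rfl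
theorem F7318 : act 0 n2369 = n1622 := d2_1 D2369 (iv D1622) (iv F5060)
theorem F7319 : act 5 n2369 = n2369 := d19_2 F5061 D2369 (iv D2369)
theorem F7320 : act 6 n2369 = n2339 := d20_2 F7056 D2369 F7228
theorem F7321 : act 7 n2369 = n1688 := d21_2 D1620 D2369 (iv D1688) (iv D1149) (iv F3508)
def n2370 : Q := act 3 n1621
theorem D2370 : act 3 n1621 = n2370 := rfl
theorem F7322 : act 5 n2370 = n2370 := d19_2 F5063 D2370 (iv D2370)
theorem F7323 : act 7 n2370 = n2370 := d21_2 D1621 D2370 (iv D2370) (iv D1621) F3510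
def n2371 : Q := act 2 n1622
theorem D2371 : act 2 n1622 = n2371 := rfl
theorem F7324 : act 5 n2371 = n2371 := d15_2 F5065 D2371 (iv D2371)
theorem F7325 : act 6 n2371 = n2340 := d16_2 (iv F5066) D2371 (iv D2340)
theorem F7326 : act 7 n2371 = n1689 := d17_2 (iv F5067) D2371 (iv D1689)
def n2372 : Q := act 4 n1622
theorem D2372 : act 4 n1622 = n2372 := rfl
theorem F7327 : act 1 n2372 = n2170 := d9_1 D2372 F6713 (iv F5064)
theorem F7328 : act 5 n2372 = n2372 := d22_2 F5065 D2372 (iv D2372)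
theorem F7329 : act 6 n2372 = n2335 := d23_2 (iv F5066) D2372 F7219
theorem F7330 : act 7 n2372 = n1690 := d24_2 (iv F5067) D2372 (iv D1690)
def n2373 : Q := act 2 n1623
theorem D2373 : act 2 n1623 = n2373 := rfl
theorem F7331 : act 0 n2373 = n1691 := d1_1 D2373 (iv D1691) (iv F5068)
def n2374 : Q := act 1 n1624
theorem D2374 : act 1 n1624 = n2374 := rfl
theorem F7332 : act 3 n2374 = n2374 := d8_2 F5071 D2374 (iv D2374)
def n2375 : Q := act 0 n1625
theorem D2375 : act 0 n1625 = n2375 := rfl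
theorem F7333 : act 2 n2375 = n1693 := d1_2 (iv F5072) D2375 (iv D1693)
theorem F7334 : act 3 n2375 = n2375 := d2_2 F5073 D2375 (iv D2375)
def n2376 : Q := act 5 n1625
theorem D2376 : act 5 n1625 = n2376 := rfl
theorem F7335 : act 1 n2376 = n1970 := d10_1 D2376 F6141 F5212 F4751 D1625
theorem F7336 : act 2 n2376 = n1694 := d15_1 D2376 (iv D1694) (iv F5072)
theorem F7337 : act 3 n2376 = n2376 := d19_1 D2376 (iv D2376) F5073
theorem F7338 : act 4 n2376 = n2076 := d22_1 D2376 F6569 F6568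
theorem F7339 : act 7 n2376 = n1967 := d26_2 F7216 D2376 (iv F7215)
def n2377 : Q := act 3 n1626
theorem D2377 : act 3 n1626 = n2377 := rfl
theorem F7340 : act 1 n2377 = n2377 := d8_1 D2377 (iv D2377) F5074
def n2378 : Q := act 6 n1626
theorem D2378 : act 6 n1626 = n2378 := rfl
theorem F7341 : act 1 n2378 = n2378 := d11_1 D2378 (iv D2378) F5074
theorem F7342 : act 2 n2378 = n1632 := d16_1 D2378 (iv D1632) (iv F5075)
theorem F7343 : act 4 n2378 = n1630 := d23_1 D2378 (iv D1630) (iv F5076)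
theorem F7344 : act 7 n2378 = n2378 := d27_2 D1626 D2378 (iv D2378) (iv D1626) F3525
def n2379 : Q := act 0 n1627
theorem D2379 : act 0 n1627 = n2379 := rfl
theorem F7345 : act 2 n2379 = n2379 := d1_2 F5077 D2379 (iv D2379)
theorem F7346 : act 3 n2379 = n2379 := d2_2 F5078 D2379 (iv D2379)
theorem F7347 : act 4 n2379 = n1824 := d3_2 (iv F5079) D2379 F5670
theorem F7348 : act 5 n2379 = n2379 := d4_2 F5080 D2379 (iv D2379)
def n2380 : Q := act 7 n1627
theorem D2380 : act 7 n1627 = n2380 := rfl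
theorem F7349 : act 1 n2380 = n1628 := d12_1 D2380 (iv D1628) D1627
theorem F7350 : act 2 n2380 = n2380 := d17_1 D2380 (iv D2380) F5077
theorem F7351 : act 4 n2380 = n1825 := d24_1 D2380 (iv D1825) (iv F5079)
theorem F7352 : act 5 n2380 = n2380 := d26_1 D2380 (iv D2380) F5080
def n2381 : Q := act 3 n1628
theorem D2381 : act 3 n1628 = n2381 := rfl
theorem F7353 : act 5 n2381 = n1629 := d19_2 (iv F5082) D2381 (iv D1629)
theorem F7354 : act 7 n2381 = n2381 := d21_2 D1628 D2381 (iv D2381) (iv D1628) F3527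
def n2382 : Q := act 6 n1628
theorem D2382 : act 6 n1628 = n2382 := rfl
theorem F7355 : act 2 n2382 = n1634 := d16_1 D2382 (iv D1634) (iv F5081)
def n2383 : Q := act 2 n1629
theorem D2383 : act 2 n1629 = n2383 := rfl
theorem F7356 : act 3 n2383 = n1635 := d13_2 D1629 D2383 (iv D1635) (iv D1111) (iv F3529)
theorem F7357 : act 7 n2383 = n2383 := d17_2 F5084 D2383 (iv D2383)
def n2384 : Q := act 4 n1629
theorem D2384 : act 4 n1629 = n2384 := rfl
theorem F7358 : act 1 n2384 = n2384 := d9_1 D2384 (iv D2384) F5083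
theorem F7359 : act 7 n2384 = n2384 := d24_2 F5084 D2384 (iv D2384)
def n2385 : Q := act 6 n1629
theorem D2385 : act 6 n1629 = n2385 := rfl
theorem F7360 : act 1 n2385 = n2385 := d11_1 D2385 (iv D2385) F5083
theorem F7361 : act 3 n2385 = n1630 := d20_1 D2385 (iv D1630) D1629
def n2386 : Q := act 5 n1630
theorem D2386 : act 5 n1630 = n2386 := rfl
theorem F7362 : act 2 n2386 = n1637 := d15_1 D2386 (iv D1637) (iv F5086)
theorem F7363 : act 7 n2386 = n2386 := d26_2 F5087 D2386 (iv D2386)
def n2387 : Q := act 2 n1631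
theorem D2387 : act 2 n1631 = n2387 := rfl
theorem F7364 : act 7 n2387 = n1691 := d17_2 (iv F5089) D2387 (iv D1691)
def n2388 : Q := act 6 n1631
theorem D2388 : act 6 n1631 = n2388 := rfl
theorem F7365 : act 1 n2388 = n1641 := d11_1 D2388 (iv D1641) (iv F5088)
theorem F7366 : act 3 n2388 = n1632 := d20_1 D2388 (iv D1632) D1631
def n2389 : Q := act 5 n1632
theorem D2389 : act 5 n1632 = n2389 := rfl
theorem F7367 : act 4 n2389 = n1637 := d22_1 D2389 (iv D1637) (iv F5091)
theorem F7368 : act 7 n2389 = n2389 := d26_2 F5092 D2389 (iv D2389)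
def n2390 : Q := act 2 n1633
theorem D2390 : act 2 n1633 = n2390 := rfl
theorem F7369 : act 5 n2390 = n1635 := d15_2 (iv F5094) D2390 (iv D1635)
theorem F7370 : act 7 n2390 = n1638 := d17_2 (iv F5095) D2390 (iv D1638)
def n2391 : Q := act 6 n1633
theorem D2391 : act 6 n1633 = n2391 := rfl
theorem F7371 : act 1 n2391 = n2391 := d11_1 D2391 (iv D2391) F5093
theorem F7372 : act 3 n2391 = n1634 := d20_1 D2391 (iv D1634) D1633
theorem F7373 : act 7 n2391 = n2391 := d27_2 (iv F5095) D2391 (iv D2391) F5095 F3540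
def n2392 : Q := act 5 n1634
theorem D2392 : act 5 n1634 = n2392 := rfl
theorem F7374 : act 6 n2392 = n1637 := d25_2 D1634 D2392 (iv D1637) (iv D1112) (iv F3533)
def n2393 : Q := act 1 n1635
theorem D2393 : act 1 n1635 = n2393 := rfl
theorem F7375 : act 2 n2393 = n1643 := d7_2 D1635 D2393 (iv D1643) (iv D1117) (iv F3534)
theorem F7376 : act 7 n2393 = n1639 := d12_2 (iv F5097) D2393 (iv D1639)
def n2394 : Q := act 6 n1635
theorem D2394 : act 6 n1635 = n2394 := rfl
theorem F7377 : act 2 n2394 = n1636 := d16_1 D2394 (iv D1636) D1635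
def n2395 : Q := act 5 n1636
theorem D2395 : act 5 n1636 = n2395 := rfl
theorem F7378 : act 3 n2395 = n1637 := d19_1 D2395 (iv D1637) (iv F5099)
def n2396 : Q := act 1 n1637
theorem D2396 : act 1 n1637 = n2396 := rfl
theorem F7379 : act 5 n2396 = n1646 := d10_2 D1637 D2396 (iv D1646) (iv D1119) (iv F3536)
theorem F7380 : act 7 n2396 = n2396 := d12_2 F5100 D2396 (iv D2396)
def n2397 : Q := act 1 n1638
theorem D2397 : act 1 n1638 = n2397 := rfl
theorem F7381 : act 2 n2397 = n2397 := d7_2 D1638 D2397 (iv D2397) (iv D1638) F3538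
theorem F7382 : act 3 n2397 = n2397 := d8_2 F5101 D2397 (iv D2397)
theorem F7383 : act 6 n2397 = n2397 := d11_2 F5103 D2397 (iv D2397)
def n2398 : Q := act 0 n1639
theorem D2398 : act 0 n1639 = n2398 := rfl
theorem F7384 : act 2 n2398 = n1647 := d1_2 (iv F5104) D2398 (iv D1647)
theorem F7385 : act 3 n2398 = n2398 := d2_2 F5105 D2398 (iv D2398)
def n2399 : Q := act 5 n1639
theorem D2399 : act 5 n1639 = n2399 := rfl
theorem F7386 : act 2 n2399 = n1648 := d15_1 D2399 (iv D1648) (iv F5104)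
theorem F7387 : act 3 n2399 = n2399 := d19_1 D2399 (iv D2399) F5105
def n2400 : Q := act 1 n1640
theorem D2400 : act 1 n1640 = n2400 := rfl
theorem F7388 : act 3 n2400 = n2400 := d8_2 F5107 D2400 (iv D2400)
theorem F7389 : act 7 n2400 = n1692 := d12_2 (iv F5109) D2400 (iv D1692)
def n2401 : Q := act 6 n1640
theorem D2401 : act 6 n1640 = n2401 := rfl
theorem F7390 : act 0 n2401 = n1656 := d5_1 D2401 (iv D1656) (iv F5106)
theorem F7391 : act 2 n2401 = n1641 := d16_1 D2401 (iv D1641) D1640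
theorem F7392 : act 3 n2401 = n2401 := d20_1 D2401 (iv D2401) F5107
def n2402 : Q := act 5 n1641
theorem D2402 : act 5 n1641 = n2402 := rfl
theorem F7393 : act 0 n2402 = n1657 := d4_1 D2402 (iv D1657) (iv F5110)
theorem F7394 : act 3 n2402 = n1642 := d19_1 D2402 (iv D1642) (iv F5111)
theorem F7395 : act 4 n2402 = n1733 := d22_1 D2402 (iv F5490) F5489
theorem F7396 : act 6 n2402 = n2402 := d25_2 D1641 D2402 (iv D2402) (iv D1641) F3543
theorem F7397 : act 7 n2402 = n1732 := d26_2 F5486 D2402 (iv F5485)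
def n2403 : Q := act 1 n1642
theorem D2403 : act 1 n1642 = n2403 := rfl
theorem F7398 : act 4 n2403 = n1646 := d9_2 (iv F5114) D2403 (iv D1646)
theorem F7399 : act 6 n2403 = n2403 := d11_2 F5115 D2403 (iv D2403)
theorem F7400 : act 7 n2403 = n2403 := d12_2 F5116 D2403 (iv D2403)
def n2404 : Q := act 0 n1643
theorem D2404 : act 0 n1643 = n2404 := rfl
theorem F7401 : act 1 n2404 = n1659 := d0_2 D1643 D2404 (iv D1659) (iv D1128) (iv F3549)
theorem F7402 : act 3 n2404 = n2404 := d2_2 F5117 D2404 (iv D2404)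
theorem F7403 : act 7 n2404 = n1647 := d6_2 (iv F5118) D2404 (iv D1647)
def n2405 : Q := act 5 n1643
theorem D2405 : act 5 n1643 = n2405 := rfl
theorem F7404 : act 1 n2405 = n2405 := d10_1 D2405 (iv D2405) (iv D1643) F3551 D1643
theorem F7405 : act 3 n2405 = n2405 := d19_1 D2405 (iv D2405) F5117
theorem F7406 : act 7 n2405 = n1648 := d26_2 (iv F5118) D2405 (iv D1648)
def n2406 : Q := act 6 n1643
theorem D2406 : act 6 n1643 = n2406 := rfl
theorem F7407 : act 1 n2406 = n1644 := d11_1 D2406 (iv D1644) D1643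
theorem F7408 : act 3 n2406 = n2406 := d20_1 D2406 (iv D2406) F5117
def n2407 : Q := act 5 n1644
theorem D2407 : act 5 n1644 = n2407 := rfl
theorem F7409 : act 0 n2407 = n1661 := d4_1 D2407 (iv D1661) (iv F5119)
theorem F7410 : act 2 n2407 = n1645 := d15_1 D2407 (iv D1645) (iv F5120)
theorem F7411 : act 3 n2407 = n2407 := d19_1 D2407 (iv D2407) F5121
theorem F7412 : act 6 n2407 = n2407 := d25_2 D1644 D2407 (iv D2407) (iv D1644) F3551
def n2408 : Q := act 1 n1645
theorem D2408 : act 1 n1645 = n2408 := rfl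
theorem F7413 : act 3 n2408 = n1646 := d8_2 (iv F5123) D2408 (iv D1646)
theorem F7414 : act 6 n2408 = n2408 := d11_2 F5124 D2408 (iv D2408)
def n2409 : Q := act 0 n1646
theorem D2409 : act 0 n1646 = n2409 := rfl
theorem F7415 : act 1 n2409 = n1663 := d0_2 D1646 D2409 (iv D1663) (iv D1131) (iv F3555)
theorem F7416 : act 6 n2409 = n2409 := d5_2 F5125 D2409 (iv D2409)
theorem F7417 : act 7 n2409 = n2409 := d6_2 F5126 D2409 (iv D2409)
def n2410 : Q := act 2 n1646
theorem D2410 : act 2 n1646 = n2410 := rfl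
theorem F7418 : act 1 n2410 = n2410 := d7_1 D2410 (iv D2410) (iv D1646) F3556 D1646
theorem F7419 : act 6 n2410 = n2410 := d16_2 F5125 D2410 (iv D2410)
theorem F7420 : act 7 n2410 = n2410 := d17_2 F5126 D2410 (iv D2410)
def n2411 : Q := act 5 n1647
theorem D2411 : act 5 n1647 = n2411 := rfl
theorem F7421 : act 0 n2411 = n1648 := d4_1 D2411 (iv D1648) D1647
theorem F7422 : act 3 n2411 = n1649 := d19_1 D2411 (iv D1649) (iv F5128)
def n2412 : Q := act 6 n1648
theorem D2412 : act 6 n1648 = n2412 := rfl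
theorem F7423 : act 1 n2412 = n2412 := d11_1 D2412 (iv D2412) F5129
theorem F7424 : act 3 n2412 = n1651 := d20_1 D2412 (iv D1651) (iv F5130)
def n2413 : Q := act 1 n1649
theorem D2413 : act 1 n1649 = n2413 := rfl
theorem F7425 : act 0 n2413 = n2413 := d0_1 D2413 (iv D2413) F5131 F3564 (iv F5131)
theorem F7426 : act 4 n2413 = n2413 := d9_2 F5133 D2413 (iv D2413)
theorem F7427 : act 5 n2413 = n1667 := d10_2 D1649 D2413 (iv D1667) (iv D1134) (iv F3560)
theorem F7428 : act 7 n2413 = n2413 := d12_2 F5134 D2413 (iv D2413)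
def n2414 : Q := act 6 n1649
theorem D2414 : act 6 n1649 = n2414 := rfl
theorem F7429 : act 0 n2414 = n1651 := d5_1 D2414 (iv D1651) (iv F5131)
theorem F7430 : act 2 n2414 = n2414 := d16_1 D2414 (iv D2414) F5132
theorem F7431 : act 4 n2414 = n2414 := d23_1 D2414 (iv D2414) F5133
def n2415 : Q := act 5 n1650
theorem D2415 : act 5 n1650 = n2415 := rfl
theorem F7432 : act 0 n2415 = n1652 := d4_1 D2415 (iv D1652) (iv F5135)
theorem F7433 : act 2 n2415 = n2415 := d15_1 D2415 (iv D2415) F5137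
theorem F7434 : act 4 n2415 = n2415 := d22_1 D2415 (iv D2415) F5138
def n2416 : Q := act 7 n1650
theorem D2416 : act 7 n1650 = n2416 := rfl
theorem F7435 : act 0 n2416 = n1653 := d6_1 D2416 (iv D1653) (iv F5135)
theorem F7436 : act 1 n2416 = n1670 := d12_1 D2416 (iv D1670) (iv F5136)
theorem F7437 : act 2 n2416 = n2416 := d17_1 D2416 (iv D2416) F5137
theorem F7438 : act 4 n2416 = n2416 := d24_1 D2416 (iv D2416) F5138
theorem F7439 : act 6 n2416 = n2416 := d27_1 D2416 (iv D2416) (iv D1650) F3563 D1650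
def n2417 : Q := act 5 n1651
theorem D2417 : act 5 n1651 = n2417 := rfl
theorem F7440 : act 2 n2417 = n2417 := d15_1 D2417 (iv D2417) F5140
theorem F7441 : act 4 n2417 = n2417 := d22_1 D2417 (iv D2417) F5141
theorem F7442 : act 6 n2417 = n1652 := d25_2 D1651 D2417 (iv D1652) (iv D1123) D1122
def n2418 : Q := act 7 n1651
theorem D2418 : act 7 n1651 = n2418 := rfl
theorem F7443 : act 1 n2418 = n2418 := d12_1 D2418 (iv D2418) F5139
theorem F7444 : act 2 n2418 = n2418 := d17_1 D2418 (iv D2418) F5140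
theorem F7445 : act 4 n2418 = n2418 := d24_1 D2418 (iv D2418) F5141
theorem F7446 : act 6 n2418 = n2418 := d27_1 D2418 (iv D2418) (iv D1651) F3567 D1651
def n2419 : Q := act 7 n1652
theorem D2419 : act 7 n1652 = n2419 := rfl
theorem F7447 : act 2 n2419 = n2419 := d17_1 D2419 (iv D2419) F5142
theorem F7448 : act 4 n2419 = n2419 := d24_1 D2419 (iv D2419) F5143
theorem F7449 : act 5 n2419 = n1653 := d26_1 D2419 (iv D1653) D1652
def n2420 : Q := act 3 n1653
theorem D2420 : act 3 n1653 = n2420 := rfl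
theorem F7450 : act 1 n2420 = n1654 := d8_1 D2420 (iv D1654) (iv F5144)
theorem F7451 : act 6 n2420 = n2420 := d20_2 F5147 D2420 (iv D2420)
def n2421 : Q := act 4 n1654
theorem D2421 : act 4 n1654 = n2421 := rfl
theorem F7452 : act 0 n2421 = n1675 := d3_1 D2421 (iv D1675) (iv F5148)
theorem F7453 : act 2 n2421 = n2421 := d14_1 D2421 (iv D2421) F5149
theorem F7454 : act 3 n2421 = n2421 := d18_1 D2421 (iv D2421) (iv D1654) F3573 D1654
theorem F7455 : act 6 n2421 = n2421 := d23_2 F5150 D2421 (iv D2421)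
def n2422 : Q := act 0 n1655
theorem D2422 : act 0 n1655 = n2422 := rfl
theorem F7456 : act 3 n2422 = n2422 := d2_2 F5151 D2422 (iv D2422)
theorem F7457 : act 7 n2422 = n1693 := d6_2 (iv F5152) D2422 (iv D1693)
def n2423 : Q := act 6 n1655
theorem D2423 : act 6 n1655 = n2423 := rfl
theorem F7458 : act 1 n2423 = n1656 := d11_1 D2423 (iv D1656) D1655
theorem F7459 : act 3 n2423 = n2423 := d20_1 D2423 (iv D2423) F5151
def n2424 : Q := act 5 n1656
theorem D2424 : act 5 n1656 = n2424 := rfl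
theorem F7460 : act 2 n2424 = n1657 := d15_1 D2424 (iv D1657) (iv F5153)
theorem F7461 : act 3 n2424 = n2424 := d19_1 D2424 (iv D2424) F5154
theorem F7462 : act 4 n2424 = n1964 := d22_1 D2424 (iv F6223) F6222
theorem F7463 : act 6 n2424 = n2424 := d25_2 D1656 D2424 (iv D2424) (iv D1656) F3576
theorem F7464 : act 7 n2424 = n1963 := d26_2 F6220 D2424 (iv F6219)
def n2425 : Q := act 1 n1657
theorem D2425 : act 1 n1657 = n2425 := rfl
theorem F7465 : act 3 n2425 = n1658 := d8_2 (iv F5155) D2425 (iv D1658)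
theorem F7466 : act 4 n2425 = n1957 := d9_2 (iv F5156) D2425 F6105
theorem F7467 : act 6 n2425 = n2425 := d11_2 F5157 D2425 (iv D2425)
theorem F7468 : act 7 n2425 = n1955 := d12_2 (iv F5158) D2425 F6100
def n2426 : Q := act 0 n1658
theorem D2426 : act 0 n1658 = n2426 := rfl
theorem F7469 : act 4 n2426 = n1663 := d3_2 (iv F5159) D2426 (iv D1663)
theorem F7470 : act 6 n2426 = n2426 := d5_2 F5160 D2426 (iv D2426)
theorem F7471 : act 7 n2426 = n2426 := d6_2 F5161 D2426 (iv D2426)
def n2427 : Q := act 2 n1658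
theorem D2427 : act 2 n1658 = n2427 := rfl
theorem F7472 : act 1 n2427 = n2427 := d7_1 D2427 (iv D2427) (iv D1658) F3579 D1658
theorem F7473 : act 4 n2427 = n1664 := d14_2 (iv F5159) D2427 (iv D1664)
theorem F7474 : act 6 n2427 = n2427 := d16_2 F5160 D2427 (iv D2427)
theorem F7475 : act 7 n2427 = n2427 := d17_2 F5161 D2427 (iv D2427)
def n2428 : Q := act 6 n1659
theorem D2428 : act 6 n1659 = n2428 := rfl
theorem F7476 : act 0 n2428 = n1660 := d5_1 D2428 (iv D1660) D1659
theorem F7477 : act 3 n2428 = n2428 := d20_1 D2428 (iv D2428) F5162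
def n2429 : Q := act 1 n1661
theorem D2429 : act 1 n1661 = n2429 := rfl
theorem F7478 : act 3 n2429 = n2429 := d8_2 F5167 D2429 (iv D2429)
theorem F7479 : act 6 n2429 = n2429 := d11_2 F5168 D2429 (iv D2429)
def n2430 : Q := act 0 n1662
theorem D2430 : act 0 n1662 = n2430 := rfl
theorem F7480 : act 3 n2430 = n1663 := d2_2 (iv F5169) D2430 (iv D1663)
theorem F7481 : act 5 n2430 = n2273 := d4_2 (iv F5170) D2430 F7055
theorem F7482 : act 6 n2430 = n2430 := d5_2 F5171 D2430 (iv D2430)
theorem F7483 : act 7 n2430 = n2272 := d6_2 (iv F5172) D2430 F7051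
def n2431 : Q := act 2 n1662
theorem D2431 : act 2 n1662 = n2431 := rfl
theorem F7484 : act 5 n2431 = n2079 := d15_2 (iv F5170) D2431 F6429
theorem F7485 : act 6 n2431 = n2431 := d16_2 F5171 D2431 (iv D2431)
theorem F7486 : act 7 n2431 = n2078 := d17_2 (iv F5172) D2431 F6425
def n2432 : Q := act 2 n1663
theorem D2432 : act 2 n1663 = n2432 := rfl
theorem F7487 : act 0 n2432 = n1664 := d1_1 D2432 (iv D1664) D1663
theorem F7488 : act 6 n2432 = n2432 := d16_2 F5173 D2432 (iv D2432)
theorem F7489 : act 7 n2432 = n2432 := d17_2 F5174 D2432 (iv D2432)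
def n2433 : Q := act 3 n1664
theorem D2433 : act 3 n1664 = n2433 := rfl
theorem F7490 : act 1 n2433 = n2433 := d8_1 D2433 (iv D2433) F5175
theorem F7491 : act 6 n2433 = n2433 := d20_2 F5176 D2433 (iv D2433)
def n2434 : Q := act 1 n1665
theorem D2434 : act 1 n1665 = n2434 := rfl
theorem F7492 : act 0 n2434 = n2434 := d0_1 D2434 (iv D2434) F5178 F3592 (iv F5178)
theorem F7493 : act 3 n2434 = n1667 := d8_2 (iv F5179) D2434 (iv D1667)
def n2435 : Q := act 6 n1665
theorem D2435 : act 6 n1665 = n2435 := rfl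
theorem F7494 : act 0 n2435 = n1666 := d5_1 D2435 (iv D1666) (iv F5178)
theorem F7495 : act 3 n2435 = n1668 := d20_1 D2435 (iv D1668) (iv F5179)
def n2436 : Q := act 2 n1667
theorem D2436 : act 2 n1667 = n2436 := rfl
theorem F7496 : act 0 n2436 = n2436 := d1_1 D2436 (iv D2436) F5182
theorem F7497 : act 1 n2436 = n1676 := d7_1 D2436 (iv D1676) (iv D1140) (iv F3595) D1667
theorem F7498 : act 4 n2436 = n2436 := d14_2 F5183 D2436 (iv D2436)
theorem F7499 : act 7 n2436 = n2436 := d17_2 F5184 D2436 (iv D2436)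
def n2437 : Q := act 6 n1667
theorem D2437 : act 6 n1667 = n2437 := rfl
theorem F7500 : act 0 n2437 = n2437 := d5_1 D2437 (iv D2437) F5182
theorem F7501 : act 1 n2437 = n1668 := d11_1 D2437 (iv D1668) D1667
theorem F7502 : act 4 n2437 = n2437 := d23_1 D2437 (iv D2437) F5183
def n2438 : Q := act 5 n1668
theorem D2438 : act 5 n1668 = n2438 := rfl
theorem F7503 : act 0 n2438 = n1671 := d4_1 D2438 (iv D1671) (iv F5185)
theorem F7504 : act 2 n2438 = n1678 := d15_1 D2438 (iv D1678) (iv F5186)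
theorem F7505 : act 4 n2438 = n2438 := d22_1 D2438 (iv D2438) F5187
theorem F7506 : act 6 n2438 = n1669 := d25_2 D1668 D2438 (iv D1669) (iv D1135) D1134
def n2439 : Q := act 7 n1668
theorem D2439 : act 7 n1668 = n2439 := rfl
theorem F7507 : act 0 n2439 = n1672 := d6_1 D2439 (iv D1672) (iv F5185)
theorem F7508 : act 2 n2439 = n1679 := d17_1 D2439 (iv D1679) (iv F5186)
theorem F7509 : act 4 n2439 = n2439 := d24_1 D2439 (iv D2439) F5187
theorem F7510 : act 6 n2439 = n2439 := d27_1 D2439 (iv D2439) (iv D1668) F3597 D1668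
def n2440 : Q := act 1 n1669
theorem D2440 : act 1 n1669 = n2440 := rfl
theorem F7511 : act 4 n2440 = n2440 := d9_2 F5190 D2440 (iv D2440)
def n2441 : Q := act 7 n1669
theorem D2441 : act 7 n1669 = n2441 := rfl
theorem F7512 : act 0 n2441 = n1673 := d6_1 D2441 (iv D1673) (iv F5188)
theorem F7513 : act 2 n2441 = n1681 := d17_1 D2441 (iv D1681) (iv F5189)
theorem F7514 : act 4 n2441 = n2441 := d24_1 D2441 (iv D2441) F5190
theorem F7515 : act 5 n2441 = n1670 := d26_1 D2441 (iv D1670) D1669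
theorem F7516 : act 3 n2112 = n2441 := d13_0 F7513 F5233 F4495 (iv F4506) (iv F6535)
theorem F7517 : act 6 n2109 = n2441 := d16_0 F7513 (iv F5236) D2109
def n2442 : Q := act 3 n1670
theorem D2442 : act 3 n1670 = n2442 := rfl
theorem F7518 : act 0 n2442 = n1674 := d2_1 D2442 (iv D1674) (iv F5191)
theorem F7519 : act 2 n2442 = n2113 := d13_1 D2442 F6538 F4509 (iv F3622) (iv F5192)
theorem F7520 : act 5 n2442 = n2112 := d19_2 F7515 D2442 F7516
theorem F7521 : act 6 n2442 = n2442 := d20_2 F5194 D2442 (iv D2442)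
theorem F7522 : act 4 n2209 = n2442 := d22_3 F7520 F6536 (iv F6845)
def n2443 : Q := act 7 n1671
theorem D2443 : act 7 n1671 = n2443 := rfl
theorem F7523 : act 2 n2443 = n1682 := d17_1 D2443 (iv D1682) (iv F5195)
theorem F7524 : act 4 n2443 = n2443 := d24_1 D2443 (iv D2443) F5196
theorem F7525 : act 5 n2443 = n1672 := d26_1 D2443 (iv D1672) D1671
theorem F7526 : act 6 n2443 = n2117 := d27_1 D2443 F6555 (iv F5206) (iv D1673) (iv F5197)
def n2444 : Q := act 3 n1672
theorem D2444 : act 3 n1672 = n2444 := rfl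
theorem F7527 : act 1 n2444 = n2444 := d8_1 D2444 (iv D2444) F5198
theorem F7528 : act 6 n2444 = n2444 := d20_2 F5201 D2444 (iv D2444)
def n2445 : Q := act 3 n1676
theorem D2445 : act 3 n1676 = n2445 := rfl
theorem F7529 : act 0 n2445 = n1684 := d2_1 D2445 (iv D1684) (iv F5216)
theorem F7530 : act 5 n2445 = n2445 := d19_2 F5218 D2445 (iv D2445)
def n2446 : Q := act 6 n1676
theorem D2446 : act 6 n1676 = n2446 := rfl
theorem F7531 : act 0 n2446 = n1685 := d5_1 D2446 (iv D1685) (iv F5216)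
theorem F7532 : act 2 n2446 = n1677 := d16_1 D2446 (iv D1677) D1676
theorem F7533 : act 4 n2446 = n2446 := d23_1 D2446 (iv D2446) F5217
def n2447 : Q := act 5 n1677
theorem D2447 : act 5 n1677 = n2447 := rfl
theorem F7534 : act 0 n2447 = n1686 := d4_1 D2447 (iv D1686) (iv F5220)
theorem F7535 : act 4 n2447 = n2447 := d22_1 D2447 (iv D2447) F5222
theorem F7536 : act 6 n2447 = n2447 := d25_2 D1677 D2447 (iv D2447) (iv D1677) F3614
def n2448 : Q := act 7 n1677
theorem D2448 : act 7 n1677 = n2448 := rfl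
theorem F7537 : act 0 n2448 = n1687 := d6_1 D2448 (iv D1687) (iv F5220)
theorem F7538 : act 1 n2448 = n1679 := d12_1 D2448 (iv D1679) (iv F5221)
theorem F7539 : act 4 n2448 = n2448 := d24_1 D2448 (iv D2448) F5222
theorem F7540 : act 6 n2448 = n2448 := d27_1 D2448 (iv D2448) (iv D1677) F3615 D1677
def n2449 : Q := act 1 n1678
theorem D2449 : act 1 n1678 = n2449 := rfl
theorem F7541 : act 0 n2449 = n2449 := d0_1 D2449 (iv D2449) F5223 F3625 (iv F5223)
theorem F7542 : act 4 n2449 = n2449 := d9_2 F5224 D2449 (iv D2449)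
theorem F7543 : act 6 n2449 = n1680 := d11_2 (iv F5225) D2449 (iv D1680)
def n2450 : Q := act 7 n1678
theorem D2450 : act 7 n1678 = n2450 := rfl
theorem F7544 : act 0 n2450 = n1682 := d6_1 D2450 (iv D1682) (iv F5223)
theorem F7545 : act 3 n2450 = n2108 := d21_1 D2450 F6524 (iv F6681) F7289 F7286
theorem F7546 : act 4 n2450 = n2450 := d24_1 D2450 (iv D2450) F5224
theorem F7547 : act 5 n2450 = n1679 := d26_1 D2450 (iv D1679) D1678
theorem F7548 : act 6 n2450 = n2107 := d27_1 D2450 F6522 F5236 (iv D1681) (iv F5225)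
def n2451 : Q := act 3 n1679
theorem D2451 : act 3 n1679 = n2451 := rfl
theorem F7549 : act 0 n2451 = n1683 := d2_1 D2451 (iv D1683) (iv F5226)
theorem F7550 : act 5 n2451 = n2108 := d19_2 F7547 D2451 (iv F7545)
theorem F7551 : act 6 n2451 = n2451 := d20_2 F5228 D2451 (iv D2451)
theorem F7552 : act 7 n2451 = n2159 := d21_2 D1679 D2451 F7293 (iv D2359) F5032
def n2452 : Q := act 2 n1680
theorem D2452 : act 2 n1680 = n2452 := rfl
theorem F7553 : act 0 n2452 = n2452 := d1_1 D2452 (iv D2452) F5229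
theorem F7554 : act 4 n2452 = n2452 := d14_2 F5230 D2452 (iv D2452)
theorem F7555 : act 5 n2452 = n2452 := d15_2 F5231 D2452 (iv D2452)
def n2453 : Q := act 7 n1680
theorem D2453 : act 7 n1680 = n2453 := rfl
theorem F7556 : act 0 n2453 = n2453 := d6_1 D2453 (iv D2453) F5229
theorem F7557 : act 1 n2453 = n1681 := d12_1 D2453 (iv D1681) D1680
theorem F7558 : act 3 n2453 = n2105 := d21_1 D2453 F6514 (iv F6666) (iv F7298) F7295
theorem F7559 : act 4 n2453 = n2453 := d24_1 D2453 (iv D2453) F5230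
theorem F7560 : act 5 n2453 = n2453 := d26_1 D2453 (iv D2453) F5231
theorem F7561 : act 6 n2104 = n2453 := d20_0 F7558 (iv D2105) D2104
def n2454 : Q := act 2 n1683
theorem D2454 : act 2 n1683 = n2454 := rfl
theorem F7562 : act 5 n2454 = n1984 := d15_2 (iv F5243) D2454 F6180
theorem F7563 : act 6 n2454 = n2454 := d16_2 F5244 D2454 (iv D2454)
theorem F7564 : act 7 n2454 = n2035 := d17_2 (iv F5245) D2454 F6313
def n2455 : Q := act 4 n1683
theorem D2455 : act 4 n1683 = n2455 := rfl
theorem F7565 : act 1 n2455 = n1690 := d9_1 D2455 (iv D1690) (iv F5242)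
theorem F7566 : act 3 n2455 = n2455 := d18_1 D2455 (iv D2455) (iv D1683) F3629 D1683
theorem F7567 : act 5 n2455 = n2116 := d22_2 (iv F5243) D2455 F6551
theorem F7568 : act 6 n2455 = n2455 := d23_2 F5244 D2455 (iv D2455)
theorem F7569 : act 7 n2455 = n2170 := d24_2 (iv F5245) D2455 F6713
def n2456 : Q := act 4 n1684
theorem D2456 : act 4 n1684 = n2456 := rfl
theorem F7570 : act 1 n2456 = n2456 := d9_1 D2456 (iv D2456) F5246
theorem F7571 : act 3 n2456 = n2456 := d18_1 D2456 (iv D2456) (iv D1684) F3637 D1684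
theorem F7572 : act 5 n2456 = n2456 := d22_2 F5247 D2456 (iv D2456)
def n2457 : Q := act 6 n1684
theorem D2457 : act 6 n1684 = n2457 := rfl
theorem F7573 : act 1 n2457 = n2457 := d11_1 D2457 (iv D2457) F5246
theorem F7574 : act 3 n2457 = n1685 := d20_1 D2457 (iv D1685) D1684
def n2458 : Q := act 7 n1684
theorem D2458 : act 7 n1684 = n2458 := rfl
theorem F7575 : act 1 n2458 = n2458 := d12_1 D2458 (iv D2458) F5246
theorem F7576 : act 3 n2458 = n2458 := d21_1 D2458 (iv D2458) (iv D1684) F3639 D1684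
theorem F7577 : act 5 n2458 = n2458 := d26_1 D2458 (iv D2458) F5247
def n2459 : Q := act 5 n1685
theorem D2459 : act 5 n1685 = n2459 := rfl
theorem F7578 : act 2 n2459 = n1686 := d15_1 D2459 (iv D1686) (iv F5249)
theorem F7579 : act 4 n2459 = n2459 := d22_1 D2459 (iv D2459) F5250
theorem F7580 : act 6 n2459 = n2459 := d25_2 D1685 D2459 (iv D2459) (iv D1685) F3638
def n2460 : Q := act 7 n1685
theorem D2460 : act 7 n1685 = n2460 := rfl
theorem F7581 : act 1 n2460 = n2460 := d12_1 D2460 (iv D2460) F5248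
theorem F7582 : act 2 n2460 = n1687 := d17_1 D2460 (iv D1687) (iv F5249)
theorem F7583 : act 4 n2460 = n2460 := d24_1 D2460 (iv D2460) F5250
theorem F7584 : act 6 n2460 = n2460 := d27_1 D2460 (iv D2460) (iv D1685) F3639 D1685
def n2461 : Q := act 7 n1686
theorem D2461 : act 7 n1686 = n2461 := rfl
theorem F7585 : act 1 n2461 = n2461 := d12_1 D2461 (iv D2461) F5251
theorem F7586 : act 4 n2461 = n2461 := d24_1 D2461 (iv D2461) F5252
theorem F7587 : act 5 n2461 = n1687 := d26_1 D2461 (iv D1687) D1686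
def n2462 : Q := act 3 n1687
theorem D2462 : act 3 n1687 = n2462 := rfl
theorem F7588 : act 1 n2462 = n1688 := d8_1 D2462 (iv D1688) (iv F5254)
theorem F7589 : act 6 n2462 = n2462 := d20_2 F5256 D2462 (iv D2462)
def n2463 : Q := act 2 n1688
theorem D2463 : act 2 n1688 = n2463 := rfl
theorem F7590 : act 0 n2463 = n1689 := d1_1 D2463 (iv D1689) (iv F5257)
theorem F7591 : act 3 n2463 = n2463 := d13_2 D1688 D2463 (iv D2463) (iv D1688) F3643
theorem F7592 : act 5 n2463 = n2463 := d15_2 F5258 D2463 (iv D2463)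
theorem F7593 : act 6 n2463 = n2463 := d16_2 F5259 D2463 (iv D2463)
def n2464 : Q := act 4 n1688
theorem D2464 : act 4 n1688 = n2464 := rfl
theorem F7594 : act 0 n2464 = n1690 := d3_1 D2464 (iv D1690) (iv F5257)
theorem F7595 : act 3 n2464 = n2464 := d18_1 D2464 (iv D2464) (iv D1688) F3644 D1688
theorem F7596 : act 5 n2464 = n2464 := d22_2 F5258 D2464 (iv D2464)
theorem F7597 : act 6 n2464 = n2464 := d23_2 F5259 D2464 (iv D2464)
def n2465 : Q := act 1 n1689
theorem D2465 : act 1 n1689 = n2465 := rfl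
theorem F7598 : act 3 n2465 = n2465 := d8_2 F5260 D2465 (iv D2465)
theorem F7599 : act 6 n2465 = n2465 := d11_2 F5262 D2465 (iv D2465)
def n2466 : Q := act 4 n1689
theorem D2466 : act 4 n1689 = n2466 := rfl
theorem F7600 : act 2 n2466 = n1690 := d14_1 D2466 (iv D1690) D1689
theorem F7601 : act 5 n2466 = n2466 := d22_2 F5261 D2466 (iv D2466)
theorem F7602 : act 6 n2466 = n2466 := d23_2 F5262 D2466 (iv D2466)
def n2467 : Q := act 1 n1691
theorem D2467 : act 1 n1691 = n2467 := rfl
theorem F7603 : act 2 n2467 = n1692 := d7_2 D1691 D2467 (iv D1692) (iv D1152) (iv F3649)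
def n2468 : Q := act 0 n1692
theorem D2468 : act 0 n1692 = n2468 := rfl
theorem F7604 : act 1 n2468 = n1693 := d0_2 D1692 D2468 (iv D1693) (iv D1153) (iv F3650)
theorem F7605 : act 3 n2468 = n1698 := d2_2 (iv F5266) D2468 (iv D1698)
def n2469 : Q := act 5 n1692
theorem D2469 : act 5 n1692 = n2469 := rfl
theorem F7606 : act 1 n2469 = n2469 := d10_1 D2469 (iv D2469) (iv D1692) F3652 D1692
theorem F7607 : act 3 n2469 = n1699 := d19_1 D2469 (iv D1699) (iv F5266)
def n2470 : Q := act 5 n1693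
theorem D2470 : act 5 n1693 = n2470 := rfl
theorem F7608 : act 0 n2470 = n1694 := d4_1 D2470 (iv D1694) D1693
theorem F7609 : act 3 n2470 = n1702 := d19_1 D2470 (iv D1702) (iv F5267)
def n2471 : Q := act 6 n1694
theorem D2471 : act 6 n1694 = n2471 := rfl
theorem F7610 : act 1 n2471 = n2471 := d11_1 D2471 (iv D2471) F5268
theorem F7611 : act 3 n2471 = n1704 := d20_1 D2471 (iv D1704) (iv F5269)
def n2472 : Q := act 0 n1695
theorem D2472 : act 0 n1695 = n2472 := rfl
theorem F7612 : act 1 n2472 = n2472 := d0_2 D1695 D2472 (iv D2472) (iv D1695) F3654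
theorem F7613 : act 2 n2472 = n1698 := d1_2 (iv F5270) D2472 (iv D1698)
theorem F7614 : act 4 n2472 = n2472 := d3_2 F5271 D2472 (iv D2472)
theorem F7615 : act 7 n2472 = n2472 := d6_2 F5272 D2472 (iv D2472)
def n2473 : Q := act 5 n1695
theorem D2473 : act 5 n1695 = n2473 := rfl
theorem F7616 : act 2 n2473 = n1699 := d15_1 D2473 (iv D1699) (iv F5270)
theorem F7617 : act 4 n2473 = n2473 := d22_1 D2473 (iv D2473) F5271
theorem F7618 : act 7 n2473 = n2473 := d26_2 F5272 D2473 (iv D2473)
def n2474 : Q := act 6 n1695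
theorem D2474 : act 6 n1695 = n2474 := rfl
theorem F7619 : act 1 n2474 = n1696 := d11_1 D2474 (iv D1696) D1695
theorem F7620 : act 2 n2474 = n1700 := d16_1 D2474 (iv D1700) (iv F5270)
theorem F7621 : act 4 n2474 = n2474 := d23_1 D2474 (iv D2474) F5271
def n2475 : Q := act 7 n1696
theorem D2475 : act 7 n1696 = n2475 := rfl
theorem F7622 : act 0 n2475 = n2475 := d6_1 D2475 (iv D2475) F5273
theorem F7623 : act 2 n2475 = n1697 := d17_1 D2475 (iv D1697) (iv F5274)
theorem F7624 : act 3 n2475 = n1899 := d21_1 D2475 F5918 (iv F5713) F5716 F5710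
theorem F7625 : act 4 n2475 = n2475 := d24_1 D2475 (iv D2475) F5275
theorem F7626 : act 5 n2475 = n2475 := d26_1 D2475 (iv D2475) F5276
theorem F7627 : act 6 n2475 = n2475 := d27_1 D2475 (iv D2475) (iv D1696) F3656 D1696
theorem F7628 : act 1 n1897 = n2475 := d8_3 F7624 (iv D1899) (iv F5908)
theorem F7629 : act 7 n2474 = n1897 := d12_0 F7628 (iv D2475) (iv F7619)
theorem F7630 : act 5 n1898 = n2474 := d26_3 F7629 (iv D1897) D1898
def n2476 : Q := act 5 n1698
theorem D2476 : act 5 n1698 = n2476 := rfl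
theorem F7631 : act 0 n2476 = n1699 := d4_1 D2476 (iv D1699) D1698
theorem F7632 : act 4 n2476 = n2476 := d22_1 D2476 (iv D2476) F5284
theorem F7633 : act 7 n2476 = n2476 := d26_2 F5285 D2476 (iv D2476)
def n2477 : Q := act 6 n1698
theorem D2477 : act 6 n1698 = n2477 := rfl
theorem F7634 : act 0 n2477 = n1700 := d5_1 D2477 (iv D1700) D1698
theorem F7635 : act 1 n2477 = n1703 := d11_1 D2477 (iv D1703) (iv F5283)
theorem F7636 : act 4 n2477 = n2477 := d23_1 D2477 (iv D2477) F5284
def n2478 : Q := act 6 n1699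
theorem D2478 : act 6 n1699 = n2478 := rfl
theorem F7637 : act 1 n2478 = n2478 := d11_1 D2478 (iv D2478) F5286
theorem F7638 : act 4 n2478 = n2478 := d23_1 D2478 (iv D2478) F5287
def n2479 : Q := act 5 n1700
theorem D2479 : act 5 n1700 = n2479 := rfl
theorem F7639 : act 2 n2479 = n1898 := d15_1 D2479 F7630 F7620
theorem F7640 : act 4 n2479 = n2479 := d22_1 D2479 (iv D2479) F5290
theorem F7641 : act 7 n1896 = n2479 := d17_0 F7639 (iv D1898) (iv F5905)
def n2480 : Q := act 7 n1700
theorem D2480 : act 7 n1700 = n2480 := rfl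
theorem F7642 : act 1 n2480 = n1701 := d12_1 D2480 (iv D1701) (iv F5289)
theorem F7643 : act 2 n2480 = n1897 := d17_1 D2480 (iv F7629) F7620
theorem F7644 : act 4 n2480 = n2480 := d24_1 D2480 (iv D2480) F5290
theorem F7645 : act 5 n2480 = n1896 := d26_1 D2480 F7641 (iv D2479)
theorem F7646 : act 6 n2480 = n2480 := d27_1 D2480 (iv D2480) (iv D1700) F3663 D1700
theorem F7647 : act 3 n1904 = n2480 := d19_3 F7645 F5906 D1904
def n2481 : Q := act 3 n1701
theorem D2481 : act 3 n1701 = n2481 := rfl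
theorem F7648 : act 0 n2481 = n1707 := d2_1 D2481 (iv D1707) (iv F5291)
theorem F7649 : act 1 n2481 = n1904 := d8_1 D2481 F7647 F7642
theorem F7650 : act 2 n2481 = n2481 := d13_1 D2481 (iv D2481) F5292 F3668 (iv F5292)
theorem F7651 : act 6 n2481 = n2481 := d20_2 F5294 D2481 (iv D2481)
theorem F7652 : act 4 n2397 = n2481 := d9_0 F7649 F5930 D2397
def n2482 : Q := act 1 n1702
theorem D2482 : act 1 n1702 = n2482 := rfl
theorem F7653 : act 0 n2482 = n2482 := d0_1 D2482 (iv D2482) F5295 F3674 (iv F5295)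
theorem F7654 : act 4 n2482 = n2482 := d9_2 F5297 D2482 (iv D2482)
theorem F7655 : act 7 n2482 = n2482 := d12_2 F5298 D2482 (iv D2482)
def n2483 : Q := act 6 n1702
theorem D2483 : act 6 n1702 = n2483 := rfl
theorem F7656 : act 0 n2483 = n1704 := d5_1 D2483 (iv D1704) (iv F5295)
theorem F7657 : act 2 n2483 = n2483 := d16_1 D2483 (iv D2483) F5296
theorem F7658 : act 4 n2483 = n2483 := d23_1 D2483 (iv D2483) F5297
def n2484 : Q := act 5 n1703
theorem D2484 : act 5 n1703 = n2484 := rfl
theorem F7659 : act 0 n2484 = n1705 := d4_1 D2484 (iv D1705) (iv F5299)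
theorem F7660 : act 2 n2484 = n2484 := d15_1 D2484 (iv D2484) F5300
theorem F7661 : act 4 n2484 = n2484 := d22_1 D2484 (iv D2484) F5301
def n2485 : Q := act 7 n1703
theorem D2485 : act 7 n1703 = n2485 := rfl
theorem F7662 : act 0 n2485 = n1706 := d6_1 D2485 (iv D1706) (iv F5299)
theorem F7663 : act 2 n2485 = n2485 := d17_1 D2485 (iv D2485) F5300
theorem F7664 : act 4 n2485 = n2485 := d24_1 D2485 (iv D2485) F5301
theorem F7665 : act 6 n2485 = n2485 := d27_1 D2485 (iv D2485) (iv D1703) F3673 D1703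
def n2486 : Q := act 5 n1704
theorem D2486 : act 5 n1704 = n2486 := rfl
theorem F7666 : act 2 n2486 = n2486 := d15_1 D2486 (iv D2486) F5303
theorem F7667 : act 4 n2486 = n2486 := d22_1 D2486 (iv D2486) F5304
theorem F7668 : act 6 n2486 = n1705 := d25_2 D1704 D2486 (iv D1705) (iv D1161) D1160
def n2487 : Q := act 7 n1704
theorem D2487 : act 7 n1704 = n2487 := rfl
theorem F7669 : act 1 n2487 = n2487 := d12_1 D2487 (iv D2487) F5302
theorem F7670 : act 2 n2487 = n2487 := d17_1 D2487 (iv D2487) F5303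
theorem F7671 : act 4 n2487 = n2487 := d24_1 D2487 (iv D2487) F5304
theorem F7672 : act 6 n2487 = n2487 := d27_1 D2487 (iv D2487) (iv D1704) F3677 D1704
def n2488 : Q := act 7 n1705
theorem D2488 : act 7 n1705 = n2488 := rfl
theorem F7673 : act 2 n2488 = n2488 := d17_1 D2488 (iv D2488) F5305
theorem F7674 : act 4 n2488 = n2488 := d24_1 D2488 (iv D2488) F5306
theorem F7675 : act 5 n2488 = n1706 := d26_1 D2488 (iv D1706) D1705
def n2489 : Q := act 3 n1706
theorem D2489 : act 3 n1706 = n2489 := rfl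
theorem F7676 : act 1 n2489 = n1707 := d8_1 D2489 (iv D1707) (iv F5307)
theorem F7677 : act 6 n2489 = n2489 := d20_2 F5310 D2489 (iv D2489)
def n2490 : Q := act 4 n1707
theorem D2490 : act 4 n1707 = n2490 := rfl
theorem F7678 : act 0 n2490 = n2397 := d3_1 D2490 F7652 F7648
theorem F7679 : act 2 n2490 = n2490 := d14_1 D2490 (iv D2490) F5311
theorem F7680 : act 3 n2490 = n2490 := d18_1 D2490 (iv D2490) (iv D1707) F3682 D1707
theorem F7681 : act 5 n2490 = n2082 := d22_2 F6243 D2490 F6439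
theorem F7682 : act 6 n2490 = n2490 := d23_2 F5312 D2490 (iv D2490)
theorem F7683 : act 7 n2490 = n2081 := d24_2 F6216 D2490 F6436
def n2491 : Q := act 1 n1708
theorem D2491 : act 1 n1708 = n2491 := rfl
theorem F7684 : act 0 n2491 = n2491 := d0_1 D2491 (iv D2491) F5313 F3689 (iv F5313)
theorem F7685 : act 2 n2491 = n2491 := d7_2 D1708 D2491 (iv D2491) (iv D1708) F3684
theorem F7686 : act 4 n2491 = n2491 := d9_2 F5314 D2491 (iv D2491)
theorem F7687 : act 6 n2491 = n2491 := d11_2 F5316 D2491 (iv D2491)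
def n2492 : Q := act 3 n1708
theorem D2492 : act 3 n1708 = n2492 := rfl
theorem F7688 : act 0 n2492 = n1710 := d2_1 D2492 (iv D1710) (iv F5313)
theorem F7689 : act 2 n2492 = n2492 := d13_1 D2492 (iv D2492) (iv D1708) F3685 D1708
theorem F7690 : act 5 n2492 = n1717 := d19_2 (iv F5315) D2492 (iv D1717)
theorem F7691 : act 6 n2492 = n2492 := d20_2 F5316 D2492 (iv D2492)
def n2493 : Q := act 7 n1708
theorem D2493 : act 7 n1708 = n2493 := rfl
theorem F7692 : act 0 n2493 = n1711 := d6_1 D2493 (iv D1711) (iv F5313)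
theorem F7693 : act 2 n2493 = n1709 := d17_1 D2493 (iv D1709) D1708
theorem F7694 : act 4 n2493 = n2493 := d24_1 D2493 (iv D2493) F5314
theorem F7695 : act 5 n2493 = n1718 := d26_1 D2493 (iv D1718) (iv F5315)
def n2494 : Q := act 3 n1709
theorem D2494 : act 3 n1709 = n2494 := rfl
theorem F7696 : act 0 n2494 = n1712 := d2_1 D2494 (iv D1712) (iv F5317)
theorem F7697 : act 1 n2494 = n2494 := d8_1 D2494 (iv D2494) F5318
theorem F7698 : act 5 n2494 = n1719 := d19_2 (iv F5320) D2494 (iv D1719)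
theorem F7699 : act 7 n2494 = n2494 := d21_2 D1709 D2494 (iv D2494) (iv D1709) F3685
def n2495 : Q := act 6 n1709
theorem D2495 : act 6 n1709 = n2495 := rfl
theorem F7700 : act 0 n2495 = n1713 := d5_1 D2495 (iv D1713) (iv F5317)
theorem F7701 : act 1 n2495 = n2495 := d11_1 D2495 (iv D2495) F5318
theorem F7702 : act 4 n2495 = n2495 := d23_1 D2495 (iv D2495) F5319
theorem F7703 : act 7 n2495 = n2495 := d27_2 D1709 D2495 (iv D2495) (iv D1709) F3688
def n2496 : Q := act 4 n1710
theorem D2496 : act 4 n1710 = n2496 := rfl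
theorem F7704 : act 1 n2496 = n2496 := d9_1 D2496 (iv D2496) F5321
theorem F7705 : act 2 n2496 = n2496 := d14_1 D2496 (iv D2496) F5322
theorem F7706 : act 3 n2496 = n2496 := d18_1 D2496 (iv D2496) (iv D1710) F3690 D1710
theorem F7707 : act 5 n2496 = n1721 := d22_2 (iv F5323) D2496 (iv D1721)
theorem F7708 : act 6 n2496 = n2496 := d23_2 F5324 D2496 (iv D2496)
def n2497 : Q := act 7 n1710
theorem D2497 : act 7 n1710 = n2497 := rfl
theorem F7709 : act 1 n2497 = n2497 := d12_1 D2497 (iv D2497) F5321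
theorem F7710 : act 2 n2497 = n2497 := d17_1 D2497 (iv D2497) F5322
theorem F7711 : act 5 n2497 = n1722 := d26_1 D2497 (iv D1722) (iv F5323)
def n2498 : Q := act 3 n1711
theorem D2498 : act 3 n1711 = n2498 := rfl
theorem F7712 : act 1 n2498 = n2498 := d8_1 D2498 (iv D2498) F5325
theorem F7713 : act 5 n2498 = n1723 := d19_2 (iv F5328) D2498 (iv D1723)
def n2499 : Q := act 6 n1711
theorem D2499 : act 6 n1711 = n2499 := rfl
theorem F7714 : act 1 n2499 = n2499 := d11_1 D2499 (iv D2499) F5325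
theorem F7715 : act 2 n2499 = n1713 := d16_1 D2499 (iv D1713) (iv F5326)
theorem F7716 : act 4 n2499 = n2499 := d23_1 D2499 (iv D2499) F5327
theorem F7717 : act 7 n2499 = n2499 := d27_2 D1711 D2499 (iv D2499) (iv D1711) F3692
def n2500 : Q := act 6 n1712
theorem D2500 : act 6 n1712 = n2500 := rfl
theorem F7718 : act 1 n2500 = n1714 := d11_1 D2500 (iv D1714) (iv F5329)
theorem F7719 : act 2 n2500 = n1765 := d16_1 D2500 F5496 F5394
theorem F7720 : act 3 n2500 = n1713 := d20_1 D2500 (iv D1713) D1712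
theorem F7721 : act 4 n2500 = n1746 := d23_1 D2500 F5439 F5342
theorem F7722 : act 7 n1839 = n2500 := d24_0 F7721 F5440 D1839
def n2501 : Q := act 5 n1713
theorem D2501 : act 5 n1713 = n2501 := rfl
theorem F7723 : act 4 n2501 = n2501 := d22_1 D2501 (iv D2501) F5333
theorem F7724 : act 6 n2501 = n1728 := d25_2 D1713 D2501 (iv D1728) (iv D1175) (iv F3695)
theorem F7725 : act 7 n2501 = n2501 := d26_2 F5334 D2501 (iv D2501)
def n2502 : Q := act 0 n1715
theorem D2502 : act 0 n1715 = n2502 := rfl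
theorem F7726 : act 1 n2502 = n2502 := d0_2 D1715 D2502 (iv D2502) (iv D1715) F3703
theorem F7727 : act 2 n2502 = n1734 := d1_2 (iv F5340) D2502 (iv D1734)
theorem F7728 : act 3 n2502 = n2502 := d2_2 F5341 D2502 (iv D2502)
theorem F7729 : act 4 n2502 = n2494 := d3_2 (iv F5342) D2502 F7696
theorem F7730 : act 7 n2502 = n2502 := d6_2 F5343 D2502 (iv D2502)
def n2503 : Q := act 3 n1716
theorem D2503 : act 3 n1716 = n2503 := rfl
theorem F7731 : act 0 n2503 = n1768 := d2_1 D2503 (iv D1768) (iv F5344)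
theorem F7732 : act 1 n2503 = n1717 := d8_1 D2503 (iv D1717) D1716
def n2504 : Q := act 5 n1716
theorem D2504 : act 5 n1716 = n2504 := rfl
theorem F7733 : act 0 n2504 = n1769 := d4_1 D2504 (iv D1769) (iv F5344)
theorem F7734 : act 2 n2504 = n1935 := d15_1 D2504 (iv D1935) (iv F5345)
theorem F7735 : act 4 n2504 = n2504 := d22_1 D2504 (iv D2504) F5346
def n2505 : Q := act 7 n1716
theorem D2505 : act 7 n1716 = n2505 := rfl
theorem F7736 : act 0 n2505 = n1770 := d6_1 D2505 (iv D1770) (iv F5344)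
theorem F7737 : act 1 n2505 = n1718 := d12_1 D2505 (iv D1718) D1716
theorem F7738 : act 2 n2505 = n1936 := d17_1 D2505 (iv D1936) (iv F5345)
theorem F7739 : act 4 n2505 = n2505 := d24_1 D2505 (iv D2505) F5346
def n2506 : Q := act 4 n1717
theorem D2506 : act 4 n1717 = n2506 := rfl
theorem F7740 : act 0 n2506 = n1721 := d3_1 D2506 (iv D1721) (iv F5347)
theorem F7741 : act 2 n2506 = n2506 := d14_1 D2506 (iv D2506) F5348
theorem F7742 : act 3 n2506 = n2506 := d18_1 D2506 (iv D2506) (iv D1717) F3714 D1717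
theorem F7743 : act 6 n2506 = n2379 := d23_2 F5673 D2506 F7347
def n2507 : Q := act 7 n1717
theorem D2507 : act 7 n1717 = n2507 := rfl
theorem F7744 : act 0 n2507 = n1722 := d6_1 D2507 (iv D1722) (iv F5347)
theorem F7745 : act 2 n2507 = n2507 := d17_1 D2507 (iv D2507) F5348
def n2508 : Q := act 3 n1718
theorem D2508 : act 3 n1718 = n2508 := rfl
theorem F7746 : act 0 n2508 = n1723 := d2_1 D2508 (iv D1723) (iv F5349)
def n2509 : Q := act 6 n1718
theorem D2509 : act 6 n1718 = n2509 := rfl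
theorem F7747 : act 0 n2509 = n1724 := d5_1 D2509 (iv D1724) (iv F5349)
theorem F7748 : act 2 n2509 = n1720 := d16_1 D2509 (iv D1720) (iv F5350)
theorem F7749 : act 4 n2509 = n2509 := d23_1 D2509 (iv D2509) F5351
def n2510 : Q := act 2 n1719
theorem D2510 : act 2 n1719 = n2510 := rfl
theorem F7750 : act 0 n2510 = n1725 := d1_1 D2510 (iv D1725) (iv F5352)
theorem F7751 : act 7 n2510 = n2510 := d17_2 F5354 D2510 (iv D2510)
def n2511 : Q := act 4 n1719
theorem D2511 : act 4 n1719 = n2511 := rfl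
theorem F7752 : act 0 n2511 = n1726 := d3_1 D2511 (iv D1726) (iv F5352)
theorem F7753 : act 1 n2511 = n1942 := d9_1 D2511 (iv D1942) (iv F5353)
theorem F7754 : act 3 n2511 = n2511 := d18_1 D2511 (iv D2511) (iv D1719) F3717 D1719
theorem F7755 : act 5 n2511 = n2502 := d22_2 F7698 D2511 F7729
theorem F7756 : act 7 n2511 = n2511 := d24_2 F5354 D2511 (iv D2511)
def n2512 : Q := act 6 n1719
theorem D2512 : act 6 n1719 = n2512 := rfl
theorem F7757 : act 0 n2512 = n1727 := d5_1 D2512 (iv D1727) (iv F5352)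
theorem F7758 : act 1 n2512 = n1943 := d11_1 D2512 (iv D1943) (iv F5353)
theorem F7759 : act 3 n2512 = n1720 := d20_1 D2512 (iv D1720) D1719
def n2513 : Q := act 5 n1720
theorem D2513 : act 5 n1720 = n2513 := rfl
theorem F7760 : act 0 n2513 = n1728 := d4_1 D2513 (iv D1728) (iv F5355)
theorem F7761 : act 4 n2513 = n2513 := d22_1 D2513 (iv D2513) F5357
def n2514 : Q := act 7 n1721
theorem D2514 : act 7 n1721 = n2514 := rfl
theorem F7762 : act 1 n2514 = n1779 := d12_1 D2514 (iv D1779) (iv F5358)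
theorem F7763 : act 2 n2514 = n2514 := d17_1 D2514 (iv D2514) F5359
theorem F7764 : act 4 n2514 = n1722 := d24_1 D2514 (iv D1722) D1721
def n2515 : Q := act 3 n1722
theorem D2515 : act 3 n1722 = n2515 := rfl
theorem F7765 : act 1 n2515 = n1780 := d8_1 D2515 (iv D1780) (iv F5362)
theorem F7766 : act 7 n2515 = n1723 := d21_2 D1722 D2515 (iv D1723) (iv D1173) D1172
def n2516 : Q := act 6 n1722
theorem D2516 : act 6 n1722 = n2516 := rfl
theorem F7767 : act 1 n2516 = n1781 := d11_1 D2516 (iv D1781) (iv F5362)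
theorem F7768 : act 2 n2516 = n2516 := d16_1 D2516 (iv D2516) F5363
def n2517 : Q := act 2 n1723
theorem D2517 : act 2 n1723 = n2517 := rfl
theorem F7769 : act 3 n2517 = n1725 := d13_2 D1723 D2517 (iv D1725) (iv D1174) (iv F3721)
def n2518 : Q := act 4 n1723
theorem D2518 : act 4 n1723 = n2518 := rfl
theorem F7770 : act 1 n2518 = n1783 := d9_1 D2518 (iv D1783) (iv F5364)
theorem F7771 : act 3 n2518 = n2518 := d18_1 D2518 (iv D2518) (iv D1723) F3722 D1723
def n2519 : Q := act 6 n1723
theorem D2519 : act 6 n1723 = n2519 := rfl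
theorem F7772 : act 1 n2519 = n1784 := d11_1 D2519 (iv D1784) (iv F5364)
theorem F7773 : act 3 n2519 = n1724 := d20_1 D2519 (iv D1724) D1723
def n2520 : Q := act 5 n1724
theorem D2520 : act 5 n1724 = n2520 := rfl
theorem F7774 : act 2 n2520 = n1728 := d15_1 D2520 (iv D1728) (iv F5366)
theorem F7775 : act 4 n2520 = n2520 := d22_1 D2520 (iv D2520) F5367
def n2521 : Q := act 1 n1725
theorem D2521 : act 1 n1725 = n2521 := rfl
theorem F7776 : act 2 n2521 = n1729 := d7_2 D1725 D2521 (iv D1729) (iv D1176) (iv F3723)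
theorem F7777 : act 7 n2521 = n2521 := d12_2 F5368 D2521 (iv D2521)
def n2522 : Q := act 6 n1725
theorem D2522 : act 6 n1725 = n2522 := rfl
theorem F7778 : act 2 n2522 = n1727 := d16_1 D2522 (iv D1727) D1725
def n2523 : Q := act 6 n1726
theorem D2523 : act 6 n1726 = n2523 := rfl
theorem F7779 : act 1 n2523 = n1732 := d11_1 D2523 (iv D1732) (iv F5369)
theorem F7780 : act 3 n2523 = n2523 := d20_1 D2523 (iv D2523) F5370
theorem F7781 : act 4 n2523 = n1727 := d23_1 D2523 (iv D1727) D1726
def n2524 : Q := act 5 n1727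
theorem D2524 : act 5 n1727 = n2524 := rfl
theorem F7782 : act 3 n2524 = n1728 := d19_1 D2524 (iv D1728) (iv F5374)
def n2525 : Q := act 7 n1727
theorem D2525 : act 7 n1727 = n2525 := rfl
theorem F7783 : act 1 n2525 = n1733 := d12_1 D2525 (iv D1733) (iv F5373)
theorem F7784 : act 6 n2525 = n2525 := d27_1 D2525 (iv D2525) (iv D1727) F3724 D1727
def n2526 : Q := act 0 n1729
theorem D2526 : act 0 n1729 = n2526 := rfl
theorem F7785 : act 1 n2526 = n1958 := d0_2 D1729 D2526 (iv D1958) (iv D1329) (iv F3727)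
theorem F7786 : act 3 n2526 = n1793 := d2_2 (iv F5376) D2526 (iv D1793)
theorem F7787 : act 7 n2526 = n2526 := d6_2 F5377 D2526 (iv D2526)
def n2527 : Q := act 4 n1729
theorem D2527 : act 4 n1729 = n2527 := rfl
theorem F7788 : act 1 n2527 = n1730 := d9_1 D2527 (iv D1730) D1729
theorem F7789 : act 7 n2527 = n2527 := d24_2 F5377 D2527 (iv D2527)
theorem F7790 : act 5 n2521 = n2527 := d10_0 F7788 F5380 (iv F5393) (iv F5396) D2521
def n2528 : Q := act 5 n1729
theorem D2528 : act 5 n1729 = n2528 := rfl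
theorem F7791 : act 1 n2528 = n1736 := d10_1 D2528 (iv D1736) (iv D1179) (iv F3729) D1729
theorem F7792 : act 2 n2528 = n2527 := d15_1 D2528 (iv F7790) F7776
theorem F7793 : act 3 n2528 = n1795 := d19_1 D2528 (iv D1795) (iv F5376)
theorem F7794 : act 4 n2528 = n2521 := d22_1 D2528 F7790 (iv D2527)
theorem F7795 : act 7 n2528 = n2528 := d26_2 F5377 D2528 (iv D2528)
def n2529 : Q := act 6 n1729
theorem D2529 : act 6 n1729 = n2529 := rfl
theorem F7796 : act 1 n2529 = n1731 := d11_1 D2529 (iv D1731) D1729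
theorem F7797 : act 3 n2529 = n1796 := d20_1 D2529 (iv D1796) (iv F5376)
def n2530 : Q := act 3 n1730
theorem D2530 : act 3 n1730 = n2530 := rfl
theorem F7798 : act 0 n2530 = n1962 := d2_1 D2530 (iv D1962) (iv F5378)
theorem F7799 : act 2 n2530 = n2530 := d13_1 D2530 (iv D2530) F5379 F3732 (iv F5379)
theorem F7800 : act 4 n2530 = n1797 := d18_2 D1730 D2530 (iv D1797) (iv D1213) (iv F3728)
theorem F7801 : act 5 n2530 = n1737 := d19_2 (iv F5380) D2530 (iv D1737)
theorem F7802 : act 7 n2530 = n2421 := d31_1 (iv F7801) (iv D2421) F5149 F5150 (iv D1654) (iv F4099) (iv D1293) F2821 F2820 F2025 (iv D606) F1471 F944 F943 F1402 (iv F1404) (iv F1406) F703 (iv F1214) (iv F1890) F1889 (iv D570) D569 F1887 (iv F1827) D813 (iv F3802) F3803 D1737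
def n2531 : Q := act 6 n1730
theorem D2531 : act 6 n1730 = n2531 := rfl
theorem F7803 : act 0 n2531 = n1963 := d5_1 D2531 (iv D1963) (iv F5378)
theorem F7804 : act 2 n2531 = n1732 := d16_1 D2531 (iv D1732) (iv F5379)
theorem F7805 : act 4 n2531 = n1731 := d23_1 D2531 (iv D1731) D1730
def n2532 : Q := act 7 n1731
theorem D2532 : act 7 n1731 = n2532 := rfl
theorem F7806 : act 0 n2532 = n1964 := d6_1 D2532 (iv D1964) (iv F5382)
theorem F7807 : act 2 n2532 = n1733 := d17_1 D2532 (iv D1733) (iv F5383)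
theorem F7808 : act 6 n2532 = n2532 := d27_1 D2532 (iv D2532) (iv D1731) F3730 D1731
def n2533 : Q := act 4 n1734
theorem D2533 : act 4 n1734 = n2533 := rfl
theorem F7809 : act 0 n2533 = n1735 := d3_1 D2533 (iv D1735) D1734
theorem F7810 : act 1 n2533 = n1965 := d9_1 D2533 (iv D1965) (iv F5390)
theorem F7811 : act 2 n2533 = n2494 := d14_1 D2533 (iv F7729) F7727
theorem F7812 : act 7 n2533 = n2533 := d24_2 F5392 D2533 (iv D2533)
theorem F7813 : act 5 n2510 = n2533 := d15_0 F7811 F7698 D2510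
def n2534 : Q := act 5 n1734
theorem D2534 : act 5 n1734 = n2534 := rfl
theorem F7814 : act 0 n2534 = n1736 := d4_1 D2534 (iv D1736) D1734
theorem F7815 : act 2 n2534 = n2511 := d15_1 D2534 F7755 F7727
theorem F7816 : act 3 n2534 = n1807 := d19_1 D2534 (iv D1807) (iv F5391)
theorem F7817 : act 4 n2534 = n2510 := d22_1 D2534 F7813 (iv D2533)
theorem F7818 : act 7 n2534 = n2534 := d26_2 F5392 D2534 (iv D2534)
def n2535 : Q := act 3 n1735
theorem D2535 : act 3 n1735 = n2535 := rfl
theorem F7819 : act 1 n2535 = n1737 := d8_1 D2535 (iv D1737) (iv F5393)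
theorem F7820 : act 2 n2535 = n2498 := d13_1 D2535 (iv D2498) F5326 D1712 (iv F5394)
theorem F7821 : act 4 n2535 = n1809 := d18_2 D1735 D2535 (iv D1809) (iv D1220) (iv F3737)
theorem F7822 : act 5 n2535 = n2517 := d19_2 F5396 D2535 F7769
def n2536 : Q := act 6 n1736
theorem D2536 : act 6 n1736 = n2536 := rfl
theorem F7823 : act 2 n2536 = n2523 := d16_1 D2536 (iv D2523) (iv F5397)
theorem F7824 : act 3 n2536 = n1812 := d20_1 D2536 (iv D1812) (iv F5398)
theorem F7825 : act 4 n2536 = n2522 := d23_1 D2536 (iv D2522) (iv F5399)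
def n2537 : Q := act 7 n1737
theorem D2537 : act 7 n1737 = n2537 := rfl
theorem F7826 : act 0 n2537 = n1970 := d6_1 D2537 (iv D1970) (iv F5401)
theorem F7827 : act 2 n2537 = n2537 := d17_1 D2537 (iv D2537) F5402
theorem F7828 : act 3 n2537 = n2537 := d21_1 D2537 (iv D2537) (iv D1737) F3741 D1737
theorem F7829 : act 4 n2537 = n1815 := d24_1 D2537 (iv D1815) (iv F5403)
theorem F7830 : act 5 n2537 = n2421 := d26_1 D2537 (iv F7802) F7801
def n2538 : Q := act 1 n1738
theorem D2538 : act 1 n1738 = n2538 := rfl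
theorem F7831 : act 0 n2538 = n2538 := d0_1 D2538 (iv D2538) F5404 F3747 (iv F5404)
theorem F7832 : act 2 n2538 = n2538 := d7_2 D1738 D2538 (iv D2538) (iv D1738) F3742
theorem F7833 : act 3 n2538 = n2210 := d8_2 (iv F5405) D2538 F6848
theorem F7834 : act 4 n2538 = n2538 := d9_2 F5406 D2538 (iv D2538)
theorem F7835 : act 6 n2538 = n2538 := d11_2 F5408 D2538 (iv D2538)
def n2539 : Q := act 7 n1738
theorem D2539 : act 7 n1738 = n2539 := rfl
theorem F7836 : act 0 n2539 = n1740 := d6_1 D2539 (iv D1740) (iv F5404)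
theorem F7837 : act 2 n2539 = n1739 := d17_1 D2539 (iv D1739) D1738
theorem F7838 : act 4 n2539 = n2539 := d24_1 D2539 (iv D2539) F5406
theorem F7839 : act 5 n2539 = n1749 := d26_1 D2539 (iv D1749) (iv F5407)
def n2540 : Q := act 3 n1739
theorem D2540 : act 3 n1739 = n2540 := rfl
theorem F7840 : act 0 n2540 = n1741 := d2_1 D2540 (iv D1741) (iv F5409)
theorem F7841 : act 1 n2540 = n2540 := d8_1 D2540 (iv D2540) F5410
theorem F7842 : act 5 n2540 = n1750 := d19_2 (iv F5412) D2540 (iv D1750)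
theorem F7843 : act 7 n2540 = n1827 := d21_2 D1739 D2540 (iv D1827) (iv D1233) (iv F3743)
def n2541 : Q := act 6 n1739
theorem D2541 : act 6 n1739 = n2541 := rfl
theorem F7844 : act 0 n2541 = n1742 := d5_1 D2541 (iv D1742) (iv F5409)
theorem F7845 : act 1 n2541 = n2541 := d11_1 D2541 (iv D2541) F5410
theorem F7846 : act 4 n2541 = n2541 := d23_1 D2541 (iv D2541) F5411
theorem F7847 : act 7 n2541 = n2541 := d27_2 D1739 D2541 (iv D2541) (iv D1739) F3746
def n2542 : Q := act 3 n1740
theorem D2542 : act 3 n1740 = n2542 := rfl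
theorem F7848 : act 1 n2542 = n2542 := d8_1 D2542 (iv D2542) F5413
theorem F7849 : act 5 n2542 = n1753 := d19_2 (iv F5416) D2542 (iv D1753)
theorem F7850 : act 7 n2542 = n2377 := d21_2 D1740 D2542 (iv D2377) (iv D1626) (iv F3748)
def n2543 : Q := act 6 n1740
theorem D2543 : act 6 n1740 = n2543 := rfl
theorem F7851 : act 1 n2543 = n2543 := d11_1 D2543 (iv D2543) F5413
theorem F7852 : act 2 n2543 = n1742 := d16_1 D2543 (iv D1742) (iv F5414)
theorem F7853 : act 4 n2543 = n2543 := d23_1 D2543 (iv D2543) F5415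
theorem F7854 : act 7 n2543 = n2543 := d27_2 D1740 D2543 (iv D2543) (iv D1740) F3751
def n2544 : Q := act 2 n1741
theorem D2544 : act 2 n1741 = n2544 := rfl
theorem F7855 : act 5 n2544 = n1755 := d15_2 (iv F5418) D2544 (iv D1755)
theorem F7856 : act 7 n2544 = n1829 := d17_2 (iv F5419) D2544 (iv D1829)
def n2545 : Q := act 4 n1741
theorem D2545 : act 4 n1741 = n2545 := rfl
theorem F7857 : act 1 n2545 = n1744 := d9_1 D2545 (iv D1744) (iv F5417)
theorem F7858 : act 3 n2545 = n2545 := d18_1 D2545 (iv D2545) (iv D1741) F3753 D1741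
theorem F7859 : act 5 n2545 = n1756 := d22_2 (iv F5418) D2545 (iv D1756)
theorem F7860 : act 7 n2545 = n1830 := d24_2 (iv F5419) D2545 (iv D1830)
def n2546 : Q := act 6 n1741
theorem D2546 : act 6 n1741 = n2546 := rfl
theorem F7861 : act 1 n2546 = n1745 := d11_1 D2546 (iv D1745) (iv F5417)
theorem F7862 : act 3 n2546 = n1742 := d20_1 D2546 (iv D1742) D1741
def n2547 : Q := act 5 n1742
theorem D2547 : act 5 n1742 = n2547 := rfl
theorem F7863 : act 1 n2547 = n2501 := d10_1 D2547 (iv D2501) F5332 (iv F3761) (iv F5420)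
theorem F7864 : act 4 n2547 = n2547 := d22_1 D2547 (iv D2547) F5421
theorem F7865 : act 6 n2547 = n1758 := d25_2 D1742 D2547 (iv D1758) (iv D1193) (iv F3754)
theorem F7866 : act 7 n2547 = n2547 := d26_2 F5422 D2547 (iv D2547)
def n2548 : Q := act 1 n1743
theorem D2548 : act 1 n1743 = n2548 := rfl
theorem F7867 : act 3 n2548 = n2548 := d8_2 F5424 D2548 (iv D2548)
theorem F7868 : act 4 n2548 = n2546 := d9_2 F5435 D2548 F7861
theorem F7869 : act 6 n2548 = n2545 := d11_2 (iv F5431) D2548 F7857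
theorem F7870 : act 7 n2548 = n1833 := d12_2 (iv F5426) D2548 (iv D1833)
def n2549 : Q := act 0 n1746
theorem D2549 : act 0 n1746 = n2549 := rfl
theorem F7871 : act 1 n2549 = n2549 := d0_2 D1746 D2549 (iv D2549) (iv D1746) F3763
theorem F7872 : act 2 n2549 = n1764 := d1_2 (iv F5437) D2549 (iv D1764)
theorem F7873 : act 3 n2549 = n2549 := d2_2 F5438 D2549 (iv D2549)
theorem F7874 : act 6 n2549 = n2502 := d5_2 (iv F5439) D2549 (iv D2502)
theorem F7875 : act 7 n2549 = n1838 := d6_2 (iv F5440) D2549 (iv D1838)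
def n2550 : Q := act 5 n1746
theorem D2550 : act 5 n1746 = n2550 := rfl
theorem F7876 : act 2 n2550 = n1766 := d15_1 D2550 (iv D1766) (iv F5437)
theorem F7877 : act 3 n2550 = n2550 := d19_1 D2550 (iv D2550) F5438
theorem F7878 : act 7 n2550 = n1840 := d26_2 (iv F5440) D2550 (iv D1840)
def n2551 : Q := act 3 n1747
theorem D2551 : act 3 n1747 = n2551 := rfl
theorem F7879 : act 1 n2551 = n1748 := d8_1 D2551 (iv D1748) D1747
theorem F7880 : act 6 n2551 = n1768 := d20_2 (iv F5443) D2551 (iv D1768)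
theorem F7881 : act 4 n2296 = n2551 := d9_0 F7879 (iv F5448) D2296
def n2552 : Q := act 5 n1747
theorem D2552 : act 5 n1747 = n2552 := rfl
theorem F7882 : act 2 n2552 = n1972 := d15_1 D2552 (iv D1972) (iv F5441)
theorem F7883 : act 4 n2552 = n2552 := d22_1 D2552 (iv D2552) F5442
def n2553 : Q := act 7 n1747
theorem D2553 : act 7 n1747 = n2553 := rfl
theorem F7884 : act 1 n2553 = n1749 := d12_1 D2553 (iv D1749) D1747
theorem F7885 : act 2 n2553 = n1973 := d17_1 D2553 (iv D1973) (iv F5441)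
theorem F7886 : act 4 n2553 = n2553 := d24_1 D2553 (iv D2553) F5442
def n2554 : Q := act 7 n1748
theorem D2554 : act 7 n1748 = n2554 := rfl
theorem F7887 : act 0 n2554 = n1752 := d6_1 D2554 (iv D1752) (iv F5444)
theorem F7888 : act 2 n2554 = n1843 := d17_1 D2554 (iv D1843) (iv F5445)
theorem F7889 : act 4 n2554 = n2297 := d24_1 D2554 (iv D2297) F5448
theorem F7890 : act 5 n2554 = n2295 := d26_1 D2554 (iv D2295) (iv F5446)
def n2555 : Q := act 3 n1749
theorem D2555 : act 3 n1749 = n2555 := rfl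
theorem F7891 : act 0 n2555 = n1753 := d2_1 D2555 (iv D1753) (iv F5449)
def n2556 : Q := act 6 n1749
theorem D2556 : act 6 n1749 = n2556 := rfl
theorem F7892 : act 0 n2556 = n1754 := d5_1 D2556 (iv D1754) (iv F5449)
theorem F7893 : act 2 n2556 = n1751 := d16_1 D2556 (iv D1751) (iv F5450)
theorem F7894 : act 4 n2556 = n2556 := d23_1 D2556 (iv D2556) F5451
theorem F7895 : act 7 n2556 = n1774 := d27_2 D1749 D2556 (iv D1774) (iv D1201) (iv F3774)
def n2557 : Q := act 2 n1750
theorem D2557 : act 2 n1750 = n2557 := rfl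
theorem F7896 : act 0 n2557 = n1755 := d1_1 D2557 (iv D1755) (iv F5452)
theorem F7897 : act 7 n2557 = n1846 := d17_2 (iv F5454) D2557 (iv D1846)
def n2558 : Q := act 4 n1750
theorem D2558 : act 4 n1750 = n2558 := rfl
theorem F7898 : act 0 n2558 = n1756 := d3_1 D2558 (iv D1756) (iv F5452)
theorem F7899 : act 1 n2558 = n1979 := d9_1 D2558 (iv D1979) (iv F5453)
theorem F7900 : act 3 n2558 = n2558 := d18_1 D2558 (iv D2558) (iv D1750) F3777 D1750
theorem F7901 : act 7 n2558 = n1847 := d24_2 (iv F5454) D2558 (iv D1847)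
def n2559 : Q := act 6 n1750
theorem D2559 : act 6 n1750 = n2559 := rfl
theorem F7902 : act 0 n2559 = n1757 := d5_1 D2559 (iv D1757) (iv F5452)
theorem F7903 : act 1 n2559 = n1980 := d11_1 D2559 (iv D1980) (iv F5453)
theorem F7904 : act 3 n2559 = n1751 := d20_1 D2559 (iv D1751) D1750
def n2560 : Q := act 5 n1751
theorem D2560 : act 5 n1751 = n2560 := rfl
theorem F7905 : act 0 n2560 = n1758 := d4_1 D2560 (iv D1758) (iv F5455)
theorem F7906 : act 4 n2560 = n2560 := d22_1 D2560 (iv D2560) F5457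
theorem F7907 : act 7 n2560 = n1778 := d26_2 (iv F5458) D2560 (iv D1778)
def n2561 : Q := act 3 n1752
theorem D2561 : act 3 n1752 = n2561 := rfl
theorem F7908 : act 5 n2561 = n2377 := d19_2 (iv F5461) D2561 (iv D2377)
theorem F7909 : act 7 n2561 = n1753 := d21_2 D1752 D2561 (iv D1753) (iv D1191) D1190
def n2562 : Q := act 6 n1752
theorem D2562 : act 6 n1752 = n2562 := rfl
theorem F7910 : act 2 n2562 = n1851 := d16_1 D2562 (iv D1851) (iv F5459)
theorem F7911 : act 4 n2562 = n2382 := d23_1 D2562 (iv D2382) (iv F5460)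
theorem F7912 : act 7 n2562 = n1781 := d27_2 D1752 D2562 (iv D1781) (iv D1205) (iv F3780)
def n2563 : Q := act 2 n1753
theorem D2563 : act 2 n1753 = n2563 := rfl
theorem F7913 : act 3 n2563 = n1755 := d13_2 D1753 D2563 (iv D1755) (iv D1192) (iv F3782)
def n2564 : Q := act 4 n1753
theorem D2564 : act 4 n1753 = n2564 := rfl
theorem F7914 : act 3 n2564 = n2564 := d18_1 D2564 (iv D2564) (iv D1753) F3783 D1753
def n2565 : Q := act 6 n1753
theorem D2565 : act 6 n1753 = n2565 := rfl
theorem F7915 : act 3 n2565 = n1754 := d20_1 D2565 (iv D1754) D1753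
def n2566 : Q := act 5 n1754
theorem D2566 : act 5 n1754 = n2566 := rfl
theorem F7916 : act 2 n2566 = n1758 := d15_1 D2566 (iv D1758) (iv F5462)
theorem F7917 : act 4 n2566 = n2566 := d22_1 D2566 (iv D2566) F5463
theorem F7918 : act 7 n2566 = n1785 := d26_2 (iv F5464) D2566 (iv D1785)
def n2567 : Q := act 1 n1755
theorem D2567 : act 1 n1755 = n2567 := rfl
theorem F7919 : act 2 n2567 = n1759 := d7_2 D1755 D2567 (iv D1759) (iv D1194) (iv F3784)
theorem F7920 : act 7 n2567 = n1856 := d12_2 (iv F5465) D2567 (iv D1856)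
def n2568 : Q := act 4 n1755
theorem D2568 : act 4 n1755 = n2568 := rfl
theorem F7921 : act 2 n2568 = n1756 := d14_1 D2568 (iv D1756) D1755
theorem F7922 : act 7 n2568 = n1857 := d24_2 (iv F5465) D2568 (iv D1857)
def n2569 : Q := act 6 n1755
theorem D2569 : act 6 n1755 = n2569 := rfl
theorem F7923 : act 2 n2569 = n1757 := d16_1 D2569 (iv D1757) D1755
def n2570 : Q := act 6 n1756
theorem D2570 : act 6 n1756 = n2570 := rfl
theorem F7924 : act 1 n2570 = n1762 := d11_1 D2570 (iv D1762) (iv F5466)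
theorem F7925 : act 3 n2570 = n2570 := d20_1 D2570 (iv D2570) F5467
theorem F7926 : act 4 n2570 = n1757 := d23_1 D2570 (iv D1757) D1756
theorem F7927 : act 7 n2570 = n2388 := d27_2 (iv F5468) D2570 (iv D2388) F5089 F3967
def n2571 : Q := act 5 n1757
theorem D2571 : act 5 n1757 = n2571 := rfl
theorem F7928 : act 1 n2571 = n2524 := d10_1 D2571 (iv D2524) F5373 (iv F3798) (iv F5469)
theorem F7929 : act 3 n2571 = n1758 := d19_1 D2571 (iv D1758) (iv F5470)
def n2572 : Q := act 7 n1757
theorem D2572 : act 7 n1757 = n2572 := rfl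
theorem F7930 : act 1 n2572 = n1763 := d12_1 D2572 (iv D1763) (iv F5469)
theorem F7931 : act 3 n2572 = n1791 := d21_1 D2572 (iv D1791) F3837 (iv F3788) (iv F5470)
theorem F7932 : act 4 n2572 = n2388 := d24_1 D2572 (iv F7927) F7926
theorem F7933 : act 6 n2572 = n1859 := d27_1 D2572 (iv D1859) (iv D1251) (iv F3785) D1757
def n2573 : Q := act 0 n1759
theorem D2573 : act 0 n1759 = n2573 := rfl
theorem F7934 : act 1 n2573 = n1995 := d0_2 D1759 D2573 (iv D1995) (iv D1351) (iv F3789)
theorem F7935 : act 7 n2573 = n1860 := d6_2 (iv F5474) D2573 (iv D1860)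
def n2574 : Q := act 4 n1759
theorem D2574 : act 4 n1759 = n2574 := rfl
theorem F7936 : act 1 n2574 = n1760 := d9_1 D2574 (iv D1760) D1759
theorem F7937 : act 7 n2574 = n1861 := d24_2 (iv F5474) D2574 (iv D1861)
def n2575 : Q := act 5 n1759
theorem D2575 : act 5 n1759 = n2575 := rfl
theorem F7938 : act 1 n2575 = n1766 := d10_1 D2575 (iv D1766) (iv D1197) (iv F3790) D1759
theorem F7939 : act 7 n2575 = n1862 := d26_2 (iv F5474) D2575 (iv D1862)
def n2576 : Q := act 6 n1759
theorem D2576 : act 6 n1759 = n2576 := rfl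
theorem F7940 : act 1 n2576 = n1761 := d11_1 D2576 (iv D1761) D1759
def n2577 : Q := act 3 n1760
theorem D2577 : act 3 n1760 = n2577 := rfl
theorem F7941 : act 0 n2577 = n1999 := d2_1 D2577 (iv D1999) (iv F5475)
theorem F7942 : act 2 n2577 = n2577 := d13_1 D2577 (iv D2577) F5476 F3793 (iv F5476)
theorem F7943 : act 5 n2577 = n1767 := d19_2 (iv F5477) D2577 (iv D1767)
theorem F7944 : act 7 n2577 = n2481 := d21_2 (iv F5478) D2577 (iv D2481) (iv D1701) F3978
def n2578 : Q := act 6 n1760
theorem D2578 : act 6 n1760 = n2578 := rfl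
theorem F7945 : act 0 n2578 = n2000 := d5_1 D2578 (iv D2000) (iv F5475)
theorem F7946 : act 2 n2578 = n1762 := d16_1 D2578 (iv D1762) (iv F5476)
theorem F7947 : act 4 n2578 = n1761 := d23_1 D2578 (iv D1761) D1760
theorem F7948 : act 5 n2578 = n2531 := d25_1 D2578 (iv D2531) F5380 (iv F3803) (iv F5477)
theorem F7949 : act 7 n2578 = n2401 := d27_2 (iv F5478) D2578 (iv D2401) F5109 (iv F3979)
def n2579 : Q := act 7 n1761
theorem D2579 : act 7 n1761 = n2579 := rfl
theorem F7950 : act 0 n2579 = n2001 := d6_1 D2579 (iv D2001) (iv F5479)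
theorem F7951 : act 2 n2579 = n1763 := d17_1 D2579 (iv D1763) (iv F5480)
theorem F7952 : act 4 n2579 = n2401 := d24_1 D2579 (iv F7949) F7947
theorem F7953 : act 5 n2579 = n2532 := d26_1 D2579 (iv D2532) (iv F5481)
theorem F7954 : act 6 n2579 = n1864 := d27_1 D2579 (iv D1864) (iv D1255) (iv F3791) D1761
def n2580 : Q := act 4 n1764
theorem D2580 : act 4 n1764 = n2580 := rfl
theorem F7955 : act 0 n2580 = n1765 := d3_1 D2580 (iv D1765) D1764
theorem F7956 : act 1 n2580 = n2002 := d9_1 D2580 (iv D2002) (iv F5492)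
theorem F7957 : act 6 n2580 = n2533 := d23_2 (iv F5493) D2580 (iv D2533)
theorem F7958 : act 7 n2580 = n1865 := d24_2 (iv F5494) D2580 (iv D1865)
def n2581 : Q := act 5 n1764
theorem D2581 : act 5 n1764 = n2581 := rfl
theorem F7959 : act 0 n2581 = n1766 := d4_1 D2581 (iv D1766) D1764
theorem F7960 : act 7 n2581 = n1866 := d26_2 (iv F5494) D2581 (iv D1866)
def n2582 : Q := act 3 n1765
theorem D2582 : act 3 n1765 = n2582 := rfl
theorem F7961 : act 1 n2582 = n1767 := d8_1 D2582 (iv D1767) (iv F5495)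
theorem F7962 : act 6 n2582 = n2535 := d20_2 (iv F5496) D2582 (iv D2535)
def n2583 : Q := act 5 n1765
theorem D2583 : act 5 n1765 = n2583 := rfl
theorem F7963 : act 4 n2583 = n1766 := d22_1 D2583 (iv D1766) D1765
theorem F7964 : act 7 n2583 = n1868 := d26_2 (iv F5497) D2583 (iv D1868)
def n2584 : Q := act 6 n1766
theorem D2584 : act 6 n1766 = n2584 := rfl
theorem F7965 : act 5 n2584 = n2536 := d25_1 D2584 (iv D2536) (iv D1736) (iv F3799) D1766
def n2585 : Q := act 7 n1767
theorem D2585 : act 7 n1767 = n2585 := rfl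
theorem F7966 : act 0 n2585 = n2007 := d6_1 D2585 (iv D2007) (iv F5499)
theorem F7967 : act 2 n2585 = n2585 := d17_1 D2585 (iv D2585) F5500
theorem F7968 : act 3 n2585 = n1870 := d21_1 D2585 (iv D1870) (iv D1260) (iv F3804) D1767
theorem F7969 : act 5 n2585 = n2481 := d26_1 D2585 (iv F7944) F7943
def n2586 : Q := act 2 n1768
theorem D2586 : act 2 n1768 = n2586 := rfl
theorem F7970 : act 1 n2586 = n1871 := d7_1 D2586 (iv D1871) F4001 (iv F3808) (iv F5502)
theorem F7971 : act 3 n2586 = n2008 := d13_2 D1768 D2586 (iv D2008) (iv D1360) (iv F3805)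
def n2587 : Q := act 4 n1768
theorem D2587 : act 4 n1768 = n2587 := rfl
theorem F7972 : act 1 n2587 = n1771 := d9_1 D2587 (iv D1771) (iv F5502)
theorem F7973 : act 3 n2587 = n2587 := d18_1 D2587 (iv D2587) (iv D1768) F3806 D1768
theorem F7974 : act 6 n2587 = n2296 := d23_2 F7880 D2587 F7881
def n2588 : Q := act 5 n1768
theorem D2588 : act 5 n1768 = n2588 := rfl
theorem F7975 : act 1 n2588 = n2588 := d10_1 D2588 (iv D2588) F5502 F3809 (iv F5502)
theorem F7976 : act 3 n2588 = n1769 := d19_1 D2588 (iv D1769) D1768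
def n2589 : Q := act 7 n1768
theorem D2589 : act 7 n1768 = n2589 := rfl
theorem F7977 : act 1 n2589 = n1772 := d12_1 D2589 (iv D1772) (iv F5502)
def n2590 : Q := act 6 n1769
theorem D2590 : act 6 n1769 = n2590 := rfl
theorem F7978 : act 1 n2590 = n2590 := d11_1 D2590 (iv D2590) F5503
theorem F7979 : act 2 n2590 = n2012 := d16_1 D2590 (iv D2012) (iv F5504)
theorem F7980 : act 4 n2590 = n2590 := d23_1 D2590 (iv D2590) F5505
def n2591 : Q := act 7 n1769
theorem D2591 : act 7 n1769 = n2591 := rfl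
theorem F7981 : act 1 n2591 = n2591 := d12_1 D2591 (iv D2591) F5503
theorem F7982 : act 2 n2591 = n2013 := d17_1 D2591 (iv D2013) (iv F5504)
theorem F7983 : act 4 n2591 = n2591 := d24_1 D2591 (iv D2591) F5505
theorem F7984 : act 5 n2591 = n1770 := d26_1 D2591 (iv D1770) D1769
def n2592 : Q := act 3 n1770
theorem D2592 : act 3 n1770 = n2592 := rfl
theorem F7985 : act 1 n2592 = n1773 := d8_1 D2592 (iv D1773) (iv F5506)
def n2593 : Q := act 6 n1770
theorem D2593 : act 6 n1770 = n2593 := rfl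
theorem F7986 : act 1 n2593 = n1774 := d11_1 D2593 (iv D1774) (iv F5506)
theorem F7987 : act 2 n2593 = n2015 := d16_1 D2593 (iv D2015) (iv F5507)
theorem F7988 : act 4 n2593 = n2593 := d23_1 D2593 (iv D2593) F5508
def n2594 : Q := act 7 n1771
theorem D2594 : act 7 n1771 = n2594 := rfl
theorem F7989 : act 0 n2594 = n1779 := d6_1 D2594 (iv D1779) (iv F5509)
theorem F7990 : act 2 n2594 = n1879 := d17_1 D2594 (iv D1879) (iv F5510)
theorem F7991 : act 4 n2594 = n1772 := d24_1 D2594 (iv D1772) D1771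
theorem F7992 : act 5 n2594 = n2594 := d26_1 D2594 (iv D2594) F5512
def n2595 : Q := act 3 n1772
theorem D2595 : act 3 n1772 = n2595 := rfl
theorem F7993 : act 0 n2595 = n1780 := d2_1 D2595 (iv D1780) (iv F5514)
theorem F7994 : act 5 n2595 = n2595 := d19_2 F5516 D2595 (iv D2595)
theorem F7995 : act 7 n2595 = n1773 := d21_2 D1772 D2595 (iv D1773) (iv D1201) D1200
def n2596 : Q := act 6 n1772
theorem D2596 : act 6 n1772 = n2596 := rfl
theorem F7996 : act 0 n2596 = n1781 := d5_1 D2596 (iv D1781) (iv F5514)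
theorem F7997 : act 2 n2596 = n1881 := d16_1 D2596 (iv D1881) (iv F5515)
def n2597 : Q := act 2 n1773
theorem D2597 : act 2 n1773 = n2597 := rfl
theorem F7998 : act 0 n2597 = n1782 := d1_1 D2597 (iv D1782) (iv F5517)
theorem F7999 : act 3 n2597 = n1775 := d13_2 D1773 D2597 (iv D1775) (iv D1202) (iv F3811)
theorem F8000 : act 5 n2597 = n2597 := d15_2 F5518 D2597 (iv D2597)
def n2598 : Q := act 4 n1773
theorem D2598 : act 4 n1773 = n2598 := rfl
theorem F8001 : act 0 n2598 = n1783 := d3_1 D2598 (iv D1783) (iv F5517)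
theorem F8002 : act 3 n2598 = n2598 := d18_1 D2598 (iv D2598) (iv D1773) F3812 D1773
theorem F8003 : act 5 n2598 = n2598 := d22_2 F5518 D2598 (iv D2598)
def n2599 : Q := act 6 n1773
theorem D2599 : act 6 n1773 = n2599 := rfl
theorem F8004 : act 0 n2599 = n1784 := d5_1 D2599 (iv D1784) (iv F5517)
theorem F8005 : act 3 n2599 = n1774 := d20_1 D2599 (iv D1774) D1773
def n2600 : Q := act 5 n1774
theorem D2600 : act 5 n1774 = n2600 := rfl
theorem F8006 : act 0 n2600 = n1785 := d4_1 D2600 (iv D1785) (iv F5519)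
theorem F8007 : act 2 n2600 = n1778 := d15_1 D2600 (iv D1778) (iv F5520)
theorem F8008 : act 4 n2600 = n2600 := d22_1 D2600 (iv D2600) F5521
theorem F8009 : act 6 n2600 = n2600 := d25_2 D1774 D2600 (iv D2600) (iv D1774) F3813
def n2601 : Q := act 1 n1775
theorem D2601 : act 1 n1775 = n2601 := rfl
theorem F8010 : act 2 n2601 = n2023 := d7_2 D1775 D2601 (iv D2023) (iv D1367) (iv F3815)
theorem F8011 : act 7 n2601 = n1885 := d12_2 (iv F5524) D2601 (iv D1885)
def n2602 : Q := act 4 n1775
theorem D2602 : act 4 n1775 = n2602 := rfl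
theorem F8012 : act 0 n2602 = n1787 := d3_1 D2602 (iv D1787) (iv F5522)
theorem F8013 : act 2 n2602 = n1776 := d14_1 D2602 (iv D1776) D1775
theorem F8014 : act 5 n2602 = n2602 := d22_2 F5523 D2602 (iv D2602)
theorem F8015 : act 7 n2602 = n1886 := d24_2 (iv F5524) D2602 (iv D1886)
def n2603 : Q := act 6 n1775
theorem D2603 : act 6 n1775 = n2603 := rfl
theorem F8016 : act 0 n2603 = n1788 := d5_1 D2603 (iv D1788) (iv F5522)
theorem F8017 : act 2 n2603 = n1777 := d16_1 D2603 (iv D1777) D1775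
def n2604 : Q := act 6 n1776
theorem D2604 : act 6 n1776 = n2604 := rfl
theorem F8018 : act 0 n2604 = n1789 := d5_1 D2604 (iv D1789) (iv F5525)
theorem F8019 : act 1 n2604 = n2026 := d11_1 D2604 (iv D2026) (iv F5526)
theorem F8020 : act 3 n2604 = n2604 := d20_1 D2604 (iv D2604) F5527
theorem F8021 : act 4 n2604 = n1777 := d23_1 D2604 (iv D1777) D1776
theorem F8022 : act 7 n2604 = n2305 := d27_2 (iv F5529) D2604 (iv D2305) F4937 F4028
def n2605 : Q := act 5 n1777
theorem D2605 : act 5 n1777 = n2605 := rfl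
theorem F8023 : act 0 n2605 = n1790 := d4_1 D2605 (iv D1790) (iv F5530)
theorem F8024 : act 3 n2605 = n1778 := d19_1 D2605 (iv D1778) (iv F5532)
theorem F8025 : act 6 n2605 = n2605 := d25_2 D1777 D2605 (iv D2605) (iv D1777) F3816
def n2606 : Q := act 7 n1777
theorem D2606 : act 7 n1777 = n2606 := rfl
theorem F8026 : act 0 n2606 = n1791 := d6_1 D2606 (iv D1791) (iv F5530)
theorem F8027 : act 1 n2606 = n2028 := d12_1 D2606 (iv D2028) (iv F5531)
theorem F8028 : act 4 n2606 = n2305 := d24_1 D2606 (iv F8022) F8021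
theorem F8029 : act 6 n2606 = n1889 := d27_1 D2606 (iv D1889) (iv D1270) (iv F3817) D1777
def n2607 : Q := act 1 n1778
theorem D2607 : act 1 n1778 = n2607 := rfl
theorem F8030 : act 4 n2607 = n2607 := d9_2 F5534 D2607 (iv D2607)
theorem F8031 : act 5 n2607 = n2029 := d10_2 D1778 D2607 (iv D2029) (iv D1370) (iv F3819)
theorem F8032 : act 6 n2607 = n2607 := d11_2 F5535 D2607 (iv D2607)
def n2608 : Q := act 3 n1779
theorem D2608 : act 3 n1779 = n2608 := rfl
theorem F8033 : act 2 n2608 = n2608 := d13_1 D2608 (iv D2608) F5536 F4037 (iv F5536)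
theorem F8034 : act 5 n2608 = n2608 := d19_2 F5538 D2608 (iv D2608)
theorem F8035 : act 7 n2608 = n2608 := d21_2 D1779 D2608 (iv D2608) (iv D1779) F3822
def n2609 : Q := act 6 n1779
theorem D2609 : act 6 n1779 = n2609 := rfl
theorem F8036 : act 2 n2609 = n1891 := d16_1 D2609 (iv D1891) (iv F5536)
theorem F8037 : act 4 n2609 = n1781 := d23_1 D2609 (iv D1781) (iv F5537)
theorem F8038 : act 7 n2609 = n2382 := d27_2 D1779 D2609 (iv D2382) (iv D1628) (iv F3824)
def n2610 : Q := act 2 n1780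
theorem D2610 : act 2 n1780 = n2610 := rfl
theorem F8039 : act 3 n2610 = n1892 := d13_2 D1780 D2610 (iv D1892) (iv D1273) (iv F3825)
theorem F8040 : act 5 n2610 = n2610 := d15_2 F5539 D2610 (iv D2610)
theorem F8041 : act 7 n2610 = n1782 := d17_2 (iv F5540) D2610 (iv D1782)
def n2611 : Q := act 4 n1780
theorem D2611 : act 4 n1780 = n2611 := rfl
theorem F8042 : act 5 n2611 = n2611 := d22_2 F5539 D2611 (iv D2611)
theorem F8043 : act 7 n2611 = n1783 := d24_2 (iv F5540) D2611 (iv D1783)
def n2612 : Q := act 6 n1780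
theorem D2612 : act 6 n1780 = n2612 := rfl
theorem F8044 : act 3 n2612 = n1781 := d20_1 D2612 (iv D1781) D1780
def n2613 : Q := act 5 n1781
theorem D2613 : act 5 n1781 = n2613 := rfl
theorem F8045 : act 2 n2613 = n1894 := d15_1 D2613 (iv D1894) (iv F5541)
theorem F8046 : act 6 n2613 = n2613 := d25_2 D1781 D2613 (iv D2613) (iv D1781) F3826
def n2614 : Q := act 1 n1782
theorem D2614 : act 1 n1782 = n2614 := rfl
theorem F8047 : act 3 n2614 = n1786 := d8_2 (iv F5542) D2614 (iv D1786)
def n2615 : Q := act 4 n1782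
theorem D2615 : act 4 n1782 = n2615 := rfl
theorem F8048 : act 2 n2615 = n1783 := d14_1 D2615 (iv D1783) D1782
theorem F8049 : act 5 n2615 = n2615 := d22_2 F5543 D2615 (iv D2615)
def n2616 : Q := act 6 n1782
theorem D2616 : act 6 n1782 = n2616 := rfl
theorem F8050 : act 2 n2616 = n1784 := d16_1 D2616 (iv D1784) D1782
theorem F8051 : act 3 n2616 = n1788 := d20_1 D2616 (iv D1788) (iv F5542)
def n2617 : Q := act 6 n1783
theorem D2617 : act 6 n1783 = n2617 := rfl
theorem F8052 : act 3 n2617 = n2617 := d20_1 D2617 (iv D2617) F5544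
theorem F8053 : act 4 n2617 = n1784 := d23_1 D2617 (iv D1784) D1783
def n2618 : Q := act 5 n1784
theorem D2618 : act 5 n1784 = n2618 := rfl
theorem F8054 : act 3 n2618 = n1785 := d19_1 D2618 (iv D1785) (iv F5546)
theorem F8055 : act 6 n2618 = n2618 := d25_2 D1784 D2618 (iv D2618) (iv D1784) F3827
def n2619 : Q := act 7 n1784
theorem D2619 : act 7 n1784 = n2619 := rfl
def n2620 : Q := act 1 n1785
theorem D2620 : act 1 n1785 = n2620 := rfl
theorem F8056 : act 4 n2620 = n2620 := d9_2 F5548 D2620 (iv D2620)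
theorem F8057 : act 6 n2620 = n2620 := d11_2 F5549 D2620 (iv D2620)
def n2621 : Q := act 0 n1786
theorem D2621 : act 0 n1786 = n2621 := rfl
theorem F8058 : act 2 n2621 = n1793 := d1_2 (iv F5550) D2621 (iv D1793)
theorem F8059 : act 7 n2621 = n1900 := d6_2 (iv F5551) D2621 (iv D1900)
def n2622 : Q := act 4 n1786
theorem D2622 : act 4 n1786 = n2622 := rfl
theorem F8060 : act 1 n2622 = n1787 := d9_1 D2622 (iv D1787) D1786
theorem F8061 : act 2 n2622 = n1794 := d14_1 D2622 (iv D1794) (iv F5550)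
theorem F8062 : act 7 n2622 = n1901 := d24_2 (iv F5551) D2622 (iv D1901)
def n2623 : Q := act 5 n1786
theorem D2623 : act 5 n1786 = n2623 := rfl
theorem F8063 : act 1 n2623 = n2623 := d10_1 D2623 (iv D2623) (iv D1786) F3830 D1786
theorem F8064 : act 2 n2623 = n1795 := d15_1 D2623 (iv D1795) (iv F5550)
theorem F8065 : act 7 n2623 = n1902 := d26_2 (iv F5551) D2623 (iv D1902)
def n2624 : Q := act 6 n1786
theorem D2624 : act 6 n1786 = n2624 := rfl
theorem F8066 : act 1 n2624 = n1788 := d11_1 D2624 (iv D1788) D1786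
theorem F8067 : act 2 n2624 = n1796 := d16_1 D2624 (iv D1796) (iv F5550)
def n2625 : Q := act 3 n1787
theorem D2625 : act 3 n1787 = n2625 := rfl
theorem F8068 : act 2 n2625 = n2625 := d13_1 D2625 (iv D2625) F5552 F3833 (iv F5552)
theorem F8069 : act 5 n2625 = n2625 := d19_2 F5553 D2625 (iv D2625)
theorem F8070 : act 7 n2625 = n2625 := d21_2 (iv F5554) D2625 (iv D2625) F5554 F4056
def n2626 : Q := act 6 n1787
theorem D2626 : act 6 n1787 = n2626 := rfl
theorem F8071 : act 2 n2626 = n1789 := d16_1 D2626 (iv D1789) (iv F5552)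
theorem F8072 : act 4 n2626 = n1788 := d23_1 D2626 (iv D1788) D1787
theorem F8073 : act 7 n2626 = n2394 := d27_2 (iv F5554) D2626 (iv D2394) F5097 F4058
def n2627 : Q := act 5 n1788
theorem D2627 : act 5 n1788 = n2627 := rfl
theorem F8074 : act 2 n2627 = n1790 := d15_1 D2627 (iv D1790) (iv F5555)
theorem F8075 : act 6 n2627 = n2627 := d25_2 D1788 D2627 (iv D2627) (iv D1788) F3830
def n2628 : Q := act 7 n1788
theorem D2628 : act 7 n1788 = n2628 := rfl
theorem F8076 : act 2 n2628 = n1791 := d17_1 D2628 (iv D1791) (iv F5555)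
theorem F8077 : act 4 n2628 = n2394 := d24_1 D2628 (iv F8073) F8072
theorem F8078 : act 6 n2628 = n1905 := d27_1 D2628 (iv D1905) (iv D1280) (iv F3831) D1788
def n2629 : Q := act 5 n1789
theorem D2629 : act 5 n1789 = n2629 := rfl
theorem F8079 : act 3 n2629 = n2629 := d19_1 D2629 (iv D2629) F5557
theorem F8080 : act 4 n2629 = n1790 := d22_1 D2629 (iv D1790) (iv F5558)
theorem F8081 : act 6 n2629 = n2629 := d25_2 D1789 D2629 (iv D2629) (iv D1789) F3834
theorem F8082 : act 7 n2629 = n2395 := d26_2 (iv F5559) D2629 (iv D2395)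
def n2630 : Q := act 1 n1790
theorem D2630 : act 1 n1790 = n2630 := rfl
theorem F8083 : act 3 n2630 = n1792 := d8_2 (iv F5560) D2630 (iv D1792)
theorem F8084 : act 5 n2630 = n1802 := d10_2 D1790 D2630 (iv D1802) (iv D1216) (iv F3836)
theorem F8085 : act 6 n2630 = n2630 := d11_2 F5561 D2630 (iv D2630)
def n2631 : Q := act 7 n1790
theorem D2631 : act 7 n1790 = n2631 := rfl
theorem F8086 : act 4 n2631 = n2395 := d24_1 D2631 (iv F8082) F8080
theorem F8087 : act 5 n2631 = n1791 := d26_1 D2631 (iv D1791) D1790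
def n2632 : Q := act 0 n1792
theorem D2632 : act 0 n1792 = n2632 := rfl
theorem F8088 : act 4 n2632 = n2632 := d3_2 F5565 D2632 (iv D2632)
theorem F8089 : act 5 n2632 = n1804 := d4_2 (iv F5566) D2632 (iv D1804)
theorem F8090 : act 6 n2632 = n2632 := d5_2 F5567 D2632 (iv D2632)
theorem F8091 : act 7 n2632 = n2513 := d6_2 (iv F5568) D2632 F7760
def n2633 : Q := act 2 n1792
theorem D2633 : act 2 n1792 = n2633 := rfl
theorem F8092 : act 4 n2633 = n2633 := d14_2 F5565 D2633 (iv D2633)
theorem F8093 : act 5 n2633 = n1805 := d15_2 (iv F5566) D2633 (iv D1805)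
theorem F8094 : act 6 n2633 = n2633 := d16_2 F5567 D2633 (iv D2633)
theorem F8095 : act 7 n2633 = n2520 := d17_2 (iv F5568) D2633 F7774
def n2634 : Q := act 4 n1793
theorem D2634 : act 4 n1793 = n2634 := rfl
theorem F8096 : act 0 n2634 = n1794 := d3_1 D2634 (iv D1794) D1793
theorem F8097 : act 1 n2634 = n2054 := d9_1 D2634 (iv D2054) (iv F5569)
theorem F8098 : act 7 n2634 = n1907 := d24_2 (iv F5570) D2634 (iv D1907)
def n2635 : Q := act 5 n1793
theorem D2635 : act 5 n1793 = n2635 := rfl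
theorem F8099 : act 0 n2635 = n1795 := d4_1 D2635 (iv D1795) D1793
theorem F8100 : act 7 n2635 = n1908 := d26_2 (iv F5570) D2635 (iv D1908)
def n2636 : Q := act 6 n1793
theorem D2636 : act 6 n1793 = n2636 := rfl
theorem F8101 : act 0 n2636 = n1796 := d5_1 D2636 (iv D1796) D1793
theorem F8102 : act 1 n2636 = n2056 := d11_1 D2636 (iv D2056) (iv F5569)
def n2637 : Q := act 3 n1794
theorem D2637 : act 3 n1794 = n2637 := rfl
theorem F8103 : act 1 n2637 = n1797 := d8_1 D2637 (iv D1797) (iv F5571)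
theorem F8104 : act 7 n2637 = n2420 := d21_2 (iv F5572) D2637 (iv D2420) (iv D1653) F4070
def n2638 : Q := act 5 n1794
theorem D2638 : act 5 n1794 = n2638 := rfl
theorem F8105 : act 1 n2638 = n1810 := d10_1 D2638 (iv D1810) F3863 (iv F3843) (iv F5571)
theorem F8106 : act 4 n2638 = n1795 := d22_1 D2638 (iv D1795) D1794
theorem F8107 : act 7 n2638 = n1910 := d26_2 (iv F5572) D2638 (iv D1910)
def n2639 : Q := act 6 n1794
theorem D2639 : act 6 n1794 = n2639 := rfl
theorem F8108 : act 1 n2639 = n1798 := d11_1 D2639 (iv D1798) (iv F5571)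
theorem F8109 : act 4 n2639 = n1796 := d23_1 D2639 (iv D1796) D1794
theorem F8110 : act 7 n2639 = n2406 := d27_2 (iv F5572) D2639 (iv D2406) F5118 F4071
def n2640 : Q := act 6 n1795
theorem D2640 : act 6 n1795 = n2640 := rfl
theorem F8111 : act 1 n2640 = n1812 := d11_1 D2640 (iv D1812) (iv F5573)
def n2641 : Q := act 5 n1796
theorem D2641 : act 5 n1796 = n2641 := rfl
def n2642 : Q := act 7 n1796
theorem D2642 : act 7 n1796 = n2642 := rfl
theorem F8112 : act 1 n2642 = n1800 := d12_1 D2642 (iv D1800) (iv F5575)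
theorem F8113 : act 4 n2642 = n2406 := d24_1 D2642 (iv F8110) F8109
theorem F8114 : act 6 n2642 = n1913 := d27_1 D2642 (iv D1913) (iv D1286) (iv F3840) D1796
def n2643 : Q := act 6 n1797
theorem D2643 : act 6 n1797 = n2643 := rfl
theorem F8115 : act 0 n2643 = n2061 := d5_1 D2643 (iv D2061) (iv F5576)
theorem F8116 : act 2 n2643 = n2643 := d16_1 D2643 (iv D2643) F5577
theorem F8117 : act 3 n2643 = n1798 := d20_1 D2643 (iv D1798) D1797
theorem F8118 : act 7 n2643 = n2643 := d27_2 (iv F5579) D2643 (iv D2643) F5579 F5150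
def n2644 : Q := act 5 n1798
theorem D2644 : act 5 n1798 = n2644 := rfl
theorem F8119 : act 0 n2644 = n2062 := d4_1 D2644 (iv D2062) (iv F5580)
theorem F8120 : act 2 n2644 = n1801 := d15_1 D2644 (iv D1801) (iv F5581)
theorem F8121 : act 4 n2644 = n1799 := d22_1 D2644 (iv D1799) (iv F5582)
theorem F8122 : act 6 n2644 = n1816 := d25_2 D1798 D2644 (iv D1816) (iv D1224) (iv F3843)
theorem F8123 : act 7 n2644 = n2407 := d26_2 (iv F5583) D2644 (iv D2407)
def n2645 : Q := act 1 n1799
theorem D2645 : act 1 n1799 = n2645 := rfl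
theorem F8124 : act 3 n2645 = n2576 := d8_2 (iv F5586) D2645 F7940
theorem F8125 : act 6 n2645 = n1817 := d11_2 (iv F5587) D2645 (iv D1817)
def n2646 : Q := act 7 n1799
theorem D2646 : act 7 n1799 = n2646 := rfl
theorem F8126 : act 0 n2646 = n2064 := d6_1 D2646 (iv D2064) (iv F5584)
theorem F8127 : act 2 n2646 = n1803 := d17_1 D2646 (iv D1803) (iv F5585)
theorem F8128 : act 4 n2646 = n2407 := d24_1 D2646 (iv F8123) F8121
theorem F8129 : act 5 n2646 = n1800 := d26_1 D2646 (iv D1800) D1799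
theorem F8130 : act 6 n2646 = n2646 := d27_1 D2646 (iv D2646) F5587 F3881 (iv F5587)
def n2647 : Q := act 3 n1800
theorem D2647 : act 3 n1800 = n2647 := rfl
theorem F8131 : act 0 n2647 = n2042 := d2_1 D2647 F6333 (iv F5588)
theorem F8132 : act 4 n2647 = n2647 := d18_2 (iv F5590) D2647 (iv D2647) F5590 F5121
theorem F8133 : act 6 n2647 = n1914 := d20_2 (iv F5591) D2647 (iv D1914)
def n2648 : Q := act 1 n1801
theorem D2648 : act 1 n1801 = n2648 := rfl
theorem F8134 : act 3 n2648 = n2648 := d8_2 F5593 D2648 (iv D2648)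
theorem F8135 : act 4 n2648 = n1802 := d9_2 (iv F5594) D2648 (iv D1802)
theorem F8136 : act 6 n2648 = n1818 := d11_2 (iv F5595) D2648 (iv D1818)
theorem F8137 : act 7 n2648 = n2408 := d12_2 (iv F5596) D2648 (iv D2408)
def n2649 : Q := act 0 n1802
theorem D2649 : act 0 n1802 = n2649 := rfl
theorem F8138 : act 1 n2649 = n2065 := d0_2 D1802 D2649 (iv D2065) (iv D1394) (iv F3851)
theorem F8139 : act 3 n2649 = n1804 := d2_2 (iv F5597) D2649 (iv D1804)
theorem F8140 : act 6 n2649 = n1819 := d5_2 (iv F5598) D2649 (iv D1819)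
def n2650 : Q := act 2 n1802
theorem D2650 : act 2 n1802 = n2650 := rfl
theorem F8141 : act 6 n2650 = n1820 := d16_2 (iv F5598) D2650 (iv D1820)
def n2651 : Q := act 7 n1802
theorem D2651 : act 7 n1802 = n2651 := rfl
theorem F8142 : act 1 n2651 = n1803 := d12_1 D2651 (iv D1803) D1802
theorem F8143 : act 3 n2651 = n2525 := d21_1 D2651 (iv D2525) F5374 (iv F3859) (iv F5597)
theorem F8144 : act 4 n2651 = n2408 := d24_1 D2651 (iv F8137) F8135
theorem F8145 : act 6 n2651 = n2651 := d27_1 D2651 (iv D2651) F5598 F3888 (iv F5598)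
def n2652 : Q := act 2 n1804
theorem D2652 : act 2 n1804 = n2652 := rfl
theorem F8146 : act 0 n2652 = n1805 := d1_1 D2652 (iv D1805) D1804
theorem F8147 : act 4 n2652 = n2652 := d14_2 F5605 D2652 (iv D2652)
theorem F8148 : act 6 n2652 = n1821 := d16_2 (iv F5606) D2652 (iv D1821)
theorem F8149 : act 7 n2652 = n2509 := d17_2 (iv F5607) D2652 F7748
def n2653 : Q := act 3 n1805
theorem D2653 : act 3 n1805 = n2653 := rfl
theorem F8150 : act 1 n2653 = n2565 := d8_1 D2653 F7915 (iv F5608)
theorem F8151 : act 6 n2653 = n1822 := d20_2 (iv F5610) D2653 (iv D1822)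
def n2654 : Q := act 3 n1806
theorem D2654 : act 3 n1806 = n2654 := rfl
theorem F8152 : act 0 n2654 = n1809 := d2_1 D2654 (iv D1809) (iv F5612)
theorem F8153 : act 1 n2654 = n2070 := d8_1 D2654 (iv D2070) (iv F5613)
def n2655 : Q := act 5 n1806
theorem D2655 : act 5 n1806 = n2655 := rfl
theorem F8154 : act 0 n2655 = n1810 := d4_1 D2655 (iv D1810) (iv F5612)
theorem F8155 : act 2 n2655 = n2655 := d15_1 D2655 (iv D2655) F5614
theorem F8156 : act 4 n2655 = n1807 := d22_1 D2655 (iv D1807) D1806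
theorem F8157 : act 7 n2655 = n1916 := d26_2 (iv F5615) D2655 (iv D1916)
def n2656 : Q := act 1 n1807
theorem D2656 : act 1 n1807 = n2656 := rfl
theorem F8158 : act 5 n2656 = n2072 := d10_2 D1807 D2656 (iv D2072) (iv D1399) (iv F3860)
theorem F8159 : act 7 n2656 = n1917 := d12_2 (iv F5618) D2656 (iv D1917)
def n2657 : Q := act 6 n1807
theorem D2657 : act 6 n1807 = n2657 := rfl
theorem F8160 : act 0 n2657 = n1812 := d5_1 D2657 (iv D1812) (iv F5616)
theorem F8161 : act 2 n2657 = n2657 := d16_1 D2657 (iv D2657) F5617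
def n2658 : Q := act 5 n1808
theorem D2658 : act 5 n1808 = n2658 := rfl
theorem F8162 : act 0 n2658 = n1813 := d4_1 D2658 (iv D1813) (iv F5619)
theorem F8163 : act 2 n2658 = n2658 := d15_1 D2658 (iv D2658) F5621
theorem F8164 : act 3 n2658 = n2581 := d19_1 D2658 (iv D2581) (iv F5622)
theorem F8165 : act 7 n2658 = n2658 := d26_2 F5623 D2658 (iv D2658)
def n2659 : Q := act 2 n1809
theorem D2659 : act 2 n1809 = n2659 := rfl
theorem F8166 : act 1 n2659 = n2659 := d7_1 D2659 (iv D2659) F5624 F3873 (iv F5624)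
theorem F8167 : act 3 n2659 = n2659 := d13_2 D1809 D2659 (iv D2659) (iv D1809) F3864
theorem F8168 : act 4 n2659 = n2498 := d14_2 F7821 D2659 (iv F7820)
theorem F8169 : act 5 n2518 = n2659 := d22_0 F8168 F7713 D2518
def n2660 : Q := act 5 n1809
theorem D2660 : act 5 n1809 = n2660 := rfl
theorem F8170 : act 2 n2660 = n2518 := d15_1 D2660 F8169 (iv D2659)
theorem F8171 : act 3 n2660 = n1810 := d19_1 D2660 (iv D1810) D1809
theorem F8172 : act 4 n2660 = n2517 := d22_1 D2660 (iv F7822) F7821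
def n2661 : Q := act 6 n1809
theorem D2661 : act 6 n1809 = n2661 := rfl
theorem F8173 : act 1 n2661 = n1814 := d11_1 D2661 (iv D1814) (iv F5624)
theorem F8174 : act 3 n2661 = n1811 := d20_1 D2661 (iv D1811) D1809
theorem F8175 : act 4 n2661 = n2582 := d23_1 D2661 F7962 F7821
def n2662 : Q := act 7 n1809
theorem D2662 : act 7 n1809 = n2662 := rfl
theorem F8176 : act 1 n2662 = n1815 := d12_1 D2662 (iv D1815) (iv F5624)
theorem F8177 : act 3 n2662 = n1921 := d21_1 D2662 (iv D1921) (iv D1290) (iv F3865) D1809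
def n2663 : Q := act 6 n1810
theorem D2663 : act 6 n1810 = n2663 := rfl
theorem F8178 : act 2 n2663 = n2663 := d16_1 D2663 (iv D2663) F5625
theorem F8179 : act 4 n2663 = n1812 := d23_1 D2663 (iv D1812) (iv F5626)
def n2664 : Q := act 5 n1811
theorem D2664 : act 5 n1811 = n2664 := rfl
theorem F8180 : act 2 n2664 = n2664 := d15_1 D2664 (iv D2664) F5629
theorem F8181 : act 4 n2664 = n1813 := d22_1 D2664 (iv D1813) (iv F5630)
theorem F8182 : act 7 n2664 = n2664 := d26_2 F5631 D2664 (iv D2664)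
def n2665 : Q := act 5 n1812
theorem D2665 : act 5 n1812 = n2665 := rfl
theorem F8183 : act 2 n2665 = n2665 := d15_1 D2665 (iv D2665) F5632
theorem F8184 : act 3 n2665 = n2584 := d19_1 D2665 F7965 F7824
theorem F8185 : act 6 n2665 = n1813 := d25_2 D1812 D2665 (iv D1813) (iv D1222) D1221
def n2666 : Q := act 7 n1812
theorem D2666 : act 7 n1812 = n2666 := rfl
theorem F8186 : act 2 n2666 = n2666 := d17_1 D2666 (iv D2666) F5632
theorem F8187 : act 6 n2666 = n1923 := d27_1 D2666 (iv D1923) (iv D1292) (iv F3867) D1812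
def n2667 : Q := act 1 n1813
theorem D2667 : act 1 n1813 = n2667 := rfl
theorem F8188 : act 3 n2667 = n2575 := d8_2 (iv F5634) D2667 F7938
theorem F8189 : act 5 n2667 = n1817 := d10_2 D1813 D2667 (iv D1817) (iv D1225) (iv F3868)
theorem F8190 : act 7 n2667 = n2667 := d12_2 F5635 D2667 (iv D2667)
def n2668 : Q := act 5 n1814
theorem D2668 : act 5 n1814 = n2668 := rfl
theorem F8191 : act 0 n2668 = n2081 := d4_1 D2668 (iv D2081) (iv F5636)
theorem F8192 : act 2 n2668 = n2668 := d15_1 D2668 (iv D2668) F5637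
theorem F8193 : act 3 n2668 = n1816 := d19_1 D2668 (iv D1816) (iv F5638)
theorem F8194 : act 4 n2668 = n2577 := d22_1 D2668 F7943 (iv F5639)
theorem F8195 : act 7 n2668 = n2397 := d31_1 D2668 F7652 F7650 F7651 (iv D2481) (iv F5817) (iv D1870) F3997 F3996 F2871 (iv D883) F1977 F1785 F1784 (iv F1439) (iv F1438) F1409 F1213 F1214 (iv F1164) F1163 (iv D364) D363 F1161 (iv F1121) D558 (iv F2669) D1224 (iv F5638)
theorem F8196 : act 1 n2390 = n2668 := d12_3 F8195 (iv D2397) (iv F7370)
theorem F8197 : act 5 n2661 = n2393 := d10_4 (iv F7369) F8196 (iv D2668) (iv F8173) (iv D2393)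
theorem F8198 : act 2 n2405 = n2661 := d15_3 F8197 F7375 D2405
theorem F8199 : act 3 n2393 = n2664 := d19_1 F8197 (iv D2664) (iv F8174)
theorem F8200 : act 7 n2399 = n2661 := d26_0 F8197 F7376 D2399
theorem F8201 : act 1 n2664 = n2383 := d8_1 F8199 F7356 D2393
theorem F8202 : act 4 n2383 = n2667 := d9_2 (iv F8181) F8201 (iv D2667)
theorem F8203 : act 2 n2667 = n2384 := d14_1 F8202 (iv D2384) D2383
theorem F8204 : act 6 n2659 = n2405 := d16_0 F8198 (iv D2661) D2659
def n2669 : Q := act 7 n1814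
theorem D2669 : act 7 n1814 = n2669 := rfl
theorem F8205 : act 0 n2669 = n2082 := d6_1 D2669 (iv D2082) (iv F5636)
theorem F8206 : act 1 n2669 = n2399 := d12_1 D2669 F8200 F8173
theorem F8207 : act 2 n2669 = n2669 := d17_1 D2669 (iv D2669) F5637
theorem F8208 : act 3 n2669 = n2669 := d21_1 D2669 (iv D2669) F5638 F3877 (iv F5638)
theorem F8209 : act 4 n2669 = n2585 := d24_1 D2669 (iv D2585) (iv F5639)
theorem F8210 : act 5 n2669 = n2397 := d26_1 D2669 (iv F8195) (iv D2668)
def n2670 : Q := act 6 n1815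
theorem D2670 : act 6 n1815 = n2670 := rfl
theorem F8211 : act 0 n2670 = n2083 := d5_1 D2670 (iv D2083) (iv F5640)
theorem F8212 : act 2 n2670 = n2670 := d16_1 D2670 (iv D2670) F5641
theorem F8213 : act 3 n2670 = n1924 := d20_1 D2670 (iv D1924) (iv F5642)
theorem F8214 : act 5 n2670 = n2670 := d25_1 D2670 (iv D2670) F5643 F5150 (iv F5643)
def n2671 : Q := act 1 n1816
theorem D2671 : act 1 n1816 = n2671 := rfl
theorem F8215 : act 3 n2671 = n2390 := d8_2 F8193 D2671 F8196
theorem F8216 : act 4 n2671 = n1817 := d9_2 (iv F5646) D2671 (iv D1817)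
theorem F8217 : act 5 n2671 = n2383 := d10_2 D1816 D2671 (iv F8201) (iv D2664) F5628
theorem F8218 : act 7 n2671 = n2671 := d12_2 F5647 D2671 (iv D2671)
theorem F8219 : act 2 n2381 = n2671 := d15_3 F8217 (iv D2383) (iv F7353)
def n2672 : Q := act 0 n1817
theorem D2672 : act 0 n1817 = n2672 := rfl
theorem F8220 : act 1 n2672 = n2085 := d0_2 D1817 D2672 (iv D2085) (iv D1408) (iv F3878)
theorem F8221 : act 3 n2672 = n2573 := d2_2 (iv F5648) D2672 (iv D2573)
theorem F8222 : act 7 n2672 = n2672 := d6_2 F5649 D2672 (iv D2672)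
def n2673 : Q := act 2 n1817
theorem D2673 : act 2 n1817 = n2673 := rfl
theorem F8223 : act 1 n2673 = n1820 := d7_1 D2673 (iv D1820) (iv D1227) (iv F3879) D1817
theorem F8224 : act 4 n2673 = n2381 := d14_2 F8216 D2673 F8219
theorem F8225 : act 5 n2673 = n2384 := d15_2 F8189 D2673 (iv F8203)
theorem F8226 : act 7 n2673 = n2673 := d17_2 F5649 D2673 (iv D2673)
def n2674 : Q := act 2 n1818
theorem D2674 : act 2 n1818 = n2674 := rfl
theorem F8227 : act 1 n2674 = n2381 := d7_1 D2674 F8219 (iv D2671) F5645 D1818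
theorem F8228 : act 4 n2674 = n1820 := d14_2 (iv F5651) D2674 (iv D1820)
theorem F8229 : act 5 n2674 = n2674 := d15_2 F5652 D2674 (iv D2674)
theorem F8230 : act 7 n2674 = n2674 := d17_2 F5653 D2674 (iv D2674)
theorem F8231 : act 3 n2380 = n2674 := d8_0 F8227 (iv D2381) (iv F7349)
def n2675 : Q := act 2 n1819
theorem D2675 : act 2 n1819 = n2675 := rfl
theorem F8232 : act 0 n2675 = n1820 := d1_1 D2675 (iv D1820) D1819
theorem F8233 : act 5 n2675 = n2675 := d15_2 F5656 D2675 (iv D2675)
theorem F8234 : act 7 n2675 = n2675 := d17_2 F5657 D2675 (iv D2675)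
def n2676 : Q := act 3 n1820
theorem D2676 : act 3 n1820 = n2676 := rfl
theorem F8235 : act 2 n2676 = n1822 := d13_1 D2676 (iv D1822) (iv D1229) (iv F3886) D1820
theorem F8236 : act 5 n2676 = n2676 := d19_2 F5658 D2676 (iv D2676)
def n2677 : Q := act 1 n1821
theorem D2677 : act 1 n1821 = n2677 := rfl
theorem F8237 : act 0 n2677 = n2553 := d0_1 D2677 F7884 F5449 (iv F3893) (iv F5660)
theorem F8238 : act 2 n2677 = n2089 := d7_2 D1821 D2677 (iv D2089) (iv D1411) (iv F3889)
theorem F8239 : act 4 n2677 = n2677 := d9_2 F5661 D2677 (iv D2677)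
theorem F8240 : act 7 n2677 = n1823 := d12_2 (iv F5663) D2677 (iv D1823)
def n2678 : Q := act 3 n1821
theorem D2678 : act 3 n1821 = n2678 := rfl
theorem F8241 : act 0 n2678 = n1822 := d2_1 D2678 (iv D1822) (iv F5660)
theorem F8242 : act 5 n2678 = n2678 := d19_2 F5662 D2678 (iv D2678)
def n2679 : Q := act 4 n1822
theorem D2679 : act 4 n1822 = n2679 := rfl
theorem F8243 : act 1 n2679 = n2564 := d9_1 D2679 (iv D2564) (iv F5664)
theorem F8244 : act 3 n2679 = n2679 := d18_1 D2679 (iv D2679) (iv D1822) F3894 D1822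
theorem F8245 : act 5 n2679 = n2679 := d22_2 F5665 D2679 (iv D2679)
def n2680 : Q := act 7 n1822
theorem D2680 : act 7 n1822 = n2680 := rfl
theorem F8246 : act 1 n2680 = n2561 := d12_1 D2680 F7909 (iv F5664)
theorem F8247 : act 3 n2680 = n1825 := d21_1 D2680 (iv D1825) (iv D1231) (iv F3896) D1822
theorem F8248 : act 5 n2680 = n2680 := d26_1 D2680 (iv D2680) F5665
theorem F8249 : act 4 n2676 = n2680 := d18_0 F8247 (iv F7351) F8231 F8228 D2676
theorem F8250 : act 2 n2680 = n2679 := d14_1 F8249 (iv D2679) (iv F8235)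
theorem F8251 : act 7 n2679 = n2676 := d24_0 F8249 (iv D2680) D2679
def n2681 : Q := act 3 n1823
theorem D2681 : act 3 n1823 = n2681 := rfl
theorem F8252 : act 0 n2681 = n2551 := d2_1 D2681 (iv D2551) (iv F5666)
theorem F8253 : act 1 n2681 = n1824 := d8_1 D2681 (iv D1824) D1823
theorem F8254 : act 6 n2681 = n2503 := d20_2 (iv F5669) D2681 (iv D2503)
def n2682 : Q := act 5 n1823
theorem D2682 : act 5 n1823 = n2682 := rfl
theorem F8255 : act 0 n2682 = n2552 := d4_1 D2682 (iv D2552) (iv F5666)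
theorem F8256 : act 1 n2682 = n2682 := d10_1 D2682 (iv D2682) (iv D1823) F3899 D1823
theorem F8257 : act 2 n2682 = n2094 := d15_1 D2682 (iv D2094) (iv F5667)
theorem F8258 : act 4 n2682 = n2682 := d22_1 D2682 (iv D2682) F5668
def n2683 : Q := act 7 n1824
theorem D2683 : act 7 n1824 = n2683 := rfl
theorem F8259 : act 0 n2683 = n1825 := d6_1 D2683 (iv D1825) (iv F5670)
theorem F8260 : act 2 n2683 = n2683 := d17_1 D2683 (iv D2683) F5671
theorem F8261 : act 5 n2683 = n2683 := d26_1 D2683 (iv D2683) F5672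
def n2684 : Q := act 6 n1825
theorem D2684 : act 6 n1825 = n2684 := rfl
theorem F8262 : act 1 n2684 = n2562 := d11_1 D2684 (iv D2562) (iv F5674)
theorem F8263 : act 2 n2684 = n2684 := d16_1 D2684 (iv D2684) F5675
theorem F8264 : act 7 n2684 = n2516 := d27_2 D1825 D2684 (iv D2516) (iv D1722) (iv F3904)
def n2685 : Q := act 0 n1826
theorem D2685 : act 0 n1826 = n2685 := rfl
theorem F8265 : act 1 n2685 = n2685 := d0_2 D1826 D2685 (iv D2685) (iv D1826) F3905
theorem F8266 : act 2 n2685 = n2685 := d1_2 F5677 D2685 (iv D2685)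
theorem F8267 : act 3 n2685 = n1838 := d2_2 (iv F5678) D2685 (iv D1838)
theorem F8268 : act 4 n2685 = n2685 := d3_2 F5679 D2685 (iv D2685)
theorem F8269 : act 6 n2685 = n2685 := d5_2 F5680 D2685 (iv D2685)
theorem F8270 : act 7 n2685 = n2685 := d6_2 F5681 D2685 (iv D2685)
def n2686 : Q := act 5 n1826
theorem D2686 : act 5 n1826 = n2686 := rfl
theorem F8271 : act 1 n2686 = n2473 := d10_1 D2686 (iv D2473) (iv D1695) (iv F3908) D1826
theorem F8272 : act 2 n2686 = n2686 := d15_1 D2686 (iv D2686) F5677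
theorem F8273 : act 3 n2686 = n1840 := d19_1 D2686 (iv D1840) (iv F5678)
theorem F8274 : act 4 n2686 = n2686 := d22_1 D2686 (iv D2686) F5679
theorem F8275 : act 7 n2686 = n2686 := d26_2 F5681 D2686 (iv D2686)
def n2687 : Q := act 2 n1827
theorem D2687 : act 2 n1827 = n2687 := rfl
theorem F8276 : act 0 n2687 = n1829 := d1_1 D2687 (iv D1829) (iv F5682)
theorem F8277 : act 3 n2687 = n2373 := d13_2 D1827 D2687 (iv D2373) (iv D1623) (iv F3913)
theorem F8278 : act 5 n2687 = n1846 := d15_2 (iv F5684) D2687 (iv D1846)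
def n2688 : Q := act 4 n1827
theorem D2688 : act 4 n1827 = n2688 := rfl
theorem F8279 : act 0 n2688 = n1830 := d3_1 D2688 (iv D1830) (iv F5682)
theorem F8280 : act 1 n2688 = n2688 := d9_1 D2688 (iv D2688) F5683
theorem F8281 : act 3 n2688 = n1926 := d18_1 D2688 (iv D1926) (iv D1294) (iv F3914) D1827
theorem F8282 : act 5 n2688 = n1847 := d22_2 (iv F5684) D2688 (iv D1847)
def n2689 : Q := act 6 n1827
theorem D2689 : act 6 n1827 = n2689 := rfl
theorem F8283 : act 0 n2689 = n1831 := d5_1 D2689 (iv D1831) (iv F5682)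
theorem F8284 : act 1 n2689 = n2689 := d11_1 D2689 (iv D2689) F5683
theorem F8285 : act 3 n2689 = n1828 := d20_1 D2689 (iv D1828) D1827
def n2690 : Q := act 5 n1828
theorem D2690 : act 5 n1828 = n2690 := rfl
theorem F8286 : act 0 n2690 = n1832 := d4_1 D2690 (iv D1832) (iv F5685)
theorem F8287 : act 2 n2690 = n1926 := d15_1 D2690 F6000 (iv F5687)
theorem F8288 : act 4 n2690 = n1925 := d22_1 D2690 F5995 (iv F5688)
theorem F8289 : act 6 n2690 = n1849 := d25_2 D1828 D2690 (iv D1849) (iv D1245) (iv F3915)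
theorem F8290 : act 7 n2690 = n2690 := d26_2 F5689 D2690 (iv D2690)
def n2691 : Q := act 1 n1829
theorem D2691 : act 1 n1829 = n2691 := rfl
theorem F8291 : act 2 n2691 = n1833 := d7_2 D1829 D2691 (iv D1833) (iv D1236) (iv F3916)
theorem F8292 : act 3 n2691 = n2467 := d8_2 (iv F5690) D2691 (iv D2467)
def n2692 : Q := act 4 n1829
theorem D2692 : act 4 n1829 = n2692 := rfl
theorem F8293 : act 2 n2692 = n1830 := d14_1 D2692 (iv D1830) D1829
theorem F8294 : act 5 n2692 = n1857 := d22_2 (iv F5691) D2692 (iv D1857)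
def n2693 : Q := act 6 n1829
theorem D2693 : act 6 n1829 = n2693 := rfl
theorem F8295 : act 2 n2693 = n1831 := d16_1 D2693 (iv D1831) D1829
theorem F8296 : act 3 n2693 = n1857 := d20_1 D2693 (iv F5782) (iv F5690)
def n2694 : Q := act 6 n1830
theorem D2694 : act 6 n1830 = n2694 := rfl
theorem F8297 : act 1 n2694 = n1836 := d11_1 D2694 (iv D1836) (iv F5692)
theorem F8298 : act 3 n2694 = n1855 := d20_1 D2694 F5777 (iv F5693)
theorem F8299 : act 4 n2694 = n1831 := d23_1 D2694 (iv D1831) D1830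
theorem F8300 : act 5 n2694 = n1854 := d25_1 D2694 (iv D1854) F3960 F3967 (iv F5694)
def n2695 : Q := act 5 n1831
theorem D2695 : act 5 n1831 = n2695 := rfl
theorem F8301 : act 1 n2695 = n2695 := d10_1 D2695 (iv D2695) F5695 F3930 (iv F5695)
theorem F8302 : act 3 n2695 = n1832 := d19_1 D2695 (iv D1832) (iv F5696)
theorem F8303 : act 4 n2695 = n1854 := d22_1 D2695 (iv F8300) F8299
theorem F8304 : act 6 n2695 = n1853 := d25_2 D1831 D2695 F5772 (iv D1251) (iv F3917)
def n2696 : Q := act 7 n1831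
theorem D2696 : act 7 n1831 = n2696 := rfl
theorem F8305 : act 1 n2696 = n1837 := d12_1 D2696 (iv D1837) (iv F5695)
theorem F8306 : act 3 n2696 = n2696 := d21_1 D2696 (iv D2696) F5696 F3921 (iv F5696)
def n2697 : Q := act 0 n1833
theorem D2697 : act 0 n1833 = n2697 := rfl
theorem F8307 : act 1 n2697 = n2697 := d0_2 D1833 D2697 (iv D2697) (iv D1833) F3922
theorem F8308 : act 3 n2697 = n2472 := d2_2 (iv F5702) D2697 (iv D2472)
def n2698 : Q := act 4 n1833
theorem D2698 : act 4 n1833 = n2698 := rfl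
theorem F8309 : act 1 n2698 = n1834 := d9_1 D2698 (iv D1834) D1833
theorem F8310 : act 3 n2698 = n2698 := d18_1 D2698 (iv D2698) F5702 F5271 (iv F5702)
theorem F8311 : act 7 n2698 = n2546 := d24_2 F7870 D2698 (iv F7868)
theorem F8312 : act 6 n2696 = n2698 := d27_5 F8311 (iv D2546) F5419 D1831 D2696
def n2699 : Q := act 5 n1833
theorem D2699 : act 5 n1833 = n2699 := rfl
theorem F8313 : act 1 n2699 = n1840 := d10_1 D2699 (iv D1840) (iv D1239) (iv F3924) D1833
theorem F8314 : act 3 n2699 = n2473 := d19_1 D2699 (iv D2473) (iv F5702)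
def n2700 : Q := act 6 n1833
theorem D2700 : act 6 n1833 = n2700 := rfl
theorem F8315 : act 1 n2700 = n1835 := d11_1 D2700 (iv D1835) D1833
theorem F8316 : act 3 n2700 = n2474 := d20_1 D2700 (iv D2474) (iv F5702)
theorem F8317 : act 4 n2700 = n2696 := d23_1 D2700 F8312 (iv D2698)
theorem F8318 : act 7 n2700 = n2694 := d27_2 F7870 D2700 (iv D2694) (iv F7860) (iv F7869)
def n2701 : Q := act 4 n1838
theorem D2701 : act 4 n1838 = n2701 := rfl
theorem F8319 : act 0 n2701 = n1839 := d3_1 D2701 (iv D1839) D1838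
theorem F8320 : act 1 n2701 = n2701 := d9_1 D2701 (iv D2701) F5723
theorem F8321 : act 2 n2701 = n1865 := d14_1 D2701 (iv D1865) (iv F5724)
theorem F8322 : act 3 n2701 = n2701 := d18_1 D2701 (iv D2701) (iv F8267) F8268 F8267
theorem F8323 : act 6 n2701 = n2701 := d23_2 F5725 D2701 (iv D2701)
def n2702 : Q := act 5 n1838
theorem D2702 : act 5 n1838 = n2702 := rfl
theorem F8324 : act 0 n2702 = n1840 := d4_1 D2702 (iv D1840) D1838
theorem F8325 : act 2 n2702 = n1866 := d15_1 D2702 (iv D1866) (iv F5724)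
def n2703 : Q := act 5 n1839
theorem D2703 : act 5 n1839 = n2703 := rfl
theorem F8326 : act 2 n2703 = n1868 := d15_1 D2703 (iv D1868) (iv F5727)
theorem F8327 : act 3 n2703 = n2703 := d19_1 D2703 (iv D2703) F5728
theorem F8328 : act 4 n2703 = n1840 := d22_1 D2703 (iv D1840) D1839
def n2704 : Q := act 6 n1840
theorem D2704 : act 6 n1840 = n2704 := rfl
theorem F8329 : act 2 n2704 = n1869 := d16_1 D2704 (iv D1869) (iv F5730)
theorem F8330 : act 5 n2704 = n2704 := d25_1 D2704 (iv D2704) (iv D1840) F3932 D1840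
def n2705 : Q := act 2 n1841
theorem D2705 : act 2 n1841 = n2705 := rfl
theorem F8331 : act 0 n2705 = n2705 := d1_1 D2705 (iv D2705) F5731
theorem F8332 : act 3 n2705 = n2099 := d13_2 D1841 D2705 (iv D2099) (iv D1417) (iv F3938)
theorem F8333 : act 4 n2705 = n2144 := d14_2 (iv F5733) D2705 F6641
theorem F8334 : act 5 n2705 = n2143 := d15_2 (iv F5734) D2705 F6639
theorem F8335 : act 6 n2705 = n1871 := d16_2 (iv F5735) D2705 (iv D1871)
def n2706 : Q := act 7 n1841
theorem D2706 : act 7 n1841 = n2706 := rfl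
theorem F8336 : act 0 n2706 = n2706 := d6_1 D2706 (iv D2706) F5731
theorem F8337 : act 1 n2706 = n1843 := d12_1 D2706 (iv D1843) (iv F5732)
theorem F8338 : act 4 n2706 = n2147 := d24_1 D2706 (iv D2147) (iv F5733)
theorem F8339 : act 5 n2706 = n2146 := d26_1 D2706 (iv D2146) (iv F5734)
def n2707 : Q := act 3 n1842
theorem D2707 : act 3 n1842 = n2707 := rfl
theorem F8340 : act 0 n2707 = n2707 := d2_1 D2707 (iv D2707) F5736
theorem F8341 : act 1 n2707 = n1844 := d8_1 D2707 (iv D1844) (iv F5737)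
theorem F8342 : act 5 n2707 = n2208 := d19_2 (iv F5740) D2707 (iv D2208)
def n2708 : Q := act 6 n1842
theorem D2708 : act 6 n1842 = n2708 := rfl
theorem F8343 : act 0 n2708 = n2708 := d5_1 D2708 (iv D2708) F5736
theorem F8344 : act 1 n2708 = n1845 := d11_1 D2708 (iv D1845) (iv F5737)
theorem F8345 : act 2 n2708 = n2105 := d16_1 D2708 (iv D2105) (iv F5738)
theorem F8346 : act 4 n2708 = n1929 := d23_1 D2708 (iv D1929) (iv F5739)
theorem F8347 : act 5 n2708 = n2708 := d25_1 D2708 (iv D2708) F5740 F4746 (iv F5740)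
theorem F8348 : act 7 n2708 = n1878 := d27_2 D1842 D2708 (iv D1878) (iv D1263) (iv F3941)
def n2709 : Q := act 3 n1843
theorem D2709 : act 3 n1843 = n2709 := rfl
theorem F8349 : act 0 n2709 = n1850 := d2_1 D2709 (iv D1850) (iv F5741)
theorem F8350 : act 5 n2709 = n2300 := d19_2 (iv F5743) D2709 (iv D2300)
theorem F8351 : act 7 n2709 = n1844 := d21_2 D1843 D2709 (iv D1844) (iv D1243) D1242
def n2710 : Q := act 6 n1843
theorem D2710 : act 6 n1843 = n2710 := rfl
theorem F8352 : act 0 n2710 = n1851 := d5_1 D2710 (iv D1851) (iv F5741)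
theorem F8353 : act 4 n2710 = n2303 := d23_1 D2710 (iv D2303) (iv F5742)
theorem F8354 : act 7 n2710 = n1881 := d27_2 D1843 D2710 (iv D1881) (iv D1265) (iv F3945)
def n2711 : Q := act 2 n1844
theorem D2711 : act 2 n1844 = n2711 := rfl
theorem F8355 : act 0 n2711 = n1852 := d1_1 D2711 (iv D1852) (iv F5744)
theorem F8356 : act 3 n2711 = n1846 := d13_2 D1844 D2711 (iv D1846) (iv D1244) (iv F3947)
theorem F8357 : act 5 n2711 = n2373 := d15_2 (iv F5745) D2711 (iv D2373)
def n2712 : Q := act 4 n1844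
theorem D2712 : act 4 n1844 = n2712 := rfl
theorem F8358 : act 0 n2712 = n1853 := d3_1 D2712 (iv D1853) (iv F5744)
theorem F8359 : act 3 n2712 = n1849 := d18_1 D2712 F5760 (iv D1302) (iv F3948) D1844
theorem F8360 : act 5 n2712 = n1848 := d22_2 (iv F5745) D2712 F5758
def n2713 : Q := act 6 n1844
theorem D2713 : act 6 n1844 = n2713 := rfl
theorem F8361 : act 0 n2713 = n1854 := d5_1 D2713 (iv D1854) (iv F5744)
theorem F8362 : act 3 n2713 = n1845 := d20_1 D2713 (iv D1845) D1844
def n2714 : Q := act 5 n1845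
theorem D2714 : act 5 n1845 = n2714 := rfl
theorem F8363 : act 0 n2714 = n1855 := d4_1 D2714 (iv D1855) (iv F5746)
theorem F8364 : act 1 n2714 = n2714 := d10_1 D2714 (iv D2714) (iv F8344) F8347 F8344
theorem F8365 : act 2 n2714 = n1849 := d15_1 D2714 (iv D1849) (iv F5747)
theorem F8366 : act 4 n2714 = n1927 := d22_1 D2714 F6006 (iv F5748)
theorem F8367 : act 6 n2714 = n1926 := d25_2 D1845 D2714 F6000 F4143 (iv F3949)
theorem F8368 : act 7 n2714 = n1884 := d26_2 (iv F5749) D2714 (iv D1884)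
def n2715 : Q := act 1 n1846
theorem D2715 : act 1 n1846 = n2715 := rfl
theorem F8369 : act 2 n2715 = n2110 := d7_2 D1846 D2715 (iv D2110) (iv D1424) (iv F3951)
def n2716 : Q := act 4 n1846
theorem D2716 : act 4 n1846 = n2716 := rfl
theorem F8370 : act 0 n2716 = n1857 := d3_1 D2716 (iv D1857) (iv F5750)
theorem F8371 : act 2 n2716 = n1847 := d14_1 D2716 (iv D1847) D1846
theorem F8372 : act 6 n2373 = n2716 := d16_0 F8371 (iv F5754) D2373
def n2717 : Q := act 6 n1846
theorem D2717 : act 6 n1846 = n2717 := rfl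
theorem F8373 : act 0 n2717 = n1858 := d5_1 D2717 (iv D1858) (iv F5750)
theorem F8374 : act 2 n2717 = n1848 := d16_1 D2717 (iv D1848) D1846
theorem F8375 : act 4 n2717 = n2373 := d23_1 D2717 F8372 (iv D2716)
def n2718 : Q := act 7 n1848
theorem D2718 : act 7 n1848 = n2718 := rfl
theorem F8376 : act 0 n2718 = n1859 := d6_1 D2718 (iv D1859) (iv F5755)
theorem F8377 : act 1 n2718 = n2114 := d12_1 D2718 (iv D2114) (iv F5756)
theorem F8378 : act 3 n2718 = n1889 := d21_1 D2718 (iv D1889) F4031 (iv F3955) (iv F5757)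
theorem F8379 : act 4 n2718 = n2300 := d24_1 D2718 F7135 (iv F5758)
def n2719 : Q := act 1 n1849
theorem D2719 : act 1 n1849 = n2719 := rfl
theorem F8380 : act 0 n2719 = n2719 := d0_1 D2719 (iv D2719) F5759 F3971 (iv F5759)
theorem F8381 : act 2 n2719 = n2719 := d7_2 F8365 D2719 (iv D2719) (iv F8365) F8364
theorem F8382 : act 4 n2719 = n1928 := d9_2 (iv F5760) D2719 F6009
theorem F8383 : act 5 n2719 = n2115 := d10_2 D1849 D2719 (iv D2115) (iv D1427) (iv F3953)
theorem F8384 : act 7 n2719 = n1890 := d12_2 (iv F5761) D2719 (iv D1890)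
def n2720 : Q := act 2 n1850
theorem D2720 : act 2 n1850 = n2720 := rfl
theorem F8385 : act 5 n2720 = n2387 := d15_2 (iv F5763) D2720 (iv D2387)
theorem F8386 : act 7 n2720 = n1852 := d17_2 (iv F5764) D2720 (iv D1852)
def n2721 : Q := act 4 n1850
theorem D2721 : act 4 n1850 = n2721 := rfl
theorem F8387 : act 1 n2721 = n2721 := d9_1 D2721 (iv D2721) F5762
theorem F8388 : act 3 n2721 = n1906 := d18_1 D2721 F5935 (iv D1633) (iv F3957) D1850
theorem F8389 : act 5 n2721 = n1859 := d22_2 (iv F5763) D2721 F5787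
theorem F8390 : act 7 n2721 = n1853 := d24_2 (iv F5764) D2721 (iv D1853)
def n2722 : Q := act 6 n1850
theorem D2722 : act 6 n1850 = n2722 := rfl
theorem F8391 : act 1 n2722 = n2722 := d11_1 D2722 (iv D2722) F5762
theorem F8392 : act 3 n2722 = n1851 := d20_1 D2722 (iv D1851) D1850
def n2723 : Q := act 5 n1851
theorem D2723 : act 5 n1851 = n2723 := rfl
theorem F8393 : act 4 n2723 = n2392 := d22_1 D2723 (iv D2392) (iv F5766)
theorem F8394 : act 6 n2723 = n2389 := d25_2 D1851 D2723 (iv D2389) (iv D1632) (iv F3958)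
theorem F8395 : act 7 n2723 = n1894 := d26_2 (iv F5767) D2723 (iv D1894)
def n2724 : Q := act 1 n1852
theorem D2724 : act 1 n1852 = n2724 := rfl
theorem F8396 : act 2 n2724 = n2724 := d7_2 D1852 D2724 (iv D2724) (iv D1852) F3959
theorem F8397 : act 3 n2724 = n1856 := d8_2 (iv F5768) D2724 (iv D1856)
def n2725 : Q := act 4 n1852
theorem D2725 : act 4 n1852 = n2725 := rfl
theorem F8398 : act 2 n2725 = n1853 := d14_1 D2725 (iv D1853) D1852
theorem F8399 : act 5 n2725 = n1858 := d22_2 (iv F5769) D2725 F5784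
def n2726 : Q := act 6 n1852
theorem D2726 : act 6 n1852 = n2726 := rfl
theorem F8400 : act 2 n2726 = n1854 := d16_1 D2726 (iv D1854) D1852
theorem F8401 : act 3 n2726 = n1858 := d20_1 D2726 (iv D1858) (iv F5768)
def n2727 : Q := act 7 n1854
theorem D2727 : act 7 n1854 = n2727 := rfl
theorem F8402 : act 1 n2727 = n2727 := d12_1 D2727 (iv D2727) F5773
theorem F8403 : act 3 n2727 = n1898 := d21_1 D2727 (iv D1898) F4049 (iv F3964) (iv F5774)
theorem F8404 : act 5 n2727 = n2700 := d26_1 D2727 F8318 F8300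
def n2728 : Q := act 0 n1856
theorem D2728 : act 0 n1856 = n2728 := rfl
theorem F8405 : act 2 n2728 = n1860 := d1_2 (iv F5780) D2728 (iv D1860)
def n2729 : Q := act 4 n1856
theorem D2729 : act 4 n1856 = n2729 := rfl
theorem F8406 : act 1 n2729 = n1857 := d9_1 D2729 (iv D1857) D1856
theorem F8407 : act 2 n2729 = n1861 := d14_1 D2729 (iv D1861) (iv F5780)
theorem F8408 : act 6 n2467 = n2729 := d16_0 F8407 (iv F5792) (iv F7603)
def n2730 : Q := act 5 n1856
theorem D2730 : act 5 n1856 = n2730 := rfl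
theorem F8409 : act 2 n2730 = n1862 := d15_1 D2730 (iv D1862) (iv F5780)
def n2731 : Q := act 6 n1856
theorem D2731 : act 6 n1856 = n2731 := rfl
theorem F8410 : act 1 n2731 = n1858 := d11_1 D2731 (iv D1858) D1856
theorem F8411 : act 2 n2731 = n1863 := d16_1 D2731 (iv D1863) (iv F5780)
theorem F8412 : act 4 n2731 = n2467 := d23_1 D2731 F8408 (iv D2729)
def n2732 : Q := act 7 n1858
theorem D2732 : act 7 n1858 = n2732 := rfl
theorem F8413 : act 2 n2732 = n1859 := d17_1 D2732 (iv D1859) (iv F5783)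
theorem F8414 : act 4 n2732 = n2387 := d24_1 D2732 F7364 (iv F5784)
def n2733 : Q := act 4 n1860
theorem D2733 : act 4 n1860 = n2733 := rfl
theorem F8415 : act 0 n2733 = n1861 := d3_1 D2733 (iv D1861) D1860
theorem F8416 : act 1 n2733 = n2125 := d9_1 D2733 (iv D2125) (iv F5788)
theorem F8417 : act 3 n2477 = n2733 := d8_0 F8416 (iv F6582) (iv F7635)
theorem F8418 : act 6 n2468 = n2733 := d11_0 F8416 (iv F6583) (iv F7604)
def n2734 : Q := act 5 n1860
theorem D2734 : act 5 n1860 = n2734 := rfl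
theorem F8419 : act 0 n2734 = n1862 := d4_1 D2734 (iv D1862) D1860
theorem F8420 : act 3 n2734 = n2734 := d19_1 D2734 (iv D2734) F5789
def n2735 : Q := act 6 n1860
theorem D2735 : act 6 n1860 = n2735 := rfl
theorem F8421 : act 0 n2735 = n1863 := d5_1 D2735 (iv D1863) D1860
theorem F8422 : act 1 n2735 = n2127 := d11_1 D2735 (iv D2127) (iv F5788)
theorem F8423 : act 3 n2735 = n2735 := d20_1 D2735 (iv D2735) F5789
theorem F8424 : act 4 n2735 = n2468 := d23_1 D2735 F8418 (iv D2733)
def n2736 : Q := act 5 n1861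
theorem D2736 : act 5 n1861 = n2736 := rfl
theorem F8425 : act 1 n2736 = n1868 := d10_1 D2736 (iv D1868) F3992 (iv F3977) (iv F5790)
theorem F8426 : act 3 n2736 = n2479 := d19_1 D2736 (iv D2479) F5791
theorem F8427 : act 4 n2736 = n1862 := d22_1 D2736 (iv D1862) D1861
def n2737 : Q := act 6 n1862
theorem D2737 : act 6 n1862 = n2737 := rfl
theorem F8428 : act 1 n2737 = n1869 := d11_1 D2737 (iv D1869) (iv F5793)
theorem F8429 : act 3 n2737 = n2737 := d20_1 D2737 (iv D2737) F5794
def n2738 : Q := act 5 n1863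
theorem D2738 : act 5 n1863 = n2738 := rfl
theorem F8430 : act 1 n2738 = n2738 := d10_1 D2738 (iv D2738) F5795 F3984 (iv F5795)
theorem F8431 : act 3 n2738 = n2738 := d19_1 D2738 (iv D2738) F5796
theorem F8432 : act 4 n2738 = n2469 := d22_1 D2738 (iv D2469) (iv F5797)
def n2739 : Q := act 7 n1863
theorem D2739 : act 7 n1863 = n2739 := rfl
theorem F8433 : act 1 n2739 = n1864 := d12_1 D2739 (iv D1864) (iv F5795)
theorem F8434 : act 4 n2739 = n2400 := d24_1 D2739 F7389 (iv F5797)
def n2740 : Q := act 3 n1864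
theorem D2740 : act 3 n1864 = n2740 := rfl
theorem F8435 : act 0 n2740 = n2132 := d2_1 D2740 (iv D2132) (iv F5798)
theorem F8436 : act 2 n2740 = n1914 := d13_1 D2740 (iv D1914) F4078 (iv F3986) (iv F5799)
theorem F8437 : act 4 n2740 = n2740 := d18_2 (iv F5800) D2740 (iv D2740) F5800 F5107
theorem F8438 : act 5 n2740 = n2740 := d19_2 F5801 D2740 (iv D2740)
theorem F8439 : act 7 n2740 = n2740 := d21_2 D1864 D2740 (iv D2740) (iv D1864) F3982
def n2741 : Q := act 3 n1865
theorem D2741 : act 3 n1865 = n2741 := rfl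
theorem F8440 : act 0 n2741 = n1867 := d2_1 D2741 (iv D1867) (iv F5802)
theorem F8441 : act 1 n2741 = n2133 := d8_1 D2741 (iv D2133) (iv F5803)
theorem F8442 : act 2 n2741 = n2741 := d13_1 D2741 (iv D2741) (iv F8321) F8322 F8321
theorem F8443 : act 4 n2741 = n2741 := d18_2 D1865 D2741 (iv D2741) (iv D1865) F3990
theorem F8444 : act 6 n2741 = n2741 := d20_2 F5804 D2741 (iv D2741)
def n2742 : Q := act 5 n1865
theorem D2742 : act 5 n1865 = n2742 := rfl
theorem F8445 : act 0 n2742 = n1868 := d4_1 D2742 (iv D1868) (iv F5802)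
theorem F8446 : act 4 n2742 = n1866 := d22_1 D2742 (iv D1866) D1865
def n2743 : Q := act 1 n1866
theorem D2743 : act 1 n1866 = n2743 := rfl
theorem F8447 : act 3 n2743 = n2743 := d8_2 F5806 D2743 (iv D2743)
theorem F8448 : act 5 n2743 = n2135 := d10_2 D1866 D2743 (iv D2135) (iv D1443) (iv F3989)
def n2744 : Q := act 6 n1866
theorem D2744 : act 6 n1866 = n2744 := rfl
theorem F8449 : act 0 n2744 = n1869 := d5_1 D2744 (iv D1869) (iv F5805)
theorem F8450 : act 3 n2744 = n2744 := d20_1 D2744 (iv D2744) F5806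
theorem F8451 : act 5 n2744 = n2744 := d25_1 D2744 (iv D2744) (iv D1866) F3991 D1866
def n2745 : Q := act 5 n1867
theorem D2745 : act 5 n1867 = n2745 := rfl
theorem F8452 : act 1 n2745 = n2479 := d10_1 D2745 (iv D2479) F5289 (iv F3998) (iv F5807)
theorem F8453 : act 2 n2745 = n2745 := d15_1 D2745 (iv D2745) F5808
theorem F8454 : act 3 n2745 = n1868 := d19_1 D2745 (iv D1868) D1867
theorem F8455 : act 4 n2745 = n2745 := d22_1 D2745 (iv D2745) F5809
def n2746 : Q := act 7 n1867
theorem D2746 : act 7 n1867 = n2746 := rfl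
theorem F8456 : act 1 n2746 = n1870 := d12_1 D2746 (iv D1870) (iv F5807)
theorem F8457 : act 2 n2746 = n2746 := d17_1 D2746 (iv D2746) F5808
theorem F8458 : act 4 n2746 = n2746 := d24_1 D2746 (iv D2746) F5809
def n2747 : Q := act 6 n1868
theorem D2747 : act 6 n1868 = n2747 := rfl
theorem F8459 : act 4 n2747 = n1869 := d23_1 D2747 (iv D1869) (iv F5811)
theorem F8460 : act 5 n2747 = n2747 := d25_1 D2747 (iv D2747) (iv D1868) F3993 D1868
def n2748 : Q := act 7 n1869
theorem D2748 : act 7 n1869 = n2748 := rfl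
theorem F8461 : act 5 n2748 = n2748 := d26_1 D2748 (iv D2748) F5813
def n2749 : Q := act 6 n1870
theorem D2749 : act 6 n1870 = n2749 := rfl
theorem F8462 : act 0 n2749 = n2142 := d5_1 D2749 (iv D2142) (iv F5814)
theorem F8463 : act 2 n2749 = n1930 := d16_1 D2749 (iv D1930) (iv F5815)
theorem F8464 : act 4 n2749 = n2749 := d23_1 D2749 (iv D2749) F5816
theorem F8465 : act 5 n2749 = n2749 := d25_1 D2749 (iv D2749) F5817 F5294 (iv F5817)
theorem F8466 : act 7 n2749 = n2749 := d27_2 D1870 D2749 (iv D2749) (iv D1870) F3999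
def n2750 : Q := act 4 n1871
theorem D2750 : act 4 n1871 = n2750 := rfl
theorem F8467 : act 0 n2750 = n2750 := d3_1 D2750 (iv D2750) F5818
theorem F8468 : act 2 n2750 = n1872 := d14_1 D2750 (iv D1872) D1871
theorem F8469 : act 6 n2750 = n2144 := d23_2 F8335 D2750 (iv F8333)
def n2751 : Q := act 5 n1871
theorem D2751 : act 5 n1871 = n2751 := rfl
theorem F8470 : act 0 n2751 = n2751 := d4_1 D2751 (iv D2751) F5818
theorem F8471 : act 2 n2751 = n1873 := d15_1 D2751 (iv D1873) D1871
theorem F8472 : act 3 n2751 = n2144 := d19_1 D2751 (iv D2144) (iv F5819)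
def n2752 : Q := act 7 n1871
theorem D2752 : act 7 n1871 = n2752 := rfl
theorem F8473 : act 0 n2752 = n2752 := d6_1 D2752 (iv D2752) F5818
theorem F8474 : act 2 n2752 = n1874 := d17_1 D2752 (iv D1874) D1871
def n2753 : Q := act 5 n1872
theorem D2753 : act 5 n1872 = n2753 := rfl
theorem F8475 : act 0 n2753 = n2753 := d4_1 D2753 (iv D2753) F5820
theorem F8476 : act 1 n2753 = n2753 := d10_1 D2753 (iv D2753) F5821 F4012 (iv F5821)
theorem F8477 : act 3 n2753 = n1931 := d19_1 D2753 (iv D1931) (iv F5822)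
theorem F8478 : act 4 n2753 = n1873 := d22_1 D2753 (iv D1873) D1872
theorem F8479 : act 6 n2753 = n2101 := d25_2 (iv F5823) D2753 (iv D2101) F4477 D1450
def n2754 : Q := act 7 n1872
theorem D2754 : act 7 n1872 = n2754 := rfl
theorem F8480 : act 0 n2754 = n2754 := d6_1 D2754 (iv D2754) F5820
theorem F8481 : act 1 n2754 = n1879 := d12_1 D2754 (iv D1879) (iv F5821)
theorem F8482 : act 3 n2754 = n2754 := d21_1 D2754 (iv D2754) F5822 F4159 (iv F5822)
theorem F8483 : act 4 n2754 = n1874 := d24_1 D2754 (iv D1874) D1872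
def n2755 : Q := act 6 n1873
theorem D2755 : act 6 n1873 = n2755 := rfl
theorem F8484 : act 0 n2755 = n2755 := d5_1 D2755 (iv D2755) F5824
theorem F8485 : act 1 n2755 = n2755 := d11_1 D2755 (iv D2755) F5825
theorem F8486 : act 3 n2755 = n1875 := d20_1 D2755 (iv D1875) (iv F5826)
theorem F8487 : act 4 n2755 = n2101 := d23_1 D2755 (iv F8479) F8478
theorem F8488 : act 5 n2755 = n2100 := d25_1 D2755 F6495 (iv F5734) F5735 D1873
def n2756 : Q := act 7 n1873
theorem D2756 : act 7 n1873 = n2756 := rfl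
theorem F8489 : act 0 n2756 = n2756 := d6_1 D2756 (iv D2756) F5824
theorem F8490 : act 1 n2756 = n2756 := d12_1 D2756 (iv D2756) F5825
theorem F8491 : act 5 n2756 = n1874 := d26_1 D2756 (iv D1874) D1873
def n2757 : Q := act 3 n1874
theorem D2757 : act 3 n1874 = n2757 := rfl
theorem F8492 : act 0 n2757 = n2757 := d2_1 D2757 (iv D2757) F5827
theorem F8493 : act 1 n2757 = n1880 := d8_1 D2757 (iv D1880) (iv F5828)
theorem F8494 : act 4 n2757 = n2757 := d18_2 F8483 D2757 (iv D2757) (iv F8483) F8482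
theorem F8495 : act 7 n2757 = n1877 := d21_2 D1874 D2757 (iv D1877) (iv D1263) D1261
def n2758 : Q := act 6 n1874
theorem D2758 : act 6 n1874 = n2758 := rfl
theorem F8496 : act 0 n2758 = n2758 := d5_1 D2758 (iv D2758) F5827
theorem F8497 : act 1 n2758 = n1881 := d11_1 D2758 (iv D1881) (iv F5828)
def n2759 : Q := act 3 n1876
theorem D2759 : act 3 n1876 = n2759 := rfl
theorem F8498 : act 0 n2759 = n2759 := d2_1 D2759 (iv D2759) F5835
theorem F8499 : act 1 n2759 = n2759 := d8_1 D2759 (iv D2759) F5836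
theorem F8500 : act 4 n2759 = n2759 := d18_2 (iv F5838) D2759 (iv D2759) F5838 F4169
theorem F8501 : act 5 n2759 = n1877 := d19_2 (iv F5839) D2759 (iv D1877)
theorem F8502 : act 6 n2759 = n2759 := d20_2 F5840 D2759 (iv D2759)
def n2760 : Q := act 2 n1877
theorem D2760 : act 2 n1877 = n2760 := rfl
theorem F8503 : act 0 n2760 = n2760 := d1_1 D2760 (iv D2760) F5841
theorem F8504 : act 3 n2760 = n2151 := d13_2 D1877 D2760 (iv D2151) (iv D1453) (iv F4008)
theorem F8505 : act 4 n2760 = n2760 := d14_2 F5843 D2760 (iv D2760)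
def n2761 : Q := act 6 n1877
theorem D2761 : act 6 n1877 = n2761 := rfl
theorem F8506 : act 0 n2761 = n2761 := d5_1 D2761 (iv D2761) F5841
theorem F8507 : act 1 n2761 = n1883 := d11_1 D2761 (iv D1883) (iv F5842)
theorem F8508 : act 3 n2761 = n1878 := d20_1 D2761 (iv D1878) D1877
theorem F8509 : act 4 n2761 = n2761 := d23_1 D2761 (iv D2761) F5843
theorem F8510 : act 5 n2761 = n2761 := d25_1 D2761 (iv D2761) (iv F8501) F8502 F8501
def n2762 : Q := act 6 n1879
theorem D2762 : act 6 n1879 = n2762 := rfl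
theorem F8511 : act 0 n2762 = n1891 := d5_1 D2762 (iv D1891) (iv F5849)
theorem F8512 : act 3 n2762 = n2762 := d20_1 D2762 (iv D2762) F5850
theorem F8513 : act 4 n2762 = n1881 := d23_1 D2762 (iv D1881) (iv F5851)
theorem F8514 : act 7 n2762 = n2303 := d27_2 D1879 D2762 (iv D2303) (iv D1570) (iv F4013)
def n2763 : Q := act 2 n1880
theorem D2763 : act 2 n1880 = n2763 := rfl
theorem F8515 : act 0 n2763 = n1892 := d1_1 D2763 (iv D1892) (iv F5853)
theorem F8516 : act 4 n2763 = n2763 := d14_2 F5854 D2763 (iv D2763)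
theorem F8517 : act 5 n2763 = n2763 := d15_2 F5855 D2763 (iv D2763)
theorem F8518 : act 7 n2763 = n1882 := d17_2 (iv F5856) D2763 (iv D1882)
def n2764 : Q := act 6 n1880
theorem D2764 : act 6 n1880 = n2764 := rfl
theorem F8519 : act 0 n2764 = n1893 := d5_1 D2764 (iv D1893) (iv F5853)
theorem F8520 : act 3 n2764 = n1881 := d20_1 D2764 (iv D1881) D1880
theorem F8521 : act 4 n2764 = n2764 := d23_1 D2764 (iv D2764) F5854
def n2765 : Q := act 5 n1881
theorem D2765 : act 5 n1881 = n2765 := rfl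
theorem F8522 : act 0 n2765 = n1894 := d4_1 D2765 (iv D1894) (iv F5857)
theorem F8523 : act 6 n2765 = n2765 := d25_2 D1881 D2765 (iv D2765) (iv D1881) F4015
def n2766 : Q := act 1 n1882
theorem D2766 : act 1 n1882 = n2766 := rfl
theorem F8524 : act 3 n2766 = n1885 := d8_2 (iv F5859) D2766 (iv D1885)
theorem F8525 : act 4 n2766 = n2766 := d9_2 F5860 D2766 (iv D2766)
def n2767 : Q := act 6 n1882
theorem D2767 : act 6 n1882 = n2767 := rfl
theorem F8526 : act 0 n2767 = n1896 := d5_1 D2767 (iv D1896) (iv F5858)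
theorem F8527 : act 2 n2767 = n1883 := d16_1 D2767 (iv D1883) D1882
theorem F8528 : act 3 n2767 = n1887 := d20_1 D2767 (iv D1887) (iv F5859)
theorem F8529 : act 4 n2767 = n2767 := d23_1 D2767 (iv D2767) F5860
def n2768 : Q := act 5 n1883
theorem D2768 : act 5 n1883 = n2768 := rfl
theorem F8530 : act 0 n2768 = n1897 := d4_1 D2768 (iv D1897) (iv F5862)
theorem F8531 : act 1 n2768 = n2768 := d10_1 D2768 (iv D2768) (iv F8507) F8510 F8507
theorem F8532 : act 3 n2768 = n1884 := d19_1 D2768 (iv D1884) (iv F5863)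
theorem F8533 : act 4 n2768 = n2768 := d22_1 D2768 (iv D2768) F5864
theorem F8534 : act 6 n2768 = n2768 := d25_2 D1883 D2768 (iv D2768) (iv D1883) F4018
def n2769 : Q := act 7 n1883
theorem D2769 : act 7 n1883 = n2769 := rfl
theorem F8535 : act 0 n2769 = n1898 := d6_1 D2769 (iv D1898) (iv F5862)
theorem F8536 : act 4 n2769 = n2769 := d24_1 D2769 (iv D2769) F5864
def n2770 : Q := act 0 n1885
theorem D2770 : act 0 n1885 = n2770 := rfl
theorem F8537 : act 1 n2770 = n1900 := d0_2 D1885 D2770 (iv D1900) (iv D1278) (iv F4022)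
theorem F8538 : act 2 n2770 = n2163 := d1_2 (iv F5870) D2770 (iv D2163)
def n2771 : Q := act 4 n1885
theorem D2771 : act 4 n1885 = n2771 := rfl
theorem F8539 : act 1 n2771 = n1886 := d9_1 D2771 (iv D1886) D1885
theorem F8540 : act 2 n2771 = n2164 := d14_1 D2771 (iv D2164) (iv F5870)
theorem F8541 : act 3 n2771 = n2771 := d18_1 D2771 (iv D2771) (iv F8524) F8525 F8524
theorem F8542 : act 6 n2308 = n2771 := d16_0 F8540 (iv F6698) (iv F7155)
def n2772 : Q := act 5 n1885
theorem D2772 : act 5 n1885 = n2772 := rfl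
theorem F8543 : act 1 n2772 = n2772 := d10_1 D2772 (iv D2772) (iv D1885) F4023 D1885
theorem F8544 : act 2 n2772 = n2165 := d15_1 D2772 (iv D2165) (iv F5870)
def n2773 : Q := act 6 n1885
theorem D2773 : act 6 n1885 = n2773 := rfl
theorem F8545 : act 1 n2773 = n1887 := d11_1 D2773 (iv D1887) D1885
theorem F8546 : act 2 n2773 = n2166 := d16_1 D2773 (iv D2166) (iv F5870)
theorem F8547 : act 4 n2773 = n2308 := d23_1 D2773 F8542 (iv D2771)
def n2774 : Q := act 5 n1887
theorem D2774 : act 5 n1887 = n2774 := rfl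
theorem F8548 : act 0 n2774 = n1904 := d4_1 D2774 (iv D1904) (iv F5876)
theorem F8549 : act 2 n2774 = n1888 := d15_1 D2774 (iv D1888) (iv F5877)
theorem F8550 : act 4 n2774 = n2307 := d22_1 D2774 F7153 (iv F5878)
theorem F8551 : act 6 n2774 = n2774 := d25_2 D1887 D2774 (iv D2774) (iv D1887) F4023
def n2775 : Q := act 7 n1887
theorem D2775 : act 7 n1887 = n2775 := rfl
theorem F8552 : act 0 n2775 = n1905 := d6_1 D2775 (iv D1905) (iv F5876)
theorem F8553 : act 2 n2775 = n1889 := d17_1 D2775 (iv D1889) (iv F5877)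
theorem F8554 : act 4 n2775 = n2304 := d24_1 D2775 F7145 (iv F5878)
def n2776 : Q := act 1 n1888
theorem D2776 : act 1 n1888 = n2776 := rfl
theorem F8555 : act 0 n2776 = n2776 := d0_1 D2776 (iv D2776) F5879 F4061 (iv F5879)
theorem F8556 : act 3 n2776 = n1890 := d8_2 (iv F5880) D2776 (iv D1890)
theorem F8557 : act 4 n2776 = n2150 := d9_2 (iv F5881) D2776 F6656
theorem F8558 : act 5 n2776 = n2152 := d10_2 D1888 D2776 F6661 F4601 (iv F4030)
theorem F8559 : act 6 n2776 = n2776 := d11_2 F5882 D2776 (iv D2776)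
def n2777 : Q := act 7 n1888
theorem D2777 : act 7 n1888 = n2777 := rfl
theorem F8560 : act 0 n2777 = n1906 := d6_1 D2777 (iv D1906) (iv F5879)
theorem F8561 : act 4 n2777 = n2302 := d24_1 D2777 F7142 (iv F5881)
theorem F8562 : act 5 n2777 = n1889 := d26_1 D2777 (iv D1889) D1888
def n2778 : Q := act 5 n1891
theorem D2778 : act 5 n1891 = n2778 := rfl
theorem F8563 : act 3 n2778 = n2778 := d19_1 D2778 (iv D2778) F5892
theorem F8564 : act 4 n2778 = n1894 := d22_1 D2778 (iv D1894) (iv F5893)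
theorem F8565 : act 6 n2778 = n2778 := d25_2 D1891 D2778 (iv D2778) (iv D1891) F4039
theorem F8566 : act 7 n2778 = n2392 := d26_2 (iv F5894) D2778 (iv D2392)
def n2779 : Q := act 1 n1892
theorem D2779 : act 1 n1892 = n2779 := rfl
theorem F8567 : act 2 n2779 = n2779 := d7_2 D1892 D2779 (iv D2779) (iv D1892) F4040
theorem F8568 : act 4 n2779 = n2779 := d9_2 F5895 D2779 (iv D2779)
theorem F8569 : act 7 n2779 = n1895 := d12_2 (iv F5897) D2779 (iv D1895)
def n2780 : Q := act 6 n1892
theorem D2780 : act 6 n1892 = n2780 := rfl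
theorem F8570 : act 2 n2780 = n1893 := d16_1 D2780 (iv D1893) D1892
theorem F8571 : act 4 n2780 = n2780 := d23_1 D2780 (iv D2780) F5895
def n2781 : Q := act 5 n1893
theorem D2781 : act 5 n1893 = n2781 := rfl
theorem F8572 : act 3 n2781 = n1894 := d19_1 D2781 (iv D1894) (iv F5899)
theorem F8573 : act 4 n2781 = n2781 := d22_1 D2781 (iv D2781) F5900
theorem F8574 : act 6 n2781 = n2781 := d25_2 D1893 D2781 (iv D2781) (iv D1893) F4042
def n2782 : Q := act 7 n1893
theorem D2782 : act 7 n1893 = n2782 := rfl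
theorem F8575 : act 1 n2782 = n2782 := d12_1 D2782 (iv D2782) F5898
theorem F8576 : act 4 n2782 = n2782 := d24_1 D2782 (iv D2782) F5900
theorem F8577 : act 6 n2782 = n1898 := d27_1 D2782 (iv D1898) (iv D1276) (iv F4043) D1893
def n2783 : Q := act 1 n1894
theorem D2783 : act 1 n1894 = n2783 := rfl
theorem F8578 : act 5 n2783 = n2783 := d10_2 D1894 D2783 (iv D2783) (iv D1894) F4044
theorem F8579 : act 6 n2783 = n2783 := d11_2 F5901 D2783 (iv D2783)
def n2784 : Q := act 0 n1895
theorem D2784 : act 0 n1895 = n2784 := rfl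
theorem F8580 : act 2 n2784 = n2784 := d1_2 F5902 D2784 (iv D2784)
theorem F8581 : act 3 n2784 = n1900 := d2_2 (iv F5903) D2784 (iv D1900)
theorem F8582 : act 4 n2784 = n2784 := d3_2 F5904 D2784 (iv D2784)
def n2785 : Q := act 5 n1895
theorem D2785 : act 5 n1895 = n2785 := rfl
theorem F8583 : act 1 n2785 = n2785 := d10_1 D2785 (iv D2785) (iv D1895) F4047 D1895
theorem F8584 : act 2 n2785 = n2785 := d15_1 D2785 (iv D2785) F5902
theorem F8585 : act 3 n2785 = n1902 := d19_1 D2785 (iv D1902) (iv F5903)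
theorem F8586 : act 4 n2785 = n2785 := d22_1 D2785 (iv D2785) F5904
def n2786 : Q := act 6 n1895
theorem D2786 : act 6 n1895 = n2786 := rfl
theorem F8587 : act 1 n2786 = n1896 := d11_1 D2786 (iv D1896) D1895
theorem F8588 : act 2 n2786 = n2786 := d16_1 D2786 (iv D2786) F5902
theorem F8589 : act 3 n2786 = n1903 := d20_1 D2786 (iv D1903) (iv F5903)
theorem F8590 : act 4 n2786 = n2786 := d23_1 D2786 (iv D2786) F5904
theorem F8591 : act 5 n2746 = n2786 := d10_0 F8587 (iv F7645) F7642 (iv F5817) (iv F8456)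
theorem F8592 : act 7 n2745 = n2786 := d12_0 F8587 F7641 (iv F8452)
def n2787 : Q := act 4 n1900
theorem D2787 : act 4 n1900 = n2787 := rfl
theorem F8593 : act 0 n2787 = n1901 := d3_1 D2787 (iv D1901) D1900
theorem F8594 : act 2 n2787 = n1907 := d14_1 D2787 (iv D1907) (iv F5919)
theorem F8595 : act 3 n2787 = n2787 := d18_1 D2787 (iv D2787) (iv F8581) F8582 F8581
theorem F8596 : act 6 n2398 = n2787 := d16_0 F8594 (iv F5940) (iv F7384)
def n2788 : Q := act 5 n1900
theorem D2788 : act 5 n1900 = n2788 := rfl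
theorem F8597 : act 0 n2788 = n1902 := d4_1 D2788 (iv D1902) D1900
theorem F8598 : act 2 n2788 = n1908 := d15_1 D2788 (iv D1908) (iv F5919)
def n2789 : Q := act 6 n1900
theorem D2789 : act 6 n1900 = n2789 := rfl
theorem F8599 : act 0 n2789 = n1903 := d5_1 D2789 (iv D1903) D1900
theorem F8600 : act 2 n2789 = n1909 := d16_1 D2789 (iv D1909) (iv F5919)
theorem F8601 : act 4 n2789 = n2398 := d23_1 D2789 F8596 (iv D2787)
def n2790 : Q := act 5 n1901
theorem D2790 : act 5 n1901 = n2790 := rfl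
theorem F8602 : act 1 n2790 = n2790 := d10_1 D2790 (iv D2790) F5920 F4057 (iv F5920)
theorem F8603 : act 2 n2790 = n1910 := d15_1 D2790 (iv D1910) (iv F5921)
theorem F8604 : act 3 n2790 = n2790 := d19_1 D2790 (iv D2790) F5922
theorem F8605 : act 4 n2790 = n1902 := d22_1 D2790 (iv D1902) D1901
def n2791 : Q := act 6 n1902
theorem D2791 : act 6 n1902 = n2791 := rfl
theorem F8606 : act 1 n2791 = n2791 := d11_1 D2791 (iv D2791) F5924
theorem F8607 : act 2 n2791 = n1911 := d16_1 D2791 (iv D1911) (iv F5925)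
def n2792 : Q := act 5 n1903
theorem D2792 : act 5 n1903 = n2792 := rfl
theorem F8608 : act 1 n2792 = n2585 := d10_1 D2792 F7969 F7649 (iv D1904) (iv F5926)
theorem F8609 : act 2 n2792 = n1912 := d15_1 D2792 (iv D1912) (iv F5927)
theorem F8610 : act 3 n2792 = n2746 := d19_1 D2792 F8591 F8589
theorem F8611 : act 4 n2792 = n2399 := d22_1 D2792 (iv D2399) (iv F5928)
theorem F8612 : act 7 n2582 = n2792 := d24_0 F8611 F8200 F8175
def n2793 : Q := act 7 n1903
theorem D2793 : act 7 n1903 = n2793 := rfl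
theorem F8613 : act 1 n2793 = n1905 := d12_1 D2793 (iv D1905) (iv F5926)
theorem F8614 : act 2 n2793 = n1913 := d17_1 D2793 (iv D1913) (iv F5927)
theorem F8615 : act 3 n2793 = n2583 := d21_1 D2793 F7964 (iv F8454) F8592 F8589
theorem F8616 : act 4 n2793 = n2393 := d24_1 D2793 F7376 (iv F5928)
theorem F8617 : act 5 n2793 = n2582 := d26_1 D2793 F8612 (iv D2792)
def n2794 : Q := act 7 n1904
theorem D2794 : act 7 n1904 = n2794 := rfl
theorem F8618 : act 1 n2794 = n2577 := d12_1 D2794 F7944 F7649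
theorem F8619 : act 2 n2794 = n1906 := d17_1 D2794 (iv D1906) (iv F5929)
theorem F8620 : act 3 n2794 = n2574 := d21_1 D2794 F7937 (iv F5791) D2480 (iv F7647)
theorem F8621 : act 4 n2794 = n2390 := d24_1 D2794 F7370 (iv F5930)
theorem F8622 : act 5 n2794 = n1905 := d26_1 D2794 (iv D1905) D1904
def n2795 : Q := act 3 n1905
theorem D2795 : act 3 n1905 = n2795 := rfl
theorem F8623 : act 1 n2795 = n2583 := d8_1 D2795 (iv F8615) F8613
theorem F8624 : act 4 n2795 = n2575 := d18_2 (iv F5933) D2795 (iv F8188) (iv F8202) F7356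
theorem F8625 : act 5 n2795 = n2574 := d19_2 F8622 D2795 (iv F8620)
theorem F8626 : act 7 n2795 = n2736 := d21_2 D1905 D2795 F8426 (iv F7641) F5906
def n2796 : Q := act 6 n1906
theorem D2796 : act 6 n1906 = n2796 := rfl
theorem F8627 : act 1 n2796 = n2796 := d11_1 D2796 (iv D2796) F5934
theorem F8628 : act 4 n2796 = n2391 := d23_1 D2796 (iv D2391) (iv F5935)
theorem F8629 : act 7 n2796 = n2796 := d27_2 D1906 D2796 (iv D2796) (iv D1906) F4064
def n2797 : Q := act 5 n1907
theorem D2797 : act 5 n1907 = n2797 := rfl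
theorem F8630 : act 0 n2797 = n1910 := d4_1 D2797 (iv D1910) (iv F5937)
theorem F8631 : act 3 n2797 = n2415 := d19_1 D2797 (iv D2415) F5939
theorem F8632 : act 4 n2797 = n1908 := d22_1 D2797 (iv D1908) D1907
def n2798 : Q := act 1 n1908
theorem D2798 : act 1 n1908 = n2798 := rfl
theorem F8633 : act 0 n2798 = n1917 := d0_1 D2798 (iv D1917) F4085 (iv F4072) (iv F5941)
theorem F8634 : act 3 n2798 = n2798 := d8_2 F5942 D2798 (iv D2798)
theorem F8635 : act 5 n2798 = n2187 := d10_2 D1908 D2798 (iv D2187) (iv D1481) (iv F4067)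
def n2799 : Q := act 6 n1908
theorem D2799 : act 6 n1908 = n2799 := rfl
theorem F8636 : act 0 n2799 = n1911 := d5_1 D2799 (iv D1911) (iv F5941)
theorem F8637 : act 3 n2799 = n2799 := d20_1 D2799 (iv D2799) F5942
def n2800 : Q := act 5 n1909
theorem D2800 : act 5 n1909 = n2800 := rfl
theorem F8638 : act 0 n2800 = n1912 := d4_1 D2800 (iv D1912) (iv F5943)
theorem F8639 : act 3 n2800 = n2800 := d19_1 D2800 (iv D2800) F5945
theorem F8640 : act 4 n2800 = n2411 := d22_1 D2800 (iv D2411) (iv F5946)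
def n2801 : Q := act 7 n1909
theorem D2801 : act 7 n1909 = n2801 := rfl
theorem F8641 : act 0 n2801 = n1913 := d6_1 D2801 (iv D1913) (iv F5943)
theorem F8642 : act 1 n2801 = n2190 := d12_1 D2801 (iv D2190) (iv F5944)
theorem F8643 : act 4 n2801 = n2404 := d24_1 D2801 F7403 (iv F5946)
theorem F8644 : act 3 n2236 = n2801 := d8_0 F8642 (iv F6779) D2236
def n2802 : Q := act 6 n1910
theorem D2802 : act 6 n1910 = n2802 := rfl
theorem F8645 : act 1 n2802 = n1922 := d11_1 D2802 (iv D1922) (iv F5947)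
theorem F8646 : act 3 n2802 = n2417 := d20_1 D2802 F7442 (iv F5948)
theorem F8647 : act 4 n2802 = n1911 := d23_1 D2802 (iv D1911) (iv F5949)
theorem F8648 : act 5 n2802 = n2412 := d25_1 D2802 (iv D2412) (iv D1648) F4071 D1910
def n2803 : Q := act 5 n1911
theorem D2803 : act 5 n1911 = n2803 := rfl
theorem F8649 : act 1 n2803 = n2803 := d10_1 D2803 (iv D2803) F5950 F4095 (iv F5950)
theorem F8650 : act 3 n2803 = n2803 := d19_1 D2803 (iv D2803) F5951
theorem F8651 : act 4 n2803 = n2412 := d22_1 D2803 (iv F8648) F8647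
theorem F8652 : act 6 n2803 = n1912 := d25_2 D1911 D2803 (iv D1912) (iv D1286) D1285
def n2804 : Q := act 7 n1911
theorem D2804 : act 7 n1911 = n2804 := rfl
theorem F8653 : act 1 n2804 = n1923 := d12_1 D2804 (iv D1923) (iv F5950)
def n2805 : Q := act 7 n1912
theorem D2805 : act 7 n1912 = n2805 := rfl
theorem F8654 : act 1 n2805 = n2805 := d12_1 D2805 (iv D2805) F5952
theorem F8655 : act 2 n2805 = n2582 := d17_1 D2805 F8612 F8609
theorem F8656 : act 4 n2805 = n2405 := d24_1 D2805 F7406 (iv F5954)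
theorem F8657 : act 5 n2805 = n1913 := d26_1 D2805 (iv D1913) D1912
theorem F8658 : act 6 n2805 = n2498 := d30_6 F7651 (iv F7969) (iv F8608) F8609 F5953 D2805 F7713 F5364 D1782 F5542 F3831 D1280 D1904 (iv F7649) F7650 (iv D2481) (iv D1701) (iv D1157) F2557 D1156 (iv F5270) (iv F5702) (iv F7870) F7869 F7859 F5466 (iv F5476) D2577 F7944
theorem F8659 : act 3 n2499 = n2805 := d20_3 F8658 (iv D2498) D2499
theorem F8660 : act 5 n2519 = n2642 := d25_3 F8658 F7713 D2519 F8114 (iv F8657)
theorem F8661 : act 1 n2646 = n2618 := d10_3 F8660 F8112 (iv F8129) (iv D2618) (iv F7772)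
theorem F8662 : act 3 n2642 = n2520 := d19_1 F8660 (iv D2520) (iv F7773)
theorem F8663 : act 7 n2641 = n2519 := d26_0 F8660 (iv D2642) D2641
theorem F8664 : act 1 n2619 = n2641 := d12_3 F8663 F7772 D2619
theorem F8665 : act 5 n2645 = n2619 := d10_0 F8664 (iv D2641) F5575 D1799 D2645
theorem F8666 : act 7 n2618 = n2645 := d26_0 F8665 (iv D2619) D2618
theorem F8667 : act 1 n2520 = n2647 := d8_1 F8662 (iv D2647) (iv F8112)
theorem F8668 : act 5 n2647 = n2620 := d10_2 D2520 F8667 (iv D2620) (iv D1785) (iv F5365)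
theorem F8669 : act 3 n2620 = n2646 := d19_1 F8668 F8129 D2647
def n2806 : Q := act 3 n1913
theorem D2806 : act 3 n1913 = n2806 := rfl
theorem F8670 : act 0 n2806 = n2236 := d2_1 D2806 F8644 F8641
theorem F8671 : act 1 n2806 = n1914 := d8_1 D2806 (iv D1914) (iv F5955)
theorem F8672 : act 4 n2806 = n2806 := d18_2 (iv F5956) D2806 (iv D2806) F5956 F5117
theorem F8673 : act 5 n2806 = n2499 := d19_2 F8657 D2806 F8659
theorem F8674 : act 6 n2806 = n2520 := d20_2 F8114 D2806 (iv F8662)
theorem F8675 : act 7 n2806 = n2806 := d21_2 D1913 D2806 (iv D2806) (iv D1913) F4075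
theorem F8676 : act 2 n2501 = n2806 := d16_3 F8674 F7774 (iv F7724)
def n2807 : Q := act 2 n1915
theorem D2807 : act 2 n1915 = n2807 := rfl
theorem F8677 : act 0 n2807 = n1919 := d1_1 D2807 (iv D1919) (iv F5961)
theorem F8678 : act 1 n2807 = n2807 := d7_1 D2807 (iv D2807) F5962 F4682 (iv F5962)
theorem F8679 : act 3 n2807 = n2807 := d13_2 D1915 D2807 (iv D2807) (iv D1915) F4083
theorem F8680 : act 4 n2807 = n2807 := d14_2 F5963 D2807 (iv D2807)
theorem F8681 : act 6 n2807 = n2807 := d16_2 F5964 D2807 (iv D2807)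
def n2808 : Q := act 5 n1915
theorem D2808 : act 5 n1915 = n2808 := rfl
theorem F8682 : act 0 n2808 = n1920 := d4_1 D2808 (iv D1920) (iv F5961)
theorem F8683 : act 3 n2808 = n1916 := d19_1 D2808 (iv D1916) D1915
theorem F8684 : act 4 n2808 = n2808 := d22_1 D2808 (iv D2808) F5963
def n2809 : Q := act 7 n1915
theorem D2809 : act 7 n1915 = n2809 := rfl
theorem F8685 : act 0 n2809 = n1921 := d6_1 D2809 (iv D1921) (iv F5961)
theorem F8686 : act 1 n2809 = n2195 := d12_1 D2809 (iv D2195) (iv F5962)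
theorem F8687 : act 4 n2809 = n2809 := d24_1 D2809 (iv D2809) F5963
def n2810 : Q := act 1 n1916
theorem D2810 : act 1 n1916 = n2810 := rfl
theorem F8688 : act 4 n2810 = n1917 := d9_2 (iv F5967) D2810 (iv D1917)
theorem F8689 : act 5 n2810 = n2196 := d10_2 D1916 D2810 (iv D2196) (iv D1489) (iv F4082)
def n2811 : Q := act 6 n1916
theorem D2811 : act 6 n1916 = n2811 := rfl
theorem F8690 : act 0 n2811 = n1922 := d5_1 D2811 (iv D1922) (iv F5965)
theorem F8691 : act 2 n2811 = n2811 := d16_1 D2811 (iv D2811) F5966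
theorem F8692 : act 4 n2811 = n1918 := d23_1 D2811 (iv D1918) (iv F5967)
theorem F8693 : act 5 n2811 = n2811 := d25_1 D2811 (iv D2811) (iv D1916) F4084 D1916
def n2812 : Q := act 2 n1917
theorem D2812 : act 2 n1917 = n2812 := rfl
theorem F8694 : act 1 n2812 = n2812 := d7_1 D2812 (iv D2812) (iv D1917) F4086 D1917
theorem F8695 : act 5 n2812 = n2198 := d15_2 (iv F5969) D2812 (iv D2198)
def n2813 : Q := act 6 n1917
theorem D2813 : act 6 n1917 = n2813 := rfl
theorem F8696 : act 1 n2813 = n1918 := d11_1 D2813 (iv D1918) D1917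
theorem F8697 : act 3 n2813 = n2813 := d20_1 D2813 (iv D2813) F5968
def n2814 : Q := act 7 n1918
theorem D2814 : act 7 n1918 = n2814 := rfl
theorem F8698 : act 0 n2814 = n1923 := d6_1 D2814 (iv D1923) (iv F5970)
theorem F8699 : act 2 n2814 = n2814 := d17_1 D2814 (iv D2814) F5971
theorem F8700 : act 5 n2814 = n2814 := d26_1 D2814 (iv D2814) F5973
def n2815 : Q := act 5 n1919
theorem D2815 : act 5 n1919 = n2815 := rfl
theorem F8701 : act 1 n2815 = n2815 := d10_1 D2815 (iv D2815) F5974 F4190 (iv F5974)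
theorem F8702 : act 2 n2815 = n1920 := d15_1 D2815 (iv D1920) D1919
theorem F8703 : act 3 n2815 = n2815 := d19_1 D2815 (iv D2815) F5975
theorem F8704 : act 4 n2815 = n2815 := d22_1 D2815 (iv D2815) F5976
def n2816 : Q := act 7 n1919
theorem D2816 : act 7 n1919 = n2816 := rfl
theorem F8705 : act 1 n2816 = n1932 := d12_1 D2816 (iv D1932) (iv F5974)
theorem F8706 : act 2 n2816 = n1921 := d17_1 D2816 (iv D1921) D1919
theorem F8707 : act 4 n2816 = n2816 := d24_1 D2816 (iv D2816) F5976
def n2817 : Q := act 6 n1920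
theorem D2817 : act 6 n1920 = n2817 := rfl
theorem F8708 : act 1 n2817 = n2417 := d11_1 D2817 F7442 (iv F5978)
theorem F8709 : act 3 n2817 = n1922 := d20_1 D2817 (iv D1922) (iv F5979)
theorem F8710 : act 4 n2817 = n2817 := d23_1 D2817 (iv D2817) F5980
theorem F8711 : act 5 n2817 = n2817 := d25_1 D2817 (iv D2817) (iv D1920) F4090 D1920
def n2818 : Q := act 7 n1920
theorem D2818 : act 7 n1920 = n2818 := rfl
theorem F8712 : act 1 n2818 = n2419 := d12_1 D2818 (iv D2419) (iv F5978)
theorem F8713 : act 4 n2818 = n2818 := d24_1 D2818 (iv D2818) F5980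
theorem F8714 : act 5 n2818 = n1921 := d26_1 D2818 (iv D1921) D1920
def n2819 : Q := act 6 n1921
theorem D2819 : act 6 n1921 = n2819 := rfl
theorem F8715 : act 1 n2819 = n1924 := d11_1 D2819 (iv D1924) (iv F5981)
theorem F8716 : act 4 n2819 = n2819 := d23_1 D2819 (iv D2819) F5982
theorem F8717 : act 7 n2819 = n2819 := d27_2 D1921 D2819 (iv D2819) (iv D1921) F4090
def n2820 : Q := act 7 n1922
theorem D2820 : act 7 n1922 = n2820 := rfl
theorem F8718 : act 2 n2820 = n2820 := d17_1 D2820 (iv D2820) F5983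
theorem F8719 : act 4 n2820 = n1923 := d24_1 D2820 (iv D1923) (iv F5984)
theorem F8720 : act 5 n2820 = n2820 := d26_1 D2820 (iv D2820) F5985
def n2821 : Q := act 3 n1923
theorem D2821 : act 3 n1923 = n2821 := rfl
theorem F8721 : act 5 n2821 = n2821 := d19_2 F5987 D2821 (iv D2821)
theorem F8722 : act 7 n2821 = n2821 := d21_2 D1923 D2821 (iv D2821) (iv D1923) F4094
def n2822 : Q := act 1 n1925
theorem D2822 : act 1 n1925 = n2822 := rfl
theorem F8723 : act 0 n2822 = n2822 := d0_1 D2822 (iv D2822) F5993 F4108 (iv F5993)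
theorem F8724 : act 2 n2822 = n2822 := d7_2 D1925 D2822 (iv D2822) (iv D1925) F4101
theorem F8725 : act 3 n2822 = n1929 := d8_2 (iv F5994) D2822 F6014
theorem F8726 : act 5 n2822 = n2822 := d10_2 (iv F5995) D2822 (iv D2822) F5995 F4105
theorem F8727 : act 6 n2822 = n1928 := d11_2 (iv F5997) D2822 F6009
theorem F8728 : act 7 n2822 = n2822 := d12_2 F5996 D2822 (iv D2822)
def n2823 : Q := act 3 n1932
theorem D2823 : act 3 n1932 = n2823 := rfl
theorem F8729 : act 0 n2823 = n2823 := d2_1 D2823 (iv D2823) F6030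
theorem F8730 : act 2 n2823 = n2823 := d13_1 D2823 (iv D2823) F6031 F4194 (iv F6031)
theorem F8731 : act 5 n2823 = n2823 := d19_2 F6033 D2823 (iv D2823)
theorem F8732 : act 7 n2823 = n2823 := d21_2 D1932 D2823 (iv D2823) (iv D1932) F4188
def n2824 : Q := act 6 n1932
theorem D2824 : act 6 n1932 = n2824 := rfl
theorem F8733 : act 0 n2824 = n2824 := d5_1 D2824 (iv D2824) F6030
theorem F8734 : act 2 n2824 = n1933 := d16_1 D2824 (iv D1933) (iv F6031)
theorem F8735 : act 4 n2824 = n2824 := d23_1 D2824 (iv D2824) F6032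
theorem F8736 : act 7 n2824 = n2824 := d27_2 D1932 D2824 (iv D2824) (iv D1932) F4191
def n2825 : Q := act 5 n1933
theorem D2825 : act 5 n1933 = n2825 := rfl
theorem F8737 : act 0 n2825 = n2825 := d4_1 D2825 (iv D2825) F6034
theorem F8738 : act 1 n2825 = n2825 := d10_1 D2825 (iv D2825) F6035 F4200 (iv F6035)
theorem F8739 : act 3 n2825 = n2825 := d19_1 D2825 (iv D2825) F6036
theorem F8740 : act 4 n2825 = n2825 := d22_1 D2825 (iv D2825) F6037
theorem F8741 : act 6 n2825 = n2825 := d25_2 D1933 D2825 (iv D2825) (iv D1933) F4196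
theorem F8742 : act 7 n2825 = n2825 := d26_2 F6038 D2825 (iv D2825)
def n2826 : Q := act 2 n1934
theorem D2826 : act 2 n1934 = n2826 := rfl
theorem F8743 : act 0 n2826 = n2008 := d1_1 D2826 (iv D2008) (iv F6039)
theorem F8744 : act 1 n2826 = n2826 := d7_1 D2826 (iv D2826) F6040 F4205 (iv F6040)
def n2827 : Q := act 4 n1934
theorem D2827 : act 4 n1934 = n2827 := rfl
theorem F8745 : act 0 n2827 = n2009 := d3_1 D2827 (iv D2009) (iv F6039)
theorem F8746 : act 1 n2827 = n1937 := d9_1 D2827 (iv D1937) (iv F6040)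
theorem F8747 : act 3 n2827 = n2827 := d18_1 D2827 (iv D2827) (iv D1934) F4203 D1934
def n2828 : Q := act 5 n1934
theorem D2828 : act 5 n1934 = n2828 := rfl
theorem F8748 : act 0 n2828 = n2010 := d4_1 D2828 (iv D2010) (iv F6039)
theorem F8749 : act 1 n2828 = n2828 := d10_1 D2828 (iv D2828) F6040 F4206 (iv F6040)
theorem F8750 : act 3 n2828 = n1935 := d19_1 D2828 (iv D1935) D1934
def n2829 : Q := act 7 n1934
theorem D2829 : act 7 n1934 = n2829 := rfl
theorem F8751 : act 0 n2829 = n2011 := d6_1 D2829 (iv D2011) (iv F6039)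
theorem F8752 : act 1 n2829 = n1938 := d12_1 D2829 (iv D1938) (iv F6040)
def n2830 : Q := act 6 n1935
theorem D2830 : act 6 n1935 = n2830 := rfl
theorem F8753 : act 0 n2830 = n2012 := d5_1 D2830 (iv D2012) (iv F6041)
theorem F8754 : act 1 n2830 = n2830 := d11_1 D2830 (iv D2830) F6042
theorem F8755 : act 4 n2830 = n2830 := d23_1 D2830 (iv D2830) F6043
def n2831 : Q := act 7 n1935
theorem D2831 : act 7 n1935 = n2831 := rfl
theorem F8756 : act 0 n2831 = n2013 := d6_1 D2831 (iv D2013) (iv F6041)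
theorem F8757 : act 1 n2831 = n2831 := d12_1 D2831 (iv D2831) F6042
theorem F8758 : act 4 n2831 = n2831 := d24_1 D2831 (iv D2831) F6043
theorem F8759 : act 5 n2831 = n1936 := d26_1 D2831 (iv D1936) D1935
def n2832 : Q := act 3 n1936
theorem D2832 : act 3 n1936 = n2832 := rfl
theorem F8760 : act 0 n2832 = n2014 := d2_1 D2832 (iv D2014) (iv F6044)
theorem F8761 : act 1 n2832 = n1939 := d8_1 D2832 (iv D1939) (iv F6045)
def n2833 : Q := act 6 n1936
theorem D2833 : act 6 n1936 = n2833 := rfl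
theorem F8762 : act 0 n2833 = n2015 := d5_1 D2833 (iv D2015) (iv F6044)
theorem F8763 : act 1 n2833 = n1940 := d11_1 D2833 (iv D1940) (iv F6045)
theorem F8764 : act 4 n2833 = n2833 := d23_1 D2833 (iv D2833) F6046
def n2834 : Q := act 7 n1937
theorem D2834 : act 7 n1937 = n2834 := rfl
theorem F8765 : act 0 n2834 = n1945 := d6_1 D2834 (iv D1945) (iv F6047)
theorem F8766 : act 2 n2834 = n2834 := d17_1 D2834 (iv D2834) F6048
theorem F8767 : act 4 n2834 = n1938 := d24_1 D2834 (iv D1938) D1937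
theorem F8768 : act 5 n2834 = n2834 := d26_1 D2834 (iv D2834) F6050
def n2835 : Q := act 3 n1938
theorem D2835 : act 3 n1938 = n2835 := rfl
theorem F8769 : act 0 n2835 = n1946 := d2_1 D2835 (iv D1946) (iv F6051)
theorem F8770 : act 5 n2835 = n2835 := d19_2 F6053 D2835 (iv D2835)
theorem F8771 : act 7 n2835 = n1939 := d21_2 D1938 D2835 (iv D1939) (iv D1318) D1317
def n2836 : Q := act 6 n1938
theorem D2836 : act 6 n1938 = n2836 := rfl
theorem F8772 : act 0 n2836 = n1947 := d5_1 D2836 (iv D1947) (iv F6051)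
theorem F8773 : act 2 n2836 = n2836 := d16_1 D2836 (iv D2836) F6052
def n2837 : Q := act 2 n1939
theorem D2837 : act 2 n1939 = n2837 := rfl
theorem F8774 : act 0 n2837 = n1948 := d1_1 D2837 (iv D1948) (iv F6054)
theorem F8775 : act 3 n2837 = n1941 := d13_2 D1939 D2837 (iv D1941) (iv D1319) (iv F4208)
theorem F8776 : act 5 n2837 = n2837 := d15_2 F6055 D2837 (iv D2837)
theorem F8777 : act 4 n2835 = n2837 := d3_0 F8774 F6086 (iv F8769)
def n2838 : Q := act 4 n1939
theorem D2838 : act 4 n1939 = n2838 := rfl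
theorem F8778 : act 0 n2838 = n1949 := d3_1 D2838 (iv D1949) (iv F6054)
theorem F8779 : act 2 n2838 = n2835 := d14_1 D2838 F8777 (iv D2837)
theorem F8780 : act 3 n2838 = n2838 := d18_1 D2838 (iv D2838) (iv D1939) F4209 D1939
theorem F8781 : act 5 n2838 = n2838 := d22_2 F6055 D2838 (iv D2838)
theorem F8782 : act 7 n2838 = n2837 := d24_2 F8771 D2838 (iv F8777)
def n2839 : Q := act 6 n1939
theorem D2839 : act 6 n1939 = n2839 := rfl
theorem F8783 : act 0 n2839 = n1950 := d5_1 D2839 (iv D1950) (iv F6054)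
theorem F8784 : act 3 n2839 = n1940 := d20_1 D2839 (iv D1940) D1939
def n2840 : Q := act 5 n1940
theorem D2840 : act 5 n1940 = n2840 := rfl
theorem F8785 : act 0 n2840 = n1951 := d4_1 D2840 (iv D1951) (iv F6056)
theorem F8786 : act 2 n2840 = n1944 := d15_1 D2840 (iv D1944) (iv F6057)
theorem F8787 : act 4 n2840 = n2840 := d22_1 D2840 (iv D2840) F6058
theorem F8788 : act 6 n2840 = n2840 := d25_2 D1940 D2840 (iv D2840) (iv D1940) F4210
def n2841 : Q := act 1 n1941
theorem D2841 : act 1 n1941 = n2841 := rfl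
theorem F8789 : act 7 n2841 = n2841 := d12_2 F6061 D2841 (iv D2841)
def n2842 : Q := act 4 n1941
theorem D2842 : act 4 n1941 = n2842 := rfl
theorem F8790 : act 0 n2842 = n1953 := d3_1 D2842 (iv D1953) (iv F6059)
theorem F8791 : act 2 n2842 = n1942 := d14_1 D2842 (iv D1942) D1941
theorem F8792 : act 3 n2842 = n2834 := d18_1 D2842 F8767 D2835 F8777 F8775
theorem F8793 : act 5 n2842 = n2842 := d22_2 F6060 D2842 (iv D2842)
theorem F8794 : act 7 n2842 = n2842 := d24_2 F6061 D2842 (iv D2842)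
def n2843 : Q := act 6 n1941
theorem D2843 : act 6 n1941 = n2843 := rfl
theorem F8795 : act 0 n2843 = n1954 := d5_1 D2843 (iv D1954) (iv F6059)
theorem F8796 : act 2 n2843 = n1943 := d16_1 D2843 (iv D1943) D1941
def n2844 : Q := act 6 n1942
theorem D2844 : act 6 n1942 = n2844 := rfl
theorem F8797 : act 0 n2844 = n1955 := d5_1 D2844 (iv D1955) (iv F6062)
theorem F8798 : act 3 n2844 = n2844 := d20_1 D2844 (iv D2844) F6063
theorem F8799 : act 4 n2844 = n1943 := d23_1 D2844 (iv D1943) D1942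
def n2845 : Q := act 5 n1943
theorem D2845 : act 5 n1943 = n2845 := rfl
theorem F8800 : act 0 n2845 = n1956 := d4_1 D2845 (iv D1956) (iv F6066)
theorem F8801 : act 3 n2845 = n1944 := d19_1 D2845 (iv D1944) (iv F6067)
theorem F8802 : act 6 n2845 = n2845 := d25_2 D1943 D2845 (iv D2845) (iv D1943) F4212
def n2846 : Q := act 7 n1943
theorem D2846 : act 7 n1943 = n2846 := rfl
theorem F8803 : act 0 n2846 = n1957 := d6_1 D2846 (iv D1957) (iv F6066)
theorem F8804 : act 6 n2846 = n2846 := d27_1 D2846 (iv D2846) (iv D1943) F4213 D1943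
def n2847 : Q := act 1 n1944
theorem D2847 : act 1 n1944 = n2847 := rfl
theorem F8805 : act 4 n2847 = n2847 := d9_2 F6069 D2847 (iv D2847)
theorem F8806 : act 6 n2847 = n2847 := d11_2 F6070 D2847 (iv D2847)
def n2848 : Q := act 6 n1945
theorem D2848 : act 6 n1945 = n2848 := rfl
theorem F8807 : act 1 n2848 = n2031 := d11_1 D2848 (iv D2031) (iv F6071)
theorem F8808 : act 2 n2848 = n2848 := d16_1 D2848 (iv D2848) F6072
theorem F8809 : act 4 n2848 = n1947 := d23_1 D2848 (iv D1947) (iv F6073)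
def n2849 : Q := act 6 n1946
theorem D2849 : act 6 n1946 = n2849 := rfl
theorem F8810 : act 1 n2849 = n2034 := d11_1 D2849 (iv D2034) (iv F6075)
theorem F8811 : act 3 n2849 = n1947 := d20_1 D2849 (iv D1947) D1946
def n2850 : Q := act 5 n1947
theorem D2850 : act 5 n1947 = n2850 := rfl
theorem F8812 : act 2 n2850 = n2850 := d15_1 D2850 (iv D2850) F6079
theorem F8813 : act 6 n2850 = n2850 := d25_2 D1947 D2850 (iv D2850) (iv D1947) F4222
def n2851 : Q := act 6 n1948
theorem D2851 : act 6 n1948 = n2851 := rfl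
theorem F8814 : act 2 n2851 = n1950 := d16_1 D2851 (iv D1950) D1948
theorem F8815 : act 3 n2851 = n1954 := d20_1 D2851 (iv D1954) (iv F6080)
theorem F8816 : act 4 n2851 = n2849 := d23_1 D2851 (iv D2849) (iv F6086)
def n2852 : Q := act 6 n1949
theorem D2852 : act 6 n1949 = n2852 := rfl
theorem F8817 : act 1 n2852 = n2039 := d11_1 D2852 (iv D2039) (iv F6082)
theorem F8818 : act 2 n2852 = n2849 := d16_1 D2852 (iv D2849) F6085
theorem F8819 : act 3 n2852 = n2852 := d20_1 D2852 (iv D2852) F6083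
theorem F8820 : act 4 n2852 = n1950 := d23_1 D2852 (iv D1950) D1949
theorem F8821 : act 5 n2852 = n2429 := d30_1 D2852 (iv D2429) F5166 F3587 F2500 F2499 (iv D770) (iv F2388) (iv F3320) (iv F4821) F6788 F6787 (iv D1485) F3189 F2187 F1377 (iv F1351) (iv D426) F759 F433 F434 D230 (iv F1307) F1442 (iv F2035) (iv F2925) D1325 (iv F6080) (iv F6087)
def n2853 : Q := act 5 n1950
theorem D2853 : act 5 n1950 = n2853 := rfl
theorem F8822 : act 1 n2853 = n2064 := d10_1 D2853 F6392 (iv F6330) (iv D2040) (iv F6088)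
theorem F8823 : act 3 n2853 = n1951 := d19_1 D2853 (iv D1951) (iv F6089)
theorem F8824 : act 4 n2853 = n2429 := d22_1 D2853 (iv F8821) F8820
theorem F8825 : act 6 n2853 = n2853 := d25_2 D1950 D2853 (iv D2853) (iv D1950) F4224
theorem F8826 : act 7 n2063 = n2853 := d12_0 F8822 (iv D2064) D2063
def n2854 : Q := act 7 n1950
theorem D2854 : act 7 n1950 = n2854 := rfl
theorem F8827 : act 1 n2854 = n2041 := d12_1 D2854 (iv D2041) (iv F6088)
theorem F8828 : act 5 n2854 = n2063 := d26_1 D2854 F8826 (iv D2853)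
def n2855 : Q := act 1 n1951
theorem D2855 : act 1 n1951 = n2855 := rfl
theorem F8829 : act 3 n2855 = n2064 := d8_2 F8823 D2855 (iv F8822)
theorem F8830 : act 4 n2855 = n2855 := d9_2 F6091 D2855 (iv D2855)
theorem F8831 : act 5 n2855 = n2042 := d10_2 D1951 D2855 (iv D2042) (iv D1377) (iv F4225)
theorem F8832 : act 6 n2855 = n2855 := d11_2 F6092 D2855 (iv D2855)
theorem F8833 : act 0 n2620 = n2855 := d4_3 F8831 (iv F8131) F8668
theorem F8834 : act 1 n2840 = n2600 := d0_4 D2620 F8833 (iv D2855) (iv F8785) F8006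
theorem F8835 : act 2 n2607 = n2847 := d7_4 (iv F8786) F8834 F8007 D2607 (iv D2847)
theorem F8836 : act 5 n2593 = n2833 := d10_4 D2840 F8834 (iv D2600) (iv F7986) F8763
theorem F8837 : act 6 n2831 = n2591 := d25_4 D2593 F8836 (iv D2833) (iv F8759) F7984
theorem F8838 : act 7 n2590 = n2830 := d27_4 D2831 F8837 (iv D2591) D2590 (iv D2830)
def n2856 : Q := act 0 n1952
theorem D2856 : act 0 n1952 = n2856 := rfl
theorem F8839 : act 2 n2856 = n1958 := d1_2 (iv F6093) D2856 (iv D1958)
theorem F8840 : act 7 n2856 = n2856 := d6_2 F6094 D2856 (iv D2856)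
def n2857 : Q := act 6 n1952
theorem D2857 : act 6 n1952 = n2857 := rfl
theorem F8841 : act 1 n2857 = n1954 := d11_1 D2857 (iv D1954) D1952
theorem F8842 : act 2 n2857 = n1961 := d16_1 D2857 (iv D1961) (iv F6093)
def n2858 : Q := act 6 n1953
theorem D2858 : act 6 n1953 = n2858 := rfl
theorem F8843 : act 2 n2858 = n1955 := d16_1 D2858 (iv D1955) (iv F6095)
theorem F8844 : act 3 n2858 = n2848 := d20_1 D2858 (iv D2848) (iv F6096)
theorem F8845 : act 4 n2858 = n1954 := d23_1 D2858 (iv D1954) D1953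
def n2859 : Q := act 5 n1954
theorem D2859 : act 5 n1954 = n2859 := rfl
theorem F8846 : act 2 n2859 = n1956 := d15_1 D2859 (iv D1956) (iv F6099)
theorem F8847 : act 6 n2859 = n2859 := d25_2 D1954 D2859 (iv D2859) (iv D1954) F4228
def n2860 : Q := act 7 n1954
theorem D2860 : act 7 n1954 = n2860 := rfl
theorem F8848 : act 2 n2860 = n1957 := d17_1 D2860 (iv D1957) (iv F6099)
theorem F8849 : act 6 n2860 = n2860 := d27_1 D2860 (iv D2860) (iv D1954) F4229 D1954
def n2861 : Q := act 5 n1955
theorem D2861 : act 5 n1955 = n2861 := rfl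
theorem F8850 : act 3 n2861 = n2861 := d19_1 D2861 (iv D2861) F6101
theorem F8851 : act 4 n2861 = n1956 := d22_1 D2861 (iv D1956) (iv F6102)
theorem F8852 : act 6 n2861 = n2861 := d25_2 D1955 D2861 (iv D2861) (iv D1955) F4232
def n2862 : Q := act 7 n1956
theorem D2862 : act 7 n1956 = n2862 := rfl
theorem F8853 : act 3 n2862 = n2275 := d21_1 D2862 (iv D2275) F4880 F4383 (iv F6103)
theorem F8854 : act 5 n2862 = n1957 := d26_1 D2862 (iv D1957) D1956
theorem F8855 : act 6 n2370 = n2862 := d20_0 F8853 F7065 D2370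
def n2863 : Q := act 4 n1958
theorem D2863 : act 4 n1958 = n2863 := rfl
theorem F8856 : act 0 n2863 = n1959 := d3_1 D2863 (iv D1959) D1958
theorem F8857 : act 7 n2863 = n2863 := d24_2 F6108 D2863 (iv D2863)
def n2864 : Q := act 5 n1958
theorem D2864 : act 5 n1958 = n2864 := rfl
theorem F8858 : act 0 n2864 = n1960 := d4_1 D2864 (iv D1960) D1958
theorem F8859 : act 3 n2864 = n2055 := d19_1 D2864 (iv D2055) (iv F6107)
theorem F8860 : act 7 n2864 = n2864 := d26_2 F6108 D2864 (iv D2864)
def n2865 : Q := act 6 n1958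
theorem D2865 : act 6 n1958 = n2865 := rfl
theorem F8861 : act 0 n2865 = n1961 := d5_1 D2865 (iv D1961) D1958
theorem F8862 : act 3 n2865 = n2056 := d20_1 D2865 (iv D2056) (iv F6107)
def n2866 : Q := act 6 n1959
theorem D2866 : act 6 n1959 = n2866 := rfl
theorem F8863 : act 1 n2866 = n1963 := d11_1 D2866 (iv D1963) (iv F6109)
theorem F8864 : act 4 n2866 = n1961 := d23_1 D2866 (iv D1961) D1959
def n2867 : Q := act 6 n1960
theorem D2867 : act 6 n1960 = n2867 := rfl
theorem F8865 : act 1 n2867 = n1969 := d11_1 D2867 (iv D1969) (iv F6111)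
theorem F8866 : act 3 n2867 = n2060 := d20_1 D2867 (iv D2060) (iv F6112)
def n2868 : Q := act 5 n1961
theorem D2868 : act 5 n1961 = n2868 := rfl
theorem F8867 : act 3 n2868 = n2041 := d19_1 D2868 F6332 (iv F6115)
theorem F8868 : act 7 n1987 = n2868 := d21_0 F8867 (iv D2041) F4361 (iv F4284) (iv F6186)
def n2869 : Q := act 7 n1961
theorem D2869 : act 7 n1961 = n2869 := rfl
theorem F8869 : act 1 n2869 = n1964 := d12_1 D2869 (iv D1964) (iv F6114)
theorem F8870 : act 3 n2869 = n1988 := d21_1 D2869 F6190 (iv F6327) (iv F6331) (iv F6115)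
theorem F8871 : act 5 n2869 = n1987 := d26_1 D2869 F8868 (iv D2868)
theorem F8872 : act 6 n2869 = n2869 := d27_1 D2869 (iv D2869) (iv D1961) F4239 D1961
def n2870 : Q := act 6 n1962
theorem D2870 : act 6 n1962 = n2870 := rfl
theorem F8873 : act 2 n2870 = n2870 := d16_1 D2870 (iv D2870) F6116
theorem F8874 : act 3 n2870 = n1963 := d20_1 D2870 (iv D1963) D1962
theorem F8875 : act 4 n2870 = n2061 := d23_1 D2870 (iv D2061) (iv F6117)
theorem F8876 : act 7 n2870 = n2870 := d27_2 (iv F6119) D2870 (iv D2870) F6119 F5215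
def n2871 : Q := act 3 n1964
theorem D2871 : act 3 n1964 = n2871 := rfl
theorem F8877 : act 1 n2871 = n1988 := d8_1 D2871 (iv F8870) F8869
theorem F8878 : act 2 n2871 = n2855 := d13_1 D2871 F8829 F6390 F4408 (iv F6122)
theorem F8879 : act 4 n2871 = n2871 := d18_2 F7462 D2871 (iv D2871) (iv F7462) F7461
theorem F8880 : act 6 n2871 = n2871 := d20_2 F6123 D2871 (iv D2871)
theorem F8881 : act 7 n2871 = n2042 := d21_2 D1964 D2871 F6333 (iv D1392) (iv F4244)
def n2872 : Q := act 3 n1965
theorem D2872 : act 3 n1965 = n2872 := rfl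
theorem F8882 : act 0 n2872 = n1967 := d2_1 D2872 (iv D1967) (iv F6124)
theorem F8883 : act 4 n2872 = n2070 := d18_2 D1965 D2872 (iv D2070) (iv D1398) (iv F4249)
def n2873 : Q := act 5 n1965
theorem D2873 : act 5 n1965 = n2873 := rfl
theorem F8884 : act 0 n2873 = n1968 := d4_1 D2873 (iv D1968) (iv F6124)
theorem F8885 : act 2 n2873 = n2873 := d15_1 D2873 (iv D2873) F6125
theorem F8886 : act 4 n2873 = n1966 := d22_1 D2873 (iv D1966) D1965
theorem F8887 : act 7 n2873 = n2873 := d26_2 F6126 D2873 (iv D2873)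
def n2874 : Q := act 1 n1966
theorem D2874 : act 1 n1966 = n2874 := rfl
theorem F8888 : act 3 n2874 = n2072 := d8_2 (iv F6129) D2874 (iv D2072)
theorem F8889 : act 7 n2874 = n2874 := d12_2 F6130 D2874 (iv D2874)
def n2875 : Q := act 6 n1966
theorem D2875 : act 6 n1966 = n2875 := rfl
theorem F8890 : act 0 n2875 = n1969 := d5_1 D2875 (iv D1969) (iv F6127)
theorem F8891 : act 2 n2875 = n2875 := d16_1 D2875 (iv D2875) F6128
theorem F8892 : act 3 n2875 = n2073 := d20_1 D2875 (iv D2073) (iv F6129)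
def n2876 : Q := act 6 n1968
theorem D2876 : act 6 n1968 = n2876 := rfl
theorem F8893 : act 2 n2876 = n2876 := d16_1 D2876 (iv D2876) F6133
theorem F8894 : act 4 n2876 = n1969 := d23_1 D2876 (iv D1969) (iv F6134)
def n2877 : Q := act 7 n1969
theorem D2877 : act 7 n1969 = n2877 := rfl
theorem F8895 : act 2 n2877 = n2877 := d17_1 D2877 (iv D2877) F6136
theorem F8896 : act 6 n2877 = n2877 := d27_1 D2877 (iv D2877) (iv D1969) F4256 D1969
def n2878 : Q := act 6 n1970
theorem D2878 : act 6 n1970 = n2878 := rfl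
theorem F8897 : act 2 n2878 = n2878 := d16_1 D2878 (iv D2878) F6138
theorem F8898 : act 3 n2878 = n2878 := d20_1 D2878 (iv D2878) F6139
theorem F8899 : act 4 n2878 = n2083 := d23_1 D2878 (iv D2083) (iv F6140)
theorem F8900 : act 5 n2878 = n2878 := d25_1 D2878 (iv D2878) F6141 F5215 (iv F6141)
def n2879 : Q := act 2 n1971
theorem D2879 : act 2 n1971 = n2879 := rfl
theorem F8901 : act 1 n2879 = n2099 := d7_1 D2879 (iv D2099) F4476 (iv F4262) (iv F6142)
theorem F8902 : act 6 n2879 = n2008 := d16_2 (iv F6143) D2879 (iv D2008)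
def n2880 : Q := act 4 n1971
theorem D2880 : act 4 n1971 = n2880 := rfl
theorem F8903 : act 1 n2880 = n1974 := d9_1 D2880 (iv D1974) (iv F6142)
theorem F8904 : act 3 n2880 = n2880 := d18_1 D2880 (iv D2880) (iv D1971) F4259 D1971
theorem F8905 : act 6 n2880 = n2009 := d23_2 (iv F6143) D2880 (iv D2009)
def n2881 : Q := act 5 n1971
theorem D2881 : act 5 n1971 = n2881 := rfl
theorem F8906 : act 1 n2881 = n2881 := d10_1 D2881 (iv D2881) F6142 F4263 (iv F6142)
theorem F8907 : act 3 n2881 = n1972 := d19_1 D2881 (iv D1972) D1971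
def n2882 : Q := act 7 n1971
theorem D2882 : act 7 n1971 = n2882 := rfl
theorem F8908 : act 1 n2882 = n1975 := d12_1 D2882 (iv D1975) (iv F6142)
def n2883 : Q := act 6 n1972
theorem D2883 : act 6 n1972 = n2883 := rfl
theorem F8909 : act 1 n2883 = n2883 := d11_1 D2883 (iv D2883) F6144
theorem F8910 : act 4 n2883 = n2883 := d23_1 D2883 (iv D2883) F6145
theorem F8911 : act 5 n2883 = n2012 := d25_1 D2883 (iv D2012) (iv D1361) (iv F4260) D1972
def n2884 : Q := act 7 n1972
theorem D2884 : act 7 n1972 = n2884 := rfl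
theorem F8912 : act 1 n2884 = n2884 := d12_1 D2884 (iv D2884) F6144
theorem F8913 : act 4 n2884 = n2884 := d24_1 D2884 (iv D2884) F6145
theorem F8914 : act 5 n2884 = n1973 := d26_1 D2884 (iv D1973) D1972
def n2885 : Q := act 3 n1973
theorem D2885 : act 3 n1973 = n2885 := rfl
theorem F8915 : act 1 n2885 = n1976 := d8_1 D2885 (iv D1976) (iv F6146)
def n2886 : Q := act 6 n1973
theorem D2886 : act 6 n1973 = n2886 := rfl
theorem F8916 : act 1 n2886 = n1977 := d11_1 D2886 (iv D1977) (iv F6146)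
theorem F8917 : act 4 n2886 = n2886 := d23_1 D2886 (iv D2886) F6147
theorem F8918 : act 7 n2886 = n2015 := d27_2 D1973 D2886 (iv D2015) (iv D1362) (iv F4260)
def n2887 : Q := act 7 n1974
theorem D2887 : act 7 n1974 = n2887 := rfl
theorem F8919 : act 0 n2887 = n1982 := d6_1 D2887 (iv D1982) (iv F6148)
theorem F8920 : act 2 n2887 = n2106 := d17_1 D2887 (iv D2106) (iv F6149)
theorem F8921 : act 4 n2887 = n1975 := d24_1 D2887 (iv D1975) D1974
theorem F8922 : act 5 n2887 = n2887 := d26_1 D2887 (iv D2887) F6151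
def n2888 : Q := act 3 n1975
theorem D2888 : act 3 n1975 = n2888 := rfl
theorem F8923 : act 0 n2888 = n1983 := d2_1 D2888 (iv D1983) (iv F6153)
theorem F8924 : act 5 n2888 = n2888 := d19_2 F6155 D2888 (iv D2888)
theorem F8925 : act 7 n2888 = n1976 := d21_2 D1975 D2888 (iv D1976) (iv D1340) D1339
def n2889 : Q := act 6 n1975
theorem D2889 : act 6 n1975 = n2889 := rfl
theorem F8926 : act 0 n2889 = n1984 := d5_1 D2889 (iv D1984) (iv F6153)
theorem F8927 : act 2 n2889 = n2108 := d16_1 D2889 (iv D2108) (iv F6154)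
theorem F8928 : act 7 n2889 = n2018 := d27_2 D1975 D2889 (iv D2018) (iv D1364) (iv F4264)
def n2890 : Q := act 2 n1976
theorem D2890 : act 2 n1976 = n2890 := rfl
theorem F8929 : act 0 n2890 = n1985 := d1_1 D2890 (iv D1985) (iv F6156)
theorem F8930 : act 3 n2890 = n1978 := d13_2 D1976 D2890 (iv D1978) (iv D1341) (iv F4266)
theorem F8931 : act 5 n2890 = n2890 := d15_2 F6157 D2890 (iv D2890)
def n2891 : Q := act 4 n1976
theorem D2891 : act 4 n1976 = n2891 := rfl
theorem F8932 : act 0 n2891 = n1986 := d3_1 D2891 (iv D1986) (iv F6156)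
theorem F8933 : act 3 n2891 = n2891 := d18_1 D2891 (iv D2891) (iv D1976) F4267 D1976
theorem F8934 : act 5 n2891 = n2891 := d22_2 F6157 D2891 (iv D2891)
def n2892 : Q := act 6 n1976
theorem D2892 : act 6 n1976 = n2892 := rfl
theorem F8935 : act 0 n2892 = n1987 := d5_1 D2892 (iv D1987) (iv F6156)
theorem F8936 : act 3 n2892 = n1977 := d20_1 D2892 (iv D1977) D1976
def n2893 : Q := act 5 n1977
theorem D2893 : act 5 n1977 = n2893 := rfl
theorem F8937 : act 0 n2893 = n1988 := d4_1 D2893 (iv D1988) (iv F6158)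
theorem F8938 : act 2 n2893 = n1981 := d15_1 D2893 (iv D1981) (iv F6159)
theorem F8939 : act 4 n2893 = n2893 := d22_1 D2893 (iv D2893) F6160
theorem F8940 : act 6 n2893 = n2893 := d25_2 D1977 D2893 (iv D2893) (iv D1977) F4268
theorem F8941 : act 7 n2893 = n2022 := d26_2 (iv F6161) D2893 (iv D2022)
def n2894 : Q := act 1 n1978
theorem D2894 : act 1 n1978 = n2894 := rfl
theorem F8942 : act 7 n2894 = n2110 := d12_2 (iv F6164) D2894 (iv D2110)
def n2895 : Q := act 4 n1978
theorem D2895 : act 4 n1978 = n2895 := rfl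
theorem F8943 : act 0 n2895 = n1990 := d3_1 D2895 (iv D1990) (iv F6162)
theorem F8944 : act 2 n2895 = n1979 := d14_1 D2895 (iv D1979) D1978
theorem F8945 : act 5 n2895 = n2895 := d22_2 F6163 D2895 (iv D2895)
theorem F8946 : act 7 n2895 = n2111 := d24_2 (iv F6164) D2895 (iv D2111)
def n2896 : Q := act 6 n1978
theorem D2896 : act 6 n1978 = n2896 := rfl
theorem F8947 : act 0 n2896 = n1991 := d5_1 D2896 (iv D1991) (iv F6162)
theorem F8948 : act 2 n2896 = n1980 := d16_1 D2896 (iv D1980) D1978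
def n2897 : Q := act 6 n1979
theorem D2897 : act 6 n1979 = n2897 := rfl
theorem F8949 : act 0 n2897 = n1992 := d5_1 D2897 (iv D1992) (iv F6165)
theorem F8950 : act 3 n2897 = n2897 := d20_1 D2897 (iv D2897) F6166
theorem F8951 : act 4 n2897 = n1980 := d23_1 D2897 (iv D1980) D1979
theorem F8952 : act 7 n2897 = n2310 := d27_2 (iv F6168) D2897 (iv D2310) F4947 F4504
def n2898 : Q := act 5 n1980
theorem D2898 : act 5 n1980 = n2898 := rfl
theorem F8953 : act 0 n2898 = n1993 := d4_1 D2898 (iv D1993) (iv F6169)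
theorem F8954 : act 3 n2898 = n1981 := d19_1 D2898 (iv D1981) (iv F6170)
theorem F8955 : act 6 n2898 = n2898 := d25_2 D1980 D2898 (iv D2898) (iv D1980) F4270
def n2899 : Q := act 7 n1980
theorem D2899 : act 7 n1980 = n2899 := rfl
theorem F8956 : act 0 n2899 = n1994 := d6_1 D2899 (iv D1994) (iv F6169)
theorem F8957 : act 3 n2899 = n2028 := d21_1 D2899 (iv D2028) F4347 (iv F4274) (iv F6170)
theorem F8958 : act 4 n2899 = n2310 := d24_1 D2899 (iv F8952) F8951
theorem F8959 : act 6 n2899 = n2114 := d27_1 D2899 (iv D2114) (iv D1426) (iv F4271) D1980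
def n2900 : Q := act 1 n1981
theorem D2900 : act 1 n1981 = n2900 := rfl
theorem F8960 : act 0 n2900 = n2847 := d0_1 D2900 (iv D2847) F6068 (iv F4293) (iv F6171)
theorem F8961 : act 4 n2900 = n2900 := d9_2 F6172 D2900 (iv D2900)
theorem F8962 : act 6 n2900 = n2900 := d11_2 F6173 D2900 (iv D2900)
theorem F8963 : act 7 n2900 = n2029 := d12_2 (iv F6174) D2900 (iv D2029)
def n2901 : Q := act 3 n1982
theorem D2901 : act 3 n1982 = n2901 := rfl
theorem F8964 : act 2 n2901 = n2901 := d13_1 D2901 (iv D2901) F6175 F4514 (iv F6175)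
theorem F8965 : act 5 n2901 = n2901 := d19_2 F6177 D2901 (iv D2901)
theorem F8966 : act 7 n2901 = n2901 := d21_2 D1982 D2901 (iv D2901) (iv D1982) F4276
def n2902 : Q := act 6 n1982
theorem D2902 : act 6 n1982 = n2902 := rfl
theorem F8967 : act 2 n2902 = n2116 := d16_1 D2902 (iv D2116) (iv F6175)
theorem F8968 : act 4 n2902 = n1984 := d23_1 D2902 (iv D1984) (iv F6176)
theorem F8969 : act 7 n2902 = n2031 := d27_2 D1982 D2902 (iv D2031) (iv D1371) (iv F4278)
def n2903 : Q := act 2 n1983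
theorem D2903 : act 2 n1983 = n2903 := rfl
theorem F8970 : act 3 n2903 = n2117 := d13_2 D1983 D2903 (iv D2117) (iv D1429) (iv F4279)
theorem F8971 : act 5 n2903 = n2903 := d15_2 F6178 D2903 (iv D2903)
theorem F8972 : act 7 n2903 = n1985 := d17_2 (iv F6179) D2903 (iv D1985)
def n2904 : Q := act 4 n1983
theorem D2904 : act 4 n1983 = n2904 := rfl
theorem F8973 : act 5 n2904 = n2904 := d22_2 F6178 D2904 (iv D2904)
theorem F8974 : act 7 n2904 = n1986 := d24_2 (iv F6179) D2904 (iv D1986)
def n2905 : Q := act 6 n1983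
theorem D2905 : act 6 n1983 = n2905 := rfl
theorem F8975 : act 3 n2905 = n1984 := d20_1 D2905 (iv D1984) D1983
def n2906 : Q := act 1 n1985
theorem D2906 : act 1 n1985 = n2906 := rfl
theorem F8976 : act 3 n2906 = n1989 := d8_2 (iv F6182) D2906 (iv D1989)
def n2907 : Q := act 4 n1985
theorem D2907 : act 4 n1985 = n2907 := rfl
theorem F8977 : act 2 n2907 = n1986 := d14_1 D2907 (iv D1986) D1985
theorem F8978 : act 5 n2907 = n2907 := d22_2 F6183 D2907 (iv D2907)
def n2908 : Q := act 6 n1985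
theorem D2908 : act 6 n1985 = n2908 := rfl
theorem F8979 : act 2 n2908 = n1987 := d16_1 D2908 (iv D1987) D1985
theorem F8980 : act 3 n2908 = n1991 := d20_1 D2908 (iv D1991) (iv F6182)
def n2909 : Q := act 6 n1986
theorem D2909 : act 6 n1986 = n2909 := rfl
theorem F8981 : act 3 n2909 = n2909 := d20_1 D2909 (iv D2909) F6184
theorem F8982 : act 4 n2909 = n1987 := d23_1 D2909 (iv D1987) D1986
def n2910 : Q := act 0 n1989
theorem D2910 : act 0 n1989 = n2910 := rfl
theorem F8983 : act 2 n2910 = n1995 := d1_2 (iv F6191) D2910 (iv D1995)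
theorem F8984 : act 7 n2910 = n2119 := d6_2 (iv F6192) D2910 (iv D2119)
def n2911 : Q := act 4 n1989
theorem D2911 : act 4 n1989 = n2911 := rfl
theorem F8985 : act 1 n2911 = n1990 := d9_1 D2911 (iv D1990) D1989
theorem F8986 : act 2 n2911 = n1996 := d14_1 D2911 (iv D1996) (iv F6191)
theorem F8987 : act 7 n2911 = n2120 := d24_2 (iv F6192) D2911 (iv D2120)
def n2912 : Q := act 5 n1989
theorem D2912 : act 5 n1989 = n2912 := rfl
theorem F8988 : act 1 n2912 = n2912 := d10_1 D2912 (iv D2912) (iv D1989) F4285 D1989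
theorem F8989 : act 2 n2912 = n1997 := d15_1 D2912 (iv D1997) (iv F6191)
theorem F8990 : act 7 n2912 = n2121 := d26_2 (iv F6192) D2912 (iv D2121)
def n2913 : Q := act 6 n1989
theorem D2913 : act 6 n1989 = n2913 := rfl
theorem F8991 : act 1 n2913 = n1991 := d11_1 D2913 (iv D1991) D1989
theorem F8992 : act 2 n2913 = n1998 := d16_1 D2913 (iv D1998) (iv F6191)
def n2914 : Q := act 3 n1990
theorem D2914 : act 3 n1990 = n2914 := rfl
theorem F8993 : act 2 n2914 = n2914 := d13_1 D2914 (iv D2914) F6193 F4288 (iv F6193)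
theorem F8994 : act 5 n2914 = n2914 := d19_2 F6194 D2914 (iv D2914)
theorem F8995 : act 7 n2914 = n2914 := d21_2 (iv F6195) D2914 (iv D2914) F6195 F4528
def n2915 : Q := act 6 n1990
theorem D2915 : act 6 n1990 = n2915 := rfl
theorem F8996 : act 2 n2915 = n1992 := d16_1 D2915 (iv D1992) (iv F6193)
theorem F8997 : act 4 n2915 = n1991 := d23_1 D2915 (iv D1991) D1990
theorem F8998 : act 7 n2915 = n2333 := d27_2 (iv F6195) D2915 (iv D2333) F4979 F4530
def n2916 : Q := act 5 n1991
theorem D2916 : act 5 n1991 = n2916 := rfl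
theorem F8999 : act 2 n2916 = n1993 := d15_1 D2916 (iv D1993) (iv F6196)
theorem F9000 : act 6 n2916 = n2916 := d25_2 D1991 D2916 (iv D2916) (iv D1991) F4285
def n2917 : Q := act 7 n1991
theorem D2917 : act 7 n1991 = n2917 := rfl
theorem F9001 : act 2 n2917 = n1994 := d17_1 D2917 (iv D1994) (iv F6196)
theorem F9002 : act 4 n2917 = n2333 := d24_1 D2917 (iv F8998) F8997
theorem F9003 : act 6 n2917 = n2123 := d27_1 D2917 (iv D2123) (iv D1434) (iv F4286) D1991
def n2918 : Q := act 5 n1992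
theorem D2918 : act 5 n1992 = n2918 := rfl
theorem F9004 : act 1 n2918 = n2861 := d10_1 D2918 (iv D2861) F6100 (iv F4305) (iv F6197)
theorem F9005 : act 3 n2918 = n2918 := d19_1 D2918 (iv D2918) F6198
theorem F9006 : act 4 n2918 = n1993 := d22_1 D2918 (iv D1993) (iv F6199)
theorem F9007 : act 6 n2918 = n2918 := d25_2 D1992 D2918 (iv D2918) (iv D1992) F4289
theorem F9008 : act 7 n2918 = n2334 := d26_2 (iv F6200) D2918 (iv D2334)
def n2919 : Q := act 7 n1993
theorem D2919 : act 7 n1993 = n2919 := rfl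
theorem F9009 : act 1 n2919 = n2862 := d12_1 D2919 (iv D2862) (iv F6201)
theorem F9010 : act 3 n2919 = n2051 := d21_1 D2919 (iv D2051) F4375 (iv F4296) (iv F6202)
theorem F9011 : act 4 n2919 = n2334 := d24_1 D2919 (iv F9008) F9006
theorem F9012 : act 5 n2919 = n1994 := d26_1 D2919 (iv D1994) D1993
def n2920 : Q := act 4 n1995
theorem D2920 : act 4 n1995 = n2920 := rfl
theorem F9013 : act 0 n2920 = n1996 := d3_1 D2920 (iv D1996) D1995
theorem F9014 : act 7 n2920 = n2125 := d24_2 (iv F6208) D2920 (iv D2125)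
def n2921 : Q := act 5 n1995
theorem D2921 : act 5 n1995 = n2921 := rfl
theorem F9015 : act 0 n2921 = n1997 := d4_1 D2921 (iv D1997) D1995
theorem F9016 : act 7 n2921 = n2126 := d26_2 (iv F6208) D2921 (iv D2126)
def n2922 : Q := act 6 n1995
theorem D2922 : act 6 n1995 = n2922 := rfl
theorem F9017 : act 0 n2922 = n1998 := d5_1 D2922 (iv D1998) D1995
def n2923 : Q := act 3 n1996
theorem D2923 : act 3 n1996 = n2923 := rfl
theorem F9018 : act 1 n2923 = n1999 := d8_1 D2923 (iv D1999) (iv F6209)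
theorem F9019 : act 7 n2923 = n2489 := d21_2 (iv F6210) D2923 (iv D2489) (iv D1706) F4542
def n2924 : Q := act 5 n1996
theorem D2924 : act 5 n1996 = n2924 := rfl
theorem F9020 : act 1 n2924 = n2005 := d10_1 D2924 (iv D2005) F4314 (iv F4299) (iv F6209)
theorem F9021 : act 4 n2924 = n1997 := d22_1 D2924 (iv D1997) D1996
theorem F9022 : act 7 n2924 = n2128 := d26_2 (iv F6210) D2924 (iv D2128)
def n2925 : Q := act 6 n1996
theorem D2925 : act 6 n1996 = n2925 := rfl
theorem F9023 : act 1 n2925 = n2000 := d11_1 D2925 (iv D2000) (iv F6209)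
theorem F9024 : act 4 n2925 = n1998 := d23_1 D2925 (iv D1998) D1996
theorem F9025 : act 7 n2925 = n2423 := d27_2 (iv F6210) D2925 (iv D2423) F5152 F4543
def n2926 : Q := act 6 n1997
theorem D2926 : act 6 n1997 = n2926 := rfl
theorem F9026 : act 1 n2926 = n2006 := d11_1 D2926 (iv D2006) (iv F6211)
def n2927 : Q := act 5 n1998
theorem D2927 : act 5 n1998 = n2927 := rfl
theorem F9027 : act 1 n2927 = n2868 := d10_1 D2927 (iv D2868) F6114 (iv F4302) (iv F6213)
theorem F9028 : act 3 n2927 = n2854 := d19_1 D2927 F8828 F6388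
theorem F9029 : act 7 n2069 = n2927 := d21_0 F9028 (iv D2854) F6089 (iv F4418) D2069
def n2928 : Q := act 7 n1998
theorem D2928 : act 7 n1998 = n2928 := rfl
theorem F9030 : act 1 n2928 = n2001 := d12_1 D2928 (iv D2001) (iv F6213)
theorem F9031 : act 3 n2928 = n2053 := d21_1 D2928 F6366 (iv F8823) (iv F8826) F6388
theorem F9032 : act 4 n2928 = n2423 := d24_1 D2928 (iv F9025) F9024
theorem F9033 : act 5 n2928 = n2069 := d26_1 D2928 F9029 (iv D2927)
theorem F9034 : act 6 n2928 = n2131 := d27_1 D2928 (iv D2131) (iv D1440) (iv F4297) D1998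
def n2929 : Q := act 6 n1999
theorem D2929 : act 6 n1999 = n2929 := rfl
theorem F9035 : act 2 n2929 = n2929 := d16_1 D2929 (iv D2929) F6214
theorem F9036 : act 3 n2929 = n2000 := d20_1 D2929 (iv D2000) D1999
theorem F9037 : act 5 n2929 = n2870 := d25_1 D2929 (iv D2870) F6118 (iv F4321) (iv F6215)
theorem F9038 : act 7 n2929 = n2929 := d27_2 (iv F6216) D2929 (iv D2929) F6216 F5312
def n2930 : Q := act 3 n2001
theorem D2930 : act 3 n2001 = n2930 := rfl
theorem F9039 : act 1 n2930 = n2053 := d8_1 D2930 (iv F9031) F9030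
theorem F9040 : act 2 n2930 = n2042 := d13_1 D2930 F6333 F4399 (iv F4307) (iv F6221)
theorem F9041 : act 4 n2930 = n2930 := d18_2 (iv F6222) D2930 (iv D2930) F6222 F5154
theorem F9042 : act 5 n2930 = n2871 := d19_2 (iv F6223) D2930 (iv D2871)
theorem F9043 : act 6 n2930 = n2132 := d20_2 (iv F6224) D2930 (iv D2132)
theorem F9044 : act 7 n2930 = n2855 := d21_2 D2001 D2930 F8829 (iv D2064) F4397
def n2931 : Q := act 3 n2002
theorem D2931 : act 3 n2002 = n2931 := rfl
theorem F9045 : act 0 n2931 = n2004 := d2_1 D2931 (iv D2004) (iv F6225)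
theorem F9046 : act 4 n2931 = n2277 := d18_2 D2002 D2931 (iv D2277) F4889 F4427
theorem F9047 : act 6 n2931 = n2872 := d20_2 (iv F6227) D2931 (iv D2872)
theorem F9048 : act 2 n2281 = n2931 := d14_3 F9046 F7072 D2281
def n2932 : Q := act 5 n2002
theorem D2932 : act 5 n2002 = n2932 := rfl
theorem F9049 : act 0 n2932 = n2005 := d4_1 D2932 (iv D2005) (iv F6225)
theorem F9050 : act 2 n2932 = n2932 := d15_1 D2932 (iv D2932) F6226
theorem F9051 : act 4 n2932 = n2003 := d22_1 D2932 (iv D2003) D2002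
theorem F9052 : act 7 n2932 = n2134 := d26_2 (iv F6228) D2932 (iv D2134)
def n2933 : Q := act 1 n2003
theorem D2933 : act 1 n2003 = n2933 := rfl
theorem F9053 : act 7 n2933 = n2135 := d12_2 (iv F6231) D2933 (iv D2135)
def n2934 : Q := act 6 n2003
theorem D2934 : act 6 n2003 = n2934 := rfl
theorem F9054 : act 0 n2934 = n2006 := d5_1 D2934 (iv D2006) (iv F6229)
theorem F9055 : act 2 n2934 = n2934 := d16_1 D2934 (iv D2934) F6230
theorem F9056 : act 5 n2934 = n2875 := d25_1 D2934 (iv D2875) (iv D1966) (iv F4312) D2003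
def n2935 : Q := act 5 n2004
theorem D2935 : act 5 n2004 = n2935 := rfl
theorem F9057 : act 2 n2935 = n2091 := d15_1 D2935 F6465 F6235
theorem F9058 : act 3 n2935 = n2005 := d19_1 D2935 (iv D2005) D2004
theorem F9059 : act 4 n2935 = n2088 := d22_1 D2935 F6457 (iv F6233)
def n2936 : Q := act 7 n2004
theorem D2936 : act 7 n2004 = n2936 := rfl
theorem F9060 : act 1 n2936 = n2007 := d12_1 D2936 (iv D2007) (iv F6232)
theorem F9061 : act 2 n2936 = n2283 := d17_1 D2936 (iv D2283) F6235
theorem F9062 : act 3 n2936 = n2139 := d21_1 D2936 (iv D2139) (iv D1444) (iv F4317) D2004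
theorem F9063 : act 4 n2936 = n2278 := d24_1 D2936 (iv D2278) (iv F6233)
def n2937 : Q := act 6 n2005
theorem D2937 : act 6 n2005 = n2937 := rfl
theorem F9064 : act 2 n2937 = n2937 := d16_1 D2937 (iv D2937) F6236
theorem F9065 : act 4 n2937 = n2006 := d23_1 D2937 (iv D2006) (iv F6237)
theorem F9066 : act 5 n2937 = n2876 := d25_1 D2937 (iv D2876) (iv D1968) (iv F4316) D2005
def n2938 : Q := act 7 n2006
theorem D2938 : act 7 n2006 = n2938 := rfl
theorem F9067 : act 2 n2938 = n2938 := d17_1 D2938 (iv D2938) F6239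
theorem F9068 : act 5 n2938 = n2877 := d26_1 D2938 (iv D2877) (iv F6240)
theorem F9069 : act 6 n2938 = n2141 := d27_1 D2938 (iv D2141) (iv D1446) (iv F4319) D2006
def n2939 : Q := act 6 n2007
theorem D2939 : act 6 n2007 = n2939 := rfl
theorem F9070 : act 2 n2939 = n2939 := d16_1 D2939 (iv D2939) F6241
theorem F9071 : act 3 n2939 = n2142 := d20_1 D2939 (iv D2142) (iv F6242)
theorem F9072 : act 5 n2939 = n2939 := d25_1 D2939 (iv D2939) F6243 F5312 (iv F6243)
theorem F9073 : act 7 n2939 = n2878 := d27_2 D2007 D2939 (iv D2878) (iv D1970) (iv F4321)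
def n2940 : Q := act 4 n2008
theorem D2940 : act 4 n2008 = n2940 := rfl
theorem F9074 : act 1 n2940 = n2143 := d9_1 D2940 (iv D2143) (iv F6244)
theorem F9075 : act 2 n2940 = n2009 := d14_1 D2940 (iv D2009) D2008
def n2941 : Q := act 5 n2008
theorem D2941 : act 5 n2008 = n2941 := rfl
theorem F9076 : act 2 n2941 = n2010 := d15_1 D2941 (iv D2010) D2008
def n2942 : Q := act 7 n2008
theorem D2942 : act 7 n2008 = n2942 := rfl
theorem F9077 : act 1 n2942 = n2145 := d12_1 D2942 (iv D2145) (iv F6244)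
theorem F9078 : act 2 n2942 = n2011 := d17_1 D2942 (iv D2011) D2008
def n2943 : Q := act 5 n2009
theorem D2943 : act 5 n2009 = n2943 := rfl
theorem F9079 : act 1 n2943 = n2213 := d10_1 D2943 (iv D2213) F4758 (iv F4330) (iv F6245)
theorem F9080 : act 3 n2943 = n2943 := d19_1 D2943 (iv D2943) F6246
theorem F9081 : act 4 n2943 = n2010 := d22_1 D2943 (iv D2010) D2009
def n2944 : Q := act 7 n2009
theorem D2944 : act 7 n2009 = n2944 := rfl
theorem F9082 : act 1 n2944 = n2016 := d12_1 D2944 (iv D2016) (iv F6245)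
theorem F9083 : act 4 n2944 = n2011 := d24_1 D2944 (iv D2011) D2009
def n2945 : Q := act 6 n2010
theorem D2945 : act 6 n2010 = n2945 := rfl
theorem F9084 : act 1 n2945 = n2215 := d11_1 D2945 (iv D2215) (iv F6247)
theorem F9085 : act 3 n2945 = n2012 := d20_1 D2945 (iv D2012) (iv F6248)
def n2946 : Q := act 7 n2010
theorem D2946 : act 7 n2010 = n2946 := rfl
theorem F9086 : act 1 n2946 = n2216 := d12_1 D2946 (iv D2216) (iv F6247)
theorem F9087 : act 5 n2946 = n2011 := d26_1 D2946 (iv D2011) D2010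
def n2947 : Q := act 3 n2011
theorem D2947 : act 3 n2011 = n2947 := rfl
theorem F9088 : act 1 n2947 = n2017 := d8_1 D2947 (iv D2017) (iv F6249)
theorem F9089 : act 7 n2947 = n2014 := d21_2 D2011 D2947 (iv D2014) (iv D1362) D1360
def n2948 : Q := act 6 n2011
theorem D2948 : act 6 n2011 = n2948 := rfl
theorem F9090 : act 1 n2948 = n2018 := d11_1 D2948 (iv D2018) (iv F6249)
def n2949 : Q := act 7 n2012
theorem D2949 : act 7 n2012 = n2949 := rfl
theorem F9091 : act 0 n2949 = n2590 := d6_1 D2949 F8838 F8753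
theorem F9092 : act 1 n2949 = n2219 := d12_1 D2949 (iv D2219) (iv F6250)
theorem F9093 : act 2 n2949 = n2830 := d17_1 D2949 (iv F8838) F7979
theorem F9094 : act 4 n2949 = n2949 := d24_1 D2949 (iv D2949) F6251
theorem F9095 : act 6 n2504 = n2949 := d16_0 F9093 (iv D2830) (iv F7734)
def n2950 : Q := act 3 n2013
theorem D2950 : act 3 n2013 = n2950 := rfl
theorem F9096 : act 1 n2950 = n2220 := d8_1 D2950 (iv D2220) (iv F6252)
theorem F9097 : act 5 n2950 = n2014 := d19_2 (iv F6254) D2950 (iv D2014)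
def n2951 : Q := act 6 n2013
theorem D2951 : act 6 n2013 = n2951 := rfl
theorem F9098 : act 0 n2951 = n2591 := d5_1 D2951 (iv F8837) F8756
theorem F9099 : act 1 n2951 = n2221 := d11_1 D2951 (iv D2221) (iv F6252)
theorem F9100 : act 2 n2951 = n2831 := d16_1 D2951 F8837 F7982
theorem F9101 : act 4 n2951 = n2951 := d23_1 D2951 (iv D2951) F6253
theorem F9102 : act 7 n2951 = n2504 := d27_2 D2013 D2951 F9095 (iv D2949) (iv D2012)
theorem F9103 : act 5 n2505 = n2951 := d26_3 F9102 (iv D2504) D2505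
def n2952 : Q := act 2 n2014
theorem D2952 : act 2 n2014 = n2952 := rfl
def n2953 : Q := act 4 n2014
theorem D2953 : act 4 n2014 = n2953 := rfl
theorem F9104 : act 1 n2953 = n2020 := d9_1 D2953 (iv D2020) (iv F6255)
theorem F9105 : act 3 n2953 = n2953 := d18_1 D2953 (iv D2953) (iv D2014) F4326 D2014
def n2954 : Q := act 6 n2014
theorem D2954 : act 6 n2014 = n2954 := rfl
theorem F9106 : act 1 n2954 = n2021 := d11_1 D2954 (iv D2021) (iv F6255)
theorem F9107 : act 3 n2954 = n2015 := d20_1 D2954 (iv D2015) D2014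
def n2955 : Q := act 5 n2015
theorem D2955 : act 5 n2015 = n2955 := rfl
theorem F9108 : act 0 n2955 = n2593 := d4_1 D2955 F8836 F8762
theorem F9109 : act 2 n2955 = n2833 := d15_1 D2955 (iv F8836) F7987
theorem F9110 : act 4 n2955 = n2955 := d22_1 D2955 (iv D2955) F6257
theorem F9111 : act 6 n2955 = n2505 := d25_2 D2015 D2955 F9103 (iv D2951) F6254
theorem F9112 : act 1 n2509 = n2955 := d11_3 F9111 F7737 D2509
def n2956 : Q := act 3 n2016
theorem D2956 : act 3 n2016 = n2956 := rfl
theorem F9113 : act 0 n2956 = n2030 := d2_1 D2956 (iv D2030) (iv F6258)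
theorem F9114 : act 5 n2956 = n2226 := d19_2 (iv F6261) D2956 (iv D2226)
theorem F9115 : act 7 n2956 = n2956 := d21_2 D2016 D2956 (iv D2956) (iv D2016) F4329
theorem F9116 : act 2 n2863 = n2956 := d1_0 F9113 (iv F6301) (iv F8856)
theorem F9117 : act 4 n2856 = n2956 := d3_0 F9113 (iv F6302) D2856
def n2957 : Q := act 6 n2016
theorem D2957 : act 6 n2016 = n2957 := rfl
theorem F9118 : act 0 n2957 = n2031 := d5_1 D2957 (iv D2031) (iv F6258)
theorem F9119 : act 2 n2957 = n2155 := d16_1 D2957 (iv D2155) (iv F6259)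
theorem F9120 : act 4 n2957 = n2018 := d23_1 D2957 (iv D2018) (iv F6260)
def n2958 : Q := act 2 n2017
theorem D2958 : act 2 n2017 = n2958 := rfl
theorem F9121 : act 0 n2958 = n2032 := d1_1 D2958 (iv D2032) (iv F6262)
theorem F9122 : act 3 n2958 = n2156 := d13_2 D2017 D2958 (iv D2156) (iv D1456) (iv F4332)
theorem F9123 : act 5 n2958 = n2228 := d15_2 (iv F6263) D2958 (iv D2228)
theorem F9124 : act 7 n2958 = n2019 := d17_2 (iv F6264) D2958 (iv D2019)
def n2959 : Q := act 4 n2017
theorem D2959 : act 4 n2017 = n2959 := rfl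
theorem F9125 : act 0 n2959 = n2033 := d3_1 D2959 (iv D2033) (iv F6262)
theorem F9126 : act 3 n2959 = n2856 := d18_1 D2959 F9117 (iv D2956) F6260 D2017
theorem F9127 : act 5 n2959 = n2229 := d22_2 (iv F6263) D2959 (iv D2229)
theorem F9128 : act 7 n2959 = n2020 := d24_2 (iv F6264) D2959 (iv D2020)
def n2960 : Q := act 6 n2017
theorem D2960 : act 6 n2017 = n2960 := rfl
theorem F9129 : act 0 n2960 = n2034 := d5_1 D2960 (iv D2034) (iv F6262)
theorem F9130 : act 3 n2960 = n2018 := d20_1 D2960 (iv D2018) D2017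
def n2961 : Q := act 5 n2018
theorem D2961 : act 5 n2018 = n2961 := rfl
theorem F9131 : act 0 n2961 = n2035 := d4_1 D2961 (iv D2035) (iv F6265)
theorem F9132 : act 2 n2961 = n2159 := d15_1 D2961 (iv D2159) (iv F6266)
theorem F9133 : act 6 n2961 = n2231 := d25_2 D2018 D2961 (iv D2231) (iv D1517) (iv F4333)
def n2962 : Q := act 1 n2019
theorem D2962 : act 1 n2019 = n2962 := rfl
theorem F9134 : act 3 n2962 = n2023 := d8_2 (iv F6268) D2962 (iv D2023)
def n2963 : Q := act 4 n2019
theorem D2963 : act 4 n2019 = n2963 := rfl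
theorem F9135 : act 0 n2963 = n2037 := d3_1 D2963 (iv D2037) (iv F6267)
theorem F9136 : act 2 n2963 = n2020 := d14_1 D2963 (iv D2020) D2019
theorem F9137 : act 5 n2963 = n2233 := d22_2 (iv F6269) D2963 (iv D2233)
def n2964 : Q := act 6 n2019
theorem D2964 : act 6 n2019 = n2964 := rfl
theorem F9138 : act 0 n2964 = n2038 := d5_1 D2964 (iv D2038) (iv F6267)
theorem F9139 : act 2 n2964 = n2021 := d16_1 D2964 (iv D2021) D2019
theorem F9140 : act 3 n2964 = n2025 := d20_1 D2964 (iv D2025) (iv F6268)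
def n2965 : Q := act 6 n2020
theorem D2965 : act 6 n2020 = n2965 := rfl
theorem F9141 : act 0 n2965 = n2039 := d5_1 D2965 (iv D2039) (iv F6270)
theorem F9142 : act 3 n2965 = n2965 := d20_1 D2965 (iv D2965) F6271
theorem F9143 : act 4 n2965 = n2021 := d23_1 D2965 (iv D2021) D2020
theorem F9144 : act 5 n2965 = n2428 := d25_1 D2965 (iv D2428) F6920 (iv D2235) (iv F6272)
def n2966 : Q := act 5 n2021
theorem D2966 : act 5 n2021 = n2966 := rfl
theorem F9145 : act 0 n2966 = n2040 := d4_1 D2966 (iv D2040) (iv F6273)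
theorem F9146 : act 3 n2966 = n2022 := d19_1 D2966 (iv D2022) (iv F6274)
theorem F9147 : act 4 n2966 = n2428 := d22_1 D2966 (iv F9144) F9143
theorem F9148 : act 6 n2966 = n2190 := d25_2 D2021 D2966 F6778 (iv D1520) (iv F4335)
theorem F9149 : act 7 n2056 = n2966 := d27_0 F9148 (iv D2190) (iv D1482) (iv F4384) D2056
def n2967 : Q := act 7 n2021
theorem D2967 : act 7 n2021 = n2967 := rfl
theorem F9150 : act 0 n2967 = n2041 := d6_1 D2967 (iv D2041) (iv F6273)
theorem F9151 : act 5 n2967 = n2056 := d26_1 D2967 F9149 (iv D2966)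
def n2968 : Q := act 1 n2022
theorem D2968 : act 1 n2022 = n2968 := rfl
theorem F9152 : act 0 n2968 = n2520 := d0_1 D2968 F8667 F8131 (iv D2042) (iv F6275)
theorem F9153 : act 4 n2968 = n2968 := d9_2 F6277 D2968 (iv D2968)
theorem F9154 : act 5 n2968 = n2509 := d10_2 D2022 D2968 F9112 (iv D2955) F6256
theorem F9155 : act 6 n2968 = n2236 := d11_2 (iv F6278) D2968 (iv D2236)
theorem F9156 : act 2 n2513 = n2968 := d15_3 F9154 F7748 D2513
def n2969 : Q := act 0 n2023
theorem D2969 : act 0 n2023 = n2969 := rfl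
theorem F9157 : act 1 n2969 = n2043 := d0_2 D2023 D2969 (iv D2043) (iv D1378) (iv F4339)

end Cfsg.Agent.Helper17.U6PTC
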