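import Cfsg.Agent.Helper17.U6PTC.Facts1

set_option autoImplicit false
set_option linter.all false

noncomputable section

namespace Cfsg.Agent.Helper17.U6PTC

theorem F9158 : act 7 n2969 = n2163 := d6_2 (iv F6279) D2969 (iv D2163)
def n2970 : Q := act 4 n2023
theorem D2970 : act 4 n2023 = n2970 := rfl
theorem F9159 : act 1 n2970 = n2024 := d9_1 D2970 (iv D2024) D2023
theorem F9160 : act 7 n2970 = n2164 := d24_2 (iv F6279) D2970 (iv D2164)
def n2971 : Q := act 5 n2023
theorem D2971 : act 5 n2023 = n2971 := rfl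
theorem F9161 : act 1 n2971 = n2239 := d10_1 D2971 (iv D2239) (iv D1522) (iv F4340) D2023
theorem F9162 : act 7 n2971 = n2165 := d26_2 (iv F6279) D2971 (iv D2165)
def n2972 : Q := act 6 n2023
theorem D2972 : act 6 n2023 = n2972 := rfl
theorem F9163 : act 1 n2972 = n2025 := d11_1 D2972 (iv D2025) D2023
def n2973 : Q := act 3 n2024
theorem D2973 : act 3 n2024 = n2973 := rfl
theorem F9164 : act 0 n2973 = n2047 := d2_1 D2973 (iv D2047) (iv F6280)
theorem F9165 : act 2 n2973 = n2973 := d13_1 D2973 (iv D2973) F6281 F4343 (iv F6281)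
theorem F9166 : act 5 n2973 = n2241 := d19_2 (iv F6282) D2973 (iv D2241)
theorem F9167 : act 7 n2973 = n2328 := d21_2 (iv F6283) D2973 (iv D2328) (iv D1587) F4610
def n2974 : Q := act 6 n2024
theorem D2974 : act 6 n2024 = n2974 := rfl
theorem F9168 : act 0 n2974 = n2048 := d5_1 D2974 (iv D2048) (iv F6280)
theorem F9169 : act 2 n2974 = n2026 := d16_1 D2974 (iv D2026) (iv F6281)
theorem F9170 : act 4 n2974 = n2025 := d23_1 D2974 (iv D2025) D2024
theorem F9171 : act 7 n2974 = n2313 := d27_2 (iv F6283) D2974 (iv D2313) F4952 F4611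
def n2975 : Q := act 5 n2025
theorem D2975 : act 5 n2025 = n2975 := rfl
theorem F9172 : act 0 n2975 = n2049 := d4_1 D2975 (iv D2049) (iv F6284)
theorem F9173 : act 2 n2975 = n2027 := d15_1 D2975 (iv D2027) (iv F6285)
theorem F9174 : act 6 n2975 = n2242 := d25_2 D2025 D2975 (iv D2242) (iv D1524) (iv F4340)
def n2976 : Q := act 7 n2025
theorem D2976 : act 7 n2025 = n2976 := rfl
theorem F9175 : act 0 n2976 = n2050 := d6_1 D2976 (iv D2050) (iv F6284)
theorem F9176 : act 2 n2976 = n2028 := d17_1 D2976 (iv D2028) (iv F6285)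
theorem F9177 : act 4 n2976 = n2313 := d24_1 D2976 (iv F9171) F9170
theorem F9178 : act 6 n2976 = n2167 := d27_1 D2976 (iv D2167) (iv D1463) (iv F4341) D2025
def n2977 : Q := act 1 n2027
theorem D2977 : act 1 n2027 = n2977 := rfl
theorem F9179 : act 3 n2977 = n2029 := d8_2 (iv F6291) D2977 (iv D2029)
theorem F9180 : act 6 n2977 = n2243 := d11_2 (iv F6292) D2977 (iv D2243)
def n2978 : Q := act 7 n2027
theorem D2978 : act 7 n2027 = n2978 := rfl
theorem F9181 : act 0 n2978 = n2051 := d6_1 D2978 (iv D2051) (iv F6290)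
theorem F9182 : act 4 n2978 = n2314 := d24_1 D2978 F7169 F7022
theorem F9183 : act 5 n2978 = n2028 := d26_1 D2978 (iv D2028) D2027
def n2979 : Q := act 0 n2029
theorem D2979 : act 0 n2029 = n2979 := rfl
theorem F9184 : act 1 n2979 = n2052 := d0_2 D2029 D2979 (iv D2052) (iv D1384) (iv F4348)
theorem F9185 : act 4 n2979 = n2979 := d3_2 F6296 D2979 (iv D2979)
theorem F9186 : act 6 n2979 = n2244 := d5_2 (iv F6297) D2979 (iv D2244)
theorem F9187 : act 7 n2979 = n2847 := d6_2 F8963 D2979 (iv F8960)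
def n2980 : Q := act 2 n2029
theorem D2980 : act 2 n2029 = n2980 := rfl
theorem F9188 : act 1 n2980 = n2513 := d7_1 D2980 F9156 (iv D2968) F6276 D2029
theorem F9189 : act 4 n2980 = n2980 := d14_2 F6296 D2980 (iv D2980)
theorem F9190 : act 5 n2980 = n2847 := d15_2 F8031 D2980 (iv F8835)
theorem F9191 : act 6 n2980 = n2245 := d16_2 (iv F6297) D2980 (iv D2245)
def n2981 : Q := act 6 n2030
theorem D2981 : act 6 n2030 = n2981 := rfl
theorem F9192 : act 1 n2981 = n2858 := d11_1 D2981 (iv D2858) (iv F6298)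
theorem F9193 : act 2 n2981 = n2866 := d16_1 D2981 (iv D2866) F6301
theorem F9194 : act 3 n2981 = n2031 := d20_1 D2981 (iv D2031) D2030
theorem F9195 : act 4 n2981 = n2857 := d23_1 D2981 (iv D2857) F6302
def n2982 : Q := act 5 n2031
theorem D2982 : act 5 n2031 = n2982 := rfl
theorem F9196 : act 2 n2982 = n2170 := d15_1 D2982 (iv D2170) (iv F6303)
theorem F9197 : act 4 n2982 = n2035 := d22_1 D2982 (iv D2035) (iv F6304)
theorem F9198 : act 6 n2982 = n2249 := d25_2 D2031 D2982 (iv D2249) (iv D1528) (iv F4353)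
def n2983 : Q := act 6 n2032
theorem D2983 : act 6 n2032 = n2983 := rfl
theorem F9199 : act 2 n2983 = n2034 := d16_1 D2983 (iv D2034) D2032
theorem F9200 : act 3 n2983 = n2173 := d20_1 D2983 (iv D2173) (iv F6305)
def n2984 : Q := act 6 n2033
theorem D2984 : act 6 n2033 = n2984 := rfl
theorem F9201 : act 1 n2984 = n2851 := d11_1 D2984 (iv D2851) (iv F6308)
theorem F9202 : act 3 n2984 = n2857 := d20_1 D2984 (iv D2857) (iv F6309)
theorem F9203 : act 4 n2984 = n2034 := d23_1 D2984 (iv D2034) D2033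
def n2985 : Q := act 5 n2034
theorem D2985 : act 5 n2034 = n2985 := rfl
theorem F9204 : act 3 n2985 = n2035 := d19_1 D2985 (iv D2035) (iv F6312)
theorem F9205 : act 6 n2985 = n2193 := d25_2 D2034 D2985 F6790 (iv D1531) (iv F4354)
theorem F9206 : act 1 n2079 = n2985 := d11_3 F9205 F6789 (iv F6430)
theorem F9207 : act 7 n2060 = n2985 := d27_0 F9205 (iv D2193) (iv D1484) (iv F4388) D2060
def n2986 : Q := act 7 n2034
theorem D2986 : act 7 n2034 = n2986 := rfl
theorem F9208 : act 5 n2986 = n2060 := d26_1 D2986 F9207 (iv D2985)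
theorem F9209 : act 6 n2986 = n2041 := d27_1 D2986 (iv D2041) (iv D1376) (iv F4355) D2034
def n2987 : Q := act 1 n2035
theorem D2987 : act 1 n2035 = n2987 := rfl
theorem F9210 : act 3 n2987 = n2079 := d8_2 F9204 D2987 F9206
theorem F9211 : act 6 n2987 = n2205 := d11_2 (iv F6314) D2987 F6828
def n2988 : Q := act 0 n2036
theorem D2988 : act 0 n2036 = n2988 := rfl
theorem F9212 : act 2 n2988 = n2959 := d1_2 (iv F6315) D2988 F9125
theorem F9213 : act 3 n2988 = n2043 := d2_2 (iv F6316) D2988 (iv D2043)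
theorem F9214 : act 4 n2988 = n2958 := d3_2 F6317 D2988 F9121
theorem F9215 : act 7 n2988 = n2963 := d6_2 F6321 D2988 F9135
def n2989 : Q := act 6 n2036
theorem D2989 : act 6 n2036 = n2989 := rfl
theorem F9216 : act 1 n2989 = n2038 := d11_1 D2989 (iv D2038) D2036
theorem F9217 : act 2 n2989 = n2984 := d16_1 D2989 (iv D2984) (iv F6315)
theorem F9218 : act 3 n2989 = n2046 := d20_1 D2989 (iv D2046) (iv F6316)
theorem F9219 : act 4 n2989 = n2983 := d23_1 D2989 (iv D2983) F6317
def n2990 : Q := act 6 n2037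
theorem D2990 : act 6 n2037 = n2990 := rfl
theorem F9220 : act 1 n2990 = n2983 := d11_1 D2990 (iv D2983) (iv F6318)
theorem F9221 : act 2 n2990 = n2039 := d16_1 D2990 (iv D2039) (iv F6319)
theorem F9222 : act 4 n2990 = n2038 := d23_1 D2990 (iv D2038) D2037
theorem F9223 : act 5 n2990 = n2337 := d25_1 D2990 (iv D2337) (iv F6997) (iv D2258) (iv F6320)
def n2991 : Q := act 5 n2038
theorem D2991 : act 5 n2038 = n2991 := rfl
theorem F9224 : act 2 n2991 = n2040 := d15_1 D2991 (iv D2040) (iv F6322)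
theorem F9225 : act 3 n2991 = n2049 := d19_1 D2991 (iv D2049) (iv F6323)
theorem F9226 : act 4 n2991 = n2337 := d22_1 D2991 (iv F9223) F9222
theorem F9227 : act 6 n2991 = n2184 := d25_2 D2038 D2991 F6758 (iv D1535) (iv F4358)
theorem F9228 : act 1 n2991 = n2050 := d29_6 (iv F4825) F4824 (iv D1533) (iv F4358) D2038 D2991 F6354 (iv F6205) (iv D1994) F4292 (iv F4282) (iv F4415) (iv F6364) F6365 F4849 F3355 (iv D1045) F2336 F2335 F1656 (iv F2197) F2196 (iv F2184) F2186 F1728 D771 (iv F3459) F3460 (iv F3331)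
theorem F9229 : act 7 n2046 = n2991 := d12_0 F9228 (iv D2050) (iv F6344)
def n2992 : Q := act 7 n2038
theorem D2992 : act 7 n2038 = n2992 := rfl
theorem F9230 : act 2 n2992 = n2041 := d17_1 D2992 (iv D2041) (iv F6322)
theorem F9231 : act 5 n2992 = n2046 := d26_1 D2992 F9229 (iv D2991)
def n2993 : Q := act 7 n2039
theorem D2993 : act 7 n2039 = n2993 := rfl
theorem F9232 : act 4 n2993 = n2041 := d24_1 D2993 (iv D2041) (iv F6325)
theorem F9233 : act 5 n2993 = n2059 := d26_1 D2993 F6379 (iv F6326)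
def n2994 : Q := act 4 n2043
theorem D2994 : act 4 n2043 = n2994 := rfl
theorem F9234 : act 0 n2994 = n2044 := d3_1 D2994 (iv D2044) D2043
theorem F9235 : act 2 n2994 = n2054 := d14_1 D2994 (iv D2054) (iv F6336)
theorem F9236 : act 7 n2994 = n2178 := d24_2 (iv F6337) D2994 (iv D2178)
def n2995 : Q := act 5 n2043
theorem D2995 : act 5 n2043 = n2995 := rfl
theorem F9237 : act 0 n2995 = n2045 := d4_1 D2995 (iv D2045) D2043
theorem F9238 : act 2 n2995 = n2055 := d15_1 D2995 (iv D2055) (iv F6336)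
theorem F9239 : act 7 n2995 = n2179 := d26_2 (iv F6337) D2995 (iv D2179)
def n2996 : Q := act 6 n2043
theorem D2996 : act 6 n2043 = n2996 := rfl
theorem F9240 : act 0 n2996 = n2046 := d5_1 D2996 (iv D2046) D2043
theorem F9241 : act 2 n2996 = n2056 := d16_1 D2996 (iv D2056) (iv F6336)
def n2997 : Q := act 6 n2044
theorem D2997 : act 6 n2044 = n2997 := rfl
theorem F9242 : act 1 n2997 = n2048 := d11_1 D2997 (iv D2048) (iv F6338)
theorem F9243 : act 2 n2997 = n2059 := d16_1 D2997 (iv D2059) (iv F6339)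
theorem F9244 : act 4 n2997 = n2046 := d23_1 D2997 (iv D2046) D2044
theorem F9245 : act 7 n2997 = n2337 := d27_2 (iv F6340) D2997 (iv D2337) F4985 F4648
def n2998 : Q := act 6 n2045
theorem D2998 : act 6 n2045 = n2998 := rfl
theorem F9246 : act 1 n2998 = n2260 := d11_1 D2998 (iv D2260) (iv F6341)
theorem F9247 : act 2 n2998 = n2060 := d16_1 D2998 (iv D2060) (iv F6342)
def n2999 : Q := act 6 n2047
theorem D2999 : act 6 n2047 = n2999 := rfl
theorem F9248 : act 2 n2999 = n2999 := d16_1 D2999 (iv D2999) F6346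
theorem F9249 : act 3 n2999 = n2048 := d20_1 D2999 (iv D2048) D2047
def n3000 : Q := act 1 n2049
theorem D3000 : act 1 n2049 = n3000 := rfl
theorem F9250 : act 3 n3000 = n2050 := d8_2 F9225 D3000 (iv F9228)
theorem F9251 : act 4 n3000 = n2998 := d9_2 F7004 D3000 F9246
theorem F9252 : act 6 n3000 = n2185 := d11_2 (iv F6353) D3000 F6760
def n3001 : Q := act 7 n2049
theorem D3001 : act 7 n2049 = n3001 := rfl
theorem F9253 : act 2 n3001 = n2051 := d17_1 D3001 (iv D2051) (iv F6352)
theorem F9254 : act 4 n3001 = n2338 := d24_1 D3001 F7227 F7004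
theorem F9255 : act 5 n3001 = n2050 := d26_1 D3001 (iv D2050) D2049
def n3002 : Q := act 2 n2052
theorem D3002 : act 2 n2052 = n3002 := rfl
theorem F9256 : act 0 n3002 = n2053 := d1_1 D3002 (iv D2053) D2052
theorem F9257 : act 4 n3002 = n3002 := d14_2 F6359 D3002 (iv D3002)
theorem F9258 : act 5 n3002 = n2068 := d15_2 (iv F6360) D3002 (iv D2068)
theorem F9259 : act 6 n3002 = n2262 := d16_2 (iv F6361) D3002 (iv D2262)
theorem F9260 : act 7 n3002 = n2840 := d17_2 (iv F6362) D3002 F8786
def n3003 : Q := act 3 n2054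
theorem D3003 : act 3 n2054 = n3003 := rfl
theorem F9261 : act 0 n3003 = n2057 := d2_1 D3003 (iv D2057) (iv F6367)
theorem F9262 : act 7 n3003 = n2442 := d21_2 (iv F6368) D3003 (iv D2442) (iv D1670) F4657
def n3004 : Q := act 5 n2054
theorem D3004 : act 5 n2054 = n3004 := rfl
theorem F9263 : act 0 n3004 = n2058 := d4_1 D3004 (iv D2058) (iv F6367)
theorem F9264 : act 4 n3004 = n2055 := d22_1 D3004 (iv D2055) D2054
theorem F9265 : act 7 n3004 = n2186 := d26_2 (iv F6368) D3004 (iv D2186)
def n3005 : Q := act 6 n2054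
theorem D3005 : act 6 n2054 = n3005 := rfl
theorem F9266 : act 0 n3005 = n2059 := d5_1 D3005 (iv D2059) (iv F6367)
theorem F9267 : act 4 n3005 = n2056 := d23_1 D3005 (iv D2056) D2054
theorem F9268 : act 7 n3005 = n2428 := d27_2 (iv F6368) D3005 (iv D2428) F5163 F4658
def n3006 : Q := act 1 n2055
theorem D3006 : act 1 n2055 = n3006 := rfl
theorem F9269 : act 0 n3006 = n2072 := d0_1 D3006 (iv D2072) F4422 (iv F4387) (iv F6369)
theorem F9270 : act 7 n3006 = n2187 := d12_2 (iv F6370) D3006 (iv D2187)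
def n3007 : Q := act 6 n2055
theorem D3007 : act 6 n2055 = n3007 := rfl
theorem F9271 : act 0 n3007 = n2060 := d5_1 D3007 (iv D2060) (iv F6369)
def n3008 : Q := act 6 n2057
theorem D3008 : act 6 n2057 = n3008 := rfl
theorem F9272 : act 1 n3008 = n2061 := d11_1 D3008 (iv D2061) (iv F6372)
theorem F9273 : act 3 n3008 = n2059 := d20_1 D3008 (iv D2059) D2057
theorem F9274 : act 7 n3008 = n3008 := d27_2 (iv F6373) D3008 (iv D3008) F6373 F5210
def n3009 : Q := act 6 n2058
theorem D3009 : act 6 n2058 = n3009 := rfl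
theorem F9275 : act 1 n3009 = n2077 := d11_1 D3009 (iv D2077) (iv F6374)
theorem F9276 : act 2 n3009 = n3000 := d16_1 D3009 F9252 F6761
theorem F9277 : act 3 n3009 = n2917 := d20_1 D3009 F9003 F6573
theorem F9278 : act 4 n3009 = n2060 := d23_1 D3009 (iv D2060) (iv F6375)
def n3010 : Q := act 5 n2061
theorem D3010 : act 5 n2061 = n3010 := rfl
theorem F9279 : act 2 n3010 = n3010 := d15_1 D3010 (iv D3010) F6381
theorem F9280 : act 3 n3010 = n2062 := d19_1 D3010 (iv D2062) (iv F6382)
theorem F9281 : act 4 n3010 = n2929 := d22_1 D3010 F9037 F8875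
theorem F9282 : act 6 n3010 = n2081 := d25_2 D2061 D3010 (iv D2081) (iv D1405) (iv F4391)
theorem F9283 : act 7 n3010 = n3010 := d26_2 F6383 D3010 (iv D3010)
def n3011 : Q := act 1 n2062
theorem D3011 : act 1 n2062 = n3011 := rfl
theorem F9284 : act 4 n3011 = n2063 := d9_2 (iv F6385) D3011 (iv D2063)
theorem F9285 : act 6 n3011 = n2084 := d11_2 (iv F6386) D3011 (iv D2084)
theorem F9286 : act 7 n3011 = n2429 := d12_2 (iv F6387) D3011 (iv D2429)
def n3012 : Q := act 0 n2063
theorem D3012 : act 0 n2063 = n3012 := rfl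
theorem F9287 : act 3 n3012 = n2922 := d2_2 (iv F6388) D3012 F9017
theorem F9288 : act 6 n3012 = n2085 := d5_2 (iv F6389) D3012 (iv D2085)
def n3013 : Q := act 2 n2063
theorem D3013 : act 2 n2063 = n3013 := rfl
theorem F9289 : act 1 n3013 = n2066 := d7_1 D3013 (iv D2066) (iv D1394) (iv F4396) D2063
theorem F9290 : act 6 n3013 = n2086 := d16_2 (iv F6389) D3013 (iv D2086)
def n3014 : Q := act 2 n2065
theorem D3014 : act 2 n2065 = n3014 := rfl
theorem F9291 : act 0 n3014 = n2066 := d1_1 D3014 (iv D2066) D2065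
theorem F9292 : act 6 n3014 = n2087 := d16_2 (iv F6395) D3014 (iv D2087)
def n3015 : Q := act 7 n2065
theorem D3015 : act 7 n2065 = n3015 := rfl
theorem F9293 : act 0 n3015 = n2067 := d6_1 D3015 (iv D2067) D2065
theorem F9294 : act 3 n3015 = n2846 := d21_1 D3015 (iv D2846) F6067 (iv F4414) (iv F6394)
theorem F9295 : act 4 n3015 = n2430 := d24_1 D3015 F7483 F7053
theorem F9296 : act 6 n3015 = n3015 := d27_1 D3015 (iv D3015) F6395 F4450 (iv F6395)
def n3016 : Q := act 3 n2066
theorem D3016 : act 3 n2066 = n3016 := rfl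
theorem F9297 : act 2 n3016 = n2069 := d13_1 D3016 (iv D2069) (iv D1397) (iv F4406) D2066
theorem F9298 : act 6 n3016 = n2088 := d20_2 (iv F6396) D3016 (iv D2088)
def n3017 : Q := act 7 n2066
theorem D3017 : act 7 n2066 = n3017 := rfl
theorem F9299 : act 2 n3017 = n2067 := d17_1 D3017 (iv D2067) D2066
theorem F9300 : act 4 n3017 = n2431 := d24_1 D3017 F7486 F6427
theorem F9301 : act 6 n3017 = n3017 := d27_1 D3017 (iv D3017) F6396 F4453 (iv F6396)
def n3018 : Q := act 1 n2068
theorem D3018 : act 1 n2068 = n3018 := rfl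
theorem F9302 : act 0 n3018 = n2886 := d0_1 D3018 F8916 F6158 (iv F4415) (iv F6401)
theorem F9303 : act 4 n3018 = n3018 := d9_2 F6402 D3018 (iv D3018)
theorem F9304 : act 6 n3018 = n2089 := d11_2 (iv F6403) D3018 (iv D2089)
theorem F9305 : act 7 n3018 = n2833 := d12_2 (iv F6404) D3018 F8763
def n3019 : Q := act 3 n2068
theorem D3019 : act 3 n2068 = n3019 := rfl
theorem F9306 : act 0 n3019 = n2069 := d2_1 D3019 (iv D2069) (iv F6401)
theorem F9307 : act 6 n3019 = n2090 := d20_2 (iv F6403) D3019 (iv D2090)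
def n3020 : Q := act 4 n2069
theorem D3020 : act 4 n2069 = n3020 := rfl
theorem F9308 : act 1 n3020 = n2909 := d9_1 D3020 F8982 (iv F6405)
theorem F9309 : act 3 n3020 = n3020 := d18_1 D3020 (iv D3020) (iv D2069) F4416 D2069
theorem F9310 : act 5 n3020 = n2423 := d22_2 F9033 D3020 (iv F9032)
theorem F9311 : act 6 n3020 = n2091 := d23_2 (iv F6406) D3020 (iv D2091)
def n3021 : Q := act 5 n2070
theorem D3021 : act 5 n2070 = n3021 := rfl
theorem F9312 : act 0 n3021 = n2075 := d4_1 D3021 (iv D2075) (iv F6407)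
theorem F9313 : act 3 n3021 = n2071 := d19_1 D3021 (iv D2071) D2070
def n3022 : Q := act 7 n2070
theorem D3022 : act 7 n2070 = n3022 := rfl
theorem F9314 : act 0 n3022 = n2076 := d6_1 D3022 (iv D2076) (iv F6407)
theorem F9315 : act 3 n3022 = n2195 := d21_1 D3022 (iv D2195) (iv D1488) (iv F4421) D2070
def n3023 : Q := act 1 n2071
theorem D3023 : act 1 n2071 = n3023 := rfl
theorem F9316 : act 4 n3023 = n2072 := d9_2 (iv F6410) D3023 (iv D2072)
theorem F9317 : act 7 n3023 = n2196 := d12_2 (iv F6411) D3023 (iv D2196)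
def n3024 : Q := act 6 n2071
theorem D3024 : act 6 n2071 = n3024 := rfl
theorem F9318 : act 0 n3024 = n2077 := d5_1 D3024 (iv D2077) (iv F6408)
theorem F9319 : act 2 n3024 = n2269 := d16_1 D3024 (iv D2269) (iv F6409)
theorem F9320 : act 4 n3024 = n2073 := d23_1 D3024 (iv D2073) (iv F6410)
theorem F9321 : act 5 n3024 = n3014 := d25_1 D3024 F9292 F6454 F4890 D2071
def n3025 : Q := act 2 n2072
theorem D3025 : act 2 n2072 = n3025 := rfl
theorem F9322 : act 1 n3025 = n2270 := d7_1 D3025 (iv D2270) (iv D1548) (iv F4423) D2072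
theorem F9323 : act 7 n3025 = n2198 := d17_2 (iv F6412) D3025 (iv D2198)
def n3026 : Q := act 6 n2072
theorem D3026 : act 6 n2072 = n3026 := rfl
theorem F9324 : act 1 n3026 = n2073 := d11_1 D3026 (iv D2073) D2072
def n3027 : Q := act 5 n2073
theorem D3027 : act 5 n2073 = n3027 := rfl
theorem F9325 : act 0 n3027 = n2078 := d4_1 D3027 (iv D2078) (iv F6413)
theorem F9326 : act 2 n3027 = n2272 := d15_1 D3027 (iv D2272) (iv F6414)
theorem F9327 : act 3 n3027 = n2934 := d19_1 D3027 F9056 F8892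
theorem F9328 : act 4 n3027 = n3014 := d22_1 D3027 (iv F9321) F9320
theorem F9329 : act 6 n3027 = n2074 := d25_2 D2073 D3027 (iv D2074) (iv D1400) D1399
def n3028 : Q := act 7 n2073
theorem D3028 : act 7 n2073 = n3028 := rfl
theorem F9330 : act 0 n3028 = n2079 := d6_1 D3028 (iv D2079) (iv F6413)
theorem F9331 : act 2 n3028 = n2273 := d17_1 D3028 (iv D2273) (iv F6414)
theorem F9332 : act 6 n3028 = n2200 := d27_1 D3028 (iv D2200) (iv D1491) (iv F4424) D2073
def n3029 : Q := act 1 n2074
theorem D3029 : act 1 n2074 = n3029 := rfl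
theorem F9333 : act 3 n3029 = n2933 := d8_2 (iv F6417) D3029 (iv D2933)
theorem F9334 : act 7 n3029 = n3029 := d12_2 F6418 D3029 (iv D3029)
def n3030 : Q := act 6 n2075
theorem D3030 : act 6 n2075 = n3030 := rfl
theorem F9335 : act 1 n3030 = n2917 := d11_1 D3030 F9003 F6571
theorem F9336 : act 2 n3030 = n2928 := d16_1 D3030 F9034 F6600
theorem F9337 : act 3 n3030 = n2077 := d20_1 D3030 (iv D2077) (iv F6419)
theorem F9338 : act 5 n3030 = n3016 := d25_1 D3030 F9298 F6457 F4894 D2075
theorem F9339 : act 7 n3030 = n2913 := d27_2 F6570 D3030 (iv D2913) F6192 D2122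
def n3031 : Q := act 6 n2076
theorem D3031 : act 6 n2076 = n3031 := rfl
theorem F9340 : act 1 n3031 = n2083 := d11_1 D3031 (iv D2083) (iv F6420)
theorem F9341 : act 3 n3031 = n2203 := d20_1 D3031 (iv D2203) (iv F6421)
def n3032 : Q := act 7 n2077
theorem D3032 : act 7 n2077 = n3032 := rfl
theorem F9342 : act 2 n3032 = n2275 := d17_1 D3032 (iv D2275) (iv F6422)
theorem F9343 : act 4 n3032 = n2079 := d24_1 D3032 (iv D2079) (iv F6423)
theorem F9344 : act 5 n3032 = n3017 := d26_1 D3032 (iv D3017) (iv F6424)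
theorem F9345 : act 6 n3032 = n2204 := d27_1 D3032 (iv D2204) (iv D1494) (iv F4432) D2077
def n3033 : Q := act 1 n2078
theorem D3033 : act 1 n2078 = n3033 := rfl
theorem F9346 : act 2 n3033 = n3011 := d7_2 (iv F6425) D3033 (iv D3011) F6384 (iv F4883)
theorem F9347 : act 3 n3033 = n2926 := d8_2 (iv F6426) D3033 F9026
theorem F9348 : act 4 n3033 = n3013 := d9_2 (iv F6427) D3033 F9289
theorem F9349 : act 6 n3033 = n2080 := d11_2 (iv F6428) D3033 (iv D2080)
def n3034 : Q := act 0 n2080
theorem D3034 : act 0 n2080 = n3034 := rfl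
theorem F9350 : act 3 n3034 = n2921 := d2_2 (iv F6431) D3034 F9015
theorem F9351 : act 5 n3034 = n2085 := d4_2 (iv F6432) D3034 (iv D2085)
theorem F9352 : act 7 n3034 = n3034 := d6_2 F6433 D3034 (iv D3034)
def n3035 : Q := act 1 n2081
theorem D3035 : act 1 n2081 = n3035 := rfl
theorem F9353 : act 3 n3035 = n2084 := d8_2 (iv F6435) D3035 (iv D2084)
theorem F9354 : act 4 n3035 = n2923 := d9_2 (iv F6436) D3035 F9018
def n3036 : Q := act 6 n2082
theorem D3036 : act 6 n2082 = n3036 := rfl
theorem F9355 : act 2 n3036 = n3036 := d16_1 D3036 (iv D3036) F6437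
theorem F9356 : act 3 n3036 = n3036 := d20_1 D3036 (iv D3036) F6438
theorem F9357 : act 4 n3036 = n2939 := d23_1 D3036 (iv D2939) (iv F6439)
theorem F9358 : act 5 n3036 = n3036 := d25_1 D3036 (iv D3036) (iv F7681) F7682 F7681
theorem F9359 : act 7 n3036 = n2083 := d27_2 D2082 D3036 (iv D2083) (iv D1406) D1405
def n3037 : Q := act 0 n2084
theorem D3037 : act 0 n2084 = n3037 := rfl
theorem F9360 : act 2 n3037 = n3034 := d1_2 (iv F6443) D3037 (iv D3034)
theorem F9361 : act 4 n3037 = n2085 := d3_2 (iv F6444) D3037 (iv D2085)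
theorem F9362 : act 7 n3037 = n3037 := d6_2 F6445 D3037 (iv D3037)
def n3038 : Q := act 2 n2085
theorem D3038 : act 2 n2085 = n3038 := rfl
theorem F9363 : act 0 n3038 = n2086 := d1_1 D3038 (iv D2086) D2085
theorem F9364 : act 4 n3038 = n3034 := d14_2 F9361 D3038 (iv F9360)
theorem F9365 : act 5 n3038 = n3037 := d15_2 F9351 D3038 F9360
theorem F9366 : act 7 n3038 = n3038 := d17_2 F6447 D3038 (iv D3038)
def n3039 : Q := act 3 n2086
theorem D3039 : act 3 n2086 = n3039 := rfl
theorem F9367 : act 1 n3039 = n2088 := d8_1 D3039 (iv D2088) (iv F6448)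
theorem F9368 : act 2 n3039 = n2906 := d13_1 D3039 F8976 F6191 (iv F4446) D2086
theorem F9369 : act 5 n3039 = n3035 := d19_2 (iv F6450) D3039 F9353
def n3040 : Q := act 1 n2087
theorem D3040 : act 1 n2087 = n3040 := rfl
theorem F9370 : act 4 n3040 = n3029 := d9_2 (iv F6453) D3040 (iv D3029)
theorem F9371 : act 7 n3040 = n3040 := d12_2 F6455 D3040 (iv D3040)
def n3041 : Q := act 3 n2087
theorem D3041 : act 3 n2087 = n3041 := rfl
theorem F9372 : act 0 n3041 = n2088 := d2_1 D3041 (iv D2088) (iv F6452)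
theorem F9373 : act 2 n3041 = n2090 := d13_1 D3041 (iv D2090) (iv D1411) (iv F4448) D2087
theorem F9374 : act 5 n3041 = n2277 := d19_2 (iv F6454) D3041 (iv D2277)
def n3042 : Q := act 7 n2088
theorem D3042 : act 7 n2088 = n3042 := rfl
theorem F9375 : act 2 n3042 = n2092 := d17_1 D3042 (iv D2092) (iv F6456)
theorem F9376 : act 3 n3042 = n3042 := d21_1 D3042 (iv D3042) (iv D2088) F4453 D2088
theorem F9377 : act 5 n3042 = n2278 := d26_1 D3042 (iv D2278) (iv F6457)
def n3043 : Q := act 3 n2089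
theorem D3043 : act 3 n2089 = n3043 := rfl
theorem F9378 : act 0 n3043 = n2885 := d2_1 D3043 (iv D2885) (iv F6458)
theorem F9379 : act 1 n3043 = n2090 := d8_1 D3043 (iv D2090) D2089
def n3044 : Q := act 5 n2089
theorem D3044 : act 5 n2089 = n3044 := rfl
theorem F9380 : act 0 n3044 = n2884 := d4_1 D3044 F8914 (iv F6458)
theorem F9381 : act 1 n3044 = n2280 := d10_1 D3044 (iv D2280) (iv D1556) (iv F4456) D2089
theorem F9382 : act 4 n3044 = n3044 := d22_1 D3044 (iv D3044) F6459
theorem F9383 : act 7 n3044 = n2094 := d26_2 (iv F6460) D3044 (iv D2094)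
def n3045 : Q := act 4 n2090
theorem D3045 : act 4 n2090 = n3045 := rfl
theorem F9384 : act 0 n3045 = n2091 := d3_1 D3045 (iv D2091) (iv F6461)
theorem F9385 : act 3 n3045 = n3045 := d18_1 D3045 (iv D3045) (iv D2090) F4455 D2090
theorem F9386 : act 5 n3045 = n2281 := d22_2 (iv F6462) D3045 (iv D2281)
def n3046 : Q := act 7 n2090
theorem D3046 : act 7 n2090 = n3046 := rfl
theorem F9387 : act 0 n3046 = n2092 := d6_1 D3046 (iv D2092) (iv F6461)
theorem F9388 : act 3 n3046 = n2096 := d21_1 D3046 (iv D2096) (iv D1414) (iv F4457) D2090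
theorem F9389 : act 5 n3046 = n2282 := d26_1 D3046 (iv D2282) (iv F6462)
def n3047 : Q := act 7 n2091
theorem D3047 : act 7 n2091 = n3047 := rfl
theorem F9390 : act 1 n3047 = n2904 := d12_1 D3047 F8974 (iv F6463)
theorem F9391 : act 4 n3047 = n2092 := d24_1 D3047 (iv D2092) D2091
theorem F9392 : act 5 n3047 = n2283 := d26_1 D3047 (iv D2283) (iv F6465)
def n3048 : Q := act 6 n2092
theorem D3048 : act 6 n2092 = n3048 := rfl
theorem F9393 : act 1 n3048 = n2905 := d11_1 D3048 (iv D2905) (iv F6466)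
theorem F9394 : act 3 n3048 = n2098 := d20_1 D3048 (iv D2098) (iv F6467)
def n3049 : Q := act 2 n2093
theorem D3049 : act 2 n2093 = n3049 := rfl
theorem F9395 : act 0 n3049 = n2879 := d1_1 D3049 (iv D2879) (iv F6469)
theorem F9396 : act 1 n3049 = n3049 := d7_1 D3049 (iv D3049) F6470 F4464 (iv F6470)
theorem F9397 : act 6 n3049 = n2826 := d16_2 (iv F6471) D3049 (iv D2826)
def n3050 : Q := act 4 n2093
theorem D3050 : act 4 n2093 = n3050 := rfl
theorem F9398 : act 0 n3050 = n2880 := d3_1 D3050 (iv D2880) (iv F6469)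
theorem F9399 : act 1 n3050 = n2095 := d9_1 D3050 (iv D2095) (iv F6470)
theorem F9400 : act 3 n3050 = n3050 := d18_1 D3050 (iv D3050) (iv D2093) F4461 D2093
theorem F9401 : act 6 n3050 = n2827 := d23_2 (iv F6471) D3050 (iv D2827)
def n3051 : Q := act 5 n2093
theorem D3051 : act 5 n2093 = n3051 := rfl
theorem F9402 : act 0 n3051 = n2881 := d4_1 D3051 (iv D2881) (iv F6469)
theorem F9403 : act 1 n3051 = n2287 := d10_1 D3051 (iv D2287) F4905 (iv F4465) (iv F6470)
theorem F9404 : act 3 n3051 = n2094 := d19_1 D3051 (iv D2094) D2093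
def n3052 : Q := act 7 n2093
theorem D3052 : act 7 n2093 = n3052 := rfl
theorem F9405 : act 0 n3052 = n2882 := d6_1 D3052 (iv D2882) (iv F6469)
theorem F9406 : act 1 n3052 = n2096 := d12_1 D3052 (iv D2096) (iv F6470)
def n3053 : Q := act 6 n2094
theorem D3053 : act 6 n2094 = n3053 := rfl
theorem F9407 : act 0 n3053 = n2883 := d5_1 D3053 (iv D2883) (iv F6472)
theorem F9408 : act 1 n3053 = n2289 := d11_1 D3053 (iv D2289) (iv F6473)
theorem F9409 : act 4 n3053 = n3053 := d23_1 D3053 (iv D3053) F6474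
theorem F9410 : act 5 n3053 = n2830 := d25_1 D3053 (iv D2830) (iv D1935) (iv F4462) D2094
def n3054 : Q := act 7 n2095
theorem D3054 : act 7 n2095 = n3054 := rfl
theorem F9411 : act 0 n3054 = n2097 := d6_1 D3054 (iv D2097) (iv F6475)
theorem F9412 : act 2 n3054 = n3054 := d17_1 D3054 (iv D3054) F6476
theorem F9413 : act 4 n3054 = n2096 := d24_1 D3054 (iv D2096) D2095
theorem F9414 : act 5 n3054 = n2290 := d26_1 D3054 (iv D2290) (iv F6478)
def n3055 : Q := act 6 n2096
theorem D3055 : act 6 n2096 = n3055 := rfl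
theorem F9415 : act 0 n3055 = n2098 := d5_1 D3055 (iv D2098) (iv F6480)
theorem F9416 : act 2 n3055 = n3055 := d16_1 D3055 (iv D3055) F6481
theorem F9417 : act 7 n3055 = n2836 := d27_2 D2096 D3055 (iv D2836) (iv D1938) (iv F4466)
def n3056 : Q := act 3 n2097
theorem D3056 : act 3 n2097 = n3056 := rfl
theorem F9418 : act 1 n3056 = n2901 := d8_1 D3056 (iv D2901) (iv F6483)
theorem F9419 : act 5 n3056 = n2292 := d19_2 (iv F6486) D3056 (iv D2292)
theorem F9420 : act 7 n3056 = n3056 := d21_2 D2097 D3056 (iv D3056) (iv D2097) F4469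
def n3057 : Q := act 6 n2097
theorem D3057 : act 6 n2097 = n3057 := rfl
theorem F9421 : act 1 n3057 = n2902 := d11_1 D3057 (iv D2902) (iv F6483)
theorem F9422 : act 2 n3057 = n3057 := d16_1 D3057 (iv D3057) F6484
theorem F9423 : act 4 n3057 = n2098 := d23_1 D3057 (iv D2098) (iv F6485)
theorem F9424 : act 7 n3057 = n2848 := d27_2 D2097 D3057 (iv D2848) (iv D1945) (iv F4471)
def n3058 : Q := act 5 n2098
theorem D3058 : act 5 n2098 = n3058 := rfl
theorem F9425 : act 2 n3058 = n3058 := d15_1 D3058 (iv D3058) F6488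
theorem F9426 : act 6 n3058 = n2294 := d25_2 D2098 D3058 (iv D2294) (iv D1565) (iv F4474)
theorem F9427 : act 7 n3058 = n2850 := d26_2 (iv F6489) D3058 (iv D2850)
def n3059 : Q := act 4 n2099
theorem D3059 : act 4 n2099 = n3059 := rfl
theorem F9428 : act 0 n3059 = n3059 := d3_1 D3059 (iv D3059) F6490
theorem F9429 : act 2 n3059 = n2100 := d14_1 D3059 (iv D2100) D2099
theorem F9430 : act 6 n3059 = n2143 := d23_2 (iv F6491) D3059 (iv D2143)
def n3060 : Q := act 5 n2099
theorem D3060 : act 5 n2099 = n3060 := rfl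
theorem F9431 : act 0 n3060 = n3060 := d4_1 D3060 (iv D3060) F6490
theorem F9432 : act 2 n3060 = n2101 := d15_1 D3060 (iv D2101) D2099
theorem F9433 : act 3 n3060 = n2143 := d19_1 D3060 (iv F8334) F8332
def n3061 : Q := act 7 n2099
theorem D3061 : act 7 n2099 = n3061 := rfl
theorem F9434 : act 0 n3061 = n3061 := d6_1 D3061 (iv D3061) F6490
theorem F9435 : act 2 n3061 = n2102 := d17_1 D3061 (iv D2102) D2099
def n3062 : Q := act 7 n2100
theorem D3062 : act 7 n2100 = n3062 := rfl
theorem F9436 : act 0 n3062 = n3062 := d6_1 D3062 (iv D3062) F6492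
theorem F9437 : act 1 n3062 = n2106 := d12_1 D3062 (iv D2106) (iv F6493)
theorem F9438 : act 3 n3062 = n3062 := d21_1 D3062 (iv D3062) F6494 F4712 (iv F6494)
theorem F9439 : act 4 n3062 = n2102 := d24_1 D3062 (iv D2102) D2100
def n3063 : Q := act 7 n2101
theorem D3063 : act 7 n2101 = n3063 := rfl
theorem F9440 : act 0 n3063 = n3063 := d6_1 D3063 (iv D3063) F6496
theorem F9441 : act 1 n3063 = n3063 := d12_1 D3063 (iv D3063) F6497
theorem F9442 : act 5 n3063 = n2102 := d26_1 D3063 (iv D2102) D2101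
def n3064 : Q := act 3 n2102
theorem D3064 : act 3 n2102 = n3064 := rfl
theorem F9443 : act 0 n3064 = n3064 := d2_1 D3064 (iv D3064) F6499
theorem F9444 : act 1 n3064 = n2107 := d8_1 D3064 (iv D2107) (iv F6500)
theorem F9445 : act 4 n3064 = n3064 := d18_2 F9439 D3064 (iv D3064) (iv F9439) F9438
theorem F9446 : act 7 n3064 = n2104 := d21_2 D2102 D3064 (iv D2104) (iv D1419) D1417
def n3065 : Q := act 6 n2102
theorem D3065 : act 6 n2102 = n3065 := rfl
theorem F9447 : act 0 n3065 = n3065 := d5_1 D3065 (iv D3065) F6499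
theorem F9448 : act 1 n3065 = n2108 := d11_1 D3065 (iv D2108) (iv F6500)
theorem F9449 : act 7 n3065 = n2149 := d27_2 D2102 D3065 (iv D2149) (iv D1451) (iv F4477)
def n3066 : Q := act 3 n2103
theorem D3066 : act 3 n2103 = n3066 := rfl
theorem F9450 : act 0 n3066 = n3066 := d2_1 D3066 (iv D3066) F6501
theorem F9451 : act 1 n3066 = n3066 := d8_1 D3066 (iv D3066) F6502
theorem F9452 : act 4 n3066 = n3066 := d18_2 (iv F6504) D3066 (iv D3066) F6504 F4716
theorem F9453 : act 5 n3066 = n2104 := d19_2 (iv F6505) D3066 (iv D2104)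
theorem F9454 : act 6 n3066 = n3066 := d20_2 F6506 D3066 (iv D3066)
def n3067 : Q := act 2 n2104
theorem D3067 : act 2 n2104 = n3067 := rfl
theorem F9455 : act 0 n3067 = n3067 := d1_1 D3067 (iv D3067) F6507
theorem F9456 : act 4 n3067 = n3067 := d14_2 F6509 D3067 (iv D3067)
def n3068 : Q := act 6 n2106
theorem D3068 : act 6 n2106 = n3068 := rfl
theorem F9457 : act 0 n3068 = n2116 := d5_1 D3068 (iv D2116) (iv F6515)
theorem F9458 : act 3 n3068 = n3068 := d20_1 D3068 (iv D3068) F6516
theorem F9459 : act 4 n3068 = n2108 := d23_1 D3068 (iv D2108) (iv F6517)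
theorem F9460 : act 7 n3068 = n2155 := d27_2 D2106 D3068 (iv D2155) (iv D1455) (iv F4488)
def n3069 : Q := act 2 n2107
theorem D3069 : act 2 n2107 = n3069 := rfl
theorem F9461 : act 0 n3069 = n2117 := d1_1 D3069 (iv D2117) (iv F6519)
theorem F9462 : act 4 n3069 = n3069 := d14_2 F6520 D3069 (iv D3069)
theorem F9463 : act 5 n3069 = n3069 := d15_2 F6521 D3069 (iv D3069)
theorem F9464 : act 7 n3069 = n2109 := d17_2 (iv F6522) D3069 (iv D2109)
def n3070 : Q := act 1 n2109
theorem D3070 : act 1 n2109 = n3070 := rfl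
theorem F9465 : act 3 n3070 = n2110 := d8_2 (iv F6526) D3070 (iv D2110)
theorem F9466 : act 4 n3070 = n3070 := d9_2 F6527 D3070 (iv D3070)
def n3071 : Q := act 0 n2110
theorem D3071 : act 0 n2110 = n3071 := rfl
theorem F9467 : act 1 n3071 = n2119 := d0_2 D2110 D3071 (iv D2119) (iv D1432) (iv F4499)
def n3072 : Q := act 4 n2110
theorem D3072 : act 4 n2110 = n3072 := rfl
theorem F9468 : act 1 n3072 = n2111 := d9_1 D3072 (iv D2111) D2110
theorem F9469 : act 3 n3072 = n3072 := d18_1 D3072 (iv D3072) (iv F9465) F9466 F9465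
theorem F9470 : act 6 n2374 = n3072 := d11_0 F9468 (iv F6533) D2374
def n3073 : Q := act 5 n2110
theorem D3073 : act 5 n2110 = n3073 := rfl
theorem F9471 : act 1 n3073 = n3073 := d10_1 D3073 (iv D3073) (iv D2110) F4500 D2110
def n3074 : Q := act 6 n2110
theorem D3074 : act 6 n2110 = n3074 := rfl
theorem F9472 : act 1 n3074 = n2112 := d11_1 D3074 (iv D2112) D2110
theorem F9473 : act 4 n3074 = n2374 := d23_1 D3074 F9470 (iv D3072)
def n3075 : Q := act 7 n2112
theorem D3075 : act 7 n2112 = n3075 := rfl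
theorem F9474 : act 0 n3075 = n2123 := d6_1 D3075 (iv D2123) (iv F6534)
theorem F9475 : act 2 n3075 = n2114 := d17_1 D3075 (iv D2114) (iv F6535)
theorem F9476 : act 3 n3075 = n3004 := d21_1 D3075 F9265 F6766 D2441 (iv F7516)
theorem F9477 : act 4 n3075 = n2309 := d24_1 D3075 F7158 (iv F6536)
theorem F9478 : act 5 n3075 = n3003 := d26_1 D3075 F9262 F7520
def n3076 : Q := act 1 n2113
theorem D3076 : act 1 n2113 = n3076 := rfl
theorem F9479 : act 0 n3076 = n3076 := d0_1 D3076 (iv D3076) F6537 F4533 (iv F6537)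
theorem F9480 : act 3 n3076 = n2115 := d8_2 (iv F6538) D3076 (iv D2115)
theorem F9481 : act 4 n3076 = n2208 := d9_2 (iv F6539) D3076 F6841
theorem F9482 : act 6 n3076 = n3076 := d11_2 F6540 D3076 (iv D3076)
def n3077 : Q := act 7 n2113
theorem D3077 : act 7 n2113 = n3077 := rfl
theorem F9483 : act 0 n3077 = n2124 := d6_1 D3077 (iv D2124) (iv F6537)
theorem F9484 : act 2 n3077 = n3003 := d17_1 D3077 F9262 F7519
theorem F9485 : act 3 n3077 = n2157 := d21_1 D3077 F6679 F4600 (iv F4512) (iv F6538)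
theorem F9486 : act 4 n3077 = n2154 := d24_1 D3077 F6671 (iv F6539)
theorem F9487 : act 5 n3077 = n2114 := d26_1 D3077 (iv D2114) D2113
def n3078 : Q := act 1 n2117
theorem D3078 : act 1 n2117 = n3078 := rfl
theorem F9488 : act 2 n3078 = n3078 := d7_2 D2117 D3078 (iv D3078) (iv D2117) F4517
theorem F9489 : act 4 n3078 = n3078 := d9_2 F6553 D3078 (iv D3078)
theorem F9490 : act 7 n3078 = n2118 := d12_2 (iv F6555) D3078 (iv D2118)
def n3079 : Q := act 0 n2118
theorem D3079 : act 0 n2118 = n3079 := rfl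
theorem F9491 : act 2 n3079 = n3079 := d1_2 F6556 D3079 (iv D3079)
theorem F9492 : act 3 n3079 = n2119 := d2_2 (iv F6557) D3079 (iv D2119)
theorem F9493 : act 4 n3079 = n3079 := d3_2 F6558 D3079 (iv D3079)
def n3080 : Q := act 5 n2118
theorem D3080 : act 5 n2118 = n3080 := rfl
theorem F9494 : act 1 n3080 = n3080 := d10_1 D3080 (iv D3080) (iv D2118) F4525 D2118
theorem F9495 : act 2 n3080 = n3080 := d15_1 D3080 (iv D3080) F6556
theorem F9496 : act 3 n3080 = n2121 := d19_1 D3080 (iv D2121) (iv F6557)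
theorem F9497 : act 4 n3080 = n3080 := d22_1 D3080 (iv D3080) F6558
def n3081 : Q := act 4 n2119
theorem D3081 : act 4 n2119 = n3081 := rfl
theorem F9498 : act 0 n3081 = n2120 := d3_1 D3081 (iv D2120) D2119
theorem F9499 : act 2 n3081 = n2125 := d14_1 D3081 (iv D2125) (iv F6559)
theorem F9500 : act 3 n3081 = n3081 := d18_1 D3081 (iv D3081) (iv F9492) F9493 F9492
theorem F9501 : act 6 n2375 = n3081 := d16_0 F9499 (iv F6583) (iv F7333)
def n3082 : Q := act 5 n2119
theorem D3082 : act 5 n2119 = n3082 := rfl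
theorem F9502 : act 0 n3082 = n2121 := d4_1 D3082 (iv D2121) D2119
theorem F9503 : act 2 n3082 = n2126 := d15_1 D3082 (iv D2126) (iv F6559)
def n3083 : Q := act 6 n2119
theorem D3083 : act 6 n2119 = n3083 := rfl
theorem F9504 : act 0 n3083 = n2122 := d5_1 D3083 (iv D2122) D2119
theorem F9505 : act 2 n3083 = n2127 := d16_1 D3083 (iv D2127) (iv F6559)
theorem F9506 : act 4 n3083 = n2375 := d23_1 D3083 F9501 (iv D3081)
theorem F9507 : act 5 n3022 = n3083 := d4_0 F9504 (iv F6569) (iv F9314)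
theorem F9508 : act 7 n3021 = n3083 := d6_0 F9504 F6570 (iv F9312)
def n3084 : Q := act 5 n2120
theorem D3084 : act 5 n2120 = n3084 := rfl
theorem F9509 : act 1 n3084 = n3084 := d10_1 D3084 (iv D3084) F6560 F4529 (iv F6560)
theorem F9510 : act 2 n3084 = n2128 := d15_1 D3084 (iv D2128) (iv F6561)
theorem F9511 : act 3 n3084 = n3084 := d19_1 D3084 (iv D3084) F6562
theorem F9512 : act 4 n3084 = n2121 := d22_1 D3084 (iv D2121) D2120
def n3085 : Q := act 6 n2121
theorem D3085 : act 6 n2121 = n3085 := rfl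
theorem F9513 : act 1 n3085 = n3085 := d11_1 D3085 (iv D3085) F6564
theorem F9514 : act 2 n3085 = n2129 := d16_1 D3085 (iv D2129) (iv F6565)
theorem F9515 : act 5 n3085 = n3031 := d25_1 D3085 (iv D3031) F6569 (iv D2122) D2121
def n3086 : Q := act 6 n2124
theorem D3086 : act 6 n2124 = n3086 := rfl
theorem F9516 : act 1 n3086 = n3086 := d11_1 D3086 (iv D3086) F6576
theorem F9517 : act 2 n3086 = n3008 := d16_1 D3086 (iv D3008) (iv F6577)
theorem F9518 : act 3 n3086 = n2174 := d20_1 D3086 (iv D2174) (iv F6578)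
theorem F9519 : act 4 n3086 = n2169 := d23_1 D3086 (iv D2169) (iv F6579)
theorem F9520 : act 7 n3086 = n3086 := d27_2 D2124 D3086 (iv D3086) (iv D2124) F4536
def n3087 : Q := act 5 n2125
theorem D3087 : act 5 n2125 = n3087 := rfl
theorem F9521 : act 0 n3087 = n2128 := d4_1 D3087 (iv D2128) (iv F6581)
theorem F9522 : act 3 n3087 = n2484 := d19_1 D3087 (iv D2484) F6582
theorem F9523 : act 4 n3087 = n2126 := d22_1 D3087 (iv D2126) D2125
def n3088 : Q := act 1 n2126
theorem D3088 : act 1 n2126 = n3088 := rfl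
theorem F9524 : act 0 n3088 = n2135 := d0_1 D3088 (iv D2135) F4555 (iv F4544) (iv F6584)
theorem F9525 : act 3 n3088 = n3088 := d8_2 F6585 D3088 (iv D3088)
def n3089 : Q := act 6 n2126
theorem D3089 : act 6 n2126 = n3089 := rfl
theorem F9526 : act 0 n3089 = n2129 := d5_1 D3089 (iv D2129) (iv F6584)
theorem F9527 : act 3 n3089 = n3089 := d20_1 D3089 (iv D3089) F6585
def n3090 : Q := act 5 n2127
theorem D3090 : act 5 n2127 = n3090 := rfl
theorem F9528 : act 0 n3090 = n2130 := d4_1 D3090 (iv D2130) (iv F6586)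
theorem F9529 : act 2 n3090 = n3022 := d15_1 D3090 F9507 F9505
theorem F9530 : act 3 n3090 = n3090 := d19_1 D3090 (iv D3090) F6587
theorem F9531 : act 4 n3090 = n2470 := d22_1 D3090 (iv D2470) (iv F6588)
theorem F9532 : act 7 n2266 = n3090 := d17_0 F9529 (iv D3022) (iv F7030)
def n3091 : Q := act 7 n2127
theorem D3091 : act 7 n2127 = n3091 := rfl
theorem F9533 : act 0 n3091 = n2131 := d6_1 D3091 (iv D2131) (iv F6586)
theorem F9534 : act 2 n3091 = n3021 := d17_1 D3091 F9508 F9505
theorem F9535 : act 4 n3091 = n2422 := d24_1 D3091 F7457 (iv F6588)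
theorem F9536 : act 5 n3091 = n2266 := d26_1 D3091 F9532 (iv D3090)
theorem F9537 : act 3 n2262 = n3091 := d19_3 F9536 (iv D2266) (iv F7013)
def n3092 : Q := act 6 n2128
theorem D3092 : act 6 n2128 = n3092 := rfl
theorem F9538 : act 1 n3092 = n2140 := d11_1 D3092 (iv D2140) (iv F6589)
theorem F9539 : act 3 n3092 = n2486 := d20_1 D3092 F7668 (iv F6590)
theorem F9540 : act 4 n3092 = n2129 := d23_1 D3092 (iv D2129) (iv F6591)
theorem F9541 : act 5 n3092 = n2471 := d25_1 D3092 (iv D2471) (iv D1694) F4543 D2128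
def n3093 : Q := act 5 n2129
theorem D3093 : act 5 n2129 = n3093 := rfl
theorem F9542 : act 1 n3093 = n3093 := d10_1 D3093 (iv D3093) F6592 F4565 (iv F6592)
theorem F9543 : act 2 n3093 = n3031 := d15_1 D3093 (iv F9515) F9514
theorem F9544 : act 3 n3093 = n3093 := d19_1 D3093 (iv D3093) F6593
theorem F9545 : act 4 n3093 = n2471 := d22_1 D3093 (iv F9541) F9540
theorem F9546 : act 6 n3093 = n2130 := d25_2 D2129 D3093 (iv D2130) (iv D1440) D1439
theorem F9547 : act 7 n2284 = n3093 := d27_0 F9546 F6598 F4865 D1559 D2284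
def n3094 : Q := act 7 n2129
theorem D3094 : act 7 n2129 = n3094 := rfl
theorem F9548 : act 1 n3094 = n2141 := d12_1 D3094 (iv D2141) (iv F6592)
theorem F9549 : act 5 n3094 = n2284 := d26_1 D3094 F9547 (iv D3093)
theorem F9550 : act 3 n2294 = n3094 := d19_3 F9549 F7090 D2294
def n3095 : Q := act 2 n2133
theorem D3095 : act 2 n2133 = n3095 := rfl
theorem F9551 : act 0 n3095 = n2137 := d1_1 D3095 (iv D2137) (iv F6609)
theorem F9552 : act 1 n3095 = n3095 := d7_1 D3095 (iv D3095) (iv F8441) F8442 F8441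
theorem F9553 : act 3 n3095 = n3095 := d13_2 D2133 D3095 (iv D3095) (iv D2133) F4553
theorem F9554 : act 4 n3095 = n3095 := d14_2 F6610 D3095 (iv D3095)
theorem F9555 : act 6 n3095 = n3095 := d16_2 F6611 D3095 (iv D3095)
def n3096 : Q := act 5 n2133
theorem D3096 : act 5 n2133 = n3096 := rfl
theorem F9556 : act 0 n3096 = n2138 := d4_1 D3096 (iv D2138) (iv F6609)
theorem F9557 : act 3 n3096 = n2134 := d19_1 D3096 (iv D2134) D2133
theorem F9558 : act 4 n3096 = n3096 := d22_1 D3096 (iv D3096) F6610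
def n3097 : Q := act 7 n2133
theorem D3097 : act 7 n2133 = n3097 := rfl
theorem F9559 : act 0 n3097 = n2139 := d6_1 D3097 (iv D2139) (iv F6609)
theorem F9560 : act 4 n3097 = n3097 := d24_1 D3097 (iv D3097) F6610
def n3098 : Q := act 1 n2134
theorem D3098 : act 1 n2134 = n3098 := rfl
theorem F9561 : act 4 n3098 = n2135 := d9_2 (iv F6614) D3098 (iv D2135)
def n3099 : Q := act 6 n2134
theorem D3099 : act 6 n2134 = n3099 := rfl
theorem F9562 : act 0 n3099 = n2140 := d5_1 D3099 (iv D2140) (iv F6612)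
theorem F9563 : act 2 n3099 = n3099 := d16_1 D3099 (iv D3099) F6613
theorem F9564 : act 4 n3099 = n2136 := d23_1 D3099 (iv D2136) (iv F6614)
theorem F9565 : act 5 n3099 = n3099 := d25_1 D3099 (iv D3099) (iv D2134) F4554 D2134
def n3100 : Q := act 2 n2135
theorem D3100 : act 2 n2135 = n3100 := rfl
theorem F9566 : act 1 n3100 = n3100 := d7_1 D3100 (iv D3100) (iv D2135) F4556 D2135
def n3101 : Q := act 6 n2135
theorem D3101 : act 6 n2135 = n3101 := rfl
theorem F9567 : act 1 n3101 = n2136 := d11_1 D3101 (iv D2136) D2135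
theorem F9568 : act 3 n3101 = n3101 := d20_1 D3101 (iv D3101) F6615
def n3102 : Q := act 7 n2136
theorem D3102 : act 7 n2136 = n3102 := rfl
theorem F9569 : act 0 n3102 = n2141 := d6_1 D3102 (iv D2141) (iv F6616)
theorem F9570 : act 2 n3102 = n3102 := d17_1 D3102 (iv D3102) F6617
theorem F9571 : act 5 n3102 = n3102 := d26_1 D3102 (iv D3102) F6619
def n3103 : Q := act 5 n2137
theorem D3103 : act 5 n2137 = n3103 := rfl
theorem F9572 : act 1 n3103 = n3103 := d10_1 D3103 (iv D3103) F6620 F4732 (iv F6620)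
theorem F9573 : act 2 n3103 = n2138 := d15_1 D3103 (iv D2138) D2137
theorem F9574 : act 3 n3103 = n3103 := d19_1 D3103 (iv D3103) F6621
theorem F9575 : act 4 n3103 = n3103 := d22_1 D3103 (iv D3103) F6622
def n3104 : Q := act 7 n2137
theorem D3104 : act 7 n2137 = n3104 := rfl
theorem F9576 : act 1 n3104 = n2206 := d12_1 D3104 (iv D2206) (iv F6620)
theorem F9577 : act 2 n3104 = n2139 := d17_1 D3104 (iv D2139) D2137
theorem F9578 : act 4 n3104 = n3104 := d24_1 D3104 (iv D3104) F6622
def n3105 : Q := act 6 n2138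
theorem D3105 : act 6 n2138 = n3105 := rfl
theorem F9579 : act 1 n3105 = n2486 := d11_1 D3105 F7668 (iv F6624)
theorem F9580 : act 3 n3105 = n2140 := d20_1 D3105 (iv D2140) (iv F6625)
theorem F9581 : act 4 n3105 = n3105 := d23_1 D3105 (iv D3105) F6626
theorem F9582 : act 5 n3105 = n3105 := d25_1 D3105 (iv D3105) (iv D2138) F4560 D2138
def n3106 : Q := act 7 n2138
theorem D3106 : act 7 n2138 = n3106 := rfl
theorem F9583 : act 1 n3106 = n2488 := d12_1 D3106 (iv D2488) (iv F6624)
theorem F9584 : act 4 n3106 = n3106 := d24_1 D3106 (iv D3106) F6626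
theorem F9585 : act 5 n3106 = n2139 := d26_1 D3106 (iv D2139) D2138
def n3107 : Q := act 6 n2139
theorem D3107 : act 6 n2139 = n3107 := rfl
theorem F9586 : act 1 n3107 = n2142 := d11_1 D3107 (iv D2142) (iv F6627)
theorem F9587 : act 4 n3107 = n3107 := d23_1 D3107 (iv D3107) F6628
theorem F9588 : act 7 n3107 = n3107 := d27_2 D2139 D3107 (iv D3107) (iv D2139) F4560
def n3108 : Q := act 7 n2140
theorem D3108 : act 7 n2140 = n3108 := rfl
theorem F9589 : act 2 n3108 = n3108 := d17_1 D3108 (iv D3108) F6629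
theorem F9590 : act 4 n3108 = n2141 := d24_1 D3108 (iv D2141) (iv F6630)
theorem F9591 : act 5 n3108 = n3108 := d26_1 D3108 (iv D3108) F6631
def n3109 : Q := act 3 n2141
theorem D3109 : act 3 n2141 = n3109 := rfl
theorem F9592 : act 1 n3109 = n2294 := d8_1 D3109 F9550 F9548
theorem F9593 : act 5 n3109 = n3109 := d19_2 F6633 D3109 (iv D3109)
theorem F9594 : act 7 n3109 = n3109 := d21_2 D2141 D3109 (iv D3109) (iv D2141) F4564
def n3110 : Q := act 7 n2143
theorem D3110 : act 7 n2143 = n3110 := rfl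
theorem F9595 : act 0 n3110 = n3110 := d6_1 D3110 (iv D3110) F6638
theorem F9596 : act 2 n3110 = n2146 := d17_1 D3110 (iv D2146) (iv F6639)
theorem F9597 : act 4 n3110 = n2145 := d24_1 D3110 (iv D2145) D2143
def n3111 : Q := act 1 n2144
theorem D3111 : act 1 n2144 = n3111 := rfl
theorem F9598 : act 2 n3111 = n2296 := d7_2 (iv F6641) D3111 (iv D2296) F4926 (iv F4574)
def n3112 : Q := act 7 n2144
theorem D3112 : act 7 n2144 = n3112 := rfl
theorem F9599 : act 0 n3112 = n3112 := d6_1 D3112 (iv D3112) F6640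
theorem F9600 : act 2 n3112 = n2147 := d17_1 D3112 (iv D2147) (iv F6641)
theorem F9601 : act 5 n3112 = n2145 := d26_1 D3112 (iv D2145) D2144
def n3113 : Q := act 3 n2145
theorem D3113 : act 3 n2145 = n3113 := rfl
theorem F9602 : act 0 n3113 = n3113 := d2_1 D3113 (iv D3113) F6642
def n3114 : Q := act 6 n2145
theorem D3114 : act 6 n2145 = n3114 := rfl
theorem F9603 : act 0 n3114 = n3114 := d5_1 D3114 (iv D3114) F6642
theorem F9604 : act 2 n3114 = n2149 := d16_1 D3114 (iv D2149) (iv F6643)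
def n3115 : Q := act 3 n2146
theorem D3115 : act 3 n2146 = n3115 := rfl
theorem F9605 : act 0 n3115 = n3115 := d2_1 D3115 (iv D3115) F6644
theorem F9606 : act 1 n3115 = n2154 := d8_1 D3115 (iv D2154) (iv F6645)
theorem F9607 : act 7 n3115 = n2208 := d21_2 D2146 D3115 (iv D2208) (iv D1504) (iv F4572)
def n3116 : Q := act 6 n2146
theorem D3116 : act 6 n2146 = n3116 := rfl
theorem F9608 : act 0 n3116 = n3116 := d5_1 D3116 (iv D3116) F6644
theorem F9609 : act 1 n3116 = n2155 := d11_1 D3116 (iv D2155) (iv F6645)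
theorem F9610 : act 4 n3116 = n2149 := d23_1 D3116 (iv D2149) (iv F6646)
def n3117 : Q := act 3 n2147
theorem D3117 : act 3 n2147 = n3117 := rfl
theorem F9611 : act 0 n3117 = n3117 := d2_1 D3117 (iv D3117) F6647
theorem F9612 : act 1 n3117 = n2302 := d8_1 D3117 (iv D2302) (iv F6648)
theorem F9613 : act 5 n3117 = n2148 := d19_2 (iv F6649) D3117 (iv D2148)
theorem F9614 : act 7 n3117 = n2150 := d21_2 D2147 D3117 (iv D2150) (iv D1452) (iv F4575)
def n3118 : Q := act 6 n2147
theorem D3118 : act 6 n2147 = n3118 := rfl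
theorem F9615 : act 0 n3118 = n3118 := d5_1 D3118 (iv D3118) F6647
theorem F9616 : act 1 n3118 = n2303 := d11_1 D3118 (iv D2303) (iv F6648)
def n3119 : Q := act 2 n2148
theorem D3119 : act 2 n2148 = n3119 := rfl
theorem F9617 : act 0 n3119 = n3119 := d1_1 D3119 (iv D3119) F6650
theorem F9618 : act 7 n3119 = n2151 := d17_2 (iv F6652) D3119 (iv D2151)
def n3120 : Q := act 4 n2148
theorem D3120 : act 4 n2148 = n3120 := rfl
theorem F9619 : act 0 n3120 = n3120 := d3_1 D3120 (iv D3120) F6650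
theorem F9620 : act 1 n3120 = n2157 := d9_1 D3120 (iv D2157) (iv F6651)
theorem F9621 : act 7 n3120 = n2152 := d24_2 (iv F6652) D3120 (iv D2152)
def n3121 : Q := act 6 n2148
theorem D3121 : act 6 n2148 = n3121 := rfl
theorem F9622 : act 0 n3121 = n3121 := d5_1 D3121 (iv D3121) F6650
theorem F9623 : act 1 n3121 = n2158 := d11_1 D3121 (iv D2158) (iv F6651)
theorem F9624 : act 3 n3121 = n2149 := d20_1 D3121 (iv D2149) D2148
def n3122 : Q := act 5 n2149
theorem D3122 : act 5 n2149 = n3122 := rfl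
theorem F9625 : act 0 n3122 = n3122 := d4_1 D3122 (iv D3122) F6653
def n3123 : Q := act 2 n2150
theorem D3123 : act 2 n2150 = n3123 := rfl
theorem F9626 : act 0 n3123 = n3123 := d1_1 D3123 (iv D3123) F6655
theorem F9627 : act 5 n3123 = n2151 := d15_2 (iv F6657) D3123 (iv D2151)
theorem F9628 : act 6 n3123 = n3123 := d16_2 F6658 D3123 (iv D3123)
def n3124 : Q := act 1 n2151
theorem D3124 : act 1 n2151 = n3124 := rfl
theorem F9629 : act 2 n3124 = n2160 := d7_2 D2151 D3124 (iv D2160) (iv D1458) (iv F4584)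
def n3125 : Q := act 4 n2151
theorem D3125 : act 4 n2151 = n3125 := rfl
theorem F9630 : act 0 n3125 = n3125 := d3_1 D3125 (iv D3125) F6659
theorem F9631 : act 2 n3125 = n2152 := d14_1 D3125 (iv D2152) D2151
theorem F9632 : act 3 n3125 = n3125 := d18_1 D3125 (iv D3125) (iv F8504) F8505 F8504
theorem F9633 : act 6 n2329 = n3125 := d16_0 F9631 (iv F6663) D2329
def n3126 : Q := act 6 n2151
theorem D3126 : act 6 n2151 = n3126 := rfl
theorem F9634 : act 0 n3126 = n3126 := d5_1 D3126 (iv D3126) F6659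
theorem F9635 : act 2 n3126 = n2153 := d16_1 D3126 (iv D2153) D2151
theorem F9636 : act 4 n3126 = n2329 := d23_1 D3126 F9633 (iv D3125)
theorem F9637 : act 5 n3126 = n3126 := d25_1 D3126 (iv D3126) (iv F9627) F9628 F9627
def n3127 : Q := act 2 n2154
theorem D3127 : act 2 n2154 = n3127 := rfl
theorem F9638 : act 0 n3127 = n2168 := d1_1 D3127 (iv D2168) (iv F6669)
theorem F9639 : act 3 n3127 = n2863 := d13_2 D2154 D3127 F9116 (iv D2956) F6259
theorem F9640 : act 4 n3127 = n3003 := d14_2 F9486 D3127 (iv F9484)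
theorem F9641 : act 5 n3127 = n2309 := d15_2 (iv F6670) D3127 (iv D2309)
theorem F9642 : act 7 n3127 = n2209 := d17_2 (iv F6671) D3127 (iv D2209)
def n3128 : Q := act 6 n2154
theorem D3128 : act 6 n2154 = n3128 := rfl
theorem F9643 : act 0 n3128 = n2169 := d5_1 D3128 (iv D2169) (iv F6669)
theorem F9644 : act 3 n3128 = n2155 := d20_1 D3128 (iv D2155) D2154
theorem F9645 : act 7 n3128 = n3128 := d27_2 (iv F6671) D3128 (iv D3128) F6671 F4749
def n3129 : Q := act 5 n2155
theorem D3129 : act 5 n2155 = n3129 := rfl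
theorem F9646 : act 0 n3129 = n2170 := d4_1 D3129 (iv D2170) (iv F6672)
theorem F9647 : act 4 n3129 = n2159 := d22_1 D3129 (iv D2159) (iv F6673)
theorem F9648 : act 6 n3129 = n2311 := d25_2 D2155 D3129 (iv D2311) (iv D1576) (iv F4591)
def n3130 : Q := act 1 n2156
theorem D3130 : act 1 n2156 = n3130 := rfl
theorem F9649 : act 7 n3130 = n2160 := d12_2 (iv F6676) D3130 (iv D2160)
def n3131 : Q := act 4 n2156
theorem D3131 : act 4 n2156 = n3131 := rfl
theorem F9650 : act 0 n3131 = n2172 := d3_1 D3131 (iv D2172) (iv F6674)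
theorem F9651 : act 2 n3131 = n2157 := d14_1 D3131 (iv D2157) D2156
theorem F9652 : act 3 n3131 = n2994 := d18_1 D3131 (iv D2994) (iv F9213) F9214 F9122
theorem F9653 : act 5 n3131 = n2167 := d22_2 (iv F6675) D3131 F6704
theorem F9654 : act 7 n3131 = n2161 := d24_2 (iv F6676) D3131 (iv D2161)
def n3132 : Q := act 6 n2156
theorem D3132 : act 6 n2156 = n3132 := rfl
theorem F9655 : act 0 n3132 = n2173 := d5_1 D3132 (iv D2173) (iv F6674)
theorem F9656 : act 2 n3132 = n2158 := d16_1 D3132 (iv D2158) D2156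
def n3133 : Q := act 6 n2157
theorem D3133 : act 6 n2157 = n3133 := rfl
theorem F9657 : act 0 n3133 = n2174 := d5_1 D3133 (iv D2174) (iv F6677)
theorem F9658 : act 4 n3133 = n2158 := d23_1 D3133 (iv D2158) D2157
theorem F9659 : act 7 n3133 = n2331 := d27_2 (iv F6679) D3133 (iv D2331) (iv D1589) F4602
def n3134 : Q := act 1 n2159
theorem D3134 : act 1 n2159 = n3134 := rfl
theorem F9660 : act 6 n3134 = n2315 := d11_2 (iv F6683) D3134 (iv D2315)
def n3135 : Q := act 0 n2160
theorem D3135 : act 0 n2160 = n3135 := rfl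
theorem F9661 : act 1 n3135 = n2175 := d0_2 D2160 D3135 (iv D2175) (iv D1472) (iv F4596)
theorem F9662 : act 3 n3135 = n2163 := d2_2 (iv F6684) D3135 (iv D2163)
def n3136 : Q := act 4 n2160
theorem D3136 : act 4 n2160 = n3136 := rfl
theorem F9663 : act 1 n3136 = n2161 := d9_1 D3136 (iv D2161) D2160
theorem F9664 : act 3 n3136 = n2323 := d18_1 D3136 F7188 F6697 (iv D2164) (iv F6684)
theorem F9665 : act 6 n2321 = n3136 := d20_0 F9664 (iv D2323) D2321
def n3137 : Q := act 5 n2160
theorem D3137 : act 5 n2160 = n3137 := rfl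
theorem F9666 : act 1 n3137 = n2317 := d10_1 D3137 (iv D2317) (iv D1580) (iv F4598) D2160
theorem F9667 : act 3 n3137 = n2165 := d19_1 D3137 (iv D2165) (iv F6684)
def n3138 : Q := act 6 n2160
theorem D3138 : act 6 n2160 = n3138 := rfl
theorem F9668 : act 1 n3138 = n2162 := d11_1 D3138 (iv D2162) D2160
theorem F9669 : act 3 n3138 = n2166 := d20_1 D3138 (iv D2166) (iv F6684)
theorem F9670 : act 4 n3138 = n2321 := d23_1 D3138 F9665 (iv D3136)
def n3139 : Q := act 4 n2163
theorem D3139 : act 4 n2163 = n3139 := rfl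
theorem F9671 : act 0 n3139 = n2164 := d3_1 D3139 (iv D2164) D2163
theorem F9672 : act 1 n3139 = n2178 := d9_1 D3139 (iv D2178) (iv F6695)
theorem F9673 : act 3 n2320 = n3139 := d8_0 F9672 (iv F6739) (iv F7181)
theorem F9674 : act 6 n2316 = n3139 := d11_0 F9672 (iv F6740) (iv F7171)
def n3140 : Q := act 5 n2163
theorem D3140 : act 5 n2163 = n3140 := rfl
theorem F9675 : act 0 n3140 = n2165 := d4_1 D3140 (iv D2165) D2163
def n3141 : Q := act 6 n2163
theorem D3141 : act 6 n2163 = n3141 := rfl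
theorem F9676 : act 0 n3141 = n2166 := d5_1 D3141 (iv D2166) D2163
theorem F9677 : act 1 n3141 = n2180 := d11_1 D3141 (iv D2180) (iv F6695)
theorem F9678 : act 4 n3141 = n2316 := d23_1 D3141 F9674 (iv D3139)
def n3142 : Q := act 5 n2164
theorem D3142 : act 5 n2164 = n3142 := rfl
theorem F9679 : act 1 n3142 = n2322 := d10_1 D3142 (iv D2322) F4960 (iv F4609) (iv F6696)
theorem F9680 : act 3 n3142 = n2325 := d19_1 D3142 (iv D2325) F6697
theorem F9681 : act 4 n3142 = n2165 := d22_1 D3142 (iv D2165) D2164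
def n3143 : Q := act 6 n2165
theorem D3143 : act 6 n2165 = n3143 := rfl
theorem F9682 : act 1 n3143 = n2324 := d11_1 D3143 (iv D2324) (iv F6699)
def n3144 : Q := act 5 n2166
theorem D3144 : act 5 n2166 = n3144 := rfl
theorem F9683 : act 4 n3144 = n2317 := d22_1 D3144 (iv D2317) (iv F6701)
def n3145 : Q := act 7 n2166
theorem D3145 : act 7 n2166 = n3145 := rfl
theorem F9684 : act 1 n3145 = n2167 := d12_1 D3145 (iv D2167) (iv F6700)
theorem F9685 : act 4 n3145 = n2312 := d24_1 D3145 F7164 (iv F6701)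
def n3146 : Q := act 3 n2167
theorem D3146 : act 3 n2167 = n3146 := rfl
theorem F9686 : act 0 n3146 = n2185 := d2_1 D3146 (iv D2185) (iv F6702)
theorem F9687 : act 2 n3146 = n3004 := d13_1 D3146 (iv F9476) F9475 F6542 (iv F6703)
theorem F9688 : act 5 n3146 = n2994 := d19_2 F9653 D3146 (iv F9652)
theorem F9689 : act 4 n2995 = n3146 := d22_3 F9688 (iv D2994) D2995
def n3147 : Q := act 6 n2168
theorem D3147 : act 6 n2168 = n3147 := rfl
theorem F9690 : act 1 n3147 = n2870 := d11_1 D3147 (iv D2870) F6709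
theorem F9691 : act 2 n3147 = n2169 := d16_1 D3147 (iv D2169) D2168
theorem F9692 : act 3 n3147 = n2866 := d20_1 D3147 (iv D2866) (iv F6705)
theorem F9693 : act 4 n3147 = n3008 := d23_1 D3147 (iv D3008) (iv F6706)
theorem F9694 : act 7 n3147 = n3147 := d27_2 (iv F6708) D3147 (iv D3147) F6708 F4752
def n3148 : Q := act 5 n2169
theorem D3148 : act 5 n2169 = n3148 := rfl
theorem F9695 : act 3 n3148 = n2170 := d19_1 D3148 (iv D2170) (iv F6711)
theorem F9696 : act 6 n3148 = n2334 := d25_2 D2169 D3148 (iv D2334) (iv D1591) (iv F4622)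
theorem F9697 : act 7 n3148 = n3148 := d26_2 F6712 D3148 (iv D3148)
def n3149 : Q := act 0 n2171
theorem D3149 : act 0 n2171 = n3149 := rfl
theorem F9698 : act 2 n3149 = n3149 := d1_2 F6715 D3149 (iv D3149)
theorem F9699 : act 3 n3149 = n2963 := d2_2 (iv F6716) D3149 F9135
theorem F9700 : act 4 n3149 = n2973 := d3_2 F6718 D3149 F9164
theorem F9701 : act 7 n3149 = n2175 := d6_2 (iv F6717) D3149 (iv D2175)
def n3150 : Q := act 6 n2171
theorem D3150 : act 6 n2171 = n3150 := rfl
theorem F9702 : act 1 n3150 = n2173 := d11_1 D3150 (iv D2173) D2171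
theorem F9703 : act 2 n3150 = n3150 := d16_1 D3150 (iv D3150) F6715
theorem F9704 : act 3 n3150 = n2990 := d20_1 D3150 (iv D2990) (iv F6716)
theorem F9705 : act 4 n3150 = n2999 := d23_1 D3150 (iv D2999) F6718
def n3151 : Q := act 6 n2172
theorem D3151 : act 6 n2172 = n3151 := rfl
theorem F9706 : act 1 n3151 = n2999 := d11_1 D3151 (iv D2999) (iv F6719)
theorem F9707 : act 2 n3151 = n2174 := d16_1 D3151 (iv D2174) (iv F6720)
theorem F9708 : act 3 n3151 = n2997 := d20_1 D3151 (iv D2997) (iv F6721)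
theorem F9709 : act 4 n3151 = n2173 := d23_1 D3151 (iv D2173) D2172
theorem F9710 : act 7 n3151 = n2353 := d27_2 (iv F6723) D3151 (iv D2353) (iv D1606) F4639
def n3152 : Q := act 5 n2175
theorem D3152 : act 5 n2175 = n3152 := rfl
theorem F9711 : act 0 n3152 = n2176 := d4_1 D3152 (iv D2176) D2175
theorem F9712 : act 2 n3152 = n3152 := d15_1 D3152 (iv D3152) F6728
theorem F9713 : act 3 n3152 = n2179 := d19_1 D3152 (iv D2179) (iv F6729)
def n3153 : Q := act 6 n2175
theorem D3153 : act 6 n2175 = n3153 := rfl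
theorem F9714 : act 0 n3153 = n2177 := d5_1 D3153 (iv D2177) D2175
theorem F9715 : act 2 n3153 = n3153 := d16_1 D3153 (iv D3153) F6728
theorem F9716 : act 3 n3153 = n2180 := d20_1 D3153 (iv D2180) (iv F6729)
theorem F9717 : act 4 n3153 = n2343 := d23_1 D3153 F7240 F7202
def n3154 : Q := act 6 n2176
theorem D3154 : act 6 n2176 = n3154 := rfl
theorem F9718 : act 1 n3154 = n2342 := d11_1 D3154 (iv D2342) (iv F6730)
theorem F9719 : act 2 n3154 = n3154 := d16_1 D3154 (iv D3154) F6731
theorem F9720 : act 3 n3154 = n2182 := d20_1 D3154 (iv D2182) (iv F6732)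
def n3155 : Q := act 5 n2178
theorem D3155 : act 5 n2178 = n3155 := rfl
theorem F9721 : act 0 n3155 = n2181 := d4_1 D3155 (iv D2181) (iv F6737)
theorem F9722 : act 2 n3155 = n2186 := d15_1 D3155 (iv D2186) (iv F6738)
theorem F9723 : act 3 n3155 = n2347 := d19_1 D3155 (iv D2347) F6739
theorem F9724 : act 4 n3155 = n2179 := d22_1 D3155 (iv D2179) D2178
theorem F9725 : act 7 n3155 = n3146 := d26_2 F9236 D3155 F9688
def n3156 : Q := act 1 n2179
theorem D3156 : act 1 n2179 = n3156 := rfl
theorem F9726 : act 0 n3156 = n2345 := d0_1 D3156 (iv D2345) F5001 (iv F4649) (iv F6741)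
def n3157 : Q := act 6 n2179
theorem D3157 : act 6 n2179 = n3157 := rfl
theorem F9727 : act 0 n3157 = n2182 := d5_1 D3157 (iv D2182) (iv F6741)
theorem F9728 : act 2 n3157 = n2188 := d16_1 D3157 (iv D2188) (iv F6742)
def n3158 : Q := act 5 n2180
theorem D3158 : act 5 n2180 = n3158 := rfl
theorem F9729 : act 0 n3158 = n2183 := d4_1 D3158 (iv D2183) (iv F6743)
theorem F9730 : act 2 n3158 = n2189 := d15_1 D3158 (iv D2189) (iv F6744)
theorem F9731 : act 4 n3158 = n2341 := d22_1 D3158 (iv D2341) (iv F6745)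
theorem F9732 : act 7 n2234 = n3158 := d17_0 F9730 (iv F6775) (iv F6915)
def n3159 : Q := act 7 n2180
theorem D3159 : act 7 n2180 = n3159 := rfl
theorem F9733 : act 0 n3159 = n2184 := d6_1 D3159 (iv D2184) (iv F6743)
theorem F9734 : act 2 n3159 = n2190 := d17_1 D3159 (iv D2190) (iv F6744)
theorem F9735 : act 4 n3159 = n2336 := d24_1 D3159 F7223 (iv F6745)
theorem F9736 : act 5 n3159 = n2234 := d26_1 D3159 F9732 (iv D3158)
theorem F9737 : act 3 n2242 = n3159 := d19_3 F9736 F6916 D2242
def n3160 : Q := act 6 n2181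
theorem D3160 : act 6 n2181 = n3160 := rfl
theorem F9738 : act 1 n3160 = n2350 := d11_1 D3160 (iv D2350) (iv F6746)
theorem F9739 : act 2 n3160 = n2191 := d16_1 D3160 (iv D2191) (iv F6747)
theorem F9740 : act 3 n3160 = n2351 := d20_1 D3160 F7263 (iv F6748)
theorem F9741 : act 4 n3160 = n2182 := d23_1 D3160 (iv D2182) (iv F6749)
theorem F9742 : act 5 n3160 = n2342 := d25_1 D3160 (iv D2342) (iv D1598) F4648 D2181
def n3161 : Q := act 5 n2182
theorem D3161 : act 5 n2182 = n3161 := rfl
theorem F9743 : act 2 n3161 = n2192 := d15_1 D3161 (iv D2192) (iv F6751)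
theorem F9744 : act 4 n3161 = n2342 := d22_1 D3161 (iv F9742) F9741
theorem F9745 : act 6 n3161 = n2183 := d25_2 D2182 D3161 (iv D2183) (iv D1478) D1477
theorem F9746 : act 7 n2252 = n3161 := d27_0 F9745 (iv F6754) (iv D1535) (iv F4817) D2252
def n3162 : Q := act 7 n2182
theorem D3162 : act 7 n2182 = n3162 := rfl
theorem F9747 : act 1 n3162 = n2352 := d12_1 D3162 (iv D2352) (iv F6750)
theorem F9748 : act 2 n3162 = n2193 := d17_1 D3162 (iv D2193) (iv F6751)
theorem F9749 : act 5 n3162 = n2252 := d26_1 D3162 F9746 (iv D3161)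
theorem F9750 : act 3 n2338 = n3162 := d19_3 F9749 F6973 D2338
def n3163 : Q := act 1 n2186
theorem D3163 : act 1 n2186 = n3163 := rfl
theorem F9751 : act 0 n3163 = n2196 := d0_1 D3163 (iv D2196) F4685 (iv F4664) (iv F6765)
theorem F9752 : act 3 n3163 = n2440 := d8_2 (iv F6766) D3163 (iv D2440)
theorem F9753 : act 4 n3163 = n2187 := d9_2 (iv F6767) D3163 (iv D2187)
def n3164 : Q := act 6 n2186
theorem D3164 : act 6 n2186 = n3164 := rfl
theorem F9754 : act 0 n3164 = n2191 := d5_1 D3164 (iv D2191) (iv F6765)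
theorem F9755 : act 3 n3164 = n2438 := d20_1 D3164 F7506 (iv F6766)
theorem F9756 : act 4 n3164 = n2188 := d23_1 D3164 (iv D2188) (iv F6767)
theorem F9757 : act 5 n3164 = n2435 := d25_1 D3164 (iv D2435) (iv D1665) F4658 D2186
def n3165 : Q := act 2 n2187
theorem D3165 : act 2 n2187 = n3165 := rfl
theorem F9758 : act 0 n3165 = n2198 := d1_1 D3165 (iv D2198) (iv F6768)
def n3166 : Q := act 6 n2187
theorem D3166 : act 6 n2187 = n3166 := rfl
theorem F9759 : act 0 n3166 = n2199 := d5_1 D3166 (iv D2199) (iv F6768)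
theorem F9760 : act 1 n3166 = n2188 := d11_1 D3166 (iv D2188) D2187
theorem F9761 : act 3 n3166 = n3166 := d20_1 D3166 (iv D3166) F6769
def n3167 : Q := act 5 n2188
theorem D3167 : act 5 n2188 = n3167 := rfl
theorem F9762 : act 0 n3167 = n2192 := d4_1 D3167 (iv D2192) (iv F6770)
theorem F9763 : act 3 n3167 = n3167 := d19_1 D3167 (iv D3167) F6771
theorem F9764 : act 4 n3167 = n2435 := d22_1 D3167 (iv F9757) F9756
theorem F9765 : act 6 n3167 = n2189 := d25_2 D2188 D3167 (iv D2189) (iv D1482) D1481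
theorem F9766 : act 7 n2230 = n3167 := d27_0 F9765 (iv F6775) (iv D1520) (iv F4784) D2230
def n3168 : Q := act 7 n2188
theorem D3168 : act 7 n2188 = n3168 := rfl
theorem F9767 : act 0 n3168 = n2193 := d6_1 D3168 (iv D2193) (iv F6770)
theorem F9768 : act 5 n3168 = n2230 := d26_1 D3168 F9766 (iv D3167)
theorem F9769 : act 3 n2231 = n3168 := d19_3 F9768 F6907 D2231
def n3169 : Q := act 1 n2189
theorem D3169 : act 1 n2189 = n3169 := rfl
theorem F9770 : act 0 n3169 = n3169 := d0_1 D3169 (iv D3169) F6772 F4669 (iv F6772)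
theorem F9771 : act 3 n3169 = n3169 := d8_2 F6773 D3169 (iv D3169)
theorem F9772 : act 4 n3169 = n2434 := d9_2 (iv F6774) D3169 (iv D2434)
theorem F9773 : act 7 n3169 = n2224 := d12_2 F6775 D3169 F6889
def n3170 : Q := act 7 n2191
theorem D3170 : act 7 n2191 = n3170 := rfl
theorem F9774 : act 1 n3170 = n2204 := d12_1 D3170 (iv D2204) (iv F6780)
theorem F9775 : act 4 n3170 = n2193 := d24_1 D3170 (iv D2193) (iv F6782)
theorem F9776 : act 5 n3170 = n2253 := d26_1 D3170 F6976 (iv F6783)
def n3171 : Q := act 1 n2194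
theorem D3171 : act 1 n2194 = n3171 := rfl
theorem F9777 : act 0 n3171 = n2440 := d0_1 D3171 (iv D2440) F5188 (iv F4693) (iv F6792)
theorem F9778 : act 3 n3171 = n2196 := d8_2 (iv F6794) D3171 (iv D2196)
theorem F9779 : act 4 n3171 = n3171 := d9_2 F6795 D3171 (iv D3171)
def n3172 : Q := act 6 n2194
theorem D3172 : act 6 n2194 = n3172 := rfl
theorem F9780 : act 0 n3172 = n2201 := d5_1 D3172 (iv D2201) (iv F6792)
theorem F9781 : act 2 n3172 = n3172 := d16_1 D3172 (iv D3172) F6793
theorem F9782 : act 3 n3172 = n2197 := d20_1 D3172 (iv D2197) (iv F6794)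
theorem F9783 : act 4 n3172 = n3172 := d23_1 D3172 (iv D3172) F6795
theorem F9784 : act 5 n3172 = n3172 := d25_1 D3172 (iv D3172) (iv D2194) F4684 D2194
def n3173 : Q := act 7 n2194
theorem D3173 : act 7 n2194 = n3173 := rfl
theorem F9785 : act 0 n3173 = n2202 := d6_1 D3173 (iv D2202) (iv F6792)
theorem F9786 : act 2 n3173 = n3173 := d17_1 D3173 (iv D3173) F6793
theorem F9787 : act 3 n3173 = n3083 := d21_1 D3173 (iv F9508) F9313 F6411 (iv F6794)
theorem F9788 : act 4 n3173 = n3173 := d24_1 D3173 (iv D3173) F6795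
theorem F9789 : act 5 n3173 = n2195 := d26_1 D3173 (iv D2195) D2194
theorem F9790 : act 6 n3079 = n3173 := d20_0 F9787 (iv D3083) (iv F9492)
def n3174 : Q := act 6 n2195
theorem D3174 : act 6 n2195 = n3174 := rfl
theorem F9791 : act 0 n3174 = n2203 := d5_1 D3174 (iv D2203) (iv F6796)
theorem F9792 : act 2 n3174 = n3174 := d16_1 D3174 (iv D3174) F6797
theorem F9793 : act 4 n3174 = n3174 := d23_1 D3174 (iv D3174) F6798
theorem F9794 : act 7 n3174 = n3174 := d27_2 D2195 D3174 (iv D3174) (iv D2195) F4684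
def n3175 : Q := act 2 n2196
theorem D3175 : act 2 n2196 = n3175 := rfl
theorem F9795 : act 1 n3175 = n2362 := d7_1 D3175 (iv D2362) (iv D1616) (iv F4686) D2196
theorem F9796 : act 4 n3175 = n2198 := d14_2 (iv F6799) D3175 (iv D2198)
def n3176 : Q := act 6 n2196
theorem D3176 : act 6 n2196 = n3176 := rfl
theorem F9797 : act 1 n3176 = n2197 := d11_1 D3176 (iv D2197) D2196
theorem F9798 : act 4 n3176 = n2199 := d23_1 D3176 (iv D2199) (iv F6799)
def n3177 : Q := act 7 n2197
theorem D3177 : act 7 n2197 = n3177 := rfl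
theorem F9799 : act 0 n3177 = n2204 := d6_1 D3177 (iv D2204) (iv F6800)
theorem F9800 : act 2 n3177 = n2364 := d17_1 D3177 (iv D2364) (iv F6801)
theorem F9801 : act 4 n3177 = n2200 := d24_1 D3177 (iv D2200) (iv F6802)
theorem F9802 : act 5 n3177 = n3177 := d26_1 D3177 (iv D3177) F6803
def n3178 : Q := act 3 n2198
theorem D3178 : act 3 n2198 = n3178 := rfl
theorem F9803 : act 1 n3178 = n2365 := d8_1 D3178 (iv D2365) (iv F6804)
theorem F9804 : act 2 n3178 = n3178 := d13_1 D3178 (iv D3178) (iv D2198) F4688 D2198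
def n3179 : Q := act 6 n2198
theorem D3179 : act 6 n2198 = n3179 := rfl
theorem F9805 : act 1 n3179 = n2366 := d11_1 D3179 (iv D2366) (iv F6804)
theorem F9806 : act 2 n3179 = n2199 := d16_1 D3179 (iv D2199) D2198
def n3180 : Q := act 5 n2199
theorem D3180 : act 5 n2199 = n3180 := rfl
theorem F9807 : act 1 n3180 = n3180 := d10_1 D3180 (iv D3180) F6805 F4692 (iv F6805)
theorem F9808 : act 3 n3180 = n3180 := d19_1 D3180 (iv D3180) F6806
def n3181 : Q := act 7 n2199
theorem D3181 : act 7 n2199 = n3181 := rfl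
theorem F9809 : act 1 n3181 = n2200 := d12_1 D3181 (iv D2200) (iv F6805)
def n3182 : Q := act 3 n2200
theorem D3182 : act 3 n2200 = n3182 := rfl
theorem F9810 : act 0 n3182 = n2205 := d2_1 D3182 (iv D2205) (iv F6807)
theorem F9811 : act 5 n3182 = n3182 := d19_2 F6809 D3182 (iv D3182)
theorem F9812 : act 7 n3182 = n3182 := d21_2 D2200 D3182 (iv D3182) (iv D2200) F4691
def n3183 : Q := act 7 n2201
theorem D3183 : act 7 n2201 = n3183 := rfl
theorem F9813 : act 1 n3183 = n2443 := d12_1 D3183 (iv D2443) (iv F6810)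
theorem F9814 : act 2 n3183 = n3183 := d17_1 D3183 (iv D3183) F6811
theorem F9815 : act 4 n3183 = n3183 := d24_1 D3183 (iv D3183) F6813
theorem F9816 : act 5 n3183 = n3183 := d26_1 D3183 (iv D3183) F6814
theorem F9817 : act 6 n3183 = n3078 := d27_1 D3183 F9490 F6820 (iv D2202) D2201
def n3184 : Q := act 5 n2203
theorem D3184 : act 5 n2203 = n3184 := rfl
theorem F9818 : act 1 n3184 = n3184 := d10_1 D3184 (iv D3184) F6821 F4707 (iv F6821)
theorem F9819 : act 2 n3184 = n3184 := d15_1 D3184 (iv D3184) F6822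
theorem F9820 : act 3 n3184 = n3085 := d19_1 D3184 F9515 F9341
theorem F9821 : act 4 n3184 = n3184 := d22_1 D3184 (iv D3184) F6823
theorem F9822 : act 6 n3184 = n3080 := d25_2 D2203 D3184 (iv D3080) F6820 F6819
theorem F9823 : act 7 n3184 = n3184 := d26_2 F6824 D3184 (iv D3184)
def n3185 : Q := act 3 n2204
theorem D3185 : act 3 n2204 = n3185 := rfl
theorem F9824 : act 5 n3185 = n3185 := d19_2 F6827 D3185 (iv D3185)
def n3186 : Q := act 2 n2205
theorem D3186 : act 2 n2205 = n3186 := rfl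
theorem F9825 : act 1 n3186 = n2340 := d7_1 D3186 (iv D2340) (iv D1596) (iv F4822) (iv F6828)
theorem F9826 : act 3 n3186 = n2371 := d13_2 D2205 D3186 (iv D2371) (iv D1622) (iv F4703)
theorem F9827 : act 5 n3186 = n3186 := d15_2 F6829 D3186 (iv D3186)
theorem F9828 : act 7 n3186 = n3186 := d17_2 F6830 D3186 (iv D3186)
def n3187 : Q := act 4 n2205
theorem D3187 : act 4 n2205 = n3187 := rfl
theorem F9829 : act 1 n3187 = n2249 := d9_1 D3187 F6963 (iv F6828)
theorem F9830 : act 5 n3187 = n3187 := d22_2 F6829 D3187 (iv D3187)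
theorem F9831 : act 7 n3187 = n3187 := d24_2 F6830 D3187 (iv D3187)
def n3188 : Q := act 3 n2206
theorem D3188 : act 3 n2206 = n3188 := rfl
theorem F9832 : act 0 n3188 = n3188 := d2_1 D3188 (iv D3188) F6831
theorem F9833 : act 2 n3188 = n3188 := d13_1 D3188 (iv D3188) F6832 F4736 (iv F6832)
theorem F9834 : act 5 n3188 = n3188 := d19_2 F6834 D3188 (iv D3188)
theorem F9835 : act 7 n3188 = n3188 := d21_2 D2206 D3188 (iv D3188) (iv D2206) F4730
def n3189 : Q := act 6 n2206
theorem D3189 : act 6 n2206 = n3189 := rfl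
theorem F9836 : act 0 n3189 = n3189 := d5_1 D3189 (iv D3189) F6831
theorem F9837 : act 2 n3189 = n2207 := d16_1 D3189 (iv D2207) (iv F6832)
theorem F9838 : act 4 n3189 = n3189 := d23_1 D3189 (iv D3189) F6833
theorem F9839 : act 7 n3189 = n3189 := d27_2 D2206 D3189 (iv D3189) (iv D2206) F4733
def n3190 : Q := act 5 n2207
theorem D3190 : act 5 n2207 = n3190 := rfl
theorem F9840 : act 0 n3190 = n3190 := d4_1 D3190 (iv D3190) F6835
theorem F9841 : act 1 n3190 = n3190 := d10_1 D3190 (iv D3190) F6836 F4741 (iv F6836)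
theorem F9842 : act 3 n3190 = n3190 := d19_1 D3190 (iv D3190) F6837
theorem F9843 : act 4 n3190 = n3190 := d22_1 D3190 (iv D3190) F6838
theorem F9844 : act 6 n3190 = n3190 := d25_2 D2207 D3190 (iv D3190) (iv D2207) F4738
theorem F9845 : act 7 n3190 = n3190 := d26_2 F6839 D3190 (iv D3190)
def n3191 : Q := act 2 n2208
theorem D3191 : act 2 n2208 = n3191 := rfl
theorem F9846 : act 0 n3191 = n3191 := d1_1 D3191 (iv D3191) F6840
theorem F9847 : act 6 n3191 = n3191 := d16_2 F6842 D3191 (iv D3191)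
def n3192 : Q := act 1 n2209
theorem D3192 : act 1 n2209 = n3192 := rfl
theorem F9848 : act 3 n3192 = n3192 := d8_2 F6844 D3192 (iv D3192)
theorem F9849 : act 6 n3192 = n3192 := d11_2 F6846 D3192 (iv D3192)
def n3193 : Q := act 5 n2210
theorem D3193 : act 5 n2210 = n3193 := rfl
theorem F9850 : act 0 n3193 = n3193 := d4_1 D3193 (iv D3193) F6847
theorem F9851 : act 2 n3193 = n2213 := d15_1 D3193 (iv D2213) (iv F6849)
theorem F9852 : act 4 n3193 = n2211 := d22_1 D3193 (iv D2211) D2210
def n3194 : Q := act 7 n2210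
theorem D3194 : act 7 n2210 = n3194 := rfl
theorem F9853 : act 0 n3194 = n3194 := d6_1 D3194 (iv D3194) F6847
theorem F9854 : act 1 n3194 = n2295 := d12_1 D3194 (iv D2295) (iv F6848)
theorem F9855 : act 2 n3194 = n2214 := d17_1 D3194 (iv D2214) (iv F6849)
theorem F9856 : act 4 n3194 = n2212 := d24_1 D3194 (iv D2212) D2210
def n3195 : Q := act 1 n2211
theorem D3195 : act 1 n2211 = n3195 := rfl
theorem F9857 : act 3 n3195 = n3195 := d8_2 F6853 D3195 (iv D3195)
theorem F9858 : act 5 n3195 = n2296 := d10_2 D2211 D3195 (iv D2296) (iv D1567) (iv F4754)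
def n3196 : Q := act 6 n2211
theorem D3196 : act 6 n2211 = n3196 := rfl
theorem F9859 : act 0 n3196 = n3196 := d5_1 D3196 (iv D3196) F6851
theorem F9860 : act 2 n3196 = n2215 := d16_1 D3196 (iv D2215) (iv F6852)
theorem F9861 : act 3 n3196 = n3196 := d20_1 D3196 (iv D3196) F6853
theorem F9862 : act 5 n3196 = n3196 := d25_1 D3196 (iv D3196) (iv D2211) F4756 D2211
def n3197 : Q := act 7 n2211
theorem D3197 : act 7 n2211 = n3197 := rfl
theorem F9863 : act 0 n3197 = n3197 := d6_1 D3197 (iv D3197) F6851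
theorem F9864 : act 2 n3197 = n2216 := d17_1 D3197 (iv D2216) (iv F6852)
theorem F9865 : act 5 n3197 = n2212 := d26_1 D3197 (iv D2212) D2211
def n3198 : Q := act 3 n2212
theorem D3198 : act 3 n2212 = n3198 := rfl
theorem F9866 : act 0 n3198 = n3198 := d2_1 D3198 (iv D3198) F6854
theorem F9867 : act 1 n3198 = n2298 := d8_1 D3198 (iv D2298) (iv F6855)
theorem F9868 : act 7 n3198 = n3198 := d21_2 D2212 D3198 (iv D3198) (iv D2212) F4755
def n3199 : Q := act 6 n2212
theorem D3199 : act 6 n2212 = n3199 := rfl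
theorem F9869 : act 0 n3199 = n3199 := d5_1 D3199 (iv D3199) F6854
theorem F9870 : act 1 n3199 = n2299 := d11_1 D3199 (iv D2299) (iv F6855)
theorem F9871 : act 2 n3199 = n2218 := d16_1 D3199 (iv D2218) (iv F6856)
theorem F9872 : act 7 n3199 = n3199 := d27_2 D2212 D3199 (iv D3199) (iv D2212) F4756
def n3200 : Q := act 6 n2213
theorem D3200 : act 6 n2213 = n3200 := rfl
theorem F9873 : act 0 n3200 = n3200 := d5_1 D3200 (iv D3200) F6857
theorem F9874 : act 3 n3200 = n3200 := d20_1 D3200 (iv D3200) F6858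
theorem F9875 : act 4 n3200 = n2215 := d23_1 D3200 (iv D2215) (iv F6859)
theorem F9876 : act 5 n3200 = n3200 := d25_1 D3200 (iv D3200) (iv D2213) F4760 D2213
def n3201 : Q := act 7 n2213
theorem D3201 : act 7 n2213 = n3201 := rfl
theorem F9877 : act 0 n3201 = n3201 := d6_1 D3201 (iv D3201) F6857
theorem F9878 : act 4 n3201 = n2216 := d24_1 D3201 (iv D2216) (iv F6859)
theorem F9879 : act 5 n3201 = n2214 := d26_1 D3201 (iv D2214) D2213
def n3202 : Q := act 3 n2214
theorem D3202 : act 3 n2214 = n3202 := rfl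
theorem F9880 : act 0 n3202 = n3202 := d2_1 D3202 (iv D3202) F6860
theorem F9881 : act 1 n3202 = n2226 := d8_1 D3202 (iv D2226) (iv F6861)
theorem F9882 : act 7 n3202 = n3202 := d21_2 D2214 D3202 (iv D3202) (iv D2214) F4759
def n3203 : Q := act 6 n2214
theorem D3203 : act 6 n2214 = n3203 := rfl
theorem F9883 : act 0 n3203 = n3203 := d5_1 D3203 (iv D3203) F6860
theorem F9884 : act 1 n3203 = n2227 := d11_1 D3203 (iv D2227) (iv F6861)
theorem F9885 : act 4 n3203 = n2218 := d23_1 D3203 (iv D2218) (iv F6862)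
theorem F9886 : act 7 n3203 = n3203 := d27_2 D2214 D3203 (iv D3203) (iv D2214) F4760
def n3204 : Q := act 7 n2215
theorem D3204 : act 7 n2215 = n3204 := rfl
theorem F9887 : act 0 n3204 = n3204 := d6_1 D3204 (iv D3204) F6863
theorem F9888 : act 5 n3204 = n3204 := d26_1 D3204 (iv D3204) F6865
def n3205 : Q := act 3 n2216
theorem D3205 : act 3 n2216 = n3205 := rfl
theorem F9889 : act 0 n3205 = n3205 := d2_1 D3205 (iv D3205) F6866
theorem F9890 : act 5 n3205 = n2217 := d19_2 (iv F6867) D3205 (iv D2217)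
theorem F9891 : act 7 n3205 = n2220 := d21_2 D2216 D3205 (iv D2220) (iv D1512) (iv F4762)
def n3206 : Q := act 6 n2216
theorem D3206 : act 6 n2216 = n3206 := rfl
theorem F9892 : act 0 n3206 = n3206 := d5_1 D3206 (iv D3206) F6866
def n3207 : Q := act 2 n2217
theorem D3207 : act 2 n2217 = n3207 := rfl
theorem F9893 : act 0 n3207 = n3207 := d1_1 D3207 (iv D3207) F6868
theorem F9894 : act 7 n3207 = n2222 := d17_2 (iv F6870) D3207 (iv D2222)
def n3208 : Q := act 4 n2217
theorem D3208 : act 4 n2217 = n3208 := rfl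
theorem F9895 : act 0 n3208 = n3208 := d3_1 D3208 (iv D3208) F6868
theorem F9896 : act 1 n3208 = n2229 := d9_1 D3208 (iv D2229) (iv F6869)
theorem F9897 : act 7 n3208 = n2223 := d24_2 (iv F6870) D3208 (iv D2223)
def n3209 : Q := act 6 n2217
theorem D3209 : act 6 n2217 = n3209 := rfl
theorem F9898 : act 0 n3209 = n3209 := d5_1 D3209 (iv D3209) F6868
theorem F9899 : act 1 n3209 = n2230 := d11_1 D3209 (iv D2230) (iv F6869)
theorem F9900 : act 3 n3209 = n2218 := d20_1 D3209 (iv D2218) D2217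
def n3210 : Q := act 5 n2218
theorem D3210 : act 5 n2218 = n3210 := rfl
theorem F9901 : act 0 n3210 = n3210 := d4_1 D3210 (iv D3210) F6871
theorem F9902 : act 7 n3210 = n3210 := d26_2 F6873 D3210 (iv D3210)
def n3211 : Q := act 3 n2219
theorem D3211 : act 3 n2219 = n3211 := rfl
theorem F9903 : act 0 n3211 = n3211 := d2_1 D3211 (iv D3211) F6874
theorem F9904 : act 5 n3211 = n3211 := d19_2 F6877 D3211 (iv D3211)
def n3212 : Q := act 6 n2219
theorem D3212 : act 6 n2219 = n3212 := rfl
theorem F9905 : act 0 n3212 = n3212 := d5_1 D3212 (iv D3212) F6874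
theorem F9906 : act 1 n3212 = n2504 := d11_1 D3212 F9095 F9092
theorem F9907 : act 2 n3212 = n3212 := d16_1 D3212 (iv D3212) F6875
theorem F9908 : act 4 n3212 = n3212 := d23_1 D3212 (iv D3212) F6876
theorem F9909 : act 7 n3212 = n2221 := d27_2 D2219 D3212 (iv D2221) (iv D1512) D1511
theorem F9910 : act 5 n2491 = n3212 := d10_0 F9906 (iv D2504) (iv D1716) (iv F5315) D2491
def n3213 : Q := act 2 n2220
theorem D3213 : act 2 n2220 = n3213 := rfl
theorem F9911 : act 0 n3213 = n3213 := d1_1 D3213 (iv D3213) F6878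
theorem F9912 : act 3 n3213 = n3213 := d13_2 D2220 D3213 (iv D3213) (iv D2220) F4770
theorem F9913 : act 5 n3213 = n2222 := d15_2 (iv F6879) D3213 (iv D2222)
def n3214 : Q := act 4 n2220
theorem D3214 : act 4 n2220 = n3214 := rfl
theorem F9914 : act 0 n3214 = n3214 := d3_1 D3214 (iv D3214) F6878
theorem F9915 : act 3 n3214 = n3214 := d18_1 D3214 (iv D3214) (iv D2220) F4771 D2220
theorem F9916 : act 5 n3214 = n2223 := d22_2 (iv F6879) D3214 (iv D2223)
def n3215 : Q := act 6 n2220
theorem D3215 : act 6 n2220 = n3215 := rfl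
theorem F9917 : act 0 n3215 = n3215 := d5_1 D3215 (iv D3215) F6878
theorem F9918 : act 3 n3215 = n2221 := d20_1 D3215 (iv D2221) D2220
def n3216 : Q := act 5 n2221
theorem D3216 : act 5 n2221 = n3216 := rfl
theorem F9919 : act 0 n3216 = n3216 := d4_1 D3216 (iv D3216) F6880
theorem F9920 : act 1 n3216 = n2493 := d10_1 D3216 F7695 (iv F7737) F9103 F9099
theorem F9921 : act 2 n3216 = n3216 := d15_1 D3216 (iv D3216) F6881
theorem F9922 : act 4 n3216 = n3216 := d22_1 D3216 (iv D3216) F6882
theorem F9923 : act 6 n3216 = n2225 := d25_2 D2221 D3216 (iv D2225) (iv D1514) (iv F4772)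
theorem F9924 : act 7 n3216 = n2491 := d26_2 F9909 D3216 F9910
def n3217 : Q := act 1 n2222
theorem D3217 : act 1 n2222 = n3217 := rfl
theorem F9925 : act 2 n3217 = n2232 := d7_2 D2222 D3217 (iv D2232) (iv D1518) (iv F4774)
theorem F9926 : act 3 n3217 = n3217 := d8_2 F6884 D3217 (iv D3217)
def n3218 : Q := act 4 n2222
theorem D3218 : act 4 n2222 = n3218 := rfl
theorem F9927 : act 0 n3218 = n3218 := d3_1 D3218 (iv D3218) F6883
theorem F9928 : act 2 n3218 = n2223 := d14_1 D3218 (iv D2223) D2222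
def n3219 : Q := act 6 n2222
theorem D3219 : act 6 n2222 = n3219 := rfl
theorem F9929 : act 0 n3219 = n3219 := d5_1 D3219 (iv D3219) F6883
theorem F9930 : act 2 n3219 = n2224 := d16_1 D3219 (iv D2224) D2222
theorem F9931 : act 3 n3219 = n3219 := d20_1 D3219 (iv D3219) F6884
def n3220 : Q := act 6 n2223
theorem D3220 : act 6 n2223 = n3220 := rfl
theorem F9932 : act 0 n3220 = n3220 := d5_1 D3220 (iv D3220) F6885
theorem F9933 : act 1 n3220 = n2235 := d11_1 D3220 (iv D2235) (iv F6886)
theorem F9934 : act 3 n3220 = n3220 := d20_1 D3220 (iv D3220) F6887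
theorem F9935 : act 4 n3220 = n2224 := d23_1 D3220 (iv D2224) D2223
theorem F9936 : act 7 n2434 = n3220 := d24_0 F9935 (iv F9773) F9772
def n3221 : Q := act 5 n2224
theorem D3221 : act 5 n2224 = n3221 := rfl
theorem F9937 : act 0 n3221 = n3221 := d4_1 D3221 (iv D3221) F6888
theorem F9938 : act 3 n3221 = n2225 := d19_1 D3221 (iv D2225) (iv F6890)
def n3222 : Q := act 1 n2225
theorem D3222 : act 1 n2225 = n3222 := rfl
theorem F9939 : act 4 n3222 = n3222 := d9_2 F6893 D3222 (iv D3222)
theorem F9940 : act 5 n3222 = n2236 := d10_2 D2225 D3222 (iv D2236) (iv D1521) (iv F4776)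
theorem F9941 : act 6 n3222 = n2493 := d11_2 F9923 D3222 (iv F9920)
theorem F9942 : act 7 n3222 = n3222 := d12_2 F6894 D3222 (iv D3222)
theorem F9943 : act 0 n2499 = n3222 := d5_3 F9941 F7692 D2499
theorem F9944 : act 2 n2495 = n3222 := d16_3 F9941 F7693 D2495
def n3223 : Q := act 2 n2226
theorem D3223 : act 2 n2226 = n3223 := rfl
theorem F9945 : act 0 n3223 = n2246 := d1_1 D3223 (iv D2246) (iv F6895)
theorem F9946 : act 3 n3223 = n2309 := d13_2 D2226 D3223 (iv D2309) (iv D1575) (iv F4781)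
theorem F9947 : act 5 n3223 = n2863 := d15_2 F9114 D3223 F9116
theorem F9948 : act 7 n3223 = n3223 := d17_2 F6896 D3223 (iv D3223)
theorem F9949 : act 4 n2864 = n3223 := d22_3 F9947 (iv D2863) D2864
def n3224 : Q := act 4 n2226
theorem D3224 : act 4 n2226 = n3224 := rfl
theorem F9950 : act 0 n3224 = n2247 := d3_1 D3224 (iv D2247) (iv F6895)
theorem F9951 : act 2 n3224 = n2864 := d14_1 D3224 F9949 (iv D3223)
theorem F9952 : act 3 n3224 = n2229 := d18_1 D3224 (iv D2229) (iv D1516) (iv F4782) D2226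
theorem F9953 : act 5 n3224 = n2856 := d22_2 F9114 D3224 F9117
theorem F9954 : act 7 n3224 = n3224 := d24_2 F6896 D3224 (iv D3224)
def n3225 : Q := act 6 n2226
theorem D3225 : act 6 n2226 = n3225 := rfl
theorem F9955 : act 0 n3225 = n2248 := d5_1 D3225 (iv D2248) (iv F6895)
theorem F9956 : act 3 n3225 = n2227 := d20_1 D3225 (iv D2227) D2226
def n3226 : Q := act 5 n2227
theorem D3226 : act 5 n2227 = n3226 := rfl
theorem F9957 : act 0 n3226 = n2249 := d4_1 D3226 (iv D2249) (iv F6897)
theorem F9958 : act 2 n3226 = n2311 := d15_1 D3226 (iv D2311) (iv F6898)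
theorem F9959 : act 4 n3226 = n2231 := d22_1 D3226 (iv D2231) (iv F6899)
theorem F9960 : act 7 n3226 = n3226 := d26_2 F6900 D3226 (iv D3226)
def n3227 : Q := act 1 n2228
theorem D3227 : act 1 n2228 = n3227 := rfl
theorem F9961 : act 3 n3227 = n2312 := d8_2 (iv F6902) D3227 (iv D2312)
theorem F9962 : act 7 n3227 = n2232 := d12_2 (iv F6903) D3227 (iv D2232)
def n3228 : Q := act 4 n2228
theorem D3228 : act 4 n2228 = n3228 := rfl
theorem F9963 : act 0 n3228 = n2251 := d3_1 D3228 (iv D2251) (iv F6901)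
theorem F9964 : act 2 n3228 = n2229 := d14_1 D3228 (iv D2229) D2228
theorem F9965 : act 3 n3228 = n2995 := d18_1 D3228 F9689 (iv D3146) F6704 (iv F6902)
theorem F9966 : act 5 n3228 = n2988 := d22_2 F9123 D3228 F9214
theorem F9967 : act 7 n3228 = n2233 := d24_2 (iv F6903) D3228 (iv D2233)
def n3229 : Q := act 6 n2228
theorem D3229 : act 6 n2228 = n3229 := rfl
theorem F9968 : act 0 n3229 = n2252 := d5_1 D3229 (iv D2252) (iv F6901)
theorem F9969 : act 2 n3229 = n2230 := d16_1 D3229 (iv D2230) D2228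
theorem F9970 : act 3 n3229 = n2313 := d20_1 D3229 (iv D2313) (iv F6902)
def n3230 : Q := act 6 n2229
theorem D3230 : act 6 n2229 = n3230 := rfl
theorem F9971 : act 0 n3230 = n2253 := d5_1 D3230 (iv D2253) (iv F6904)
theorem F9972 : act 4 n3230 = n2230 := d23_1 D3230 (iv D2230) D2229
theorem F9973 : act 7 n3230 = n2435 := d27_2 (iv F6905) D3230 (iv D2435) F6921 (iv D2235)
def n3231 : Q := act 1 n2231
theorem D3231 : act 1 n2231 = n3231 := rfl
theorem F9974 : act 7 n3231 = n3231 := d12_2 F6910 D3231 (iv D3231)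
def n3232 : Q := act 0 n2232
theorem D3232 : act 0 n2232 = n3232 := rfl
theorem F9975 : act 1 n3232 = n2254 := d0_2 D2232 D3232 (iv D2254) (iv D1533) (iv F4788)
theorem F9976 : act 3 n3232 = n2237 := d2_2 (iv F6911) D3232 (iv D2237)
def n3233 : Q := act 4 n2232
theorem D3233 : act 4 n2232 = n3233 := rfl
theorem F9977 : act 1 n3233 = n2233 := d9_1 D3233 (iv D2233) D2232
def n3234 : Q := act 5 n2232
theorem D3234 : act 5 n2232 = n3234 := rfl
theorem F9978 : act 3 n3234 = n2239 := d19_1 D3234 (iv D2239) (iv F6911)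
def n3235 : Q := act 6 n2232
theorem D3235 : act 6 n2232 = n3235 := rfl
theorem F9979 : act 1 n3235 = n2234 := d11_1 D3235 (iv D2234) D2232
theorem F9980 : act 3 n3235 = n2240 := d20_1 D3235 (iv D2240) (iv F6911)
def n3236 : Q := act 3 n2233
theorem D3236 : act 3 n2233 = n3236 := rfl
theorem F9981 : act 0 n3236 = n2257 := d2_1 D3236 (iv D2257) (iv F6912)
theorem F9982 : act 2 n3236 = n3236 := d13_1 D3236 (iv D3236) F6913 F4791 (iv F6913)
theorem F9983 : act 4 n3236 = n2241 := d18_2 D2233 D3236 (iv D2241) (iv D1523) (iv F4789)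
theorem F9984 : act 5 n3236 = n3149 := d19_2 F9137 D3236 F9699
theorem F9985 : act 7 n3236 = n3152 := d21_2 F9967 D3236 F9713 (iv F9239) (iv F9965)
def n3237 : Q := act 6 n2233
theorem D3237 : act 6 n2233 = n3237 := rfl
theorem F9986 : act 0 n3237 = n2258 := d5_1 D3237 (iv D2258) (iv F6912)
theorem F9987 : act 2 n3237 = n2235 := d16_1 D3237 (iv D2235) (iv F6913)
theorem F9988 : act 4 n3237 = n2234 := d23_1 D3237 (iv D2234) D2233
theorem F9989 : act 5 n2336 = n3237 := d22_0 F9988 (iv F9736) F9735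
theorem F9990 : act 7 n2341 = n3237 := d24_0 F9988 F9732 F9731
def n3238 : Q := act 2 n2236
theorem D3238 : act 2 n2236 = n3238 := rfl
theorem F9991 : act 0 n3238 = n2501 := d1_1 D3238 F8676 F8670
theorem F9992 : act 1 n3238 = n2245 := d7_1 D3238 (iv D2245) (iv D1526) (iv F4795) D2236
theorem F9993 : act 4 n3238 = n3238 := d14_2 F6922 D3238 (iv D3238)
theorem F9994 : act 5 n3238 = n2495 := d15_2 F9940 D3238 F9944
theorem F9995 : act 6 n3238 = n2513 := d16_2 F9155 D3238 F9156
theorem F9996 : act 7 n3238 = n3238 := d17_2 F6923 D3238 (iv D3238)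
def n3239 : Q := act 5 n2237
theorem D3239 : act 5 n2237 = n3239 := rfl
theorem F9997 : act 0 n3239 = n2239 := d4_1 D3239 (iv D2239) D2237
theorem F9998 : act 2 n3239 = n3239 := d15_1 D3239 (iv D3239) F6925
theorem F9999 : act 7 n3239 = n2319 := d26_2 (iv F6926) D3239 (iv D2319)
def n3240 : Q := act 3 n2238
theorem D3240 : act 3 n2238 = n3240 := rfl
theorem F10000 : act 0 n3240 = n3235 := d2_1 D3240 F9980 F6933
theorem F10001 : act 1 n3240 = n2241 := d8_1 D3240 (iv D2241) (iv F6927)
theorem F10002 : act 6 n3240 = n3232 := d20_2 F6930 D3240 F9976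
def n3241 : Q := act 5 n2238
theorem D3241 : act 5 n2238 = n3241 := rfl
theorem F10003 : act 2 n3241 = n3241 := d15_1 D3241 (iv D3241) F6928
theorem F10004 : act 4 n3241 = n2239 := d22_1 D3241 (iv D2239) D2238
theorem F10005 : act 7 n3241 = n2322 := d26_2 (iv F6929) D3241 (iv D2322)
def n3242 : Q := act 6 n2239
theorem D3242 : act 6 n2239 = n3242 := rfl
theorem F10006 : act 2 n3242 = n3242 := d16_1 D3242 (iv D3242) F6931
def n3243 : Q := act 5 n2240
theorem D3243 : act 5 n2240 = n3243 := rfl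
theorem F10007 : act 0 n3243 = n3241 := d4_1 D3243 (iv D3241) (iv F6933)
theorem F10008 : act 2 n3243 = n3243 := d15_1 D3243 (iv D3243) F6935
theorem F10009 : act 4 n3243 = n3239 := d22_1 D3243 (iv D3239) (iv F6936)
def n3244 : Q := act 7 n2241
theorem D3244 : act 7 n2241 = n3244 := rfl
theorem F10010 : act 0 n3244 = n2261 := d6_1 D3244 (iv D2261) (iv F6937)
theorem F10011 : act 2 n3244 = n3244 := d17_1 D3244 (iv D3244) F6938
theorem F10012 : act 3 n3244 = n2327 := d21_1 D3244 (iv D2327) (iv D1585) (iv F4802) D2241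
theorem F10013 : act 4 n3244 = n3152 := d24_1 D3244 (iv F9985) F9983
theorem F10014 : act 5 n3244 = n2328 := d26_1 D3244 (iv F9167) F9166
def n3245 : Q := act 1 n2242
theorem D3245 : act 1 n2242 = n3245 := rfl
def n3246 : Q := act 2 n2243
theorem D3246 : act 2 n2243 = n3246 := rfl
theorem F10015 : act 5 n3246 = n3246 := d15_2 F6942 D3246 (iv D3246)
def n3247 : Q := act 2 n2244
theorem D3247 : act 2 n2244 = n3247 := rfl
theorem F10016 : act 0 n3247 = n2245 := d1_1 D3247 (iv D2245) D2244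
theorem F10017 : act 4 n3247 = n3247 := d14_2 F6944 D3247 (iv D3247)
theorem F10018 : act 5 n3247 = n3247 := d15_2 F6945 D3247 (iv D3247)
theorem F10019 : act 7 n3247 = n3247 := d17_2 F6946 D3247 (iv D3247)
def n3248 : Q := act 3 n2245
theorem D3248 : act 3 n2245 = n3248 := rfl
theorem F10020 : act 5 n3248 = n3248 := d19_2 F6948 D3248 (iv D3248)
def n3249 : Q := act 6 n2246
theorem D3249 : act 6 n2246 = n3249 := rfl
theorem F10021 : act 1 n3249 = n2876 := d11_1 D3249 (iv D2876) F6953
theorem F10022 : act 2 n3249 = n2248 := d16_1 D3249 (iv D2248) D2246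
theorem F10023 : act 3 n3249 = n2333 := d20_1 D3249 (iv D2333) (iv F6950)
theorem F10024 : act 4 n3249 = n2867 := d23_1 D3249 (iv D2867) F6954
def n3250 : Q := act 6 n2247
theorem D3250 : act 6 n2247 = n3250 := rfl
theorem F10025 : act 1 n3250 = n3250 := d11_1 D3250 (iv D3250) F6955
theorem F10026 : act 2 n3250 = n2867 := d16_1 D3250 (iv D2867) (iv F6956)
theorem F10027 : act 3 n3250 = n2253 := d20_1 D3250 (iv D2253) (iv F6957)
theorem F10028 : act 4 n3250 = n2248 := d23_1 D3250 (iv D2248) D2247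
theorem F10029 : act 7 n2444 = n3250 := d30_29 (iv D3250) F6958 (iv D1952) (iv D1325) (iv D898) (iv D609) (iv F1434) F1336 (iv D264) F483 F484 (iv F851) (iv F1570) (iv D469) (iv F1551) (iv F2313) (iv F3326) (iv F4676) (iv F6787) (iv D2192) F4667 F3207 F2421 D783 F2539 F2538 (iv F3628) (iv F5199) D2444
def n3251 : Q := act 5 n2248
theorem D3251 : act 5 n2248 = n3251 := rfl
theorem F10030 : act 3 n3251 = n2249 := d19_1 D3251 (iv D2249) (iv F6961)
def n3252 : Q := act 7 n2248
theorem D3252 : act 7 n2248 = n3252 := rfl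
theorem F10031 : act 1 n3252 = n3252 := d12_1 D3252 (iv D3252) F6960
theorem F10032 : act 3 n3252 = n3252 := d21_1 D3252 (iv D3252) F6961 F4815 (iv F6961)
theorem F10033 : act 4 n3252 = n2444 := d24_1 D3252 F10029 F10028
theorem F10034 : act 6 n3252 = n3252 := d27_1 D3252 (iv D3252) (iv D2248) F4811 D2248
def n3253 : Q := act 0 n2250
theorem D3253 : act 0 n2250 = n3253 := rfl
theorem F10035 : act 2 n3253 = n3253 := d1_2 F6965 D3253 (iv D3253)
theorem F10036 : act 3 n3253 = n2336 := d2_2 (iv F6966) D3253 (iv D2336)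
theorem F10037 : act 7 n3253 = n2254 := d6_2 (iv F6967) D3253 (iv D2254)
def n3254 : Q := act 6 n2250
theorem D3254 : act 6 n2250 = n3254 := rfl
theorem F10038 : act 1 n3254 = n2252 := d11_1 D3254 (iv D2252) D2250
theorem F10039 : act 2 n3254 = n3254 := d16_1 D3254 (iv D3254) F6965
theorem F10040 : act 3 n3254 = n2337 := d20_1 D3254 (iv D2337) (iv F6966)
theorem F10041 : act 5 n3254 = n3150 := d25_1 D3254 (iv D3150) (iv F6990) (iv F6992) (iv F6982)
def n3255 : Q := act 6 n2251
theorem D3255 : act 6 n2251 = n3255 := rfl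
theorem F10042 : act 2 n3255 = n2253 := d16_1 D3255 (iv D2253) (iv F6968)
theorem F10043 : act 3 n3255 = n2998 := d20_1 D3255 (iv D2998) (iv F6969)
theorem F10044 : act 4 n3255 = n2252 := d23_1 D3255 (iv D2252) D2251
theorem F10045 : act 7 n3255 = n2342 := d27_2 (iv F6971) D3255 (iv D2342) F6998 (iv D2258)
def n3256 : Q := act 4 n2254
theorem D3256 : act 4 n2254 = n3256 := rfl
theorem F10046 : act 0 n3256 = n2255 := d3_1 D3256 (iv D2255) D2254
theorem F10047 : act 2 n3256 = n3256 := d14_1 D3256 (iv D3256) F6977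
theorem F10048 : act 3 n3256 = n3237 := d18_1 D3256 F9988 F6916 (iv F4835) (iv F6978)
theorem F10049 : act 6 n3256 = n3236 := d23_2 (iv F6979) D3256 F9983
theorem F10050 : act 5 n3253 = n3256 := d19_0 F10048 (iv F9989) (iv F10036)
def n3257 : Q := act 5 n2254
theorem D3257 : act 5 n2254 = n3257 := rfl
theorem F10051 : act 0 n3257 = n2256 := d4_1 D3257 (iv D2256) D2254
theorem F10052 : act 2 n3257 = n3257 := d15_1 D3257 (iv D3257) F6977
theorem F10053 : act 3 n3257 = n2259 := d19_1 D3257 (iv D2259) (iv F6978)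
theorem F10054 : act 4 n3257 = n3253 := d22_1 D3257 F10050 (iv D3256)
theorem F10055 : act 7 n3257 = n3256 := d26_2 F10037 D3257 (iv F10050)
def n3258 : Q := act 6 n2256
theorem D3258 : act 6 n2256 = n3258 := rfl
theorem F10056 : act 1 n3258 = n3255 := d11_1 D3258 (iv D3255) (iv F6983)
theorem F10057 : act 2 n3258 = n3258 := d16_1 D3258 (iv D3258) F6984
theorem F10058 : act 3 n3258 = n2260 := d20_1 D3258 (iv D2260) (iv F6985)
theorem F10059 : act 4 n3258 = n3254 := d23_1 D3258 (iv D3254) (iv F6986)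
theorem F10060 : act 5 n3258 = n2999 := d25_1 D3258 (iv D2999) F6347 F4842 D2256
theorem F10061 : act 7 n3258 = n3154 := d27_2 (iv F6987) D3258 (iv D3154) (iv F6991) (iv F6992)
def n3259 : Q := act 1 n2259
theorem D3259 : act 1 n2259 = n3259 := rfl
theorem F10062 : act 4 n3259 = n3245 := d9_2 (iv F7001) D3259 (iv D3245)
theorem F10063 : act 7 n3259 = n2345 := d12_2 (iv F7002) D3259 (iv D2345)
def n3260 : Q := act 6 n2259
theorem D3260 : act 6 n2259 = n3260 := rfl
theorem F10064 : act 0 n3260 = n2260 := d5_1 D3260 (iv D2260) (iv F6999)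
theorem F10065 : act 2 n3260 = n2264 := d16_1 D3260 (iv D2264) (iv F7000)
theorem F10066 : act 4 n3260 = n2975 := d23_1 D3260 F9174 (iv F7001)
theorem F10067 : act 5 n3260 = n2974 := d25_1 D3260 (iv D2974) F6282 (iv F4836) D2259
def n3261 : Q := act 6 n2261
theorem D3261 : act 6 n2261 = n3261 := rfl
theorem F10068 : act 1 n3261 = n3161 := d11_1 D3261 F9745 (iv F7006)
theorem F10069 : act 2 n3261 = n3261 := d16_1 D3261 (iv D3261) F7007
theorem F10070 : act 3 n3261 = n2353 := d20_1 D3261 (iv D2353) (iv F7008)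
theorem F10071 : act 4 n3261 = n3154 := d23_1 D3261 (iv D3154) (iv F7009)
theorem F10072 : act 7 n3261 = n3254 := d27_2 D2261 D3261 (iv D3254) F6967 (iv F4842)
def n3262 : Q := act 1 n2262
theorem D3262 : act 1 n2262 = n3262 := rfl
theorem F10073 : act 4 n3262 = n3262 := d9_2 F7012 D3262 (iv D3262)
theorem F10074 : act 7 n3262 = n3262 := d12_2 F7014 D3262 (iv D3262)
def n3263 : Q := act 2 n2263
theorem D3263 : act 2 n2263 = n3263 := rfl
theorem F10075 : act 0 n3263 = n2270 := d1_1 D3263 (iv D2270) (iv F7015)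
theorem F10076 : act 4 n3263 = n3246 := d14_2 (iv F7017) D3263 (iv D3246)
theorem F10077 : act 5 n3263 = n3263 := d15_2 F7018 D3263 (iv D3263)
theorem F10078 : act 7 n3263 = n2356 := d17_2 (iv F7019) D3263 (iv D2356)
def n3264 : Q := act 6 n2263
theorem D3264 : act 6 n2263 = n3264 := rfl
theorem F10079 : act 0 n3264 = n2271 := d5_1 D3264 (iv D2271) (iv F7015)
theorem F10080 : act 1 n3264 = n2264 := d11_1 D3264 (iv D2264) D2263
theorem F10081 : act 3 n3264 = n3264 := d20_1 D3264 (iv D3264) F7016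
theorem F10082 : act 4 n3264 = n2977 := d23_1 D3264 F9180 (iv F7017)
def n3265 : Q := act 3 n2265
theorem D3265 : act 3 n2265 = n3265 := rfl
theorem F10083 : act 0 n3265 = n3265 := d2_1 D3265 (iv D3265) F7024
theorem F10084 : act 1 n3265 = n2266 := d8_1 D3265 (iv D2266) D2265
theorem F10085 : act 6 n3265 = n2279 := d20_2 (iv F7027) D3265 (iv D2279)
def n3266 : Q := act 5 n2265
theorem D3266 : act 5 n2265 = n3266 := rfl
theorem F10086 : act 0 n3266 = n3266 := d4_1 D3266 (iv D3266) F7024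
theorem F10087 : act 2 n3266 = n3266 := d15_1 D3266 (iv D3266) F7025
theorem F10088 : act 4 n3266 = n3266 := d22_1 D3266 (iv D3266) F7026
theorem F10089 : act 7 n3266 = n3266 := d26_2 F7028 D3266 (iv D3266)
def n3267 : Q := act 4 n2266
theorem D3267 : act 4 n2266 = n3267 := rfl
theorem F10090 : act 0 n3267 = n2267 := d3_1 D3267 (iv D2267) (iv F7029)
theorem F10091 : act 2 n3267 = n2872 := d14_1 D3267 F8883 (iv F7030)
theorem F10092 : act 3 n3267 = n3267 := d18_1 D3267 (iv D3267) (iv D2266) F4860 D2266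
theorem F10093 : act 5 n3267 = n2422 := d22_2 F9536 D3267 (iv F9535)
theorem F10094 : act 6 n3267 = n2281 := d23_2 (iv F7031) D3267 (iv D2281)
theorem F10095 : act 7 n3267 = n2470 := d24_2 (iv F9532) D3267 (iv F9531)
def n3268 : Q := act 2 n2268
theorem D3268 : act 2 n2268 = n3268 := rfl
theorem F10096 : act 0 n3268 = n3246 := d1_1 D3268 (iv D3246) (iv F7038)
theorem F10097 : act 4 n3268 = n2270 := d14_2 (iv F7040) D3268 (iv D2270)
theorem F10098 : act 5 n3268 = n3268 := d15_2 F7041 D3268 (iv D3268)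
theorem F10099 : act 7 n3268 = n2362 := d17_2 (iv F7042) D3268 (iv D2362)
def n3269 : Q := act 6 n2268
theorem D3269 : act 6 n2268 = n3269 := rfl
theorem F10100 : act 0 n3269 = n2977 := d5_1 D3269 F9180 (iv F7038)
theorem F10101 : act 1 n3269 = n2269 := d11_1 D3269 (iv D2269) D2268
theorem F10102 : act 3 n3269 = n2979 := d20_1 D3269 F9186 (iv F7039)
theorem F10103 : act 4 n3269 = n2271 := d23_1 D3269 (iv D2271) (iv F7040)
def n3270 : Q := act 7 n2269
theorem D3270 : act 7 n2269 = n3270 := rfl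
theorem F10104 : act 0 n3270 = n2275 := d6_1 D3270 (iv D2275) (iv F7043)
theorem F10105 : act 4 n3270 = n2273 := d24_1 D3270 (iv D2273) (iv F7045)
theorem F10106 : act 5 n3270 = n3015 := d26_1 D3270 (iv D3015) (iv F7046)
theorem F10107 : act 6 n3270 = n2364 := d27_1 D3270 (iv D2364) (iv D1617) (iv F4869) D2269
def n3271 : Q := act 3 n2270
theorem D3271 : act 3 n2270 = n3271 := rfl
theorem F10108 : act 2 n3271 = n3271 := d13_1 D3271 (iv D3271) (iv D2270) F4870 D2270
theorem F10109 : act 5 n3271 = n3271 := d19_2 F7047 D3271 (iv D3271)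
def n3272 : Q := act 6 n2270
theorem D3272 : act 6 n2270 = n3272 := rfl
theorem F10110 : act 2 n3272 = n2271 := d16_1 D3272 (iv D2271) D2270
def n3273 : Q := act 5 n2271
theorem D3273 : act 5 n2271 = n3273 := rfl
theorem F10111 : act 3 n3273 = n3273 := d19_1 D3273 (iv D3273) F7050
theorem F10112 : act 6 n3273 = n3273 := d25_2 D2271 D3273 (iv D3273) (iv D2271) F4871
def n3274 : Q := act 7 n2271
theorem D3274 : act 7 n2271 = n3274 := rfl
theorem F10113 : act 1 n3274 = n2273 := d12_1 D3274 (iv D2273) (iv F7049)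
theorem F10114 : act 6 n3274 = n2368 := d27_1 D3274 (iv D2368) (iv D1619) (iv F4872) D2271
def n3275 : Q := act 1 n2272
theorem D3275 : act 1 n2272 = n3275 := rfl
theorem F10115 : act 0 n3275 = n2648 := d0_1 D3275 (iv D2648) F5592 (iv F4883) (iv F7051)
theorem F10116 : act 3 n3275 = n3275 := d8_2 F7052 D3275 (iv D3275)
theorem F10117 : act 4 n3275 = n2649 := d9_2 (iv F7053) D3275 F8138
theorem F10118 : act 6 n3275 = n2274 := d11_2 (iv F7054) D3275 (iv D2274)
def n3276 : Q := act 2 n2274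
theorem D3276 : act 2 n2274 = n3276 := rfl
theorem F10119 : act 0 n3276 = n2674 := d1_1 D3276 (iv D2674) (iv F7057)
theorem F10120 : act 4 n3276 = n2675 := d14_2 (iv F7059) D3276 (iv D2675)
theorem F10121 : act 5 n3276 = n3276 := d15_2 F7060 D3276 (iv D3276)
theorem F10122 : act 7 n3276 = n3276 := d17_2 F7061 D3276 (iv D3276)
def n3277 : Q := act 3 n2276
theorem D3277 : act 3 n2276 = n3277 := rfl
theorem F10123 : act 0 n3277 = n2661 := d2_1 D3277 F8174 (iv F7066)
theorem F10124 : act 1 n3277 = n2277 := d8_1 D3277 (iv D2277) D2276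
theorem F10125 : act 6 n3277 = n2654 := d20_2 (iv F7069) D3277 (iv D2654)
def n3278 : Q := act 5 n2276
theorem D3278 : act 5 n2276 = n3278 := rfl
theorem F10126 : act 0 n3278 = n2664 := d4_1 D3278 (iv D2664) (iv F7066)
theorem F10127 : act 2 n3278 = n3278 := d15_1 D3278 (iv D3278) F7067
theorem F10128 : act 4 n3278 = n2658 := d22_1 D3278 (iv D2658) (iv F7068)
theorem F10129 : act 7 n3278 = n3278 := d26_2 F7070 D3278 (iv D3278)
def n3279 : Q := act 7 n2277
theorem D3279 : act 7 n2277 = n3279 := rfl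
theorem F10130 : act 0 n3279 = n2278 := d6_1 D3279 (iv D2278) (iv F7071)
theorem F10131 : act 2 n3279 = n2282 := d17_1 D3279 (iv D2282) (iv F7072)
theorem F10132 : act 3 n3279 = n3279 := d21_1 D3279 (iv D3279) (iv D2277) F4891 D2277
def n3280 : Q := act 6 n2278
theorem D3280 : act 6 n2278 = n3280 := rfl
theorem F10133 : act 1 n3280 = n3036 := d11_1 D3280 (iv D3036) (iv F7074)
theorem F10134 : act 2 n3280 = n2284 := d16_1 D3280 (iv D2284) (iv F7075)
theorem F10135 : act 3 n3280 = n3280 := d20_1 D3280 (iv D3280) F7076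
theorem F10136 : act 7 n3280 = n3031 := d27_2 D2278 D3280 (iv D3031) (iv D2076) (iv F4894)
def n3281 : Q := act 2 n2279
theorem D3281 : act 2 n2279 = n3281 := rfl
theorem F10137 : act 0 n3281 = n3281 := d1_1 D3281 (iv D3281) F7077
theorem F10138 : act 3 n3281 = n3281 := d13_2 D2279 D3281 (iv D3281) (iv D2279) F4896
def n3282 : Q := act 4 n2279
theorem D3282 : act 4 n2279 = n3282 := rfl
theorem F10139 : act 0 n3282 = n3282 := d3_1 D3282 (iv D3282) F7077
theorem F10140 : act 1 n3282 = n2281 := d9_1 D3282 (iv D2281) (iv F7078)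
theorem F10141 : act 3 n3282 = n3282 := d18_1 D3282 (iv D3282) (iv D2279) F4897 D2279
def n3283 : Q := act 5 n2279
theorem D3283 : act 5 n2279 = n3283 := rfl
theorem F10142 : act 0 n3283 = n3283 := d4_1 D3283 (iv D3283) F7077
theorem F10143 : act 3 n3283 = n2280 := d19_1 D3283 (iv D2280) D2279
def n3284 : Q := act 7 n2279
theorem D3284 : act 7 n2279 = n3284 := rfl
theorem F10144 : act 0 n3284 = n3284 := d6_1 D3284 (iv D3284) F7077
theorem F10145 : act 1 n3284 = n2282 := d12_1 D3284 (iv D2282) (iv F7078)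
theorem F10146 : act 3 n3284 = n2288 := d21_1 D3284 (iv D2288) (iv D1560) (iv F4898) D2279
def n3285 : Q := act 6 n2280
theorem D3285 : act 6 n2280 = n3285 := rfl
theorem F10147 : act 0 n3285 = n3285 := d5_1 D3285 (iv D3285) F7079
theorem F10148 : act 2 n3285 = n3285 := d16_1 D3285 (iv D3285) F7080
theorem F10149 : act 4 n3285 = n3285 := d23_1 D3285 (iv D3285) F7081
def n3286 : Q := act 7 n2281
theorem D3286 : act 7 n2281 = n3286 := rfl
theorem F10150 : act 0 n3286 = n2283 := d6_1 D3286 (iv D2283) (iv F7083)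
theorem F10151 : act 4 n3286 = n2282 := d24_1 D3286 (iv D2282) D2281
def n3287 : Q := act 6 n2282
theorem D3287 : act 6 n2282 = n3287 := rfl
theorem F10152 : act 0 n3287 = n2284 := d5_1 D3287 (iv D2284) (iv F7085)
theorem F10153 : act 3 n3287 = n2291 := d20_1 D3287 (iv D2291) (iv F7086)
def n3288 : Q := act 3 n2283
theorem D3288 : act 3 n2283 = n3288 := rfl
theorem F10154 : act 1 n3288 = n3288 := d8_1 D3288 (iv D3288) F7087
theorem F10155 : act 4 n3288 = n2292 := d18_2 (iv F7088) D3288 (iv D2292) F4918 (iv F4903)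
theorem F10156 : act 7 n3288 = n3288 := d21_2 D2283 D3288 (iv D3288) (iv D2283) F4901
def n3289 : Q := act 6 n2283
theorem D3289 : act 6 n2283 = n3289 := rfl
theorem F10157 : act 1 n3289 = n3289 := d11_1 D3289 (iv D3289) F7087
theorem F10158 : act 4 n3289 = n2284 := d23_1 D3289 (iv D2284) (iv F7088)
theorem F10159 : act 7 n3289 = n2471 := d27_2 D2283 D3289 (iv D2471) (iv F7037) F7036
def n3290 : Q := act 4 n2285
theorem D3290 : act 4 n2285 = n3290 := rfl
theorem F10160 : act 0 n3290 = n3290 := d3_1 D3290 (iv D3290) F7091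
theorem F10161 : act 1 n3290 = n3290 := d9_1 D3290 (iv D3290) F7092
theorem F10162 : act 2 n3290 = n2286 := d14_1 D3290 (iv D2286) D2285
theorem F10163 : act 6 n3290 = n3290 := d23_2 F7094 D3290 (iv D3290)
def n3291 : Q := act 5 n2285
theorem D3291 : act 5 n2285 = n3291 := rfl
theorem F10164 : act 0 n3291 = n3291 := d4_1 D3291 (iv D3291) F7091
theorem F10165 : act 2 n3291 = n2287 := d15_1 D3291 (iv D2287) D2285
theorem F10166 : act 3 n3291 = n3291 := d19_1 D3291 (iv D3291) F7093
def n3292 : Q := act 7 n2285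
theorem D3292 : act 7 n2285 = n3292 := rfl
theorem F10167 : act 0 n3292 = n3292 := d6_1 D3292 (iv D3292) F7091
theorem F10168 : act 1 n3292 = n3292 := d12_1 D3292 (iv D3292) F7092
theorem F10169 : act 2 n3292 = n2288 := d17_1 D3292 (iv D2288) D2285
def n3293 : Q := act 5 n2286
theorem D3293 : act 5 n2286 = n3293 := rfl
theorem F10170 : act 0 n3293 = n3293 := d4_1 D3293 (iv D3293) F7095
theorem F10171 : act 3 n3293 = n3293 := d19_1 D3293 (iv D3293) F7097
theorem F10172 : act 4 n3293 = n2287 := d22_1 D3293 (iv D2287) D2286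
def n3294 : Q := act 7 n2286
theorem D3294 : act 7 n2286 = n3294 := rfl
theorem F10173 : act 0 n3294 = n3294 := d6_1 D3294 (iv D3294) F7095
theorem F10174 : act 1 n3294 = n2290 := d12_1 D3294 (iv D2290) (iv F7096)
theorem F10175 : act 4 n3294 = n2288 := d24_1 D3294 (iv D2288) D2286
def n3295 : Q := act 6 n2287
theorem D3295 : act 6 n2287 = n3295 := rfl
theorem F10176 : act 0 n3295 = n3295 := d5_1 D3295 (iv D3295) F7099
theorem F10177 : act 3 n3295 = n2289 := d20_1 D3295 (iv D2289) (iv F7100)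
theorem F10178 : act 5 n3295 = n3295 := d25_1 D3295 (iv D3295) (iv D2287) F4906 D2287
def n3296 : Q := act 7 n2287
theorem D3296 : act 7 n2287 = n3296 := rfl
theorem F10179 : act 0 n3296 = n3296 := d6_1 D3296 (iv D3296) F7099
theorem F10180 : act 5 n3296 = n2288 := d26_1 D3296 (iv D2288) D2287
def n3297 : Q := act 6 n2288
theorem D3297 : act 6 n2288 = n3297 := rfl
theorem F10181 : act 0 n3297 = n3297 := d5_1 D3297 (iv D3297) F7101
theorem F10182 : act 1 n3297 = n2291 := d11_1 D3297 (iv D2291) (iv F7102)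
theorem F10183 : act 7 n3297 = n3297 := d27_2 D2288 D3297 (iv D3297) (iv D2288) F4906
def n3298 : Q := act 7 n2289
theorem D3298 : act 7 n2289 = n3298 := rfl
theorem F10184 : act 0 n3298 = n3298 := d6_1 D3298 (iv D3298) F7103
theorem F10185 : act 2 n3298 = n3298 := d17_1 D3298 (iv D3298) F7104
theorem F10186 : act 4 n3298 = n3298 := d24_1 D3298 (iv D3298) F7105
theorem F10187 : act 5 n3298 = n3298 := d26_1 D3298 (iv D3298) F7106
def n3299 : Q := act 3 n2290
theorem D3299 : act 3 n2290 = n3299 := rfl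
theorem F10188 : act 0 n3299 = n2292 := d2_1 D3299 (iv D2292) (iv F7107)
theorem F10189 : act 7 n3299 = n3299 := d21_2 D2290 D3299 (iv D3299) (iv D2290) F4912
def n3300 : Q := act 6 n2290
theorem D3300 : act 6 n2290 = n3300 := rfl
theorem F10190 : act 0 n3300 = n2293 := d5_1 D3300 (iv D2293) (iv F7107)
theorem F10191 : act 2 n3300 = n3300 := d16_1 D3300 (iv D3300) F7108
theorem F10192 : act 4 n3300 = n2291 := d23_1 D3300 (iv D2291) (iv F7109)
theorem F10193 : act 7 n3300 = n3300 := d27_2 D2290 D3300 (iv D3300) (iv D2290) F4913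
def n3301 : Q := act 5 n2291
theorem D3301 : act 5 n2291 = n3301 := rfl
theorem F10194 : act 0 n3301 = n2294 := d4_1 D3301 (iv D2294) (iv F7110)
theorem F10195 : act 2 n3301 = n3301 := d15_1 D3301 (iv D3301) F7111
theorem F10196 : act 7 n3301 = n3301 := d26_2 F7112 D3301 (iv D3301)
def n3302 : Q := act 2 n2292
theorem D3302 : act 2 n2292 = n3302 := rfl
theorem F10197 : act 3 n3302 = n3302 := d13_2 D2292 D3302 (iv D3302) (iv D2292) F4917
theorem F10198 : act 7 n3302 = n3302 := d17_2 F7114 D3302 (iv D3302)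
def n3303 : Q := act 6 n2292
theorem D3303 : act 6 n2292 = n3303 := rfl
theorem F10199 : act 1 n3303 = n3303 := d11_1 D3303 (iv D3303) F7113
theorem F10200 : act 3 n3303 = n2293 := d20_1 D3303 (iv D2293) D2292
def n3304 : Q := act 5 n2293
theorem D3304 : act 5 n2293 = n3304 := rfl
theorem F10201 : act 2 n3304 = n3304 := d15_1 D3304 (iv D3304) F7116
theorem F10202 : act 4 n3304 = n2294 := d22_1 D3304 (iv D2294) (iv F7117)
theorem F10203 : act 7 n3304 = n3304 := d26_2 F7118 D3304 (iv D3304)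
def n3305 : Q := act 3 n2295
theorem D3305 : act 3 n2295 = n3305 := rfl
theorem F10204 : act 0 n3305 = n2377 := d2_1 D3305 (iv D2377) (iv F7121)
def n3306 : Q := act 6 n2295
theorem D3306 : act 6 n2295 = n3306 := rfl
theorem F10205 : act 0 n3306 = n2378 := d5_1 D3306 (iv D2378) (iv F7121)
theorem F10206 : act 2 n3306 = n2301 := d16_1 D3306 (iv D2301) (iv F7122)
theorem F10207 : act 4 n3306 = n2299 := d23_1 D3306 (iv D2299) (iv F7123)
theorem F10208 : act 7 n3306 = n3306 := d27_2 D2295 D3306 (iv D3306) (iv D2295) F4924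
def n3307 : Q := act 0 n2296
theorem D3307 : act 0 n2296 = n3307 := rfl
theorem F10209 : act 1 n3307 = n2379 := d0_2 D2296 D3307 (iv D2379) (iv D1627) (iv F4925)
theorem F10210 : act 3 n3307 = n3307 := d2_2 F7124 D3307 (iv D3307)
theorem F10211 : act 4 n3307 = n2681 := d3_2 (iv F7881) D3307 F8252
def n3308 : Q := act 7 n2296
theorem D3308 : act 7 n2296 = n3308 := rfl
theorem F10212 : act 1 n3308 = n2297 := d12_1 D3308 (iv D2297) D2296
def n3309 : Q := act 3 n2297
theorem D3309 : act 3 n2297 = n3309 := rfl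
theorem F10213 : act 0 n3309 = n2381 := d2_1 D3309 (iv D2381) (iv F7125)
theorem F10214 : act 5 n3309 = n2298 := d19_2 (iv F7127) D3309 (iv D2298)
theorem F10215 : act 7 n3309 = n3309 := d21_2 D2297 D3309 (iv D3309) (iv D2297) F4927
def n3310 : Q := act 6 n2297
theorem D3310 : act 6 n2297 = n3310 := rfl
theorem F10216 : act 0 n3310 = n2382 := d5_1 D3310 (iv D2382) (iv F7125)
theorem F10217 : act 2 n3310 = n2303 := d16_1 D3310 (iv D2303) (iv F7126)
def n3311 : Q := act 2 n2298
theorem D3311 : act 2 n2298 = n3311 := rfl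
theorem F10218 : act 0 n3311 = n2383 := d1_1 D3311 (iv D2383) (iv F7128)
theorem F10219 : act 3 n3311 = n2304 := d13_2 D2298 D3311 (iv D2304) (iv D1571) (iv F4929)
theorem F10220 : act 7 n3311 = n3311 := d17_2 F7129 D3311 (iv D3311)
def n3312 : Q := act 4 n2298
theorem D3312 : act 4 n2298 = n3312 := rfl
theorem F10221 : act 0 n3312 = n2384 := d3_1 D3312 (iv D2384) (iv F7128)
theorem F10222 : act 7 n3312 = n3312 := d24_2 F7129 D3312 (iv D3312)
def n3313 : Q := act 6 n2298
theorem D3313 : act 6 n2298 = n3313 := rfl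
theorem F10223 : act 0 n3313 = n2385 := d5_1 D3313 (iv D2385) (iv F7128)
theorem F10224 : act 3 n3313 = n2299 := d20_1 D3313 (iv D2299) D2298
def n3314 : Q := act 5 n2299
theorem D3314 : act 5 n2299 = n3314 := rfl
theorem F10225 : act 0 n3314 = n2386 := d4_1 D3314 (iv D2386) (iv F7130)
theorem F10226 : act 2 n3314 = n2306 := d15_1 D3314 (iv D2306) (iv F7131)
theorem F10227 : act 7 n3314 = n3314 := d26_2 F7132 D3314 (iv D3314)
def n3315 : Q := act 2 n2300
theorem D3315 : act 2 n2300 = n3315 := rfl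
theorem F10228 : act 0 n3315 = n2387 := d1_1 D3315 (iv D2387) (iv F7133)
theorem F10229 : act 7 n3315 = n2373 := d17_2 (iv F7135) D3315 (iv D2373)
def n3316 : Q := act 6 n2300
theorem D3316 : act 6 n2300 = n3316 := rfl
theorem F10230 : act 0 n3316 = n2388 := d5_1 D3316 (iv D2388) (iv F7133)
theorem F10231 : act 1 n3316 = n2310 := d11_1 D3316 (iv D2310) (iv F7134)
theorem F10232 : act 3 n3316 = n2301 := d20_1 D3316 (iv D2301) D2300
def n3317 : Q := act 5 n2301
theorem D3317 : act 5 n2301 = n3317 := rfl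
theorem F10233 : act 0 n3317 = n2389 := d4_1 D3317 (iv D2389) (iv F7136)
theorem F10234 : act 4 n3317 = n2306 := d22_1 D3317 (iv D2306) (iv F7138)
theorem F10235 : act 7 n3317 = n3317 := d26_2 F7139 D3317 (iv D3317)
def n3318 : Q := act 2 n2302
theorem D3318 : act 2 n2302 = n3318 := rfl
theorem F10236 : act 0 n3318 = n2390 := d1_1 D3318 (iv D2390) (iv F7140)
theorem F10237 : act 5 n3318 = n2304 := d15_2 (iv F7141) D3318 (iv D2304)
theorem F10238 : act 7 n3318 = n2307 := d17_2 (iv F7142) D3318 (iv D2307)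
def n3319 : Q := act 6 n2302
theorem D3319 : act 6 n2302 = n3319 := rfl
theorem F10239 : act 0 n3319 = n2391 := d5_1 D3319 (iv D2391) (iv F7140)
theorem F10240 : act 3 n3319 = n2303 := d20_1 D3319 (iv D2303) D2302
theorem F10241 : act 7 n3319 = n3319 := d27_2 (iv F7142) D3319 (iv D3319) F7142 F4943
def n3320 : Q := act 5 n2303
theorem D3320 : act 5 n2303 = n3320 := rfl
theorem F10242 : act 0 n3320 = n2392 := d4_1 D3320 (iv D2392) (iv F7143)
theorem F10243 : act 6 n3320 = n2306 := d25_2 D2303 D3320 (iv D2306) (iv D1572) (iv F4934)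
def n3321 : Q := act 1 n2304
theorem D3321 : act 1 n2304 = n3321 := rfl
theorem F10244 : act 2 n3321 = n2312 := d7_2 D2304 D3321 (iv D2312) (iv D1577) (iv F4936)
theorem F10245 : act 7 n3321 = n2308 := d12_2 (iv F7145) D3321 (iv D2308)
def n3322 : Q := act 6 n2304
theorem D3322 : act 6 n2304 = n3322 := rfl
theorem F10246 : act 0 n3322 = n2394 := d5_1 D3322 (iv D2394) (iv F7144)
theorem F10247 : act 2 n3322 = n2305 := d16_1 D3322 (iv D2305) D2304
def n3323 : Q := act 5 n2305
theorem D3323 : act 5 n2305 = n3323 := rfl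
theorem F10248 : act 0 n3323 = n2395 := d4_1 D3323 (iv D2395) (iv F7146)
theorem F10249 : act 3 n3323 = n2306 := d19_1 D3323 (iv D2306) (iv F7148)
def n3324 : Q := act 1 n2306
theorem D3324 : act 1 n2306 = n3324 := rfl
theorem F10250 : act 5 n3324 = n2315 := d10_2 D2306 D3324 (iv D2315) (iv D1579) (iv F4939)
theorem F10251 : act 7 n3324 = n3324 := d12_2 F7150 D3324 (iv D3324)
def n3325 : Q := act 1 n2307
theorem D3325 : act 1 n2307 = n3325 := rfl
theorem F10252 : act 3 n3325 = n3325 := d8_2 F7152 D3325 (iv D3325)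
theorem F10253 : act 6 n3325 = n3325 := d11_2 F7154 D3325 (iv D3325)
def n3326 : Q := act 0 n2308
theorem D3326 : act 0 n2308 = n3326 := rfl
theorem F10254 : act 1 n3326 = n2398 := d0_2 D2308 D3326 (iv D2398) (iv D1639) (iv F4944)
theorem F10255 : act 2 n3326 = n2316 := d1_2 (iv F7155) D3326 (iv D2316)
theorem F10256 : act 3 n3326 = n3326 := d2_2 F7156 D3326 (iv D3326)
def n3327 : Q := act 5 n2308
theorem D3327 : act 5 n2308 = n3327 := rfl
theorem F10257 : act 2 n3327 = n2317 := d15_1 D3327 (iv D2317) (iv F7155)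
theorem F10258 : act 3 n3327 = n3327 := d19_1 D3327 (iv D3327) F7156
def n3328 : Q := act 1 n2309
theorem D3328 : act 1 n2309 = n3328 := rfl
theorem F10259 : act 7 n3328 = n2374 := d12_2 (iv F7158) D3328 (iv D2374)
def n3329 : Q := act 6 n2309
theorem D3329 : act 6 n2309 = n3329 := rfl
theorem F10260 : act 0 n3329 = n2333 := d5_1 D3329 (iv D2333) (iv F7157)
theorem F10261 : act 2 n3329 = n2310 := d16_1 D3329 (iv D2310) D2309
def n3330 : Q := act 5 n2310
theorem D3330 : act 5 n2310 = n3330 := rfl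
theorem F10262 : act 0 n3330 = n2334 := d4_1 D3330 (iv D2334) (iv F7159)
theorem F10263 : act 3 n3330 = n2311 := d19_1 D3330 (iv D2311) (iv F7160)
def n3331 : Q := act 1 n2311
theorem D3331 : act 1 n2311 = n3331 := rfl
theorem F10264 : act 4 n3331 = n2315 := d9_2 (iv F7162) D3331 (iv D2315)
theorem F10265 : act 7 n3331 = n3331 := d12_2 F7163 D3331 (iv D3331)
def n3332 : Q := act 0 n2312
theorem D3332 : act 0 n2312 = n3332 := rfl
theorem F10266 : act 1 n3332 = n2336 := d0_2 D2312 D3332 (iv D2336) (iv D1593) (iv F4951)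
theorem F10267 : act 7 n3332 = n2316 := d6_2 (iv F7164) D3332 (iv D2316)
def n3333 : Q := act 5 n2312
theorem D3333 : act 5 n2312 = n3333 := rfl
theorem F10268 : act 7 n3333 = n2317 := d26_2 (iv F7164) D3333 (iv D2317)
def n3334 : Q := act 6 n2312
theorem D3334 : act 6 n2312 = n3334 := rfl
theorem F10269 : act 1 n3334 = n2313 := d11_1 D3334 (iv D2313) D2312
def n3335 : Q := act 5 n2313
theorem D3335 : act 5 n2313 = n3335 := rfl
theorem F10270 : act 0 n3335 = n2338 := d4_1 D3335 (iv D2338) (iv F7165)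
theorem F10271 : act 2 n3335 = n2314 := d15_1 D3335 (iv D2314) (iv F7166)
theorem F10272 : act 7 n3335 = n3260 := d26_2 F9171 D3335 F10067
def n3336 : Q := act 1 n2314
theorem D3336 : act 1 n2314 = n3336 := rfl
theorem F10273 : act 0 n3336 = n3274 := d0_1 D3336 F10113 F7055 F4989 (iv F7167)
theorem F10274 : act 3 n3336 = n2315 := d8_2 (iv F7168) D3336 (iv D2315)
theorem F10275 : act 7 n3336 = n3264 := d12_2 (iv F7169) D3336 F10080
def n3337 : Q := act 0 n2315
theorem D3337 : act 0 n2315 = n3337 := rfl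
theorem F10276 : act 1 n3337 = n2339 := d0_2 D2315 D3337 (iv D2339) (iv D1596) (iv F4955)
theorem F10277 : act 3 n3337 = n3274 := d2_2 F10274 D3337 (iv F10273)
theorem F10278 : act 7 n3337 = n3337 := d6_2 F7170 D3337 (iv D3337)
def n3338 : Q := act 2 n2315
theorem D3338 : act 2 n2315 = n3338 := rfl
theorem F10279 : act 7 n3338 = n3338 := d17_2 F7170 D3338 (iv D3338)
def n3339 : Q := act 5 n2316
theorem D3339 : act 5 n2316 = n3339 := rfl
theorem F10280 : act 0 n3339 = n2317 := d4_1 D3339 (iv D2317) D2316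
theorem F10281 : act 3 n3339 = n2319 := d19_1 D3339 (iv D2319) (iv F7172)
def n3340 : Q := act 6 n2317
theorem D3340 : act 6 n2317 = n3340 := rfl
theorem F10282 : act 3 n3340 = n2324 := d20_1 D3340 (iv D2324) (iv F7173)
def n3341 : Q := act 3 n2318
theorem D3341 : act 3 n2318 = n3341 := rfl
theorem F10283 : act 0 n3341 = n2321 := d2_1 D3341 (iv D2321) (iv F7174)
theorem F10284 : act 1 n3341 = n2343 := d8_1 D3341 (iv D2343) (iv F7175)
def n3342 : Q := act 5 n2318
theorem D3342 : act 5 n2318 = n3342 := rfl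
theorem F10285 : act 0 n3342 = n2322 := d4_1 D3342 (iv D2322) (iv F7174)
theorem F10286 : act 2 n3342 = n3342 := d15_1 D3342 (iv D3342) F7176
theorem F10287 : act 4 n3342 = n2319 := d22_1 D3342 (iv D2319) D2318
theorem F10288 : act 7 n3342 = n3243 := d26_2 (iv F7177) D3342 (iv D3243)
def n3343 : Q := act 1 n2319
theorem D3343 : act 1 n2319 = n3343 := rfl
theorem F10289 : act 5 n3343 = n2345 := d10_2 D2319 D3343 (iv D2345) (iv D1600) (iv F4958)
def n3344 : Q := act 6 n2319
theorem D3344 : act 6 n2319 = n3344 := rfl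
theorem F10290 : act 0 n3344 = n2324 := d5_1 D3344 (iv D2324) (iv F7178)
theorem F10291 : act 2 n3344 = n3344 := d16_1 D3344 (iv D3344) F7179
def n3345 : Q := act 5 n2320
theorem D3345 : act 5 n2320 = n3345 := rfl
theorem F10292 : act 0 n3345 = n2325 := d4_1 D3345 (iv D2325) (iv F7180)
theorem F10293 : act 2 n3345 = n3345 := d15_1 D3345 (iv D3345) F7182
def n3346 : Q := act 2 n2321
theorem D3346 : act 2 n2321 = n3346 := rfl
theorem F10294 : act 1 n3346 = n2329 := d7_1 D3346 (iv D2329) (iv D1588) (iv F4966) (iv F7183)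
theorem F10295 : act 3 n3346 = n3346 := d13_2 D2321 D3346 (iv D3346) (iv D2321) F4961
def n3347 : Q := act 5 n2321
theorem D3347 : act 5 n2321 = n3347 := rfl
theorem F10296 : act 1 n3347 = n2325 := d10_1 D3347 (iv D2325) F4963 (iv F4967) (iv F7183)
theorem F10297 : act 3 n3347 = n2322 := d19_1 D3347 (iv D2322) D2321
def n3348 : Q := act 7 n2321
theorem D3348 : act 7 n2321 = n3348 := rfl
theorem F10298 : act 1 n3348 = n2327 := d12_1 D3348 (iv D2327) (iv F7183)
def n3349 : Q := act 6 n2322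
theorem D3349 : act 6 n2322 = n3349 := rfl
theorem F10299 : act 2 n3349 = n3349 := d16_1 D3349 (iv D3349) F7184
theorem F10300 : act 4 n3349 = n2324 := d23_1 D3349 (iv D2324) (iv F7185)
def n3350 : Q := act 5 n2323
theorem D3350 : act 5 n2323 = n3350 := rfl
theorem F10301 : act 2 n3350 = n3350 := d15_1 D3350 (iv D3350) F7187
theorem F10302 : act 4 n3350 = n2325 := d22_1 D3350 (iv D2325) (iv F7188)
theorem F10303 : act 7 n3350 = n3345 := d26_2 (iv F7189) D3350 (iv D3345)
def n3351 : Q := act 5 n2324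
theorem D3351 : act 5 n2324 = n3351 := rfl
theorem F10304 : act 2 n3351 = n3351 := d15_1 D3351 (iv D3351) F7190
theorem F10305 : act 6 n3351 = n2325 := d25_2 D2324 D3351 (iv D2325) (iv D1584) D1583
def n3352 : Q := act 7 n2324
theorem D3352 : act 7 n2324 = n3352 := rfl
theorem F10306 : act 2 n3352 = n3352 := d17_1 D3352 (iv D3352) F7190
def n3353 : Q := act 7 n2325
theorem D3353 : act 7 n2325 = n3353 := rfl
theorem F10307 : act 0 n3353 = n3350 := d6_1 D3353 F10303 F10292
theorem F10308 : act 2 n3353 = n3353 := d17_1 D3353 (iv D3353) F7191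
theorem F10309 : act 4 n3353 = n3345 := d24_1 D3353 (iv F10303) F10302
theorem F10310 : act 5 n3353 = n2326 := d26_1 D3353 (iv D2326) D2325
def n3354 : Q := act 3 n2326
theorem D3354 : act 3 n2326 = n3354 := rfl
theorem F10311 : act 0 n3354 = n3136 := d2_1 D3354 F9664 (iv F7192)
theorem F10312 : act 1 n3354 = n2328 := d8_1 D3354 (iv D2328) (iv F7193)
theorem F10313 : act 4 n3354 = n3135 := d18_2 (iv F7195) D3354 F9662 D3139 (iv F9673)
theorem F10314 : act 6 n3354 = n3341 := d20_2 (iv F7196) D3354 (iv D3341)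
def n3355 : Q := act 6 n2327
theorem D3355 : act 6 n2327 = n3355 := rfl
theorem F10315 : act 0 n3355 = n2353 := d5_1 D3355 (iv D2353) (iv F7197)
theorem F10316 : act 2 n3355 = n2331 := d16_1 D3355 (iv D2331) (iv F7198)
def n3356 : Q := act 7 n2329
theorem D3356 : act 7 n2329 = n3356 := rfl
theorem F10317 : act 0 n3356 = n3356 := d6_1 D3356 (iv D3356) F7203
theorem F10318 : act 2 n3356 = n2330 := d17_1 D3356 (iv D2330) D2329
theorem F10319 : act 5 n3356 = n3356 := d26_1 D3356 (iv D3356) F7205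
def n3357 : Q := act 6 n2330
theorem D3357 : act 6 n2330 = n3357 := rfl
theorem F10320 : act 0 n3357 = n3357 := d5_1 D3357 (iv D3357) F7206
theorem F10321 : act 1 n3357 = n2331 := d11_1 D3357 (iv D2331) (iv F7207)
theorem F10322 : act 3 n3357 = n3357 := d20_1 D3357 (iv D3357) F7208
def n3358 : Q := act 0 n2332
theorem D3358 : act 0 n2332 = n3358 := rfl
theorem F10323 : act 2 n3358 = n2422 := d1_2 (iv F7212) D3358 (iv D2422)
theorem F10324 : act 3 n3358 = n2873 := d2_2 (iv F7213) D3358 F8884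
theorem F10325 : act 4 n3358 = n3021 := d3_2 (iv F7214) D3358 F9312
theorem F10326 : act 5 n3358 = n2872 := d4_2 (iv F7215) D3358 F8882
theorem F10327 : act 7 n3358 = n2375 := d6_2 (iv F7216) D3358 (iv D2375)
def n3359 : Q := act 6 n2332
theorem D3359 : act 6 n2332 = n3359 := rfl
theorem F10328 : act 1 n3359 = n2333 := d11_1 D3359 (iv D2333) D2332
theorem F10329 : act 2 n3359 = n2423 := d16_1 D3359 (iv D2423) (iv F7212)
theorem F10330 : act 3 n3359 = n2876 := d20_1 D3359 (iv D2876) (iv F7213)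
theorem F10331 : act 4 n3359 = n3030 := d23_1 D3359 (iv D3030) (iv F7214)
def n3360 : Q := act 5 n2333
theorem D3360 : act 5 n2333 = n3360 := rfl
theorem F10332 : act 2 n3360 = n2334 := d15_1 D3360 (iv D2334) (iv F7217)
def n3361 : Q := act 1 n2334
theorem D3361 : act 1 n2334 = n3361 := rfl
theorem F10333 : act 3 n3361 = n2335 := d8_2 (iv F7218) D3361 (iv D2335)
theorem F10334 : act 4 n3361 = n2862 := d9_2 F9011 D3361 (iv F9009)
theorem F10335 : act 5 n3361 = n2425 := d10_2 D2334 D3361 (iv D2425) (iv D1657) (iv F4980)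
theorem F10336 : act 7 n3361 = n2861 := d12_2 F9008 D3361 (iv F9004)
def n3362 : Q := act 0 n2335
theorem D3362 : act 0 n2335 = n3362 := rfl
theorem F10337 : act 4 n3362 = n2339 := d3_2 (iv F7219) D3362 (iv D2339)
theorem F10338 : act 5 n3362 = n2426 := d4_2 (iv F7220) D3362 (iv D2426)
theorem F10339 : act 7 n3362 = n3362 := d6_2 F7221 D3362 (iv D3362)
def n3363 : Q := act 2 n2335
theorem D3363 : act 2 n2335 = n3363 := rfl
theorem F10340 : act 4 n3363 = n2340 := d14_2 (iv F7219) D3363 (iv D2340)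
theorem F10341 : act 5 n3363 = n2427 := d15_2 (iv F7220) D3363 (iv D2427)
theorem F10342 : act 7 n3363 = n3363 := d17_2 F7221 D3363 (iv D3363)
def n3364 : Q := act 6 n2336
theorem D3364 : act 6 n2336 = n3364 := rfl
theorem F10343 : act 0 n3364 = n2337 := d5_1 D3364 (iv D2337) D2336
theorem F10344 : act 2 n3364 = n2428 := d16_1 D3364 (iv D2428) (iv F7222)
def n3365 : Q := act 1 n2338
theorem D3365 : act 1 n2338 = n3365 := rfl
theorem F10345 : act 2 n3365 = n2985 := d7_2 (iv F7226) D3365 (iv F9206) F6429 F4989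
theorem F10346 : act 3 n3365 = n2352 := d8_2 (iv F9750) D3365 (iv F9747)
theorem F10347 : act 5 n3365 = n2983 := d10_2 D2338 D3365 (iv F9220) F9223 F7224
theorem F10348 : act 6 n3365 = n3162 := d11_2 F7267 D3365 F9747
theorem F10349 : act 7 n3365 = n2998 := d12_2 (iv F7227) D3365 F9246
def n3366 : Q := act 2 n2339
theorem D3366 : act 2 n2339 = n3366 := rfl
theorem F10350 : act 0 n3366 = n2340 := d1_1 D3366 (iv D2340) D2339
theorem F10351 : act 5 n3366 = n2432 := d15_2 (iv F7229) D3366 (iv D2432)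
theorem F10352 : act 7 n3366 = n3366 := d17_2 F7230 D3366 (iv D3366)
def n3367 : Q := act 3 n2340
theorem D3367 : act 3 n2340 = n3367 := rfl
theorem F10353 : act 1 n3367 = n2371 := d8_1 D3367 (iv F9826) F9825
theorem F10354 : act 2 n3367 = n2987 := d13_1 D3367 F9210 F6429 (iv F4990) D2340
theorem F10355 : act 5 n3367 = n2433 := d19_2 (iv F7231) D3367 (iv D2433)
theorem F10356 : act 6 n3367 = n3186 := d20_2 F7325 D3367 F9826
theorem F10357 : act 7 n2465 = n3367 := d12_0 F10353 F7326 D2465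
def n3368 : Q := act 1 n2341
theorem D3368 : act 1 n2341 = n3368 := rfl
theorem F10358 : act 3 n3368 = n2345 := d8_2 (iv F7235) D3368 (iv D2345)
def n3369 : Q := act 6 n2341
theorem D3369 : act 6 n2341 = n3369 := rfl
theorem F10359 : act 0 n3369 = n2342 := d5_1 D3369 (iv D2342) (iv F7233)
theorem F10360 : act 2 n3369 = n2435 := d16_1 D3369 (iv D2435) (iv F7234)
theorem F10361 : act 3 n3369 = n2346 := d20_1 D3369 (iv D2346) (iv F7235)
def n3370 : Q := act 5 n2343
theorem D3370 : act 5 n2343 = n3370 := rfl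
theorem F10362 : act 0 n3370 = n2348 := d4_1 D3370 (iv D2348) (iv F7238)
theorem F10363 : act 2 n3370 = n3370 := d15_1 D3370 (iv D3370) F7239
theorem F10364 : act 3 n3370 = n2344 := d19_1 D3370 (iv D2344) D2343
theorem F10365 : act 7 n3370 = n3153 := d31_1 D3370 F9717 F7239 F7240 (iv D2328) (iv F7199) (iv D2327) (iv F6693) F6691 (iv D1460) (iv D975) F2154 (iv D480) F856 (iv D150) F285 F284 (iv F453) D246 (iv F1361) (iv F2152) D976 (iv F4604) F4606 (iv F3491) F3490 (iv F4972) F5000 D2343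
def n3371 : Q := act 7 n2343
theorem D3371 : act 7 n2343 = n3371 := rfl
theorem F10366 : act 0 n3371 = n2349 := d6_1 D3371 (iv D2349) (iv F7238)
theorem F10367 : act 2 n3371 = n3371 := d17_1 D3371 (iv D3371) F7239
theorem F10368 : act 3 n3371 = n3158 := d21_1 D3371 (iv F9732) F6916 (iv F4999) D2343
theorem F10369 : act 4 n3371 = n3370 := d24_1 D3371 F10365 F9717
theorem F10370 : act 5 n3371 = n3153 := d26_1 D3371 (iv F10365) (iv D3370)
def n3372 : Q := act 1 n2344
theorem D3372 : act 1 n2344 = n3372 := rfl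
theorem F10371 : act 4 n3372 = n2345 := d9_2 (iv F7243) D3372 (iv D2345)
theorem F10372 : act 7 n3372 = n3245 := d12_2 (iv F7244) D3372 (iv D3245)
def n3373 : Q := act 6 n2344
theorem D3373 : act 6 n2344 = n3373 := rfl
theorem F10373 : act 0 n3373 = n2350 := d5_1 D3373 (iv D2350) (iv F7241)
theorem F10374 : act 2 n3373 = n2355 := d16_1 D3373 (iv D2355) (iv F7242)
theorem F10375 : act 4 n3373 = n2346 := d23_1 D3373 (iv D2346) (iv F7243)
theorem F10376 : act 5 n3373 = n3355 := d25_1 D3373 (iv D3355) F7199 F5000 D2344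
def n3374 : Q := act 2 n2345
theorem D3374 : act 2 n2345 = n3374 := rfl
theorem F10377 : act 1 n3374 = n2356 := d7_1 D3374 (iv D2356) (iv D1610) (iv F5002) D2345
def n3375 : Q := act 6 n2345
theorem D3375 : act 6 n2345 = n3375 := rfl
theorem F10378 : act 1 n3375 = n2346 := d11_1 D3375 (iv D2346) D2345
def n3376 : Q := act 5 n2346
theorem D3376 : act 5 n2346 = n3376 := rfl
theorem F10379 : act 0 n3376 = n2351 := d4_1 D3376 (iv D2351) (iv F7245)
theorem F10380 : act 2 n3376 = n2358 := d15_1 D3376 (iv D2358) (iv F7246)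
theorem F10381 : act 4 n3376 = n3355 := d22_1 D3376 (iv F10376) F10375
theorem F10382 : act 6 n3376 = n2347 := d25_2 D2346 D3376 (iv D2347) (iv D1601) D1600
theorem F10383 : act 7 n3132 = n3376 := d27_0 F10382 F7250 (iv D2162) (iv F6676) D3132
def n3377 : Q := act 7 n2346
theorem D3377 : act 7 n2346 = n3377 := rfl
theorem F10384 : act 0 n3377 = n2352 := d6_1 D3377 (iv D2352) (iv F7245)
theorem F10385 : act 2 n3377 = n2359 := d17_1 D3377 (iv D2359) (iv F7246)
theorem F10386 : act 5 n3377 = n3132 := d26_1 D3377 F10383 (iv D3376)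
theorem F10387 : act 6 n3377 = n3335 := d27_1 D3377 F10272 (iv D3260) F7002 D2346
def n3378 : Q := act 1 n2347
theorem D3378 : act 1 n2347 = n3378 := rfl
theorem F10388 : act 4 n3378 = n3348 := d9_2 (iv F7249) D3378 F10298
theorem F10389 : act 7 n3378 = n3138 := d12_2 (iv F7250) D3378 F9668
def n3379 : Q := act 6 n2348
theorem D3379 : act 6 n2348 = n3379 := rfl
theorem F10390 : act 1 n3379 = n2351 := d11_1 D3379 F7263 (iv F7251)
theorem F10391 : act 2 n3379 = n3379 := d16_1 D3379 (iv D3379) F7252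
theorem F10392 : act 3 n3379 = n2350 := d20_1 D3379 (iv D2350) (iv F7253)
theorem F10393 : act 5 n3379 = n3261 := d25_1 D3379 (iv D3261) F7010 F5021 D2348
theorem F10394 : act 7 n3379 = n3150 := d27_2 (iv F7254) D3379 (iv D3150) F6717 D2177
def n3380 : Q := act 6 n2349
theorem D3380 : act 6 n2349 = n3380 := rfl
theorem F10395 : act 1 n3380 = n2353 := d11_1 D3380 (iv D2353) (iv F7255)
theorem F10396 : act 2 n3380 = n3380 := d16_1 D3380 (iv D3380) F7256
theorem F10397 : act 3 n3380 = n3161 := d20_1 D3380 F9745 (iv F7257)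
theorem F10398 : act 4 n3380 = n3379 := d23_1 D3380 (iv D3379) (iv F7258)
theorem F10399 : act 5 n3380 = n3154 := d25_1 D3380 (iv D3154) (iv D2176) D2177 (iv F7259)
theorem F10400 : act 7 n3380 = n2999 := d27_2 D2349 D3380 (iv D2999) F6348 F5021
def n3381 : Q := act 7 n2350
theorem D3381 : act 7 n2350 = n3381 := rfl
theorem F10401 : act 2 n3381 = n2361 := d17_1 D3381 (iv D2361) (iv F7260)
theorem F10402 : act 4 n3381 = n2352 := d24_1 D3381 (iv D2352) (iv F7261)
theorem F10403 : act 5 n3381 = n3151 := d26_1 D3381 F9710 F7270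
theorem F10404 : act 6 n3381 = n3001 := d27_1 D3381 (iv D3001) F6353 (iv F5011) D2350
def n3382 : Q := act 2 n2354
theorem D3382 : act 2 n2354 = n3382 := rfl
theorem F10405 : act 0 n3382 = n2362 := d1_1 D3382 (iv D2362) (iv F7271)
theorem F10406 : act 4 n3382 = n2356 := d14_2 (iv F7273) D3382 (iv D2356)
theorem F10407 : act 5 n3382 = n3382 := d15_2 F7274 D3382 (iv D3382)
theorem F10408 : act 7 n3382 = n3246 := d17_2 (iv F7275) D3382 (iv D3246)
def n3383 : Q := act 6 n2354
theorem D3383 : act 6 n2354 = n3383 := rfl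
theorem F10409 : act 0 n3383 = n2363 := d5_1 D3383 (iv D2363) (iv F7271)
theorem F10410 : act 1 n3383 = n2355 := d11_1 D3383 (iv D2355) D2354
theorem F10411 : act 3 n3383 = n3383 := d20_1 D3383 (iv D3383) F7272
theorem F10412 : act 4 n3383 = n2357 := d23_1 D3383 (iv D2357) (iv F7273)
def n3384 : Q := act 7 n2355
theorem D3384 : act 7 n2355 = n3384 := rfl
theorem F10413 : act 0 n3384 = n2361 := d6_1 D3384 (iv D2361) (iv F7276)
theorem F10414 : act 4 n3384 = n2359 := d24_1 D3384 (iv D2359) (iv F7278)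
theorem F10415 : act 5 n3384 = n3133 := d26_1 D3384 F9659 (iv F7279)
theorem F10416 : act 6 n3384 = n2978 := d27_1 D3384 (iv D2978) F6292 (iv F5027) D2355
def n3385 : Q := act 3 n2356
theorem D3385 : act 3 n2356 = n3385 := rfl
theorem F10417 : act 0 n3385 = n2365 := d2_1 D3385 (iv D2365) (iv F7280)
theorem F10418 : act 2 n3385 = n2445 := d13_1 D3385 (iv D2445) (iv D1676) (iv F5029) D2356
theorem F10419 : act 5 n3385 = n3385 := d19_2 F7281 D3385 (iv D3385)
def n3386 : Q := act 6 n2356
theorem D3386 : act 6 n2356 = n3386 := rfl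
theorem F10420 : act 0 n3386 = n2366 := d5_1 D3386 (iv D2366) (iv F7280)
theorem F10421 : act 2 n3386 = n2357 := d16_1 D3386 (iv D2357) D2356
def n3387 : Q := act 5 n2357
theorem D3387 : act 5 n2357 = n3387 := rfl
theorem F10422 : act 0 n3387 = n2367 := d4_1 D3387 (iv D2367) (iv F7282)
theorem F10423 : act 3 n3387 = n2447 := d19_1 D3387 (iv D2447) (iv F7284)
theorem F10424 : act 6 n3387 = n3387 := d25_2 D2357 D3387 (iv D3387) (iv D2357) F5030
def n3388 : Q := act 7 n2357
theorem D3388 : act 7 n2357 = n3388 := rfl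
theorem F10425 : act 0 n3388 = n2368 := d6_1 D3388 (iv D2368) (iv F7282)
theorem F10426 : act 1 n3388 = n2359 := d12_1 D3388 (iv D2359) (iv F7283)
theorem F10427 : act 6 n3388 = n3336 := d27_1 D3388 F10275 (iv D3264) F7019 D2357
theorem F10428 : act 3 n3134 = n3388 := d20_3 F10427 F10274 (iv F9660)
def n3389 : Q := act 1 n2358
theorem D3389 : act 1 n2358 = n3389 := rfl
theorem F10429 : act 0 n3389 = n3389 := d0_1 D3389 (iv D3389) F7285 F5041 (iv F7285)
theorem F10430 : act 3 n3389 = n2449 := d8_2 (iv F7286) D3389 (iv D2449)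
theorem F10431 : act 4 n3389 = n3357 := d9_2 (iv F7287) D3389 F10321
theorem F10432 : act 6 n3389 = n2360 := d11_2 (iv F7288) D3389 (iv D2360)
theorem F10433 : act 7 n3389 = n3121 := d12_2 F7289 D3389 F9623
def n3390 : Q := act 2 n2360
theorem D3390 : act 2 n2360 = n3390 := rfl
theorem F10434 : act 0 n3390 = n3390 := d1_1 D3390 (iv D3390) F7294
theorem F10435 : act 4 n3390 = n3356 := d14_2 (iv F7296) D3390 F10318
theorem F10436 : act 5 n3390 = n3390 := d15_2 F7297 D3390 (iv D3390)
theorem F10437 : act 7 n3390 = n3126 := d17_2 (iv F7298) D3390 F9635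
def n3391 : Q := act 3 n2361
theorem D3391 : act 3 n2361 = n3391 := rfl
theorem F10438 : act 1 n3391 = n2370 := d8_1 D3391 (iv D2370) (iv F7299)
theorem F10439 : act 4 n3391 = n3148 := d18_2 (iv F7300) D3391 F9695 F6713 F5049
theorem F10440 : act 5 n3391 = n3086 := d19_2 (iv F7301) D3391 F9518
theorem F10441 : act 6 n3391 = n2919 := d20_2 (iv F7302) D3391 F9010
theorem F10442 : act 7 n3391 = n3391 := d21_2 D2361 D3391 (iv D3391) (iv D2361) F5038
def n3392 : Q := act 3 n2362
theorem D3392 : act 3 n2362 = n3392 := rfl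
theorem F10443 : act 2 n3392 = n3392 := d13_1 D3392 (iv D3392) (iv D2362) F5050 D2362
theorem F10444 : act 5 n3392 = n3392 := d19_2 F7304 D3392 (iv D3392)
def n3393 : Q := act 6 n2362
theorem D3393 : act 6 n2362 = n3393 := rfl
theorem F10445 : act 2 n3393 = n2363 := d16_1 D3393 (iv D2363) D2362
theorem F10446 : act 4 n3393 = n2366 := d23_1 D3393 (iv D2366) (iv F7303)
def n3394 : Q := act 5 n2363
theorem D3394 : act 5 n2363 = n3394 := rfl
theorem F10447 : act 1 n3394 = n3394 := d10_1 D3394 (iv D3394) F7305 F5056 (iv F7305)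
theorem F10448 : act 3 n3394 = n3394 := d19_1 D3394 (iv D3394) F7306
theorem F10449 : act 4 n3394 = n2367 := d22_1 D3394 (iv D2367) (iv F7307)
theorem F10450 : act 6 n3394 = n3394 := d25_2 D2363 D3394 (iv D3394) (iv D2363) F5052
def n3395 : Q := act 7 n2363
theorem D3395 : act 7 n2363 = n3395 := rfl
theorem F10451 : act 1 n3395 = n2364 := d12_1 D3395 (iv D2364) (iv F7305)
theorem F10452 : act 4 n3395 = n2368 := d24_1 D3395 (iv D2368) (iv F7307)
def n3396 : Q := act 3 n2364
theorem D3396 : act 3 n2364 = n3396 := rfl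
theorem F10453 : act 0 n3396 = n2370 := d2_1 D3396 (iv D2370) (iv F7308)
theorem F10454 : act 5 n3396 = n3396 := d19_2 F7310 D3396 (iv D3396)
theorem F10455 : act 7 n3396 = n3396 := d21_2 D2364 D3396 (iv D3396) (iv D2364) F5054
def n3397 : Q := act 4 n2365
theorem D3397 : act 4 n2365 = n3397 := rfl
theorem F10456 : act 2 n3397 = n2456 := d14_1 D3397 (iv D2456) (iv F7311)
theorem F10457 : act 5 n3397 = n3397 := d22_2 F7312 D3397 (iv D3397)
def n3398 : Q := act 6 n2365
theorem D3398 : act 6 n2365 = n3398 := rfl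
theorem F10458 : act 2 n3398 = n2457 := d16_1 D3398 (iv D2457) (iv F7311)
theorem F10459 : act 3 n3398 = n2366 := d20_1 D3398 (iv D2366) D2365
def n3399 : Q := act 7 n2365
theorem D3399 : act 7 n2365 = n3399 := rfl
theorem F10460 : act 2 n3399 = n2458 := d17_1 D3399 (iv D2458) (iv F7311)
theorem F10461 : act 5 n3399 = n3399 := d26_1 D3399 (iv D3399) F7312
def n3400 : Q := act 5 n2366
theorem D3400 : act 5 n2366 = n3400 := rfl
theorem F10462 : act 2 n3400 = n2367 := d15_1 D3400 (iv D2367) (iv F7313)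
theorem F10463 : act 6 n3400 = n3400 := d25_2 D2366 D3400 (iv D3400) (iv D2366) F5057
def n3401 : Q := act 7 n2366
theorem D3401 : act 7 n2366 = n3401 := rfl
theorem F10464 : act 2 n3401 = n2368 := d17_1 D3401 (iv D2368) (iv F7313)
def n3402 : Q := act 7 n2367
theorem D3402 : act 7 n2367 = n3402 := rfl
theorem F10465 : act 1 n3402 = n3402 := d12_1 D3402 (iv D3402) F7314
theorem F10466 : act 5 n3402 = n2368 := d26_1 D3402 (iv D2368) D2367
def n3403 : Q := act 3 n2368
theorem D3403 : act 3 n2368 = n3403 := rfl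
theorem F10467 : act 0 n3403 = n3134 := d2_1 D3403 F10428 F10425
theorem F10468 : act 1 n3403 = n2369 := d8_1 D3403 (iv D2369) (iv F7317)
theorem F10469 : act 6 n3403 = n3337 := d20_2 F10114 D3403 F10277
theorem F10470 : act 7 n3403 = n2462 := d21_2 D2368 D3403 (iv D2462) (iv D1687) (iv F5059)
def n3404 : Q := act 2 n2369
theorem D3404 : act 2 n2369 = n3404 := rfl
theorem F10471 : act 0 n3404 = n2371 := d1_1 D3404 (iv D2371) (iv F7318)
theorem F10472 : act 5 n3404 = n3404 := d15_2 F7319 D3404 (iv D3404)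
theorem F10473 : act 6 n3404 = n3366 := d16_2 (iv F7320) D3404 (iv D3366)
theorem F10474 : act 7 n3404 = n2463 := d17_2 (iv F7321) D3404 (iv D2463)
def n3405 : Q := act 4 n2369
theorem D3405 : act 4 n2369 = n3405 := rfl
theorem F10475 : act 0 n3405 = n2372 := d3_1 D3405 (iv D2372) (iv F7318)
theorem F10476 : act 5 n3405 = n3405 := d22_2 F7319 D3405 (iv D3405)
theorem F10477 : act 6 n3405 = n3362 := d23_2 (iv F7320) D3405 F10337
theorem F10478 : act 7 n3405 = n2464 := d24_2 (iv F7321) D3405 (iv D2464)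
def n3406 : Q := act 2 n2370
theorem D3406 : act 2 n2370 = n3406 := rfl
theorem F10479 : act 5 n3406 = n3406 := d15_2 F7322 D3406 (iv D3406)
theorem F10480 : act 7 n3406 = n3406 := d17_2 F7323 D3406 (iv D3406)
def n3407 : Q := act 4 n2370
theorem D3407 : act 4 n2370 = n3407 := rfl
theorem F10481 : act 1 n3407 = n3148 := d9_1 D3407 (iv F10439) F10438
theorem F10482 : act 3 n3407 = n2372 := d18_1 D3407 (iv D2372) (iv D1622) (iv F5062) D2370
theorem F10483 : act 5 n3407 = n3407 := d22_2 F7322 D3407 (iv D3407)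
theorem F10484 : act 6 n3407 = n3361 := d23_2 (iv F8855) D3407 F10334
theorem F10485 : act 7 n3407 = n3407 := d24_2 F7323 D3407 (iv D3407)
def n3408 : Q := act 4 n2371
theorem D3408 : act 4 n2371 = n3408 := rfl
theorem F10486 : act 2 n3408 = n2372 := d14_1 D3408 (iv D2372) D2371
theorem F10487 : act 5 n3408 = n3408 := d22_2 F7324 D3408 (iv D3408)
theorem F10488 : act 6 n3408 = n3363 := d23_2 (iv F7325) D3408 F10340
theorem F10489 : act 7 n3408 = n2466 := d24_2 (iv F7326) D3408 (iv D2466)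
def n3409 : Q := act 1 n2373
theorem D3409 : act 1 n2373 = n3409 := rfl
theorem F10490 : act 2 n3409 = n2374 := d7_2 D2373 D3409 (iv D2374) (iv D1624) (iv F5069)
def n3410 : Q := act 0 n2374
theorem D3410 : act 0 n2374 = n3410 := rfl
theorem F10491 : act 1 n3410 = n2375 := d0_2 D2374 D3410 (iv D2375) (iv D1625) (iv F5070)
theorem F10492 : act 3 n3410 = n3410 := d2_2 F7332 D3410 (iv D3410)
def n3411 : Q := act 5 n2374
theorem D3411 : act 5 n2374 = n3411 := rfl
theorem F10493 : act 3 n3411 = n3411 := d19_1 D3411 (iv D3411) F7332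
def n3412 : Q := act 5 n2375
theorem D3412 : act 5 n2375 = n3412 := rfl
theorem F10494 : act 0 n3412 = n2376 := d4_1 D3412 (iv D2376) D2375
theorem F10495 : act 2 n3412 = n2470 := d15_1 D3412 (iv D2470) (iv F7333)
theorem F10496 : act 3 n3412 = n3412 := d19_1 D3412 (iv D3412) F7334
theorem F10497 : act 4 n3412 = n3022 := d22_1 D3412 F9507 F9506
theorem F10498 : act 7 n3412 = n2872 := d26_2 F10327 D3412 (iv F10326)
def n3413 : Q := act 6 n2376
theorem D3413 : act 6 n2376 = n3413 := rfl
theorem F10499 : act 1 n3413 = n2878 := d11_1 D3413 (iv D2878) (iv F7335)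
theorem F10500 : act 2 n3413 = n2471 := d16_1 D3413 (iv D2471) (iv F7336)
theorem F10501 : act 3 n3413 = n3413 := d20_1 D3413 (iv D3413) F7337
theorem F10502 : act 4 n3413 = n3031 := d23_1 D3413 (iv D3031) (iv F7338)
def n3414 : Q := act 2 n2377
theorem D3414 : act 2 n2377 = n3414 := rfl
theorem F10503 : act 3 n3414 = n2387 := d13_2 D2377 D3414 (iv D2387) (iv D1631) (iv F5075)
def n3415 : Q := act 4 n2377
theorem D3415 : act 4 n2377 = n3415 := rfl
theorem F10504 : act 1 n3415 = n3415 := d9_1 D3415 (iv D3415) F7340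
theorem F10505 : act 3 n3415 = n2384 := d18_1 D3415 (iv D2384) (iv D1629) (iv F5076) D2377
def n3416 : Q := act 6 n2377
theorem D3416 : act 6 n2377 = n3416 := rfl
theorem F10506 : act 1 n3416 = n3416 := d11_1 D3416 (iv D3416) F7340
theorem F10507 : act 3 n3416 = n2378 := d20_1 D3416 (iv D2378) D2377
def n3417 : Q := act 5 n2378
theorem D3417 : act 5 n2378 = n3417 := rfl
theorem F10508 : act 2 n3417 = n2389 := d15_1 D3417 (iv D2389) (iv F7342)
theorem F10509 : act 4 n3417 = n2386 := d22_1 D3417 (iv D2386) (iv F7343)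
theorem F10510 : act 7 n3417 = n3417 := d26_2 F7344 D3417 (iv D3417)
def n3418 : Q := act 7 n2379
theorem D3418 : act 7 n2379 = n3418 := rfl
theorem F10511 : act 0 n3418 = n2380 := d6_1 D3418 (iv D2380) D2379
theorem F10512 : act 2 n3418 = n3418 := d17_1 D3418 (iv D3418) F7345
theorem F10513 : act 4 n3418 = n2683 := d24_1 D3418 (iv D2683) (iv F7347)
theorem F10514 : act 5 n3418 = n3418 := d26_1 D3418 (iv D3418) F7348
theorem F10515 : act 3 n3276 = n3418 := d2_0 F10511 F8231 (iv F10119)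
def n3419 : Q := act 6 n2380
theorem D3419 : act 6 n2380 = n3419 := rfl
theorem F10516 : act 1 n3419 = n2382 := d11_1 D3419 (iv D2382) (iv F7349)
theorem F10517 : act 2 n3419 = n3419 := d16_1 D3419 (iv D3419) F7350
theorem F10518 : act 4 n3419 = n2684 := d23_1 D3419 (iv D2684) (iv F7351)
def n3420 : Q := act 6 n2381
theorem D3420 : act 6 n2381 = n3420 := rfl
theorem F10519 : act 3 n3420 = n2382 := d20_1 D3420 (iv D2382) D2381
def n3421 : Q := act 5 n2382
theorem D3421 : act 5 n2382 = n3421 := rfl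
theorem F10520 : act 2 n3421 = n2392 := d15_1 D3421 (iv D2392) (iv F7355)
theorem F10521 : act 6 n3421 = n2386 := d25_2 D2382 D3421 (iv D2386) (iv D1630) (iv F5082)
def n3422 : Q := act 6 n2383
theorem D3422 : act 6 n2383 = n3422 := rfl
theorem F10522 : act 2 n3422 = n2385 := d16_1 D3422 (iv D2385) D2383
theorem F10523 : act 3 n3422 = n2394 := d20_1 D3422 (iv D2394) (iv F7356)
def n3423 : Q := act 6 n2384
theorem D3423 : act 6 n2384 = n3423 := rfl
theorem F10524 : act 1 n3423 = n3423 := d11_1 D3423 (iv D3423) F7358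
theorem F10525 : act 4 n3423 = n2385 := d23_1 D3423 (iv D2385) D2384
def n3424 : Q := act 5 n2385
theorem D3424 : act 5 n2385 = n3424 := rfl
theorem F10526 : act 3 n3424 = n2386 := d19_1 D3424 (iv D2386) (iv F7361)
def n3425 : Q := act 7 n2385
theorem D3425 : act 7 n2385 = n3425 := rfl
theorem F10527 : act 1 n3425 = n3425 := d12_1 D3425 (iv D3425) F7360
theorem F10528 : act 3 n3425 = n3425 := d21_1 D3425 (iv D3425) F7361 F5087 (iv F7361)
theorem F10529 : act 6 n3425 = n3425 := d27_1 D3425 (iv D3425) (iv D2385) F5084 D2385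
def n3426 : Q := act 1 n2386
theorem D3426 : act 1 n2386 = n3426 := rfl
theorem F10530 : act 5 n3426 = n3426 := d10_2 D2386 D3426 (iv D3426) (iv D2386) F5085
theorem F10531 : act 7 n3426 = n3426 := d12_2 F7363 D3426 (iv D3426)
def n3427 : Q := act 1 n2387
theorem D3427 : act 1 n2387 = n3427 := rfl
theorem F10532 : act 2 n3427 = n2400 := d7_2 D2387 D3427 (iv D2400) (iv D1640) (iv F5088)
theorem F10533 : act 7 n3427 = n2467 := d12_2 (iv F7364) D3427 (iv D2467)
def n3428 : Q := act 6 n2387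
theorem D3428 : act 6 n2387 = n3428 := rfl
theorem F10534 : act 2 n3428 = n2388 := d16_1 D3428 (iv D2388) D2387
def n3429 : Q := act 5 n2388
theorem D3429 : act 5 n2388 = n3429 := rfl
theorem F10535 : act 3 n3429 = n2389 := d19_1 D3429 (iv D2389) (iv F7366)
def n3430 : Q := act 1 n2389
theorem D3430 : act 1 n2389 = n3430 := rfl
theorem F10536 : act 4 n3430 = n2396 := d9_2 (iv F7367) D3430 (iv D2396)
theorem F10537 : act 5 n3430 = n2403 := d10_2 D2389 D3430 (iv D2403) (iv D1642) (iv F5090)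
theorem F10538 : act 7 n3430 = n3430 := d12_2 F7368 D3430 (iv D3430)
def n3431 : Q := act 6 n2390
theorem D3431 : act 6 n2390 = n3431 := rfl
theorem F10539 : act 2 n3431 = n2391 := d16_1 D3431 (iv D2391) D2390
theorem F10540 : act 7 n3431 = n3431 := d27_2 (iv F7370) D3431 (iv D3431) F7370 F5103
def n3432 : Q := act 5 n2391
theorem D3432 : act 5 n2391 = n3432 := rfl
theorem F10541 : act 3 n3432 = n2392 := d19_1 D3432 (iv D2392) (iv F7372)
theorem F10542 : act 6 n3432 = n2395 := d25_2 D2391 D3432 (iv D2395) (iv D1636) (iv F5094)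
theorem F10543 : act 7 n3432 = n3432 := d26_2 F7373 D3432 (iv D3432)
def n3433 : Q := act 1 n2392
theorem D3433 : act 1 n2392 = n3433 := rfl
theorem F10544 : act 5 n3433 = n3433 := d10_2 D2392 D3433 (iv D3433) (iv D2392) F5096
theorem F10545 : act 6 n3433 = n2396 := d11_2 (iv F7374) D3433 (iv D2396)
def n3434 : Q := act 0 n2393
theorem D3434 : act 0 n2393 = n3434 := rfl
theorem F10546 : act 2 n3434 = n2404 := d1_2 (iv F7375) D3434 (iv D2404)
theorem F10547 : act 3 n3434 = n3278 := d2_2 (iv F8199) D3434 F10126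
theorem F10548 : act 5 n3434 = n3277 := d4_2 F8197 D3434 F10123
theorem F10549 : act 7 n3434 = n2398 := d6_2 (iv F7376) D3434 (iv D2398)
def n3435 : Q := act 6 n2393
theorem D3435 : act 6 n2393 = n3435 := rfl
theorem F10550 : act 1 n3435 = n2394 := d11_1 D3435 (iv D2394) D2393
theorem F10551 : act 2 n3435 = n2406 := d16_1 D3435 (iv D2406) (iv F7375)
def n3436 : Q := act 5 n2394
theorem D3436 : act 5 n2394 = n3436 := rfl
theorem F10552 : act 2 n3436 = n2395 := d15_1 D3436 (iv D2395) (iv F7377)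
def n3437 : Q := act 1 n2395
theorem D3437 : act 1 n2395 = n3437 := rfl
theorem F10553 : act 3 n3437 = n2396 := d8_2 (iv F7378) D3437 (iv D2396)
theorem F10554 : act 5 n3437 = n2408 := d10_2 D2395 D3437 (iv D2408) (iv D1645) (iv F5098)
def n3438 : Q := act 0 n2396
theorem D3438 : act 0 n2396 = n3438 := rfl
theorem F10555 : act 5 n3438 = n2409 := d4_2 (iv F7379) D3438 (iv D2409)
theorem F10556 : act 7 n3438 = n3438 := d6_2 F7380 D3438 (iv D3438)
def n3439 : Q := act 2 n2396
theorem D3439 : act 2 n2396 = n3439 := rfl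
theorem F10557 : act 5 n3439 = n2410 := d15_2 (iv F7379) D3439 (iv D2410)
theorem F10558 : act 7 n3439 = n3439 := d17_2 F7380 D3439 (iv D3439)
def n3440 : Q := act 5 n2398
theorem D3440 : act 5 n2398 = n3440 := rfl
theorem F10559 : act 0 n3440 = n2399 := d4_1 D3440 (iv D2399) D2398
theorem F10560 : act 2 n3440 = n2411 := d15_1 D3440 (iv D2411) (iv F7384)
theorem F10561 : act 3 n3440 = n3440 := d19_1 D3440 (iv D3440) F7385
theorem F10562 : act 7 n3440 = n3277 := d26_2 F10549 D3440 (iv F10548)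
theorem F10563 : act 1 n3279 = n3440 := d12_3 F10562 F10124 D3279
def n3441 : Q := act 6 n2399
theorem D3441 : act 6 n2399 = n3441 := rfl
theorem F10564 : act 2 n3441 = n2412 := d16_1 D3441 (iv D2412) (iv F7386)
theorem F10565 : act 3 n3441 = n3441 := d20_1 D3441 (iv D3441) F7387
def n3442 : Q := act 0 n2400
theorem D3442 : act 0 n2400 = n3442 := rfl
theorem F10566 : act 1 n3442 = n2422 := d0_2 D2400 D3442 (iv D2422) (iv D1655) (iv F5106)
theorem F10567 : act 3 n3442 = n3442 := d2_2 F7388 D3442 (iv D3442)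
theorem F10568 : act 7 n3442 = n2468 := d6_2 (iv F7389) D3442 (iv D2468)
def n3443 : Q := act 5 n2400
theorem D3443 : act 5 n2400 = n3443 := rfl
theorem F10569 : act 1 n3443 = n3443 := d10_1 D3443 (iv D3443) (iv D2400) F5108 D2400
theorem F10570 : act 3 n3443 = n3443 := d19_1 D3443 (iv D3443) F7388
theorem F10571 : act 7 n3443 = n2469 := d26_2 (iv F7389) D3443 (iv D2469)
def n3444 : Q := act 6 n2400
theorem D3444 : act 6 n2400 = n3444 := rfl
theorem F10572 : act 1 n3444 = n2401 := d11_1 D3444 (iv D2401) D2400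
theorem F10573 : act 3 n3444 = n3444 := d20_1 D3444 (iv D3444) F7388
def n3445 : Q := act 5 n2401
theorem D3445 : act 5 n2401 = n3445 := rfl
theorem F10574 : act 0 n3445 = n2424 := d4_1 D3445 (iv D2424) (iv F7390)
theorem F10575 : act 2 n3445 = n2402 := d15_1 D3445 (iv D2402) (iv F7391)
theorem F10576 : act 3 n3445 = n3445 := d19_1 D3445 (iv D3445) F7392
theorem F10577 : act 4 n3445 = n2532 := d22_1 D3445 (iv F7953) F7952
theorem F10578 : act 6 n3445 = n3445 := d25_2 D2401 D3445 (iv D3445) (iv D2401) F5108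
theorem F10579 : act 7 n3445 = n2531 := d26_2 F7949 D3445 (iv F7948)
def n3446 : Q := act 1 n2402
theorem D3446 : act 1 n2402 = n3446 := rfl
theorem F10580 : act 3 n3446 = n2403 := d8_2 (iv F7394) D3446 (iv D2403)
theorem F10581 : act 4 n3446 = n2525 := d9_2 (iv F7395) D3446 F7783
theorem F10582 : act 6 n3446 = n3446 := d11_2 F7396 D3446 (iv D3446)
theorem F10583 : act 7 n3446 = n2523 := d12_2 (iv F7397) D3446 F7779
def n3447 : Q := act 0 n2403
theorem D3447 : act 0 n2403 = n3447 := rfl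
theorem F10584 : act 1 n3447 = n2426 := d0_2 D2403 D3447 (iv D2426) (iv D1658) (iv F5112)
theorem F10585 : act 4 n3447 = n2409 := d3_2 (iv F7398) D3447 (iv D2409)
theorem F10586 : act 6 n3447 = n3447 := d5_2 F7399 D3447 (iv D3447)
theorem F10587 : act 7 n3447 = n3447 := d6_2 F7400 D3447 (iv D3447)
def n3448 : Q := act 2 n2403
theorem D3448 : act 2 n2403 = n3448 := rfl
theorem F10588 : act 1 n3448 = n3448 := d7_1 D3448 (iv D3448) (iv D2403) F5113 D2403
theorem F10589 : act 4 n3448 = n2410 := d14_2 (iv F7398) D3448 (iv D2410)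
theorem F10590 : act 6 n3448 = n3448 := d16_2 F7399 D3448 (iv D3448)
theorem F10591 : act 7 n3448 = n3448 := d17_2 F7400 D3448 (iv D3448)
def n3449 : Q := act 5 n2404
theorem D3449 : act 5 n2404 = n3449 := rfl
theorem F10592 : act 0 n3449 = n2405 := d4_1 D3449 (iv D2405) D2404
theorem F10593 : act 2 n3449 = n3277 := d15_1 D3449 (iv F10548) F10546
theorem F10594 : act 3 n3449 = n3449 := d19_1 D3449 (iv D3449) F7402
theorem F10595 : act 7 n3449 = n2411 := d26_2 (iv F7403) D3449 (iv D2411)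
theorem F10596 : act 1 n3281 = n3449 := d7_5 F10593 F10124 F7072 (iv F7078) D3281
theorem F10597 : act 5 n3220 = n3281 := d10_0 F10596 (iv D3449) F7401 F6920 (iv F9933)
theorem F10598 : act 2 n3283 = n3220 := d15_3 F10597 (iv D3281) D3283
theorem F10599 : act 4 n3281 = n3221 := d22_1 F10597 (iv D3221) (iv F9935)
theorem F10600 : act 2 n3221 = n3282 := d14_1 F10599 (iv D3282) D3281
theorem F10601 : act 5 n3282 = n3219 := d15_2 D3221 F10600 F9930
theorem F10602 : act 4 n3219 = n3283 := d22_1 F10601 (iv D3283) D3282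
theorem F10603 : act 6 n3283 = n3218 := d23_2 D3219 F10602 (iv D3218)
theorem F10604 : act 3 n3218 = n3285 := d20_1 F10603 (iv D3285) (iv F10143)
def n3450 : Q := act 6 n2404
theorem D3450 : act 6 n2404 = n3450 := rfl
theorem F10605 : act 0 n3450 = n2406 := d5_1 D3450 (iv D2406) D2404
theorem F10606 : act 1 n3450 = n2428 := d11_1 D3450 (iv D2428) (iv F7401)
theorem F10607 : act 3 n3450 = n3450 := d20_1 D3450 (iv D3450) F7402
def n3451 : Q := act 5 n2406
theorem D3451 : act 5 n2406 = n3451 := rfl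
theorem F10608 : act 3 n3451 = n3451 := d19_1 D3451 (iv D3451) F7408
theorem F10609 : act 4 n3451 = n2519 := d22_1 D3451 F8660 F8113
theorem F10610 : act 6 n3451 = n2518 := d25_2 D2406 D3451 F8169 F8204 (iv D2405)
theorem F10611 : act 1 n2617 = n3451 := d11_3 F10610 F7770 D2617
def n3452 : Q := act 1 n2407
theorem D3452 : act 1 n2407 = n3452 := rfl
theorem F10612 : act 3 n3452 = n3452 := d8_2 F7411 D3452 (iv D3452)
theorem F10613 : act 4 n3452 = n2618 := d9_2 F8128 D3452 (iv F8661)
theorem F10614 : act 5 n3452 = n2617 := d10_2 D2407 D3452 F10611 (iv D3451) F7407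
theorem F10615 : act 6 n3452 = n3452 := d11_2 F7412 D3452 (iv D3452)
def n3453 : Q := act 0 n2408
theorem D3453 : act 0 n2408 = n3453 := rfl
theorem F10616 : act 1 n3453 = n2430 := d0_2 D2408 D3453 (iv D2430) (iv D1662) (iv F5122)
theorem F10617 : act 3 n3453 = n2409 := d2_2 (iv F7413) D3453 (iv D2409)
theorem F10618 : act 6 n3453 = n3453 := d5_2 F7414 D3453 (iv D3453)
theorem F10619 : act 7 n3453 = n3275 := d6_2 F8137 D3453 F10115
def n3454 : Q := act 2 n2408
theorem D3454 : act 2 n2408 = n3454 := rfl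
theorem F10620 : act 6 n3454 = n3454 := d16_2 F7414 D3454 (iv D3454)
def n3455 : Q := act 2 n2409
theorem D3455 : act 2 n2409 = n3455 := rfl
theorem F10621 : act 0 n3455 = n2410 := d1_1 D3455 (iv D2410) D2409
theorem F10622 : act 6 n3455 = n3455 := d16_2 F7416 D3455 (iv D3455)
theorem F10623 : act 7 n3455 = n3455 := d17_2 F7417 D3455 (iv D3455)
def n3456 : Q := act 3 n2410
theorem D3456 : act 3 n2410 = n3456 := rfl
theorem F10624 : act 1 n3456 = n3456 := d8_1 D3456 (iv D3456) F7418
theorem F10625 : act 6 n3456 = n3456 := d20_2 F7419 D3456 (iv D3456)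
def n3457 : Q := act 1 n2411
theorem D3457 : act 1 n2411 = n3457 := rfl
theorem F10626 : act 0 n3457 = n3457 := d0_1 D3457 (iv D3457) F7421 F5129 (iv F7421)
theorem F10627 : act 2 n3457 = n3284 := d7_2 F10560 D3457 F10145 (iv F10131) F10563
theorem F10628 : act 3 n3457 = n2413 := d8_2 (iv F7422) D3457 (iv D2413)
theorem F10629 : act 5 n3457 = n2434 := d10_2 D2411 D3457 (iv D2434) (iv D1665) (iv F5127)
theorem F10630 : act 7 n3457 = n3281 := d12_2 F10595 D3457 F10596
def n3458 : Q := act 6 n2411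
theorem D3458 : act 6 n2411 = n3458 := rfl
theorem F10631 : act 0 n3458 = n2412 := d5_1 D3458 (iv D2412) (iv F7421)
theorem F10632 : act 3 n3458 = n2414 := d20_1 D3458 (iv D2414) (iv F7422)
def n3459 : Q := act 7 n2412
theorem D3459 : act 7 n2412 = n3459 := rfl
theorem F10633 : act 1 n3459 = n3459 := d12_1 D3459 (iv D3459) F7423
def n3460 : Q := act 2 n2413
theorem D3460 : act 2 n2413 = n3460 := rfl
theorem F10634 : act 0 n3460 = n3460 := d1_1 D3460 (iv D3460) F7425
theorem F10635 : act 1 n3460 = n3460 := d7_1 D3460 (iv D3460) (iv D2413) F5132 D2413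
theorem F10636 : act 3 n3460 = n3292 := d13_2 F10628 D3460 F10169 (iv F10146) (iv F10627)
theorem F10637 : act 4 n3460 = n3460 := d14_2 F7426 D3460 (iv D3460)
theorem F10638 : act 5 n3460 = n2436 := d15_2 (iv F7427) D3460 (iv D2436)
theorem F10639 : act 7 n3460 = n3460 := d17_2 F7428 D3460 (iv D3460)
def n3461 : Q := act 6 n2413
theorem D3461 : act 6 n2413 = n3461 := rfl
theorem F10640 : act 0 n3461 = n3461 := d5_1 D3461 (iv D3461) F7425
theorem F10641 : act 1 n3461 = n2414 := d11_1 D3461 (iv D2414) D2413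
theorem F10642 : act 4 n3461 = n3461 := d23_1 D3461 (iv D3461) F7426
def n3462 : Q := act 5 n2414
theorem D3462 : act 5 n2414 = n3462 := rfl
theorem F10643 : act 0 n3462 = n2417 := d4_1 D3462 (iv D2417) (iv F7429)
theorem F10644 : act 2 n3462 = n3462 := d15_1 D3462 (iv D3462) F7430
theorem F10645 : act 4 n3462 = n3462 := d22_1 D3462 (iv D3462) F7431
theorem F10646 : act 6 n3462 = n2415 := d25_2 D2414 D3462 (iv D2415) (iv D1650) D1649
def n3463 : Q := act 7 n2414
theorem D3463 : act 7 n2414 = n3463 := rfl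
theorem F10647 : act 0 n3463 = n2418 := d6_1 D3463 (iv D2418) (iv F7429)
theorem F10648 : act 2 n3463 = n3463 := d17_1 D3463 (iv D3463) F7430
theorem F10649 : act 4 n3463 = n3463 := d24_1 D3463 (iv D3463) F7431
theorem F10650 : act 6 n3463 = n3463 := d27_1 D3463 (iv D3463) (iv D2414) F5134 D2414
def n3464 : Q := act 1 n2415
theorem D3464 : act 1 n2415 = n3464 := rfl
theorem F10651 : act 4 n3464 = n3464 := d9_2 F7434 D3464 (iv D3464)
theorem F10652 : act 5 n3464 = n2440 := d10_2 D2415 D3464 (iv D2440) (iv D1669) (iv F5136)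
def n3465 : Q := act 7 n2415
theorem D3465 : act 7 n2415 = n3465 := rfl
theorem F10653 : act 0 n3465 = n2419 := d6_1 D3465 (iv D2419) (iv F7432)
theorem F10654 : act 2 n3465 = n3465 := d17_1 D3465 (iv D3465) F7433
theorem F10655 : act 4 n3465 = n3465 := d24_1 D3465 (iv D3465) F7434
theorem F10656 : act 5 n3465 = n2416 := d26_1 D3465 (iv D2416) D2415
def n3466 : Q := act 3 n2416
theorem D3466 : act 3 n2416 = n3466 := rfl
theorem F10657 : act 0 n3466 = n2420 := d2_1 D3466 (iv D2420) (iv F7435)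
theorem F10658 : act 1 n3466 = n2442 := d8_1 D3466 (iv D2442) (iv F7436)
theorem F10659 : act 6 n3466 = n3466 := d20_2 F7439 D3466 (iv D3466)
theorem F10660 : act 4 n3192 = n3466 := d9_0 F10658 (iv F7522) D3192
def n3467 : Q := act 7 n2417
theorem D3467 : act 7 n2417 = n3467 := rfl
theorem F10661 : act 2 n3467 = n3467 := d17_1 D3467 (iv D3467) F7440
theorem F10662 : act 4 n3467 = n3467 := d24_1 D3467 (iv D3467) F7441
theorem F10663 : act 5 n3467 = n2418 := d26_1 D3467 (iv D2418) D2417
def n3468 : Q := act 3 n2418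
theorem D3468 : act 3 n2418 = n3468 := rfl
theorem F10664 : act 1 n3468 = n3468 := d8_1 D3468 (iv D3468) F7443
theorem F10665 : act 6 n3468 = n3468 := d20_2 F7446 D3468 (iv D3468)
def n3469 : Q := act 3 n2419
theorem D3469 : act 3 n2419 = n3469 := rfl
theorem F10666 : act 5 n3469 = n2420 := d19_2 (iv F7449) D3469 (iv D2420)
def n3470 : Q := act 6 n2419
theorem D3470 : act 6 n2419 = n3470 := rfl
theorem F10667 : act 2 n3470 = n3470 := d16_1 D3470 (iv D3470) F7447
theorem F10668 : act 4 n3470 = n3470 := d23_1 D3470 (iv D3470) F7448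
theorem F10669 : act 5 n3470 = n3470 := d25_1 D3470 (iv D3470) F7449 F5147 (iv F7449)
def n3471 : Q := act 2 n2420
theorem D3471 : act 2 n2420 = n3471 := rfl
theorem F10670 : act 1 n3471 = n3471 := d7_1 D3471 (iv D3471) F7450 F5149 (iv F7450)
theorem F10671 : act 3 n3471 = n3471 := d13_2 D2420 D3471 (iv D3471) (iv D2420) F5145
theorem F10672 : act 6 n3471 = n3471 := d16_2 F7451 D3471 (iv D3471)
def n3472 : Q := act 4 n2420
theorem D3472 : act 4 n2420 = n3472 := rfl
theorem F10673 : act 0 n3472 = n3192 := d3_1 D3472 F10660 F10657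
theorem F10674 : act 1 n3472 = n2421 := d9_1 D3472 (iv D2421) (iv F7450)
theorem F10675 : act 3 n3472 = n3472 := d18_1 D3472 (iv D3472) (iv D2420) F5146 D2420
theorem F10676 : act 6 n3472 = n3472 := d23_2 F7451 D3472 (iv D3472)
def n3473 : Q := act 6 n2422
theorem D3473 : act 6 n2422 = n3473 := rfl
theorem F10677 : act 0 n3473 = n2423 := d5_1 D3473 (iv D2423) D2422
theorem F10678 : act 3 n3473 = n3473 := d20_1 D3473 (iv D3473) F7456
def n3474 : Q := act 1 n2424
theorem D3474 : act 1 n2424 = n3474 := rfl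
theorem F10679 : act 3 n3474 = n3474 := d8_2 F7461 D3474 (iv D3474)
theorem F10680 : act 4 n3474 = n2869 := d9_2 (iv F7462) D3474 F8869
theorem F10681 : act 5 n3474 = n2909 := d10_2 D2424 D3474 (iv F9308) F9310 F7458
theorem F10682 : act 6 n3474 = n3474 := d11_2 F7463 D3474 (iv D3474)
theorem F10683 : act 7 n3474 = n2866 := d12_2 (iv F7464) D3474 F8863
def n3475 : Q := act 0 n2425
theorem D3475 : act 0 n2425 = n3475 := rfl
theorem F10684 : act 3 n3475 = n2426 := d2_2 (iv F7465) D3475 (iv D2426)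
theorem F10685 : act 4 n3475 = n2846 := d3_2 (iv F7466) D3475 F8803
theorem F10686 : act 6 n3475 = n3475 := d5_2 F7467 D3475 (iv D3475)
theorem F10687 : act 7 n3475 = n2844 := d6_2 (iv F7468) D3475 F8797
def n3476 : Q := act 2 n2425
theorem D3476 : act 2 n2425 = n3476 := rfl
theorem F10688 : act 4 n3476 = n2860 := d14_2 (iv F7466) D3476 F8848
theorem F10689 : act 6 n3476 = n3476 := d16_2 F7467 D3476 (iv D3476)
theorem F10690 : act 7 n3476 = n2858 := d17_2 (iv F7468) D3476 F8843
def n3477 : Q := act 2 n2426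
theorem D3477 : act 2 n2426 = n3477 := rfl
theorem F10691 : act 0 n3477 = n2427 := d1_1 D3477 (iv D2427) D2426
theorem F10692 : act 4 n3477 = n2432 := d14_2 (iv F7469) D3477 (iv D2432)
theorem F10693 : act 6 n3477 = n3477 := d16_2 F7470 D3477 (iv D3477)
theorem F10694 : act 7 n3477 = n3477 := d17_2 F7471 D3477 (iv D3477)
def n3478 : Q := act 3 n2427
theorem D3478 : act 3 n2427 = n3478 := rfl
theorem F10695 : act 1 n3478 = n3478 := d8_1 D3478 (iv D3478) F7472
theorem F10696 : act 6 n3478 = n3478 := d20_2 F7474 D3478 (iv D3478)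
def n3479 : Q := act 0 n2429
theorem D3479 : act 0 n2429 = n3479 := rfl
theorem F10697 : act 3 n3479 = n3479 := d2_2 F7478 D3479 (iv D3479)
theorem F10698 : act 6 n3479 = n3479 := d5_2 F7479 D3479 (iv D3479)
def n3480 : Q := act 2 n2429
theorem D3480 : act 2 n2429 = n3480 := rfl
theorem F10699 : act 1 n3480 = n2431 := d7_1 D3480 (iv D2431) (iv D1662) (iv F5166) D2429
theorem F10700 : act 5 n3480 = n2849 := d15_2 F8821 D3480 (iv F8818)
theorem F10701 : act 6 n3480 = n3480 := d16_2 F7479 D3480 (iv D3480)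
theorem F10702 : act 7 n3480 = n3033 := d17_2 F9286 D3480 F9346
theorem F10703 : act 3 n3480 = n2850 := d30_4 D1129 D1661 D2429 D3480 (iv F9427) F9426 (iv D2294) F4919 F4920 (iv F7090) F9547 F9546 (iv D2130) F4546 F3106 F2139 F1351 (iv D235) F441 F246 F159 D47 F182 F181 (iv F314) (iv F543) D300 (iv F1727) (iv F2496)
def n3481 : Q := act 2 n2430
theorem D3481 : act 2 n2430 = n3481 := rfl
theorem F10704 : act 0 n3481 = n2431 := d1_1 D3481 (iv D2431) D2430
theorem F10705 : act 5 n3481 = n3028 := d15_2 (iv F7481) D3481 F9331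
theorem F10706 : act 6 n3481 = n3481 := d16_2 F7482 D3481 (iv D3481)
theorem F10707 : act 7 n3481 = n3027 := d17_2 (iv F7483) D3481 F9326
def n3482 : Q := act 3 n2431
theorem D3482 : act 3 n2431 = n3482 := rfl
theorem F10708 : act 1 n3482 = n2850 := d8_1 D3482 (iv F10703) F10699
theorem F10709 : act 2 n3482 = n2433 := d13_1 D3482 (iv D2433) (iv D1664) (iv F5169) D2431
theorem F10710 : act 5 n3482 = n2987 := d19_2 (iv F7484) D3482 F9210
theorem F10711 : act 6 n3482 = n3482 := d20_2 F7485 D3482 (iv D3482)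
def n3483 : Q := act 1 n2432
theorem D3483 : act 1 n2432 = n3483 := rfl
theorem F10712 : act 0 n3483 = n3483 := d0_1 D3483 (iv D3483) F7487 F5175 (iv F7487)
theorem F10713 : act 6 n3483 = n3483 := d11_2 F7488 D3483 (iv D3483)
theorem F10714 : act 7 n3483 = n3483 := d12_2 F7489 D3483 (iv D3483)
def n3484 : Q := act 3 n2432
theorem D3484 : act 3 n2432 = n3484 := rfl
theorem F10715 : act 0 n3484 = n2433 := d2_1 D3484 (iv D2433) (iv F7487)
theorem F10716 : act 6 n3484 = n3484 := d20_2 F7488 D3484 (iv D3484)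
def n3485 : Q := act 4 n2433
theorem D3485 : act 4 n2433 = n3485 := rfl
theorem F10717 : act 1 n3485 = n3485 := d9_1 D3485 (iv D3485) F7490
theorem F10718 : act 6 n3485 = n3485 := d23_2 F7491 D3485 (iv D3485)
def n3486 : Q := act 7 n2433
theorem D3486 : act 7 n2433 = n3486 := rfl
theorem F10719 : act 1 n3486 = n3486 := d12_1 D3486 (iv D3486) F7490
theorem F10720 : act 3 n3486 = n3486 := d21_1 D3486 (iv D3486) (iv D2433) F5177 D2433
theorem F10721 : act 5 n3486 = n2465 := d26_1 D3486 F10357 F10355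
def n3487 : Q := act 2 n2434
theorem D3487 : act 2 n2434 = n3487 := rfl
theorem F10722 : act 0 n3487 = n3487 := d1_1 D3487 (iv D3487) F7492
theorem F10723 : act 5 n3487 = n3284 := d15_2 F10629 D3487 (iv F10627)
theorem F10724 : act 7 n3487 = n3283 := d17_2 (iv F9936) D3487 F10598
theorem F10725 : act 3 n3296 = n3487 := d21_5 F10724 F10143 F7082 (iv F7100) D3296
def n3488 : Q := act 6 n2434
theorem D3488 : act 6 n2434 = n3488 := rfl
theorem F10726 : act 0 n3488 = n3488 := d5_1 D3488 (iv D3488) F7492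
theorem F10727 : act 1 n3488 = n2435 := d11_1 D3488 (iv D2435) D2434
theorem F10728 : act 3 n3488 = n2437 := d20_1 D3488 (iv D2437) (iv F7493)
def n3489 : Q := act 3 n2436
theorem D3489 : act 3 n2436 = n3489 := rfl
theorem F10729 : act 0 n3489 = n3489 := d2_1 D3489 (iv D3489) F7496
theorem F10730 : act 1 n3489 = n2445 := d8_1 D3489 (iv D2445) (iv F7497)
theorem F10731 : act 2 n3489 = n3296 := d13_1 D3489 F10725 (iv D3487) F7493 D2436
theorem F10732 : act 5 n3489 = n3292 := d19_2 F10638 D3489 (iv F10636)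
theorem F10733 : act 7 n3291 = n3489 := d26_0 F10732 (iv D3292) D3291
def n3490 : Q := act 6 n2436
theorem D3490 : act 6 n2436 = n3490 := rfl
theorem F10734 : act 0 n3490 = n3490 := d5_1 D3490 (iv D3490) F7496
theorem F10735 : act 1 n3490 = n2446 := d11_1 D3490 (iv D2446) (iv F7497)
theorem F10736 : act 2 n3490 = n2437 := d16_1 D3490 (iv D2437) D2436
theorem F10737 : act 4 n3490 = n3490 := d23_1 D3490 (iv D3490) F7498
def n3491 : Q := act 5 n2437
theorem D3491 : act 5 n2437 = n3491 := rfl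
theorem F10738 : act 0 n3491 = n3491 := d4_1 D3491 (iv D3491) F7500
theorem F10739 : act 4 n3491 = n3491 := d22_1 D3491 (iv D3491) F7502
def n3492 : Q := act 7 n2437
theorem D3492 : act 7 n2437 = n3492 := rfl
theorem F10740 : act 0 n3492 = n3492 := d6_1 D3492 (iv D3492) F7500
theorem F10741 : act 1 n3492 = n2439 := d12_1 D3492 (iv D2439) (iv F7501)
theorem F10742 : act 4 n3492 = n3492 := d24_1 D3492 (iv D3492) F7502
theorem F10743 : act 6 n3492 = n3492 := d27_1 D3492 (iv D3492) (iv D2437) F5184 D2437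
def n3493 : Q := act 1 n2438
theorem D3493 : act 1 n2438 = n3493 := rfl
theorem F10744 : act 4 n3493 = n3493 := d9_2 F7505 D3493 (iv D3493)
theorem F10745 : act 6 n3493 = n2440 := d11_2 (iv F7506) D3493 (iv D2440)
def n3494 : Q := act 7 n2438
theorem D3494 : act 7 n2438 = n3494 := rfl
theorem F10746 : act 0 n3494 = n2443 := d6_1 D3494 (iv D2443) (iv F7503)
theorem F10747 : act 2 n3494 = n2450 := d17_1 D3494 (iv D2450) (iv F7504)
theorem F10748 : act 4 n3494 = n3494 := d24_1 D3494 (iv D3494) F7505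
theorem F10749 : act 5 n3494 = n2439 := d26_1 D3494 (iv D2439) D2438
theorem F10750 : act 6 n3494 = n3069 := d27_1 D3494 F9464 F7517 (iv D2441) (iv F7506)
def n3495 : Q := act 3 n2439
theorem D3495 : act 3 n2439 = n3495 := rfl
theorem F10751 : act 0 n3495 = n2444 := d2_1 D3495 (iv D2444) (iv F7507)
theorem F10752 : act 6 n3495 = n3495 := d20_2 F7510 D3495 (iv D3495)
def n3496 : Q := act 2 n2440
theorem D3496 : act 2 n2440 = n3496 := rfl
theorem F10753 : act 1 n3496 = n2452 := d7_1 D3496 (iv D2452) (iv D1680) (iv F5189) D2440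
theorem F10754 : act 4 n3496 = n3496 := d14_2 F7511 D3496 (iv D3496)
def n3497 : Q := act 7 n2440
theorem D3497 : act 7 n2440 = n3497 := rfl
theorem F10755 : act 1 n3497 = n2441 := d12_1 D3497 (iv D2441) D2440
theorem F10756 : act 4 n3497 = n3497 := d24_1 D3497 (iv D3497) F7511
theorem F10757 : act 3 n3074 = n3497 := d8_0 F10755 (iv F7516) (iv F9472)
theorem F10758 : act 6 n3070 = n3497 := d11_0 F10755 (iv F7517) D3070
def n3498 : Q := act 3 n2443
theorem D3498 : act 3 n2443 = n3498 := rfl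
theorem F10759 : act 2 n3498 = n2905 := d13_1 D3498 F8975 F6180 (iv F5238) (iv F7523)
theorem F10760 : act 5 n3498 = n2444 := d19_2 (iv F7525) D3498 (iv D2444)
theorem F10761 : act 6 n3498 = n2903 := d20_2 (iv F7526) D3498 F8970
def n3499 : Q := act 2 n2444
theorem D3499 : act 2 n2444 = n3499 := rfl
theorem F10762 : act 3 n3499 = n2454 := d13_2 D2444 D3499 (iv D2454) (iv D1683) (iv F5199)
theorem F10763 : act 5 n3499 = n2905 := d15_2 F10760 D3499 (iv F10759)
theorem F10764 : act 6 n3499 = n3499 := d16_2 F7528 D3499 (iv D3499)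
theorem F10765 : act 7 n3499 = n2867 := d17_2 (iv F10029) D3499 (iv F10026)
theorem F10766 : act 1 n2877 = n3499 := d30_2 (iv F9069) F9068 (iv D3499) (iv D2444) (iv D1672) (iv D1136) (iv D773) (iv D522) (iv D300) (iv D162) (iv D87) F174 F173 (iv D45) (iv F155) (iv F265) D139 D259 D469 D706 D1045 D1546 (iv F6598) (iv F9546) (iv D3093) F6592 F4563 F4564 D2141
def n3500 : Q := act 4 n2445
theorem D3500 : act 4 n2445 = n3500 := rfl
theorem F10767 : act 0 n3500 = n2456 := d3_1 D3500 (iv D2456) (iv F7529)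
theorem F10768 : act 3 n3500 = n3500 := d18_1 D3500 (iv D3500) (iv D2445) F5217 D2445
theorem F10769 : act 5 n3500 = n3500 := d22_2 F7530 D3500 (iv D3500)
def n3501 : Q := act 6 n2445
theorem D3501 : act 6 n2445 = n3501 := rfl
theorem F10770 : act 0 n3501 = n2457 := d5_1 D3501 (iv D2457) (iv F7529)
theorem F10771 : act 3 n3501 = n2446 := d20_1 D3501 (iv D2446) D2445
def n3502 : Q := act 7 n2445
theorem D3502 : act 7 n2445 = n3502 := rfl
theorem F10772 : act 0 n3502 = n2458 := d6_1 D3502 (iv D2458) (iv F7529)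
theorem F10773 : act 1 n3502 = n3291 := d12_1 D3502 F10733 F10730
theorem F10774 : act 3 n3502 = n3502 := d21_1 D3502 (iv D3502) (iv D2445) F5219 D2445
theorem F10775 : act 5 n3502 = n3502 := d26_1 D3502 (iv D3502) F7530
def n3503 : Q := act 5 n2446
theorem D3503 : act 5 n2446 = n3503 := rfl
theorem F10776 : act 0 n3503 = n2459 := d4_1 D3503 (iv D2459) (iv F7531)
theorem F10777 : act 2 n3503 = n2447 := d15_1 D3503 (iv D2447) (iv F7532)
theorem F10778 : act 4 n3503 = n3503 := d22_1 D3503 (iv D3503) F7533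
theorem F10779 : act 6 n3503 = n3503 := d25_2 D2446 D3503 (iv D3503) (iv D2446) F5218
def n3504 : Q := act 7 n2446
theorem D3504 : act 7 n2446 = n3504 := rfl
theorem F10780 : act 0 n3504 = n2460 := d6_1 D3504 (iv D2460) (iv F7531)
theorem F10781 : act 2 n3504 = n2448 := d17_1 D3504 (iv D2448) (iv F7532)
theorem F10782 : act 4 n3504 = n3504 := d24_1 D3504 (iv D3504) F7533
theorem F10783 : act 6 n3504 = n3504 := d27_1 D3504 (iv D3504) (iv D2446) F5219 D2446
def n3505 : Q := act 1 n2447
theorem D3505 : act 1 n2447 = n3505 := rfl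
theorem F10784 : act 0 n3505 = n3505 := d0_1 D3505 (iv D3505) F7534 F5251 (iv F7534)
theorem F10785 : act 4 n3505 = n3505 := d9_2 F7535 D3505 (iv D3505)
theorem F10786 : act 5 n3505 = n2449 := d10_2 D2447 D3505 (iv D2449) (iv D1678) (iv F5221)
theorem F10787 : act 6 n3505 = n3505 := d11_2 F7536 D3505 (iv D3505)
def n3506 : Q := act 7 n2447
theorem D3506 : act 7 n2447 = n3506 := rfl
theorem F10788 : act 0 n3506 = n2461 := d6_1 D3506 (iv D2461) (iv F7534)
theorem F10789 : act 4 n3506 = n3506 := d24_1 D3506 (iv D3506) F7535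
theorem F10790 : act 5 n3506 = n2448 := d26_1 D3506 (iv D2448) D2447
def n3507 : Q := act 3 n2448
theorem D3507 : act 3 n2448 = n3507 := rfl
theorem F10791 : act 0 n3507 = n2462 := d2_1 D3507 (iv D2462) (iv F7537)
theorem F10792 : act 1 n3507 = n2451 := d8_1 D3507 (iv D2451) (iv F7538)
theorem F10793 : act 6 n3507 = n3507 := d20_2 F7540 D3507 (iv D3507)
theorem F10794 : act 7 n3507 = n3134 := d21_2 D2448 D3507 F10428 (iv D3388) F7284
def n3508 : Q := act 2 n2449
theorem D3508 : act 2 n2449 = n3508 := rfl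
theorem F10795 : act 0 n3508 = n3508 := d1_1 D3508 (iv D3508) F7541
theorem F10796 : act 4 n3508 = n3508 := d14_2 F7542 D3508 (iv D3508)
theorem F10797 : act 6 n3508 = n2452 := d16_2 (iv F7543) D3508 (iv D2452)
def n3509 : Q := act 7 n2449
theorem D3509 : act 7 n2449 = n3509 := rfl
theorem F10798 : act 0 n3509 = n3509 := d6_1 D3509 (iv D3509) F7541
theorem F10799 : act 1 n3509 = n2450 := d12_1 D3509 (iv D2450) D2449
theorem F10800 : act 3 n3509 = n3065 := d21_1 D3509 F9449 (iv F9624) (iv F10433) F10430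
theorem F10801 : act 4 n3509 = n3509 := d24_1 D3509 (iv D3509) F7542
theorem F10802 : act 6 n3509 = n3064 := d27_1 D3509 F9446 F7561 (iv D2453) (iv F7543)
def n3510 : Q := act 2 n2451
theorem D3510 : act 2 n2451 = n3510 := rfl
theorem F10803 : act 0 n3510 = n2454 := d1_1 D3510 (iv D2454) (iv F7549)
theorem F10804 : act 5 n3510 = n2889 := d15_2 (iv F7550) D3510 F8927
theorem F10805 : act 6 n3510 = n3510 := d16_2 F7551 D3510 (iv D3510)
theorem F10806 : act 7 n3510 = n2961 := d17_2 (iv F7552) D3510 F9132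
def n3511 : Q := act 4 n2451
theorem D3511 : act 4 n2451 = n3511 := rfl
theorem F10807 : act 0 n3511 = n2455 := d3_1 D3511 (iv D2455) (iv F7549)
theorem F10808 : act 3 n3511 = n3511 := d18_1 D3511 (iv D3511) (iv D2451) F5227 D2451
theorem F10809 : act 5 n3511 = n3068 := d22_2 (iv F7550) D3511 F9459
theorem F10810 : act 6 n3511 = n3511 := d23_2 F7551 D3511 (iv D3511)
theorem F10811 : act 7 n3511 = n3129 := d24_2 (iv F7552) D3511 F9647
def n3512 : Q := act 3 n2452
theorem D3512 : act 3 n2452 = n3512 := rfl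
theorem F10812 : act 0 n3512 = n3512 := d2_1 D3512 (iv D3512) F7553
theorem F10813 : act 5 n3512 = n3512 := d19_2 F7555 D3512 (iv D3512)
def n3513 : Q := act 7 n2452
theorem D3513 : act 7 n2452 = n3513 := rfl
theorem F10814 : act 0 n3513 = n3513 := d6_1 D3513 (iv D3513) F7553
theorem F10815 : act 2 n3513 = n2453 := d17_1 D3513 (iv D2453) D2452
theorem F10816 : act 4 n3513 = n3513 := d24_1 D3513 (iv D3513) F7554
theorem F10817 : act 5 n3513 = n3513 := d26_1 D3513 (iv D3513) F7555
theorem F10818 : act 6 n3067 = n3513 := d16_0 F10815 (iv F7561) D3067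
def n3514 : Q := act 1 n2454
theorem D3514 : act 1 n2454 = n3514 := rfl
theorem F10819 : act 2 n3514 = n2465 := d7_2 D2454 D3514 (iv D2465) (iv D1689) (iv F5242)
theorem F10820 : act 3 n3514 = n2877 := d8_2 F10762 D3514 F10766
theorem F10821 : act 6 n3514 = n3514 := d11_2 F7563 D3514 (iv D3514)
theorem F10822 : act 7 n3514 = n2987 := d12_2 (iv F7564) D3514 (iv D2987)
def n3515 : Q := act 4 n2454
theorem D3515 : act 4 n2454 = n3515 := rfl
theorem F10823 : act 2 n3515 = n2455 := d14_1 D3515 (iv D2455) D2454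
theorem F10824 : act 5 n3515 = n2902 := d22_2 (iv F7562) D3515 F8968
theorem F10825 : act 6 n3515 = n3515 := d23_2 F7563 D3515 (iv D3515)
theorem F10826 : act 7 n3515 = n2982 := d24_2 (iv F7564) D3515 F9197
def n3516 : Q := act 6 n2456
theorem D3516 : act 6 n2456 = n3516 := rfl
theorem F10827 : act 1 n3516 = n3516 := d11_1 D3516 (iv D3516) F7570
theorem F10828 : act 3 n3516 = n3516 := d20_1 D3516 (iv D3516) F7571
theorem F10829 : act 4 n3516 = n2457 := d23_1 D3516 (iv D2457) D2456
def n3517 : Q := act 7 n2456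
theorem D3517 : act 7 n2456 = n3517 := rfl
theorem F10830 : act 1 n3517 = n3517 := d12_1 D3517 (iv D3517) F7570
theorem F10831 : act 4 n3517 = n2458 := d24_1 D3517 (iv D2458) D2456
theorem F10832 : act 5 n3517 = n3517 := d26_1 D3517 (iv D3517) F7572
def n3518 : Q := act 5 n2457
theorem D3518 : act 5 n2457 = n3518 := rfl
theorem F10833 : act 3 n3518 = n2459 := d19_1 D3518 (iv D2459) (iv F7574)
theorem F10834 : act 6 n3518 = n3518 := d25_2 D2457 D3518 (iv D3518) (iv D2457) F5247
def n3519 : Q := act 7 n2457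
theorem D3519 : act 7 n2457 = n3519 := rfl
theorem F10835 : act 1 n3519 = n3519 := d12_1 D3519 (iv D3519) F7573
def n3520 : Q := act 6 n2458
theorem D3520 : act 6 n2458 = n3520 := rfl
theorem F10836 : act 1 n3520 = n3520 := d11_1 D3520 (iv D3520) F7575
theorem F10837 : act 3 n3520 = n3520 := d20_1 D3520 (iv D3520) F7576
def n3521 : Q := act 1 n2459
theorem D3521 : act 1 n2459 = n3521 := rfl
theorem F10838 : act 2 n3521 = n3521 := d7_2 (iv F7578) D3521 (iv D3521) F7578 F5251
theorem F10839 : act 4 n3521 = n3521 := d9_2 F7579 D3521 (iv D3521)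
theorem F10840 : act 5 n3521 = n3521 := d10_2 D2459 D3521 (iv D3521) (iv D2459) F5248
theorem F10841 : act 6 n3521 = n3521 := d11_2 F7580 D3521 (iv D3521)
def n3522 : Q := act 7 n2459
theorem D3522 : act 7 n2459 = n3522 := rfl
theorem F10842 : act 2 n3522 = n2461 := d17_1 D3522 (iv D2461) (iv F7578)
theorem F10843 : act 4 n3522 = n3522 := d24_1 D3522 (iv D3522) F7579
theorem F10844 : act 5 n3522 = n2460 := d26_1 D3522 (iv D2460) D2459
def n3523 : Q := act 3 n2460
theorem D3523 : act 3 n2460 = n3523 := rfl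
theorem F10845 : act 1 n3523 = n3523 := d8_1 D3523 (iv D3523) F7581
theorem F10846 : act 6 n3523 = n3523 := d20_2 F7584 D3523 (iv D3523)
def n3524 : Q := act 3 n2461
theorem D3524 : act 3 n2461 = n3524 := rfl
theorem F10847 : act 1 n3524 = n3524 := d8_1 D3524 (iv D3524) F7585
theorem F10848 : act 5 n3524 = n2462 := d19_2 (iv F7587) D3524 (iv D2462)
def n3525 : Q := act 6 n2461
theorem D3525 : act 6 n2461 = n3525 := rfl
theorem F10849 : act 1 n3525 = n3525 := d11_1 D3525 (iv D3525) F7585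
theorem F10850 : act 4 n3525 = n3525 := d23_1 D3525 (iv D3525) F7586
theorem F10851 : act 5 n3525 = n3525 := d25_1 D3525 (iv D3525) F7587 F5256 (iv F7587)
theorem F10852 : act 7 n3525 = n3525 := d27_2 D2461 D3525 (iv D3525) (iv D2461) F5253
def n3526 : Q := act 2 n2462
theorem D3526 : act 2 n2462 = n3526 := rfl
theorem F10853 : act 6 n3526 = n3526 := d16_2 F7589 D3526 (iv D3526)
def n3527 : Q := act 4 n2462
theorem D3527 : act 4 n2462 = n3527 := rfl
theorem F10854 : act 1 n3527 = n2464 := d9_1 D3527 (iv D2464) (iv F7588)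
theorem F10855 : act 3 n3527 = n3527 := d18_1 D3527 (iv D3527) (iv D2462) F5255 D2462
theorem F10856 : act 6 n3527 = n3527 := d23_2 F7589 D3527 (iv D3527)
def n3528 : Q := act 1 n2463
theorem D3528 : act 1 n2463 = n3528 := rfl
theorem F10857 : act 3 n3528 = n3528 := d8_2 F7591 D3528 (iv D3528)
theorem F10858 : act 6 n3528 = n3528 := d11_2 F7593 D3528 (iv D3528)
def n3529 : Q := act 4 n2463
theorem D3529 : act 4 n2463 = n3529 := rfl
theorem F10859 : act 0 n3529 = n2466 := d3_1 D3529 (iv D2466) (iv F7590)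
theorem F10860 : act 2 n3529 = n2464 := d14_1 D3529 (iv D2464) D2463
theorem F10861 : act 5 n3529 = n3529 := d22_2 F7592 D3529 (iv D3529)
theorem F10862 : act 6 n3529 = n3529 := d23_2 F7593 D3529 (iv D3529)
def n3530 : Q := act 0 n2465
theorem D3530 : act 0 n2465 = n3530 := rfl
theorem F10863 : act 3 n3530 = n3530 := d2_2 F7598 D3530 (iv D3530)
theorem F10864 : act 6 n3530 = n3530 := d5_2 F7599 D3530 (iv D3530)
def n3531 : Q := act 4 n2465
theorem D3531 : act 4 n2465 = n3531 := rfl
theorem F10865 : act 1 n3531 = n2466 := d9_1 D3531 (iv D2466) D2465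
theorem F10866 : act 6 n3531 = n3531 := d23_2 F7599 D3531 (iv D3531)
def n3532 : Q := act 3 n2466
theorem D3532 : act 3 n2466 = n3532 := rfl
theorem F10867 : act 2 n3532 = n3532 := d13_1 D3532 (iv D3532) F7600 F5263 (iv F7600)
theorem F10868 : act 4 n3532 = n3532 := d18_2 D2466 D3532 (iv D3532) (iv D2466) F5260
theorem F10869 : act 5 n3532 = n3532 := d19_2 F7601 D3532 (iv D3532)
theorem F10870 : act 6 n3532 = n3532 := d20_2 F7602 D3532 (iv D3532)
def n3533 : Q := act 0 n2467
theorem D3533 : act 0 n2467 = n3533 := rfl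
theorem F10871 : act 2 n3533 = n2468 := d1_2 (iv F7603) D3533 (iv D2468)
def n3534 : Q := act 5 n2467
theorem D3534 : act 5 n2467 = n3534 := rfl
theorem F10872 : act 2 n3534 = n2469 := d15_1 D3534 (iv D2469) (iv F7603)
def n3535 : Q := act 5 n2468
theorem D3535 : act 5 n2468 = n3535 := rfl
theorem F10873 : act 0 n3535 = n2469 := d4_1 D3535 (iv D2469) D2468
theorem F10874 : act 3 n3535 = n2476 := d19_1 D3535 (iv D2476) (iv F7605)
def n3536 : Q := act 6 n2469
theorem D3536 : act 6 n2469 = n3536 := rfl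
theorem F10875 : act 1 n3536 = n3536 := d11_1 D3536 (iv D3536) F7606
theorem F10876 : act 3 n3536 = n2478 := d20_1 D3536 (iv D2478) (iv F7607)
def n3537 : Q := act 1 n2470
theorem D3537 : act 1 n2470 = n3537 := rfl
theorem F10877 : act 0 n3537 = n3537 := d0_1 D3537 (iv D3537) F7608 F5268 (iv F7608)
theorem F10878 : act 3 n3537 = n2482 := d8_2 (iv F7609) D3537 (iv D2482)
def n3538 : Q := act 6 n2470
theorem D3538 : act 6 n2470 = n3538 := rfl
theorem F10879 : act 0 n3538 = n2471 := d5_1 D3538 (iv D2471) (iv F7608)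
theorem F10880 : act 3 n3538 = n2483 := d20_1 D3538 (iv D2483) (iv F7609)
def n3539 : Q := act 5 n2472
theorem D3539 : act 5 n2472 = n3539 := rfl
theorem F10881 : act 0 n3539 = n2473 := d4_1 D3539 (iv D2473) D2472
theorem F10882 : act 2 n3539 = n2476 := d15_1 D3539 (iv D2476) (iv F7613)
theorem F10883 : act 4 n3539 = n3539 := d22_1 D3539 (iv D3539) F7614
theorem F10884 : act 7 n3539 = n3539 := d26_2 F7615 D3539 (iv D3539)
def n3540 : Q := act 6 n2472
theorem D3540 : act 6 n2472 = n3540 := rfl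
theorem F10885 : act 0 n3540 = n2474 := d5_1 D3540 (iv D2474) D2472
theorem F10886 : act 1 n3540 = n3540 := d11_1 D3540 (iv D3540) F7612
theorem F10887 : act 2 n3540 = n2477 := d16_1 D3540 (iv D2477) (iv F7613)
theorem F10888 : act 4 n3540 = n3540 := d23_1 D3540 (iv D3540) F7614
theorem F10889 : act 5 n2769 = n3540 := d4_0 F10885 (iv F7630) (iv F8535)
theorem F10890 : act 7 n2768 = n3540 := d6_0 F10885 F7629 (iv F8530)
def n3541 : Q := act 6 n2473
theorem D3541 : act 6 n2473 = n3541 := rfl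
theorem F10891 : act 2 n3541 = n2478 := d16_1 D3541 (iv D2478) (iv F7616)
theorem F10892 : act 4 n3541 = n3541 := d23_1 D3541 (iv D3541) F7617
theorem F10893 : act 5 n3541 = n2782 := d25_1 D3541 F8577 F7630 (iv D2474) D2473
theorem F10894 : act 7 n2781 = n3541 := d26_0 F10893 (iv D2782) D2781
def n3542 : Q := act 1 n2476
theorem D3542 : act 1 n2476 = n3542 := rfl
theorem F10895 : act 0 n3542 = n3542 := d0_1 D3542 (iv D3542) F7631 F5286 (iv F7631)
theorem F10896 : act 4 n3542 = n3542 := d9_2 F7632 D3542 (iv D3542)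
theorem F10897 : act 5 n3542 = n2482 := d10_2 D2476 D3542 (iv D2482) (iv D1702) (iv F5283)
theorem F10898 : act 7 n3542 = n3542 := d12_2 F7633 D3542 (iv D3542)
def n3543 : Q := act 6 n2476
theorem D3543 : act 6 n2476 = n3543 := rfl
theorem F10899 : act 0 n3543 = n2478 := d5_1 D3543 (iv D2478) (iv F7631)
theorem F10900 : act 4 n3543 = n3543 := d23_1 D3543 (iv D3543) F7632
def n3544 : Q := act 5 n2477
theorem D3544 : act 5 n2477 = n3544 := rfl
theorem F10901 : act 0 n3544 = n2479 := d4_1 D3544 (iv D2479) (iv F7634)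
theorem F10902 : act 2 n3544 = n2769 := d15_1 D3544 F10889 F10887
theorem F10903 : act 4 n3544 = n3544 := d22_1 D3544 (iv D3544) F7636
theorem F10904 : act 7 n2767 = n3544 := d17_0 F10902 (iv D2769) (iv F8527)
def n3545 : Q := act 7 n2477
theorem D3545 : act 7 n2477 = n3545 := rfl
theorem F10905 : act 0 n3545 = n2480 := d6_1 D3545 (iv D2480) (iv F7634)
theorem F10906 : act 1 n3545 = n2485 := d12_1 D3545 (iv D2485) (iv F7635)
theorem F10907 : act 2 n3545 = n2768 := d17_1 D3545 F10890 F10887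
theorem F10908 : act 4 n3545 = n3545 := d24_1 D3545 (iv D3545) F7636
theorem F10909 : act 5 n3545 = n2767 := d26_1 D3545 F10904 (iv D3544)
theorem F10910 : act 6 n3545 = n3545 := d27_1 D3545 (iv D3545) (iv D2477) F5285 D2477
theorem F10911 : act 3 n2774 = n3545 := d19_3 F10909 F8528 D2774
def n3546 : Q := act 5 n2478
theorem D3546 : act 5 n2478 = n3546 := rfl
theorem F10912 : act 2 n3546 = n2782 := d15_1 D3546 (iv F10893) F10891
theorem F10913 : act 4 n3546 = n3546 := d22_1 D3546 (iv D3546) F7638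
theorem F10914 : act 6 n3546 = n2479 := d25_2 D2478 D3546 (iv D2479) (iv D1700) D1699
theorem F10915 : act 7 n2780 = n3546 := d27_0 F10914 (iv F7641) (iv D1896) (iv F5897) D2780
def n3547 : Q := act 7 n2478
theorem D3547 : act 7 n2478 = n3547 := rfl
theorem F10916 : act 1 n3547 = n3547 := d12_1 D3547 (iv D3547) F7637
theorem F10917 : act 2 n3547 = n2781 := d17_1 D3547 F10894 F10891
theorem F10918 : act 4 n3547 = n3547 := d24_1 D3547 (iv D3547) F7638
theorem F10919 : act 5 n3547 = n2780 := d26_1 D3547 F10915 (iv D3546)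
theorem F10920 : act 6 n3547 = n3547 := d27_1 D3547 (iv D3547) (iv D2478) F5288 D2478
def n3548 : Q := act 2 n2482
theorem D3548 : act 2 n2482 = n3548 := rfl
theorem F10921 : act 0 n3548 = n3548 := d1_1 D3548 (iv D3548) F7653
theorem F10922 : act 1 n3548 = n3548 := d7_1 D3548 (iv D3548) (iv D2482) F5296 D2482
theorem F10923 : act 4 n3548 = n3548 := d14_2 F7654 D3548 (iv D3548)
theorem F10924 : act 7 n3548 = n3548 := d17_2 F7655 D3548 (iv D3548)
def n3549 : Q := act 6 n2482
theorem D3549 : act 6 n2482 = n3549 := rfl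
theorem F10925 : act 0 n3549 = n3549 := d5_1 D3549 (iv D3549) F7653
theorem F10926 : act 1 n3549 = n2483 := d11_1 D3549 (iv D2483) D2482
theorem F10927 : act 4 n3549 = n3549 := d23_1 D3549 (iv D3549) F7654
def n3550 : Q := act 5 n2483
theorem D3550 : act 5 n2483 = n3550 := rfl
theorem F10928 : act 0 n3550 = n2486 := d4_1 D3550 (iv D2486) (iv F7656)
theorem F10929 : act 2 n3550 = n3550 := d15_1 D3550 (iv D3550) F7657
theorem F10930 : act 4 n3550 = n3550 := d22_1 D3550 (iv D3550) F7658
theorem F10931 : act 6 n3550 = n2484 := d25_2 D2483 D3550 (iv D2484) (iv D1703) D1702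
def n3551 : Q := act 7 n2483
theorem D3551 : act 7 n2483 = n3551 := rfl
theorem F10932 : act 0 n3551 = n2487 := d6_1 D3551 (iv D2487) (iv F7656)
theorem F10933 : act 2 n3551 = n3551 := d17_1 D3551 (iv D3551) F7657
theorem F10934 : act 4 n3551 = n3551 := d24_1 D3551 (iv D3551) F7658
theorem F10935 : act 6 n3551 = n3551 := d27_1 D3551 (iv D3551) (iv D2483) F5298 D2483
def n3552 : Q := act 1 n2484
theorem D3552 : act 1 n2484 = n3552 := rfl
theorem F10936 : act 4 n3552 = n3552 := d9_2 F7661 D3552 (iv D3552)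
def n3553 : Q := act 7 n2484
theorem D3553 : act 7 n2484 = n3553 := rfl
theorem F10937 : act 0 n3553 = n2488 := d6_1 D3553 (iv D2488) (iv F7659)
theorem F10938 : act 2 n3553 = n3553 := d17_1 D3553 (iv D3553) F7660
theorem F10939 : act 4 n3553 = n3553 := d24_1 D3553 (iv D3553) F7661
theorem F10940 : act 5 n3553 = n2485 := d26_1 D3553 (iv D2485) D2484
def n3554 : Q := act 3 n2485
theorem D3554 : act 3 n2485 = n3554 := rfl
theorem F10941 : act 0 n3554 = n2489 := d2_1 D3554 (iv D2489) (iv F7662)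
theorem F10942 : act 1 n3554 = n2774 := d8_1 D3554 F10911 F10906
theorem F10943 : act 6 n3554 = n3554 := d20_2 F7665 D3554 (iv D3554)
theorem F10944 : act 4 n3325 = n3554 := d9_0 F10942 F8550 D3325
def n3555 : Q := act 7 n2486
theorem D3555 : act 7 n2486 = n3555 := rfl
theorem F10945 : act 2 n3555 = n3555 := d17_1 D3555 (iv D3555) F7666
theorem F10946 : act 4 n3555 = n3555 := d24_1 D3555 (iv D3555) F7667
theorem F10947 : act 5 n3555 = n2487 := d26_1 D3555 (iv D2487) D2486
def n3556 : Q := act 3 n2487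
theorem D3556 : act 3 n2487 = n3556 := rfl
theorem F10948 : act 1 n3556 = n3556 := d8_1 D3556 (iv D3556) F7669
theorem F10949 : act 6 n3556 = n3556 := d20_2 F7672 D3556 (iv D3556)
def n3557 : Q := act 3 n2488
theorem D3557 : act 3 n2488 = n3557 := rfl
theorem F10950 : act 5 n3557 = n2489 := d19_2 (iv F7675) D3557 (iv D2489)
def n3558 : Q := act 6 n2488
theorem D3558 : act 6 n2488 = n3558 := rfl
theorem F10951 : act 2 n3558 = n3558 := d16_1 D3558 (iv D3558) F7673
theorem F10952 : act 4 n3558 = n3558 := d23_1 D3558 (iv D3558) F7674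
theorem F10953 : act 5 n3558 = n3558 := d25_1 D3558 (iv D3558) F7675 F5310 (iv F7675)
def n3559 : Q := act 2 n2489
theorem D3559 : act 2 n2489 = n3559 := rfl
theorem F10954 : act 1 n3559 = n3559 := d7_1 D3559 (iv D3559) F7676 F5311 (iv F7676)
theorem F10955 : act 3 n3559 = n3559 := d13_2 D2489 D3559 (iv D3559) (iv D2489) F5308
theorem F10956 : act 6 n3559 = n3559 := d16_2 F7677 D3559 (iv D3559)
def n3560 : Q := act 4 n2489
theorem D3560 : act 4 n2489 = n3560 := rfl
theorem F10957 : act 0 n3560 = n3325 := d3_1 D3560 F10944 F10941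
theorem F10958 : act 1 n3560 = n2490 := d9_1 D3560 (iv D2490) (iv F7676)
theorem F10959 : act 3 n3560 = n3560 := d18_1 D3560 (iv D3560) (iv D2489) F5309 D2489
theorem F10960 : act 6 n3560 = n3560 := d23_2 F7677 D3560 (iv D3560)
theorem F10961 : act 7 n3560 = n3035 := d24_2 F9019 D3560 F9354
def n3561 : Q := act 3 n2491
theorem D3561 : act 3 n2491 = n3561 := rfl
theorem F10962 : act 0 n3561 = n3561 := d2_1 D3561 (iv D3561) F7684
theorem F10963 : act 1 n3561 = n2492 := d8_1 D3561 (iv D2492) D2491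
theorem F10964 : act 6 n3561 = n3561 := d20_2 F7687 D3561 (iv D3561)
def n3562 : Q := act 4 n2492
theorem D3562 : act 4 n2492 = n3562 := rfl
theorem F10965 : act 0 n3562 = n2496 := d3_1 D3562 (iv D2496) (iv F7688)
theorem F10966 : act 2 n3562 = n3562 := d14_1 D3562 (iv D3562) F7689
theorem F10967 : act 3 n3562 = n3562 := d18_1 D3562 (iv D3562) (iv D2492) F5314 D2492
theorem F10968 : act 5 n3562 = n2506 := d22_2 (iv F7690) D3562 (iv D2506)
theorem F10969 : act 6 n3562 = n3562 := d23_2 F7691 D3562 (iv D3562)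
def n3563 : Q := act 7 n2492
theorem D3563 : act 7 n2492 = n3563 := rfl
theorem F10970 : act 0 n3563 = n2497 := d6_1 D3563 (iv D2497) (iv F7688)
theorem F10971 : act 2 n3563 = n3563 := d17_1 D3563 (iv D3563) F7689
theorem F10972 : act 5 n3563 = n2507 := d26_1 D3563 (iv D2507) (iv F7690)
def n3564 : Q := act 3 n2493
theorem D3564 : act 3 n2493 = n3564 := rfl
theorem F10973 : act 0 n3564 = n2498 := d2_1 D3564 (iv D2498) (iv F7692)
theorem F10974 : act 5 n3564 = n2508 := d19_2 (iv F7695) D3564 (iv D2508)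
def n3565 : Q := act 6 n2494
theorem D3565 : act 6 n2494 = n3565 := rfl
theorem F10975 : act 0 n3565 = n2500 := d5_1 D3565 (iv D2500) (iv F7696)
theorem F10976 : act 1 n3565 = n3565 := d11_1 D3565 (iv D3565) F7697
theorem F10977 : act 2 n3565 = n2580 := d16_1 D3565 F7957 F7811
theorem F10978 : act 3 n3565 = n2495 := d20_1 D3565 (iv D2495) D2494
theorem F10979 : act 4 n3565 = n2549 := d23_1 D3565 F7874 F7729
theorem F10980 : act 7 n2701 = n3565 := d24_0 F10979 F7875 D2701
def n3566 : Q := act 7 n2496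
theorem D3566 : act 7 n2496 = n3566 := rfl
theorem F10981 : act 1 n3566 = n3566 := d12_1 D3566 (iv D3566) F7704
theorem F10982 : act 2 n3566 = n3566 := d17_1 D3566 (iv D3566) F7705
theorem F10983 : act 4 n3566 = n2497 := d24_1 D3566 (iv D2497) D2496
theorem F10984 : act 5 n3566 = n2514 := d26_1 D3566 (iv D2514) (iv F7707)
def n3567 : Q := act 3 n2497
theorem D3567 : act 3 n2497 = n3567 := rfl
theorem F10985 : act 1 n3567 = n3567 := d8_1 D3567 (iv D3567) F7709
theorem F10986 : act 5 n3567 = n2515 := d19_2 (iv F7711) D3567 (iv D2515)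
theorem F10987 : act 7 n3567 = n2498 := d21_2 D2497 D3567 (iv D2498) (iv D1711) D1710
def n3568 : Q := act 6 n2497
theorem D3568 : act 6 n2497 = n3568 := rfl
theorem F10988 : act 1 n3568 = n3568 := d11_1 D3568 (iv D3568) F7709
theorem F10989 : act 2 n3568 = n3568 := d16_1 D3568 (iv D3568) F7710
theorem F10990 : act 7 n3568 = n3568 := d27_2 D2497 D3568 (iv D3568) (iv D2497) F5324
def n3569 : Q := act 5 n2500
theorem D3569 : act 5 n2500 = n3569 := rfl
theorem F10991 : act 2 n3569 = n2583 := d15_1 D3569 (iv D2583) (iv F7719)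
theorem F10992 : act 3 n3569 = n2501 := d19_1 D3569 (iv D2501) (iv F7720)
theorem F10993 : act 4 n3569 = n2550 := d22_1 D3569 (iv D2550) (iv F7721)
theorem F10994 : act 6 n3569 = n2524 := d25_2 D2500 D3569 (iv D2524) (iv D1727) (iv F5330)
theorem F10995 : act 7 n3569 = n2703 := d26_2 F7722 D3569 (iv D2703)
def n3570 : Q := act 2 n2503
theorem D3570 : act 2 n2503 = n3570 := rfl
theorem F10996 : act 0 n3570 = n2586 := d1_1 D3570 (iv D2586) (iv F7731)
theorem F10997 : act 1 n3570 = n3570 := d7_1 D3570 (iv D3570) F7732 F5348 (iv F7732)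
theorem F10998 : act 3 n3570 = n2826 := d13_2 D2503 D3570 (iv D2826) (iv D1934) (iv F5345)
def n3571 : Q := act 4 n2503
theorem D3571 : act 4 n2503 = n3571 := rfl
theorem F10999 : act 0 n3571 = n2587 := d3_1 D3571 (iv D2587) (iv F7731)
theorem F11000 : act 1 n3571 = n2506 := d9_1 D3571 (iv D2506) (iv F7732)
theorem F11001 : act 3 n3571 = n3571 := d18_1 D3571 (iv D3571) (iv D2503) F5346 D2503
theorem F11002 : act 6 n3571 = n3307 := d23_2 F8254 D3571 F10211
def n3572 : Q := act 5 n2503
theorem D3572 : act 5 n2503 = n3572 := rfl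
theorem F11003 : act 0 n3572 = n2588 := d4_1 D3572 (iv D2588) (iv F7731)
theorem F11004 : act 3 n3572 = n2504 := d19_1 D3572 (iv D2504) D2503
def n3573 : Q := act 7 n2503
theorem D3573 : act 7 n2503 = n3573 := rfl
theorem F11005 : act 0 n3573 = n2589 := d6_1 D3573 (iv D2589) (iv F7731)
theorem F11006 : act 1 n3573 = n2507 := d12_1 D3573 (iv D2507) (iv F7732)
def n3574 : Q := act 3 n2505
theorem D3574 : act 3 n2505 = n3574 := rfl
theorem F11007 : act 0 n3574 = n2592 := d2_1 D3574 (iv D2592) (iv F7736)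
theorem F11008 : act 1 n3574 = n2508 := d8_1 D3574 (iv D2508) (iv F7737)
def n3575 : Q := act 7 n2506
theorem D3575 : act 7 n2506 = n3575 := rfl
theorem F11009 : act 0 n3575 = n2514 := d6_1 D3575 (iv D2514) (iv F7740)
theorem F11010 : act 2 n3575 = n3575 := d17_1 D3575 (iv D3575) F7741
theorem F11011 : act 4 n3575 = n2507 := d24_1 D3575 (iv D2507) D2506
def n3576 : Q := act 3 n2507
theorem D3576 : act 3 n2507 = n3576 := rfl
theorem F11012 : act 0 n3576 = n2515 := d2_1 D3576 (iv D2515) (iv F7744)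
theorem F11013 : act 7 n3576 = n2508 := d21_2 D2507 D3576 (iv D2508) (iv D1718) D1717
def n3577 : Q := act 6 n2507
theorem D3577 : act 6 n2507 = n3577 := rfl
theorem F11014 : act 0 n3577 = n2516 := d5_1 D3577 (iv D2516) (iv F7744)
theorem F11015 : act 2 n3577 = n3577 := d16_1 D3577 (iv D3577) F7745
def n3578 : Q := act 2 n2508
theorem D3578 : act 2 n2508 = n3578 := rfl
theorem F11016 : act 0 n3578 = n2517 := d1_1 D3578 (iv D2517) (iv F7746)
theorem F11017 : act 3 n3578 = n2510 := d13_2 D2508 D3578 (iv D2510) (iv D1719) (iv F5350)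
def n3579 : Q := act 4 n2508
theorem D3579 : act 4 n2508 = n3579 := rfl
theorem F11018 : act 0 n3579 = n2518 := d3_1 D3579 (iv D2518) (iv F7746)
theorem F11019 : act 3 n3579 = n3579 := d18_1 D3579 (iv D3579) (iv D2508) F5351 D2508
def n3580 : Q := act 6 n2508
theorem D3580 : act 6 n2508 = n3580 := rfl
theorem F11020 : act 0 n3580 = n2519 := d5_1 D3580 (iv D2519) (iv F7746)
theorem F11021 : act 3 n3580 = n2509 := d20_1 D3580 (iv D2509) D2508
def n3581 : Q := act 1 n2510
theorem D3581 : act 1 n2510 = n3581 := rfl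
theorem F11022 : act 2 n3581 = n2841 := d7_2 D2510 D3581 (iv D2841) (iv D1941) (iv F5353)
theorem F11023 : act 7 n3581 = n3581 := d12_2 F7751 D3581 (iv D3581)
def n3582 : Q := act 6 n2510
theorem D3582 : act 6 n2510 = n3582 := rfl
theorem F11024 : act 0 n3582 = n2522 := d5_1 D3582 (iv D2522) (iv F7750)
theorem F11025 : act 2 n3582 = n2512 := d16_1 D3582 (iv D2512) D2510
def n3583 : Q := act 6 n2511
theorem D3583 : act 6 n2511 = n3583 := rfl
theorem F11026 : act 0 n3583 = n2523 := d5_1 D3583 (iv D2523) (iv F7752)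
theorem F11027 : act 1 n3583 = n2844 := d11_1 D3583 (iv D2844) (iv F7753)
theorem F11028 : act 3 n3583 = n3583 := d20_1 D3583 (iv D3583) F7754
theorem F11029 : act 4 n3583 = n2512 := d23_1 D3583 (iv D2512) D2511
def n3584 : Q := act 5 n2512
theorem D3584 : act 5 n2512 = n3584 := rfl
theorem F11030 : act 0 n3584 = n2524 := d4_1 D3584 (iv D2524) (iv F7757)
theorem F11031 : act 3 n3584 = n2513 := d19_1 D3584 (iv D2513) (iv F7759)
def n3585 : Q := act 7 n2512
theorem D3585 : act 7 n2512 = n3585 := rfl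
theorem F11032 : act 0 n3585 = n2525 := d6_1 D3585 (iv D2525) (iv F7757)
theorem F11033 : act 1 n3585 = n2846 := d12_1 D3585 (iv D2846) (iv F7758)
theorem F11034 : act 6 n3585 = n3585 := d27_1 D3585 (iv D3585) (iv D2512) F5354 D2512
def n3586 : Q := act 3 n2514
theorem D3586 : act 3 n2514 = n3586 := rfl
theorem F11035 : act 1 n3586 = n2608 := d8_1 D3586 (iv D2608) (iv F7762)
theorem F11036 : act 7 n3586 = n3586 := d21_2 D2514 D3586 (iv D3586) (iv D2514) F5360
def n3587 : Q := act 6 n2514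
theorem D3587 : act 6 n2514 = n3587 := rfl
theorem F11037 : act 1 n3587 = n2609 := d11_1 D3587 (iv D2609) (iv F7762)
theorem F11038 : act 2 n3587 = n3587 := d16_1 D3587 (iv D3587) F7763
theorem F11039 : act 4 n3587 = n2516 := d23_1 D3587 (iv D2516) (iv F7764)
theorem F11040 : act 7 n3587 = n3419 := d27_2 D2514 D3587 (iv D3419) (iv D2380) (iv F5361)
def n3588 : Q := act 2 n2515
theorem D3588 : act 2 n2515 = n3588 := rfl
theorem F11041 : act 3 n3588 = n3588 := d13_2 D2515 D3588 (iv D3588) (iv D2515) F5363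
theorem F11042 : act 7 n3588 = n2517 := d17_2 (iv F7766) D3588 (iv D2517)
def n3589 : Q := act 4 n2515
theorem D3589 : act 4 n2515 = n3589 := rfl
theorem F11043 : act 1 n3589 = n2611 := d9_1 D3589 (iv D2611) (iv F7765)
theorem F11044 : act 7 n3589 = n2518 := d24_2 (iv F7766) D3589 (iv D2518)
def n3590 : Q := act 6 n2515
theorem D3590 : act 6 n2515 = n3590 := rfl
theorem F11045 : act 1 n3590 = n2612 := d11_1 D3590 (iv D2612) (iv F7765)
theorem F11046 : act 3 n3590 = n2516 := d20_1 D3590 (iv D2516) D2515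
def n3591 : Q := act 5 n2516
theorem D3591 : act 5 n2516 = n3591 := rfl
theorem F11047 : act 2 n3591 = n3591 := d15_1 D3591 (iv D3591) F7768
def n3592 : Q := act 1 n2517
theorem D3592 : act 1 n2517 = n3592 := rfl
theorem F11048 : act 2 n3592 = n2614 := d7_2 D2517 D3592 (iv D2614) (iv D1782) (iv F5364)
theorem F11049 : act 3 n3592 = n2521 := d8_2 (iv F7769) D3592 (iv D2521)
def n3593 : Q := act 6 n2517
theorem D3593 : act 6 n2517 = n3593 := rfl
theorem F11050 : act 2 n3593 = n2519 := d16_1 D3593 (iv D2519) D2517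
theorem F11051 : act 3 n3593 = n2522 := d20_1 D3593 (iv D2522) (iv F7769)
def n3594 : Q := act 0 n2521
theorem D3594 : act 0 n2521 = n3594 := rfl
theorem F11052 : act 2 n3594 = n2526 := d1_2 (iv F7776) D3594 (iv D2526)
theorem F11053 : act 7 n3594 = n3594 := d6_2 F7777 D3594 (iv D3594)
def n3595 : Q := act 6 n2521
theorem D3595 : act 6 n2521 = n3595 := rfl
theorem F11054 : act 1 n3595 = n2522 := d11_1 D3595 (iv D2522) D2521
theorem F11055 : act 2 n3595 = n2529 := d16_1 D3595 (iv D2529) (iv F7776)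
def n3596 : Q := act 5 n2522
theorem D3596 : act 5 n2522 = n3596 := rfl
theorem F11056 : act 2 n3596 = n2524 := d15_1 D3596 (iv D2524) (iv F7778)
theorem F11057 : act 4 n3596 = n2584 := d22_1 D3596 F7965 F7825
theorem F11058 : act 6 n3596 = n2583 := d25_2 D2522 D3596 (iv D2583) F5496 (iv F5396)
def n3597 : Q := act 7 n2522
theorem D3597 : act 7 n2522 = n3597 := rfl
theorem F11059 : act 2 n3597 = n2525 := d17_1 D3597 (iv D2525) (iv F7778)
theorem F11060 : act 6 n3597 = n3597 := d27_1 D3597 (iv D3597) (iv D2522) F5368 D2522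
def n3598 : Q := act 5 n2523
theorem D3598 : act 5 n2523 = n3598 := rfl
theorem F11061 : act 2 n3598 = n2584 := d15_1 D3598 F7965 F7823
theorem F11062 : act 3 n3598 = n3598 := d19_1 D3598 (iv D3598) F7780
theorem F11063 : act 4 n3598 = n2524 := d22_1 D3598 (iv D2524) (iv F7781)
theorem F11064 : act 6 n3598 = n2550 := d25_2 D2523 D3598 (iv D2550) F5439 (iv F5371)
def n3599 : Q := act 7 n2524
theorem D3599 : act 7 n2524 = n3599 := rfl
theorem F11065 : act 5 n3599 = n2525 := d26_1 D3599 (iv D2525) D2524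
def n3600 : Q := act 4 n2526
theorem D3600 : act 4 n2526 = n3600 := rfl
theorem F11066 : act 0 n3600 = n2527 := d3_1 D3600 (iv D2527) D2526
theorem F11067 : act 1 n3600 = n2863 := d9_1 D3600 (iv D2863) (iv F7785)
theorem F11068 : act 7 n3600 = n3600 := d24_2 F7787 D3600 (iv D3600)
theorem F11069 : act 5 n3594 = n3600 := d4_0 F11066 (iv F7790) D3594
def n3601 : Q := act 5 n2526
theorem D3601 : act 5 n2526 = n3601 := rfl
theorem F11070 : act 0 n3601 = n2528 := d4_1 D3601 (iv D2528) D2526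
theorem F11071 : act 2 n3601 = n3600 := d15_1 D3601 (iv F11069) F11052
theorem F11072 : act 3 n3601 = n2635 := d19_1 D3601 (iv D2635) (iv F7786)
theorem F11073 : act 4 n3601 = n3594 := d22_1 D3601 F11069 (iv D3600)
theorem F11074 : act 7 n3601 = n3601 := d26_2 F7787 D3601 (iv D3601)
def n3602 : Q := act 6 n2526
theorem D3602 : act 6 n2526 = n3602 := rfl
theorem F11075 : act 0 n3602 = n2529 := d5_1 D3602 (iv D2529) D2526
theorem F11076 : act 1 n3602 = n2865 := d11_1 D3602 (iv D2865) (iv F7785)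
theorem F11077 : act 3 n3602 = n2636 := d20_1 D3602 (iv D2636) (iv F7786)
def n3603 : Q := act 3 n2527
theorem D3603 : act 3 n2527 = n3603 := rfl
theorem F11078 : act 1 n3603 = n2530 := d8_1 D3603 (iv D2530) (iv F7788)
theorem F11079 : act 4 n3603 = n2637 := d18_2 D2527 D3603 (iv D2637) (iv D1794) (iv F5376)
theorem F11080 : act 5 n3603 = n3592 := d19_2 F7790 D3603 F11049
theorem F11081 : act 7 n3472 = n3603 := d24_0 F11079 F8104 D3472
def n3604 : Q := act 6 n2527
theorem D3604 : act 6 n2527 = n3604 := rfl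
theorem F11082 : act 1 n3604 = n2531 := d11_1 D3604 (iv D2531) (iv F7788)
theorem F11083 : act 4 n3604 = n2529 := d23_1 D3604 (iv D2529) D2527
def n3605 : Q := act 6 n2528
theorem D3605 : act 6 n2528 = n3605 := rfl
theorem F11084 : act 1 n3605 = n2536 := d11_1 D3605 (iv D2536) (iv F7791)
theorem F11085 : act 2 n3605 = n3604 := d16_1 D3605 (iv D3604) (iv F7792)
theorem F11086 : act 3 n3605 = n2640 := d20_1 D3605 (iv D2640) (iv F7793)
theorem F11087 : act 4 n3605 = n3595 := d23_1 D3605 (iv D3595) (iv F7794)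
def n3606 : Q := act 5 n2529
theorem D3606 : act 5 n2529 = n3606 := rfl
theorem F11088 : act 3 n3606 = n2641 := d19_1 D3606 (iv D2641) (iv F7797)
theorem F11089 : act 7 n2653 = n3606 := d21_0 F11088 F8663 F7773 (iv F5611) D2653
def n3607 : Q := act 7 n2529
theorem D3607 : act 7 n2529 = n3607 := rfl
theorem F11090 : act 1 n3607 = n2532 := d12_1 D3607 (iv D2532) (iv F7796)
theorem F11091 : act 3 n3607 = n2633 := d21_1 D3607 F8095 (iv F8662) (iv D2642) (iv F7797)
theorem F11092 : act 5 n3607 = n2653 := d26_1 D3607 F11089 (iv D3606)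
theorem F11093 : act 6 n3607 = n3607 := d27_1 D3607 (iv D3607) (iv D2529) F5377 D2529
def n3608 : Q := act 6 n2530
theorem D3608 : act 6 n2530 = n3608 := rfl
theorem F11094 : act 0 n3608 = n2870 := d5_1 D3608 (iv D2870) (iv F7798)
theorem F11095 : act 2 n3608 = n3608 := d16_1 D3608 (iv D3608) F7799
theorem F11096 : act 3 n3608 = n2531 := d20_1 D3608 (iv D2531) D2530
theorem F11097 : act 4 n3608 = n2643 := d23_1 D3608 (iv D2643) (iv F7800)
theorem F11098 : act 7 n3608 = n3608 := d27_2 (iv F7802) D3608 (iv D3608) F7802 F7455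
def n3609 : Q := act 3 n2532
theorem D3609 : act 3 n2532 = n3609 := rfl
theorem F11099 : act 0 n3609 = n2871 := d2_1 D3609 (iv D2871) (iv F7806)
theorem F11100 : act 1 n3609 = n2633 := d8_1 D3609 (iv F11091) F11090
theorem F11101 : act 2 n3609 = n2620 := d13_1 D3609 F8669 F8127 F5600 (iv F7807)
theorem F11102 : act 4 n3609 = n3609 := d18_2 F10577 D3609 (iv D3609) (iv F10577) F10576
theorem F11103 : act 6 n3609 = n3609 := d20_2 F7808 D3609 (iv D3609)
theorem F11104 : act 7 n3609 = n2647 := d21_2 D2532 D3609 (iv D2647) (iv D1800) (iv F5384)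
def n3610 : Q := act 3 n2533
theorem D3610 : act 3 n2533 = n3610 := rfl
theorem F11105 : act 0 n3610 = n2535 := d2_1 D3610 (iv D2535) (iv F7809)
theorem F11106 : act 1 n3610 = n2872 := d8_1 D3610 (iv D2872) (iv F7810)
theorem F11107 : act 2 n3610 = n3564 := d13_1 D3610 (iv D3564) F7693 D2494 (iv F7811)
theorem F11108 : act 4 n3610 = n2654 := d18_2 D2533 D3610 (iv D2654) (iv D1806) (iv F5391)
theorem F11109 : act 5 n3610 = n3578 := d19_2 F7813 D3610 F11017
def n3611 : Q := act 1 n2534
theorem D3611 : act 1 n2534 = n3611 := rfl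
theorem F11110 : act 3 n3611 = n2656 := d8_2 (iv F7816) D3611 (iv D2656)
theorem F11111 : act 4 n3611 = n3581 := d9_2 (iv F7817) D3611 (iv D3581)
theorem F11112 : act 5 n3611 = n2874 := d10_2 D2534 D3611 (iv D2874) (iv D1966) (iv F5390)
theorem F11113 : act 7 n3611 = n3611 := d12_2 F7818 D3611 (iv D3611)
def n3612 : Q := act 6 n2534
theorem D3612 : act 6 n2534 = n3612 := rfl
theorem F11114 : act 0 n3612 = n2536 := d5_1 D3612 (iv D2536) (iv F7814)
theorem F11115 : act 2 n3612 = n3583 := d16_1 D3612 (iv D3583) (iv F7815)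
theorem F11116 : act 3 n3612 = n2657 := d20_1 D3612 (iv D2657) (iv F7816)
theorem F11117 : act 4 n3612 = n3582 := d23_1 D3612 (iv D3582) (iv F7817)
def n3613 : Q := act 7 n2535
theorem D3613 : act 7 n2535 = n3613 := rfl
theorem F11118 : act 1 n3613 = n2537 := d12_1 D3613 (iv D2537) (iv F7819)
theorem F11119 : act 2 n3613 = n3567 := d17_1 D3613 F10987 (iv F7820)
theorem F11120 : act 3 n3613 = n3613 := d21_1 D3613 (iv D3613) (iv D2535) F5395 D2535
theorem F11121 : act 4 n3613 = n2662 := d24_1 D3613 (iv D2662) (iv F7821)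
theorem F11122 : act 5 n3613 = n3588 := d26_1 D3613 F11042 (iv F7822)
def n3614 : Q := act 7 n2536
theorem D3614 : act 7 n2536 = n3614 := rfl
theorem F11123 : act 2 n3614 = n3446 := d17_1 D3614 F10583 (iv F7823)
theorem F11124 : act 4 n3614 = n3597 := d24_1 D3614 (iv D3597) (iv F7825)
theorem F11125 : act 6 n3614 = n3614 := d27_1 D3614 (iv D3614) (iv D2536) F5400 D2536
def n3615 : Q := act 6 n2537
theorem D3615 : act 6 n2537 = n3615 := rfl
theorem F11126 : act 0 n3615 = n2878 := d5_1 D3615 (iv D2878) (iv F7826)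
theorem F11127 : act 2 n3615 = n3615 := d16_1 D3615 (iv D3615) F7827
theorem F11128 : act 3 n3615 = n3615 := d20_1 D3615 (iv D3615) F7828
theorem F11129 : act 4 n3615 = n2670 := d23_1 D3615 (iv D2670) (iv F7829)
theorem F11130 : act 5 n3615 = n3615 := d25_1 D3615 (iv D3615) F7830 F7455 (iv F7830)
def n3616 : Q := act 5 n2538
theorem D3616 : act 5 n2538 = n3616 := rfl
theorem F11131 : act 0 n3616 = n3616 := d4_1 D3616 (iv D3616) F7831
theorem F11132 : act 1 n3616 = n2552 := d10_1 D3616 (iv D2552) (iv D1747) (iv F5407) D2538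
theorem F11133 : act 2 n3616 = n3616 := d15_1 D3616 (iv D3616) F7832
theorem F11134 : act 3 n3616 = n3193 := d19_1 D3616 (iv D3193) (iv F7833)
theorem F11135 : act 4 n3616 = n3616 := d22_1 D3616 (iv D3616) F7834
def n3617 : Q := act 7 n2538
theorem D3617 : act 7 n2538 = n3617 := rfl
theorem F11136 : act 0 n3617 = n3617 := d6_1 D3617 (iv D3617) F7831
theorem F11137 : act 1 n3617 = n2539 := d12_1 D3617 (iv D2539) D2538
theorem F11138 : act 2 n3617 = n3617 := d17_1 D3617 (iv D3617) F7832
theorem F11139 : act 4 n3617 = n3617 := d24_1 D3617 (iv D3617) F7834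
def n3618 : Q := act 3 n2539
theorem D3618 : act 3 n2539 = n3618 := rfl
theorem F11140 : act 0 n3618 = n2542 := d2_1 D3618 (iv D2542) (iv F7836)
theorem F11141 : act 5 n3618 = n2555 := d19_2 (iv F7839) D3618 (iv D2555)
theorem F11142 : act 7 n3618 = n3305 := d21_2 D2539 D3618 (iv D3305) (iv D2295) (iv F5405)
def n3619 : Q := act 6 n2539
theorem D3619 : act 6 n2539 = n3619 := rfl
theorem F11143 : act 0 n3619 = n2543 := d5_1 D3619 (iv D2543) (iv F7836)
theorem F11144 : act 2 n3619 = n2541 := d16_1 D3619 (iv D2541) (iv F7837)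
theorem F11145 : act 4 n3619 = n3619 := d23_1 D3619 (iv D3619) F7838
theorem F11146 : act 7 n3619 = n3619 := d27_2 D2539 D3619 (iv D3619) (iv D2539) F5408
def n3620 : Q := act 2 n2540
theorem D3620 : act 2 n2540 = n3620 := rfl
theorem F11147 : act 0 n3620 = n2544 := d1_1 D3620 (iv D2544) (iv F7840)
theorem F11148 : act 5 n3620 = n2557 := d15_2 (iv F7842) D3620 (iv D2557)
theorem F11149 : act 7 n3620 = n2687 := d17_2 (iv F7843) D3620 (iv D2687)
def n3621 : Q := act 4 n2540
theorem D3621 : act 4 n2540 = n3621 := rfl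
theorem F11150 : act 0 n3621 = n2545 := d3_1 D3621 (iv D2545) (iv F7840)
theorem F11151 : act 1 n3621 = n3621 := d9_1 D3621 (iv D3621) F7841
theorem F11152 : act 3 n3621 = n3621 := d18_1 D3621 (iv D3621) (iv D2540) F5411 D2540
theorem F11153 : act 5 n3621 = n2558 := d22_2 (iv F7842) D3621 (iv D2558)
theorem F11154 : act 7 n3621 = n2688 := d24_2 (iv F7843) D3621 (iv D2688)
def n3622 : Q := act 6 n2540
theorem D3622 : act 6 n2540 = n3622 := rfl
theorem F11155 : act 0 n3622 = n2546 := d5_1 D3622 (iv D2546) (iv F7840)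
theorem F11156 : act 1 n3622 = n3622 := d11_1 D3622 (iv D3622) F7841
theorem F11157 : act 3 n3622 = n2541 := d20_1 D3622 (iv D2541) D2540
def n3623 : Q := act 5 n2541
theorem D3623 : act 5 n2541 = n3623 := rfl
theorem F11158 : act 0 n3623 = n2547 := d4_1 D3623 (iv D2547) (iv F7844)
theorem F11159 : act 4 n3623 = n3623 := d22_1 D3623 (iv D3623) F7846
theorem F11160 : act 6 n3623 = n2560 := d25_2 D2541 D3623 (iv D2560) (iv D1751) (iv F5412)
theorem F11161 : act 7 n3623 = n3623 := d26_2 F7847 D3623 (iv D3623)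
theorem F11162 : act 1 n3247 = n3623 := d0_0 F11158 F7863 (iv F9991) F9992 (iv F10016)
theorem F11163 : act 2 n3623 = n3262 := d7_2 D3247 F11162 (iv D3262) (iv D2262) (iv F6943)
theorem F11164 : act 5 n3262 = n3619 := d15_2 D3623 F11163 F11144
theorem F11165 : act 1 n3619 = n3266 := d10_1 F11164 (iv D3266) (iv D2265) (iv F7013) D3262
theorem F11166 : act 6 n3266 = n3617 := d11_2 D3619 F11165 F11137
theorem F11167 : act 5 n3617 = n3285 := d25_1 F11166 (iv D3285) (iv D2280) (iv F7027) D3266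
theorem F11168 : act 7 n3285 = n3616 := d26_2 D3617 F11167 (iv D3616)
theorem F11169 : act 6 n3616 = n3298 := d27_1 F11168 (iv D3298) (iv D2289) (iv F7082) D3285
def n3624 : Q := act 2 n2542
theorem D3624 : act 2 n2542 = n3624 := rfl
theorem F11170 : act 3 n3624 = n2544 := d13_2 D2542 D3624 (iv D2544) (iv D1741) (iv F5414)
theorem F11171 : act 5 n3624 = n2563 := d15_2 (iv F7849) D3624 (iv D2563)
theorem F11172 : act 7 n3624 = n3414 := d17_2 (iv F7850) D3624 (iv D3414)
def n3625 : Q := act 4 n2542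
theorem D3625 : act 4 n2542 = n3625 := rfl
theorem F11173 : act 1 n3625 = n3625 := d9_1 D3625 (iv D3625) F7848
theorem F11174 : act 3 n3625 = n3625 := d18_1 D3625 (iv D3625) (iv D2542) F5415 D2542
theorem F11175 : act 5 n3625 = n2564 := d22_2 (iv F7849) D3625 (iv D2564)
theorem F11176 : act 7 n3625 = n3415 := d24_2 (iv F7850) D3625 (iv D3415)
theorem F11177 : act 6 n3443 = n3625 := d29_4 D1115 D1640 D2400 D3443 F11175 (iv F8243) (iv F8250) F8247 (iv D1825) (iv D1231) (iv D831) (iv D561) (iv D352) (iv D191) (iv F1421) D182 F610 F611 F1425 F625 D192 F646 F648 D354 (iv F1459) F1026 (iv F991) (iv F1704) D759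
def n3626 : Q := act 6 n2542
theorem D3626 : act 6 n2542 = n3626 := rfl
theorem F11178 : act 1 n3626 = n3626 := d11_1 D3626 (iv D3626) F7848
theorem F11179 : act 3 n3626 = n2543 := d20_1 D3626 (iv D2543) D2542
theorem F11180 : act 4 n3626 = n3443 := d23_1 D3626 F11177 (iv D3625)
theorem F11181 : act 5 n2739 = n3626 := d22_0 F11180 (iv D3443) (iv F8434)
theorem F11182 : act 7 n2738 = n3626 := d24_0 F11180 F10571 (iv F8432)
def n3627 : Q := act 5 n2543
theorem D3627 : act 5 n2543 = n3627 := rfl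
theorem F11183 : act 0 n3627 = n3262 := d4_1 D3627 F11164 F11143
theorem F11184 : act 2 n3627 = n2547 := d15_1 D3627 (iv D2547) (iv F7852)
theorem F11185 : act 3 n3627 = n2739 := d19_1 D3627 F11181 F11179
theorem F11186 : act 4 n3627 = n3627 := d22_1 D3627 (iv D3627) F7853
theorem F11187 : act 6 n3627 = n2566 := d25_2 D2543 D3627 (iv D2566) (iv D1754) (iv F5416)
theorem F11188 : act 7 n3627 = n3627 := d26_2 F7854 D3627 (iv D3627)
theorem F11189 : act 1 n3627 = n2740 := d30_2 D2543 D3627 F8436 (iv D1914) (iv D1287) (iv D865) F1918 D582 F1927 F1928 (iv F2667) D1222 D1813 D2667 F8203 (iv F10505) (iv F11176) (iv F11177) (iv D3443) (iv D2400) (iv D1640) (iv D1115) (iv D759) F1706 F1705 (iv F2453) (iv F3524) (iv F3748) D1740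
def n3628 : Q := act 1 n2544
theorem D3628 : act 1 n2544 = n3628 := rfl
theorem F11190 : act 2 n3628 = n2548 := d7_2 D2544 D3628 (iv D2548) (iv D1743) (iv F5417)
theorem F11191 : act 7 n3628 = n2691 := d12_2 (iv F7856) D3628 (iv D2691)
def n3629 : Q := act 4 n2544
theorem D3629 : act 4 n2544 = n3629 := rfl
theorem F11192 : act 2 n3629 = n2545 := d14_1 D3629 (iv D2545) D2544
theorem F11193 : act 5 n3629 = n2568 := d22_2 (iv F7855) D3629 (iv D2568)
theorem F11194 : act 7 n3629 = n2692 := d24_2 (iv F7856) D3629 (iv D2692)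
theorem F11195 : act 6 n3628 = n3629 := d16_0 F11192 (iv F7869) (iv F11190)
def n3630 : Q := act 6 n2544
theorem D3630 : act 6 n2544 = n3630 := rfl
theorem F11196 : act 1 n3630 = n3629 := d11_1 D3630 (iv F11195) (iv D3628)
theorem F11197 : act 2 n3630 = n2546 := d16_1 D3630 (iv D2546) D2544
theorem F11198 : act 4 n3630 = n3628 := d23_1 D3630 F11195 (iv D3629)
def n3631 : Q := act 5 n2546
theorem D3631 : act 5 n2546 = n3631 := rfl
theorem F11199 : act 1 n3631 = n3569 := d10_1 D3631 (iv D3569) F7718 (iv F5436) (iv F7861)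
theorem F11200 : act 3 n3631 = n2547 := d19_1 D3631 (iv D2547) (iv F7862)
theorem F11201 : act 6 n3631 = n2571 := d25_2 D2546 D3631 (iv D2571) (iv D1757) (iv F5418)
def n3632 : Q := act 0 n2548
theorem D3632 : act 0 n2548 = n3632 := rfl
theorem F11202 : act 1 n3632 = n3632 := d0_2 D2548 D3632 (iv D3632) (iv D2548) F5423
theorem F11203 : act 3 n3632 = n3632 := d2_2 F7867 D3632 (iv D3632)
theorem F11204 : act 4 n3632 = n3622 := d3_2 (iv F7868) D3632 F11155
theorem F11205 : act 6 n3632 = n3621 := d5_2 (iv F7869) D3632 F11150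
theorem F11206 : act 7 n3632 = n2697 := d6_2 (iv F7870) D3632 (iv D2697)
def n3633 : Q := act 5 n2548
theorem D3633 : act 5 n2548 = n3633 := rfl
theorem F11207 : act 1 n3633 = n2550 := d10_1 D3633 (iv D2550) (iv D1746) (iv F5425) D2548
theorem F11208 : act 3 n3633 = n3633 := d19_1 D3633 (iv D3633) F7867
theorem F11209 : act 4 n3633 = n3631 := d22_1 D3633 (iv D3631) (iv F7868)
theorem F11210 : act 7 n3633 = n2699 := d26_2 (iv F7870) D3633 (iv D2699)
def n3634 : Q := act 5 n2549
theorem D3634 : act 5 n2549 = n3634 := rfl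
theorem F11211 : act 0 n3634 = n2550 := d4_1 D3634 (iv D2550) D2549
theorem F11212 : act 2 n3634 = n2581 := d15_1 D3634 (iv D2581) (iv F7872)
theorem F11213 : act 3 n3634 = n3634 := d19_1 D3634 (iv D3634) F7873
theorem F11214 : act 7 n3634 = n2702 := d26_2 (iv F7875) D3634 (iv D2702)
def n3635 : Q := act 2 n2551
theorem D3635 : act 2 n2551 = n3635 := rfl
theorem F11215 : act 1 n3635 = n2705 := d7_1 D3635 (iv D2705) F5732 (iv F5445) (iv F7879)
theorem F11216 : act 3 n3635 = n2879 := d13_2 D2551 D3635 (iv D2879) (iv D1971) (iv F5441)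
theorem F11217 : act 4 n3635 = n3111 := d14_2 F7881 D3635 F9598
theorem F11218 : act 6 n3635 = n2586 := d16_2 (iv F7880) D3635 (iv D2586)
def n3636 : Q := act 5 n2551
theorem D3636 : act 5 n2551 = n3636 := rfl
theorem F11219 : act 1 n3636 = n3193 := d10_1 D3636 (iv D3193) F6848 (iv F5446) (iv F7879)
theorem F11220 : act 3 n3636 = n2552 := d19_1 D3636 (iv D2552) D2551
theorem F11221 : act 4 n3636 = n3195 := d22_1 D3636 F9858 F7881
def n3637 : Q := act 7 n2551
theorem D3637 : act 7 n2551 = n3637 := rfl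
theorem F11222 : act 1 n3637 = n2554 := d12_1 D3637 (iv D2554) (iv F7879)
theorem F11223 : act 4 n3637 = n3308 := d24_1 D3637 (iv D3308) F7881
def n3638 : Q := act 6 n2552
theorem D3638 : act 6 n2552 = n3638 := rfl
theorem F11224 : act 1 n3638 = n3298 := d11_1 D3638 (iv F11169) F11132
theorem F11225 : act 2 n3638 = n2883 := d16_1 D3638 (iv D2883) (iv F7882)
theorem F11226 : act 4 n3638 = n3638 := d23_1 D3638 (iv D3638) F7883
theorem F11227 : act 5 n3638 = n2590 := d25_1 D3638 (iv D2590) (iv D1769) (iv F5443) D2552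
theorem F11228 : act 7 n3053 = n3638 := d26_0 F11227 F8838 (iv F9410)
def n3639 : Q := act 7 n2552
theorem D3639 : act 7 n2552 = n3639 := rfl
theorem F11229 : act 1 n3639 = n3285 := d12_1 D3639 F11168 F11132
theorem F11230 : act 2 n3639 = n2884 := d17_1 D3639 (iv D2884) (iv F7882)
theorem F11231 : act 4 n3639 = n3639 := d24_1 D3639 (iv D3639) F7883
theorem F11232 : act 5 n3639 = n2553 := d26_1 D3639 (iv D2553) D2552
theorem F11233 : act 6 n3639 = n3044 := d27_1 D3639 F9383 D3053 F11228 (iv D3638)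
def n3640 : Q := act 3 n2553
theorem D3640 : act 3 n2553 = n3640 := rfl
theorem F11234 : act 1 n3640 = n2555 := d8_1 D3640 (iv D2555) (iv F7884)
def n3641 : Q := act 6 n2553
theorem D3641 : act 6 n2553 = n3641 := rfl
theorem F11235 : act 1 n3641 = n2556 := d11_1 D3641 (iv D2556) (iv F7884)
theorem F11236 : act 2 n3641 = n2886 := d16_1 D3641 (iv D2886) (iv F7885)
theorem F11237 : act 4 n3641 = n3641 := d23_1 D3641 (iv D3641) F7886
theorem F11238 : act 5 n3641 = n3018 := d25_1 D3641 F9304 D3044 (iv F11233) F11232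
theorem F11239 : act 7 n3641 = n2593 := d27_2 D2553 D3641 (iv D2593) (iv D1770) (iv F5443)
def n3642 : Q := act 3 n2554
theorem D3642 : act 3 n2554 = n3642 := rfl
theorem F11240 : act 0 n3642 = n2561 := d2_1 D3642 (iv D2561) (iv F7887)
theorem F11241 : act 5 n3642 = n3305 := d19_2 (iv F7890) D3642 (iv D3305)
theorem F11242 : act 7 n3642 = n2555 := d21_2 D2554 D3642 (iv D2555) (iv D1749) D1748
def n3643 : Q := act 6 n2554
theorem D3643 : act 6 n2554 = n3643 := rfl
theorem F11243 : act 0 n3643 = n2562 := d5_1 D3643 (iv D2562) (iv F7887)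
theorem F11244 : act 2 n3643 = n2710 := d16_1 D3643 (iv D2710) (iv F7888)
theorem F11245 : act 4 n3643 = n3310 := d23_1 D3643 (iv D3310) (iv F7889)
theorem F11246 : act 7 n3643 = n2596 := d27_2 D2554 D3643 (iv D2596) (iv D1772) (iv F5447)
def n3644 : Q := act 2 n2555
theorem D3644 : act 2 n2555 = n3644 := rfl
theorem F11247 : act 0 n3644 = n2563 := d1_1 D3644 (iv D2563) (iv F7891)
theorem F11248 : act 3 n3644 = n2557 := d13_2 D2555 D3644 (iv D2557) (iv D1750) (iv F5450)
def n3645 : Q := act 4 n2555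
theorem D3645 : act 4 n2555 = n3645 := rfl
theorem F11249 : act 0 n3645 = n2564 := d3_1 D3645 (iv D2564) (iv F7891)
theorem F11250 : act 3 n3645 = n3645 := d18_1 D3645 (iv D3645) (iv D2555) F5451 D2555
def n3646 : Q := act 6 n2555
theorem D3646 : act 6 n2555 = n3646 := rfl
theorem F11251 : act 0 n3646 = n2565 := d5_1 D3646 (iv D2565) (iv F7891)
theorem F11252 : act 3 n3646 = n2556 := d20_1 D3646 (iv D2556) D2555
def n3647 : Q := act 5 n2556
theorem D3647 : act 5 n2556 = n3647 := rfl
theorem F11253 : act 0 n3647 = n2566 := d4_1 D3647 (iv D2566) (iv F7892)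
theorem F11254 : act 1 n3647 = n3002 := d10_1 D3647 F9258 D3018 (iv F11238) F11235
theorem F11255 : act 2 n3647 = n2560 := d15_1 D3647 (iv D2560) (iv F7893)
theorem F11256 : act 4 n3647 = n3647 := d22_1 D3647 (iv D3647) F7894
theorem F11257 : act 6 n3647 = n3262 := d25_2 D2556 D3647 F11164 (iv D3619) F7839
theorem F11258 : act 7 n3647 = n2600 := d26_2 (iv F7895) D3647 (iv D2600)
def n3648 : Q := act 1 n2557
theorem D3648 : act 1 n2557 = n3648 := rfl
theorem F11259 : act 2 n3648 = n2894 := d7_2 D2557 D3648 (iv D2894) (iv D1978) (iv F5453)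
theorem F11260 : act 7 n3648 = n2715 := d12_2 (iv F7897) D3648 (iv D2715)
def n3649 : Q := act 4 n2557
theorem D3649 : act 4 n2557 = n3649 := rfl
theorem F11261 : act 0 n3649 = n2568 := d3_1 D3649 (iv D2568) (iv F7896)
theorem F11262 : act 2 n3649 = n2558 := d14_1 D3649 (iv D2558) D2557
theorem F11263 : act 7 n3649 = n2716 := d24_2 (iv F7897) D3649 (iv D2716)
def n3650 : Q := act 6 n2557
theorem D3650 : act 6 n2557 = n3650 := rfl
theorem F11264 : act 0 n3650 = n2569 := d5_1 D3650 (iv D2569) (iv F7896)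
theorem F11265 : act 2 n3650 = n2559 := d16_1 D3650 (iv D2559) D2557
def n3651 : Q := act 6 n2558
theorem D3651 : act 6 n2558 = n3651 := rfl
theorem F11266 : act 0 n3651 = n2570 := d5_1 D3651 (iv D2570) (iv F7898)
theorem F11267 : act 1 n3651 = n2897 := d11_1 D3651 (iv D2897) (iv F7899)
theorem F11268 : act 3 n3651 = n3651 := d20_1 D3651 (iv D3651) F7900
theorem F11269 : act 4 n3651 = n2559 := d23_1 D3651 (iv D2559) D2558
theorem F11270 : act 7 n3651 = n3316 := d27_2 (iv F7901) D3651 (iv D3316) F7135 F5754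
def n3652 : Q := act 5 n2559
theorem D3652 : act 5 n2559 = n3652 := rfl
theorem F11271 : act 0 n3652 = n2571 := d4_1 D3652 (iv D2571) (iv F7902)
theorem F11272 : act 3 n3652 = n2560 := d19_1 D3652 (iv D2560) (iv F7904)
def n3653 : Q := act 7 n2559
theorem D3653 : act 7 n2559 = n3653 := rfl
theorem F11273 : act 0 n3653 = n2572 := d6_1 D3653 (iv D2572) (iv F7902)
theorem F11274 : act 1 n3653 = n2899 := d12_1 D3653 (iv D2899) (iv F7903)
theorem F11275 : act 3 n3653 = n2606 := d21_1 D3653 (iv D2606) F5532 (iv F5458) (iv F7904)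
theorem F11276 : act 4 n3653 = n3316 := d24_1 D3653 (iv F11270) F11269
theorem F11277 : act 6 n3653 = n2718 := d27_1 D3653 (iv D2718) (iv D1848) (iv F5454) D2559
def n3654 : Q := act 1 n2560
theorem D3654 : act 1 n2560 = n3654 := rfl
theorem F11278 : act 0 n3654 = n2980 := d0_1 D3654 F9188 F7760 (iv F5471) (iv F7905)
theorem F11279 : act 2 n3654 = n2979 := d7_2 F11255 D3654 F9184 D3002 (iv F11254)
theorem F11280 : act 4 n3654 = n3654 := d9_2 F7906 D3654 (iv D3654)
theorem F11281 : act 5 n3654 = n2900 := d10_2 D2560 D3654 (iv D2900) (iv D1981) (iv F5456)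
theorem F11282 : act 6 n3654 = n3247 := d11_2 F11160 D3654 F11162
theorem F11283 : act 7 n3654 = n2607 := d12_2 (iv F7907) D3654 (iv D2607)
def n3655 : Q := act 2 n2561
theorem D3655 : act 2 n2561 = n3655 := rfl
theorem F11284 : act 3 n3655 = n2720 := d13_2 D2561 D3655 (iv D2720) (iv D1850) (iv F5459)
theorem F11285 : act 5 n3655 = n3414 := d15_2 (iv F7908) D3655 (iv D3414)
theorem F11286 : act 7 n3655 = n2563 := d17_2 (iv F7909) D3655 (iv D2563)
def n3656 : Q := act 4 n2561
theorem D3656 : act 4 n2561 = n3656 := rfl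
theorem F11287 : act 1 n3656 = n2676 := d9_1 D3656 F8249 F8246
theorem F11288 : act 3 n3656 = n2673 := d18_1 D3656 F8224 (iv D2381) (iv F5460) D2561
theorem F11289 : act 5 n3656 = n3415 := d22_2 (iv F7908) D3656 (iv D3415)
theorem F11290 : act 7 n3656 = n2564 := d24_2 (iv F7909) D3656 (iv D2564)
def n3657 : Q := act 6 n2561
theorem D3657 : act 6 n2561 = n3657 := rfl
theorem F11291 : act 3 n3657 = n2562 := d20_1 D3657 (iv D2562) D2561
def n3658 : Q := act 5 n2562
theorem D3658 : act 5 n2562 = n3658 := rfl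
theorem F11292 : act 2 n3658 = n2723 := d15_1 D3658 (iv D2723) (iv F7910)
theorem F11293 : act 4 n3658 = n3421 := d22_1 D3658 (iv D3421) (iv F7911)
theorem F11294 : act 6 n3658 = n3417 := d25_2 D2562 D3658 (iv D3417) (iv D2378) (iv F5461)
theorem F11295 : act 7 n3658 = n2613 := d26_2 (iv F7912) D3658 (iv D2613)
def n3659 : Q := act 1 n2563
theorem D3659 : act 1 n2563 = n3659 := rfl
theorem F11296 : act 2 n3659 = n3656 := d7_2 D2563 D3659 F11287 F8235 F5664
theorem F11297 : act 3 n3659 = n2567 := d8_2 (iv F7913) D3659 (iv D2567)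
theorem F11298 : act 4 n3655 = n3659 := d14_0 F11296 (iv D3656) D3655
def n3660 : Q := act 4 n2563
theorem D3660 : act 4 n2563 = n3660 := rfl
theorem F11299 : act 1 n3660 = n3655 := d9_1 D3660 F11298 (iv D3659)
theorem F11300 : act 2 n3660 = n2564 := d14_1 D3660 (iv D2564) D2563
theorem F11301 : act 7 n3660 = n3659 := d24_2 F11286 D3660 (iv F11298)
def n3661 : Q := act 6 n2563
theorem D3661 : act 6 n2563 = n3661 := rfl
theorem F11302 : act 2 n3661 = n2565 := d16_1 D3661 (iv D2565) D2563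
theorem F11303 : act 3 n3661 = n2569 := d20_1 D3661 (iv D2569) (iv F7913)
def n3662 : Q := act 6 n2564
theorem D3662 : act 6 n2564 = n3662 := rfl
theorem F11304 : act 3 n3662 = n3662 := d20_1 D3662 (iv D3662) F7914
theorem F11305 : act 4 n3662 = n2565 := d23_1 D3662 (iv D2565) D2564
theorem F11306 : act 5 n3662 = n3444 := d25_1 D3662 (iv D3444) D3443 F11177 F11175
def n3663 : Q := act 5 n2565
theorem D3663 : act 5 n2565 = n3663 := rfl
theorem F11307 : act 1 n3663 = n2579 := d10_1 D3663 F7953 (iv F11090) F11092 F8150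
theorem F11308 : act 3 n3663 = n2566 := d19_1 D3663 (iv D2566) (iv F7915)
theorem F11309 : act 4 n3663 = n3444 := d22_1 D3663 (iv F11306) F11305
theorem F11310 : act 6 n3663 = n2739 := d25_2 D2565 D3663 F11181 (iv D3626) F7849
theorem F11311 : act 7 n2576 = n3663 := d27_0 F11310 (iv D2739) (iv D1863) (iv F5474) D2576
def n3664 : Q := act 7 n2565
theorem D3664 : act 7 n2565 = n3664 := rfl
theorem F11312 : act 1 n3664 = n3606 := d12_1 D3664 (iv F11089) F8150
theorem F11313 : act 3 n3664 = n2619 := d21_1 D3664 (iv D2619) F5546 (iv F5464) (iv F7915)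
theorem F11314 : act 5 n3664 = n2576 := d26_1 D3664 F11311 (iv D3663)
def n3665 : Q := act 1 n2566
theorem D3665 : act 1 n2566 = n3665 := rfl
theorem F11315 : act 0 n3665 = n2930 := d0_1 D3665 F9039 (iv F9256) (iv F11254) F11253
theorem F11316 : act 2 n3665 = n2647 := d7_2 (iv F7916) D3665 (iv F8667) F7774 (iv F5471)
theorem F11317 : act 3 n3665 = n2579 := d8_2 F11308 D3665 (iv F11307)
theorem F11318 : act 4 n3665 = n3665 := d9_2 F7917 D3665 (iv D3665)
theorem F11319 : act 5 n3665 = n3609 := d10_2 D2566 D3665 F11100 F8093 F5608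
theorem F11320 : act 6 n3665 = n2740 := d11_2 F11187 D3665 (iv F11189)
theorem F11321 : act 7 n3665 = n2620 := d12_2 (iv F7918) D3665 (iv D2620)
def n3666 : Q := act 0 n2567
theorem D3666 : act 0 n2567 = n3666 := rfl
theorem F11322 : act 2 n3666 = n2573 := d1_2 (iv F7919) D3666 (iv D2573)
theorem F11323 : act 7 n3666 = n2728 := d6_2 (iv F7920) D3666 (iv D2728)
def n3667 : Q := act 4 n2567
theorem D3667 : act 4 n2567 = n3667 := rfl
theorem F11324 : act 1 n3667 = n2568 := d9_1 D3667 (iv D2568) D2567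
theorem F11325 : act 2 n3667 = n2574 := d14_1 D3667 (iv D2574) (iv F7919)
theorem F11326 : act 7 n3667 = n2729 := d24_2 (iv F7920) D3667 (iv D2729)
def n3668 : Q := act 5 n2567
theorem D3668 : act 5 n2567 = n3668 := rfl
theorem F11327 : act 2 n3668 = n2575 := d15_1 D3668 (iv D2575) (iv F7919)
theorem F11328 : act 7 n3668 = n2730 := d26_2 (iv F7920) D3668 (iv D2730)
def n3669 : Q := act 6 n2567
theorem D3669 : act 6 n2567 = n3669 := rfl
theorem F11329 : act 1 n3669 = n2569 := d11_1 D3669 (iv D2569) D2567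
theorem F11330 : act 2 n3669 = n2576 := d16_1 D3669 (iv D2576) (iv F7919)
def n3670 : Q := act 3 n2568
theorem D3670 : act 3 n2568 = n3670 := rfl
theorem F11331 : act 2 n3670 = n3670 := d13_1 D3670 (iv D3670) F7921 F5467 (iv F7921)
def n3671 : Q := act 6 n2568
theorem D3671 : act 6 n2568 = n3671 := rfl
theorem F11332 : act 2 n3671 = n2570 := d16_1 D3671 (iv D2570) (iv F7921)
theorem F11333 : act 4 n3671 = n2569 := d23_1 D3671 (iv D2569) D2568
theorem F11334 : act 7 n3671 = n3428 := d27_2 (iv F7922) D3671 (iv D3428) F7364 F5782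
def n3672 : Q := act 5 n2569
theorem D3672 : act 5 n2569 = n3672 := rfl
theorem F11335 : act 2 n3672 = n2571 := d15_1 D3672 (iv D2571) (iv F7923)
def n3673 : Q := act 7 n2569
theorem D3673 : act 7 n2569 = n3673 := rfl
theorem F11336 : act 2 n3673 = n2572 := d17_1 D3673 (iv D2572) (iv F7923)
theorem F11337 : act 4 n3673 = n3428 := d24_1 D3673 (iv F11334) F11333
theorem F11338 : act 6 n3673 = n2732 := d27_1 D3673 (iv D2732) (iv D1858) (iv F5465) D2569
def n3674 : Q := act 5 n2570
theorem D3674 : act 5 n2570 = n3674 := rfl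
theorem F11339 : act 1 n3674 = n3598 := d10_1 D3674 (iv D3598) F7779 (iv F5485) (iv F7924)
theorem F11340 : act 3 n3674 = n3674 := d19_1 D3674 (iv D3674) F7925
theorem F11341 : act 4 n3674 = n2571 := d22_1 D3674 (iv D2571) (iv F7926)
theorem F11342 : act 6 n3674 = n3633 := d25_2 D2570 D3674 (iv D3633) F7869 F7859
theorem F11343 : act 7 n3674 = n3429 := d26_2 (iv F7927) D3674 (iv D3429)
def n3675 : Q := act 7 n2571
theorem D3675 : act 7 n2571 = n3675 := rfl
theorem F11344 : act 1 n3675 = n3599 := d12_1 D3675 (iv D3599) (iv F7928)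
theorem F11345 : act 3 n3675 = n2631 := d21_1 D3675 (iv D2631) F5560 (iv F5473) (iv F7929)
theorem F11346 : act 4 n3675 = n3429 := d24_1 D3675 (iv F11343) F11341
theorem F11347 : act 5 n3675 = n2572 := d26_1 D3675 (iv D2572) D2571
def n3676 : Q := act 4 n2573
theorem D3676 : act 4 n2573 = n3676 := rfl
theorem F11348 : act 0 n3676 = n2574 := d3_1 D3676 (iv D2574) D2573
theorem F11349 : act 1 n3676 = n2920 := d9_1 D3676 (iv D2920) (iv F7934)
theorem F11350 : act 7 n3676 = n2733 := d24_2 (iv F7935) D3676 (iv D2733)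
def n3677 : Q := act 5 n2573
theorem D3677 : act 5 n2573 = n3677 := rfl
theorem F11351 : act 0 n3677 = n2575 := d4_1 D3677 (iv D2575) D2573
theorem F11352 : act 7 n3677 = n2734 := d26_2 (iv F7935) D3677 (iv D2734)
def n3678 : Q := act 6 n2573
theorem D3678 : act 6 n2573 = n3678 := rfl
theorem F11353 : act 0 n3678 = n2576 := d5_1 D3678 (iv D2576) D2573
theorem F11354 : act 1 n3678 = n2922 := d11_1 D3678 (iv D2922) (iv F7934)
def n3679 : Q := act 6 n2574
theorem D3679 : act 6 n2574 = n3679 := rfl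
theorem F11355 : act 1 n3679 = n2578 := d11_1 D3679 (iv D2578) (iv F7936)
theorem F11356 : act 4 n3679 = n2576 := d23_1 D3679 (iv D2576) D2574
theorem F11357 : act 7 n3679 = n3444 := d27_2 (iv F7937) D3679 (iv D3444) F7389 F5792
def n3680 : Q := act 6 n2575
theorem D3680 : act 6 n2575 = n3680 := rfl
theorem F11358 : act 1 n3680 = n2584 := d11_1 D3680 (iv D2584) (iv F7938)
def n3681 : Q := act 6 n2577
theorem D3681 : act 6 n2577 = n3681 := rfl
theorem F11359 : act 0 n3681 = n2929 := d5_1 D3681 (iv D2929) (iv F7941)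
theorem F11360 : act 2 n3681 = n3681 := d16_1 D3681 (iv D3681) F7942
theorem F11361 : act 3 n3681 = n2578 := d20_1 D3681 (iv D2578) D2577
theorem F11362 : act 5 n3681 = n3608 := d25_1 D3681 (iv D3608) F7801 (iv F5501) (iv F7943)
theorem F11363 : act 7 n3681 = n3681 := d27_2 (iv F7944) D3681 (iv D3681) F7944 F7651
def n3682 : Q := act 3 n2580
theorem D3682 : act 3 n2580 = n3682 := rfl
theorem F11364 : act 0 n3682 = n2582 := d2_1 D3682 (iv D2582) (iv F7955)
theorem F11365 : act 1 n3682 = n2931 := d8_1 D3682 (iv D2931) (iv F7956)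
theorem F11366 : act 4 n3682 = n3277 := d18_2 D2580 D3682 (iv D3277) F7068 F5622
theorem F11367 : act 6 n3682 = n3610 := d20_2 (iv F7957) D3682 (iv D3610)
def n3683 : Q := act 5 n2580
theorem D3683 : act 5 n2580 = n3683 := rfl
theorem F11368 : act 0 n3683 = n2583 := d4_1 D3683 (iv D2583) (iv F7955)
theorem F11369 : act 4 n3683 = n2581 := d22_1 D3683 (iv D2581) D2580
theorem F11370 : act 7 n3683 = n2742 := d26_2 (iv F7958) D3683 (iv D2742)
def n3684 : Q := act 1 n2581
theorem D3684 : act 1 n2581 = n3684 := rfl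
theorem F11371 : act 5 n3684 = n2933 := d10_2 D2581 D3684 (iv D2933) (iv D2003) (iv F5492)
theorem F11372 : act 7 n3684 = n2743 := d12_2 (iv F7960) D3684 (iv D2743)
def n3685 : Q := act 6 n2581
theorem D3685 : act 6 n2581 = n3685 := rfl
theorem F11373 : act 0 n3685 = n2584 := d5_1 D3685 (iv D2584) (iv F7959)
theorem F11374 : act 5 n3685 = n3612 := d25_1 D3685 (iv D3612) (iv D2534) (iv F5493) D2581
def n3686 : Q := act 7 n2584
theorem D3686 : act 7 n2584 = n3686 := rfl
theorem F11375 : act 5 n3686 = n3614 := d26_1 D3686 (iv D3614) (iv F7965)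
theorem F11376 : act 6 n3686 = n2748 := d27_1 D3686 (iv D2748) (iv D1869) (iv F5498) D2584
def n3687 : Q := act 6 n2585
theorem D3687 : act 6 n2585 = n3687 := rfl
theorem F11377 : act 0 n3687 = n2939 := d5_1 D3687 (iv D2939) (iv F7966)
theorem F11378 : act 2 n3687 = n3687 := d16_1 D3687 (iv D3687) F7967
theorem F11379 : act 3 n3687 = n2749 := d20_1 D3687 (iv D2749) (iv F7968)
theorem F11380 : act 5 n3687 = n3687 := d25_1 D3687 (iv D3687) F7969 F7651 (iv F7969)
theorem F11381 : act 7 n3687 = n3615 := d27_2 D2585 D3687 (iv D3615) (iv D2537) (iv F5501)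
def n3688 : Q := act 4 n2586
theorem D3688 : act 4 n2586 = n3688 := rfl
theorem F11382 : act 1 n3688 = n2750 := d9_1 D3688 (iv D2750) (iv F7970)
theorem F11383 : act 2 n3688 = n2587 := d14_1 D3688 (iv D2587) D2586
theorem F11384 : act 6 n3688 = n3111 := d23_2 F11218 D3688 (iv F11217)
def n3689 : Q := act 5 n2586
theorem D3689 : act 5 n2586 = n3689 := rfl
theorem F11385 : act 2 n3689 = n2588 := d15_1 D3689 (iv D2588) D2586
theorem F11386 : act 3 n3689 = n2941 := d19_1 D3689 (iv D2941) (iv F7971)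
def n3690 : Q := act 7 n2586
theorem D3690 : act 7 n2586 = n3690 := rfl
theorem F11387 : act 1 n3690 = n2752 := d12_1 D3690 (iv D2752) (iv F7970)
theorem F11388 : act 2 n3690 = n2589 := d17_1 D3690 (iv D2589) D2586
def n3691 : Q := act 5 n2587
theorem D3691 : act 5 n2587 = n3691 := rfl
theorem F11389 : act 1 n3691 = n3691 := d10_1 D3691 (iv D3691) F7972 F5512 (iv F7972)
theorem F11390 : act 3 n3691 = n3691 := d19_1 D3691 (iv D3691) F7973
theorem F11391 : act 4 n3691 = n2588 := d22_1 D3691 (iv D2588) D2587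
def n3692 : Q := act 7 n2587
theorem D3692 : act 7 n2587 = n3692 := rfl
theorem F11392 : act 1 n3692 = n2594 := d12_1 D3692 (iv D2594) (iv F7972)
theorem F11393 : act 4 n3692 = n2589 := d24_1 D3692 (iv D2589) D2587
def n3693 : Q := act 6 n2588
theorem D3693 : act 6 n2588 = n3693 := rfl
theorem F11394 : act 1 n3693 = n3693 := d11_1 D3693 (iv D3693) F7975
theorem F11395 : act 3 n3693 = n2590 := d20_1 D3693 (iv D2590) (iv F7976)
def n3694 : Q := act 7 n2588
theorem D3694 : act 7 n2588 = n3694 := rfl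
theorem F11396 : act 1 n3694 = n3694 := d12_1 D3694 (iv D3694) F7975
theorem F11397 : act 5 n3694 = n2589 := d26_1 D3694 (iv D2589) D2588
def n3695 : Q := act 3 n2589
theorem D3695 : act 3 n2589 = n3695 := rfl
theorem F11398 : act 1 n3695 = n2595 := d8_1 D3695 (iv D2595) (iv F7977)
theorem F11399 : act 7 n3695 = n2592 := d21_2 D2589 D3695 (iv D2592) (iv D1770) D1768
def n3696 : Q := act 6 n2589
theorem D3696 : act 6 n2589 = n3696 := rfl
theorem F11400 : act 1 n3696 = n2596 := d11_1 D3696 (iv D2596) (iv F7977)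
def n3697 : Q := act 3 n2591
theorem D3697 : act 3 n2591 = n3697 := rfl
theorem F11401 : act 1 n3697 = n3697 := d8_1 D3697 (iv D3697) F7981
theorem F11402 : act 5 n3697 = n2592 := d19_2 (iv F7984) D3697 (iv D2592)
def n3698 : Q := act 2 n2592
theorem D3698 : act 2 n2592 = n3698 := rfl
theorem F11403 : act 3 n3698 = n2952 := d13_2 D2592 D3698 (iv D2952) (iv D2014) (iv F5507)
def n3699 : Q := act 4 n2592
theorem D3699 : act 4 n2592 = n3699 := rfl
theorem F11404 : act 1 n3699 = n2598 := d9_1 D3699 (iv D2598) (iv F7985)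
theorem F11405 : act 3 n3699 = n3699 := d18_1 D3699 (iv D3699) (iv D2592) F5508 D2592
def n3700 : Q := act 6 n2592
theorem D3700 : act 6 n2592 = n3700 := rfl
theorem F11406 : act 1 n3700 = n2599 := d11_1 D3700 (iv D2599) (iv F7985)
theorem F11407 : act 3 n3700 = n2593 := d20_1 D3700 (iv D2593) D2592
def n3701 : Q := act 3 n2594
theorem D3701 : act 3 n2594 = n3701 := rfl
theorem F11408 : act 0 n3701 = n2608 := d2_1 D3701 (iv D2608) (iv F7989)
theorem F11409 : act 2 n3701 = n3701 := d13_1 D3701 (iv D3701) F7990 F5850 (iv F7990)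
theorem F11410 : act 5 n3701 = n3701 := d19_2 F7992 D3701 (iv D3701)
theorem F11411 : act 7 n3701 = n3701 := d21_2 D2594 D3701 (iv D3701) (iv D2594) F5511
def n3702 : Q := act 6 n2594
theorem D3702 : act 6 n2594 = n3702 := rfl
theorem F11412 : act 0 n3702 = n2609 := d5_1 D3702 (iv D2609) (iv F7989)
theorem F11413 : act 2 n3702 = n2762 := d16_1 D3702 (iv D2762) (iv F7990)
theorem F11414 : act 4 n3702 = n2596 := d23_1 D3702 (iv D2596) (iv F7991)
theorem F11415 : act 7 n3702 = n3310 := d27_2 D2594 D3702 (iv D3310) (iv D2297) (iv F5513)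
def n3703 : Q := act 2 n2595
theorem D3703 : act 2 n2595 = n3703 := rfl
theorem F11416 : act 0 n3703 = n2610 := d1_1 D3703 (iv D2610) (iv F7993)
theorem F11417 : act 3 n3703 = n2763 := d13_2 D2595 D3703 (iv D2763) (iv D1880) (iv F5515)
theorem F11418 : act 5 n3703 = n3703 := d15_2 F7994 D3703 (iv D3703)
theorem F11419 : act 7 n3703 = n2597 := d17_2 (iv F7995) D3703 (iv D2597)
def n3704 : Q := act 4 n2595
theorem D3704 : act 4 n2595 = n3704 := rfl
theorem F11420 : act 0 n3704 = n2611 := d3_1 D3704 (iv D2611) (iv F7993)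
theorem F11421 : act 5 n3704 = n3704 := d22_2 F7994 D3704 (iv D3704)
theorem F11422 : act 7 n3704 = n2598 := d24_2 (iv F7995) D3704 (iv D2598)
def n3705 : Q := act 6 n2595
theorem D3705 : act 6 n2595 = n3705 := rfl
theorem F11423 : act 0 n3705 = n2612 := d5_1 D3705 (iv D2612) (iv F7993)
theorem F11424 : act 3 n3705 = n2596 := d20_1 D3705 (iv D2596) D2595
def n3706 : Q := act 5 n2596
theorem D3706 : act 5 n2596 = n3706 := rfl
theorem F11425 : act 0 n3706 = n2613 := d4_1 D3706 (iv D2613) (iv F7996)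
theorem F11426 : act 2 n3706 = n2765 := d15_1 D3706 (iv D2765) (iv F7997)
theorem F11427 : act 6 n3706 = n3706 := d25_2 D2596 D3706 (iv D3706) (iv D2596) F5516
def n3707 : Q := act 1 n2597
theorem D3707 : act 1 n2597 = n3707 := rfl
theorem F11428 : act 3 n3707 = n2601 := d8_2 (iv F7999) D3707 (iv D2601)
def n3708 : Q := act 4 n2597
theorem D3708 : act 4 n2597 = n3708 := rfl
theorem F11429 : act 0 n3708 = n2615 := d3_1 D3708 (iv D2615) (iv F7998)
theorem F11430 : act 2 n3708 = n2598 := d14_1 D3708 (iv D2598) D2597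
theorem F11431 : act 5 n3708 = n3708 := d22_2 F8000 D3708 (iv D3708)
def n3709 : Q := act 6 n2597
theorem D3709 : act 6 n2597 = n3709 := rfl
theorem F11432 : act 0 n3709 = n2616 := d5_1 D3709 (iv D2616) (iv F7998)
theorem F11433 : act 2 n3709 = n2599 := d16_1 D3709 (iv D2599) D2597
theorem F11434 : act 3 n3709 = n2603 := d20_1 D3709 (iv D2603) (iv F7999)
def n3710 : Q := act 6 n2598
theorem D3710 : act 6 n2598 = n3710 := rfl
theorem F11435 : act 0 n3710 = n2617 := d5_1 D3710 (iv D2617) (iv F8001)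
theorem F11436 : act 3 n3710 = n3710 := d20_1 D3710 (iv D3710) F8002
theorem F11437 : act 4 n3710 = n2599 := d23_1 D3710 (iv D2599) D2598
def n3711 : Q := act 5 n2599
theorem D3711 : act 5 n2599 = n3711 := rfl
theorem F11438 : act 0 n3711 = n2618 := d4_1 D3711 (iv D2618) (iv F8004)
theorem F11439 : act 3 n3711 = n2600 := d19_1 D3711 (iv D2600) (iv F8005)
theorem F11440 : act 6 n3711 = n3711 := d25_2 D2599 D3711 (iv D3711) (iv D2599) F5518
def n3712 : Q := act 7 n2599
theorem D3712 : act 7 n2599 = n3712 := rfl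
theorem F11441 : act 0 n3712 = n2619 := d6_1 D3712 (iv D2619) (iv F8004)
def n3713 : Q := act 0 n2601
theorem D3713 : act 0 n2601 = n3713 := rfl
theorem F11442 : act 1 n3713 = n2621 := d0_2 D2601 D3713 (iv D2621) (iv D1786) (iv F5522)
theorem F11443 : act 2 n3713 = n2969 := d1_2 (iv F8010) D3713 (iv D2969)
theorem F11444 : act 7 n3713 = n2770 := d6_2 (iv F8011) D3713 (iv D2770)
def n3714 : Q := act 4 n2601
theorem D3714 : act 4 n2601 = n3714 := rfl
theorem F11445 : act 1 n3714 = n2602 := d9_1 D3714 (iv D2602) D2601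
theorem F11446 : act 2 n3714 = n2970 := d14_1 D3714 (iv D2970) (iv F8010)
theorem F11447 : act 7 n3714 = n2771 := d24_2 (iv F8011) D3714 (iv D2771)
def n3715 : Q := act 5 n2601
theorem D3715 : act 5 n2601 = n3715 := rfl
theorem F11448 : act 1 n3715 = n3715 := d10_1 D3715 (iv D3715) (iv D2601) F5523 D2601
theorem F11449 : act 2 n3715 = n2971 := d15_1 D3715 (iv D2971) (iv F8010)
theorem F11450 : act 7 n3715 = n2772 := d26_2 (iv F8011) D3715 (iv D2772)
def n3716 : Q := act 6 n2601
theorem D3716 : act 6 n2601 = n3716 := rfl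
theorem F11451 : act 1 n3716 = n2603 := d11_1 D3716 (iv D2603) D2601
theorem F11452 : act 2 n3716 = n2972 := d16_1 D3716 (iv D2972) (iv F8010)
def n3717 : Q := act 3 n2602
theorem D3717 : act 3 n2602 = n3717 := rfl
theorem F11453 : act 0 n3717 = n2625 := d2_1 D3717 (iv D2625) (iv F8012)
theorem F11454 : act 2 n3717 = n3717 := d13_1 D3717 (iv D3717) F8013 F5527 (iv F8013)
theorem F11455 : act 5 n3717 = n3717 := d19_2 F8014 D3717 (iv D3717)
theorem F11456 : act 7 n3717 = n3717 := d21_2 (iv F8015) D3717 (iv D3717) F8015 F5873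
def n3718 : Q := act 6 n2602
theorem D3718 : act 6 n2602 = n3718 := rfl
theorem F11457 : act 0 n3718 = n2626 := d5_1 D3718 (iv D2626) (iv F8012)
theorem F11458 : act 2 n3718 = n2604 := d16_1 D3718 (iv D2604) (iv F8013)
theorem F11459 : act 4 n3718 = n2603 := d23_1 D3718 (iv D2603) D2602
theorem F11460 : act 7 n3718 = n3322 := d27_2 (iv F8015) D3718 (iv D3322) F7145 F5875
def n3719 : Q := act 5 n2603
theorem D3719 : act 5 n2603 = n3719 := rfl
theorem F11461 : act 0 n3719 = n2627 := d4_1 D3719 (iv D2627) (iv F8016)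
theorem F11462 : act 2 n3719 = n2605 := d15_1 D3719 (iv D2605) (iv F8017)
theorem F11463 : act 6 n3719 = n3719 := d25_2 D2603 D3719 (iv D3719) (iv D2603) F5523
def n3720 : Q := act 7 n2603
theorem D3720 : act 7 n2603 = n3720 := rfl
theorem F11464 : act 0 n3720 = n2628 := d6_1 D3720 (iv D2628) (iv F8016)
theorem F11465 : act 2 n3720 = n2606 := d17_1 D3720 (iv D2606) (iv F8017)
theorem F11466 : act 4 n3720 = n3322 := d24_1 D3720 (iv F11460) F11459
theorem F11467 : act 6 n3720 = n2775 := d27_1 D3720 (iv D2775) (iv D1887) (iv F5524) D2603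
def n3721 : Q := act 5 n2604
theorem D3721 : act 5 n2604 = n3721 := rfl
theorem F11468 : act 0 n3721 = n2629 := d4_1 D3721 (iv D2629) (iv F8018)
theorem F11469 : act 3 n3721 = n3721 := d19_1 D3721 (iv D3721) F8020
theorem F11470 : act 4 n3721 = n2605 := d22_1 D3721 (iv D2605) (iv F8021)
theorem F11471 : act 6 n3721 = n3721 := d25_2 D2604 D3721 (iv D3721) (iv D2604) F5528
theorem F11472 : act 7 n3721 = n3323 := d26_2 (iv F8022) D3721 (iv D3323)
def n3722 : Q := act 1 n2605
theorem D3722 : act 1 n2605 = n3722 := rfl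
theorem F11473 : act 3 n3722 = n2607 := d8_2 (iv F8024) D3722 (iv D2607)
theorem F11474 : act 5 n3722 = n2977 := d10_2 D2605 D3722 (iv D2977) (iv D2027) (iv F5531)
theorem F11475 : act 6 n3722 = n3722 := d11_2 F8025 D3722 (iv D3722)
def n3723 : Q := act 7 n2605
theorem D3723 : act 7 n2605 = n3723 := rfl
theorem F11476 : act 0 n3723 = n2631 := d6_1 D3723 (iv D2631) (iv F8023)
theorem F11477 : act 4 n3723 = n3323 := d24_1 D3723 (iv F11472) F11470
theorem F11478 : act 5 n3723 = n2606 := d26_1 D3723 (iv D2606) D2605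
def n3724 : Q := act 0 n2607
theorem D3724 : act 0 n2607 = n3724 := rfl
theorem F11479 : act 1 n3724 = n2632 := d0_2 D2607 D3724 (iv D2632) (iv D1792) (iv F5533)
theorem F11480 : act 2 n3724 = n2900 := d1_2 (iv F8835) D3724 F8960
theorem F11481 : act 4 n3724 = n3724 := d3_2 F8030 D3724 (iv D3724)
theorem F11482 : act 5 n3724 = n2979 := d4_2 (iv F8031) D3724 (iv D2979)
theorem F11483 : act 6 n3724 = n3724 := d5_2 F8032 D3724 (iv D3724)
theorem F11484 : act 7 n3724 = n2980 := d6_2 F11283 D3724 (iv F11278)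
def n3725 : Q := act 4 n2608
theorem D3725 : act 4 n2608 = n3725 := rfl
theorem F11485 : act 2 n3725 = n3725 := d14_1 D3725 (iv D3725) F8033
theorem F11486 : act 3 n3725 = n2611 := d18_1 D3725 (iv D2611) (iv D1780) (iv F5537) D2608
theorem F11487 : act 5 n3725 = n3725 := d22_2 F8034 D3725 (iv D3725)
theorem F11488 : act 7 n3725 = n3725 := d24_2 F8035 D3725 (iv D3725)
def n3726 : Q := act 6 n2608
theorem D3726 : act 6 n2608 = n3726 := rfl
theorem F11489 : act 2 n3726 = n3726 := d16_1 D3726 (iv D3726) F8033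
theorem F11490 : act 3 n3726 = n2609 := d20_1 D3726 (iv D2609) D2608
def n3727 : Q := act 5 n2609
theorem D3727 : act 5 n2609 = n3727 := rfl
theorem F11491 : act 2 n3727 = n2778 := d15_1 D3727 (iv D2778) (iv F8036)
theorem F11492 : act 4 n3727 = n2613 := d22_1 D3727 (iv D2613) (iv F8037)
theorem F11493 : act 6 n3727 = n3727 := d25_2 D2609 D3727 (iv D3727) (iv D2609) F5538
theorem F11494 : act 7 n3727 = n3421 := d26_2 (iv F8038) D3727 (iv D3421)
def n3728 : Q := act 1 n2610
theorem D3728 : act 1 n2610 = n3728 := rfl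
theorem F11495 : act 3 n3728 = n2779 := d8_2 (iv F8039) D3728 (iv D2779)
theorem F11496 : act 7 n3728 = n2614 := d12_2 (iv F8041) D3728 (iv D2614)
def n3729 : Q := act 4 n2610
theorem D3729 : act 4 n2610 = n3729 := rfl
theorem F11497 : act 2 n3729 = n2611 := d14_1 D3729 (iv D2611) D2610
theorem F11498 : act 3 n3729 = n3729 := d18_1 D3729 (iv D3729) F8039 F5895 (iv F8039)
theorem F11499 : act 5 n3729 = n3729 := d22_2 F8040 D3729 (iv D3729)
theorem F11500 : act 7 n3729 = n2615 := d24_2 (iv F8041) D3729 (iv D2615)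
def n3730 : Q := act 6 n2610
theorem D3730 : act 6 n2610 = n3730 := rfl
theorem F11501 : act 2 n3730 = n2612 := d16_1 D3730 (iv D2612) D2610
theorem F11502 : act 3 n3730 = n2780 := d20_1 D3730 (iv D2780) (iv F8039)
def n3731 : Q := act 6 n2611
theorem D3731 : act 6 n2611 = n3731 := rfl
theorem F11503 : act 4 n3731 = n2612 := d23_1 D3731 (iv D2612) D2611
def n3732 : Q := act 5 n2612
theorem D3732 : act 5 n2612 = n3732 := rfl
theorem F11504 : act 3 n3732 = n2613 := d19_1 D3732 (iv D2613) (iv F8044)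
theorem F11505 : act 6 n3732 = n3732 := d25_2 D2612 D3732 (iv D3732) (iv D2612) F5539
def n3733 : Q := act 7 n2612
theorem D3733 : act 7 n2612 = n3733 := rfl
theorem F11506 : act 6 n3733 = n2619 := d27_1 D3733 (iv D2619) (iv D1784) (iv F5540) D2612
def n3734 : Q := act 1 n2613
theorem D3734 : act 1 n2613 = n3734 := rfl
theorem F11507 : act 6 n3734 = n3734 := d11_2 F8046 D3734 (iv D3734)
def n3735 : Q := act 0 n2614
theorem D3735 : act 0 n2614 = n3735 := rfl
theorem F11508 : act 3 n3735 = n2621 := d2_2 (iv F8047) D3735 (iv D2621)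
def n3736 : Q := act 4 n2614
theorem D3736 : act 4 n2614 = n3736 := rfl
theorem F11509 : act 1 n3736 = n2615 := d9_1 D3736 (iv D2615) D2614
def n3737 : Q := act 5 n2614
theorem D3737 : act 5 n2614 = n3737 := rfl
theorem F11510 : act 1 n3737 = n3737 := d10_1 D3737 (iv D3737) (iv D2614) F5543 D2614
theorem F11511 : act 2 n3737 = n3603 := d15_1 D3737 F11080 F11048
theorem F11512 : act 3 n3737 = n2623 := d19_1 D3737 (iv D2623) (iv F8047)
def n3738 : Q := act 6 n2614
theorem D3738 : act 6 n2614 = n3738 := rfl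
theorem F11513 : act 1 n3738 = n2616 := d11_1 D3738 (iv D2616) D2614
theorem F11514 : act 3 n3738 = n2624 := d20_1 D3738 (iv D2624) (iv F8047)
def n3739 : Q := act 3 n2615
theorem D3739 : act 3 n2615 = n3739 := rfl
theorem F11515 : act 2 n3739 = n3739 := d13_1 D3739 (iv D3739) F8048 F5544 (iv F8048)
theorem F11516 : act 4 n3739 = n2625 := d18_2 D2615 D3739 (iv D2625) (iv D1787) (iv F5542)
theorem F11517 : act 5 n3739 = n3739 := d19_2 F8049 D3739 (iv D3739)
theorem F11518 : act 7 n3739 = n3739 := d21_2 F11500 D3739 (iv D3739) (iv F11500) F11498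
def n3740 : Q := act 6 n2615
theorem D3740 : act 6 n2615 = n3740 := rfl
theorem F11519 : act 2 n3740 = n2617 := d16_1 D3740 (iv D2617) (iv F8048)
theorem F11520 : act 4 n3740 = n2616 := d23_1 D3740 (iv D2616) D2615
def n3741 : Q := act 5 n2616
theorem D3741 : act 5 n2616 = n3741 := rfl
theorem F11521 : act 2 n3741 = n2618 := d15_1 D3741 (iv D2618) (iv F8050)
theorem F11522 : act 3 n3741 = n2627 := d19_1 D3741 (iv D2627) (iv F8051)
theorem F11523 : act 6 n3741 = n3741 := d25_2 D2616 D3741 (iv D3741) (iv D2616) F5543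
def n3742 : Q := act 7 n2616
theorem D3742 : act 7 n2616 = n3742 := rfl
theorem F11524 : act 2 n3742 = n2619 := d17_1 D3742 (iv D2619) (iv F8050)
def n3743 : Q := act 7 n2617
theorem D3743 : act 7 n2617 = n3743 := rfl
theorem F11525 : act 4 n3743 = n2619 := d24_1 D3743 (iv D2619) (iv F8053)
def n3744 : Q := act 4 n2621
theorem D3744 : act 4 n2621 = n3744 := rfl
theorem F11526 : act 0 n3744 = n2622 := d3_1 D3744 (iv D2622) D2621
theorem F11527 : act 2 n3744 = n2634 := d14_1 D3744 (iv D2634) (iv F8058)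
theorem F11528 : act 7 n3744 = n2787 := d24_2 (iv F8059) D3744 (iv D2787)
def n3745 : Q := act 5 n2621
theorem D3745 : act 5 n2621 = n3745 := rfl
theorem F11529 : act 0 n3745 = n2623 := d4_1 D3745 (iv D2623) D2621
theorem F11530 : act 2 n3745 = n2635 := d15_1 D3745 (iv D2635) (iv F8058)
theorem F11531 : act 7 n3745 = n2788 := d26_2 (iv F8059) D3745 (iv D2788)
def n3746 : Q := act 6 n2621
theorem D3746 : act 6 n2621 = n3746 := rfl
theorem F11532 : act 0 n3746 = n2624 := d5_1 D3746 (iv D2624) D2621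
theorem F11533 : act 2 n3746 = n2636 := d16_1 D3746 (iv D2636) (iv F8058)
def n3747 : Q := act 3 n2622
theorem D3747 : act 3 n2622 = n3747 := rfl
theorem F11534 : act 1 n3747 = n2625 := d8_1 D3747 (iv D2625) (iv F8060)
theorem F11535 : act 7 n3747 = n3747 := d21_2 (iv F8062) D3747 (iv D3747) F8062 F5922
def n3748 : Q := act 5 n2622
theorem D3748 : act 5 n2622 = n3748 := rfl
theorem F11536 : act 1 n3748 = n3748 := d10_1 D3748 (iv D3748) F8060 F5553 (iv F8060)
theorem F11537 : act 2 n3748 = n2638 := d15_1 D3748 (iv D2638) (iv F8061)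
theorem F11538 : act 4 n3748 = n2623 := d22_1 D3748 (iv D2623) D2622
theorem F11539 : act 7 n3748 = n2790 := d26_2 (iv F8062) D3748 (iv D2790)
def n3749 : Q := act 6 n2622
theorem D3749 : act 6 n2622 = n3749 := rfl
theorem F11540 : act 1 n3749 = n2626 := d11_1 D3749 (iv D2626) (iv F8060)
theorem F11541 : act 2 n3749 = n2639 := d16_1 D3749 (iv D2639) (iv F8061)
theorem F11542 : act 4 n3749 = n2624 := d23_1 D3749 (iv D2624) D2622
theorem F11543 : act 7 n3749 = n3435 := d27_2 (iv F8062) D3749 (iv D3435) F7376 F5923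
def n3750 : Q := act 6 n2623
theorem D3750 : act 6 n2623 = n3750 := rfl
theorem F11544 : act 1 n3750 = n3750 := d11_1 D3750 (iv D3750) F8063
theorem F11545 : act 2 n3750 = n2640 := d16_1 D3750 (iv D2640) (iv F8064)
def n3751 : Q := act 5 n2624
theorem D3751 : act 5 n2624 = n3751 := rfl
theorem F11546 : act 2 n3751 = n2641 := d15_1 D3751 (iv D2641) (iv F8067)
theorem F11547 : act 7 n3593 = n3751 := d17_0 F11546 F8663 (iv F11050)
def n3752 : Q := act 7 n2624
theorem D3752 : act 7 n2624 = n3752 := rfl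
theorem F11548 : act 1 n3752 = n2628 := d12_1 D3752 (iv D2628) (iv F8066)
theorem F11549 : act 2 n3752 = n2642 := d17_1 D3752 (iv D2642) (iv F8067)
theorem F11550 : act 4 n3752 = n3435 := d24_1 D3752 (iv F11543) F11542
theorem F11551 : act 5 n3752 = n3593 := d26_1 D3752 F11547 (iv D3751)
theorem F11552 : act 6 n3752 = n2793 := d27_1 D3752 (iv D2793) (iv D1903) (iv F5551) D2624
theorem F11553 : act 3 n3596 = n3752 := d20_3 F11552 F8615 (iv F11058)
def n3753 : Q := act 6 n2625
theorem D3753 : act 6 n2625 = n3753 := rfl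
theorem F11554 : act 2 n3753 = n3753 := d16_1 D3753 (iv D3753) F8068
theorem F11555 : act 3 n3753 = n2626 := d20_1 D3753 (iv D2626) D2625
def n3754 : Q := act 5 n2626
theorem D3754 : act 5 n2626 = n3754 := rfl
theorem F11556 : act 2 n3754 = n2629 := d15_1 D3754 (iv D2629) (iv F8071)
theorem F11557 : act 4 n3754 = n2627 := d22_1 D3754 (iv D2627) (iv F8072)
theorem F11558 : act 6 n3754 = n3754 := d25_2 D2626 D3754 (iv D3754) (iv D2626) F5553
theorem F11559 : act 7 n3754 = n3436 := d26_2 (iv F8073) D3754 (iv D3436)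
def n3755 : Q := act 1 n2627
theorem D3755 : act 1 n2627 = n3755 := rfl
theorem F11560 : act 6 n3755 = n3755 := d11_2 F8075 D3755 (iv D3755)
def n3756 : Q := act 7 n2627
theorem D3756 : act 7 n2627 = n3756 := rfl
theorem F11561 : act 2 n3756 = n2631 := d17_1 D3756 (iv D2631) (iv F8074)
theorem F11562 : act 4 n3756 = n3436 := d24_1 D3756 (iv F11559) F11557
theorem F11563 : act 5 n3756 = n2628 := d26_1 D3756 (iv D2628) D2627
def n3757 : Q := act 3 n2628
theorem D3757 : act 3 n2628 = n3757 := rfl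
theorem F11564 : act 1 n3757 = n3596 := d8_1 D3757 F11553 F11548
theorem F11565 : act 6 n3757 = n2795 := d20_2 (iv F8078) D3757 (iv D2795)
theorem F11566 : act 4 n3680 = n3757 := d23_3 F11565 F8624 D3680
def n3758 : Q := act 1 n2629
theorem D3758 : act 1 n2629 = n3758 := rfl
theorem F11567 : act 3 n3758 = n3758 := d8_2 F8079 D3758 (iv D3758)
theorem F11568 : act 4 n3758 = n2630 := d9_2 (iv F8080) D3758 (iv D2630)
theorem F11569 : act 5 n3758 = n2648 := d10_2 D2629 D3758 (iv D2648) (iv D1801) (iv F5556)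
theorem F11570 : act 6 n3758 = n3758 := d11_2 F8081 D3758 (iv D3758)
theorem F11571 : act 7 n3758 = n3437 := d12_2 (iv F8082) D3758 (iv D3437)
def n3759 : Q := act 0 n2630
theorem D3759 : act 0 n2630 = n3759 := rfl
theorem F11572 : act 3 n3759 = n2632 := d2_2 (iv F8083) D3759 (iv D2632)
theorem F11573 : act 5 n3759 = n2649 := d4_2 (iv F8084) D3759 (iv D2649)
theorem F11574 : act 6 n3759 = n3759 := d5_2 F8085 D3759 (iv D3759)
def n3760 : Q := act 2 n2630
theorem D3760 : act 2 n2630 = n3760 := rfl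
theorem F11575 : act 5 n3760 = n2650 := d15_2 (iv F8084) D3760 (iv D2650)
theorem F11576 : act 6 n3760 = n3760 := d16_2 F8085 D3760 (iv D3760)
def n3761 : Q := act 7 n2630
theorem D3761 : act 7 n2630 = n3761 := rfl
theorem F11577 : act 1 n3761 = n2631 := d12_1 D3761 (iv D2631) D2630
theorem F11578 : act 3 n3761 = n3599 := d21_1 D3761 (iv D3599) F7782 (iv F5568) (iv F8083)
theorem F11579 : act 4 n3761 = n3437 := d24_1 D3761 (iv F11571) F11568
theorem F11580 : act 5 n3761 = n2651 := d26_1 D3761 (iv D2651) (iv F8084)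
def n3762 : Q := act 6 n2631
theorem D3762 : act 6 n2631 = n3762 := rfl
theorem F11581 : act 4 n3762 = n3432 := d23_1 D3762 F10542 (iv F8086)
theorem F11582 : act 5 n3762 = n2796 := d25_1 D3762 (iv D2796) F5936 (iv F5564) (iv F8087)
theorem F11583 : act 7 n3762 = n3762 := d27_2 D2631 D3762 (iv D3762) (iv D2631) F5561
def n3763 : Q := act 2 n2632
theorem D3763 : act 2 n2632 = n3763 := rfl
theorem F11584 : act 0 n3763 = n2633 := d1_1 D3763 (iv D2633) D2632
theorem F11585 : act 1 n3763 = n2893 := d7_1 D3763 F8938 D2900 (iv F11480) F11479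
theorem F11586 : act 4 n3763 = n3763 := d14_2 F8088 D3763 (iv D3763)
theorem F11587 : act 5 n3763 = n2652 := d15_2 (iv F8089) D3763 (iv D2652)
theorem F11588 : act 6 n3763 = n3763 := d16_2 F8090 D3763 (iv D3763)
theorem F11589 : act 7 n3763 = n2968 := d17_2 (iv F8091) D3763 (iv F9156)
def n3764 : Q := act 3 n2634
theorem D3764 : act 3 n2634 = n3764 := rfl
theorem F11590 : act 0 n3764 = n2637 := d2_1 D3764 (iv D2637) (iv F8096)
theorem F11591 : act 1 n3764 = n3003 := d8_1 D3764 (iv D3003) (iv F8097)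
theorem F11592 : act 7 n3764 = n3466 := d21_2 (iv F8098) D3764 (iv D3466) (iv D2416) F5939
def n3765 : Q := act 5 n2634
theorem D3765 : act 5 n2634 = n3765 := rfl
theorem F11593 : act 0 n3765 = n2638 := d4_1 D3765 (iv D2638) (iv F8096)
theorem F11594 : act 4 n3765 = n2635 := d22_1 D3765 (iv D2635) D2634
theorem F11595 : act 7 n3765 = n2797 := d26_2 (iv F8098) D3765 (iv D2797)
def n3766 : Q := act 6 n2634
theorem D3766 : act 6 n2634 = n3766 := rfl
theorem F11596 : act 0 n3766 = n2639 := d5_1 D3766 (iv D2639) (iv F8096)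
theorem F11597 : act 1 n3766 = n3005 := d11_1 D3766 (iv D3005) (iv F8097)
theorem F11598 : act 4 n3766 = n2636 := d23_1 D3766 (iv D2636) D2634
theorem F11599 : act 7 n3766 = n3450 := d27_2 (iv F8098) D3766 (iv D3450) F7403 F5940
def n3767 : Q := act 1 n2635
theorem D3767 : act 1 n2635 = n3767 := rfl
theorem F11600 : act 0 n3767 = n2656 := d0_1 D3767 (iv D2656) F5616 (iv F5573) (iv F8099)
theorem F11601 : act 5 n3767 = n3006 := d10_2 D2635 D3767 (iv D3006) (iv D2055) (iv F5569)
theorem F11602 : act 7 n3767 = n2798 := d12_2 (iv F8100) D3767 (iv D2798)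
def n3768 : Q := act 6 n2635
theorem D3768 : act 6 n2635 = n3768 := rfl
theorem F11603 : act 0 n3768 = n2640 := d5_1 D3768 (iv D2640) (iv F8099)
def n3769 : Q := act 5 n2636
theorem D3769 : act 5 n2636 = n3769 := rfl
theorem F11604 : act 0 n3769 = n2641 := d4_1 D3769 (iv D2641) (iv F8101)
theorem F11605 : act 7 n3580 = n3769 := d6_0 F11604 F8663 (iv F11020)
def n3770 : Q := act 7 n2636
theorem D3770 : act 7 n2636 = n3770 := rfl
theorem F11606 : act 0 n3770 = n2642 := d6_1 D3770 (iv D2642) (iv F8101)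
theorem F11607 : act 1 n3770 = n2966 := d12_1 D3770 (iv F9149) (iv F8102)
theorem F11608 : act 4 n3770 = n3450 := d24_1 D3770 (iv F11599) F11598
theorem F11609 : act 5 n3770 = n3580 := d26_1 D3770 F11605 (iv D3769)
theorem F11610 : act 6 n3770 = n2801 := d27_1 D3770 (iv D2801) (iv D1909) (iv F5570) D2636
theorem F11611 : act 3 n2968 = n3770 := d20_3 F11610 (iv F8644) (iv F9155)
def n3771 : Q := act 2 n2637
theorem D3771 : act 2 n2637 = n3771 := rfl
theorem F11612 : act 1 n3771 = n3771 := d7_1 D3771 (iv D3771) F8103 F5577 (iv F8103)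
theorem F11613 : act 4 n3771 = n3737 := d14_2 F11079 D3771 F11511
theorem F11614 : act 7 n3771 = n3471 := d17_2 (iv F8104) D3771 (iv D3471)
theorem F11615 : act 5 n3736 = n3771 := d22_0 F11613 (iv D3737) D3736
def n3772 : Q := act 5 n2637
theorem D3772 : act 5 n2637 = n3772 := rfl
theorem F11616 : act 1 n3772 = n2660 := d10_1 D3772 (iv D2660) F5624 (iv F5578) (iv F8103)
theorem F11617 : act 2 n3772 = n3736 := d15_1 D3772 F11615 (iv D3771)
theorem F11618 : act 3 n3772 = n2638 := d19_1 D3772 (iv D2638) D2637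
theorem F11619 : act 4 n3772 = n3592 := d22_1 D3772 (iv F11080) F11079
theorem F11620 : act 7 n3772 = n3469 := d26_2 (iv F8104) D3772 F10666
def n3773 : Q := act 6 n2637
theorem D3773 : act 6 n2637 = n3773 := rfl
theorem F11621 : act 1 n3773 = n2643 := d11_1 D3773 (iv D2643) (iv F8103)
theorem F11622 : act 3 n3773 = n2639 := d20_1 D3773 (iv D2639) D2637
theorem F11623 : act 7 n3773 = n3773 := d27_2 (iv F8104) D3773 (iv D3773) F8104 F7451
def n3774 : Q := act 6 n2638
theorem D3774 : act 6 n2638 = n3774 := rfl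
theorem F11624 : act 1 n3774 = n2663 := d11_1 D3774 (iv D2663) (iv F8105)
theorem F11625 : act 4 n3774 = n2640 := d23_1 D3774 (iv D2640) (iv F8106)
def n3775 : Q := act 5 n2639
theorem D3775 : act 5 n2639 = n3775 := rfl
theorem F11626 : act 4 n3775 = n2641 := d22_1 D3775 (iv D2641) (iv F8109)
theorem F11627 : act 7 n3775 = n3451 := d26_2 (iv F8110) D3775 (iv D3451)
theorem F11628 : act 1 n3743 = n3775 := d12_3 F11627 (iv F10611) D3743
def n3776 : Q := act 5 n2640
theorem D3776 : act 5 n2640 = n3776 := rfl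
theorem F11629 : act 6 n3776 = n2641 := d25_2 D2640 D3776 (iv D2641) (iv D1796) D1795
theorem F11630 : act 1 n3733 = n3776 := d11_3 F11629 (iv F8664) (iv F11506)
theorem F11631 : act 7 n3590 = n3776 := d27_0 F11629 F8663 (iv D2519) (iv F7766) D3590
def n3777 : Q := act 7 n2640
theorem D3777 : act 7 n2640 = n3777 := rfl
theorem F11632 : act 1 n3777 = n2666 := d12_1 D3777 (iv D2666) (iv F8111)
theorem F11633 : act 5 n3777 = n3590 := d26_1 D3777 F11631 (iv D3776)
theorem F11634 : act 6 n3777 = n2804 := d27_1 D3777 (iv D2804) (iv D1911) (iv F5574) D2640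
theorem F11635 : act 3 n3591 = n3777 := d19_3 F11633 F11046 D3591
def n3778 : Q := act 5 n2643
theorem D3778 : act 5 n2643 = n3778 := rfl
theorem F11636 : act 0 n3778 = n3010 := d4_1 D3778 (iv D3010) (iv F8115)
theorem F11637 : act 2 n3778 = n3778 := d15_1 D3778 (iv D3778) F8116
theorem F11638 : act 3 n3778 = n2644 := d19_1 D3778 (iv D2644) (iv F8117)
theorem F11639 : act 4 n3778 = n3681 := d22_1 D3778 F11362 F11097
theorem F11640 : act 6 n3778 = n2668 := d25_2 D2643 D3778 (iv D2668) (iv D1814) (iv F5578)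
theorem F11641 : act 7 n3778 = n3778 := d26_2 F8118 D3778 (iv D3778)
theorem F11642 : act 1 n3431 = n3778 := d11_3 F11640 (iv F8196) D3431
def n3779 : Q := act 1 n2644
theorem D3779 : act 1 n2644 = n3779 := rfl
theorem F11643 : act 3 n3779 = n3431 := d8_2 F11638 D3779 F11642
theorem F11644 : act 4 n3779 = n2645 := d9_2 (iv F8121) D3779 (iv D2645)
theorem F11645 : act 5 n3779 = n3743 := d10_2 D2644 D3779 F11628 (iv D3775) F8108
theorem F11646 : act 6 n3779 = n2671 := d11_2 (iv F8122) D3779 (iv D2671)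
theorem F11647 : act 7 n3779 = n3452 := d12_2 (iv F8123) D3779 (iv D3452)
theorem F11648 : act 2 n3420 = n3779 := d16_3 F11646 (iv F8219) D3420
def n3780 : Q := act 0 n2645
theorem D3780 : act 0 n2645 = n3780 := rfl
theorem F11649 : act 1 n3780 = n3012 := d0_2 D2645 D3780 (iv D3012) (iv D2063) (iv F5584)
theorem F11650 : act 3 n3780 = n3678 := d2_2 (iv F8124) D3780 F11353
theorem F11651 : act 5 n3780 = n3712 := d4_2 (iv F8665) D3780 F11441
theorem F11652 : act 6 n3780 = n2672 := d5_2 (iv F8125) D3780 (iv D2672)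
theorem F11653 : act 7 n3780 = n3711 := d6_2 F8666 D3780 F11438
def n3781 : Q := act 2 n2645
theorem D3781 : act 2 n2645 = n3781 := rfl
theorem F11654 : act 1 n3781 = n2650 := d7_1 D3781 (iv D2650) (iv D1802) (iv F5585) D2645
theorem F11655 : act 4 n3781 = n3420 := d14_2 F11644 D3781 F11648
theorem F11656 : act 5 n3781 = n3742 := d15_2 (iv F8665) D3781 F11524
theorem F11657 : act 6 n3781 = n2673 := d16_2 (iv F8125) D3781 (iv D2673)
theorem F11658 : act 7 n3781 = n3741 := d17_2 F8666 D3781 F11521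
def n3782 : Q := act 2 n2648
theorem D3782 : act 2 n2648 = n3782 := rfl
theorem F11659 : act 1 n3782 = n3420 := d7_1 D3782 F11648 (iv D3779) F8120 D2648
theorem F11660 : act 4 n3782 = n2650 := d14_2 (iv F8135) D3782 (iv D2650)
theorem F11661 : act 6 n3782 = n2674 := d16_2 (iv F8136) D3782 (iv D2674)
theorem F11662 : act 7 n3782 = n3454 := d17_2 (iv F8137) D3782 (iv D3454)
theorem F11663 : act 3 n3419 = n3782 := d20_3 F11661 (iv F8231) D3419
def n3783 : Q := act 2 n2649
theorem D3783 : act 2 n2649 = n3783 := rfl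
theorem F11664 : act 0 n3783 = n2650 := d1_1 D3783 (iv D2650) D2649
theorem F11665 : act 6 n3783 = n2675 := d16_2 (iv F8140) D3783 (iv D2675)
def n3784 : Q := act 7 n2649
theorem D3784 : act 7 n2649 = n3784 := rfl
theorem F11666 : act 0 n3784 = n2651 := d6_1 D3784 (iv D2651) D2649
theorem F11667 : act 1 n3784 = n3015 := d12_1 D3784 (iv D3015) (iv F8138)
theorem F11668 : act 3 n3784 = n3585 := d21_1 D3784 (iv D3585) F7759 (iv F5607) (iv F8139)
theorem F11669 : act 4 n3784 = n3453 := d24_1 D3784 F10619 F10117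
theorem F11670 : act 6 n3784 = n3784 := d27_1 D3784 (iv D3784) F8140 F5657 (iv F8140)
def n3785 : Q := act 3 n2650
theorem D3785 : act 3 n2650 = n3785 := rfl
theorem F11671 : act 2 n3785 = n2653 := d13_1 D3785 (iv D2653) (iv D1805) (iv F5597) D2650
theorem F11672 : act 6 n3785 = n2676 := d20_2 (iv F8141) D3785 (iv D2676)
def n3786 : Q := act 7 n2650
theorem D3786 : act 7 n2650 = n3786 := rfl
theorem F11673 : act 1 n3786 = n3741 := d12_1 D3786 (iv F11658) F11654
theorem F11674 : act 2 n3786 = n2651 := d17_1 D3786 (iv D2651) D2650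
theorem F11675 : act 4 n3786 = n3454 := d24_1 D3786 (iv F11662) F11660
theorem F11676 : act 6 n3786 = n3786 := d27_1 D3786 (iv D3786) F8141 F5659 (iv F8141)
theorem F11677 : act 3 n3755 = n3786 := d8_0 F11673 F11522 D3755
def n3787 : Q := act 1 n2652
theorem D3787 : act 1 n2652 = n3787 := rfl
theorem F11678 : act 0 n3787 = n3641 := d0_1 D3787 F11235 F7892 (iv F5608) (iv F8146)
theorem F11679 : act 2 n3787 = n3018 := d7_2 D2652 D3787 (iv D3018) (iv D2068) (iv F5604)
theorem F11680 : act 4 n3787 = n3787 := d9_2 F8147 D3787 (iv D3787)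
theorem F11681 : act 5 n3787 = n2886 := d10_2 F11587 D3787 F8916 D2893 (iv F11585)
theorem F11682 : act 6 n3787 = n2677 := d11_2 (iv F8148) D3787 (iv D2677)
theorem F11683 : act 7 n3787 = n2955 := d12_2 (iv F8149) D3787 (iv F9112)
def n3788 : Q := act 3 n2652
theorem D3788 : act 3 n2652 = n3788 := rfl
theorem F11684 : act 0 n3788 = n2653 := d2_1 D3788 (iv D2653) (iv F8146)
theorem F11685 : act 6 n3788 = n2678 := d20_2 (iv F8148) D3788 (iv D2678)
def n3789 : Q := act 4 n2653
theorem D3789 : act 4 n2653 = n3789 := rfl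
theorem F11686 : act 1 n3789 = n3662 := d9_1 D3789 F11305 (iv F8150)
theorem F11687 : act 3 n3789 = n3789 := d18_1 D3789 (iv D3789) (iv D2653) F5609 D2653
theorem F11688 : act 6 n3789 = n2679 := d23_2 (iv F8151) D3789 (iv D2679)
def n3790 : Q := act 2 n2654
theorem D3790 : act 2 n2654 = n3790 := rfl
theorem F11689 : act 0 n3790 = n2659 := d1_1 D3790 (iv D2659) (iv F8152)
theorem F11690 : act 3 n3790 = n3790 := d13_2 D2654 D3790 (iv D3790) (iv D2654) F5614
theorem F11691 : act 4 n3790 = n3564 := d14_2 F11108 D3790 (iv F11107)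
theorem F11692 : act 6 n3790 = n3449 := d16_2 F10125 D3790 F10593
theorem F11693 : act 5 n3579 = n3790 := d22_0 F11691 F10974 D3579
def n3791 : Q := act 5 n2654
theorem D3791 : act 5 n2654 = n3791 := rfl
theorem F11694 : act 0 n3791 = n2660 := d4_1 D3791 (iv D2660) (iv F8152)
theorem F11695 : act 2 n3791 = n3579 := d15_1 D3791 F11693 (iv D3790)
theorem F11696 : act 3 n3791 = n2655 := d19_1 D3791 (iv D2655) D2654
theorem F11697 : act 4 n3791 = n3578 := d22_1 D3791 (iv F11109) F11108
def n3792 : Q := act 7 n2654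
theorem D3792 : act 7 n2654 = n3792 := rfl
theorem F11698 : act 0 n3792 = n2662 := d6_1 D3792 (iv D2662) (iv F8152)
theorem F11699 : act 1 n3792 = n3022 := d12_1 D3792 (iv D3022) (iv F8153)
theorem F11700 : act 3 n3792 = n2809 := d21_1 D3792 (iv D2809) (iv D1915) (iv F5615) D2654
def n3793 : Q := act 1 n2655
theorem D3793 : act 1 n2655 = n3793 := rfl
theorem F11701 : act 4 n3793 = n2656 := d9_2 (iv F8156) D3793 (iv D2656)
theorem F11702 : act 5 n3793 = n3023 := d10_2 D2655 D3793 (iv D3023) (iv D2071) (iv F5613)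
theorem F11703 : act 7 n3793 = n2810 := d12_2 (iv F8157) D3793 (iv D2810)
def n3794 : Q := act 6 n2655
theorem D3794 : act 6 n2655 = n3794 := rfl
theorem F11704 : act 0 n3794 = n2663 := d5_1 D3794 (iv D2663) (iv F8154)
theorem F11705 : act 2 n3794 = n3794 := d16_1 D3794 (iv D3794) F8155
theorem F11706 : act 4 n3794 = n2657 := d23_1 D3794 (iv D2657) (iv F8156)
def n3795 : Q := act 2 n2656
theorem D3795 : act 2 n2656 = n3795 := rfl
theorem F11707 : act 1 n3795 = n3795 := d7_1 D3795 (iv D3795) (iv D2656) F5617 D2656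
theorem F11708 : act 5 n3795 = n3025 := d15_2 (iv F8158) D3795 (iv D3025)
theorem F11709 : act 7 n3795 = n2812 := d17_2 (iv F8159) D3795 (iv D2812)
def n3796 : Q := act 6 n2656
theorem D3796 : act 6 n2656 = n3796 := rfl
theorem F11710 : act 1 n3796 = n2657 := d11_1 D3796 (iv D2657) D2656
def n3797 : Q := act 5 n2657
theorem D3797 : act 5 n2657 = n3797 := rfl
theorem F11711 : act 0 n3797 = n2665 := d4_1 D3797 (iv D2665) (iv F8160)
theorem F11712 : act 2 n3797 = n3797 := d15_1 D3797 (iv D3797) F8161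
theorem F11713 : act 3 n3797 = n3685 := d19_1 D3797 F11374 F11116
theorem F11714 : act 6 n3797 = n2658 := d25_2 D2657 D3797 (iv D2658) (iv D1808) D1807
def n3798 : Q := act 7 n2657
theorem D3798 : act 7 n2657 = n3798 := rfl
theorem F11715 : act 0 n3798 = n2666 := d6_1 D3798 (iv D2666) (iv F8160)
theorem F11716 : act 2 n3798 = n3798 := d17_1 D3798 (iv D3798) F8161
theorem F11717 : act 6 n3798 = n2814 := d27_1 D3798 (iv D2814) (iv D1918) (iv F5618) D2657
def n3799 : Q := act 1 n2658
theorem D3799 : act 1 n2658 = n3799 := rfl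
theorem F11718 : act 3 n3799 = n3684 := d8_2 (iv F8164) D3799 (iv D3684)
theorem F11719 : act 5 n3799 = n3029 := d10_2 D2658 D3799 (iv D3029) (iv D2074) (iv F5620)
theorem F11720 : act 7 n3799 = n3799 := d12_2 F8165 D3799 (iv D3799)
def n3800 : Q := act 7 n2659
theorem D3800 : act 7 n2659 = n3800 := rfl
theorem F11721 : act 1 n3800 = n3800 := d12_1 D3800 (iv D3800) F8166
theorem F11722 : act 2 n3800 = n2662 := d17_1 D3800 (iv D2662) D2659
theorem F11723 : act 4 n3800 = n3567 := d24_1 D3800 F10987 (iv F8168)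
theorem F11724 : act 5 n3800 = n3589 := d26_1 D3800 F11044 F8169
theorem F11725 : act 6 n3800 = n3459 := d27_1 D3800 (iv D3459) (iv D2412) (iv F7406) (iv F8204)
def n3801 : Q := act 6 n2660
theorem D3801 : act 6 n2660 = n3801 := rfl
theorem F11726 : act 2 n3801 = n3451 := d16_1 D3801 F10610 (iv F8170)
theorem F11727 : act 3 n3801 = n2663 := d20_1 D3801 (iv D2663) (iv F8171)
theorem F11728 : act 4 n3801 = n3593 := d23_1 D3801 (iv D3593) (iv F8172)
theorem F11729 : act 5 n3801 = n3435 := d25_1 D3801 (iv D3435) (iv F8197) (iv D2661) D2660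
def n3802 : Q := act 7 n2660
theorem D3802 : act 7 n2660 = n3802 := rfl
theorem F11730 : act 1 n3802 = n3469 := d12_1 D3802 (iv F11620) F11616
theorem F11731 : act 2 n3802 = n3589 := d17_1 D3802 F11044 (iv F8170)
theorem F11732 : act 3 n3802 = n2818 := d21_1 D3802 (iv D2818) F5979 (iv F5627) (iv F8171)
theorem F11733 : act 4 n3802 = n3588 := d24_1 D3802 F11042 (iv F8172)
theorem F11734 : act 5 n3802 = n2662 := d26_1 D3802 (iv D2662) D2660
def n3803 : Q := act 6 n2662
theorem D3803 : act 6 n2662 = n3803 := rfl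
theorem F11735 : act 1 n3803 = n2670 := d11_1 D3803 (iv D2670) (iv F8176)
theorem F11736 : act 2 n3803 = n3459 := d16_1 D3803 (iv F11725) F11722
theorem F11737 : act 3 n3803 = n2819 := d20_1 D3803 (iv D2819) (iv F8177)
theorem F11738 : act 7 n3803 = n3441 := d27_2 D2662 D3803 (iv D3441) F8200 (iv D2661)
def n3804 : Q := act 5 n2663
theorem D3804 : act 5 n2663 = n3804 := rfl
theorem F11739 : act 2 n3804 = n3804 := d15_1 D3804 (iv D3804) F8178
theorem F11740 : act 3 n3804 = n3435 := d19_1 D3804 (iv F11729) F11727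
theorem F11741 : act 4 n3804 = n2665 := d22_1 D3804 (iv D2665) (iv F8179)
theorem F11742 : act 6 n3804 = n2664 := d25_2 D2663 D3804 (iv D2664) (iv D1811) D1810
theorem F11743 : act 1 n3422 = n3804 := d11_3 F11742 F8201 D3422
def n3805 : Q := act 7 n2663
theorem D3805 : act 7 n2663 = n3805 := rfl
theorem F11744 : act 2 n3805 = n3805 := d17_1 D3805 (iv D3805) F8178
theorem F11745 : act 4 n3805 = n2666 := d24_1 D3805 (iv D2666) (iv F8179)
theorem F11746 : act 6 n3805 = n2820 := d27_1 D3805 (iv D2820) (iv D1922) (iv F5627) D2663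
def n3806 : Q := act 1 n2665
theorem D3806 : act 1 n2665 = n3806 := rfl
theorem F11747 : act 3 n3806 = n3680 := d8_2 (iv F8184) D3806 F11358
theorem F11748 : act 4 n3806 = n3422 := d9_2 F11741 D3806 F11743
theorem F11749 : act 5 n3806 = n3733 := d10_2 D2665 D3806 F11630 (iv D3776) F8111
theorem F11750 : act 6 n3806 = n2667 := d11_2 (iv F8185) D3806 (iv D2667)
theorem F11751 : act 2 n3423 = n3806 := d16_3 F11750 F8203 D3423
theorem F11752 : act 7 n3732 = n3806 := d26_0 F11749 (iv D3733) D3732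
def n3807 : Q := act 7 n2665
theorem D3807 : act 7 n2665 = n3807 := rfl
theorem F11753 : act 1 n3807 = n3732 := d12_1 D3807 F11752 (iv D3806)
theorem F11754 : act 2 n3807 = n3807 := d17_1 D3807 (iv D3807) F8183
theorem F11755 : act 5 n3807 = n2666 := d26_1 D3807 (iv D2666) D2665
theorem F11756 : act 6 n3807 = n3807 := d27_1 D3807 (iv D3807) F8185 F5635 (iv F8185)
theorem F11757 : act 3 n3734 = n3807 := d8_0 F11753 F11504 D3734
def n3808 : Q := act 3 n2666
theorem D3808 : act 3 n2666 = n3808 := rfl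
theorem F11758 : act 1 n3808 = n3591 := d8_1 D3808 F11635 F11632
theorem F11759 : act 5 n3808 = n3734 := d19_2 F11755 D3808 F11757
theorem F11760 : act 6 n3808 = n2821 := d20_2 (iv F8187) D3808 (iv D2821)
def n3809 : Q := act 0 n2667
theorem D3809 : act 0 n2667 = n3809 := rfl
theorem F11761 : act 2 n3809 = n3312 := d1_2 (iv F8203) D3809 F10221
theorem F11762 : act 3 n3809 = n3677 := d2_2 (iv F8188) D3809 F11351
theorem F11763 : act 4 n3809 = n3311 := d3_2 F8202 D3809 F10218
theorem F11764 : act 5 n3809 = n2672 := d4_2 (iv F8189) D3809 (iv D2672)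
theorem F11765 : act 7 n3809 = n3809 := d6_2 F8190 D3809 (iv D3809)
def n3810 : Q := act 6 n2669
theorem D3810 : act 6 n2669 = n3810 := rfl
theorem F11766 : act 0 n3810 = n3036 := d5_1 D3810 (iv D3036) (iv F8205)
theorem F11767 : act 1 n3810 = n3441 := d11_1 D3810 (iv D3441) (iv F8206)
theorem F11768 : act 2 n3810 = n3810 := d16_1 D3810 (iv D3810) F8207
theorem F11769 : act 3 n3810 = n3810 := d20_1 D3810 (iv D3810) F8208
theorem F11770 : act 4 n3810 = n3687 := d23_1 D3810 (iv D3687) (iv F8209)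
theorem F11771 : act 5 n3810 = n3810 := d25_1 D3810 (iv D3810) F8210 F7383 (iv F8210)
theorem F11772 : act 7 n3810 = n2670 := d27_2 D2669 D3810 (iv D2670) (iv D1815) D1814
def n3811 : Q := act 0 n2671
theorem D3811 : act 0 n2671 = n3811 := rfl
theorem F11773 : act 1 n3811 = n3037 := d0_2 D2671 D3811 (iv D3037) (iv D2084) (iv F5644)
theorem F11774 : act 2 n3811 = n3309 := d1_2 F8219 D3811 F10213
theorem F11775 : act 3 n3811 = n3318 := d2_2 (iv F8215) D3811 F10236
theorem F11776 : act 4 n3811 = n2672 := d3_2 (iv F8216) D3811 (iv D2672)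
theorem F11777 : act 5 n3811 = n3311 := d4_2 (iv F8217) D3811 F10218
theorem F11778 : act 7 n3811 = n3811 := d6_2 F8218 D3811 (iv D3811)
def n3812 : Q := act 2 n2672
theorem D3812 : act 2 n2672 = n3812 := rfl
theorem F11779 : act 0 n3812 = n2673 := d1_1 D3812 (iv D2673) D2672
theorem F11780 : act 4 n3812 = n3309 := d14_2 F11776 D3812 (iv F11774)
theorem F11781 : act 5 n3812 = n3312 := d15_2 F11764 D3812 (iv F11761)
theorem F11782 : act 7 n3812 = n3812 := d17_2 F8222 D3812 (iv D3812)
def n3813 : Q := act 1 n2675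
theorem D3813 : act 1 n2675 = n3813 := rfl
theorem F11783 : act 2 n3813 = n3040 := d7_2 D2675 D3813 (iv D3040) (iv D2087) (iv F5654)
theorem F11784 : act 7 n3813 = n3813 := d12_2 F8234 D3813 (iv D3813)
def n3814 : Q := act 3 n2675
theorem D3814 : act 3 n2675 = n3814 := rfl
theorem F11785 : act 0 n3814 = n2676 := d2_1 D3814 (iv D2676) (iv F8232)
theorem F11786 : act 2 n3814 = n2678 := d13_1 D3814 (iv D2678) (iv D1821) (iv F5655) D2675
theorem F11787 : act 5 n3814 = n3814 := d19_2 F8233 D3814 (iv D3814)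
def n3815 : Q := act 3 n2677
theorem D3815 : act 3 n2677 = n3815 := rfl
theorem F11788 : act 0 n3815 = n3640 := d2_1 D3815 (iv D3640) (iv F8237)
theorem F11789 : act 1 n3815 = n2678 := d8_1 D3815 (iv D2678) D2677
def n3816 : Q := act 5 n2677
theorem D3816 : act 5 n2677 = n3816 := rfl
theorem F11790 : act 0 n3816 = n3639 := d4_1 D3816 F11232 (iv F8237)
theorem F11791 : act 1 n3816 = n3816 := d10_1 D3816 (iv D3816) (iv D2677) F5662 D2677
theorem F11792 : act 2 n3816 = n3044 := d15_1 D3816 (iv D3044) (iv F8238)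
theorem F11793 : act 4 n3816 = n3816 := d22_1 D3816 (iv D3816) F8239
theorem F11794 : act 6 n3816 = n2884 := d25_2 F11682 D3816 F8914 D2886 (iv F11681)
theorem F11795 : act 7 n3816 = n2682 := d26_2 (iv F8240) D3816 (iv D2682)
def n3817 : Q := act 4 n2678
theorem D3817 : act 4 n2678 = n3817 := rfl
theorem F11796 : act 0 n3817 = n2679 := d3_1 D3817 (iv D2679) (iv F8241)
theorem F11797 : act 3 n3817 = n3817 := d18_1 D3817 (iv D3817) (iv D2678) F5661 D2678
theorem F11798 : act 5 n3817 = n3817 := d22_2 F8242 D3817 (iv D3817)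
theorem F11799 : act 7 n3814 = n3817 := d6_0 F11796 F8251 (iv F11785)
def n3818 : Q := act 7 n2678
theorem D3818 : act 7 n2678 = n3818 := rfl
theorem F11800 : act 0 n3818 = n2680 := d6_1 D3818 (iv D2680) (iv F8241)
theorem F11801 : act 2 n3818 = n3817 := d17_1 D3818 (iv F11799) F11786
theorem F11802 : act 3 n3818 = n2683 := d21_1 D3818 (iv D2683) (iv D1824) (iv F5663) D2678
theorem F11803 : act 4 n3818 = n3814 := d24_1 D3818 F11799 (iv D3817)
theorem F11804 : act 5 n3818 = n3818 := d26_1 D3818 (iv D3818) F8242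
def n3819 : Q := act 6 n2680
theorem D3819 : act 6 n2680 = n3819 := rfl
theorem F11805 : act 1 n3819 = n3657 := d11_1 D3819 (iv D3657) (iv F8246)
theorem F11806 : act 2 n3819 = n3789 := d16_1 D3819 F11688 (iv F8250)
theorem F11807 : act 3 n3819 = n2684 := d20_1 D3819 (iv D2684) (iv F8247)
theorem F11808 : act 4 n3819 = n3785 := d23_1 D3819 F11672 F8249
def n3820 : Q := act 2 n2681
theorem D3820 : act 2 n2681 = n3820 := rfl
theorem F11809 : act 0 n3820 = n3635 := d1_1 D3820 (iv D3635) (iv F8252)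
theorem F11810 : act 1 n3820 = n3820 := d7_1 D3820 (iv D3820) F8253 F5671 (iv F8253)
theorem F11811 : act 3 n3820 = n3049 := d13_2 D2681 D3820 (iv D3049) (iv D2093) (iv F5667)
theorem F11812 : act 6 n3820 = n3570 := d16_2 (iv F8254) D3820 (iv D3570)
def n3821 : Q := act 5 n2681
theorem D3821 : act 5 n2681 = n3821 := rfl
theorem F11813 : act 0 n3821 = n3636 := d4_1 D3821 (iv D3636) (iv F8252)
theorem F11814 : act 1 n3821 = n3821 := d10_1 D3821 (iv D3821) F8253 F5672 (iv F8253)
theorem F11815 : act 3 n3821 = n2682 := d19_1 D3821 (iv D2682) D2681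
def n3822 : Q := act 7 n2681
theorem D3822 : act 7 n2681 = n3822 := rfl
theorem F11816 : act 0 n3822 = n3637 := d6_1 D3822 (iv D3637) (iv F8252)
theorem F11817 : act 1 n3822 = n2683 := d12_1 D3822 (iv D2683) (iv F8253)
def n3823 : Q := act 6 n2682
theorem D3823 : act 6 n2682 = n3823 := rfl
theorem F11818 : act 0 n3823 = n3638 := d5_1 D3823 (iv D3638) (iv F8255)
theorem F11819 : act 1 n3823 = n3823 := d11_1 D3823 (iv D3823) F8256
theorem F11820 : act 2 n3823 = n3053 := d16_1 D3823 (iv D3053) (iv F8257)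
theorem F11821 : act 4 n3823 = n3823 := d23_1 D3823 (iv D3823) F8258
theorem F11822 : act 5 n3823 = n2949 := d25_1 D3823 (iv F9095) (iv D2504) (iv F5669) D2682
theorem F11823 : act 7 n3823 = n2883 := d27_2 F11795 D3823 (iv D2883) D2884 (iv F11794)
def n3824 : Q := act 6 n2683
theorem D3824 : act 6 n2683 = n3824 := rfl
theorem F11824 : act 0 n3824 = n2684 := d5_1 D3824 (iv D2684) (iv F8259)
theorem F11825 : act 2 n3824 = n3824 := d16_1 D3824 (iv D3824) F8260
theorem F11826 : act 7 n3824 = n3577 := d27_2 D2683 D3824 (iv D3577) (iv D2507) (iv F5673)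
def n3825 : Q := act 5 n2684
theorem D3825 : act 5 n2684 = n3825 := rfl
theorem F11827 : act 2 n3825 = n3825 := d15_1 D3825 (iv D3825) F8263
theorem F11828 : act 6 n3825 = n3825 := d25_2 D2684 D3825 (iv D3825) (iv D2684) F5676
theorem F11829 : act 7 n3825 = n3591 := d26_2 (iv F8264) D3825 (iv D3591)
def n3826 : Q := act 5 n2685
theorem D3826 : act 5 n2685 = n3826 := rfl
theorem F11830 : act 0 n3826 = n2686 := d4_1 D3826 (iv D2686) D2685
theorem F11831 : act 2 n3826 = n3826 := d15_1 D3826 (iv D3826) F8266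
theorem F11832 : act 3 n3826 = n2702 := d19_1 D3826 (iv D2702) (iv F8267)
theorem F11833 : act 4 n3826 = n3826 := d22_1 D3826 (iv D3826) F8268
theorem F11834 : act 7 n3826 = n3826 := d26_2 F8270 D3826 (iv D3826)
def n3827 : Q := act 6 n2686
theorem D3827 : act 6 n2686 = n3827 := rfl
theorem F11835 : act 1 n3827 = n3541 := d11_1 D3827 (iv D3541) (iv F8271)
theorem F11836 : act 2 n3827 = n3827 := d16_1 D3827 (iv D3827) F8272
theorem F11837 : act 3 n3827 = n2704 := d20_1 D3827 (iv D2704) (iv F8273)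
theorem F11838 : act 4 n3827 = n3827 := d23_1 D3827 (iv D3827) F8274
theorem F11839 : act 5 n3827 = n3827 := d25_1 D3827 (iv D3827) (iv D2686) F5680 D2686
def n3828 : Q := act 1 n2687
theorem D3828 : act 1 n2687 = n3828 := rfl
theorem F11840 : act 2 n3828 = n3828 := d7_2 D2687 D3828 (iv D3828) (iv D2687) F5683
theorem F11841 : act 3 n3828 = n3409 := d8_2 (iv F8277) D3828 (iv D3409)
def n3829 : Q := act 4 n2687
theorem D3829 : act 4 n2687 = n3829 := rfl
theorem F11842 : act 0 n3829 = n2692 := d3_1 D3829 (iv D2692) (iv F8276)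
theorem F11843 : act 2 n3829 = n2688 := d14_1 D3829 (iv D2688) D2687
theorem F11844 : act 5 n3829 = n2716 := d22_2 (iv F8278) D3829 (iv D2716)
def n3830 : Q := act 6 n2687
theorem D3830 : act 6 n2687 = n3830 := rfl
theorem F11845 : act 0 n3830 = n2693 := d5_1 D3830 (iv D2693) (iv F8276)
theorem F11846 : act 2 n3830 = n2689 := d16_1 D3830 (iv D2689) D2687
theorem F11847 : act 3 n3830 = n2716 := d20_1 D3830 (iv F8372) (iv F8277)
def n3831 : Q := act 6 n2688
theorem D3831 : act 6 n2688 = n3831 := rfl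
theorem F11848 : act 0 n3831 = n2694 := d5_1 D3831 (iv D2694) (iv F8279)
theorem F11849 : act 1 n3831 = n3831 := d11_1 D3831 (iv D3831) F8280
theorem F11850 : act 3 n3831 = n2714 := d20_1 D3831 F8367 (iv F8281)
theorem F11851 : act 4 n3831 = n2689 := d23_1 D3831 (iv D2689) D2688
theorem F11852 : act 5 n3831 = n2713 := d25_1 D3831 (iv D2713) F5745 F5754 (iv F8282)
def n3832 : Q := act 5 n2689
theorem D3832 : act 5 n2689 = n3832 := rfl
theorem F11853 : act 0 n3832 = n2695 := d4_1 D3832 (iv D2695) (iv F8283)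
theorem F11854 : act 3 n3832 = n2690 := d19_1 D3832 (iv D2690) (iv F8285)
theorem F11855 : act 4 n3832 = n2713 := d22_1 D3832 (iv F11852) F11851
theorem F11856 : act 6 n3832 = n2712 := d25_2 D2689 D3832 F8360 (iv D1848) (iv F5684)
def n3833 : Q := act 7 n2689
theorem D3833 : act 7 n2689 = n3833 := rfl
theorem F11857 : act 0 n3833 = n2696 := d6_1 D3833 (iv D2696) (iv F8283)
theorem F11858 : act 1 n3833 = n3833 := d12_1 D3833 (iv D3833) F8284
theorem F11859 : act 3 n3833 = n3833 := d21_1 D3833 (iv D3833) F8285 F5689 (iv F8285)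
def n3834 : Q := act 1 n2690
theorem D3834 : act 1 n2690 = n3834 := rfl
theorem F11860 : act 0 n3834 = n3834 := d0_1 D3834 (iv D3834) F8286 F5697 (iv F8286)
theorem F11861 : act 2 n3834 = n3834 := d7_2 (iv F8287) D3834 (iv D3834) F8287 F5999
theorem F11862 : act 4 n3834 = n2822 := d9_2 (iv F8288) D3834 (iv D2822)
theorem F11863 : act 5 n3834 = n3834 := d10_2 D2690 D3834 (iv D3834) (iv D2690) F5686
theorem F11864 : act 6 n3834 = n2719 := d11_2 (iv F8289) D3834 (iv D2719)
theorem F11865 : act 7 n3834 = n3834 := d12_2 F8290 D3834 (iv D3834)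
def n3835 : Q := act 0 n2691
theorem D3835 : act 0 n2691 = n3835 := rfl
theorem F11866 : act 2 n3835 = n2697 := d1_2 (iv F8291) D3835 (iv D2697)
theorem F11867 : act 3 n3835 = n3533 := d2_2 (iv F8292) D3835 (iv D3533)
def n3836 : Q := act 4 n2691
theorem D3836 : act 4 n2691 = n3836 := rfl
theorem F11868 : act 1 n3836 = n2692 := d9_1 D3836 (iv D2692) D2691
theorem F11869 : act 2 n3836 = n2698 := d14_1 D3836 (iv D2698) (iv F8291)
theorem F11870 : act 7 n3836 = n3630 := d24_2 F11191 D3836 F11198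
def n3837 : Q := act 5 n2691
theorem D3837 : act 5 n2691 = n3837 := rfl
theorem F11871 : act 1 n3837 = n2730 := d10_1 D3837 (iv D2730) (iv D1856) (iv F5691) D2691
theorem F11872 : act 2 n3837 = n2699 := d15_1 D3837 (iv D2699) (iv F8291)
theorem F11873 : act 3 n3837 = n3534 := d19_1 D3837 (iv D3534) (iv F8292)
def n3838 : Q := act 6 n2691
theorem D3838 : act 6 n2691 = n3838 := rfl
theorem F11874 : act 1 n3838 = n2693 := d11_1 D3838 (iv D2693) D2691
theorem F11875 : act 2 n3838 = n2700 := d16_1 D3838 (iv D2700) (iv F8291)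
theorem F11876 : act 3 n3838 = n2729 := d20_1 D3838 (iv F8408) (iv F8292)
def n3839 : Q := act 3 n2692
theorem D3839 : act 3 n2692 = n3839 := rfl
theorem F11877 : act 2 n3839 = n2695 := d13_1 D3839 F8302 F5698 (iv F5693) (iv F8293)
theorem F11878 : act 4 n3839 = n2726 := d18_2 D2692 D3839 F8401 F5784 (iv F5690)
theorem F11879 : act 5 n3839 = n2693 := d19_2 (iv F8294) D3839 F8296
theorem F11880 : act 6 n2725 = n3839 := d25_0 F11879 (iv D2693) F5691 D1858 (iv F8399)
def n3840 : Q := act 6 n2692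
theorem D3840 : act 6 n2692 = n3840 := rfl
theorem F11881 : act 2 n3840 = n2694 := d16_1 D3840 (iv D2694) (iv F8293)
theorem F11882 : act 3 n3840 = n2725 := d20_1 D3840 F11880 (iv D3839)
theorem F11883 : act 4 n3840 = n2693 := d23_1 D3840 (iv D2693) D2692
theorem F11884 : act 5 n3840 = n2726 := d25_1 D3840 (iv D2726) F5769 F5782 (iv F8294)
theorem F11885 : act 7 n3840 = n3838 := d27_2 F11194 D3840 (iv D3838) (iv F11191) F11195
def n3841 : Q := act 7 n2693
theorem D3841 : act 7 n2693 = n3841 := rfl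
theorem F11886 : act 1 n3841 = n3840 := d12_1 D3841 F11885 F11874
theorem F11887 : act 2 n3841 = n2696 := d17_1 D3841 (iv D2696) (iv F8295)
theorem F11888 : act 4 n3841 = n3838 := d24_1 D3841 (iv F11885) F11883
theorem F11889 : act 6 n3841 = n3836 := d27_1 D3841 F11870 (iv D3630) F7856 D2693
def n3842 : Q := act 7 n2695
theorem D3842 : act 7 n2695 = n3842 := rfl
theorem F11890 : act 1 n3842 = n3842 := d12_1 D3842 (iv D3842) F8301
theorem F11891 : act 3 n3842 = n3842 := d21_1 D3842 (iv D3842) F8302 F5701 (iv F8302)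
theorem F11892 : act 4 n3842 = n2727 := d24_1 D3842 (iv D2727) (iv F8303)
theorem F11893 : act 5 n3842 = n2696 := d26_1 D3842 (iv D2696) D2695
def n3843 : Q := act 4 n2697
theorem D3843 : act 4 n2697 = n3843 := rfl
theorem F11894 : act 0 n3843 = n2698 := d3_1 D3843 (iv D2698) D2697
theorem F11895 : act 1 n3843 = n3843 := d9_1 D3843 (iv D3843) F8307
theorem F11896 : act 3 n3843 = n3843 := d18_1 D3843 (iv D3843) F8308 F7614 (iv F8308)
theorem F11897 : act 7 n3843 = n3622 := d24_2 F11206 D3843 (iv F11204)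
theorem F11898 : act 6 n3833 = n3843 := d27_5 F11897 (iv D3622) F7843 D2689 D3833
def n3844 : Q := act 5 n2697
theorem D3844 : act 5 n2697 = n3844 := rfl
theorem F11899 : act 0 n3844 = n2699 := d4_1 D3844 (iv D2699) D2697
theorem F11900 : act 3 n3844 = n3539 := d19_1 D3844 (iv D3539) (iv F8308)
def n3845 : Q := act 6 n2697
theorem D3845 : act 6 n2697 = n3845 := rfl
theorem F11901 : act 0 n3845 = n2700 := d5_1 D3845 (iv D2700) D2697
theorem F11902 : act 1 n3845 = n3845 := d11_1 D3845 (iv D3845) F8307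
theorem F11903 : act 3 n3845 = n3540 := d20_1 D3845 (iv D3540) (iv F8308)
theorem F11904 : act 4 n3845 = n3833 := d23_1 D3845 F11898 (iv D3843)
theorem F11905 : act 7 n3845 = n3831 := d27_2 F11206 D3845 (iv D3831) (iv F11154) (iv F11205)
def n3846 : Q := act 5 n2698
theorem D3846 : act 5 n2698 = n3846 := rfl
theorem F11906 : act 1 n3846 = n2703 := d10_1 D3846 (iv D2703) F5726 (iv F5706) (iv F8309)
theorem F11907 : act 3 n3846 = n3846 := d19_1 D3846 (iv D3846) F8310
theorem F11908 : act 4 n3846 = n2699 := d22_1 D3846 (iv D2699) D2698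
theorem F11909 : act 7 n3846 = n3631 := d26_2 (iv F8311) D3846 (iv D3631)
def n3847 : Q := act 6 n2699
theorem D3847 : act 6 n2699 = n3847 := rfl
theorem F11910 : act 1 n3847 = n2704 := d11_1 D3847 (iv D2704) (iv F8313)
theorem F11911 : act 3 n3847 = n3541 := d20_1 D3847 (iv D3541) (iv F8314)
def n3848 : Q := act 5 n2701
theorem D3848 : act 5 n2701 = n3848 := rfl
theorem F11912 : act 0 n3848 = n2703 := d4_1 D3848 (iv D2703) (iv F8319)
theorem F11913 : act 2 n3848 = n2742 := d15_1 D3848 (iv D2742) (iv F8321)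
theorem F11914 : act 3 n3848 = n3848 := d19_1 D3848 (iv D3848) F8322
theorem F11915 : act 4 n3848 = n2702 := d22_1 D3848 (iv D2702) D2701
def n3849 : Q := act 1 n2702
theorem D3849 : act 1 n2702 = n3849 := rfl
theorem F11916 : act 5 n3849 = n3849 := d10_2 D2702 D3849 (iv D3849) (iv D2702) F5723
def n3850 : Q := act 6 n2702
theorem D3850 : act 6 n2702 = n3850 := rfl
theorem F11917 : act 0 n3850 = n2704 := d5_1 D3850 (iv D2704) (iv F8324)
theorem F11918 : act 2 n3850 = n2744 := d16_1 D3850 (iv D2744) (iv F8325)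
theorem F11919 : act 5 n3850 = n3850 := d25_1 D3850 (iv D3850) (iv D2702) F5725 D2702
def n3851 : Q := act 6 n2703
theorem D3851 : act 6 n2703 = n3851 := rfl
theorem F11920 : act 2 n3851 = n2747 := d16_1 D3851 (iv D2747) (iv F8326)
theorem F11921 : act 3 n3851 = n3851 := d20_1 D3851 (iv D3851) F8327
theorem F11922 : act 4 n3851 = n2704 := d23_1 D3851 (iv D2704) (iv F8328)
theorem F11923 : act 5 n3851 = n3851 := d25_1 D3851 (iv D3851) (iv D2703) F5729 D2703
def n3852 : Q := act 7 n2704
theorem D3852 : act 7 n2704 = n3852 := rfl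
theorem F11924 : act 2 n3852 = n2748 := d17_1 D3852 (iv D2748) (iv F8329)
theorem F11925 : act 5 n3852 = n3852 := d26_1 D3852 (iv D3852) F8330
def n3853 : Q := act 7 n2705
theorem D3853 : act 7 n2705 = n3853 := rfl
theorem F11926 : act 0 n3853 = n3853 := d6_1 D3853 (iv D3853) F8331
theorem F11927 : act 2 n3853 = n2706 := d17_1 D3853 (iv D2706) D2705
theorem F11928 : act 4 n3853 = n3112 := d24_1 D3853 (iv D3112) (iv F8333)
theorem F11929 : act 5 n3853 = n3110 := d26_1 D3853 (iv D3110) (iv F8334)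
def n3854 : Q := act 3 n2706
theorem D3854 : act 3 n2706 = n3854 := rfl
theorem F11930 : act 0 n3854 = n3854 := d2_1 D3854 (iv D3854) F8336
theorem F11931 : act 1 n3854 = n2709 := d8_1 D3854 (iv D2709) (iv F8337)
theorem F11932 : act 5 n3854 = n3115 := d19_2 (iv F8339) D3854 (iv D3115)
theorem F11933 : act 7 n3854 = n2707 := d21_2 D2706 D3854 (iv D2707) (iv D1842) D1841
def n3855 : Q := act 6 n2706
theorem D3855 : act 6 n2706 = n3855 := rfl
theorem F11934 : act 0 n3855 = n3855 := d5_1 D3855 (iv D3855) F8336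
theorem F11935 : act 1 n3855 = n2710 := d11_1 D3855 (iv D2710) (iv F8337)
theorem F11936 : act 4 n3855 = n3118 := d23_1 D3855 (iv D3118) (iv F8338)
theorem F11937 : act 7 n3855 = n2758 := d27_2 D2706 D3855 (iv D2758) (iv D1874) (iv F5735)
def n3856 : Q := act 2 n2707
theorem D3856 : act 2 n2707 = n3856 := rfl
theorem F11938 : act 0 n3856 = n3856 := d1_1 D3856 (iv D3856) F8340
theorem F11939 : act 3 n3856 = n3067 := d13_2 D2707 D3856 (iv D3067) (iv D2104) (iv F5738)
theorem F11940 : act 5 n3856 = n3191 := d15_2 (iv F8342) D3856 (iv D3191)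
def n3857 : Q := act 4 n2707
theorem D3857 : act 4 n2707 = n3857 := rfl
theorem F11941 : act 0 n3857 = n3857 := d3_1 D3857 (iv D3857) F8340
theorem F11942 : act 1 n3857 = n2712 := d9_1 D3857 (iv D2712) (iv F8341)
theorem F11943 : act 3 n3857 = n2719 := d18_1 D3857 F8382 (iv D1928) (iv F5739) D2707
theorem F11944 : act 5 n3857 = n3076 := d22_2 (iv F8342) D3857 F9481
def n3858 : Q := act 6 n2707
theorem D3858 : act 6 n2707 = n3858 := rfl
theorem F11945 : act 0 n3858 = n3858 := d5_1 D3858 (iv D3858) F8340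
theorem F11946 : act 1 n3858 = n2713 := d11_1 D3858 (iv D2713) (iv F8341)
theorem F11947 : act 3 n3858 = n2708 := d20_1 D3858 (iv D2708) D2707
theorem F11948 : act 5 n3858 = n3858 := d25_1 D3858 (iv D3858) F8342 F6842 (iv F8342)
def n3859 : Q := act 2 n2709
theorem D3859 : act 2 n2709 = n3859 := rfl
theorem F11949 : act 0 n3859 = n2720 := d1_1 D3859 (iv D2720) (iv F8349)
theorem F11950 : act 5 n3859 = n3315 := d15_2 (iv F8350) D3859 (iv D3315)
theorem F11951 : act 7 n3859 = n2711 := d17_2 (iv F8351) D3859 (iv D2711)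
def n3860 : Q := act 4 n2709
theorem D3860 : act 4 n2709 = n3860 := rfl
theorem F11952 : act 0 n3860 = n2721 := d3_1 D3860 (iv D2721) (iv F8349)
theorem F11953 : act 3 n3860 = n2777 := d18_1 D3860 F8561 (iv D2302) (iv F5742) D2709
theorem F11954 : act 5 n3860 = n2718 := d22_2 (iv F8350) D3860 F8379
theorem F11955 : act 7 n3860 = n2712 := d24_2 (iv F8351) D3860 (iv D2712)
def n3861 : Q := act 6 n2709
theorem D3861 : act 6 n2709 = n3861 := rfl
theorem F11956 : act 0 n3861 = n2722 := d5_1 D3861 (iv D2722) (iv F8349)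
theorem F11957 : act 3 n3861 = n2710 := d20_1 D3861 (iv D2710) D2709
def n3862 : Q := act 5 n2710
theorem D3862 : act 5 n2710 = n3862 := rfl
theorem F11958 : act 0 n3862 = n2723 := d4_1 D3862 (iv D2723) (iv F8352)
theorem F11959 : act 4 n3862 = n3320 := d22_1 D3862 (iv D3320) (iv F8353)
theorem F11960 : act 6 n3862 = n3317 := d25_2 D2710 D3862 (iv D3317) (iv D2301) (iv F5743)
theorem F11961 : act 7 n3862 = n2765 := d26_2 (iv F8354) D3862 (iv D2765)
def n3863 : Q := act 1 n2711
theorem D3863 : act 1 n2711 = n3863 := rfl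
theorem F11962 : act 3 n3863 = n2715 := d8_2 (iv F8356) D3863 (iv D2715)
def n3864 : Q := act 4 n2711
theorem D3864 : act 4 n2711 = n3864 := rfl
theorem F11963 : act 0 n3864 = n2725 := d3_1 D3864 (iv D2725) (iv F8355)
theorem F11964 : act 2 n3864 = n2712 := d14_1 D3864 (iv D2712) D2711
theorem F11965 : act 5 n3864 = n2717 := d22_2 (iv F8357) D3864 F8375
def n3865 : Q := act 6 n2711
theorem D3865 : act 6 n2711 = n3865 := rfl
theorem F11966 : act 0 n3865 = n2726 := d5_1 D3865 (iv D2726) (iv F8355)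
theorem F11967 : act 2 n3865 = n2713 := d16_1 D3865 (iv D2713) D2711
theorem F11968 : act 3 n3865 = n2717 := d20_1 D3865 (iv D2717) (iv F8356)
def n3866 : Q := act 7 n2713
theorem D3866 : act 7 n2713 = n3866 := rfl
theorem F11969 : act 0 n3866 = n2727 := d6_1 D3866 (iv D2727) (iv F8361)
theorem F11970 : act 3 n3866 = n2769 := d21_1 D3866 (iv D2769) F5863 (iv F5749) (iv F8362)
theorem F11971 : act 5 n3866 = n3845 := d26_1 D3866 F11905 F11852
def n3867 : Q := act 0 n2715
theorem D3867 : act 0 n2715 = n3867 := rfl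
theorem F11972 : act 1 n3867 = n2728 := d0_2 D2715 D3867 (iv D2728) (iv D1856) (iv F5750)
theorem F11973 : act 2 n3867 = n3071 := d1_2 (iv F8369) D3867 (iv D3071)
def n3868 : Q := act 4 n2715
theorem D3868 : act 4 n2715 = n3868 := rfl
theorem F11974 : act 1 n3868 = n2716 := d9_1 D3868 (iv D2716) D2715
theorem F11975 : act 2 n3868 = n3072 := d14_1 D3868 (iv D3072) (iv F8369)
theorem F11976 : act 6 n3409 = n3868 := d16_0 F11975 (iv F9470) (iv F10490)
def n3869 : Q := act 5 n2715
theorem D3869 : act 5 n2715 = n3869 := rfl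
theorem F11977 : act 2 n3869 = n3073 := d15_1 D3869 (iv D3073) (iv F8369)
def n3870 : Q := act 6 n2715
theorem D3870 : act 6 n2715 = n3870 := rfl
theorem F11978 : act 1 n3870 = n2717 := d11_1 D3870 (iv D2717) D2715
theorem F11979 : act 2 n3870 = n3074 := d16_1 D3870 (iv D3074) (iv F8369)
theorem F11980 : act 4 n3870 = n3409 := d23_1 D3870 F11976 (iv D3868)
def n3871 : Q := act 7 n2717
theorem D3871 : act 7 n2717 = n3871 := rfl
theorem F11981 : act 0 n3871 = n2732 := d6_1 D3871 (iv D2732) (iv F8373)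
theorem F11982 : act 2 n3871 = n2718 := d17_1 D3871 (iv D2718) (iv F8374)
theorem F11983 : act 4 n3871 = n3315 := d24_1 D3871 F10229 (iv F8375)
def n3872 : Q := act 1 n2720
theorem D3872 : act 1 n2720 = n3872 := rfl
theorem F11984 : act 2 n3872 = n3872 := d7_2 D2720 D3872 (iv D3872) (iv D2720) F5762
theorem F11985 : act 3 n3872 = n3660 := d8_2 F11284 D3872 F11299
theorem F11986 : act 7 n3872 = n2724 := d12_2 (iv F8386) D3872 (iv D2724)
theorem F11987 : act 4 n3670 = n3872 := d18_0 F11985 (iv D3660) F7913 D2568 D3670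
def n3873 : Q := act 4 n2720
theorem D3873 : act 4 n2720 = n3873 := rfl
theorem F11988 : act 1 n3873 = n3670 := d9_1 D3873 F11987 (iv D3872)
theorem F11989 : act 2 n3873 = n2721 := d14_1 D3873 (iv D2721) D2720
theorem F11990 : act 3 n3873 = n3667 := d18_1 D3873 (iv D3667) (iv F11297) (iv F11298) F11284
theorem F11991 : act 5 n3873 = n2732 := d22_2 (iv F8385) D3873 F8414
theorem F11992 : act 7 n3873 = n2725 := d24_2 (iv F8386) D3873 (iv D2725)
def n3874 : Q := act 6 n2720
theorem D3874 : act 6 n2720 = n3874 := rfl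
theorem F11993 : act 2 n3874 = n2722 := d16_1 D3874 (iv D2722) D2720
def n3875 : Q := act 6 n2721
theorem D3875 : act 6 n2721 = n3875 := rfl
theorem F11994 : act 1 n3875 = n3875 := d11_1 D3875 (iv D3875) F8387
theorem F11995 : act 3 n3875 = n2796 := d20_1 D3875 (iv D2796) (iv F8388)
theorem F11996 : act 4 n3875 = n2722 := d23_1 D3875 (iv D2722) D2721
def n3876 : Q := act 5 n2722
theorem D3876 : act 5 n2722 = n3876 := rfl
theorem F11997 : act 3 n3876 = n2723 := d19_1 D3876 (iv D2723) (iv F8392)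
theorem F11998 : act 6 n3876 = n3429 := d25_2 D2722 D3876 (iv D3429) (iv D2388) (iv F5763)
theorem F11999 : act 7 n3847 = n3876 := d27_0 F11998 (iv F11343) F11342 F11210 D3847
theorem F12000 : act 1 n3876 = n3852 := d12_1 F11999 (iv D3852) (iv F11910)
def n3877 : Q := act 7 n2722
theorem D3877 : act 7 n2722 = n3877 := rfl
theorem F12001 : act 1 n3877 = n3877 := d12_1 D3877 (iv D3877) F8391
theorem F12002 : act 3 n3877 = n2782 := d21_1 D3877 (iv D2782) F5899 (iv F5767) (iv F8392)
theorem F12003 : act 5 n3877 = n3847 := d26_1 D3877 F11999 (iv D3876)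
theorem F12004 : act 6 n3877 = n2727 := d27_1 D3877 (iv D2727) (iv D1854) (iv F5764) D2722
def n3878 : Q := act 1 n2723
theorem D3878 : act 1 n2723 = n3878 := rfl
theorem F12005 : act 3 n3878 = n3852 := d8_2 F11997 D3878 (iv F12000)
theorem F12006 : act 4 n3878 = n3433 := d9_2 (iv F8393) D3878 (iv D3433)
theorem F12007 : act 5 n3878 = n3878 := d10_2 D2723 D3878 (iv D3878) (iv D2723) F5765
theorem F12008 : act 6 n3878 = n3430 := d11_2 (iv F8394) D3878 (iv D3430)
theorem F12009 : act 7 n3878 = n2783 := d12_2 (iv F8395) D3878 (iv D2783)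
def n3879 : Q := act 0 n2724
theorem D3879 : act 0 n2724 = n3879 := rfl
theorem F12010 : act 2 n3879 = n3879 := d1_2 F8396 D3879 (iv D3879)
theorem F12011 : act 3 n3879 = n2728 := d2_2 (iv F8397) D3879 (iv D2728)
def n3880 : Q := act 4 n2724
theorem D3880 : act 4 n2724 = n3880 := rfl
theorem F12012 : act 1 n3880 = n2725 := d9_1 D3880 (iv D2725) D2724
theorem F12013 : act 2 n3880 = n3880 := d14_1 D3880 (iv D3880) F8396
theorem F12014 : act 3 n3880 = n3841 := d18_1 D3880 F11888 F11876 (iv D2729) (iv F8397)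
theorem F12015 : act 7 n3880 = n3670 := d24_2 F11986 D3880 F11987
def n3881 : Q := act 5 n2724
theorem D3881 : act 5 n2724 = n3881 := rfl
theorem F12016 : act 1 n3881 = n3534 := d10_1 D3881 (iv D3534) (iv D2467) (iv F5769) D2724
theorem F12017 : act 2 n3881 = n3881 := d15_1 D3881 (iv D3881) F8396
theorem F12018 : act 3 n3881 = n2730 := d19_1 D3881 (iv D2730) (iv F8397)
def n3882 : Q := act 6 n2724
theorem D3882 : act 6 n2724 = n3882 := rfl
theorem F12019 : act 1 n3882 = n2726 := d11_1 D3882 (iv D2726) D2724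
theorem F12020 : act 2 n3882 = n3882 := d16_1 D3882 (iv D3882) F8396
theorem F12021 : act 3 n3882 = n2731 := d20_1 D3882 (iv D2731) (iv F8397)
def n3883 : Q := act 7 n2726
theorem D3883 : act 7 n2726 = n3883 := rfl
theorem F12022 : act 2 n3883 = n2727 := d17_1 D3883 (iv D2727) (iv F8400)
theorem F12023 : act 5 n3883 = n3838 := d26_1 D3883 (iv F11885) F11884
def n3884 : Q := act 4 n2728
theorem D3884 : act 4 n2728 = n3884 := rfl
theorem F12024 : act 0 n3884 = n2729 := d3_1 D3884 (iv D2729) D2728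
theorem F12025 : act 2 n3884 = n2733 := d14_1 D3884 (iv D2733) (iv F8405)
theorem F12026 : act 6 n3533 = n3884 := d16_0 F12025 (iv F8418) (iv F10871)
def n3885 : Q := act 5 n2728
theorem D3885 : act 5 n2728 = n3885 := rfl
theorem F12027 : act 0 n3885 = n2730 := d4_1 D3885 (iv D2730) D2728
theorem F12028 : act 2 n3885 = n2734 := d15_1 D3885 (iv D2734) (iv F8405)
def n3886 : Q := act 6 n2728
theorem D3886 : act 6 n2728 = n3886 := rfl
theorem F12029 : act 0 n3886 = n2731 := d5_1 D3886 (iv D2731) D2728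
theorem F12030 : act 2 n3886 = n2735 := d16_1 D3886 (iv D2735) (iv F8405)
theorem F12031 : act 4 n3886 = n3533 := d23_1 D3886 F12026 (iv D3884)
def n3887 : Q := act 5 n2729
theorem D3887 : act 5 n2729 = n3887 := rfl
theorem F12032 : act 2 n3887 = n2736 := d15_1 D3887 (iv D2736) (iv F8407)
theorem F12033 : act 3 n3887 = n3883 := d19_1 D3887 F12023 F11876
theorem F12034 : act 4 n3887 = n2730 := d22_1 D3887 (iv D2730) D2729
def n3888 : Q := act 6 n2730
theorem D3888 : act 6 n2730 = n3888 := rfl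
theorem F12035 : act 2 n3888 = n2737 := d16_1 D3888 (iv D2737) (iv F8409)
def n3889 : Q := act 5 n2731
theorem D3889 : act 5 n2731 = n3889 := rfl
theorem F12036 : act 2 n3889 = n2738 := d15_1 D3889 (iv D2738) (iv F8411)
theorem F12037 : act 4 n3889 = n3534 := d22_1 D3889 (iv D3534) (iv F8412)
def n3890 : Q := act 7 n2731
theorem D3890 : act 7 n2731 = n3890 := rfl
theorem F12038 : act 1 n3890 = n2732 := d12_1 D3890 (iv D2732) (iv F8410)
theorem F12039 : act 2 n3890 = n2739 := d17_1 D3890 (iv D2739) (iv F8411)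
theorem F12040 : act 4 n3890 = n3427 := d24_1 D3890 F10533 (iv F8412)
def n3891 : Q := act 3 n2732
theorem D3891 : act 3 n2732 = n3891 := rfl
theorem F12041 : act 2 n3891 = n2795 := d13_1 D3891 (iv D2795) F5932 (iv F5786) (iv F8413)
theorem F12042 : act 5 n3891 = n3667 := d19_2 F11991 D3891 (iv F11990)
theorem F12043 : act 7 n3891 = n3887 := d21_2 D2732 D3891 F12033 (iv D3883) F8401
theorem F12044 : act 4 n3668 = n3891 := d24_3 F12043 F12034 (iv F11328)
def n3892 : Q := act 5 n2733
theorem D3892 : act 5 n2733 = n3892 := rfl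
theorem F12045 : act 0 n3892 = n2736 := d4_1 D3892 (iv D2736) (iv F8415)
theorem F12046 : act 3 n3892 = n3544 := d19_1 D3892 (iv D3544) F8417
theorem F12047 : act 4 n3892 = n2734 := d22_1 D3892 (iv D2734) D2733
def n3893 : Q := act 1 n2734
theorem D3893 : act 1 n2734 = n3893 := rfl
theorem F12048 : act 0 n3893 = n2743 := d0_1 D3893 (iv D2743) F5805 (iv F5793) (iv F8419)
theorem F12049 : act 3 n3893 = n3893 := d8_2 F8420 D3893 (iv D3893)
theorem F12050 : act 5 n3893 = n3088 := d10_2 D2734 D3893 (iv D3088) (iv D2126) (iv F5788)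
def n3894 : Q := act 6 n2734
theorem D3894 : act 6 n2734 = n3894 := rfl
theorem F12051 : act 0 n3894 = n2737 := d5_1 D3894 (iv D2737) (iv F8419)
theorem F12052 : act 3 n3894 = n3894 := d20_1 D3894 (iv D3894) F8420
def n3895 : Q := act 5 n2735
theorem D3895 : act 5 n2735 = n3895 := rfl
theorem F12053 : act 0 n3895 = n2738 := d4_1 D3895 (iv D2738) (iv F8421)
theorem F12054 : act 3 n3895 = n3895 := d19_1 D3895 (iv D3895) F8423
theorem F12055 : act 4 n3895 = n3535 := d22_1 D3895 (iv D3535) (iv F8424)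
def n3896 : Q := act 7 n2735
theorem D3896 : act 7 n2735 = n3896 := rfl
theorem F12056 : act 0 n3896 = n2739 := d6_1 D3896 (iv D2739) (iv F8421)
theorem F12057 : act 1 n3896 = n3091 := d12_1 D3896 (iv D3091) (iv F8422)
theorem F12058 : act 4 n3896 = n3442 := d24_1 D3896 F10568 (iv F8424)
theorem F12059 : act 3 n3262 = n3896 := d8_0 F12057 (iv F9537) D3262
def n3897 : Q := act 6 n2736
theorem D3897 : act 6 n2736 = n3897 := rfl
theorem F12060 : act 1 n3897 = n2747 := d11_1 D3897 (iv D2747) (iv F8425)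
theorem F12061 : act 3 n3897 = n3546 := d20_1 D3897 F10914 (iv F8426)
theorem F12062 : act 4 n3897 = n2737 := d23_1 D3897 (iv D2737) (iv F8427)
theorem F12063 : act 5 n3897 = n3536 := d25_1 D3897 (iv D3536) (iv D2469) F5792 D2736
def n3898 : Q := act 5 n2737
theorem D3898 : act 5 n2737 = n3898 := rfl
theorem F12064 : act 1 n3898 = n3898 := d10_1 D3898 (iv D3898) F8428 F5813 (iv F8428)
theorem F12065 : act 3 n3898 = n3898 := d19_1 D3898 (iv D3898) F8429
theorem F12066 : act 4 n3898 = n3536 := d22_1 D3898 (iv F12063) F12062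
theorem F12067 : act 6 n3898 = n2738 := d25_2 D2737 D3898 (iv D2738) (iv D1863) D1862
theorem F12068 : act 7 n3416 = n3898 := d27_0 F12067 F11182 (iv D3626) F7850 D3416
def n3899 : Q := act 7 n2737
theorem D3899 : act 7 n2737 = n3899 := rfl
theorem F12069 : act 1 n3899 = n2748 := d12_1 D3899 (iv D2748) (iv F8428)
theorem F12070 : act 5 n3899 = n3416 := d26_1 D3899 F12068 (iv D3898)
theorem F12071 : act 3 n3417 = n3899 := d19_3 F12070 F10507 D3417
def n3900 : Q := act 5 n2741
theorem D3900 : act 5 n2741 = n3900 := rfl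
theorem F12072 : act 0 n3900 = n2745 := d4_1 D3900 (iv D2745) (iv F8440)
theorem F12073 : act 2 n3900 = n3900 := d15_1 D3900 (iv D3900) F8442
theorem F12074 : act 3 n3900 = n2742 := d19_1 D3900 (iv D2742) D2741
theorem F12075 : act 4 n3900 = n3900 := d22_1 D3900 (iv D3900) F8443
def n3901 : Q := act 7 n2741
theorem D3901 : act 7 n2741 = n3901 := rfl
theorem F12076 : act 0 n3901 = n2746 := d6_1 D3901 (iv D2746) (iv F8440)
theorem F12077 : act 1 n3901 = n3097 := d12_1 D3901 (iv D3097) (iv F8441)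
theorem F12078 : act 2 n3901 = n3901 := d17_1 D3901 (iv D3901) F8442
theorem F12079 : act 4 n3901 = n3901 := d24_1 D3901 (iv D3901) F8443
def n3902 : Q := act 1 n2742
theorem D3902 : act 1 n2742 = n3902 := rfl
theorem F12080 : act 4 n3902 = n2743 := d9_2 (iv F8446) D3902 (iv D2743)
theorem F12081 : act 5 n3902 = n3098 := d10_2 D2742 D3902 (iv D3098) (iv D2134) (iv F5803)
def n3903 : Q := act 6 n2742
theorem D3903 : act 6 n2742 = n3903 := rfl
theorem F12082 : act 0 n3903 = n2747 := d5_1 D3903 (iv D2747) (iv F8445)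
theorem F12083 : act 4 n3903 = n2744 := d23_1 D3903 (iv D2744) (iv F8446)
theorem F12084 : act 5 n3903 = n3903 := d25_1 D3903 (iv D3903) (iv D2742) F5804 D2742
def n3904 : Q := act 2 n2743
theorem D3904 : act 2 n2743 = n3904 := rfl
theorem F12085 : act 5 n3904 = n3100 := d15_2 (iv F8448) D3904 (iv D3100)
def n3905 : Q := act 6 n2743
theorem D3905 : act 6 n2743 = n3905 := rfl
theorem F12086 : act 1 n3905 = n2744 := d11_1 D3905 (iv D2744) D2743
theorem F12087 : act 3 n3905 = n3905 := d20_1 D3905 (iv D3905) F8447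
def n3906 : Q := act 7 n2744
theorem D3906 : act 7 n2744 = n3906 := rfl
theorem F12088 : act 0 n3906 = n2748 := d6_1 D3906 (iv D2748) (iv F8449)
theorem F12089 : act 5 n3906 = n3906 := d26_1 D3906 (iv D3906) F8451
def n3907 : Q := act 6 n2745
theorem D3907 : act 6 n2745 = n3907 := rfl
theorem F12090 : act 1 n3907 = n3546 := d11_1 D3907 F10914 (iv F8452)
theorem F12091 : act 2 n3907 = n3907 := d16_1 D3907 (iv D3907) F8453
theorem F12092 : act 3 n3907 = n2747 := d20_1 D3907 (iv D2747) (iv F8454)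
theorem F12093 : act 4 n3907 = n3907 := d23_1 D3907 (iv D3907) F8455
theorem F12094 : act 5 n3907 = n3907 := d25_1 D3907 (iv D3907) (iv D2745) F5810 D2745
def n3908 : Q := act 6 n2746
theorem D3908 : act 6 n2746 = n3908 := rfl
theorem F12095 : act 1 n3908 = n2749 := d11_1 D3908 (iv D2749) (iv F8456)
theorem F12096 : act 2 n3908 = n3908 := d16_1 D3908 (iv D3908) F8457
theorem F12097 : act 4 n3908 = n3908 := d23_1 D3908 (iv D3908) F8458
theorem F12098 : act 7 n3908 = n3908 := d27_2 D2746 D3908 (iv D3908) (iv D2746) F5810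
def n3909 : Q := act 7 n2747
theorem D3909 : act 7 n2747 = n3909 := rfl
theorem F12099 : act 4 n3909 = n2748 := d24_1 D3909 (iv D2748) (iv F8459)
theorem F12100 : act 5 n3909 = n3909 := d26_1 D3909 (iv D3909) F8460
def n3910 : Q := act 3 n2748
theorem D3910 : act 3 n2748 = n3910 := rfl
theorem F12101 : act 1 n3910 = n3417 := d8_1 D3910 F12071 F12069
theorem F12102 : act 5 n3910 = n3910 := d19_2 F8461 D3910 (iv D3910)
theorem F12103 : act 7 n3910 = n3910 := d21_2 D2748 D3910 (iv D3910) (iv D2748) F5812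
theorem F12104 : act 4 n3426 = n3910 := d9_0 F12101 F10509 D3426
def n3911 : Q := act 3 n2750
theorem D3911 : act 3 n2750 = n3911 := rfl
theorem F12105 : act 0 n3911 = n3911 := d2_1 D3911 (iv D3911) F8467
theorem F12106 : act 2 n3911 = n2755 := d13_1 D3911 F8486 F5831 (iv F5822) (iv F8468)
theorem F12107 : act 4 n3911 = n3060 := d18_2 D2750 D3911 F9433 (iv D2143) (iv F5819)
theorem F12108 : act 6 n3911 = n2751 := d20_2 (iv F8469) D3911 F8472
theorem F12109 : act 5 n3059 = n3911 := d25_5 F12108 (iv D2751) (iv F8335) F8334 (iv F9430)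
def n3912 : Q := act 5 n2750
theorem D3912 : act 5 n2750 = n3912 := rfl
theorem F12110 : act 0 n3912 = n3912 := d4_1 D3912 (iv D3912) F8467
theorem F12111 : act 2 n3912 = n2753 := d15_1 D3912 (iv D2753) (iv F8468)
theorem F12112 : act 3 n3912 = n3059 := d19_1 D3912 F12109 (iv D3911)
theorem F12113 : act 4 n3912 = n2751 := d22_1 D3912 (iv D2751) D2750
theorem F12114 : act 6 n3912 = n3060 := d25_2 (iv F8469) D3912 (iv D3060) F6491 D2144
def n3913 : Q := act 7 n2750
theorem D3913 : act 7 n2750 = n3913 := rfl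
theorem F12115 : act 0 n3913 = n3913 := d6_1 D3913 (iv D3913) F8467
theorem F12116 : act 2 n3913 = n2754 := d17_1 D3913 (iv D2754) (iv F8468)
theorem F12117 : act 4 n3913 = n2752 := d24_1 D3913 (iv D2752) D2750
def n3914 : Q := act 1 n2751
theorem D3914 : act 1 n2751 = n3914 := rfl
theorem F12118 : act 2 n3914 = n3914 := d7_2 (iv F8471) D3914 (iv D3914) F8471 F5825
theorem F12119 : act 3 n3914 = n3111 := d8_2 (iv F8472) D3914 (iv D3111)
def n3915 : Q := act 7 n2751
theorem D3915 : act 7 n2751 = n3915 := rfl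
theorem F12120 : act 0 n3915 = n3915 := d6_1 D3915 (iv D3915) F8470
theorem F12121 : act 2 n3915 = n2756 := d17_1 D3915 (iv D2756) (iv F8471)
theorem F12122 : act 5 n3915 = n2752 := d26_1 D3915 (iv D2752) D2751
def n3916 : Q := act 3 n2752
theorem D3916 : act 3 n2752 = n3916 := rfl
theorem F12123 : act 0 n3916 = n3916 := d2_1 D3916 (iv D3916) F8473
theorem F12124 : act 7 n3916 = n3113 := d21_2 D2752 D3916 (iv D3113) (iv D2145) (iv F5819)
def n3917 : Q := act 6 n2752
theorem D3917 : act 6 n2752 = n3917 := rfl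
theorem F12125 : act 0 n3917 = n3917 := d5_1 D3917 (iv D3917) F8473
theorem F12126 : act 2 n3917 = n2758 := d16_1 D3917 (iv D2758) (iv F8474)
def n3918 : Q := act 7 n2753
theorem D3918 : act 7 n2753 = n3918 := rfl
theorem F12127 : act 0 n3918 = n3918 := d6_1 D3918 (iv D3918) F8475
theorem F12128 : act 1 n3918 = n3918 := d12_1 D3918 (iv D3918) F8476
theorem F12129 : act 3 n3918 = n3918 := d21_1 D3918 (iv D3918) F8477 F6029 (iv F8477)
theorem F12130 : act 4 n3918 = n2756 := d24_1 D3918 (iv D2756) (iv F8478)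
theorem F12131 : act 5 n3918 = n2754 := d26_1 D3918 (iv D2754) D2753
def n3919 : Q := act 6 n2754
theorem D3919 : act 6 n2754 = n3919 := rfl
theorem F12132 : act 0 n3919 = n3919 := d5_1 D3919 (iv D3919) F8480
theorem F12133 : act 1 n3919 = n2762 := d11_1 D3919 (iv D2762) (iv F8481)
theorem F12134 : act 3 n3919 = n3919 := d20_1 D3919 (iv D3919) F8482
theorem F12135 : act 4 n3919 = n2758 := d23_1 D3919 (iv D2758) (iv F8483)
theorem F12136 : act 7 n3919 = n3118 := d27_2 D2754 D3919 (iv D3118) (iv D2147) (iv F5823)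
def n3920 : Q := act 7 n2755
theorem D3920 : act 7 n2755 = n3920 := rfl
theorem F12137 : act 0 n3920 = n3920 := d6_1 D3920 (iv D3920) F8484
theorem F12138 : act 1 n3920 = n3920 := d12_1 D3920 (iv D3920) F8485
theorem F12139 : act 3 n3920 = n3920 := d21_1 D3920 (iv D3920) F8486 F5834 (iv F8486)
theorem F12140 : act 4 n3920 = n3063 := d24_1 D3920 (iv D3063) (iv F8487)
theorem F12141 : act 5 n3920 = n3062 := d26_1 D3920 (iv D3062) (iv F8488)
def n3921 : Q := act 3 n2756
theorem D3921 : act 3 n2756 = n3921 := rfl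
theorem F12142 : act 0 n3921 = n3921 := d2_1 D3921 (iv D3921) F8489
theorem F12143 : act 1 n3921 = n3921 := d8_1 D3921 (iv D3921) F8490
theorem F12144 : act 4 n3921 = n3921 := d18_2 F12130 D3921 (iv D3921) (iv F12130) F12129
theorem F12145 : act 5 n3921 = n2757 := d19_2 (iv F8491) D3921 (iv D2757)
theorem F12146 : act 7 n3921 = n2759 := d21_2 D2756 D3921 (iv D2759) (iv D1876) (iv F5826)
def n3922 : Q := act 6 n2756
theorem D3922 : act 6 n2756 = n3922 := rfl
theorem F12147 : act 0 n3922 = n3922 := d5_1 D3922 (iv D3922) F8489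
theorem F12148 : act 1 n3922 = n3922 := d11_1 D3922 (iv D3922) F8490
def n3923 : Q := act 2 n2757
theorem D3923 : act 2 n2757 = n3923 := rfl
theorem F12149 : act 0 n3923 = n3923 := d1_1 D3923 (iv D3923) F8492
theorem F12150 : act 4 n3923 = n3923 := d14_2 F8494 D3923 (iv D3923)
theorem F12151 : act 7 n3923 = n2760 := d17_2 (iv F8495) D3923 (iv D2760)
def n3924 : Q := act 6 n2757
theorem D3924 : act 6 n2757 = n3924 := rfl
theorem F12152 : act 0 n3924 = n3924 := d5_1 D3924 (iv D3924) F8492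
theorem F12153 : act 1 n3924 = n2764 := d11_1 D3924 (iv D2764) (iv F8493)
theorem F12154 : act 3 n3924 = n2758 := d20_1 D3924 (iv D2758) D2757
theorem F12155 : act 4 n3924 = n3924 := d23_1 D3924 (iv D3924) F8494
def n3925 : Q := act 5 n2758
theorem D3925 : act 5 n2758 = n3925 := rfl
theorem F12156 : act 0 n3925 = n3925 := d4_1 D3925 (iv D3925) F8496
def n3926 : Q := act 2 n2759
theorem D3926 : act 2 n2759 = n3926 := rfl
theorem F12157 : act 0 n3926 = n3926 := d1_1 D3926 (iv D3926) F8498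
theorem F12158 : act 3 n3926 = n3123 := d13_2 D2759 D3926 (iv D3123) (iv D2150) (iv F5837)
theorem F12159 : act 4 n3926 = n3926 := d14_2 F8500 D3926 (iv D3926)
theorem F12160 : act 5 n3926 = n2760 := d15_2 (iv F8501) D3926 (iv D2760)
theorem F12161 : act 6 n3926 = n3926 := d16_2 F8502 D3926 (iv D3926)
def n3927 : Q := act 1 n2760
theorem D3927 : act 1 n2760 = n3927 := rfl
theorem F12162 : act 2 n3927 = n2766 := d7_2 D2760 D3927 (iv D2766) (iv D1882) (iv F5842)
theorem F12163 : act 3 n3927 = n3124 := d8_2 (iv F8504) D3927 (iv D3124)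
theorem F12164 : act 4 n3927 = n3927 := d9_2 F8505 D3927 (iv D3927)
def n3928 : Q := act 6 n2760
theorem D3928 : act 6 n2760 = n3928 := rfl
theorem F12165 : act 0 n3928 = n3928 := d5_1 D3928 (iv D3928) F8503
theorem F12166 : act 2 n3928 = n2761 := d16_1 D3928 (iv D2761) D2760
theorem F12167 : act 3 n3928 = n3126 := d20_1 D3928 (iv D3126) (iv F8504)
theorem F12168 : act 4 n3928 = n3928 := d23_1 D3928 (iv D3928) F8505
theorem F12169 : act 5 n3928 = n3928 := d25_1 D3928 (iv D3928) (iv F12160) F12161 F12160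
def n3929 : Q := act 7 n2761
theorem D3929 : act 7 n2761 = n3929 := rfl
theorem F12170 : act 0 n3929 = n3929 := d6_1 D3929 (iv D3929) F8506
theorem F12171 : act 1 n3929 = n2769 := d12_1 D3929 (iv D2769) (iv F8507)
theorem F12172 : act 4 n3929 = n3929 := d24_1 D3929 (iv D3929) F8509
theorem F12173 : act 5 n3929 = n3929 := d26_1 D3929 (iv D3929) F8510
def n3930 : Q := act 5 n2762
theorem D3930 : act 5 n2762 = n3930 := rfl
theorem F12174 : act 0 n3930 = n2778 := d4_1 D3930 (iv D2778) (iv F8511)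
theorem F12175 : act 3 n3930 = n3930 := d19_1 D3930 (iv D3930) F8512
theorem F12176 : act 4 n3930 = n2765 := d22_1 D3930 (iv D2765) (iv F8513)
theorem F12177 : act 6 n3930 = n3930 := d25_2 D2762 D3930 (iv D3930) (iv D2762) F5852
theorem F12178 : act 7 n3930 = n3320 := d26_2 (iv F8514) D3930 (iv D3320)
def n3931 : Q := act 1 n2763
theorem D3931 : act 1 n2763 = n3931 := rfl
theorem F12179 : act 4 n3931 = n3931 := d9_2 F8516 D3931 (iv D3931)
theorem F12180 : act 7 n3931 = n2766 := d12_2 (iv F8518) D3931 (iv D2766)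
def n3932 : Q := act 6 n2763
theorem D3932 : act 6 n2763 = n3932 := rfl
theorem F12181 : act 0 n3932 = n2780 := d5_1 D3932 (iv D2780) (iv F8515)
theorem F12182 : act 2 n3932 = n2764 := d16_1 D3932 (iv D2764) D2763
theorem F12183 : act 4 n3932 = n3932 := d23_1 D3932 (iv D3932) F8516
def n3933 : Q := act 5 n2764
theorem D3933 : act 5 n2764 = n3933 := rfl
theorem F12184 : act 0 n3933 = n2781 := d4_1 D3933 (iv D2781) (iv F8519)
theorem F12185 : act 3 n3933 = n2765 := d19_1 D3933 (iv D2765) (iv F8520)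
theorem F12186 : act 4 n3933 = n3933 := d22_1 D3933 (iv D3933) F8521
theorem F12187 : act 6 n3933 = n3933 := d25_2 D2764 D3933 (iv D3933) (iv D2764) F5855
def n3934 : Q := act 7 n2764
theorem D3934 : act 7 n2764 = n3934 := rfl
theorem F12188 : act 0 n3934 = n2782 := d6_1 D3934 (iv D2782) (iv F8519)
theorem F12189 : act 4 n3934 = n3934 := d24_1 D3934 (iv D3934) F8521
theorem F12190 : act 6 n3934 = n2769 := d27_1 D3934 (iv D2769) (iv D1883) (iv F5856) D2764
def n3935 : Q := act 1 n2765
theorem D3935 : act 1 n2765 = n3935 := rfl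
theorem F12191 : act 6 n3935 = n3935 := d11_2 F8523 D3935 (iv D3935)
def n3936 : Q := act 0 n2766
theorem D3936 : act 0 n2766 = n3936 := rfl
theorem F12192 : act 1 n3936 = n2784 := d0_2 D2766 D3936 (iv D2784) (iv D1895) (iv F5858)
theorem F12193 : act 3 n3936 = n2770 := d2_2 (iv F8524) D3936 (iv D2770)
theorem F12194 : act 4 n3936 = n3936 := d3_2 F8525 D3936 (iv D3936)
def n3937 : Q := act 5 n2766
theorem D3937 : act 5 n2766 = n3937 := rfl
theorem F12195 : act 1 n3937 = n3937 := d10_1 D3937 (iv D3937) (iv D2766) F5861 D2766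
theorem F12196 : act 3 n3937 = n2772 := d19_1 D3937 (iv D2772) (iv F8524)
theorem F12197 : act 4 n3937 = n3937 := d22_1 D3937 (iv D3937) F8525
def n3938 : Q := act 6 n2766
theorem D3938 : act 6 n2766 = n3938 := rfl
theorem F12198 : act 1 n3938 = n2767 := d11_1 D3938 (iv D2767) D2766
theorem F12199 : act 3 n3938 = n2773 := d20_1 D3938 (iv D2773) (iv F8524)
theorem F12200 : act 4 n3938 = n3938 := d23_1 D3938 (iv D3938) F8525
def n3939 : Q := act 4 n2770
theorem D3939 : act 4 n2770 = n3939 := rfl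
theorem F12201 : act 0 n3939 = n2771 := d3_1 D3939 (iv D2771) D2770
theorem F12202 : act 1 n3939 = n2787 := d9_1 D3939 (iv D2787) (iv F8537)
theorem F12203 : act 2 n3939 = n3139 := d14_1 D3939 (iv D3139) (iv F8538)
theorem F12204 : act 3 n3939 = n3939 := d18_1 D3939 (iv D3939) (iv F12193) F12194 F12193
theorem F12205 : act 6 n3326 = n3939 := d16_0 F12203 (iv F9674) (iv F10255)
def n3940 : Q := act 5 n2770
theorem D3940 : act 5 n2770 = n3940 := rfl
theorem F12206 : act 0 n3940 = n2772 := d4_1 D3940 (iv D2772) D2770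
theorem F12207 : act 2 n3940 = n3140 := d15_1 D3940 (iv D3140) (iv F8538)
def n3941 : Q := act 6 n2770
theorem D3941 : act 6 n2770 = n3941 := rfl
theorem F12208 : act 0 n3941 = n2773 := d5_1 D3941 (iv D2773) D2770
theorem F12209 : act 1 n3941 = n2789 := d11_1 D3941 (iv D2789) (iv F8537)
theorem F12210 : act 2 n3941 = n3141 := d16_1 D3941 (iv D3141) (iv F8538)
theorem F12211 : act 4 n3941 = n3326 := d23_1 D3941 F12205 (iv D3939)
def n3942 : Q := act 5 n2771
theorem D3942 : act 5 n2771 = n3942 := rfl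
theorem F12212 : act 1 n3942 = n3942 := d10_1 D3942 (iv D3942) F8539 F5874 (iv F8539)
theorem F12213 : act 2 n3942 = n3142 := d15_1 D3942 (iv D3142) (iv F8540)
theorem F12214 : act 3 n3942 = n3942 := d19_1 D3942 (iv D3942) F8541
theorem F12215 : act 4 n3942 = n2772 := d22_1 D3942 (iv D2772) D2771
def n3943 : Q := act 6 n2772
theorem D3943 : act 6 n2772 = n3943 := rfl
theorem F12216 : act 1 n3943 = n3943 := d11_1 D3943 (iv D3943) F8543
theorem F12217 : act 2 n3943 = n3143 := d16_1 D3943 (iv D3143) (iv F8544)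
def n3944 : Q := act 5 n2773
theorem D3944 : act 5 n2773 = n3944 := rfl
theorem F12218 : act 2 n3944 = n3144 := d15_1 D3944 (iv D3144) (iv F8546)
theorem F12219 : act 4 n3944 = n3327 := d22_1 D3944 (iv D3327) (iv F8547)
def n3945 : Q := act 7 n2773
theorem D3945 : act 7 n2773 = n3945 := rfl
theorem F12220 : act 1 n3945 = n2775 := d12_1 D3945 (iv D2775) (iv F8545)
theorem F12221 : act 2 n3945 = n3145 := d17_1 D3945 (iv D3145) (iv F8546)
theorem F12222 : act 4 n3945 = n3321 := d24_1 D3945 F10245 (iv F8547)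
def n3946 : Q := act 7 n2774
theorem D3946 : act 7 n2774 = n3946 := rfl
theorem F12223 : act 0 n3946 = n2794 := d6_1 D3946 (iv D2794) (iv F8548)
theorem F12224 : act 2 n3946 = n2777 := d17_1 D3946 (iv D2777) (iv F8549)
theorem F12225 : act 3 n3946 = n3676 := d21_1 D3946 F11350 (iv F8417) D3545 (iv F10911)
theorem F12226 : act 4 n3946 = n3318 := d24_1 D3946 F10238 (iv F8550)
theorem F12227 : act 5 n3946 = n2775 := d26_1 D3946 (iv D2775) D2774
def n3947 : Q := act 3 n2775
theorem D3947 : act 3 n2775 = n3947 := rfl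
theorem F12228 : act 0 n3947 = n2795 := d2_1 D3947 (iv D2795) (iv F8552)
theorem F12229 : act 4 n3947 = n3677 := d18_2 (iv F8554) D3947 (iv F11762) F11763 F10219
theorem F12230 : act 5 n3947 = n3676 := d19_2 F12227 D3947 (iv F12225)
theorem F12231 : act 7 n3947 = n3892 := d21_2 D2775 D3947 F12046 (iv F10904) F8528
def n3948 : Q := act 2 n2776
theorem D3948 : act 2 n2776 = n3948 := rfl
theorem F12232 : act 0 n3948 = n3948 := d1_1 D3948 (iv D3948) F8555
theorem F12233 : act 3 n3948 = n3948 := d13_2 (iv F8556) D3948 (iv D3948) F8556 F5887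
theorem F12234 : act 4 n3948 = n3123 := d14_2 (iv F8557) D3948 (iv D3123)
theorem F12235 : act 5 n3948 = n3125 := d15_2 (iv F8558) D3948 F9631
theorem F12236 : act 6 n3948 = n3948 := d16_2 F8559 D3948 (iv D3948)
def n3949 : Q := act 7 n2776
theorem D3949 : act 7 n2776 = n3949 := rfl
theorem F12237 : act 0 n3949 = n3949 := d6_1 D3949 (iv D3949) F8555
theorem F12238 : act 1 n3949 = n2777 := d12_1 D3949 (iv D2777) D2776
theorem F12239 : act 4 n3949 = n3117 := d24_1 D3949 F9614 (iv F8557)
theorem F12240 : act 5 n3949 = n3120 := d26_1 D3949 F9621 (iv F8558)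
def n3950 : Q := act 6 n2777
theorem D3950 : act 6 n2777 = n3950 := rfl
theorem F12241 : act 0 n3950 = n2796 := d5_1 D3950 (iv D2796) (iv F8560)
theorem F12242 : act 4 n3950 = n3319 := d23_1 D3950 (iv D3319) (iv F8561)
theorem F12243 : act 7 n3950 = n3950 := d27_2 D2777 D3950 (iv D3950) (iv D2777) F5882
def n3951 : Q := act 1 n2778
theorem D3951 : act 1 n2778 = n3951 := rfl
theorem F12244 : act 3 n3951 = n3951 := d8_2 F8563 D3951 (iv D3951)
theorem F12245 : act 4 n3951 = n2783 := d9_2 (iv F8564) D3951 (iv D2783)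
theorem F12246 : act 5 n3951 = n3951 := d10_2 D2778 D3951 (iv D3951) (iv D2778) F5891
theorem F12247 : act 6 n3951 = n3951 := d11_2 F8565 D3951 (iv D3951)
theorem F12248 : act 7 n3951 = n3433 := d12_2 (iv F8566) D3951 (iv D3433)
def n3952 : Q := act 0 n2779
theorem D3952 : act 0 n2779 = n3952 := rfl
theorem F12249 : act 2 n3952 = n3952 := d1_2 F8567 D3952 (iv D3952)
theorem F12250 : act 4 n3952 = n3952 := d3_2 F8568 D3952 (iv D3952)
theorem F12251 : act 7 n3952 = n2784 := d6_2 (iv F8569) D3952 (iv D2784)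
def n3953 : Q := act 5 n2779
theorem D3953 : act 5 n2779 = n3953 := rfl
theorem F12252 : act 1 n3953 = n3953 := d10_1 D3953 (iv D3953) (iv D2779) F5896 D2779
theorem F12253 : act 2 n3953 = n3953 := d15_1 D3953 (iv D3953) F8567
theorem F12254 : act 4 n3953 = n3953 := d22_1 D3953 (iv D3953) F8568
theorem F12255 : act 7 n3953 = n2785 := d26_2 (iv F8569) D3953 (iv D2785)
theorem F12256 : act 6 n3953 = n3953 := d29_4 D1273 D1892 D2779 D3953 (iv D3953) (iv D2779) (iv D1892) (iv D1273) (iv D856) (iv D575) (iv D361) (iv D196) (iv D106) (iv D56) D55 D104 D192 F1427 F649 F1427 (iv D192) (iv D104) (iv D55) D56 D106 D196 D361 D575 D856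
def n3954 : Q := act 6 n2779
theorem D3954 : act 6 n2779 = n3954 := rfl
theorem F12257 : act 1 n3954 = n2780 := d11_1 D3954 (iv D2780) D2779
theorem F12258 : act 2 n3954 = n3954 := d16_1 D3954 (iv D3954) F8567
theorem F12259 : act 4 n3954 = n3954 := d23_1 D3954 (iv D3954) F8568
theorem F12260 : act 5 n3954 = n3954 := d25_1 D3954 (iv D3954) D3953 F12256 (iv D3953)
theorem F12261 : act 7 n3954 = n3907 := d27_2 (iv F8569) D3954 (iv D3907) F8592 (iv D2786)
def n3955 : Q := act 1 n2781
theorem D3955 : act 1 n2781 = n3955 := rfl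
theorem F12262 : act 2 n3955 = n3955 := d7_2 F10917 D3955 (iv D3955) (iv F10917) F10916
theorem F12263 : act 3 n3955 = n2783 := d8_2 (iv F8572) D3955 (iv D2783)
theorem F12264 : act 4 n3955 = n3955 := d9_2 F8573 D3955 (iv D3955)
theorem F12265 : act 5 n3955 = n3955 := d10_2 D2781 D3955 (iv D3955) (iv D2781) F5898
theorem F12266 : act 6 n3955 = n3955 := d11_2 F8574 D3955 (iv D3955)
theorem F12267 : act 7 n3955 = n3827 := d12_2 (iv F10894) D3955 F11835
def n3956 : Q := act 0 n2783
theorem D3956 : act 0 n2783 = n3956 := rfl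
theorem F12268 : act 5 n3956 = n3956 := d4_2 F8578 D3956 (iv D3956)
theorem F12269 : act 6 n3956 = n3956 := d5_2 F8579 D3956 (iv D3956)
def n3957 : Q := act 2 n2783
theorem D3957 : act 2 n2783 = n3957 := rfl
theorem F12270 : act 3 n3957 = n3957 := d13_2 F12263 D3957 (iv D3957) (iv F12263) F12262
theorem F12271 : act 5 n3957 = n3957 := d15_2 F8578 D3957 (iv D3957)
theorem F12272 : act 6 n3957 = n3957 := d16_2 F8579 D3957 (iv D3957)
def n3958 : Q := act 5 n2784
theorem D3958 : act 5 n2784 = n3958 := rfl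
theorem F12273 : act 0 n3958 = n2785 := d4_1 D3958 (iv D2785) D2784
theorem F12274 : act 2 n3958 = n3958 := d15_1 D3958 (iv D3958) F8580
theorem F12275 : act 3 n3958 = n2788 := d19_1 D3958 (iv D2788) (iv F8581)
theorem F12276 : act 4 n3958 = n3958 := d22_1 D3958 (iv D3958) F8582
def n3959 : Q := act 6 n2784
theorem D3959 : act 6 n2784 = n3959 := rfl
theorem F12277 : act 0 n3959 = n2786 := d5_1 D3959 (iv D2786) D2784
theorem F12278 : act 2 n3959 = n3959 := d16_1 D3959 (iv D3959) F8580
theorem F12279 : act 3 n3959 = n2789 := d20_1 D3959 (iv D2789) (iv F8581)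
theorem F12280 : act 4 n3959 = n3959 := d23_1 D3959 (iv D3959) F8582
theorem F12281 : act 5 n3901 = n3959 := d4_0 F12277 (iv F8591) (iv F12076)
theorem F12282 : act 7 n3900 = n3959 := d6_0 F12277 (iv F8592) (iv F12072)
def n3960 : Q := act 6 n2785
theorem D3960 : act 6 n2785 = n3960 := rfl
theorem F12283 : act 1 n3960 = n3960 := d11_1 D3960 (iv D3960) F8583
theorem F12284 : act 2 n3960 = n3960 := d16_1 D3960 (iv D3960) F8584
theorem F12285 : act 3 n3960 = n2791 := d20_1 D3960 (iv D2791) (iv F8585)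
theorem F12286 : act 4 n3960 = n3960 := d23_1 D3960 (iv D3960) F8586
theorem F12287 : act 5 n3960 = n3908 := d25_1 D3960 (iv D3908) F8591 (iv D2786) D2785
theorem F12288 : act 7 n3960 = n3960 := d27_2 F12255 D3960 (iv D3960) (iv F12255) F12256
def n3961 : Q := act 5 n2787
theorem D3961 : act 5 n2787 = n3961 := rfl
theorem F12289 : act 0 n3961 = n2790 := d4_1 D3961 (iv D2790) (iv F8593)
theorem F12290 : act 2 n3961 = n2797 := d15_1 D3961 (iv D2797) (iv F8594)
theorem F12291 : act 3 n3961 = n3961 := d19_1 D3961 (iv D3961) F8595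
theorem F12292 : act 4 n3961 = n2788 := d22_1 D3961 (iv D2788) D2787
def n3962 : Q := act 1 n2788
theorem D3962 : act 1 n2788 = n3962 := rfl
theorem F12293 : act 0 n3962 = n3962 := d0_1 D3962 (iv D3962) F8597 F5924 (iv F8597)
def n3963 : Q := act 6 n2788
theorem D3963 : act 6 n2788 = n3963 := rfl
theorem F12294 : act 0 n3963 = n2791 := d5_1 D3963 (iv D2791) (iv F8597)
theorem F12295 : act 2 n3963 = n2799 := d16_1 D3963 (iv D2799) (iv F8598)
def n3964 : Q := act 5 n2789
theorem D3964 : act 5 n2789 = n3964 := rfl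
theorem F12296 : act 0 n3964 = n2792 := d4_1 D3964 (iv D2792) (iv F8599)
theorem F12297 : act 2 n3964 = n2800 := d15_1 D3964 (iv D2800) (iv F8600)
theorem F12298 : act 3 n3964 = n3901 := d19_1 D3964 F12281 F12279
theorem F12299 : act 4 n3964 = n3440 := d22_1 D3964 (iv D3440) (iv F8601)
theorem F12300 : act 7 n3682 = n3964 := d24_0 F12299 F10562 (iv F11366)
def n3965 : Q := act 7 n2789
theorem D3965 : act 7 n2789 = n3965 := rfl
theorem F12301 : act 0 n3965 = n2793 := d6_1 D3965 (iv D2793) (iv F8599)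
theorem F12302 : act 2 n3965 = n2801 := d17_1 D3965 (iv D2801) (iv F8600)
theorem F12303 : act 3 n3965 = n3683 := d21_1 D3965 F11370 (iv F12074) F12282 F12279
theorem F12304 : act 4 n3965 = n3434 := d24_1 D3965 F10549 (iv F8601)
theorem F12305 : act 5 n3965 = n3682 := d26_1 D3965 F12300 (iv D3964)
def n3966 : Q := act 6 n2790
theorem D3966 : act 6 n2790 = n3966 := rfl
theorem F12306 : act 1 n3966 = n3966 := d11_1 D3966 (iv D3966) F8602
theorem F12307 : act 2 n3966 = n2802 := d16_1 D3966 (iv D2802) (iv F8603)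
theorem F12308 : act 3 n3966 = n3966 := d20_1 D3966 (iv D3966) F8604
theorem F12309 : act 4 n3966 = n2791 := d23_1 D3966 (iv D2791) (iv F8605)
theorem F12310 : act 5 n3966 = n3441 := d25_1 D3966 (iv D3441) (iv D2399) F5923 D2790
def n3967 : Q := act 5 n2791
theorem D3967 : act 5 n2791 = n3967 := rfl
theorem F12311 : act 2 n3967 = n2803 := d15_1 D3967 (iv D2803) (iv F8607)
theorem F12312 : act 3 n3967 = n3908 := d19_1 D3967 (iv F12287) F12285
theorem F12313 : act 4 n3967 = n3441 := d22_1 D3967 (iv F12310) F12309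
theorem F12314 : act 6 n3967 = n2792 := d25_2 D2791 D3967 (iv D2792) (iv D1903) D1902
theorem F12315 : act 1 n3967 = n3687 := d30_2 D2791 D3967 F11378 F11379 F8466 (iv D2749) F5817 (iv F7642) F7643 F5908 (iv F5778) F5777 F4114 F2864 F1970 (iv F2560) D1158 F3670 (iv F4149) F4146 (iv F5815) (iv F7968) (iv D2585) F5501 (iv F7801) (iv F11078) (iv F11511) F11512 F8065
def n3968 : Q := act 7 n2791
theorem D3968 : act 7 n2791 = n3968 := rfl
theorem F12316 : act 1 n3968 = n3968 := d12_1 D3968 (iv D3968) F8606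
theorem F12317 : act 2 n3968 = n2804 := d17_1 D3968 (iv D2804) (iv F8607)
theorem F12318 : act 3 n3968 = n3968 := d21_1 D3968 (iv D3968) (iv F12285) F12288 F12285
def n3969 : Q := act 6 n2794
theorem D3969 : act 6 n2794 = n3969 := rfl
theorem F12319 : act 1 n3969 = n3681 := d11_1 D3969 (iv D3681) (iv F8618)
theorem F12320 : act 2 n3969 = n2796 := d16_1 D3969 (iv D2796) (iv F8619)
theorem F12321 : act 3 n3969 = n3679 := d20_1 D3969 (iv D3679) (iv F8620)
theorem F12322 : act 4 n3969 = n3431 := d23_1 D3969 (iv D3431) (iv F8621)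
theorem F12323 : act 7 n3969 = n3969 := d27_2 D2794 D3969 (iv D3969) (iv D2794) F5931
def n3970 : Q := act 1 n2797
theorem D3970 : act 1 n2797 = n3970 := rfl
theorem F12324 : act 0 n3970 = n2810 := d0_1 D3970 (iv D2810) F5965 (iv F5947) (iv F8630)
theorem F12325 : act 3 n3970 = n3464 := d8_2 (iv F8631) D3970 (iv D3464)
theorem F12326 : act 4 n3970 = n2798 := d9_2 (iv F8632) D3970 (iv D2798)
theorem F12327 : act 5 n3970 = n3163 := d10_2 D2797 D3970 (iv D3163) (iv D2186) (iv F5938)
def n3971 : Q := act 6 n2797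
theorem D3971 : act 6 n2797 = n3971 := rfl
theorem F12328 : act 0 n3971 = n2802 := d5_1 D3971 (iv D2802) (iv F8630)
theorem F12329 : act 3 n3971 = n3462 := d20_1 D3971 F10646 (iv F8631)
theorem F12330 : act 4 n3971 = n2799 := d23_1 D3971 (iv D2799) (iv F8632)
theorem F12331 : act 5 n3971 = n3458 := d25_1 D3971 (iv D3458) (iv D2411) F5940 D2797
def n3972 : Q := act 2 n2798
theorem D3972 : act 2 n2798 = n3972 := rfl
theorem F12332 : act 0 n3972 = n2812 := d1_1 D3972 (iv D2812) (iv F8633)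
theorem F12333 : act 5 n3972 = n3165 := d15_2 (iv F8635) D3972 (iv D3165)
def n3973 : Q := act 6 n2798
theorem D3973 : act 6 n2798 = n3973 := rfl
theorem F12334 : act 0 n3973 = n2813 := d5_1 D3973 (iv D2813) (iv F8633)
theorem F12335 : act 1 n3973 = n2799 := d11_1 D3973 (iv D2799) D2798
theorem F12336 : act 3 n3973 = n3973 := d20_1 D3973 (iv D3973) F8634
def n3974 : Q := act 5 n2799
theorem D3974 : act 5 n2799 = n3974 := rfl
theorem F12337 : act 0 n3974 = n2803 := d4_1 D3974 (iv D2803) (iv F8636)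
theorem F12338 : act 3 n3974 = n3974 := d19_1 D3974 (iv D3974) F8637
theorem F12339 : act 4 n3974 = n3458 := d22_1 D3974 (iv F12331) F12330
theorem F12340 : act 6 n3974 = n2800 := d25_2 D2799 D3974 (iv D2800) (iv D1909) D1908
def n3975 : Q := act 7 n2799
theorem D3975 : act 7 n2799 = n3975 := rfl
theorem F12341 : act 0 n3975 = n2804 := d6_1 D3975 (iv D2804) (iv F8636)
def n3976 : Q := act 1 n2800
theorem D3976 : act 1 n2800 = n3976 := rfl
theorem F12342 : act 0 n3976 = n3976 := d0_1 D3976 (iv D3976) F8638 F5952 (iv F8638)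
theorem F12343 : act 3 n3976 = n3976 := d8_2 F8639 D3976 (iv D3976)
theorem F12344 : act 4 n3976 = n3457 := d9_2 (iv F8640) D3976 (iv D3457)
theorem F12345 : act 5 n3976 = n3169 := d10_2 D2800 D3976 (iv D3169) (iv D2189) (iv F5944)
theorem F12346 : act 7 n3221 = n3976 := d26_0 F12345 F9773 D3221
def n3977 : Q := act 7 n2800
theorem D3977 : act 7 n2800 = n3977 := rfl
theorem F12347 : act 0 n3977 = n2805 := d6_1 D3977 (iv D2805) (iv F8638)
theorem F12348 : act 1 n3977 = n3221 := d12_1 D3977 F12346 (iv D3976)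
theorem F12349 : act 2 n3977 = n3682 := d17_1 D3977 F12300 F12297
theorem F12350 : act 4 n3977 = n3449 := d24_1 D3977 F10595 (iv F8640)
theorem F12351 : act 5 n3977 = n2801 := d26_1 D3977 (iv D2801) D2800
theorem F12352 : act 3 n3222 = n3977 := d19_3 F12351 (iv F8644) (iv F9940)
theorem F12353 : act 6 n3564 = n3977 := d25_0 F12351 (iv F11610) F11609 (iv D3580) (iv F10974)
def n3978 : Q := act 7 n2802
theorem D3978 : act 7 n2802 = n3978 := rfl
theorem F12354 : act 1 n3978 = n2820 := d12_1 D3978 (iv D2820) (iv F8645)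
theorem F12355 : act 4 n3978 = n2804 := d24_1 D3978 (iv D2804) (iv F8647)
theorem F12356 : act 5 n3978 = n3459 := d26_1 D3978 (iv D3459) (iv F8648)
def n3979 : Q := act 7 n2803
theorem D3979 : act 7 n2803 = n3979 := rfl
theorem F12357 : act 1 n3979 = n3979 := d12_1 D3979 (iv D3979) F8649
theorem F12358 : act 4 n3979 = n3459 := d24_1 D3979 (iv D3459) (iv F8651)
theorem F12359 : act 5 n3979 = n2804 := d26_1 D3979 (iv D2804) D2803
theorem F12360 : act 6 n3979 = n3567 := d27_1 D3979 F10987 (iv F8658) (iv D2805) (iv F8652)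
theorem F12361 : act 3 n3568 = n3979 := d20_3 F12360 (iv D3567) D3568
def n3980 : Q := act 3 n2804
theorem D3980 : act 3 n2804 = n3980 := rfl
theorem F12362 : act 1 n3980 = n2821 := d8_1 D3980 (iv D2821) (iv F8653)
theorem F12363 : act 2 n3980 = n3980 := d13_1 D3980 (iv D3980) (iv F12317) F12318 F12317
theorem F12364 : act 5 n3980 = n3568 := d19_2 F12359 D3980 F12361
theorem F12365 : act 6 n3980 = n3591 := d20_2 F11634 D3980 F11635
theorem F12366 : act 7 n3980 = n3980 := d21_2 D2804 D3980 (iv D3980) (iv D2804) F5951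
def n3981 : Q := act 5 n2807
theorem D3981 : act 5 n2807 = n3981 := rfl
theorem F12367 : act 0 n3981 = n2815 := d4_1 D3981 (iv D2815) (iv F8677)
theorem F12368 : act 2 n3981 = n2808 := d15_1 D3981 (iv D2808) D2807
theorem F12369 : act 3 n3981 = n3981 := d19_1 D3981 (iv D3981) F8679
theorem F12370 : act 4 n3981 = n3981 := d22_1 D3981 (iv D3981) F8680
def n3982 : Q := act 7 n2807
theorem D3982 : act 7 n2807 = n3982 := rfl
theorem F12371 : act 0 n3982 = n2816 := d6_1 D3982 (iv D2816) (iv F8677)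
theorem F12372 : act 1 n3982 = n3982 := d12_1 D3982 (iv D3982) F8678
theorem F12373 : act 2 n3982 = n2809 := d17_1 D3982 (iv D2809) D2807
theorem F12374 : act 4 n3982 = n3982 := d24_1 D3982 (iv D3982) F8680
def n3983 : Q := act 1 n2808
theorem D3983 : act 1 n2808 = n3983 := rfl
theorem F12375 : act 0 n3983 = n3464 := d0_1 D3983 (iv D3464) F7432 (iv F5978) (iv F8682)
theorem F12376 : act 3 n3983 = n2810 := d8_2 (iv F8683) D3983 (iv D2810)
theorem F12377 : act 4 n3983 = n3983 := d9_2 F8684 D3983 (iv D3983)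
theorem F12378 : act 5 n3983 = n3171 := d10_2 D2808 D3983 (iv D3171) (iv D2194) (iv F5962)
def n3984 : Q := act 6 n2808
theorem D3984 : act 6 n2808 = n3984 := rfl
theorem F12379 : act 0 n3984 = n2817 := d5_1 D3984 (iv D2817) (iv F8682)
theorem F12380 : act 3 n3984 = n2811 := d20_1 D3984 (iv D2811) (iv F8683)
theorem F12381 : act 4 n3984 = n3984 := d23_1 D3984 (iv D3984) F8684
theorem F12382 : act 5 n3984 = n3984 := d25_1 D3984 (iv D3984) (iv D2808) F5964 D2808
def n3985 : Q := act 7 n2808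
theorem D3985 : act 7 n2808 = n3985 := rfl
theorem F12383 : act 0 n3985 = n2818 := d6_1 D3985 (iv D2818) (iv F8682)
theorem F12384 : act 4 n3985 = n3985 := d24_1 D3985 (iv D3985) F8684
theorem F12385 : act 5 n3985 = n2809 := d26_1 D3985 (iv D2809) D2808
def n3986 : Q := act 6 n2809
theorem D3986 : act 6 n2809 = n3986 := rfl
theorem F12386 : act 0 n3986 = n2819 := d5_1 D3986 (iv D2819) (iv F8685)
theorem F12387 : act 1 n3986 = n3174 := d11_1 D3986 (iv D3174) (iv F8686)
theorem F12388 : act 4 n3986 = n3986 := d23_1 D3986 (iv D3986) F8687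
theorem F12389 : act 7 n3986 = n3986 := d27_2 D2809 D3986 (iv D3986) (iv D2809) F5964
def n3987 : Q := act 2 n2810
theorem D3987 : act 2 n2810 = n3987 := rfl
theorem F12390 : act 1 n3987 = n3987 := d7_1 D3987 (iv D3987) (iv D2810) F5966 D2810
theorem F12391 : act 4 n3987 = n2812 := d14_2 (iv F8688) D3987 (iv D2812)
theorem F12392 : act 5 n3987 = n3175 := d15_2 (iv F8689) D3987 (iv D3175)
def n3988 : Q := act 6 n2810
theorem D3988 : act 6 n2810 = n3988 := rfl
theorem F12393 : act 1 n3988 = n2811 := d11_1 D3988 (iv D2811) D2810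
theorem F12394 : act 4 n3988 = n2813 := d23_1 D3988 (iv D2813) (iv F8688)
def n3989 : Q := act 7 n2811
theorem D3989 : act 7 n2811 = n3989 := rfl
theorem F12395 : act 0 n3989 = n2820 := d6_1 D3989 (iv D2820) (iv F8690)
theorem F12396 : act 2 n3989 = n3989 := d17_1 D3989 (iv D3989) F8691
theorem F12397 : act 4 n3989 = n2814 := d24_1 D3989 (iv D2814) (iv F8692)
theorem F12398 : act 5 n3989 = n3989 := d26_1 D3989 (iv D3989) F8693
def n3990 : Q := act 3 n2812
theorem D3990 : act 3 n2812 = n3990 := rfl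
theorem F12399 : act 1 n3990 = n3990 := d8_1 D3990 (iv D3990) F8694
theorem F12400 : act 2 n3990 = n3990 := d13_1 D3990 (iv D3990) (iv D2812) F5968 D2812
theorem F12401 : act 5 n3990 = n3178 := d19_2 (iv F8695) D3990 (iv D3178)
def n3991 : Q := act 6 n2812
theorem D3991 : act 6 n2812 = n3991 := rfl
theorem F12402 : act 1 n3991 = n3991 := d11_1 D3991 (iv D3991) F8694
theorem F12403 : act 2 n3991 = n2813 := d16_1 D3991 (iv D2813) D2812
def n3992 : Q := act 5 n2813
theorem D3992 : act 5 n2813 = n3992 := rfl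
theorem F12404 : act 1 n3992 = n3992 := d10_1 D3992 (iv D3992) F8696 F5973 (iv F8696)
theorem F12405 : act 3 n3992 = n3992 := d19_1 D3992 (iv D3992) F8697
theorem F12406 : act 6 n3992 = n3180 := d25_2 D2813 D3992 (iv D3180) (iv D2199) (iv F5969)
def n3993 : Q := act 7 n2813
theorem D3993 : act 7 n2813 = n3993 := rfl
theorem F12407 : act 1 n3993 = n2814 := d12_1 D3993 (iv D2814) (iv F8696)
def n3994 : Q := act 3 n2814
theorem D3994 : act 3 n2814 = n3994 := rfl
theorem F12408 : act 0 n3994 = n2821 := d2_1 D3994 (iv D2821) (iv F8698)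
theorem F12409 : act 5 n3994 = n3994 := d19_2 F8700 D3994 (iv D3994)
theorem F12410 : act 7 n3994 = n3994 := d21_2 D2814 D3994 (iv D3994) (iv D2814) F5972
def n3995 : Q := act 6 n2815
theorem D3995 : act 6 n2815 = n3995 := rfl
theorem F12411 : act 1 n3995 = n3995 := d11_1 D3995 (iv D3995) F8701
theorem F12412 : act 2 n3995 = n2817 := d16_1 D3995 (iv D2817) (iv F8702)
theorem F12413 : act 3 n3995 = n3995 := d20_1 D3995 (iv D3995) F8703
theorem F12414 : act 4 n3995 = n3995 := d23_1 D3995 (iv D3995) F8704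
theorem F12415 : act 5 n3995 = n3995 := d25_1 D3995 (iv D3995) (iv D2815) F5977 D2815
def n3996 : Q := act 7 n2815
theorem D3996 : act 7 n2815 = n3996 := rfl
theorem F12416 : act 1 n3996 = n3996 := d12_1 D3996 (iv D3996) F8701
theorem F12417 : act 2 n3996 = n2818 := d17_1 D3996 (iv D2818) (iv F8702)
theorem F12418 : act 4 n3996 = n3996 := d24_1 D3996 (iv D3996) F8704
theorem F12419 : act 5 n3996 = n2816 := d26_1 D3996 (iv D2816) D2815
def n3997 : Q := act 3 n2816
theorem D3997 : act 3 n2816 = n3997 := rfl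
theorem F12420 : act 1 n3997 = n2823 := d8_1 D3997 (iv D2823) (iv F8705)
theorem F12421 : act 7 n3997 = n3997 := d21_2 D2816 D3997 (iv D3997) (iv D2816) F5975
def n3998 : Q := act 6 n2816
theorem D3998 : act 6 n2816 = n3998 := rfl
theorem F12422 : act 1 n3998 = n2824 := d11_1 D3998 (iv D2824) (iv F8705)
theorem F12423 : act 2 n3998 = n2819 := d16_1 D3998 (iv D2819) (iv F8706)
theorem F12424 : act 4 n3998 = n3998 := d23_1 D3998 (iv D3998) F8707
theorem F12425 : act 7 n3998 = n3998 := d27_2 D2816 D3998 (iv D3998) (iv D2816) F5977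
def n3999 : Q := act 7 n2817
theorem D3999 : act 7 n2817 = n3999 := rfl
theorem F12426 : act 1 n3999 = n3467 := d12_1 D3999 (iv D3467) (iv F8708)
theorem F12427 : act 4 n3999 = n3999 := d24_1 D3999 (iv D3999) F8710
theorem F12428 : act 5 n3999 = n3999 := d26_1 D3999 (iv D3999) F8711
def n4000 : Q := act 6 n2818
theorem D4000 : act 6 n2818 = n4000 := rfl
theorem F12429 : act 1 n4000 = n3470 := d11_1 D4000 (iv D3470) (iv F8712)
theorem F12430 : act 4 n4000 = n4000 := d23_1 D4000 (iv D4000) F8713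
def n4001 : Q := act 5 n2819
theorem D4001 : act 5 n2819 = n4001 := rfl
theorem F12431 : act 1 n4001 = n4001 := d10_1 D4001 (iv D4001) F8715 F5991 (iv F8715)
theorem F12432 : act 4 n4001 = n4001 := d22_1 D4001 (iv D4001) F8716
theorem F12433 : act 7 n4001 = n4001 := d26_2 F8717 D4001 (iv D4001)
def n4002 : Q := act 3 n2820
theorem D4002 : act 3 n2820 = n4002 := rfl
theorem F12434 : act 5 n4002 = n4002 := d19_2 F8720 D4002 (iv D4002)
def n4003 : Q := act 2 n2821
theorem D4003 : act 2 n2821 = n4003 := rfl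
theorem F12435 : act 1 n4003 = n4003 := d7_1 D4003 (iv D4003) (iv F12362) F12363 F12362
theorem F12436 : act 3 n4003 = n4003 := d13_2 D2821 D4003 (iv D4003) (iv D2821) F5986
theorem F12437 : act 5 n4003 = n4003 := d15_2 F8721 D4003 (iv D4003)
theorem F12438 : act 7 n4003 = n4003 := d17_2 F8722 D4003 (iv D4003)
def n4004 : Q := act 4 n2821
theorem D4004 : act 4 n2821 = n4004 := rfl
theorem F12439 : act 5 n4004 = n4004 := d22_2 F8721 D4004 (iv D4004)
theorem F12440 : act 7 n4004 = n4004 := d24_2 F8722 D4004 (iv D4004)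
def n4005 : Q := act 4 n2823
theorem D4005 : act 4 n2823 = n4005 := rfl
theorem F12441 : act 0 n4005 = n4005 := d3_1 D4005 (iv D4005) F8729
theorem F12442 : act 2 n4005 = n4005 := d14_1 D4005 (iv D4005) F8730
theorem F12443 : act 3 n4005 = n4005 := d18_1 D4005 (iv D4005) (iv D2823) F6032 D2823
theorem F12444 : act 5 n4005 = n4005 := d22_2 F8731 D4005 (iv D4005)
theorem F12445 : act 7 n4005 = n4005 := d24_2 F8732 D4005 (iv D4005)
def n4006 : Q := act 6 n2823
theorem D4006 : act 6 n2823 = n4006 := rfl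
theorem F12446 : act 0 n4006 = n4006 := d5_1 D4006 (iv D4006) F8729
theorem F12447 : act 2 n4006 = n4006 := d16_1 D4006 (iv D4006) F8730
theorem F12448 : act 3 n4006 = n2824 := d20_1 D4006 (iv D2824) D2823
def n4007 : Q := act 5 n2824
theorem D4007 : act 5 n2824 = n4007 := rfl
theorem F12449 : act 0 n4007 = n4007 := d4_1 D4007 (iv D4007) F8733
theorem F12450 : act 2 n4007 = n2825 := d15_1 D4007 (iv D2825) (iv F8734)
theorem F12451 : act 4 n4007 = n4007 := d22_1 D4007 (iv D4007) F8735
theorem F12452 : act 6 n4007 = n4007 := d25_2 D2824 D4007 (iv D4007) (iv D2824) F6033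
theorem F12453 : act 7 n4007 = n4007 := d26_2 F8736 D4007 (iv D4007)
def n4008 : Q := act 4 n2826
theorem D4008 : act 4 n2826 = n4008 := rfl
theorem F12454 : act 0 n4008 = n2940 := d3_1 D4008 (iv D2940) (iv F8743)
theorem F12455 : act 1 n4008 = n4008 := d9_1 D4008 (iv D4008) F8744
theorem F12456 : act 2 n4008 = n2827 := d14_1 D4008 (iv D2827) D2826
def n4009 : Q := act 5 n2826
theorem D4009 : act 5 n2826 = n4009 := rfl
theorem F12457 : act 0 n4009 = n2941 := d4_1 D4009 (iv D2941) (iv F8743)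
theorem F12458 : act 2 n4009 = n2828 := d15_1 D4009 (iv D2828) D2826
def n4010 : Q := act 7 n2826
theorem D4010 : act 7 n2826 = n4010 := rfl
theorem F12459 : act 0 n4010 = n2942 := d6_1 D4010 (iv D2942) (iv F8743)
theorem F12460 : act 1 n4010 = n4010 := d12_1 D4010 (iv D4010) F8744
theorem F12461 : act 2 n4010 = n2829 := d17_1 D4010 (iv D2829) D2826
def n4011 : Q := act 5 n2827
theorem D4011 : act 5 n2827 = n4011 := rfl
theorem F12462 : act 0 n4011 = n2943 := d4_1 D4011 (iv D2943) (iv F8745)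
theorem F12463 : act 1 n4011 = n4011 := d10_1 D4011 (iv D4011) F8746 F6050 (iv F8746)
theorem F12464 : act 3 n4011 = n4011 := d19_1 D4011 (iv D4011) F8747
theorem F12465 : act 4 n4011 = n2828 := d22_1 D4011 (iv D2828) D2827
def n4012 : Q := act 7 n2827
theorem D4012 : act 7 n2827 = n4012 := rfl
theorem F12466 : act 0 n4012 = n2944 := d6_1 D4012 (iv D2944) (iv F8745)
theorem F12467 : act 1 n4012 = n2834 := d12_1 D4012 (iv D2834) (iv F8746)
theorem F12468 : act 4 n4012 = n2829 := d24_1 D4012 (iv D2829) D2827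
def n4013 : Q := act 6 n2828
theorem D4013 : act 6 n2828 = n4013 := rfl
theorem F12469 : act 0 n4013 = n2945 := d5_1 D4013 (iv D2945) (iv F8748)
theorem F12470 : act 1 n4013 = n4013 := d11_1 D4013 (iv D4013) F8749
theorem F12471 : act 3 n4013 = n2830 := d20_1 D4013 (iv D2830) (iv F8750)
def n4014 : Q := act 7 n2828
theorem D4014 : act 7 n2828 = n4014 := rfl
theorem F12472 : act 0 n4014 = n2946 := d6_1 D4014 (iv D2946) (iv F8748)
theorem F12473 : act 1 n4014 = n4014 := d12_1 D4014 (iv D4014) F8749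
theorem F12474 : act 5 n4014 = n2829 := d26_1 D4014 (iv D2829) D2828
def n4015 : Q := act 3 n2829
theorem D4015 : act 3 n2829 = n4015 := rfl
theorem F12475 : act 0 n4015 = n2947 := d2_1 D4015 (iv D2947) (iv F8751)
theorem F12476 : act 1 n4015 = n2835 := d8_1 D4015 (iv D2835) (iv F8752)
theorem F12477 : act 7 n4015 = n2832 := d21_2 D2829 D4015 (iv D2832) (iv D1936) D1934
def n4016 : Q := act 6 n2829
theorem D4016 : act 6 n2829 = n4016 := rfl
theorem F12478 : act 0 n4016 = n2948 := d5_1 D4016 (iv D2948) (iv F8751)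
theorem F12479 : act 1 n4016 = n2836 := d11_1 D4016 (iv D2836) (iv F8752)
def n4017 : Q := act 3 n2831
theorem D4017 : act 3 n2831 = n4017 := rfl
theorem F12480 : act 0 n4017 = n2950 := d2_1 D4017 (iv D2950) (iv F8756)
theorem F12481 : act 1 n4017 = n4017 := d8_1 D4017 (iv D4017) F8757
theorem F12482 : act 5 n4017 = n2832 := d19_2 (iv F8759) D4017 (iv D2832)
theorem F12483 : act 6 n4017 = n3697 := d20_2 (iv F8837) D4017 (iv D3697)
def n4018 : Q := act 2 n2832
theorem D4018 : act 2 n2832 = n4018 := rfl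
theorem F12484 : act 0 n4018 = n2952 := d1_1 D4018 (iv D2952) (iv F8760)
def n4019 : Q := act 4 n2832
theorem D4019 : act 4 n2832 = n4019 := rfl
theorem F12485 : act 0 n4019 = n2953 := d3_1 D4019 (iv D2953) (iv F8760)
theorem F12486 : act 1 n4019 = n2838 := d9_1 D4019 (iv D2838) (iv F8761)
theorem F12487 : act 3 n4019 = n4019 := d18_1 D4019 (iv D4019) (iv D2832) F6046 D2832
def n4020 : Q := act 6 n2832
theorem D4020 : act 6 n2832 = n4020 := rfl
theorem F12488 : act 0 n4020 = n2954 := d5_1 D4020 (iv D2954) (iv F8760)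
theorem F12489 : act 1 n4020 = n2839 := d11_1 D4020 (iv D2839) (iv F8761)
theorem F12490 : act 3 n4020 = n2833 := d20_1 D4020 (iv D2833) D2832
theorem F12491 : act 5 n4020 = n3700 := d25_1 D4020 (iv D3700) (iv F11402) (iv F12483) F12482
def n4021 : Q := act 6 n2834
theorem D4021 : act 6 n2834 = n4021 := rfl
theorem F12492 : act 0 n4021 = n2848 := d5_1 D4021 (iv D2848) (iv F8765)
theorem F12493 : act 2 n4021 = n4021 := d16_1 D4021 (iv D4021) F8766
theorem F12494 : act 4 n4021 = n2836 := d23_1 D4021 (iv D2836) (iv F8767)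
def n4022 : Q := act 6 n2835
theorem D4022 : act 6 n2835 = n4022 := rfl
theorem F12495 : act 0 n4022 = n2849 := d5_1 D4022 (iv D2849) (iv F8769)
theorem F12496 : act 3 n4022 = n2836 := d20_1 D4022 (iv D2836) D2835
def n4023 : Q := act 5 n2836
theorem D4023 : act 5 n2836 = n4023 := rfl
theorem F12497 : act 0 n4023 = n2850 := d4_1 D4023 (iv D2850) (iv F8772)
theorem F12498 : act 2 n4023 = n4023 := d15_1 D4023 (iv D4023) F8773
theorem F12499 : act 6 n4023 = n4023 := d25_2 D2836 D4023 (iv D4023) (iv D2836) F6053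
def n4024 : Q := act 1 n2837
theorem D4024 : act 1 n2837 = n4024 := rfl
theorem F12500 : act 3 n4024 = n2841 := d8_2 (iv F8775) D4024 (iv D2841)
theorem F12501 : act 4 n4024 = n4015 := d9_2 F8777 D4024 F12476
theorem F12502 : act 7 n4024 = n4019 := d12_2 F8782 D4024 F12486
def n4025 : Q := act 6 n2837
theorem D4025 : act 6 n2837 = n4025 := rfl
theorem F12503 : act 0 n4025 = n2851 := d5_1 D4025 (iv D2851) (iv F8774)
theorem F12504 : act 2 n4025 = n2839 := d16_1 D4025 (iv D2839) D2837
theorem F12505 : act 3 n4025 = n2843 := d20_1 D4025 (iv D2843) (iv F8775)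
theorem F12506 : act 4 n4025 = n4022 := d23_1 D4025 (iv D4022) F8777
def n4026 : Q := act 6 n2838
theorem D4026 : act 6 n2838 = n4026 := rfl
theorem F12507 : act 0 n4026 = n2852 := d5_1 D4026 (iv D2852) (iv F8778)
theorem F12508 : act 2 n4026 = n4022 := d16_1 D4026 (iv D4022) (iv F8779)
theorem F12509 : act 3 n4026 = n4026 := d20_1 D4026 (iv D4026) F8780
theorem F12510 : act 4 n4026 = n2839 := d23_1 D4026 (iv D2839) D2838
theorem F12511 : act 5 n3479 = n4026 := d4_0 F12507 F8821 D3479
def n4027 : Q := act 5 n2839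
theorem D4027 : act 5 n2839 = n4027 := rfl
theorem F12512 : act 0 n4027 = n2853 := d4_1 D4027 (iv D2853) (iv F8783)
theorem F12513 : act 1 n4027 = n3711 := d10_1 D4027 (iv D3711) (iv F11406) (iv F12491) F12489
theorem F12514 : act 3 n4027 = n2840 := d19_1 D4027 (iv D2840) (iv F8784)
theorem F12515 : act 4 n4027 = n3479 := d22_1 D4027 F12511 F12510
theorem F12516 : act 6 n4027 = n4027 := d25_2 D2839 D4027 (iv D4027) (iv D2839) F6055
theorem F12517 : act 7 n3012 = n4027 := d12_0 F12513 (iv F11653) F11649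
def n4028 : Q := act 7 n2839
theorem D4028 : act 7 n2839 = n4028 := rfl
theorem F12518 : act 0 n4028 = n2854 := d6_1 D4028 (iv D2854) (iv F8783)
theorem F12519 : act 5 n4028 = n3012 := d26_1 D4028 F12517 (iv D4027)
def n4029 : Q := act 0 n2841
theorem D4029 : act 0 n2841 = n4029 := rfl
theorem F12520 : act 1 n4029 = n2856 := d0_2 D2841 D4029 (iv D2856) (iv D1952) (iv F6059)
theorem F12521 : act 7 n4029 = n4029 := d6_2 F8789 D4029 (iv D4029)
def n4030 : Q := act 4 n2841
theorem D4030 : act 4 n2841 = n4030 := rfl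
theorem F12522 : act 1 n4030 = n2842 := d9_1 D4030 (iv D2842) D2841
theorem F12523 : act 2 n4030 = n3611 := d14_1 D4030 F11111 F11022
theorem F12524 : act 3 n4030 = n4012 := d18_1 D4030 F12468 D4015 (iv F12501) F12500
theorem F12525 : act 7 n4030 = n4030 := d24_2 F8789 D4030 (iv D4030)
def n4031 : Q := act 5 n2841
theorem D4031 : act 5 n2841 = n4031 := rfl
theorem F12526 : act 1 n4031 = n4031 := d10_1 D4031 (iv D4031) (iv D2841) F6060 D2841
theorem F12527 : act 7 n4031 = n4031 := d26_2 F8789 D4031 (iv D4031)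
def n4032 : Q := act 6 n2841
theorem D4032 : act 6 n2841 = n4032 := rfl
theorem F12528 : act 1 n4032 = n2843 := d11_1 D4032 (iv D2843) D2841
def n4033 : Q := act 6 n2842
theorem D4033 : act 6 n2842 = n4033 := rfl
theorem F12529 : act 0 n4033 = n2858 := d5_1 D4033 (iv D2858) (iv F8790)
theorem F12530 : act 2 n4033 = n2844 := d16_1 D4033 (iv D2844) (iv F8791)
theorem F12531 : act 3 n4033 = n4021 := d20_1 D4033 (iv D4021) (iv F8792)
theorem F12532 : act 4 n4033 = n2843 := d23_1 D4033 (iv D2843) D2842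
def n4034 : Q := act 5 n2843
theorem D4034 : act 5 n2843 = n4034 := rfl
theorem F12533 : act 0 n4034 = n2859 := d4_1 D4034 (iv D2859) (iv F8795)
theorem F12534 : act 2 n4034 = n2845 := d15_1 D4034 (iv D2845) (iv F8796)
theorem F12535 : act 6 n4034 = n4034 := d25_2 D2843 D4034 (iv D4034) (iv D2843) F6060
def n4035 : Q := act 7 n2843
theorem D4035 : act 7 n2843 = n4035 := rfl
theorem F12536 : act 0 n4035 = n2860 := d6_1 D4035 (iv D2860) (iv F8795)
theorem F12537 : act 2 n4035 = n2846 := d17_1 D4035 (iv D2846) (iv F8796)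
theorem F12538 : act 6 n4035 = n4035 := d27_1 D4035 (iv D4035) (iv D2843) F6061 D2843
def n4036 : Q := act 5 n2844
theorem D4036 : act 5 n2844 = n4036 := rfl
theorem F12539 : act 0 n4036 = n2861 := d4_1 D4036 (iv D2861) (iv F8797)
theorem F12540 : act 3 n4036 = n4036 := d19_1 D4036 (iv D4036) F8798
theorem F12541 : act 4 n4036 = n2845 := d22_1 D4036 (iv D2845) (iv F8799)
theorem F12542 : act 6 n4036 = n4036 := d25_2 D2844 D4036 (iv D4036) (iv D2844) F6064
def n4037 : Q := act 1 n2845
theorem D4037 : act 1 n2845 = n4037 := rfl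
theorem F12543 : act 3 n4037 = n2847 := d8_2 (iv F8801) D4037 (iv D2847)
theorem F12544 : act 6 n4037 = n4037 := d11_2 F8802 D4037 (iv D4037)
def n4038 : Q := act 7 n2845
theorem D4038 : act 7 n2845 = n4038 := rfl
theorem F12545 : act 0 n4038 = n2862 := d6_1 D4038 (iv D2862) (iv F8800)
theorem F12546 : act 3 n4038 = n3270 := d21_1 D4038 (iv D3270) F7044 F6362 (iv F8801)
theorem F12547 : act 5 n4038 = n2846 := d26_1 D4038 (iv D2846) D2845
theorem F12548 : act 6 n3396 = n4038 := d20_0 F12546 F10107 D3396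
def n4039 : Q := act 5 n2848
theorem D4039 : act 5 n2848 = n4039 := rfl
theorem F12549 : act 2 n4039 = n4039 := d15_1 D4039 (iv D4039) F8808
theorem F12550 : act 4 n4039 = n2850 := d22_1 D4039 (iv D2850) (iv F8809)
theorem F12551 : act 6 n4039 = n4039 := d25_2 D2848 D4039 (iv D4039) (iv D2848) F6074
def n4040 : Q := act 7 n2849
theorem D4040 : act 7 n2849 = n4040 := rfl
theorem F12552 : act 1 n4040 = n2986 := d12_1 D4040 (iv D2986) (iv F8810)
theorem F12553 : act 5 n4040 = n3033 := d26_1 D4040 (iv F10702) F10700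
theorem F12554 : act 6 n4040 = n2854 := d27_1 D4040 (iv D2854) (iv D1950) (iv F6077) D2849
def n4041 : Q := act 5 n2851
theorem D4041 : act 5 n2851 = n4041 := rfl
theorem F12555 : act 2 n4041 = n2853 := d15_1 D4041 (iv D2853) (iv F8814)
theorem F12556 : act 3 n4041 = n2859 := d19_1 D4041 (iv D2859) (iv F8815)
theorem F12557 : act 4 n4041 = n3480 := d22_1 D4041 F10700 (iv F8816)
theorem F12558 : act 6 n4041 = n4041 := d25_2 D2851 D4041 (iv D4041) (iv D2851) F6081
theorem F12559 : act 1 n4041 = n3017 := d29_6 (iv F6316) F6315 F6308 F6081 D2851 D4041 F9299 F6398 (iv D1957) F4235 (iv F4226) F4225 D1377 F4364 (iv D1036) F2312 F2313 (iv F2321) (iv F2405) F2404 (iv F3463) F3462 (iv F3176) (iv F3178) (iv F3165) D1472 F4634 F4635 (iv F4366)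
theorem F12560 : act 7 n3013 = n4041 := d12_0 F12559 (iv D3017) (iv F9289)
def n4042 : Q := act 7 n2851
theorem D4042 : act 7 n2851 = n4042 := rfl
theorem F12561 : act 2 n4042 = n2854 := d17_1 D4042 (iv D2854) (iv F8814)
theorem F12562 : act 4 n4042 = n4040 := d24_1 D4042 (iv D4040) (iv F8816)
theorem F12563 : act 5 n4042 = n3013 := d26_1 D4042 F12560 (iv D4041)
def n4043 : Q := act 7 n2852
theorem D4043 : act 7 n2852 = n4043 := rfl
theorem F12564 : act 1 n4043 = n2993 := d12_1 D4043 (iv D2993) (iv F8817)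
theorem F12565 : act 2 n4043 = n4040 := d17_1 D4043 (iv D4040) (iv F8818)
theorem F12566 : act 4 n4043 = n2854 := d24_1 D4043 (iv D2854) (iv F8820)
theorem F12567 : act 5 n4043 = n3011 := d26_1 D4043 F9286 (iv F8821)
theorem F12568 : act 6 n4043 = n4042 := d27_1 D4043 (iv D4042) (iv D2851) (iv F6087) D2852
def n4044 : Q := act 6 n2856
theorem D4044 : act 6 n2856 = n4044 := rfl
theorem F12569 : act 0 n4044 = n2857 := d5_1 D4044 (iv D2857) D2856
theorem F12570 : act 2 n4044 = n2865 := d16_1 D4044 (iv D2865) (iv F8839)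
def n4045 : Q := act 5 n2857
theorem D4045 : act 5 n2857 = n4045 := rfl
theorem F12571 : act 2 n4045 = n2868 := d15_1 D4045 (iv D2868) (iv F8842)
theorem F12572 : act 7 n2908 = n4045 := d17_0 F12571 (iv F8868) (iv F8979)
def n4046 : Q := act 7 n2857
theorem D4046 : act 7 n2857 = n4046 := rfl
theorem F12573 : act 1 n4046 = n2860 := d12_1 D4046 (iv D2860) (iv F8841)
theorem F12574 : act 2 n4046 = n2869 := d17_1 D4046 (iv D2869) (iv F8842)
theorem F12575 : act 5 n4046 = n2908 := d26_1 D4046 F12572 (iv D4045)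
theorem F12576 : act 6 n4046 = n4046 := d27_1 D4046 (iv D4046) (iv D2857) F6094 D2857
theorem F12577 : act 3 n4046 = n2916 := d29_10 D1539 F4841 F4840 (iv F6758) (iv F9227) (iv D2991) (iv F9216) F9217 F9202 D4046 F8999 F6201 (iv D1956) (iv D1327) F2926 F2925 D900 F2930 F2082 F1373 (iv D435) (iv F1369) F1370 D488 D734 F2397 (iv F3468) (iv D1087) (iv F3333)
def n4047 : Q := act 5 n2858
theorem D4047 : act 5 n2858 = n4047 := rfl
theorem F12578 : act 2 n4047 = n2861 := d15_1 D4047 (iv D2861) (iv F8843)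
theorem F12579 : act 3 n4047 = n4039 := d19_1 D4047 (iv D4039) (iv F8844)
theorem F12580 : act 4 n4047 = n2859 := d22_1 D4047 (iv D2859) (iv F8845)
theorem F12581 : act 6 n4047 = n4047 := d25_2 D2858 D4047 (iv D4047) (iv D2858) F6097
def n4048 : Q := act 1 n2859
theorem D4048 : act 1 n2859 = n4048 := rfl
theorem F12582 : act 3 n4048 = n3017 := d8_2 F12556 D4048 (iv F12559)
theorem F12583 : act 6 n4048 = n4048 := d11_2 F8847 D4048 (iv D4048)
def n4049 : Q := act 7 n2859
theorem D4049 : act 7 n2859 = n4049 := rfl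
theorem F12584 : act 2 n4049 = n2862 := d17_1 D4049 (iv D2862) (iv F8846)
theorem F12585 : act 5 n4049 = n2860 := d26_1 D4049 (iv D2860) D2859
theorem F12586 : act 6 n3406 = n4049 := d16_0 F12584 (iv F8855) D3406
def n4050 : Q := act 3 n2860
theorem D4050 : act 3 n2860 = n4050 := rfl
theorem F12587 : act 1 n4050 = n2916 := d8_1 D4050 (iv F12577) F12573
theorem F12588 : act 2 n4050 = n4048 := d13_1 D4050 F12582 F9299 F6398 (iv F8848)
theorem F12589 : act 6 n4050 = n4050 := d20_2 F8849 D4050 (iv D4050)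
def n4051 : Q := act 6 n2863
theorem D4051 : act 6 n2863 = n4051 := rfl
theorem F12590 : act 0 n4051 = n2866 := d5_1 D4051 (iv D2866) (iv F8856)
theorem F12591 : act 4 n4051 = n2865 := d23_1 D4051 (iv D2865) D2863
def n4052 : Q := act 1 n2864
theorem D4052 : act 1 n2864 = n4052 := rfl
theorem F12592 : act 0 n4052 = n2874 := d0_1 D4052 (iv D2874) F6127 (iv F6111) (iv F8858)
theorem F12593 : act 3 n4052 = n3006 := d8_2 (iv F8859) D4052 (iv D3006)
theorem F12594 : act 7 n4052 = n4052 := d12_2 F8860 D4052 (iv D4052)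
def n4053 : Q := act 6 n2864
theorem D4053 : act 6 n2864 = n4053 := rfl
theorem F12595 : act 0 n4053 = n2867 := d5_1 D4053 (iv D2867) (iv F8858)
theorem F12596 : act 3 n4053 = n3007 := d20_1 D4053 (iv D3007) (iv F8859)
def n4054 : Q := act 5 n2865
theorem D4054 : act 5 n2865 = n4054 := rfl
theorem F12597 : act 0 n4054 = n2868 := d4_1 D4054 (iv D2868) (iv F8861)
theorem F12598 : act 3 n4054 = n2967 := d19_1 D4054 F9151 (iv F8862)
theorem F12599 : act 7 n2892 = n4054 := d21_0 F12598 (iv D2967) F6274 (iv F6161) (iv F8936)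
def n4055 : Q := act 7 n2865
theorem D4055 : act 7 n2865 = n4055 := rfl
theorem F12600 : act 0 n4055 = n2869 := d6_1 D4055 (iv D2869) (iv F8861)
theorem F12601 : act 3 n4055 = n2893 := d21_1 D4055 F8941 (iv F9146) (iv F9149) (iv F8862)
theorem F12602 : act 5 n4055 = n2892 := d26_1 D4055 F12599 (iv D4054)
theorem F12603 : act 6 n4055 = n4055 := d27_1 D4055 (iv D4055) (iv D2865) F6108 D2865
def n4056 : Q := act 5 n2866
theorem D4056 : act 5 n2866 = n4056 := rfl
theorem F12604 : act 4 n4056 = n2868 := d22_1 D4056 (iv D2868) (iv F8864)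
theorem F12605 : act 7 n4056 = n2909 := d26_2 F10683 D4056 (iv F10681)
def n4057 : Q := act 5 n2867
theorem D4057 : act 5 n2867 = n4057 := rfl
theorem F12606 : act 3 n4057 = n2986 := d19_1 D4057 F9208 (iv F8866)
theorem F12607 : act 6 n4057 = n2868 := d25_2 D2867 D4057 (iv D2868) (iv D1961) D1960
theorem F12608 : act 7 n4057 = n2905 := d26_2 F10765 D4057 (iv F10763)
def n4058 : Q := act 1 n2873
theorem D4058 : act 1 n2873 = n4058 := rfl
theorem F12609 : act 4 n4058 = n2874 := d9_2 (iv F8886) D4058 (iv D2874)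
theorem F12610 : act 5 n4058 = n3581 := d10_2 D2873 D4058 (iv D3581) F7813 F7810
theorem F12611 : act 7 n4058 = n4058 := d12_2 F8887 D4058 (iv D4058)
theorem F12612 : act 2 n4031 = n4058 := d15_3 F12610 F11022 D4031
def n4059 : Q := act 6 n2873
theorem D4059 : act 6 n2873 = n4059 := rfl
theorem F12613 : act 0 n4059 = n2876 := d5_1 D4059 (iv D2876) (iv F8884)
theorem F12614 : act 2 n4059 = n4059 := d16_1 D4059 (iv D4059) F8885
theorem F12615 : act 4 n4059 = n2875 := d23_1 D4059 (iv D2875) (iv F8886)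
def n4060 : Q := act 2 n2874
theorem D4060 : act 2 n2874 = n4060 := rfl
theorem F12616 : act 1 n4060 = n4060 := d7_1 D4060 (iv D4060) (iv D2874) F6128 D2874
theorem F12617 : act 4 n4060 = n4031 := d14_2 F12609 D4060 F12612
theorem F12618 : act 5 n4060 = n4030 := d15_2 F11112 D4060 F12523
theorem F12619 : act 7 n4060 = n4060 := d17_2 F8889 D4060 (iv D4060)
def n4061 : Q := act 6 n2874
theorem D4061 : act 6 n2874 = n4061 := rfl
theorem F12620 : act 1 n4061 = n2875 := d11_1 D4061 (iv D2875) D2874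
theorem F12621 : act 3 n4061 = n3026 := d20_1 D4061 (iv D3026) (iv F8888)
def n4062 : Q := act 7 n2875
theorem D4062 : act 7 n2875 = n4062 := rfl
theorem F12622 : act 0 n4062 = n2877 := d6_1 D4062 (iv D2877) (iv F8890)
theorem F12623 : act 2 n4062 = n4062 := d17_1 D4062 (iv D4062) F8891
theorem F12624 : act 6 n4062 = n4062 := d27_1 D4062 (iv D4062) (iv D2875) F6130 D2875
def n4063 : Q := act 7 n2876
theorem D4063 : act 7 n2876 = n4063 := rfl
theorem F12625 : act 2 n4063 = n4063 := d17_1 D4063 (iv D4063) F8893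
theorem F12626 : act 4 n4063 = n2877 := d24_1 D4063 (iv D2877) (iv F8894)
theorem F12627 : act 6 n4063 = n4063 := d27_1 D4063 (iv D4063) (iv D2876) F6135 D2876
def n4064 : Q := act 4 n2879
theorem D4064 : act 4 n2879 = n4064 := rfl
theorem F12628 : act 1 n4064 = n3059 := d9_1 D4064 (iv D3059) (iv F8901)
theorem F12629 : act 2 n4064 = n2880 := d14_1 D4064 (iv D2880) D2879
theorem F12630 : act 6 n4064 = n2940 := d23_2 (iv F8902) D4064 (iv D2940)
def n4065 : Q := act 5 n2879
theorem D4065 : act 5 n2879 = n4065 := rfl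
theorem F12631 : act 2 n4065 = n2881 := d15_1 D4065 (iv D2881) D2879
def n4066 : Q := act 7 n2879
theorem D4066 : act 7 n2879 = n4066 := rfl
theorem F12632 : act 1 n4066 = n3061 := d12_1 D4066 (iv D3061) (iv F8901)
theorem F12633 : act 2 n4066 = n2882 := d17_1 D4066 (iv D2882) D2879
def n4067 : Q := act 5 n2880
theorem D4067 : act 5 n2880 = n4067 := rfl
theorem F12634 : act 1 n4067 = n4067 := d10_1 D4067 (iv D4067) F8903 F6151 (iv F8903)
theorem F12635 : act 3 n4067 = n4067 := d19_1 D4067 (iv D4067) F8904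
theorem F12636 : act 4 n4067 = n2881 := d22_1 D4067 (iv D2881) D2880
def n4068 : Q := act 7 n2880
theorem D4068 : act 7 n2880 = n4068 := rfl
theorem F12637 : act 1 n4068 = n2887 := d12_1 D4068 (iv D2887) (iv F8903)
theorem F12638 : act 4 n4068 = n2882 := d24_1 D4068 (iv D2882) D2880
def n4069 : Q := act 6 n2881
theorem D4069 : act 6 n2881 = n4069 := rfl
theorem F12639 : act 1 n4069 = n4069 := d11_1 D4069 (iv D4069) F8906
theorem F12640 : act 3 n4069 = n2883 := d20_1 D4069 (iv D2883) (iv F8907)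
theorem F12641 : act 5 n4069 = n2945 := d25_1 D4069 (iv D2945) (iv D2010) (iv F6143) D2881
def n4070 : Q := act 7 n2881
theorem D4070 : act 7 n2881 = n4070 := rfl
theorem F12642 : act 1 n4070 = n4070 := d12_1 D4070 (iv D4070) F8906
theorem F12643 : act 5 n4070 = n2882 := d26_1 D4070 (iv D2882) D2881
def n4071 : Q := act 3 n2882
theorem D4071 : act 3 n2882 = n4071 := rfl
theorem F12644 : act 1 n4071 = n2888 := d8_1 D4071 (iv D2888) (iv F8908)
theorem F12645 : act 7 n4071 = n2885 := d21_2 D2882 D4071 (iv D2885) (iv D1973) D1971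
def n4072 : Q := act 6 n2882
theorem D4072 : act 6 n2882 = n4072 := rfl
theorem F12646 : act 1 n4072 = n2889 := d11_1 D4072 (iv D2889) (iv F8908)
theorem F12647 : act 7 n4072 = n2948 := d27_2 D2882 D4072 (iv D2948) (iv D2011) (iv F6143)
def n4073 : Q := act 3 n2884
theorem D4073 : act 3 n2884 = n4073 := rfl
theorem F12648 : act 1 n4073 = n4073 := d8_1 D4073 (iv D4073) F8912
theorem F12649 : act 5 n4073 = n2885 := d19_2 (iv F8914) D4073 (iv D2885)
def n4074 : Q := act 2 n2885
theorem D4074 : act 2 n2885 = n4074 := rfl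
def n4075 : Q := act 4 n2885
theorem D4075 : act 4 n2885 = n4075 := rfl
theorem F12650 : act 1 n4075 = n2891 := d9_1 D4075 (iv D2891) (iv F8915)
theorem F12651 : act 3 n4075 = n4075 := d18_1 D4075 (iv D4075) (iv D2885) F6147 D2885
def n4076 : Q := act 6 n2885
theorem D4076 : act 6 n2885 = n4076 := rfl
theorem F12652 : act 1 n4076 = n2892 := d11_1 D4076 (iv D2892) (iv F8915)
theorem F12653 : act 3 n4076 = n2886 := d20_1 D4076 (iv D2886) D2885
def n4077 : Q := act 3 n2887
theorem D4077 : act 3 n2887 = n4077 := rfl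
theorem F12654 : act 0 n4077 = n2901 := d2_1 D4077 (iv D2901) (iv F8919)
theorem F12655 : act 2 n4077 = n4077 := d13_1 D4077 (iv D4077) F8920 F6516 (iv F8920)
theorem F12656 : act 5 n4077 = n4077 := d19_2 F8922 D4077 (iv D4077)
theorem F12657 : act 7 n4077 = n4077 := d21_2 D2887 D4077 (iv D4077) (iv D2887) F6150
def n4078 : Q := act 6 n2887
theorem D4078 : act 6 n2887 = n4078 := rfl
theorem F12658 : act 0 n4078 = n2902 := d5_1 D4078 (iv D2902) (iv F8919)
theorem F12659 : act 2 n4078 = n3068 := d16_1 D4078 (iv D3068) (iv F8920)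
theorem F12660 : act 4 n4078 = n2889 := d23_1 D4078 (iv D2889) (iv F8921)
theorem F12661 : act 7 n4078 = n2957 := d27_2 D2887 D4078 (iv D2957) (iv D2016) (iv F6152)
def n4079 : Q := act 2 n2888
theorem D4079 : act 2 n2888 = n4079 := rfl
theorem F12662 : act 0 n4079 = n2903 := d1_1 D4079 (iv D2903) (iv F8923)
theorem F12663 : act 3 n4079 = n3069 := d13_2 D2888 D4079 (iv D3069) (iv D2107) (iv F6154)
theorem F12664 : act 5 n4079 = n4079 := d15_2 F8924 D4079 (iv D4079)
theorem F12665 : act 7 n4079 = n2890 := d17_2 (iv F8925) D4079 (iv D2890)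
def n4080 : Q := act 4 n2888
theorem D4080 : act 4 n2888 = n4080 := rfl
theorem F12666 : act 0 n4080 = n2904 := d3_1 D4080 (iv D2904) (iv F8923)
theorem F12667 : act 5 n4080 = n4080 := d22_2 F8924 D4080 (iv D4080)
theorem F12668 : act 7 n4080 = n2891 := d24_2 (iv F8925) D4080 (iv D2891)
def n4081 : Q := act 6 n2888
theorem D4081 : act 6 n2888 = n4081 := rfl
theorem F12669 : act 0 n4081 = n2905 := d5_1 D4081 (iv D2905) (iv F8923)
theorem F12670 : act 3 n4081 = n2889 := d20_1 D4081 (iv D2889) D2888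
def n4082 : Q := act 1 n2890
theorem D4082 : act 1 n2890 = n4082 := rfl
theorem F12671 : act 3 n4082 = n2894 := d8_2 (iv F8930) D4082 (iv D2894)
def n4083 : Q := act 4 n2890
theorem D4083 : act 4 n2890 = n4083 := rfl
theorem F12672 : act 0 n4083 = n2907 := d3_1 D4083 (iv D2907) (iv F8929)
theorem F12673 : act 2 n4083 = n2891 := d14_1 D4083 (iv D2891) D2890
theorem F12674 : act 5 n4083 = n4083 := d22_2 F8931 D4083 (iv D4083)
def n4084 : Q := act 6 n2890
theorem D4084 : act 6 n2890 = n4084 := rfl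
theorem F12675 : act 0 n4084 = n2908 := d5_1 D4084 (iv D2908) (iv F8929)
theorem F12676 : act 2 n4084 = n2892 := d16_1 D4084 (iv D2892) D2890
theorem F12677 : act 3 n4084 = n2896 := d20_1 D4084 (iv D2896) (iv F8930)
def n4085 : Q := act 6 n2891
theorem D4085 : act 6 n2891 = n4085 := rfl
theorem F12678 : act 0 n4085 = n2909 := d5_1 D4085 (iv D2909) (iv F8932)
theorem F12679 : act 3 n4085 = n4085 := d20_1 D4085 (iv D4085) F8933
theorem F12680 : act 4 n4085 = n2892 := d23_1 D4085 (iv D2892) D2891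
def n4086 : Q := act 0 n2894
theorem D4086 : act 0 n2894 = n4086 := rfl
theorem F12681 : act 1 n4086 = n2910 := d0_2 D2894 D4086 (iv D2910) (iv D1989) (iv F6162)
theorem F12682 : act 7 n4086 = n3071 := d6_2 (iv F8942) D4086 (iv D3071)
def n4087 : Q := act 4 n2894
theorem D4087 : act 4 n2894 = n4087 := rfl
theorem F12683 : act 1 n4087 = n2895 := d9_1 D4087 (iv D2895) D2894
theorem F12684 : act 7 n4087 = n3072 := d24_2 (iv F8942) D4087 (iv D3072)
def n4088 : Q := act 5 n2894
theorem D4088 : act 5 n2894 = n4088 := rfl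
theorem F12685 : act 1 n4088 = n4088 := d10_1 D4088 (iv D4088) (iv D2894) F6163 D2894
theorem F12686 : act 7 n4088 = n3073 := d26_2 (iv F8942) D4088 (iv D3073)
def n4089 : Q := act 6 n2894
theorem D4089 : act 6 n2894 = n4089 := rfl
theorem F12687 : act 1 n4089 = n2896 := d11_1 D4089 (iv D2896) D2894
def n4090 : Q := act 3 n2895
theorem D4090 : act 3 n2895 = n4090 := rfl
theorem F12688 : act 0 n4090 = n2914 := d2_1 D4090 (iv D2914) (iv F8943)
theorem F12689 : act 2 n4090 = n4090 := d13_1 D4090 (iv D4090) F8944 F6166 (iv F8944)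
theorem F12690 : act 5 n4090 = n4090 := d19_2 F8945 D4090 (iv D4090)
theorem F12691 : act 7 n4090 = n4090 := d21_2 (iv F8946) D4090 (iv D4090) F8946 F6531
def n4091 : Q := act 6 n2895
theorem D4091 : act 6 n2895 = n4091 := rfl
theorem F12692 : act 0 n4091 = n2915 := d5_1 D4091 (iv D2915) (iv F8943)
theorem F12693 : act 2 n4091 = n2897 := d16_1 D4091 (iv D2897) (iv F8944)
theorem F12694 : act 4 n4091 = n2896 := d23_1 D4091 (iv D2896) D2895
theorem F12695 : act 7 n4091 = n3329 := d27_2 (iv F8946) D4091 (iv D3329) F7158 F6533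
def n4092 : Q := act 5 n2896
theorem D4092 : act 5 n2896 = n4092 := rfl
theorem F12696 : act 0 n4092 = n2916 := d4_1 D4092 (iv D2916) (iv F8947)
theorem F12697 : act 2 n4092 = n2898 := d15_1 D4092 (iv D2898) (iv F8948)
theorem F12698 : act 6 n4092 = n4092 := d25_2 D2896 D4092 (iv D4092) (iv D2896) F6163
def n4093 : Q := act 7 n2896
theorem D4093 : act 7 n2896 = n4093 := rfl
theorem F12699 : act 0 n4093 = n2917 := d6_1 D4093 (iv D2917) (iv F8947)
theorem F12700 : act 2 n4093 = n2899 := d17_1 D4093 (iv D2899) (iv F8948)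
theorem F12701 : act 4 n4093 = n3329 := d24_1 D4093 (iv F12695) F12694
theorem F12702 : act 6 n4093 = n3075 := d27_1 D4093 (iv D3075) (iv D2112) (iv F6164) D2896
def n4094 : Q := act 5 n2897
theorem D4094 : act 5 n2897 = n4094 := rfl
theorem F12703 : act 0 n4094 = n2918 := d4_1 D4094 (iv D2918) (iv F8949)
theorem F12704 : act 3 n4094 = n4094 := d19_1 D4094 (iv D4094) F8950
theorem F12705 : act 4 n4094 = n2898 := d22_1 D4094 (iv D2898) (iv F8951)
theorem F12706 : act 6 n4094 = n4094 := d25_2 D2897 D4094 (iv D4094) (iv D2897) F6167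
theorem F12707 : act 7 n4094 = n3330 := d26_2 (iv F8952) D4094 (iv D3330)
def n4095 : Q := act 1 n2898
theorem D4095 : act 1 n2898 = n4095 := rfl
theorem F12708 : act 0 n4095 = n4037 := d0_1 D4095 (iv D4037) F8800 (iv F6201) (iv F8953)
theorem F12709 : act 3 n4095 = n2900 := d8_2 (iv F8954) D4095 (iv D2900)
theorem F12710 : act 6 n4095 = n4095 := d11_2 F8955 D4095 (iv D4095)
def n4096 : Q := act 7 n2898
theorem D4096 : act 7 n2898 = n4096 := rfl
theorem F12711 : act 0 n4096 = n2919 := d6_1 D4096 (iv D2919) (iv F8953)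
theorem F12712 : act 3 n4096 = n2978 := d21_1 D4096 (iv D2978) F6291 (iv F6174) (iv F8954)
theorem F12713 : act 4 n4096 = n3330 := d24_1 D4096 (iv F12707) F12705
theorem F12714 : act 5 n4096 = n2899 := d26_1 D4096 (iv D2899) D2898
def n4097 : Q := act 4 n2901
theorem D4097 : act 4 n2901 = n4097 := rfl
theorem F12715 : act 2 n4097 = n4097 := d14_1 D4097 (iv D4097) F8964
theorem F12716 : act 3 n4097 = n2904 := d18_1 D4097 (iv D2904) (iv D1983) (iv F6176) D2901
theorem F12717 : act 5 n4097 = n4097 := d22_2 F8965 D4097 (iv D4097)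
theorem F12718 : act 7 n4097 = n4097 := d24_2 F8966 D4097 (iv D4097)
def n4098 : Q := act 6 n2901
theorem D4098 : act 6 n2901 = n4098 := rfl
theorem F12719 : act 2 n4098 = n4098 := d16_1 D4098 (iv D4098) F8964
theorem F12720 : act 3 n4098 = n2902 := d20_1 D4098 (iv D2902) D2901
def n4099 : Q := act 1 n2903
theorem D4099 : act 1 n2903 = n4099 := rfl
theorem F12721 : act 3 n4099 = n3078 := d8_2 (iv F8970) D4099 (iv D3078)
theorem F12722 : act 7 n4099 = n2906 := d12_2 (iv F8972) D4099 (iv D2906)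
def n4100 : Q := act 4 n2903
theorem D4100 : act 4 n2903 = n4100 := rfl
theorem F12723 : act 2 n4100 = n2904 := d14_1 D4100 (iv D2904) D2903
theorem F12724 : act 3 n4100 = n4100 := d18_1 D4100 (iv D4100) F8970 F6553 (iv F8970)
theorem F12725 : act 5 n4100 = n4100 := d22_2 F8971 D4100 (iv D4100)
theorem F12726 : act 7 n4100 = n2907 := d24_2 (iv F8972) D4100 (iv D2907)
def n4101 : Q := act 6 n2904
theorem D4101 : act 6 n2904 = n4101 := rfl
theorem F12727 : act 4 n4101 = n2905 := d23_1 D4101 (iv D2905) D2904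
def n4102 : Q := act 0 n2906
theorem D4102 : act 0 n2906 = n4102 := rfl
theorem F12728 : act 3 n4102 = n2910 := d2_2 (iv F8976) D4102 (iv D2910)
def n4103 : Q := act 4 n2906
theorem D4103 : act 4 n2906 = n4103 := rfl
theorem F12729 : act 1 n4103 = n2907 := d9_1 D4103 (iv D2907) D2906
def n4104 : Q := act 5 n2906
theorem D4104 : act 5 n2906 = n4104 := rfl
theorem F12730 : act 1 n4104 = n4104 := d10_1 D4104 (iv D4104) (iv D2906) F6183 D2906
theorem F12731 : act 2 n4104 = n3035 := d15_1 D4104 (iv F9369) F9368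
theorem F12732 : act 3 n4104 = n2912 := d19_1 D4104 (iv D2912) (iv F8976)
def n4105 : Q := act 6 n2906
theorem D4105 : act 6 n2906 = n4105 := rfl
theorem F12733 : act 1 n4105 = n2908 := d11_1 D4105 (iv D2908) D2906
theorem F12734 : act 3 n4105 = n2913 := d20_1 D4105 (iv D2913) (iv F8976)
def n4106 : Q := act 3 n2907
theorem D4106 : act 3 n2907 = n4106 := rfl
theorem F12735 : act 2 n4106 = n4106 := d13_1 D4106 (iv D4106) F8977 F6184 (iv F8977)
theorem F12736 : act 4 n4106 = n2914 := d18_2 D2907 D4106 (iv D2914) (iv D1990) (iv F6182)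
theorem F12737 : act 5 n4106 = n4106 := d19_2 F8978 D4106 (iv D4106)
theorem F12738 : act 7 n4106 = n4106 := d21_2 F12726 D4106 (iv D4106) (iv F12726) F12724
def n4107 : Q := act 6 n2907
theorem D4107 : act 6 n2907 = n4107 := rfl
theorem F12739 : act 2 n4107 = n2909 := d16_1 D4107 (iv D2909) (iv F8977)
theorem F12740 : act 4 n4107 = n2908 := d23_1 D4107 (iv D2908) D2907
def n4108 : Q := act 4 n2910
theorem D4108 : act 4 n2910 = n4108 := rfl
theorem F12741 : act 0 n4108 = n2911 := d3_1 D4108 (iv D2911) D2910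
theorem F12742 : act 2 n4108 = n2920 := d14_1 D4108 (iv D2920) (iv F8983)
theorem F12743 : act 7 n4108 = n3081 := d24_2 (iv F8984) D4108 (iv D3081)
def n4109 : Q := act 5 n2910
theorem D4109 : act 5 n2910 = n4109 := rfl
theorem F12744 : act 0 n4109 = n2912 := d4_1 D4109 (iv D2912) D2910
theorem F12745 : act 2 n4109 = n2921 := d15_1 D4109 (iv D2921) (iv F8983)
theorem F12746 : act 7 n4109 = n3082 := d26_2 (iv F8984) D4109 (iv D3082)
def n4110 : Q := act 6 n2910
theorem D4110 : act 6 n2910 = n4110 := rfl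
theorem F12747 : act 0 n4110 = n2913 := d5_1 D4110 (iv D2913) D2910
theorem F12748 : act 2 n4110 = n2922 := d16_1 D4110 (iv D2922) (iv F8983)
def n4111 : Q := act 3 n2911
theorem D4111 : act 3 n2911 = n4111 := rfl
theorem F12749 : act 1 n4111 = n2914 := d8_1 D4111 (iv D2914) (iv F8985)
theorem F12750 : act 7 n4111 = n4111 := d21_2 (iv F8987) D4111 (iv D4111) F8987 F6562
def n4112 : Q := act 5 n2911
theorem D4112 : act 5 n2911 = n4112 := rfl
theorem F12751 : act 1 n4112 = n4112 := d10_1 D4112 (iv D4112) F8985 F6194 (iv F8985)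
theorem F12752 : act 2 n4112 = n2924 := d15_1 D4112 (iv D2924) (iv F8986)
theorem F12753 : act 4 n4112 = n2912 := d22_1 D4112 (iv D2912) D2911
theorem F12754 : act 7 n4112 = n3084 := d26_2 (iv F8987) D4112 (iv D3084)
def n4113 : Q := act 6 n2911
theorem D4113 : act 6 n2911 = n4113 := rfl
theorem F12755 : act 1 n4113 = n2915 := d11_1 D4113 (iv D2915) (iv F8985)
theorem F12756 : act 2 n4113 = n2925 := d16_1 D4113 (iv D2925) (iv F8986)
theorem F12757 : act 4 n4113 = n2913 := d23_1 D4113 (iv D2913) D2911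
theorem F12758 : act 7 n4113 = n3359 := d27_2 (iv F8987) D4113 (iv D3359) F7216 F6563
def n4114 : Q := act 6 n2912
theorem D4114 : act 6 n2912 = n4114 := rfl
theorem F12759 : act 1 n4114 = n4114 := d11_1 D4114 (iv D4114) F8988
theorem F12760 : act 2 n4114 = n2926 := d16_1 D4114 (iv D2926) (iv F8989)
def n4115 : Q := act 5 n2913
theorem D4115 : act 5 n2913 = n4115 := rfl
theorem F12761 : act 2 n4115 = n2927 := d15_1 D4115 (iv D2927) (iv F8992)
theorem F12762 : act 7 n4115 = n3016 := d26_2 F9339 D4115 (iv F9338)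
def n4116 : Q := act 6 n2914
theorem D4116 : act 6 n2914 = n4116 := rfl
theorem F12763 : act 2 n4116 = n4116 := d16_1 D4116 (iv D4116) F8993
theorem F12764 : act 3 n4116 = n2915 := d20_1 D4116 (iv D2915) D2914
def n4117 : Q := act 5 n2915
theorem D4117 : act 5 n2915 = n4117 := rfl
theorem F12765 : act 2 n4117 = n2918 := d15_1 D4117 (iv D2918) (iv F8996)
theorem F12766 : act 4 n4117 = n2916 := d22_1 D4117 (iv D2916) (iv F8997)
theorem F12767 : act 6 n4117 = n4117 := d25_2 D2915 D4117 (iv D4117) (iv D2915) F6194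
theorem F12768 : act 7 n4117 = n3360 := d26_2 (iv F8998) D4117 (iv D3360)
def n4118 : Q := act 7 n2916
theorem D4118 : act 7 n2916 = n4118 := rfl
theorem F12769 : act 2 n4118 = n2919 := d17_1 D4118 (iv D2919) (iv F8999)
theorem F12770 : act 4 n4118 = n3360 := d24_1 D4118 (iv F12768) F12766
theorem F12771 : act 5 n4118 = n2917 := d26_1 D4118 (iv D2917) D2916
def n4119 : Q := act 3 n2920
theorem D4119 : act 3 n2920 = n4119 := rfl
theorem F12772 : act 0 n4119 = n2923 := d2_1 D4119 (iv D2923) (iv F9013)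
theorem F12773 : act 1 n4119 = n3946 := d8_1 D4119 F12225 F11349
theorem F12774 : act 7 n4119 = n3554 := d21_2 (iv F9014) D4119 (iv D3554) (iv D2485) F6582
def n4120 : Q := act 5 n2920
theorem D4120 : act 5 n2920 = n4120 := rfl
theorem F12775 : act 0 n4120 = n2924 := d4_1 D4120 (iv D2924) (iv F9013)
theorem F12776 : act 4 n4120 = n2921 := d22_1 D4120 (iv D2921) D2920
theorem F12777 : act 7 n4120 = n3087 := d26_2 (iv F9014) D4120 (iv D3087)
def n4121 : Q := act 6 n2920
theorem D4121 : act 6 n2920 = n4121 := rfl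
theorem F12778 : act 0 n4121 = n2925 := d5_1 D4121 (iv D2925) (iv F9013)
theorem F12779 : act 4 n4121 = n2922 := d23_1 D4121 (iv D2922) D2920
theorem F12780 : act 7 n4121 = n3473 := d27_2 (iv F9014) D4121 (iv D3473) F7457 F6583
def n4122 : Q := act 1 n2921
theorem D4122 : act 1 n2921 = n4122 := rfl
theorem F12781 : act 0 n4122 = n2933 := d0_1 D4122 (iv D2933) F6229 (iv F6211) (iv F9015)
theorem F12782 : act 7 n4122 = n3088 := d12_2 (iv F9016) D4122 (iv D3088)
def n4123 : Q := act 6 n2921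
theorem D4123 : act 6 n2921 = n4123 := rfl
theorem F12783 : act 0 n4123 = n2926 := d5_1 D4123 (iv D2926) (iv F9015)
def n4124 : Q := act 5 n2922
theorem D4124 : act 5 n2922 = n4124 := rfl
theorem F12784 : act 0 n4124 = n2927 := d4_1 D4124 (iv D2927) (iv F9017)
theorem F12785 : act 3 n4124 = n4028 := d19_1 D4124 F12519 F9287
theorem F12786 : act 7 n3019 = n4124 := d21_0 F12785 (iv D4028) F8784 (iv F6404) D3019
def n4125 : Q := act 7 n2922
theorem D4125 : act 7 n2922 = n4125 := rfl
theorem F12787 : act 0 n4125 = n2928 := d6_1 D4125 (iv D2928) (iv F9017)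
theorem F12788 : act 3 n4125 = n3002 := d21_1 D4125 F9260 (iv F12514) (iv F12517) F9287
theorem F12789 : act 4 n4125 = n3473 := d24_1 D4125 (iv F12780) F12779
theorem F12790 : act 5 n4125 = n3019 := d26_1 D4125 F12786 (iv D4124)
theorem F12791 : act 6 n4125 = n3091 := d27_1 D4125 (iv D3091) (iv D2127) (iv F6208) D2922
def n4126 : Q := act 2 n2923
theorem D4126 : act 2 n2923 = n4126 := rfl
theorem F12792 : act 1 n4126 = n4126 := d7_1 D4126 (iv D4126) F9018 F6214 (iv F9018)
theorem F12793 : act 4 n4126 = n4104 := d14_2 F9354 D4126 F12731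
theorem F12794 : act 7 n4126 = n3559 := d17_2 (iv F9019) D4126 (iv D3559)
theorem F12795 : act 5 n4103 = n4126 := d22_0 F12793 (iv D4104) D4103
def n4127 : Q := act 5 n2923
theorem D4127 : act 5 n2923 = n4127 := rfl
theorem F12796 : act 1 n4127 = n2935 := d10_1 D4127 (iv D2935) F6232 (iv F6215) (iv F9018)
theorem F12797 : act 2 n4127 = n4103 := d15_1 D4127 F12795 (iv D4126)
theorem F12798 : act 3 n4127 = n2924 := d19_1 D4127 (iv D2924) D2923
theorem F12799 : act 4 n4127 = n3039 := d22_1 D4127 F9369 F9354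
theorem F12800 : act 7 n4127 = n3557 := d26_2 (iv F9019) D4127 F10950
def n4128 : Q := act 6 n2923
theorem D4128 : act 6 n2923 = n4128 := rfl
theorem F12801 : act 1 n4128 = n2929 := d11_1 D4128 (iv D2929) (iv F9018)
theorem F12802 : act 3 n4128 = n2925 := d20_1 D4128 (iv D2925) D2923
theorem F12803 : act 7 n4128 = n4128 := d27_2 (iv F9019) D4128 (iv D4128) F9019 F7677
def n4129 : Q := act 6 n2924
theorem D4129 : act 6 n2924 = n4129 := rfl
theorem F12804 : act 1 n4129 = n2937 := d11_1 D4129 (iv D2937) (iv F9020)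
theorem F12805 : act 4 n4129 = n2926 := d23_1 D4129 (iv D2926) (iv F9021)
def n4130 : Q := act 5 n2925
theorem D4130 : act 5 n2925 = n4130 := rfl
theorem F12806 : act 1 n4130 = n4056 := d10_1 D4130 (iv D4056) F8863 (iv F6219) (iv F9023)
theorem F12807 : act 4 n4130 = n2927 := d22_1 D4130 (iv D2927) (iv F9024)
theorem F12808 : act 7 n4130 = n3020 := d26_2 (iv F9025) D4130 F9310
def n4131 : Q := act 5 n2926
theorem D4131 : act 5 n2926 = n4131 := rfl
theorem F12809 : act 1 n4131 = n4057 := d10_1 D4131 (iv D4057) F8865 (iv F6240) (iv F9026)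
theorem F12810 : act 3 n4131 = n4040 := d19_1 D4131 F12553 F9347
theorem F12811 : act 6 n4131 = n2927 := d25_2 D2926 D4131 (iv D2927) (iv D1998) D1997
theorem F12812 : act 7 n3048 = n4131 := d27_0 F12811 (iv F9029) F6406 D2092 D3048
def n4132 : Q := act 7 n2926
theorem D4132 : act 7 n2926 = n4132 := rfl
theorem F12813 : act 1 n4132 = n2938 := d12_1 D4132 (iv D2938) (iv F9026)
theorem F12814 : act 3 n4132 = n3058 := d21_1 D4132 F9427 (iv F10703) F10702 F9347
theorem F12815 : act 5 n4132 = n3048 := d26_1 D4132 F12812 (iv D4131)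
theorem F12816 : act 6 n4132 = n3094 := d27_1 D4132 (iv D3094) (iv D2129) (iv F6212) D2926
def n4133 : Q := act 5 n2931
theorem D4133 : act 5 n2931 = n4133 := rfl
theorem F12817 : act 0 n4133 = n2935 := d4_1 D4133 (iv D2935) (iv F9045)
theorem F12818 : act 2 n4133 = n3045 := d15_1 D4133 F9386 F9048
theorem F12819 : act 3 n4133 = n2932 := d19_1 D4133 (iv D2932) D2931
theorem F12820 : act 4 n4133 = n3041 := d22_1 D4133 F9374 (iv F9046)
def n4134 : Q := act 7 n2931
theorem D4134 : act 7 n2931 = n4134 := rfl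
theorem F12821 : act 0 n4134 = n2936 := d6_1 D4134 (iv D2936) (iv F9045)
theorem F12822 : act 1 n4134 = n3964 := d12_1 D4134 (iv F12300) F11365
theorem F12823 : act 2 n4134 = n3286 := d17_1 D4134 (iv D3286) F9048
theorem F12824 : act 3 n4134 = n3097 := d21_1 D4134 (iv D3097) (iv D2133) (iv F6228) D2931
theorem F12825 : act 4 n4134 = n3279 := d24_1 D4134 (iv D3279) (iv F9046)
def n4135 : Q := act 1 n2932
theorem D4135 : act 1 n2932 = n4135 := rfl
theorem F12826 : act 4 n4135 = n2933 := d9_2 (iv F9051) D4135 (iv D2933)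
theorem F12827 : act 7 n4135 = n3098 := d12_2 (iv F9052) D4135 (iv D3098)
def n4136 : Q := act 6 n2932
theorem D4136 : act 6 n2932 = n4136 := rfl
theorem F12828 : act 0 n4136 = n2937 := d5_1 D4136 (iv D2937) (iv F9049)
theorem F12829 : act 2 n4136 = n4136 := d16_1 D4136 (iv D4136) F9050
theorem F12830 : act 4 n4136 = n2934 := d23_1 D4136 (iv D2934) (iv F9051)
theorem F12831 : act 5 n4136 = n4059 := d25_1 D4136 (iv D4059) (iv D2873) (iv F6227) D2932
def n4137 : Q := act 2 n2933
theorem D4137 : act 2 n2933 = n4137 := rfl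
theorem F12832 : act 1 n4137 = n4137 := d7_1 D4137 (iv D4137) (iv D2933) F6230 D2933
theorem F12833 : act 7 n4137 = n3100 := d17_2 (iv F9053) D4137 (iv D3100)
def n4138 : Q := act 6 n2933
theorem D4138 : act 6 n2933 = n4138 := rfl
theorem F12834 : act 1 n4138 = n2934 := d11_1 D4138 (iv D2934) D2933
def n4139 : Q := act 7 n2934
theorem D4139 : act 7 n2934 = n4139 := rfl
theorem F12835 : act 0 n4139 = n2938 := d6_1 D4139 (iv D2938) (iv F9054)
theorem F12836 : act 2 n4139 = n4139 := d17_1 D4139 (iv D4139) F9055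
theorem F12837 : act 5 n4139 = n4062 := d26_1 D4139 (iv D4062) (iv F9056)
theorem F12838 : act 6 n4139 = n3102 := d27_1 D4139 (iv D3102) (iv D2136) (iv F6231) D2934
def n4140 : Q := act 6 n2935
theorem D4140 : act 6 n2935 = n4140 := rfl
theorem F12839 : act 2 n4140 = n3020 := d16_1 D4140 F9311 (iv F9057)
theorem F12840 : act 3 n4140 = n2937 := d20_1 D4140 (iv D2937) (iv F9058)
theorem F12841 : act 4 n4140 = n3016 := d23_1 D4140 F9298 (iv F9059)
theorem F12842 : act 5 n4140 = n3359 := d25_1 D4140 (iv D3359) F7215 (iv F6234) D2935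
def n4141 : Q := act 7 n2935
theorem D4141 : act 7 n2935 = n4141 := rfl
theorem F12843 : act 1 n4141 = n3557 := d12_1 D4141 (iv F12800) F12796
theorem F12844 : act 2 n4141 = n3047 := d17_1 D4141 (iv D3047) (iv F9057)
theorem F12845 : act 3 n4141 = n3106 := d21_1 D4141 (iv D3106) F6625 (iv F6238) (iv F9058)
theorem F12846 : act 4 n4141 = n3042 := d24_1 D4141 (iv D3042) (iv F9059)
theorem F12847 : act 5 n4141 = n2936 := d26_1 D4141 (iv D2936) D2935
def n4142 : Q := act 6 n2936
theorem D4142 : act 6 n2936 = n4142 := rfl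
theorem F12848 : act 1 n4142 = n2939 := d11_1 D4142 (iv D2939) (iv F9060)
theorem F12849 : act 2 n4142 = n3289 := d16_1 D4142 (iv D3289) (iv F9061)
theorem F12850 : act 3 n4142 = n3107 := d20_1 D4142 (iv D3107) (iv F9062)
theorem F12851 : act 4 n4142 = n3280 := d23_1 D4142 (iv D3280) (iv F9063)
theorem F12852 : act 7 n4142 = n3413 := d27_2 D2936 D4142 (iv D3413) F7339 (iv F6234)
def n4143 : Q := act 7 n2937
theorem D4143 : act 7 n2937 = n4143 := rfl
theorem F12853 : act 2 n4143 = n4143 := d17_1 D4143 (iv D4143) F9064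
theorem F12854 : act 4 n4143 = n2938 := d24_1 D4143 (iv D2938) (iv F9065)
theorem F12855 : act 5 n4143 = n4063 := d26_1 D4143 (iv D4063) (iv F9066)
theorem F12856 : act 6 n4143 = n3108 := d27_1 D4143 (iv D3108) (iv D2140) (iv F6238) D2937
def n4144 : Q := act 3 n2938
theorem D4144 : act 3 n2938 = n4144 := rfl
theorem F12857 : act 1 n4144 = n3058 := d8_1 D4144 (iv F12814) F12813
theorem F12858 : act 5 n4144 = n3514 := d19_2 (iv F9068) D4144 F10820
theorem F12859 : act 6 n4144 = n3109 := d20_2 (iv F9069) D4144 (iv D3109)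
theorem F12860 : act 7 n4144 = n3482 := d21_2 D2938 D4144 (iv D3482) F7486 F6426
theorem F12861 : act 2 n3486 = n4144 := d30_3 F7599 (iv F10721) F10719 (iv D4144) (iv D2938) (iv D2006) (iv D1358) (iv D914) (iv D619) (iv D409) (iv D221) (iv D118) (iv D62) F128 F79 (iv D19) F45 D20 D40 D76 D144 D267 D484 D728 D1081 D1596 D2340 D3367 (iv F10357)
def n4145 : Q := act 3 n2940
theorem D4145 : act 3 n2940 = n4145 := rfl
theorem F12862 : act 1 n4145 = n3060 := d8_1 D4145 F9433 (iv F9074)
theorem F12863 : act 2 n4145 = n4145 := d13_1 D4145 (iv D4145) F9075 F6246 (iv F9075)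
def n4146 : Q := act 5 n2940
theorem D4146 : act 5 n2940 = n4146 := rfl
theorem F12864 : act 2 n4146 = n2943 := d15_1 D4146 (iv D2943) (iv F9075)
theorem F12865 : act 4 n4146 = n2941 := d22_1 D4146 (iv D2941) D2940
def n4147 : Q := act 7 n2940
theorem D4147 : act 7 n2940 = n4147 := rfl
theorem F12866 : act 1 n4147 = n3110 := d12_1 D4147 (iv D3110) (iv F9074)
theorem F12867 : act 2 n4147 = n2944 := d17_1 D4147 (iv D2944) (iv F9075)
theorem F12868 : act 4 n4147 = n2942 := d24_1 D4147 (iv D2942) D2940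
def n4148 : Q := act 1 n2941
theorem D4148 : act 1 n2941 = n4148 := rfl
theorem F12869 : act 2 n4148 = n3195 := d7_2 (iv F9076) D4148 (iv D3195) F6852 (iv F6247)
theorem F12870 : act 5 n4148 = n3111 := d10_2 D2941 D4148 (iv D3111) (iv D2144) (iv F6244)
def n4149 : Q := act 6 n2941
theorem D4149 : act 6 n2941 = n4149 := rfl
theorem F12871 : act 2 n4149 = n2945 := d16_1 D4149 (iv D2945) (iv F9076)
def n4150 : Q := act 7 n2941
theorem D4150 : act 7 n2941 = n4150 := rfl
theorem F12872 : act 2 n4150 = n2946 := d17_1 D4150 (iv D2946) (iv F9076)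
theorem F12873 : act 5 n4150 = n2942 := d26_1 D4150 (iv D2942) D2941
def n4151 : Q := act 3 n2942
theorem D4151 : act 3 n2942 = n4151 := rfl
theorem F12874 : act 1 n4151 = n3113 := d8_1 D4151 (iv D3113) (iv F9077)
def n4152 : Q := act 6 n2942
theorem D4152 : act 6 n2942 = n4152 := rfl
theorem F12875 : act 1 n4152 = n3114 := d11_1 D4152 (iv D3114) (iv F9077)
theorem F12876 : act 2 n4152 = n2948 := d16_1 D4152 (iv D2948) (iv F9078)
def n4153 : Q := act 6 n2943
theorem D4153 : act 6 n2943 = n4153 := rfl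
theorem F12877 : act 1 n4153 = n3200 := d11_1 D4153 (iv D3200) (iv F9079)
theorem F12878 : act 3 n4153 = n4153 := d20_1 D4153 (iv D4153) F9080
theorem F12879 : act 4 n4153 = n2945 := d23_1 D4153 (iv D2945) (iv F9081)
def n4154 : Q := act 7 n2943
theorem D4154 : act 7 n2943 = n4154 := rfl
theorem F12880 : act 1 n4154 = n3201 := d12_1 D4154 (iv D3201) (iv F9079)
theorem F12881 : act 4 n4154 = n2946 := d24_1 D4154 (iv D2946) (iv F9081)
theorem F12882 : act 5 n4154 = n2944 := d26_1 D4154 (iv D2944) D2943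
def n4155 : Q := act 3 n2944
theorem D4155 : act 3 n2944 = n4155 := rfl
theorem F12883 : act 0 n4155 = n4030 := d2_1 D4155 F12524 F12466
theorem F12884 : act 1 n4155 = n2956 := d8_1 D4155 (iv D2956) (iv F9082)
theorem F12885 : act 7 n4155 = n4155 := d21_2 D2944 D4155 (iv D4155) (iv D2944) F6246
theorem F12886 : act 4 n4029 = n4155 := d9_0 F12884 (iv F9117) (iv F12520)
def n4156 : Q := act 6 n2944
theorem D4156 : act 6 n2944 = n4156 := rfl
theorem F12887 : act 1 n4156 = n2957 := d11_1 D4156 (iv D2957) (iv F9082)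
theorem F12888 : act 4 n4156 = n2948 := d23_1 D4156 (iv D2948) (iv F9083)
def n4157 : Q := act 7 n2945
theorem D4157 : act 7 n2945 = n4157 := rfl
theorem F12889 : act 1 n4157 = n3204 := d12_1 D4157 (iv D3204) (iv F9084)
def n4158 : Q := act 3 n2946
theorem D4158 : act 3 n2946 = n4158 := rfl
theorem F12890 : act 1 n4158 = n3205 := d8_1 D4158 (iv D3205) (iv F9086)
theorem F12891 : act 5 n4158 = n2947 := d19_2 (iv F9087) D4158 (iv D2947)
theorem F12892 : act 7 n4158 = n2950 := d21_2 D2946 D4158 (iv D2950) (iv D2013) (iv F6248)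
def n4159 : Q := act 6 n2946
theorem D4159 : act 6 n2946 = n4159 := rfl
theorem F12893 : act 1 n4159 = n3206 := d11_1 D4159 (iv D3206) (iv F9086)
def n4160 : Q := act 2 n2947
theorem D4160 : act 2 n2947 = n4160 := rfl
theorem F12894 : act 7 n4160 = n2952 := d17_2 (iv F9089) D4160 (iv D2952)
def n4161 : Q := act 4 n2947
theorem D4161 : act 4 n2947 = n4161 := rfl
theorem F12895 : act 0 n4161 = n4024 := d3_1 D4161 F12501 F12475
theorem F12896 : act 1 n4161 = n2959 := d9_1 D4161 (iv D2959) (iv F9088)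
theorem F12897 : act 3 n4161 = n4029 := d18_1 D4161 F12886 (iv D4155) F9083 D2947
theorem F12898 : act 7 n4161 = n2953 := d24_2 (iv F9089) D4161 (iv D2953)
def n4162 : Q := act 6 n2947
theorem D4162 : act 6 n2947 = n4162 := rfl
theorem F12899 : act 1 n4162 = n2960 := d11_1 D4162 (iv D2960) (iv F9088)
theorem F12900 : act 3 n4162 = n2948 := d20_1 D4162 (iv D2948) D2947
def n4163 : Q := act 5 n2948
theorem D4163 : act 5 n2948 = n4163 := rfl
def n4164 : Q := act 3 n2949
theorem D4164 : act 3 n2949 = n4164 := rfl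
theorem F12901 : act 0 n4164 = n3693 := d2_1 D4164 F11395 (iv F9091)
theorem F12902 : act 1 n4164 = n3211 := d8_1 D4164 (iv D3211) (iv F9092)
theorem F12903 : act 6 n4164 = n3572 := d20_2 F9095 D4164 F11004
def n4165 : Q := act 2 n2950
theorem D4165 : act 2 n2950 = n4165 := rfl
theorem F12904 : act 5 n4165 = n2952 := d15_2 (iv F9097) D4165 (iv D2952)
def n4166 : Q := act 4 n2950
theorem D4166 : act 4 n2950 = n4166 := rfl
theorem F12905 : act 1 n4166 = n3214 := d9_1 D4166 (iv D3214) (iv F9096)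
theorem F12906 : act 3 n4166 = n4166 := d18_1 D4166 (iv D4166) (iv D2950) F6253 D2950
theorem F12907 : act 5 n4166 = n2953 := d22_2 (iv F9097) D4166 (iv D2953)
def n4167 : Q := act 6 n2950
theorem D4167 : act 6 n2950 = n4167 := rfl
theorem F12908 : act 0 n4167 = n3697 := d5_1 D4167 (iv F12483) F12480
theorem F12909 : act 1 n4167 = n3215 := d11_1 D4167 (iv D3215) (iv F9096)
theorem F12910 : act 3 n4167 = n2951 := d20_1 D4167 (iv D2951) D2950
theorem F12911 : act 5 n3574 = n4167 := d19_0 F12910 (iv F9103) D3574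
def n4168 : Q := act 1 n2952
theorem D4168 : act 1 n2952 = n4168 := rfl
theorem F12912 : act 2 n4168 = n2962 := d7_2 D2952 D4168 (iv D2962) (iv D2019) (iv F6255)
def n4169 : Q := act 4 n2952
theorem D4169 : act 4 n2952 = n4169 := rfl
theorem F12913 : act 2 n4169 = n2953 := d14_1 D4169 (iv D2953) D2952
def n4170 : Q := act 6 n2952
theorem D4170 : act 6 n2952 = n4170 := rfl
theorem F12914 : act 2 n4170 = n2954 := d16_1 D4170 (iv D2954) D2952
def n4171 : Q := act 6 n2953
theorem D4171 : act 6 n2953 = n4171 := rfl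
theorem F12915 : act 1 n4171 = n2965 := d11_1 D4171 (iv D2965) (iv F9104)
theorem F12916 : act 3 n4171 = n4171 := d20_1 D4171 (iv D4171) F9105
theorem F12917 : act 4 n4171 = n2954 := d23_1 D4171 (iv D2954) D2953
def n4172 : Q := act 5 n2954
theorem D4172 : act 5 n2954 = n4172 := rfl
theorem F12918 : act 0 n4172 = n3700 := d4_1 D4172 (iv F12491) F12488
theorem F12919 : act 1 n4172 = n3580 := d10_1 D4172 (iv F11609) F11607 (iv D2966) (iv F9106)
theorem F12920 : act 3 n4172 = n2955 := d19_1 D4172 (iv D2955) (iv F9107)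
theorem F12921 : act 6 n4172 = n3574 := d25_2 D2954 D4172 F12911 (iv D4167) F9097
def n4173 : Q := act 7 n2954
theorem D4173 : act 7 n2954 = n4173 := rfl
theorem F12922 : act 1 n4173 = n2967 := d12_1 D4173 (iv D2967) (iv F9106)
def n4174 : Q := act 6 n2956
theorem D4174 : act 6 n2956 = n4174 := rfl
theorem F12923 : act 0 n4174 = n2981 := d5_1 D4174 (iv D2981) (iv F9113)
theorem F12924 : act 2 n4174 = n4051 := d16_1 D4174 (iv D4051) F9116
theorem F12925 : act 3 n4174 = n2957 := d20_1 D4174 (iv D2957) D2956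
theorem F12926 : act 4 n4174 = n4044 := d23_1 D4174 (iv D4044) F9117
def n4175 : Q := act 5 n2957
theorem D4175 : act 5 n2957 = n4175 := rfl
theorem F12927 : act 0 n4175 = n2982 := d4_1 D4175 (iv D2982) (iv F9118)
theorem F12928 : act 2 n4175 = n3129 := d15_1 D4175 (iv D3129) (iv F9119)
theorem F12929 : act 4 n4175 = n2961 := d22_1 D4175 (iv D2961) (iv F9120)
theorem F12930 : act 6 n4175 = n3226 := d25_2 D2957 D4175 (iv D3226) (iv D2227) (iv F6261)
def n4176 : Q := act 1 n2958
theorem D4176 : act 1 n2958 = n4176 := rfl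
theorem F12931 : act 3 n4176 = n3130 := d8_2 (iv F9122) D4176 (iv D3130)
theorem F12932 : act 7 n4176 = n2962 := d12_2 (iv F9124) D4176 (iv D2962)
def n4177 : Q := act 6 n2958
theorem D4177 : act 6 n2958 = n4177 := rfl
theorem F12933 : act 0 n4177 = n2983 := d5_1 D4177 (iv D2983) (iv F9121)
theorem F12934 : act 2 n4177 = n2960 := d16_1 D4177 (iv D2960) D2958
theorem F12935 : act 3 n4177 = n3132 := d20_1 D4177 (iv D3132) (iv F9122)
def n4178 : Q := act 6 n2959
theorem D4178 : act 6 n2959 = n4178 := rfl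
theorem F12936 : act 0 n4178 = n2984 := d5_1 D4178 (iv D2984) (iv F9125)
theorem F12937 : act 3 n4178 = n4044 := d20_1 D4178 (iv D4044) (iv F9126)
theorem F12938 : act 4 n4178 = n2960 := d23_1 D4178 (iv D2960) D2959
def n4179 : Q := act 5 n2960
theorem D4179 : act 5 n2960 = n4179 := rfl
theorem F12939 : act 0 n4179 = n2985 := d4_1 D4179 (iv D2985) (iv F9129)
theorem F12940 : act 3 n4179 = n2961 := d19_1 D4179 (iv D2961) (iv F9130)
theorem F12941 : act 6 n4179 = n3168 := d25_2 D2960 D4179 F9768 (iv D2230) (iv F6263)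
theorem F12942 : act 7 n3007 = n4179 := d27_0 F12941 (iv D3168) (iv D2188) (iv F6370) D3007
def n4180 : Q := act 7 n2960
theorem D4180 : act 7 n2960 = n4180 := rfl
theorem F12943 : act 0 n4180 = n2986 := d6_1 D4180 (iv D2986) (iv F9129)
theorem F12944 : act 5 n4180 = n3007 := d26_1 D4180 F12942 (iv D4179)
theorem F12945 : act 6 n4180 = n2967 := d27_1 D4180 (iv D2967) (iv D2021) (iv F6264) D2960
def n4181 : Q := act 1 n2961
theorem D4181 : act 1 n2961 = n4181 := rfl
theorem F12946 : act 6 n4181 = n3231 := d11_2 (iv F9133) D4181 (iv D3231)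
def n4182 : Q := act 0 n2962
theorem D4182 : act 0 n2962 = n4182 := rfl
theorem F12947 : act 1 n4182 = n2988 := d0_2 D2962 D4182 (iv D2988) (iv D2036) (iv F6267)
theorem F12948 : act 3 n4182 = n2969 := d2_2 (iv F9134) D4182 (iv D2969)
theorem F12949 : act 4 n4176 = n4182 := d9_0 F12947 F9214 D4176
def n4183 : Q := act 4 n2962
theorem D4183 : act 4 n2962 = n4183 := rfl
theorem F12950 : act 0 n4183 = n4176 := d3_1 D4183 F12949 (iv D4182)
theorem F12951 : act 1 n4183 = n2963 := d9_1 D4183 (iv D2963) D2962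
theorem F12952 : act 7 n4183 = n4182 := d24_2 F12932 D4183 (iv F12949)
def n4184 : Q := act 5 n2962
theorem D4184 : act 5 n2962 = n4184 := rfl
theorem F12953 : act 1 n4184 = n3234 := d10_1 D4184 (iv D3234) (iv D2232) (iv F6269) D2962
theorem F12954 : act 3 n4184 = n2971 := d19_1 D4184 (iv D2971) (iv F9134)
def n4185 : Q := act 6 n2962
theorem D4185 : act 6 n2962 = n4185 := rfl
theorem F12955 : act 1 n4185 = n2964 := d11_1 D4185 (iv D2964) D2962
theorem F12956 : act 3 n4185 = n2972 := d20_1 D4185 (iv D2972) (iv F9134)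
def n4186 : Q := act 6 n2963
theorem D4186 : act 6 n2963 = n4186 := rfl
theorem F12957 : act 0 n4186 = n2990 := d5_1 D4186 (iv D2990) (iv F9135)
theorem F12958 : act 2 n4186 = n2965 := d16_1 D4186 (iv D2965) (iv F9136)
theorem F12959 : act 4 n4186 = n2964 := d23_1 D4186 (iv D2964) D2963
theorem F12960 : act 5 n4186 = n3364 := d25_1 D4186 (iv D3364) F9989 (iv D3237) (iv F9137)
def n4187 : Q := act 5 n2964
theorem D4187 : act 5 n2964 = n4187 := rfl
theorem F12961 : act 0 n4187 = n2991 := d4_1 D4187 (iv D2991) (iv F9138)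
theorem F12962 : act 2 n4187 = n2966 := d15_1 D4187 (iv D2966) (iv F9139)
theorem F12963 : act 3 n4187 = n2975 := d19_1 D4187 (iv D2975) (iv F9140)
theorem F12964 : act 4 n4187 = n3364 := d22_1 D4187 (iv F12960) F12959
theorem F12965 : act 6 n4187 = n3159 := d25_2 D2964 D4187 F9736 (iv D2234) (iv F6269)
theorem F12966 : act 7 n2996 = n4187 := d27_0 F12965 (iv D3159) (iv D2180) (iv F6337) D2996
def n4188 : Q := act 7 n2964
theorem D4188 : act 7 n2964 = n4188 := rfl
theorem F12967 : act 0 n4188 = n2992 := d6_1 D4188 (iv D2992) (iv F9138)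
theorem F12968 : act 2 n4188 = n2967 := d17_1 D4188 (iv D2967) (iv F9139)
theorem F12969 : act 5 n4188 = n2996 := d26_1 D4188 F12966 (iv D4187)
def n4189 : Q := act 7 n2965
theorem D4189 : act 7 n2965 = n4189 := rfl
theorem F12970 : act 0 n4189 = n2993 := d6_1 D4189 (iv D2993) (iv F9141)
theorem F12971 : act 4 n4189 = n2967 := d24_1 D4189 (iv D2967) (iv F9143)
theorem F12972 : act 5 n4189 = n3005 := d26_1 D4189 F9268 (iv F9144)
def n4190 : Q := act 4 n2969
theorem D4190 : act 4 n2969 = n4190 := rfl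
theorem F12973 : act 0 n4190 = n2970 := d3_1 D4190 (iv D2970) D2969
theorem F12974 : act 1 n4190 = n2994 := d9_1 D4190 (iv D2994) (iv F9157)
theorem F12975 : act 7 n4190 = n3139 := d24_2 (iv F9158) D4190 (iv D3139)
def n4191 : Q := act 5 n2969
theorem D4191 : act 5 n2969 = n4191 := rfl
theorem F12976 : act 0 n4191 = n2971 := d4_1 D4191 (iv D2971) D2969
theorem F12977 : act 7 n4191 = n3140 := d26_2 (iv F9158) D4191 (iv D3140)
def n4192 : Q := act 6 n2969
theorem D4192 : act 6 n2969 = n4192 := rfl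
theorem F12978 : act 0 n4192 = n2972 := d5_1 D4192 (iv D2972) D2969
theorem F12979 : act 1 n4192 = n2996 := d11_1 D4192 (iv D2996) (iv F9157)
def n4193 : Q := act 3 n2970
theorem D4193 : act 3 n2970 = n4193 := rfl
theorem F12980 : act 1 n4193 = n2973 := d8_1 D4193 (iv D2973) (iv F9159)
theorem F12981 : act 7 n4193 = n3354 := d21_2 (iv F9160) D4193 (iv D3354) (iv D2326) F6697
def n4194 : Q := act 5 n2970
theorem D4194 : act 5 n2970 = n4194 := rfl
theorem F12982 : act 1 n4194 = n3241 := d10_1 D4194 (iv D3241) F6927 (iv F6282) (iv F9159)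
theorem F12983 : act 4 n4194 = n2971 := d22_1 D4194 (iv D2971) D2970
theorem F12984 : act 7 n4194 = n3142 := d26_2 (iv F9160) D4194 (iv D3142)
def n4195 : Q := act 6 n2970
theorem D4195 : act 6 n2970 = n4195 := rfl
theorem F12985 : act 1 n4195 = n2974 := d11_1 D4195 (iv D2974) (iv F9159)
theorem F12986 : act 4 n4195 = n2972 := d23_1 D4195 (iv D2972) D2970
theorem F12987 : act 7 n4195 = n3334 := d27_2 (iv F9160) D4195 (iv D3334) F7164 F6698
def n4196 : Q := act 6 n2971
theorem D4196 : act 6 n2971 = n4196 := rfl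
theorem F12988 : act 1 n4196 = n3242 := d11_1 D4196 (iv D3242) (iv F9161)
def n4197 : Q := act 5 n2972
theorem D4197 : act 5 n2972 = n4197 := rfl
def n4198 : Q := act 7 n2972
theorem D4198 : act 7 n2972 = n4198 := rfl
theorem F12989 : act 1 n4198 = n2976 := d12_1 D4198 (iv D2976) (iv F9163)
theorem F12990 : act 4 n4198 = n3334 := d24_1 D4198 (iv F12987) F12986
theorem F12991 : act 6 n4198 = n3145 := d27_1 D4198 (iv D3145) (iv D2166) (iv F6279) D2972
def n4199 : Q := act 6 n2973
theorem D4199 : act 6 n2973 = n4199 := rfl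
theorem F12992 : act 0 n4199 = n2999 := d5_1 D4199 (iv D2999) (iv F9164)
theorem F12993 : act 2 n4199 = n4199 := d16_1 D4199 (iv D4199) F9165
theorem F12994 : act 3 n4199 = n2974 := d20_1 D4199 (iv D2974) D2973
def n4200 : Q := act 1 n2975
theorem D4200 : act 1 n2975 = n4200 := rfl
theorem F12995 : act 6 n4200 = n3245 := d11_2 (iv F9174) D4200 (iv D3245)
def n4201 : Q := act 7 n2975
theorem D4201 : act 7 n2975 = n4201 := rfl
theorem F12996 : act 0 n4201 = n3001 := d6_1 D4201 (iv D3001) (iv F9172)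
theorem F12997 : act 2 n4201 = n2978 := d17_1 D4201 (iv D2978) (iv F9173)
theorem F12998 : act 4 n4201 = n3335 := d24_1 D4201 F10272 F10066
theorem F12999 : act 5 n4201 = n2976 := d26_1 D4201 (iv D2976) D2975
def n4202 : Q := act 3 n2976
theorem D4202 : act 3 n2976 = n4202 := rfl
theorem F13000 : act 0 n4202 = n3000 := d2_1 D4202 F9250 (iv F9175)
theorem F13001 : act 6 n4202 = n3146 := d20_2 (iv F9178) D4202 (iv D3146)
def n4203 : Q := act 2 n2977
theorem D4203 : act 2 n2977 = n4203 := rfl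
theorem F13002 : act 6 n4203 = n3246 := d16_2 (iv F9180) D4203 (iv D3246)
def n4204 : Q := act 7 n2977
theorem D4204 : act 7 n2977 = n4204 := rfl
theorem F13003 : act 1 n4204 = n2978 := d12_1 D4204 (iv D2978) D2977
theorem F13004 : act 4 n4204 = n3336 := d24_1 D4204 F10275 F10082
def n4205 : Q := act 3 n2980
theorem D4205 : act 3 n2980 = n4205 := rfl
theorem F13005 : act 1 n4205 = n3584 := d8_1 D4205 F11031 (iv F9188)
theorem F13006 : act 5 n4205 = n4037 := d19_2 (iv F9190) D4205 F12543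
theorem F13007 : act 6 n4205 = n3248 := d20_2 (iv F9191) D4205 (iv D3248)
def n4206 : Q := act 5 n2981
theorem D4206 : act 5 n2981 = n4206 := rfl
theorem F13008 : act 2 n4206 = n4056 := d15_1 D4206 (iv D4056) (iv F9193)
theorem F13009 : act 3 n4206 = n2982 := d19_1 D4206 (iv D2982) (iv F9194)
theorem F13010 : act 4 n4206 = n4045 := d22_1 D4206 (iv D4045) (iv F9195)
theorem F13011 : act 6 n4206 = n3251 := d25_2 D2981 D4206 (iv D3251) (iv D2248) (iv F6299)
theorem F13012 : act 7 n4206 = n4107 := d31_1 D4206 F12740 F8979 (iv D1987) (iv D1345) F2954 (iv D908) F2048 (iv D615) F1303 F742 F438 D145 F494 (iv F516) (iv F1398) (iv D249) F457 (iv D81) (iv F275) D144 F492 D267 (iv F1364) D656 (iv F3158) (iv F4351) D2031 (iv F9194)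
def n4207 : Q := act 7 n2981
theorem D4207 : act 7 n2981 = n4207 := rfl
theorem F13013 : act 1 n4207 = n3476 := d12_1 D4207 F10690 (iv F9192)
theorem F13014 : act 2 n4207 = n3474 := d17_1 D4207 F10683 (iv F9193)
theorem F13015 : act 4 n4207 = n4046 := d24_1 D4207 (iv D4046) (iv F9195)
theorem F13016 : act 5 n4207 = n4107 := d26_1 D4207 (iv F13012) (iv D4206)
theorem F13017 : act 6 n4207 = n4207 := d27_1 D4207 (iv D4207) (iv D2981) F6300 D2981
def n4208 : Q := act 1 n2982
theorem D4208 : act 1 n2982 = n4208 := rfl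
theorem F13018 : act 4 n4208 = n2987 := d9_2 (iv F9197) D4208 (iv D2987)
theorem F13019 : act 6 n4208 = n3187 := d11_2 (iv F9198) D4208 F9829
def n4209 : Q := act 7 n2983
theorem D4209 : act 7 n2983 = n4209 := rfl
theorem F13020 : act 2 n4209 = n2986 := d17_1 D4209 (iv D2986) (iv F9199)
theorem F13021 : act 5 n4209 = n2998 := d26_1 D4209 (iv F10349) F10347
theorem F13022 : act 6 n4209 = n2992 := d27_1 D4209 (iv D2992) (iv D2038) (iv F6307) D2983
def n4210 : Q := act 5 n2984
theorem D4210 : act 5 n2984 = n4210 := rfl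
theorem F13023 : act 1 n4210 = n3032 := d10_1 D4210 F9344 (iv F12559) (iv D4041) (iv F9201)
theorem F13024 : act 3 n4210 = n4045 := d19_1 D4210 (iv D4045) (iv F9202)
theorem F13025 : act 4 n4210 = n2985 := d22_1 D4210 (iv D2985) (iv F9203)
theorem F13026 : act 6 n4210 = n3170 := d25_2 D2984 D4210 F9776 (iv D2253) (iv F6310)
theorem F13027 : act 7 n4210 = n3009 := d31_1 D4210 F9278 (iv F9247) (iv D2998) (iv F6969) F6970 (iv F6321) (iv D2037) (iv D1374) D1376 F4361 D1377 (iv F6190) F6188 F6187 F4295 (iv F6202) (iv D1993) D1994 F6206 (iv F7217) (iv D2333) (iv F6950) F6951 F6110 (iv D1959) (iv F6093) D2857 (iv F9202)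
def n4211 : Q := act 7 n2984
theorem D4211 : act 7 n2984 = n4211 := rfl
theorem F13028 : act 1 n4211 = n4042 := d12_1 D4211 (iv D4042) (iv F9201)
theorem F13029 : act 3 n4211 = n4118 := d21_1 D4211 (iv D4118) (iv F12577) (iv D4046) (iv F9202)
theorem F13030 : act 4 n4211 = n2986 := d24_1 D4211 (iv D2986) (iv F9203)
theorem F13031 : act 5 n4211 = n3009 := d26_1 D4211 (iv F13027) (iv D4210)
theorem F13032 : act 6 n4211 = n2993 := d27_1 D4211 (iv D2993) (iv D2039) (iv F6311) D2984
def n4212 : Q := act 0 n2987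
theorem D4212 : act 0 n2987 = n4212 := rfl
theorem F13033 : act 3 n4212 = n3028 := d2_2 (iv F9210) D4212 F9330
theorem F13034 : act 6 n4212 = n3182 := d5_2 (iv F9211) D4212 F9810
def n4213 : Q := act 6 n2988
theorem D4213 : act 6 n2988 = n4213 := rfl
theorem F13035 : act 0 n4213 = n2989 := d5_1 D4213 (iv D2989) D2988
theorem F13036 : act 2 n4213 = n4178 := d16_1 D4213 (iv D4178) (iv F9212)
theorem F13037 : act 3 n4213 = n2996 := d20_1 D4213 (iv D2996) (iv F9213)
theorem F13038 : act 4 n4213 = n4177 := d23_1 D4213 (iv D4177) (iv F9214)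
def n4214 : Q := act 5 n2989
theorem D4214 : act 5 n2989 = n4214 := rfl
theorem F13039 : act 1 n4214 = n3001 := d10_1 D4214 F9255 (iv F9228) (iv D2991) (iv F9216)
theorem F13040 : act 2 n4214 = n4210 := d15_1 D4214 (iv D4210) (iv F9217)
theorem F13041 : act 3 n4214 = n2992 := d19_1 D4214 F9231 (iv F9218)
theorem F13042 : act 4 n4214 = n3365 := d22_1 D4214 F10347 (iv F9219)
theorem F13043 : act 7 n4214 = n3000 := d31_1 D4214 F9251 F9247 (iv D2060) (iv F6112) (iv D1960) F4239 D1959 F6301 D2981 F9194 D2982 (iv F10826) (iv D3515) (iv D2454) F5244 (iv D1683) (iv F5240) (iv D1682) F3626 (iv F5195) F5197 (iv F4665) (iv D1483) (iv F4386) (iv D1386) (iv F4365) D2046 (iv F9218)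
def n4215 : Q := act 7 n2989
theorem D4215 : act 7 n2989 = n4215 := rfl
theorem F13044 : act 1 n4215 = n2992 := d12_1 D4215 (iv D2992) (iv F9216)
theorem F13045 : act 2 n4215 = n4211 := d17_1 D4215 (iv D4211) (iv F9217)
theorem F13046 : act 3 n4215 = n3001 := d21_1 D4215 (iv D3001) (iv F9225) (iv F9229) (iv F9218)
theorem F13047 : act 4 n4215 = n4209 := d24_1 D4215 (iv D4209) (iv F9219)
theorem F13048 : act 5 n4215 = n3000 := d26_1 D4215 (iv F13043) (iv D4214)
def n4216 : Q := act 7 n2990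
theorem D4216 : act 7 n2990 = n4216 := rfl
theorem F13049 : act 1 n4216 = n4209 := d12_1 D4216 (iv D4209) (iv F9220)
theorem F13050 : act 2 n4216 = n2993 := d17_1 D4216 (iv D2993) (iv F9221)
theorem F13051 : act 3 n4216 = n3381 := d21_1 D4216 (iv D3381) (iv F10392) F10394 F9704
theorem F13052 : act 4 n4216 = n2992 := d24_1 D4216 (iv D2992) (iv F9222)
theorem F13053 : act 5 n4216 = n2997 := d26_1 D4216 F9245 (iv F9223)
theorem F13054 : act 6 n4216 = n4215 := d27_1 D4216 (iv D4215) (iv D2989) (iv F6321) D2990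
def n4217 : Q := act 3 n2993
theorem D4217 : act 3 n2993 = n4217 := rfl
theorem F13055 : act 2 n4217 = n3391 := d13_1 D4217 (iv D3391) (iv F10401) (iv F13051) F13050
theorem F13056 : act 5 n4217 = n3008 := d19_2 (iv F9233) D4217 F9273
theorem F13057 : act 6 n4217 = n4118 := d20_2 F13032 D4217 (iv F13029)
theorem F13058 : act 7 n4217 = n4217 := d21_2 D2993 D4217 (iv D4217) (iv D2993) F6324
def n4218 : Q := act 6 n2994
theorem D4218 : act 6 n2994 = n4218 := rfl
theorem F13059 : act 0 n4218 = n2997 := d5_1 D4218 (iv D2997) (iv F9234)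
theorem F13060 : act 2 n4218 = n3005 := d16_1 D4218 (iv D3005) (iv F9235)
theorem F13061 : act 4 n4218 = n2996 := d23_1 D4218 (iv D2996) D2994
theorem F13062 : act 7 n4218 = n3364 := d27_2 (iv F9236) D4218 (iv D3364) F7223 F6740
def n4219 : Q := act 1 n2995
theorem D4219 : act 1 n2995 = n4219 := rfl
theorem F13063 : act 0 n4219 = n3259 := d0_1 D4219 (iv D3259) F6999 (iv F6341) (iv F9237)
theorem F13064 : act 7 n4219 = n3156 := d12_2 (iv F9239) D4219 (iv D3156)
def n4220 : Q := act 6 n2995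
theorem D4220 : act 6 n2995 = n4220 := rfl
theorem F13065 : act 0 n4220 = n2998 := d5_1 D4220 (iv D2998) (iv F9237)
theorem F13066 : act 2 n4220 = n3007 := d16_1 D4220 (iv D3007) (iv F9238)
theorem F13067 : act 4 n4220 = n4202 := d23_1 D4220 F13001 (iv F9689)
def n4221 : Q := act 6 n3003
theorem D4221 : act 6 n3003 = n4221 := rfl
theorem F13068 : act 0 n4221 = n3008 := d5_1 D4221 (iv D3008) (iv F9261)
theorem F13069 : act 3 n4221 = n3005 := d20_1 D4221 (iv D3005) D3003
theorem F13070 : act 7 n4221 = n4221 := d27_2 (iv F9262) D4221 (iv D4221) F9262 F7521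
def n4222 : Q := act 1 n3004
theorem D4222 : act 1 n3004 = n4222 := rfl
theorem F13071 : act 0 n4222 = n3023 := d0_1 D4222 (iv D3023) F6408 (iv F6374) (iv F9263)
theorem F13072 : act 4 n4222 = n3006 := d9_2 (iv F9264) D4222 (iv D3006)
theorem F13073 : act 7 n4222 = n3163 := d12_2 (iv F9265) D4222 (iv D3163)
def n4223 : Q := act 6 n3004
theorem D4223 : act 6 n3004 = n4223 := rfl
theorem F13074 : act 0 n4223 = n3009 := d5_1 D4223 (iv D3009) (iv F9263)
theorem F13075 : act 2 n4223 = n4202 := d16_1 D4223 F13001 F9687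
theorem F13076 : act 3 n4223 = n4093 := d20_1 D4223 F12702 F9476
theorem F13077 : act 4 n4223 = n3007 := d23_1 D4223 (iv D3007) (iv F9264)
def n4224 : Q := act 2 n3006
theorem D4224 : act 2 n3006 = n4224 := rfl
theorem F13078 : act 0 n4224 = n3025 := d1_1 D4224 (iv D3025) (iv F9269)
theorem F13079 : act 7 n4224 = n3165 := d17_2 (iv F9270) D4224 (iv D3165)
def n4225 : Q := act 6 n3006
theorem D4225 : act 6 n3006 = n4225 := rfl
theorem F13080 : act 0 n4225 = n3026 := d5_1 D4225 (iv D3026) (iv F9269)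
theorem F13081 : act 1 n4225 = n3007 := d11_1 D4225 (iv D3007) D3006
def n4226 : Q := act 1 n3010
theorem D4226 : act 1 n3010 = n4226 := rfl
theorem F13082 : act 3 n4226 = n3011 := d8_2 (iv F9280) D4226 (iv D3011)
theorem F13083 : act 4 n4226 = n4128 := d9_2 (iv F9281) D4226 F12801
theorem F13084 : act 6 n4226 = n3035 := d11_2 (iv F9282) D4226 (iv D3035)
theorem F13085 : act 7 n4226 = n4226 := d12_2 F9283 D4226 (iv D4226)
def n4227 : Q := act 0 n3011
theorem D4227 : act 0 n3011 = n4227 := rfl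
theorem F13086 : act 4 n4227 = n3012 := d3_2 (iv F9284) D4227 (iv D3012)
theorem F13087 : act 6 n4227 = n3037 := d5_2 (iv F9285) D4227 (iv D3037)
theorem F13088 : act 7 n4227 = n3479 := d6_2 (iv F9286) D4227 (iv D3479)
def n4228 : Q := act 2 n3012
theorem D4228 : act 2 n3012 = n4228 := rfl
theorem F13089 : act 0 n4228 = n3013 := d1_1 D4228 (iv D3013) D3012
theorem F13090 : act 6 n4228 = n3038 := d16_2 (iv F9288) D4228 (iv D3038)
def n4229 : Q := act 3 n3013
theorem D4229 : act 3 n3013 = n4229 := rfl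
theorem F13091 : act 1 n4229 = n3016 := d8_1 D4229 (iv D3016) (iv F9289)
theorem F13092 : act 2 n4229 = n4105 := d13_1 D4229 F12734 F8992 (iv F6388) D3013
theorem F13093 : act 6 n4229 = n3039 := d20_2 (iv F9290) D4229 (iv D3039)
def n4230 : Q := act 1 n3014
theorem D4230 : act 1 n3014 = n4230 := rfl
theorem F13094 : act 6 n4230 = n3040 := d11_2 (iv F9292) D4230 (iv D3040)
def n4231 : Q := act 3 n3014
theorem D4231 : act 3 n3014 = n4231 := rfl
theorem F13095 : act 0 n4231 = n3016 := d2_1 D4231 (iv D3016) (iv F9291)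
theorem F13096 : act 2 n4231 = n3019 := d13_1 D4231 (iv D3019) (iv D2068) (iv F6394) D3014
theorem F13097 : act 6 n4231 = n3041 := d20_2 (iv F9292) D4231 (iv D3041)
def n4232 : Q := act 7 n3014
theorem D4232 : act 7 n3014 = n4232 := rfl
theorem F13098 : act 0 n4232 = n3017 := d6_1 D4232 (iv D3017) (iv F9291)
theorem F13099 : act 2 n4232 = n3015 := d17_1 D4232 (iv D3015) D3014
theorem F13100 : act 4 n4232 = n3481 := d24_1 D4232 F10707 F9328
theorem F13101 : act 6 n4232 = n4232 := d27_1 D4232 (iv D4232) F9292 F6455 (iv F9292)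
def n4233 : Q := act 3 n3018
theorem D4233 : act 3 n3018 = n4233 := rfl
theorem F13102 : act 0 n4233 = n4076 := d2_1 D4233 F12653 (iv F9302)
theorem F13103 : act 1 n4233 = n3019 := d8_1 D4233 (iv D3019) D3018
theorem F13104 : act 6 n4233 = n3043 := d20_2 (iv F9304) D4233 (iv D3043)
def n4234 : Q := act 4 n3019
theorem D4234 : act 4 n3019 = n4234 := rfl
theorem F13105 : act 0 n4234 = n3020 := d3_1 D4234 (iv D3020) (iv F9306)
theorem F13106 : act 3 n4234 = n4234 := d18_1 D4234 (iv D4234) (iv D3019) F6402 D3019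
theorem F13107 : act 5 n4234 = n3473 := d22_2 F12790 D4234 (iv F12789)
theorem F13108 : act 6 n4234 = n3045 := d23_2 (iv F9307) D4234 (iv D3045)
def n4235 : Q := act 1 n3021
theorem D4235 : act 1 n3021 = n4235 := rfl
theorem F13109 : act 3 n4235 = n3023 := d8_2 (iv F9313) D4235 (iv D3023)
def n4236 : Q := act 6 n3021
theorem D4236 : act 6 n3021 = n4236 := rfl
theorem F13110 : act 0 n4236 = n3030 := d5_1 D4236 (iv D3030) (iv F9312)
theorem F13111 : act 2 n4236 = n4125 := d16_1 D4236 F12791 F9534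
theorem F13112 : act 3 n4236 = n3024 := d20_1 D4236 (iv D3024) (iv F9313)
theorem F13113 : act 5 n4236 = n4231 := d25_1 D4236 F13097 F9374 F7073 D3021
theorem F13114 : act 7 n4236 = n4110 := d27_2 (iv F9508) D4236 (iv D4110) F8984 D3083
def n4237 : Q := act 6 n3022
theorem D4237 : act 6 n3022 = n4237 := rfl
theorem F13115 : act 0 n4237 = n3031 := d5_1 D4237 (iv D3031) (iv F9314)
theorem F13116 : act 3 n4237 = n3174 := d20_1 D4237 (iv D3174) (iv F9315)
def n4238 : Q := act 2 n3023
theorem D4238 : act 2 n3023 = n4238 := rfl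
theorem F13117 : act 1 n4238 = n3268 := d7_1 D4238 (iv D3268) (iv D2268) (iv F6409) D3023
theorem F13118 : act 4 n4238 = n3025 := d14_2 (iv F9316) D4238 (iv D3025)
theorem F13119 : act 7 n4238 = n3175 := d17_2 (iv F9317) D4238 (iv D3175)
def n4239 : Q := act 6 n3023
theorem D4239 : act 6 n3023 = n4239 := rfl
theorem F13120 : act 1 n4239 = n3024 := d11_1 D4239 (iv D3024) D3023
theorem F13121 : act 4 n4239 = n3026 := d23_1 D4239 (iv D3026) (iv F9316)
def n4240 : Q := act 7 n3024
theorem D4240 : act 7 n3024 = n4240 := rfl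
theorem F13122 : act 0 n4240 = n3032 := d6_1 D4240 (iv D3032) (iv F9318)
theorem F13123 : act 2 n4240 = n3270 := d17_1 D4240 (iv D3270) (iv F9319)
theorem F13124 : act 4 n4240 = n3028 := d24_1 D4240 (iv D3028) (iv F9320)
theorem F13125 : act 5 n4240 = n4232 := d26_1 D4240 (iv D4232) (iv F9321)
theorem F13126 : act 6 n4240 = n3177 := d27_1 D4240 (iv D3177) (iv D2197) (iv F6411) D3024
def n4241 : Q := act 3 n3025
theorem D4241 : act 3 n3025 = n4241 := rfl
theorem F13127 : act 1 n4241 = n3271 := d8_1 D4241 (iv D3271) (iv F9322)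
def n4242 : Q := act 6 n3025
theorem D4242 : act 6 n3025 = n4242 := rfl
theorem F13128 : act 1 n4242 = n3272 := d11_1 D4242 (iv D3272) (iv F9322)
theorem F13129 : act 2 n4242 = n3026 := d16_1 D4242 (iv D3026) D3025
def n4243 : Q := act 5 n3026
theorem D4243 : act 5 n3026 = n4243 := rfl
def n4244 : Q := act 7 n3026
theorem D4244 : act 7 n3026 = n4244 := rfl
theorem F13130 : act 1 n4244 = n3028 := d12_1 D4244 (iv D3028) (iv F9324)
theorem F13131 : act 6 n4244 = n3181 := d27_1 D4244 (iv D3181) (iv D2199) (iv F6412) D3026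
def n4245 : Q := act 1 n3027
theorem D4245 : act 1 n3027 = n4245 := rfl
theorem F13132 : act 3 n4245 = n4138 := d8_2 (iv F9327) D4245 F12834
theorem F13133 : act 4 n4245 = n4230 := d9_2 (iv F9328) D4245 (iv D4230)
theorem F13134 : act 6 n4245 = n3029 := d11_2 (iv F9329) D4245 (iv D3029)
def n4246 : Q := act 0 n3029
theorem D4246 : act 0 n3029 = n4246 := rfl
theorem F13135 : act 1 n4246 = n3034 := d0_2 D3029 D4246 (iv D3034) (iv D2080) (iv F6415)
theorem F13136 : act 3 n4246 = n4122 := d2_2 (iv F9333) D4246 F12781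
theorem F13137 : act 7 n4246 = n4246 := d6_2 F9334 D4246 (iv D4246)
def n4247 : Q := act 2 n3029
theorem D4247 : act 2 n3029 = n4247 := rfl
theorem F13138 : act 1 n4247 = n3276 := d7_1 D4247 (iv D3276) (iv D2274) (iv F6416) D3029
theorem F13139 : act 4 n4247 = n3813 := d14_2 F9370 D4247 F11783
theorem F13140 : act 7 n4247 = n4247 := d17_2 F9334 D4247 (iv D4247)
def n4248 : Q := act 3 n3032
theorem D4248 : act 3 n3032 = n4248 := rfl
theorem F13141 : act 1 n4248 = n4045 := d8_1 D4248 (iv F13024) F13023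
theorem F13142 : act 5 n4248 = n4048 := d19_2 (iv F9344) D4248 F12582
theorem F13143 : act 6 n4248 = n3185 := d20_2 (iv F9345) D4248 (iv D3185)
theorem F13144 : act 7 n4248 = n4105 := d21_2 D3032 D4248 F12734 (iv F9339) F9337
def n4249 : Q := act 0 n3033
theorem D4249 : act 0 n3033 = n4249 := rfl
theorem F13145 : act 2 n4249 = n4227 := d1_2 (iv F9346) D4249 (iv D4227)
theorem F13146 : act 3 n4249 = n4123 := d2_2 (iv F9347) D4249 F12783
theorem F13147 : act 4 n4249 = n4228 := d3_2 (iv F9348) D4249 F13089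
theorem F13148 : act 6 n4249 = n3034 := d5_2 (iv F9349) D4249 (iv D3034)
def n4250 : Q := act 0 n3035
theorem D4250 : act 0 n3035 = n4250 := rfl
theorem F13149 : act 1 n4250 = n3318 := d0_2 D3035 D4250 F10236 F8196 F8191
theorem F13150 : act 3 n4250 = n3037 := d2_2 (iv F9353) D4250 (iv D3037)
theorem F13151 : act 4 n4250 = n4119 := d3_2 (iv F9354) D4250 F12772
theorem F13152 : act 7 n4250 = n3325 := d6_2 F10961 D4250 (iv F10957)
def n4251 : Q := act 1 n3038
theorem D4251 : act 1 n3038 = n4251 := rfl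
theorem F13153 : act 0 n4251 = n3040 := d0_1 D4251 (iv D3040) F6452 (iv F6448) (iv F9363)
theorem F13154 : act 4 n4251 = n4246 := d9_2 (iv F9364) D4251 F13135
theorem F13155 : act 7 n4251 = n4251 := d12_2 F9366 D4251 (iv D4251)
def n4252 : Q := act 3 n3038
theorem D4252 : act 3 n3038 = n4252 := rfl
theorem F13156 : act 0 n4252 = n3039 := d2_1 D4252 (iv D3039) (iv F9363)
theorem F13157 : act 2 n4252 = n4102 := d13_1 D4252 F12728 F8983 (iv F6446) D3038
theorem F13158 : act 5 n4252 = n4250 := d19_2 (iv F9365) D4252 F13150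
def n4253 : Q := act 7 n3039
theorem D4253 : act 7 n3039 = n4253 := rfl
theorem F13159 : act 1 n4253 = n3042 := d12_1 D4253 (iv D3042) (iv F9367)
theorem F13160 : act 2 n4253 = n4099 := d17_1 D4253 F12722 (iv F9368)
theorem F13161 : act 3 n4253 = n4253 := d21_1 D4253 (iv D4253) (iv D3039) F6451 D3039
theorem F13162 : act 4 n4253 = n3557 := d24_1 D4253 (iv F12800) F12799
theorem F13163 : act 5 n4253 = n3560 := d26_1 D4253 F10961 (iv F9369)
def n4254 : Q := act 3 n3040
theorem D4254 : act 3 n3040 = n4254 := rfl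
theorem F13164 : act 1 n4254 = n3041 := d8_1 D4254 (iv D3041) D3040
def n4255 : Q := act 5 n3040
theorem D4255 : act 5 n3040 = n4255 := rfl
theorem F13165 : act 1 n4255 = n3278 := d10_1 D4255 (iv D3278) (iv D2276) (iv F6454) D3040
theorem F13166 : act 4 n4255 = n3799 := d22_1 D4255 F11719 (iv F9370)
theorem F13167 : act 7 n4255 = n4255 := d26_2 F9371 D4255 (iv D4255)
def n4256 : Q := act 7 n3041
theorem D4256 : act 7 n3041 = n4256 := rfl
theorem F13168 : act 0 n4256 = n3042 := d6_1 D4256 (iv D3042) (iv F9372)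
theorem F13169 : act 2 n4256 = n3046 := d17_1 D4256 (iv D3046) (iv F9373)
theorem F13170 : act 3 n4256 = n4256 := d21_1 D4256 (iv D4256) (iv D3041) F6455 D3041
theorem F13171 : act 5 n4256 = n3279 := d26_1 D4256 (iv D3279) (iv F9374)
def n4257 : Q := act 6 n3042
theorem D4257 : act 6 n3042 = n4257 := rfl
theorem F13172 : act 2 n4257 = n3048 := d16_1 D4257 (iv D3048) (iv F9375)
theorem F13173 : act 3 n4257 = n4257 := d20_1 D4257 (iv D4257) F9376
def n4258 : Q := act 2 n3043
theorem D4258 : act 2 n3043 = n4258 := rfl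
theorem F13174 : act 0 n4258 = n4074 := d1_1 D4258 (iv D4074) (iv F9378)
def n4259 : Q := act 4 n3043
theorem D4259 : act 4 n3043 = n4259 := rfl
theorem F13175 : act 0 n4259 = n4075 := d3_1 D4259 (iv D4075) (iv F9378)
theorem F13176 : act 1 n4259 = n3045 := d9_1 D4259 (iv D3045) (iv F9379)
theorem F13177 : act 3 n4259 = n4259 := d18_1 D4259 (iv D4259) (iv D3043) F6459 D3043
def n4260 : Q := act 5 n3043
theorem D4260 : act 5 n3043 = n4260 := rfl
theorem F13178 : act 0 n4260 = n4073 := d4_1 D4260 F12649 (iv F9378)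
theorem F13179 : act 1 n4260 = n3283 := d10_1 D4260 (iv D3283) F7078 (iv F6462) (iv F9379)
theorem F13180 : act 3 n4260 = n3044 := d19_1 D4260 (iv D3044) D3043
def n4261 : Q := act 7 n3043
theorem D4261 : act 7 n3043 = n4261 := rfl
theorem F13181 : act 0 n4261 = n4071 := d6_1 D4261 F12645 (iv F9378)
theorem F13182 : act 1 n4261 = n3046 := d12_1 D4261 (iv D3046) (iv F9379)
theorem F13183 : act 3 n4261 = n3052 := d21_1 D4261 (iv D3052) (iv D2093) (iv F6460) D3043
def n4262 : Q := act 7 n3045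
theorem D4262 : act 7 n3045 = n4262 := rfl
theorem F13184 : act 0 n4262 = n3047 := d6_1 D4262 (iv D3047) (iv F9384)
theorem F13185 : act 4 n4262 = n3046 := d24_1 D4262 (iv D3046) D3045
theorem F13186 : act 5 n4262 = n3286 := d26_1 D4262 (iv D3286) (iv F9386)
def n4263 : Q := act 6 n3046
theorem D4263 : act 6 n3046 = n4263 := rfl
theorem F13187 : act 0 n4263 = n3048 := d5_1 D4263 (iv D3048) (iv F9387)
theorem F13188 : act 3 n4263 = n3055 := d20_1 D4263 (iv D3055) (iv F9388)
def n4264 : Q := act 3 n3047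
theorem D4264 : act 3 n3047 = n4264 := rfl
theorem F13189 : act 1 n4264 = n4097 := d8_1 D4264 F12716 (iv F9390)
theorem F13190 : act 4 n4264 = n3056 := d18_2 (iv F9391) D4264 (iv D3056) F6485 (iv F6467)
theorem F13191 : act 5 n4264 = n3288 := d19_2 (iv F9392) D4264 (iv D3288)
theorem F13192 : act 7 n4264 = n4264 := d21_2 D3047 D4264 (iv D4264) (iv D3047) F6464
def n4265 : Q := act 6 n3047
theorem D4265 : act 6 n3047 = n4265 := rfl
theorem F13193 : act 1 n4265 = n4101 := d11_1 D4265 (iv D4101) (iv F9390)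
theorem F13194 : act 4 n4265 = n3048 := d23_1 D4265 (iv D3048) (iv F9391)
def n4266 : Q := act 4 n3049
theorem D4266 : act 4 n3049 = n4266 := rfl
theorem F13195 : act 0 n4266 = n4064 := d3_1 D4266 (iv D4064) (iv F9395)
theorem F13196 : act 1 n4266 = n4266 := d9_1 D4266 (iv D4266) F9396
theorem F13197 : act 2 n4266 = n3050 := d14_1 D4266 (iv D3050) D3049
theorem F13198 : act 6 n4266 = n4008 := d23_2 (iv F9397) D4266 (iv D4008)
def n4267 : Q := act 5 n3049
theorem D4267 : act 5 n3049 = n4267 := rfl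
theorem F13199 : act 0 n4267 = n4065 := d4_1 D4267 (iv D4065) (iv F9395)
theorem F13200 : act 2 n4267 = n3051 := d15_1 D4267 (iv D3051) D3049
def n4268 : Q := act 7 n3049
theorem D4268 : act 7 n3049 = n4268 := rfl
theorem F13201 : act 0 n4268 = n4066 := d6_1 D4268 (iv D4066) (iv F9395)
theorem F13202 : act 1 n4268 = n4268 := d12_1 D4268 (iv D4268) F9396
theorem F13203 : act 2 n4268 = n3052 := d17_1 D4268 (iv D3052) D3049
def n4269 : Q := act 5 n3050
theorem D4269 : act 5 n3050 = n4269 := rfl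
theorem F13204 : act 0 n4269 = n4067 := d4_1 D4269 (iv D4067) (iv F9398)
theorem F13205 : act 1 n4269 = n3293 := d10_1 D4269 (iv D3293) F7096 (iv F6478) (iv F9399)
theorem F13206 : act 3 n4269 = n4269 := d19_1 D4269 (iv D4269) F9400
theorem F13207 : act 4 n4269 = n3051 := d22_1 D4269 (iv D3051) D3050
def n4270 : Q := act 7 n3050
theorem D4270 : act 7 n3050 = n4270 := rfl
theorem F13208 : act 0 n4270 = n4068 := d6_1 D4270 (iv D4068) (iv F9398)
theorem F13209 : act 1 n4270 = n3054 := d12_1 D4270 (iv D3054) (iv F9399)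
theorem F13210 : act 4 n4270 = n3052 := d24_1 D4270 (iv D3052) D3050
def n4271 : Q := act 6 n3051
theorem D4271 : act 6 n3051 = n4271 := rfl
theorem F13211 : act 0 n4271 = n4069 := d5_1 D4271 (iv D4069) (iv F9402)
theorem F13212 : act 1 n4271 = n3295 := d11_1 D4271 (iv D3295) (iv F9403)
theorem F13213 : act 3 n4271 = n3053 := d20_1 D4271 (iv D3053) (iv F9404)
theorem F13214 : act 5 n4271 = n4013 := d25_1 D4271 (iv D4013) (iv D2828) (iv F6471) D3051
def n4272 : Q := act 7 n3051
theorem D4272 : act 7 n3051 = n4272 := rfl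
theorem F13215 : act 0 n4272 = n4070 := d6_1 D4272 (iv D4070) (iv F9402)
theorem F13216 : act 1 n4272 = n3296 := d12_1 D4272 (iv D3296) (iv F9403)
theorem F13217 : act 5 n4272 = n3052 := d26_1 D4272 (iv D3052) D3051
def n4273 : Q := act 6 n3052
theorem D4273 : act 6 n3052 = n4273 := rfl
theorem F13218 : act 0 n4273 = n4072 := d5_1 D4273 (iv D4072) (iv F9405)
theorem F13219 : act 1 n4273 = n3055 := d11_1 D4273 (iv D3055) (iv F9406)
theorem F13220 : act 7 n4273 = n4016 := d27_2 D3052 D4273 (iv D4016) (iv D2829) (iv F6471)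
def n4274 : Q := act 3 n3054
theorem D4274 : act 3 n3054 = n4274 := rfl
theorem F13221 : act 0 n4274 = n3056 := d2_1 D4274 (iv D3056) (iv F9411)
theorem F13222 : act 5 n4274 = n3299 := d19_2 (iv F9414) D4274 (iv D3299)
theorem F13223 : act 7 n4274 = n4274 := d21_2 D3054 D4274 (iv D4274) (iv D3054) F6477
def n4275 : Q := act 6 n3054
theorem D4275 : act 6 n3054 = n4275 := rfl
theorem F13224 : act 0 n4275 = n3057 := d5_1 D4275 (iv D3057) (iv F9411)
theorem F13225 : act 2 n4275 = n4275 := d16_1 D4275 (iv D4275) F9412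
theorem F13226 : act 4 n4275 = n3055 := d23_1 D4275 (iv D3055) (iv F9413)
theorem F13227 : act 7 n4275 = n4021 := d27_2 D3054 D4275 (iv D4021) (iv D2834) (iv F6479)
def n4276 : Q := act 5 n3055
theorem D4276 : act 5 n3055 = n4276 := rfl
theorem F13228 : act 0 n4276 = n3058 := d4_1 D4276 (iv D3058) (iv F9415)
theorem F13229 : act 2 n4276 = n4276 := d15_1 D4276 (iv D4276) F9416
theorem F13230 : act 6 n4276 = n3301 := d25_2 D3055 D4276 (iv D3301) (iv D2291) (iv F6482)
theorem F13231 : act 7 n4276 = n4023 := d26_2 (iv F9417) D4276 (iv D4023)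
def n4277 : Q := act 2 n3056
theorem D4277 : act 2 n3056 = n4277 := rfl
theorem F13232 : act 1 n4277 = n4277 := d7_1 D4277 (iv D4277) F9418 F8964 (iv F9418)
theorem F13233 : act 3 n4277 = n4277 := d13_2 D3056 D4277 (iv D4277) (iv D3056) F6484
theorem F13234 : act 5 n4277 = n3302 := d15_2 (iv F9419) D4277 (iv D3302)
theorem F13235 : act 7 n4277 = n4277 := d17_2 F9420 D4277 (iv D4277)
def n4278 : Q := act 6 n3056
theorem D4278 : act 6 n3056 = n4278 := rfl
theorem F13236 : act 1 n4278 = n4098 := d11_1 D4278 (iv D4098) (iv F9418)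
theorem F13237 : act 3 n4278 = n3057 := d20_1 D4278 (iv D3057) D3056
def n4279 : Q := act 5 n3057
theorem D4279 : act 5 n3057 = n4279 := rfl
theorem F13238 : act 2 n4279 = n4279 := d15_1 D4279 (iv D4279) F9422
theorem F13239 : act 4 n4279 = n3058 := d22_1 D4279 (iv D3058) (iv F9423)
theorem F13240 : act 6 n4279 = n3304 := d25_2 D3057 D4279 (iv D3304) (iv D2293) (iv F6486)
theorem F13241 : act 7 n4279 = n4039 := d26_2 (iv F9424) D4279 (iv D4039)
def n4280 : Q := act 7 n3059
theorem D4280 : act 7 n3059 = n4280 := rfl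
theorem F13242 : act 0 n4280 = n4280 := d6_1 D4280 (iv D4280) F9428
theorem F13243 : act 2 n4280 = n3062 := d17_1 D4280 (iv D3062) (iv F9429)
theorem F13244 : act 4 n4280 = n3061 := d24_1 D4280 (iv D3061) D3059
def n4281 : Q := act 7 n3060
theorem D4281 : act 7 n3060 = n4281 := rfl
theorem F13245 : act 0 n4281 = n4281 := d6_1 D4281 (iv D4281) F9431
theorem F13246 : act 2 n4281 = n3063 := d17_1 D4281 (iv D3063) (iv F9432)
theorem F13247 : act 5 n4281 = n3061 := d26_1 D4281 (iv D3061) D3060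
def n4282 : Q := act 3 n3061
theorem D4282 : act 3 n3061 = n4282 := rfl
theorem F13248 : act 0 n4282 = n4282 := d2_1 D4282 (iv D4282) F9434
def n4283 : Q := act 6 n3061
theorem D4283 : act 6 n3061 = n4283 := rfl
theorem F13249 : act 0 n4283 = n4283 := d5_1 D4283 (iv D4283) F9434
theorem F13250 : act 2 n4283 = n3065 := d16_1 D4283 (iv D3065) (iv F9435)
theorem F13251 : act 7 n4283 = n3114 := d27_2 D3061 D4283 (iv D3114) (iv D2145) (iv F6491)
def n4284 : Q := act 6 n3062
theorem D4284 : act 6 n3062 = n4284 := rfl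
theorem F13252 : act 0 n4284 = n4284 := d5_1 D4284 (iv D4284) F9436
theorem F13253 : act 1 n4284 = n3068 := d11_1 D4284 (iv D3068) (iv F9437)
theorem F13254 : act 3 n4284 = n4284 := d20_1 D4284 (iv D4284) F9438
theorem F13255 : act 4 n4284 = n3065 := d23_1 D4284 (iv D3065) (iv F9439)
theorem F13256 : act 7 n4284 = n3116 := d27_2 D3062 D4284 (iv D3116) (iv D2146) (iv F6495)
def n4285 : Q := act 3 n3063
theorem D4285 : act 3 n3063 = n4285 := rfl
theorem F13257 : act 0 n4285 = n4285 := d2_1 D4285 (iv D4285) F9440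
theorem F13258 : act 1 n4285 = n4285 := d8_1 D4285 (iv D4285) F9441
theorem F13259 : act 4 n4285 = n4285 := d18_2 F12140 D4285 (iv D4285) (iv F12140) F12139
theorem F13260 : act 5 n4285 = n3064 := d19_2 (iv F9442) D4285 (iv D3064)
theorem F13261 : act 7 n4285 = n3066 := d21_2 D3063 D4285 (iv D3066) (iv D2103) (iv F6498)
def n4286 : Q := act 6 n3063
theorem D4286 : act 6 n3063 = n4286 := rfl
theorem F13262 : act 0 n4286 = n4286 := d5_1 D4286 (iv D4286) F9440
theorem F13263 : act 1 n4286 = n4286 := d11_1 D4286 (iv D4286) F9441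
def n4287 : Q := act 2 n3064
theorem D4287 : act 2 n3064 = n4287 := rfl
theorem F13264 : act 0 n4287 = n4287 := d1_1 D4287 (iv D4287) F9443
theorem F13265 : act 4 n4287 = n4287 := d14_2 F9445 D4287 (iv D4287)
theorem F13266 : act 7 n4287 = n3067 := d17_2 (iv F9446) D4287 (iv D3067)
def n4288 : Q := act 5 n3065
theorem D4288 : act 5 n3065 = n4288 := rfl
theorem F13267 : act 0 n4288 = n4288 := d4_1 D4288 (iv D4288) F9447
theorem F13268 : act 7 n4288 = n3122 := d26_2 (iv F9449) D4288 (iv D3122)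
def n4289 : Q := act 2 n3066
theorem D4289 : act 2 n3066 = n4289 := rfl
theorem F13269 : act 0 n4289 = n4289 := d1_1 D4289 (iv D4289) F9450
theorem F13270 : act 3 n4289 = n3191 := d13_2 D3066 D4289 (iv D3191) (iv D2208) (iv F6503)
theorem F13271 : act 4 n4289 = n4289 := d14_2 F9452 D4289 (iv D4289)
theorem F13272 : act 5 n4289 = n3067 := d15_2 (iv F9453) D4289 (iv D3067)
theorem F13273 : act 6 n4289 = n4289 := d16_2 F9454 D4289 (iv D4289)
def n4290 : Q := act 1 n3067
theorem D4290 : act 1 n3067 = n4290 := rfl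
theorem F13274 : act 2 n4290 = n3070 := d7_2 D3067 D4290 (iv D3070) (iv D2109) (iv F6508)
theorem F13275 : act 4 n4290 = n4290 := d9_2 F9456 D4290 (iv D4290)
def n4291 : Q := act 1 n3069
theorem D4291 : act 1 n3069 = n4291 := rfl
theorem F13276 : act 4 n4291 = n4291 := d9_2 F9462 D4291 (iv D4291)
theorem F13277 : act 7 n4291 = n3070 := d12_2 (iv F9464) D4291 (iv D3070)
def n4292 : Q := act 0 n3070
theorem D4292 : act 0 n3070 = n4292 := rfl
theorem F13278 : act 1 n4292 = n3079 := d0_2 D3070 D4292 (iv D3079) (iv D2118) (iv F6525)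
theorem F13279 : act 3 n4292 = n3071 := d2_2 (iv F9465) D4292 (iv D3071)
theorem F13280 : act 4 n4292 = n4292 := d3_2 F9466 D4292 (iv D4292)
def n4293 : Q := act 5 n3070
theorem D4293 : act 5 n3070 = n4293 := rfl
theorem F13281 : act 1 n4293 = n4293 := d10_1 D4293 (iv D4293) (iv D3070) F6528 D3070
theorem F13282 : act 3 n4293 = n3073 := d19_1 D4293 (iv D3073) (iv F9465)
theorem F13283 : act 4 n4293 = n4293 := d22_1 D4293 (iv D4293) F9466
def n4294 : Q := act 4 n3071
theorem D4294 : act 4 n3071 = n4294 := rfl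
theorem F13284 : act 0 n4294 = n3072 := d3_1 D4294 (iv D3072) D3071
theorem F13285 : act 1 n4294 = n3081 := d9_1 D4294 (iv D3081) (iv F9467)
theorem F13286 : act 3 n4294 = n4294 := d18_1 D4294 (iv D4294) (iv F13279) F13280 F13279
theorem F13287 : act 6 n3410 = n4294 := d11_0 F13285 (iv F9501) (iv F10491)
def n4295 : Q := act 5 n3071
theorem D4295 : act 5 n3071 = n4295 := rfl
theorem F13288 : act 0 n4295 = n3073 := d4_1 D4295 (iv D3073) D3071
def n4296 : Q := act 6 n3071
theorem D4296 : act 6 n3071 = n4296 := rfl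
theorem F13289 : act 0 n4296 = n3074 := d5_1 D4296 (iv D3074) D3071
theorem F13290 : act 1 n4296 = n3083 := d11_1 D4296 (iv D3083) (iv F9467)
theorem F13291 : act 4 n4296 = n3410 := d23_1 D4296 F13287 (iv D4294)
theorem F13292 : act 7 n4235 = n4296 := d12_0 F13290 (iv F9508) D4235
def n4297 : Q := act 5 n3072
theorem D4297 : act 5 n3072 = n4297 := rfl
theorem F13293 : act 1 n4297 = n4297 := d10_1 D4297 (iv D4297) F9468 F6532 (iv F9468)
theorem F13294 : act 3 n4297 = n4297 := d19_1 D4297 (iv D4297) F9469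
theorem F13295 : act 4 n4297 = n3073 := d22_1 D4297 (iv D3073) D3072
def n4298 : Q := act 6 n3073
theorem D4298 : act 6 n3073 = n4298 := rfl
theorem F13296 : act 1 n4298 = n4298 := d11_1 D4298 (iv D4298) F9471
def n4299 : Q := act 5 n3074
theorem D4299 : act 5 n3074 = n4299 := rfl
theorem F13297 : act 4 n4299 = n3411 := d22_1 D4299 (iv D3411) (iv F9473)
def n4300 : Q := act 7 n3074
theorem D4300 : act 7 n3074 = n4300 := rfl
theorem F13298 : act 0 n4300 = n4235 := d6_1 D4300 F13292 F13289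
theorem F13299 : act 1 n4300 = n3075 := d12_1 D4300 (iv D3075) (iv F9472)
theorem F13300 : act 3 n4300 = n4222 := d21_1 D4300 F13073 F9752 D3497 (iv F10757)
theorem F13301 : act 4 n4300 = n3328 := d24_1 D4300 F10259 (iv F9473)
def n4301 : Q := act 2 n3076
theorem D4301 : act 2 n3076 = n4301 := rfl
theorem F13302 : act 0 n4301 = n4301 := d1_1 D4301 (iv D4301) F9479
theorem F13303 : act 3 n4301 = n4301 := d13_2 (iv F9480) D4301 (iv D4301) F9480 F6545
theorem F13304 : act 4 n4301 = n3191 := d14_2 (iv F9481) D4301 (iv D3191)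
theorem F13305 : act 6 n4301 = n4301 := d16_2 F9482 D4301 (iv D4301)
def n4302 : Q := act 7 n3076
theorem D4302 : act 7 n3076 = n4302 := rfl
theorem F13306 : act 0 n4302 = n4302 := d6_1 D4302 (iv D4302) F9479
theorem F13307 : act 1 n4302 = n3077 := d12_1 D4302 (iv D3077) D3076
theorem F13308 : act 3 n4302 = n3120 := d21_1 D4302 F9621 F6662 (iv F6548) (iv F9480)
theorem F13309 : act 4 n4302 = n3115 := d24_1 D4302 F9607 (iv F9481)
def n4303 : Q := act 6 n3077
theorem D4303 : act 6 n3077 = n4303 := rfl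
theorem F13310 : act 0 n4303 = n3086 := d5_1 D4303 (iv D3086) (iv F9483)
theorem F13311 : act 2 n4303 = n4221 := d16_1 D4303 (iv D4221) (iv F9484)
theorem F13312 : act 3 n4303 = n3133 := d20_1 D4303 (iv D3133) (iv F9485)
theorem F13313 : act 4 n4303 = n3128 := d23_1 D4303 (iv D3128) (iv F9486)
theorem F13314 : act 7 n4303 = n4303 := d27_2 D3077 D4303 (iv D4303) (iv D3077) F6540
def n4304 : Q := act 0 n3078
theorem D4304 : act 0 n3078 = n4304 := rfl
theorem F13315 : act 2 n4304 = n4304 := d1_2 F9488 D4304 (iv D4304)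
theorem F13316 : act 4 n4304 = n4304 := d3_2 F9489 D4304 (iv D4304)
theorem F13317 : act 7 n4304 = n3079 := d6_2 (iv F9490) D4304 (iv D3079)
def n4305 : Q := act 5 n3078
theorem D4305 : act 5 n3078 = n4305 := rfl
theorem F13318 : act 1 n4305 = n4305 := d10_1 D4305 (iv D4305) (iv D3078) F6554 D3078
theorem F13319 : act 2 n4305 = n4305 := d15_1 D4305 (iv D4305) F9488
theorem F13320 : act 4 n4305 = n4305 := d22_1 D4305 (iv D4305) F9489
theorem F13321 : act 6 n4305 = n4305 := d25_2 F9817 D4305 (iv D4305) (iv F9817) F9816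
theorem F13322 : act 7 n4305 = n3080 := d26_2 (iv F9490) D4305 (iv D3080)
def n4306 : Q := act 5 n3079
theorem D4306 : act 5 n3079 = n4306 := rfl
theorem F13323 : act 0 n4306 = n3080 := d4_1 D4306 (iv D3080) D3079
theorem F13324 : act 2 n4306 = n4306 := d15_1 D4306 (iv D4306) F9491
theorem F13325 : act 3 n4306 = n3082 := d19_1 D4306 (iv D3082) (iv F9492)
theorem F13326 : act 4 n4306 = n4306 := d22_1 D4306 (iv D4306) F9493
def n4307 : Q := act 5 n3081
theorem D4307 : act 5 n3081 = n4307 := rfl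
theorem F13327 : act 0 n4307 = n3084 := d4_1 D4307 (iv D3084) (iv F9498)
theorem F13328 : act 2 n4307 = n3087 := d15_1 D4307 (iv D3087) (iv F9499)
theorem F13329 : act 3 n4307 = n4307 := d19_1 D4307 (iv D4307) F9500
theorem F13330 : act 4 n4307 = n3082 := d22_1 D4307 (iv D3082) D3081
def n4308 : Q := act 1 n3082
theorem D4308 : act 1 n3082 = n4308 := rfl
theorem F13331 : act 0 n4308 = n4308 := d0_1 D4308 (iv D4308) F9502 F6564 (iv F9502)
def n4309 : Q := act 6 n3082
theorem D4309 : act 6 n3082 = n4309 := rfl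
theorem F13332 : act 0 n4309 = n3085 := d5_1 D4309 (iv D3085) (iv F9502)
theorem F13333 : act 2 n4309 = n3089 := d16_1 D4309 (iv D3089) (iv F9503)
theorem F13334 : act 5 n4309 = n4237 := d25_1 D4309 (iv D4237) F9507 (iv D3083) D3082
def n4310 : Q := act 6 n3084
theorem D4310 : act 6 n3084 = n4310 := rfl
theorem F13335 : act 1 n4310 = n4310 := d11_1 D4310 (iv D4310) F9509
theorem F13336 : act 2 n4310 = n3092 := d16_1 D4310 (iv D3092) (iv F9510)
theorem F13337 : act 3 n4310 = n4310 := d20_1 D4310 (iv D4310) F9511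
theorem F13338 : act 4 n4310 = n3085 := d23_1 D4310 (iv D3085) (iv F9512)
theorem F13339 : act 5 n4310 = n3413 := d25_1 D4310 (iv D3413) (iv D2376) F6563 D3084
def n4311 : Q := act 7 n3085
theorem D4311 : act 7 n3085 = n4311 := rfl
theorem F13340 : act 1 n4311 = n4311 := d12_1 D4311 (iv D4311) F9513
theorem F13341 : act 2 n4311 = n3094 := d17_1 D4311 (iv D3094) (iv F9514)
theorem F13342 : act 3 n4311 = n4311 := d21_1 D4311 (iv D4311) (iv F9820) F9823 F9820
theorem F13343 : act 5 n4311 = n3280 := d26_1 D4311 F10136 (iv F9515)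
def n4312 : Q := act 1 n3087
theorem D4312 : act 1 n3087 = n4312 := rfl
theorem F13344 : act 0 n4312 = n3098 := d0_1 D4312 (iv D3098) F6612 (iv F6589) (iv F9521)
theorem F13345 : act 3 n4312 = n3552 := d8_2 (iv F9522) D4312 (iv D3552)
theorem F13346 : act 4 n4312 = n3088 := d9_2 (iv F9523) D4312 (iv D3088)
def n4313 : Q := act 6 n3087
theorem D4313 : act 6 n3087 = n4313 := rfl
theorem F13347 : act 0 n4313 = n3092 := d5_1 D4313 (iv D3092) (iv F9521)
theorem F13348 : act 3 n4313 = n3550 := d20_1 D4313 F10931 (iv F9522)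
theorem F13349 : act 4 n4313 = n3089 := d23_1 D4313 (iv D3089) (iv F9523)
theorem F13350 : act 5 n4313 = n3538 := d25_1 D4313 (iv D3538) (iv D2470) F6583 D3087
def n4314 : Q := act 2 n3088
theorem D4314 : act 2 n3088 = n4314 := rfl
theorem F13351 : act 0 n4314 = n3100 := d1_1 D4314 (iv D3100) (iv F9524)
def n4315 : Q := act 6 n3088
theorem D4315 : act 6 n3088 = n4315 := rfl
theorem F13352 : act 0 n4315 = n3101 := d5_1 D4315 (iv D3101) (iv F9524)
theorem F13353 : act 1 n4315 = n3089 := d11_1 D4315 (iv D3089) D3088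
theorem F13354 : act 3 n4315 = n4315 := d20_1 D4315 (iv D4315) F9525
def n4316 : Q := act 5 n3089
theorem D4316 : act 5 n3089 = n4316 := rfl
theorem F13355 : act 0 n4316 = n3093 := d4_1 D4316 (iv D3093) (iv F9526)
theorem F13356 : act 2 n4316 = n4237 := d15_1 D4316 (iv F13334) F13333
theorem F13357 : act 3 n4316 = n4316 := d19_1 D4316 (iv D4316) F9527
theorem F13358 : act 4 n4316 = n3538 := d22_1 D4316 (iv F13350) F13349
theorem F13359 : act 6 n4316 = n3090 := d25_2 D3089 D4316 (iv D3090) (iv D2127) D2126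
theorem F13360 : act 7 n3287 = n4316 := d27_0 F13359 (iv F9532) F7031 D2282 D3287
def n4317 : Q := act 7 n3089
theorem D4317 : act 7 n3089 = n4317 := rfl
theorem F13361 : act 0 n4317 = n3094 := d6_1 D4317 (iv D3094) (iv F9526)
theorem F13362 : act 5 n4317 = n3287 := d26_1 D4317 F13360 (iv D4316)
theorem F13363 : act 3 n3301 = n4317 := d19_3 F13362 F10153 D3301
def n4318 : Q := act 1 n3090
theorem D4318 : act 1 n3090 = n4318 := rfl
theorem F13364 : act 0 n4318 = n4318 := d0_1 D4318 (iv D4318) F9528 F6594 (iv F9528)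
theorem F13365 : act 3 n4318 = n4318 := d8_2 F9530 D4318 (iv D4318)
theorem F13366 : act 4 n4318 = n3537 := d9_2 (iv F9531) D4318 (iv D3537)
theorem F13367 : act 7 n4318 = n3265 := d12_2 F9532 D4318 F10084
def n4319 : Q := act 7 n3092
theorem D4319 : act 7 n3092 = n4319 := rfl
theorem F13368 : act 1 n4319 = n3108 := d12_1 D4319 (iv D3108) (iv F9538)
theorem F13369 : act 4 n4319 = n3094 := d24_1 D4319 (iv D3094) (iv F9540)
theorem F13370 : act 5 n4319 = n3289 := d26_1 D4319 F10159 (iv F9541)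
def n4320 : Q := act 5 n3095
theorem D4320 : act 5 n3095 = n4320 := rfl
theorem F13371 : act 0 n4320 = n3103 := d4_1 D4320 (iv D3103) (iv F9551)
theorem F13372 : act 2 n4320 = n3096 := d15_1 D4320 (iv D3096) D3095
theorem F13373 : act 3 n4320 = n4320 := d19_1 D4320 (iv D4320) F9553
theorem F13374 : act 4 n4320 = n4320 := d22_1 D4320 (iv D4320) F9554
def n4321 : Q := act 7 n3095
theorem D4321 : act 7 n3095 = n4321 := rfl
theorem F13375 : act 0 n4321 = n3104 := d6_1 D4321 (iv D3104) (iv F9551)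
theorem F13376 : act 1 n4321 = n4321 := d12_1 D4321 (iv D4321) F9552
theorem F13377 : act 2 n4321 = n3097 := d17_1 D4321 (iv D3097) D3095
theorem F13378 : act 4 n4321 = n4321 := d24_1 D4321 (iv D4321) F9554
def n4322 : Q := act 1 n3096
theorem D4322 : act 1 n3096 = n4322 := rfl
theorem F13379 : act 0 n4322 = n3552 := d0_1 D4322 (iv D3552) F7659 (iv F6624) (iv F9556)
theorem F13380 : act 3 n4322 = n3098 := d8_2 (iv F9557) D4322 (iv D3098)
theorem F13381 : act 4 n4322 = n4322 := d9_2 F9558 D4322 (iv D4322)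
def n4323 : Q := act 6 n3096
theorem D4323 : act 6 n3096 = n4323 := rfl
theorem F13382 : act 0 n4323 = n3105 := d5_1 D4323 (iv D3105) (iv F9556)
theorem F13383 : act 3 n4323 = n3099 := d20_1 D4323 (iv D3099) (iv F9557)
theorem F13384 : act 4 n4323 = n4323 := d23_1 D4323 (iv D4323) F9558
theorem F13385 : act 5 n4323 = n4323 := d25_1 D4323 (iv D4323) (iv D3096) F6611 D3096
def n4324 : Q := act 7 n3096
theorem D4324 : act 7 n3096 = n4324 := rfl
theorem F13386 : act 0 n4324 = n3106 := d6_1 D4324 (iv D3106) (iv F9556)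
theorem F13387 : act 4 n4324 = n4324 := d24_1 D4324 (iv D4324) F9558
theorem F13388 : act 5 n4324 = n3097 := d26_1 D4324 (iv D3097) D3096
def n4325 : Q := act 6 n3097
theorem D4325 : act 6 n3097 = n4325 := rfl
theorem F13389 : act 0 n4325 = n3107 := d5_1 D4325 (iv D3107) (iv F9559)
theorem F13390 : act 4 n4325 = n4325 := d23_1 D4325 (iv D4325) F9560
theorem F13391 : act 7 n4325 = n4325 := d27_2 D3097 D4325 (iv D4325) (iv D3097) F6611
def n4326 : Q := act 2 n3098
theorem D4326 : act 2 n3098 = n4326 := rfl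
theorem F13392 : act 1 n4326 = n4326 := d7_1 D4326 (iv D4326) (iv D3098) F6613 D3098
theorem F13393 : act 4 n4326 = n3100 := d14_2 (iv F9561) D4326 (iv D3100)
def n4327 : Q := act 6 n3098
theorem D4327 : act 6 n3098 = n4327 := rfl
theorem F13394 : act 1 n4327 = n3099 := d11_1 D4327 (iv D3099) D3098
theorem F13395 : act 4 n4327 = n3101 := d23_1 D4327 (iv D3101) (iv F9561)
def n4328 : Q := act 7 n3099
theorem D4328 : act 7 n3099 = n4328 := rfl
theorem F13396 : act 0 n4328 = n3108 := d6_1 D4328 (iv D3108) (iv F9562)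
theorem F13397 : act 2 n4328 = n4328 := d17_1 D4328 (iv D4328) F9563
theorem F13398 : act 4 n4328 = n3102 := d24_1 D4328 (iv D3102) (iv F9564)
theorem F13399 : act 5 n4328 = n4328 := d26_1 D4328 (iv D4328) F9565
def n4329 : Q := act 3 n3100
theorem D4329 : act 3 n3100 = n4329 := rfl
theorem F13400 : act 1 n4329 = n4329 := d8_1 D4329 (iv D4329) F9566
theorem F13401 : act 2 n4329 = n4329 := d13_1 D4329 (iv D4329) (iv D3100) F6615 D3100
def n4330 : Q := act 6 n3100
theorem D4330 : act 6 n3100 = n4330 := rfl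
theorem F13402 : act 1 n4330 = n4330 := d11_1 D4330 (iv D4330) F9566
theorem F13403 : act 2 n4330 = n3101 := d16_1 D4330 (iv D3101) D3100
def n4331 : Q := act 5 n3101
theorem D4331 : act 5 n3101 = n4331 := rfl
theorem F13404 : act 1 n4331 = n4331 := d10_1 D4331 (iv D4331) F9567 F6619 (iv F9567)
theorem F13405 : act 3 n4331 = n4331 := d19_1 D4331 (iv D4331) F9568
def n4332 : Q := act 7 n3101
theorem D4332 : act 7 n3101 = n4332 := rfl
theorem F13406 : act 1 n4332 = n3102 := d12_1 D4332 (iv D3102) (iv F9567)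
def n4333 : Q := act 3 n3102
theorem D4333 : act 3 n3102 = n4333 := rfl
theorem F13407 : act 0 n4333 = n3109 := d2_1 D4333 (iv D3109) (iv F9569)
theorem F13408 : act 5 n4333 = n4333 := d19_2 F9571 D4333 (iv D4333)
theorem F13409 : act 7 n4333 = n4333 := d21_2 D3102 D4333 (iv D4333) (iv D3102) F6618
def n4334 : Q := act 6 n3103
theorem D4334 : act 6 n3103 = n4334 := rfl
theorem F13410 : act 1 n4334 = n4334 := d11_1 D4334 (iv D4334) F9572
theorem F13411 : act 2 n4334 = n3105 := d16_1 D4334 (iv D3105) (iv F9573)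
theorem F13412 : act 3 n4334 = n4334 := d20_1 D4334 (iv D4334) F9574
theorem F13413 : act 4 n4334 = n4334 := d23_1 D4334 (iv D4334) F9575
theorem F13414 : act 5 n4334 = n4334 := d25_1 D4334 (iv D4334) (iv D3103) F6623 D3103
def n4335 : Q := act 7 n3103
theorem D4335 : act 7 n3103 = n4335 := rfl
theorem F13415 : act 1 n4335 = n4335 := d12_1 D4335 (iv D4335) F9572
theorem F13416 : act 2 n4335 = n3106 := d17_1 D4335 (iv D3106) (iv F9573)
theorem F13417 : act 4 n4335 = n4335 := d24_1 D4335 (iv D4335) F9575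
theorem F13418 : act 5 n4335 = n3104 := d26_1 D4335 (iv D3104) D3103
def n4336 : Q := act 3 n3104
theorem D4336 : act 3 n3104 = n4336 := rfl
theorem F13419 : act 1 n4336 = n3188 := d8_1 D4336 (iv D3188) (iv F9576)
theorem F13420 : act 2 n4336 = n3288 := d13_1 D4336 (iv D3288) (iv F9061) F9062 (iv F9577)
theorem F13421 : act 7 n4336 = n4336 := d21_2 D3104 D4336 (iv D4336) (iv D3104) F6621
theorem F13422 : act 4 n3302 = n4336 := d14_0 F13420 F10155 D3302
def n4337 : Q := act 6 n3104
theorem D4337 : act 6 n3104 = n4337 := rfl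
theorem F13423 : act 1 n4337 = n3189 := d11_1 D4337 (iv D3189) (iv F9576)
theorem F13424 : act 2 n4337 = n3107 := d16_1 D4337 (iv D3107) (iv F9577)
theorem F13425 : act 4 n4337 = n4337 := d23_1 D4337 (iv D4337) F9578
theorem F13426 : act 7 n4337 = n4337 := d27_2 D3104 D4337 (iv D4337) (iv D3104) F6623
def n4338 : Q := act 7 n3105
theorem D4338 : act 7 n3105 = n4338 := rfl
theorem F13427 : act 1 n4338 = n3555 := d12_1 D4338 (iv D3555) (iv F9579)
theorem F13428 : act 4 n4338 = n4338 := d24_1 D4338 (iv D4338) F9581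
theorem F13429 : act 5 n4338 = n4338 := d26_1 D4338 (iv D4338) F9582
def n4339 : Q := act 6 n3106
theorem D4339 : act 6 n3106 = n4339 := rfl
theorem F13430 : act 1 n4339 = n3558 := d11_1 D4339 (iv D3558) (iv F9583)
theorem F13431 : act 4 n4339 = n4339 := d23_1 D4339 (iv D4339) F9584
def n4340 : Q := act 5 n3107
theorem D4340 : act 5 n3107 = n4340 := rfl
theorem F13432 : act 1 n4340 = n4340 := d10_1 D4340 (iv D4340) F9586 F6636 (iv F9586)
theorem F13433 : act 4 n4340 = n4340 := d22_1 D4340 (iv D4340) F9587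
theorem F13434 : act 7 n4340 = n4340 := d26_2 F9588 D4340 (iv D4340)
def n4341 : Q := act 3 n3108
theorem D4341 : act 3 n3108 = n4341 := rfl
theorem F13435 : act 5 n4341 = n4341 := d19_2 F9591 D4341 (iv D4341)
def n4342 : Q := act 2 n3109
theorem D4342 : act 2 n3109 = n4342 := rfl
theorem F13436 : act 1 n4342 = n4342 := d7_1 D4342 (iv D4342) F9592 F7119 (iv F9592)
theorem F13437 : act 3 n4342 = n4342 := d13_2 D3109 D4342 (iv D4342) (iv D3109) F6632
theorem F13438 : act 5 n4342 = n4342 := d15_2 F9593 D4342 (iv D4342)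
theorem F13439 : act 6 n4342 = n3486 := d16_2 F12859 D4342 F12861
theorem F13440 : act 7 n4342 = n4342 := d17_2 F9594 D4342 (iv D4342)
def n4343 : Q := act 4 n3109
theorem D4343 : act 4 n3109 = n4343 := rfl
theorem F13441 : act 1 n4343 = n3304 := d9_1 D4343 F10202 (iv F9592)
theorem F13442 : act 5 n4343 = n4343 := d22_2 F9593 D4343 (iv D4343)
theorem F13443 : act 7 n4343 = n4343 := d24_2 F9594 D4343 (iv D4343)
def n4344 : Q := act 3 n3110
theorem D4344 : act 3 n3110 = n4344 := rfl
theorem F13444 : act 0 n4344 = n4344 := d2_1 D4344 (iv D4344) F9595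
def n4345 : Q := act 6 n3110
theorem D4345 : act 6 n3110 = n4345 := rfl
theorem F13445 : act 0 n4345 = n4345 := d5_1 D4345 (iv D4345) F9595
theorem F13446 : act 2 n4345 = n3116 := d16_1 D4345 (iv D3116) (iv F9596)
theorem F13447 : act 4 n4345 = n3114 := d23_1 D4345 (iv D3114) (iv F9597)
def n4346 : Q := act 0 n3111
theorem D4346 : act 0 n3111 = n4346 := rfl
theorem F13448 : act 1 n4346 = n4346 := d0_2 D3111 D4346 (iv D4346) (iv D3111) F6640
theorem F13449 : act 2 n4346 = n3307 := d1_2 (iv F9598) D4346 (iv D3307)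
theorem F13450 : act 4 n4346 = n3820 := d3_2 F11217 D4346 F11809
def n4347 : Q := act 7 n3111
theorem D4347 : act 7 n3111 = n4347 := rfl
theorem F13451 : act 1 n4347 = n3112 := d12_1 D4347 (iv D3112) D3111
theorem F13452 : act 2 n4347 = n3308 := d17_1 D4347 (iv D3308) (iv F9598)
def n4348 : Q := act 3 n3112
theorem D4348 : act 3 n3112 = n4348 := rfl
theorem F13453 : act 0 n4348 = n4348 := d2_1 D4348 (iv D4348) F9599
theorem F13454 : act 5 n4348 = n3113 := d19_2 (iv F9601) D4348 (iv D3113)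
def n4349 : Q := act 6 n3112
theorem D4349 : act 6 n3112 = n4349 := rfl
theorem F13455 : act 0 n4349 = n4349 := d5_1 D4349 (iv D4349) F9599
theorem F13456 : act 2 n4349 = n3118 := d16_1 D4349 (iv D3118) (iv F9600)
def n4350 : Q := act 2 n3113
theorem D4350 : act 2 n3113 = n4350 := rfl
theorem F13457 : act 0 n4350 = n4350 := d1_1 D4350 (iv D4350) F9602
theorem F13458 : act 3 n4350 = n3119 := d13_2 D3113 D4350 (iv D3119) (iv D2148) (iv F6643)
def n4351 : Q := act 4 n3113
theorem D4351 : act 4 n3113 = n4351 := rfl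
theorem F13459 : act 0 n4351 = n4351 := d3_1 D4351 (iv D4351) F9602
def n4352 : Q := act 6 n3113
theorem D4352 : act 6 n3113 = n4352 := rfl
theorem F13460 : act 0 n4352 = n4352 := d5_1 D4352 (iv D4352) F9602
theorem F13461 : act 3 n4352 = n3114 := d20_1 D4352 (iv D3114) D3113
def n4353 : Q := act 5 n3114
theorem D4353 : act 5 n3114 = n4353 := rfl
theorem F13462 : act 0 n4353 = n4353 := d4_1 D4353 (iv D4353) F9603
theorem F13463 : act 2 n4353 = n3122 := d15_1 D4353 (iv D3122) (iv F9604)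
def n4354 : Q := act 2 n3115
theorem D4354 : act 2 n3115 = n4354 := rfl
theorem F13464 : act 0 n4354 = n4354 := d1_1 D4354 (iv D4354) F9605
theorem F13465 : act 7 n4354 = n3191 := d17_2 (iv F9607) D4354 (iv D3191)
def n4355 : Q := act 6 n3115
theorem D4355 : act 6 n3115 = n4355 := rfl
theorem F13466 : act 0 n4355 = n4355 := d5_1 D4355 (iv D4355) F9605
theorem F13467 : act 1 n4355 = n3128 := d11_1 D4355 (iv D3128) (iv F9606)
theorem F13468 : act 3 n4355 = n3116 := d20_1 D4355 (iv D3116) D3115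
theorem F13469 : act 7 n4355 = n4355 := d27_2 (iv F9607) D4355 (iv D4355) F9607 F6842
def n4356 : Q := act 5 n3116
theorem D4356 : act 5 n3116 = n4356 := rfl
theorem F13470 : act 0 n4356 = n4356 := d4_1 D4356 (iv D4356) F9608
theorem F13471 : act 4 n4356 = n3122 := d22_1 D4356 (iv D3122) (iv F9610)
def n4357 : Q := act 2 n3117
theorem D4357 : act 2 n3117 = n4357 := rfl
theorem F13472 : act 0 n4357 = n4357 := d1_1 D4357 (iv D4357) F9611
theorem F13473 : act 5 n4357 = n3119 := d15_2 (iv F9613) D4357 (iv D3119)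
theorem F13474 : act 7 n4357 = n3123 := d17_2 (iv F9614) D4357 (iv D3123)
def n4358 : Q := act 6 n3117
theorem D4358 : act 6 n3117 = n4358 := rfl
theorem F13475 : act 0 n4358 = n4358 := d5_1 D4358 (iv D4358) F9611
theorem F13476 : act 1 n4358 = n3319 := d11_1 D4358 (iv D3319) (iv F9612)
theorem F13477 : act 3 n4358 = n3118 := d20_1 D4358 (iv D3118) D3117
theorem F13478 : act 7 n4358 = n4358 := d27_2 (iv F9614) D4358 (iv D4358) F9614 F6658
def n4359 : Q := act 5 n3118
theorem D4359 : act 5 n3118 = n4359 := rfl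
theorem F13479 : act 0 n4359 = n4359 := d4_1 D4359 (iv D4359) F9615
theorem F13480 : act 6 n4359 = n3122 := d25_2 D3118 D4359 (iv D3122) (iv D2149) (iv F6649)
def n4360 : Q := act 1 n3119
theorem D4360 : act 1 n3119 = n4360 := rfl
theorem F13481 : act 2 n4360 = n3130 := d7_2 D3119 D4360 (iv D3130) (iv D2156) (iv F6651)
theorem F13482 : act 7 n4360 = n3124 := d12_2 (iv F9618) D4360 (iv D3124)
def n4361 : Q := act 4 n3119
theorem D4361 : act 4 n3119 = n4361 := rfl
theorem F13483 : act 0 n4361 = n4361 := d3_1 D4361 (iv D4361) F9617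
theorem F13484 : act 2 n4361 = n3120 := d14_1 D4361 (iv D3120) D3119
theorem F13485 : act 7 n4361 = n3125 := d24_2 (iv F9618) D4361 (iv D3125)
def n4362 : Q := act 6 n3119
theorem D4362 : act 6 n3119 = n4362 := rfl
theorem F13486 : act 0 n4362 = n4362 := d5_1 D4362 (iv D4362) F9617
theorem F13487 : act 2 n4362 = n3121 := d16_1 D4362 (iv D3121) D3119
def n4363 : Q := act 6 n3120
theorem D4363 : act 6 n3120 = n4363 := rfl
theorem F13488 : act 0 n4363 = n4363 := d5_1 D4363 (iv D4363) F9619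
theorem F13489 : act 1 n4363 = n3133 := d11_1 D4363 (iv D3133) (iv F9620)
theorem F13490 : act 4 n4363 = n3121 := d23_1 D4363 (iv D3121) D3120
theorem F13491 : act 7 n4363 = n3357 := d27_2 (iv F9621) D4363 (iv D3357) (iv D2330) F6663
def n4364 : Q := act 5 n3121
theorem D4364 : act 5 n3121 = n4364 := rfl
theorem F13492 : act 0 n4364 = n4364 := d4_1 D4364 (iv D4364) F9622
theorem F13493 : act 3 n4364 = n3122 := d19_1 D4364 (iv D3122) (iv F9624)
def n4365 : Q := act 1 n3122
theorem D4365 : act 1 n3122 = n4365 := rfl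
theorem F13494 : act 5 n4365 = n3134 := d10_2 D3122 D4365 (iv D3134) (iv D2159) (iv F6654)
def n4366 : Q := act 1 n3123
theorem D4366 : act 1 n3123 = n4366 := rfl
theorem F13495 : act 2 n4366 = n3325 := d7_2 D3123 D4366 (iv D3325) (iv D2307) (iv F6656)
theorem F13496 : act 6 n4366 = n4366 := d11_2 F9628 D4366 (iv D4366)
def n4367 : Q := act 0 n3124
theorem D4367 : act 0 n3124 = n4367 := rfl
theorem F13497 : act 1 n4367 = n4367 := d0_2 D3124 D4367 (iv D4367) (iv D3124) F6659
theorem F13498 : act 2 n4367 = n3135 := d1_2 (iv F9629) D4367 (iv D3135)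
def n4368 : Q := act 4 n3124
theorem D4368 : act 4 n3124 = n4368 := rfl
theorem F13499 : act 1 n4368 = n3125 := d9_1 D4368 (iv D3125) D3124
theorem F13500 : act 2 n4368 = n3136 := d14_1 D4368 (iv D3136) (iv F9629)
theorem F13501 : act 3 n4368 = n4368 := d18_1 D4368 (iv D4368) (iv F12163) F12164 F12163
theorem F13502 : act 6 n3346 = n4368 := d16_0 F13500 (iv F9665) D3346
def n4369 : Q := act 5 n3124
theorem D4369 : act 5 n3124 = n4369 := rfl
theorem F13503 : act 2 n4369 = n3137 := d15_1 D4369 (iv D3137) (iv F9629)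
def n4370 : Q := act 6 n3124
theorem D4370 : act 6 n3124 = n4370 := rfl
theorem F13504 : act 1 n4370 = n3126 := d11_1 D4370 (iv D3126) D3124
theorem F13505 : act 2 n4370 = n3138 := d16_1 D4370 (iv D3138) (iv F9629)
theorem F13506 : act 4 n4370 = n3346 := d23_1 D4370 F13502 (iv D4368)
def n4371 : Q := act 1 n3127
theorem D4371 : act 1 n3127 = n4371 := rfl
theorem F13507 : act 0 n4371 = n3603 := d0_1 D4371 F11078 F7798 F6709 (iv F9638)
theorem F13508 : act 3 n4371 = n3600 := d8_2 (iv F9639) D4371 F11067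
theorem F13509 : act 4 n4371 = n3764 := d9_2 (iv F9640) D4371 F11591
theorem F13510 : act 7 n4371 = n3192 := d12_2 (iv F9642) D4371 (iv D3192)
def n4372 : Q := act 6 n3127
theorem D4372 : act 6 n3127 = n4372 := rfl
theorem F13511 : act 0 n4372 = n3147 := d5_1 D4372 (iv D3147) (iv F9638)
theorem F13512 : act 2 n4372 = n3128 := d16_1 D4372 (iv D3128) D3127
theorem F13513 : act 3 n4372 = n4051 := d20_1 D4372 (iv D4051) (iv F9639)
theorem F13514 : act 4 n4372 = n4221 := d23_1 D4372 (iv D4221) (iv F9640)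
theorem F13515 : act 7 n4372 = n4372 := d27_2 (iv F9642) D4372 (iv D4372) F9642 F6846
def n4373 : Q := act 5 n3128
theorem D4373 : act 5 n3128 = n4373 := rfl
theorem F13516 : act 0 n4373 = n3148 := d4_1 D4373 (iv D3148) (iv F9643)
theorem F13517 : act 3 n4373 = n3129 := d19_1 D4373 (iv D3129) (iv F9644)
theorem F13518 : act 6 n4373 = n3330 := d25_2 D3128 D4373 (iv D3330) (iv D2310) (iv F6670)
theorem F13519 : act 7 n4373 = n4373 := d26_2 F9645 D4373 (iv D4373)
def n4374 : Q := act 1 n3129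
theorem D4374 : act 1 n3129 = n4374 := rfl
theorem F13520 : act 4 n4374 = n3134 := d9_2 (iv F9647) D4374 (iv D3134)
theorem F13521 : act 6 n4374 = n3331 := d11_2 (iv F9648) D4374 (iv D3331)
def n4375 : Q := act 0 n3130
theorem D4375 : act 0 n3130 = n4375 := rfl
theorem F13522 : act 1 n4375 = n3149 := d0_2 D3130 D4375 (iv D3149) (iv D2171) (iv F6674)
theorem F13523 : act 3 n4375 = n4183 := d2_2 F12931 D4375 F12950
theorem F13524 : act 7 n4375 = n3135 := d6_2 (iv F9649) D4375 (iv D3135)
theorem F13525 : act 4 n4193 = n4375 := d24_3 F13524 (iv F10313) (iv F12981)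
def n4376 : Q := act 4 n3130
theorem D4376 : act 4 n3130 = n4376 := rfl
theorem F13526 : act 0 n4376 = n4193 := d3_1 D4376 F13525 (iv D4375)
theorem F13527 : act 1 n4376 = n3131 := d9_1 D4376 (iv D3131) D3130
theorem F13528 : act 3 n4376 = n4190 := d18_1 D4376 (iv D4190) (iv F12948) (iv F12949) F12931
theorem F13529 : act 7 n4376 = n3136 := d24_2 (iv F9649) D4376 (iv D3136)
def n4377 : Q := act 5 n3130
theorem D4377 : act 5 n3130 = n4377 := rfl
theorem F13530 : act 1 n4377 = n3333 := d10_1 D4377 (iv D3333) (iv D2312) (iv F6675) D3130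
theorem F13531 : act 7 n4377 = n3137 := d26_2 (iv F9649) D4377 (iv D3137)
def n4378 : Q := act 6 n3130
theorem D4378 : act 6 n3130 = n4378 := rfl
theorem F13532 : act 1 n4378 = n3132 := d11_1 D4378 (iv D3132) D3130
def n4379 : Q := act 6 n3131
theorem D4379 : act 6 n3131 = n4379 := rfl
theorem F13533 : act 0 n4379 = n3151 := d5_1 D4379 (iv D3151) (iv F9650)
theorem F13534 : act 2 n4379 = n3133 := d16_1 D4379 (iv D3133) (iv F9651)
theorem F13535 : act 3 n4379 = n4218 := d20_1 D4379 (iv D4218) (iv F9652)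
theorem F13536 : act 4 n4379 = n3132 := d23_1 D4379 (iv D3132) D3131
theorem F13537 : act 7 n4379 = n3355 := d27_2 (iv F9654) D4379 (iv D3355) (iv D2327) F6689
def n4380 : Q := act 2 n3134
theorem D4380 : act 2 n3134 = n4380 := rfl
theorem F13538 : act 6 n4380 = n3338 := d16_2 (iv F9660) D4380 (iv D3338)
def n4381 : Q := act 5 n3135
theorem D4381 : act 5 n3135 = n4381 := rfl
theorem F13539 : act 0 n4381 = n3137 := d4_1 D4381 (iv D3137) D3135
theorem F13540 : act 3 n4381 = n3140 := d19_1 D4381 (iv D3140) (iv F9662)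
def n4382 : Q := act 6 n3135
theorem D4382 : act 6 n3135 = n4382 := rfl
theorem F13541 : act 0 n4382 = n3138 := d5_1 D4382 (iv D3138) D3135
theorem F13542 : act 1 n4382 = n3153 := d11_1 D4382 (iv D3153) (iv F9661)
theorem F13543 : act 3 n4382 = n3141 := d20_1 D4382 (iv D3141) (iv F9662)
theorem F13544 : act 4 n4382 = n3341 := d23_1 D4382 (iv F10314) F10313
def n4383 : Q := act 5 n3136
theorem D4383 : act 5 n3136 = n4383 := rfl
theorem F13545 : act 1 n4383 = n3144 := d10_1 D4383 (iv D3144) F6700 (iv F6688) (iv F9663)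
theorem F13546 : act 3 n4383 = n3350 := d19_1 D4383 (iv D3350) (iv F9664)
theorem F13547 : act 4 n4383 = n3137 := d22_1 D4383 (iv D3137) D3136
def n4384 : Q := act 6 n3137
theorem D4384 : act 6 n3137 = n4384 := rfl
theorem F13548 : act 1 n4384 = n3340 := d11_1 D4384 (iv D3340) (iv F9666)
theorem F13549 : act 3 n4384 = n3143 := d20_1 D4384 (iv D3143) (iv F9667)
def n4385 : Q := act 5 n3138
theorem D4385 : act 5 n3138 = n4385 := rfl
theorem F13550 : act 1 n4385 = n3350 := d10_1 D4385 (iv D3350) F7186 (iv F6694) (iv F9668)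
theorem F13551 : act 3 n4385 = n3144 := d19_1 D4385 (iv D3144) (iv F9669)
theorem F13552 : act 4 n4385 = n3347 := d22_1 D4385 (iv D3347) (iv F9670)
def n4386 : Q := act 5 n3139
theorem D4386 : act 5 n3139 = n4386 := rfl
theorem F13553 : act 0 n4386 = n3142 := d4_1 D4386 (iv D3142) (iv F9671)
theorem F13554 : act 3 n4386 = n3345 := d19_1 D4386 (iv D3345) F9673
theorem F13555 : act 4 n4386 = n3140 := d22_1 D4386 (iv D3140) D3139
def n4387 : Q := act 1 n3140
theorem D4387 : act 1 n3140 = n4387 := rfl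
theorem F13556 : act 0 n4387 = n3343 := d0_1 D4387 (iv D3343) F7178 (iv F6699) (iv F9675)
theorem F13557 : act 5 n4387 = n3156 := d10_2 D3140 D4387 (iv D3156) (iv D2179) (iv F6695)
def n4388 : Q := act 6 n3140
theorem D4388 : act 6 n3140 = n4388 := rfl
theorem F13558 : act 0 n4388 = n3143 := d5_1 D4388 (iv D3143) (iv F9675)
def n4389 : Q := act 5 n3141
theorem D4389 : act 5 n3141 = n4389 := rfl
theorem F13559 : act 0 n4389 = n3144 := d4_1 D4389 (iv D3144) (iv F9676)
theorem F13560 : act 4 n4389 = n3339 := d22_1 D4389 (iv D3339) (iv F9678)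
def n4390 : Q := act 7 n3141
theorem D4390 : act 7 n3141 = n4390 := rfl
theorem F13561 : act 0 n4390 = n3145 := d6_1 D4390 (iv D3145) (iv F9676)
theorem F13562 : act 1 n4390 = n3159 := d12_1 D4390 (iv D3159) (iv F9677)
theorem F13563 : act 4 n4390 = n3332 := d24_1 D4390 F10267 (iv F9678)
theorem F13564 : act 3 n3245 = n4390 := d8_0 F13562 (iv F9737) D3245
def n4391 : Q := act 6 n3142
theorem D4391 : act 6 n3142 = n4391 := rfl
theorem F13565 : act 1 n4391 = n3349 := d11_1 D4391 (iv D3349) (iv F9679)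
theorem F13566 : act 3 n4391 = n3351 := d20_1 D4391 F10305 (iv F9680)
theorem F13567 : act 4 n4391 = n3143 := d23_1 D4391 (iv D3143) (iv F9681)
theorem F13568 : act 5 n4391 = n3340 := d25_1 D4391 (iv D3340) (iv D2317) F6698 D3142
def n4392 : Q := act 5 n3143
theorem D4392 : act 5 n3143 = n4392 := rfl
theorem F13569 : act 4 n4392 = n3340 := d22_1 D4392 (iv F13568) F13567
theorem F13570 : act 6 n4392 = n3144 := d25_2 D3143 D4392 (iv D3144) (iv D2166) D2165
def n4393 : Q := act 7 n3143
theorem D4393 : act 7 n3143 = n4393 := rfl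
theorem F13571 : act 1 n4393 = n3352 := d12_1 D4393 (iv D3352) (iv F9682)
def n4394 : Q := act 7 n3144
theorem D4394 : act 7 n3144 = n4394 := rfl
theorem F13572 : act 4 n4394 = n3333 := d24_1 D4394 F10268 (iv F9683)
theorem F13573 : act 5 n4394 = n3145 := d26_1 D4394 (iv D3145) D3144
def n4395 : Q := act 3 n3145
theorem D4395 : act 3 n3145 = n4395 := rfl
theorem F13574 : act 0 n4395 = n3245 := d2_1 D4395 F13564 F13561
theorem F13575 : act 1 n4395 = n3146 := d8_1 D4395 (iv D3146) (iv F9684)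
theorem F13576 : act 4 n4219 = n4395 := d9_0 F13575 (iv F9689) D4219
def n4396 : Q := act 5 n3147
theorem D4396 : act 5 n3147 = n4396 := rfl
theorem F13577 : act 2 n4396 = n3148 := d15_1 D4396 (iv D3148) (iv F9691)
theorem F13578 : act 3 n4396 = n4056 := d19_1 D4396 (iv D4056) (iv F9692)
theorem F13579 : act 4 n4396 = n4217 := d22_1 D4396 F13056 (iv F9693)
theorem F13580 : act 6 n4396 = n3360 := d25_2 D3147 D4396 (iv D3360) (iv D2333) (iv F6707)
theorem F13581 : act 7 n4396 = n4396 := d26_2 F9694 D4396 (iv D4396)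
def n4397 : Q := act 6 n3149
theorem D4397 : act 6 n3149 = n4397 := rfl
theorem F13582 : act 0 n4397 = n3150 := d5_1 D4397 (iv D3150) D3149
theorem F13583 : act 2 n4397 = n4397 := d16_1 D4397 (iv D4397) F9698
theorem F13584 : act 3 n4397 = n4186 := d20_1 D4397 (iv D4186) (iv F9699)
theorem F13585 : act 4 n4397 = n4199 := d23_1 D4397 (iv D4199) (iv F9700)
def n4398 : Q := act 1 n3152
theorem D4398 : act 1 n3152 = n4398 := rfl
theorem F13586 : act 0 n4398 = n3368 := d0_1 D4398 (iv D3368) F7233 (iv F6730) (iv F9711)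
theorem F13587 : act 3 n4398 = n3156 := d8_2 (iv F9713) D4398 (iv D3156)
def n4399 : Q := act 6 n3152
theorem D4399 : act 6 n3152 = n4399 := rfl
theorem F13588 : act 0 n4399 = n3154 := d5_1 D4399 (iv D3154) (iv F9711)
theorem F13589 : act 2 n4399 = n4399 := d16_1 D4399 (iv D4399) F9712
theorem F13590 : act 3 n4399 = n3157 := d20_1 D4399 (iv D3157) (iv F9713)
def n4400 : Q := act 1 n3155
theorem D4400 : act 1 n3155 = n4400 := rfl
theorem F13591 : act 0 n4400 = n3372 := d0_1 D4400 (iv D3372) F7241 (iv F6746) (iv F9721)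
theorem F13592 : act 3 n4400 = n3378 := d8_2 (iv F9723) D4400 (iv D3378)
theorem F13593 : act 4 n4400 = n3156 := d9_2 (iv F9724) D4400 (iv D3156)
theorem F13594 : act 7 n4400 = n4395 := d12_2 (iv F9725) D4400 F13575
def n4401 : Q := act 6 n3155
theorem D4401 : act 6 n3155 = n4401 := rfl
theorem F13595 : act 0 n4401 = n3160 := d5_1 D4401 (iv D3160) (iv F9721)
theorem F13596 : act 2 n4401 = n3164 := d16_1 D4401 (iv D3164) (iv F9722)
theorem F13597 : act 3 n4401 = n3376 := d20_1 D4401 F10382 (iv F9723)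
theorem F13598 : act 4 n4401 = n3157 := d23_1 D4401 (iv D3157) (iv F9724)
theorem F13599 : act 5 n4401 = n3369 := d25_1 D4401 (iv D3369) (iv D2341) F6740 D3155
def n4402 : Q := act 2 n3156
theorem D4402 : act 2 n3156 = n4402 := rfl
theorem F13600 : act 0 n4402 = n3374 := d1_1 D4402 (iv D3374) (iv F9726)
theorem F13601 : act 1 n4402 = n3165 := d7_1 D4402 (iv D3165) (iv D2187) (iv F6742) D3156
def n4403 : Q := act 6 n3156
theorem D4403 : act 6 n3156 = n4403 := rfl
theorem F13602 : act 0 n4403 = n3375 := d5_1 D4403 (iv D3375) (iv F9726)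
theorem F13603 : act 1 n4403 = n3157 := d11_1 D4403 (iv D3157) D3156
def n4404 : Q := act 5 n3157
theorem D4404 : act 5 n3157 = n4404 := rfl
theorem F13604 : act 0 n4404 = n3161 := d4_1 D4404 (iv D3161) (iv F9727)
theorem F13605 : act 2 n4404 = n3167 := d15_1 D4404 (iv D3167) (iv F9728)
theorem F13606 : act 4 n4404 = n3369 := d22_1 D4404 (iv F13599) F13598
theorem F13607 : act 6 n4404 = n3158 := d25_2 D3157 D4404 (iv D3158) (iv D2180) D2179
theorem F13608 : act 7 n3229 = n4404 := d27_0 F13607 (iv F9732) (iv D2234) (iv F6903) D3229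
def n4405 : Q := act 7 n3157
theorem D4405 : act 7 n3157 = n4405 := rfl
theorem F13609 : act 0 n4405 = n3162 := d6_1 D4405 (iv D3162) (iv F9727)
theorem F13610 : act 2 n4405 = n3168 := d17_1 D4405 (iv D3168) (iv F9728)
theorem F13611 : act 5 n4405 = n3229 := d26_1 D4405 F13608 (iv D4404)
theorem F13612 : act 3 n3335 = n4405 := d19_3 F13611 F9970 D3335
def n4406 : Q := act 1 n3158
theorem D4406 : act 1 n3158 = n4406 := rfl
theorem F13613 : act 4 n4406 = n3368 := d9_2 (iv F9731) D4406 (iv D3368)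
theorem F13614 : act 7 n4406 = n3235 := d12_2 F9732 D4406 F9979
def n4407 : Q := act 7 n3160
theorem D4407 : act 7 n3160 = n4407 := rfl
theorem F13615 : act 1 n4407 = n3381 := d12_1 D4407 (iv D3381) (iv F9738)
theorem F13616 : act 2 n4407 = n3170 := d17_1 D4407 (iv D3170) (iv F9739)
theorem F13617 : act 3 n4407 = n4209 := d21_1 D4407 (iv D4209) F9200 F7264 (iv F9740)
theorem F13618 : act 4 n4407 = n3162 := d24_1 D4407 (iv D3162) (iv F9741)
theorem F13619 : act 5 n4407 = n3255 := d26_1 D4407 F10045 (iv F9742)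
theorem F13620 : act 6 n4407 = n4214 := d27_1 D4407 F13043 F9252 F6763 D3160
def n4408 : Q := act 2 n3163
theorem D4408 : act 2 n3163 = n4408 := rfl
theorem F13621 : act 0 n4408 = n3175 := d1_1 D4408 (iv D3175) (iv F9751)
theorem F13622 : act 4 n4408 = n3165 := d14_2 (iv F9753) D4408 (iv D3165)
def n4409 : Q := act 6 n3163
theorem D4409 : act 6 n3163 = n4409 := rfl
theorem F13623 : act 0 n4409 = n3176 := d5_1 D4409 (iv D3176) (iv F9751)
theorem F13624 : act 1 n4409 = n3164 := d11_1 D4409 (iv D3164) D3163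
theorem F13625 : act 3 n4409 = n3493 := d20_1 D4409 F10745 (iv F9752)
theorem F13626 : act 4 n4409 = n3166 := d23_1 D4409 (iv D3166) (iv F9753)
def n4410 : Q := act 7 n3164
theorem D4410 : act 7 n3164 = n4410 := rfl
theorem F13627 : act 0 n4410 = n3170 := d6_1 D4410 (iv D3170) (iv F9754)
theorem F13628 : act 4 n4410 = n3168 := d24_1 D4410 (iv D3168) (iv F9756)
theorem F13629 : act 5 n4410 = n3230 := d26_1 D4410 F9973 (iv F9757)
def n4411 : Q := act 3 n3165
theorem D4411 : act 3 n3165 = n4411 := rfl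
theorem F13630 : act 0 n4411 = n3178 := d2_1 D4411 (iv D3178) (iv F9758)
theorem F13631 : act 2 n4411 = n4411 := d13_1 D4411 (iv D4411) (iv D3165) F6769 D3165
def n4412 : Q := act 6 n3165
theorem D4412 : act 6 n3165 = n4412 := rfl
theorem F13632 : act 0 n4412 = n3179 := d5_1 D4412 (iv D3179) (iv F9758)
theorem F13633 : act 2 n4412 = n3166 := d16_1 D4412 (iv D3166) D3165
def n4413 : Q := act 5 n3166
theorem D4413 : act 5 n3166 = n4413 := rfl
theorem F13634 : act 0 n4413 = n3180 := d4_1 D4413 (iv D3180) (iv F9759)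
theorem F13635 : act 3 n4413 = n4413 := d19_1 D4413 (iv D4413) F9761
def n4414 : Q := act 7 n3166
theorem D4414 : act 7 n3166 = n4414 := rfl
theorem F13636 : act 0 n4414 = n3181 := d6_1 D4414 (iv D3181) (iv F9759)
theorem F13637 : act 1 n4414 = n3168 := d12_1 D4414 (iv D3168) (iv F9760)
theorem F13638 : act 3 n3231 = n4414 := d8_0 F13637 (iv F9769) D3231
def n4415 : Q := act 1 n3167
theorem D4415 : act 1 n3167 = n4415 := rfl
theorem F13639 : act 0 n4415 = n4415 := d0_1 D4415 (iv D4415) F9762 F6784 (iv F9762)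
theorem F13640 : act 3 n4415 = n4415 := d8_2 F9763 D4415 (iv D4415)
theorem F13641 : act 4 n4415 = n3488 := d9_2 (iv F9764) D4415 F10727
theorem F13642 : act 6 n4415 = n3169 := d11_2 (iv F9765) D4415 (iv D3169)
theorem F13643 : act 7 n4415 = n3209 := d12_2 F9766 D4415 F9899
def n4416 : Q := act 2 n3169
theorem D4416 : act 2 n3169 = n4416 := rfl
theorem F13644 : act 0 n4416 = n4416 := d1_1 D4416 (iv D4416) F9770
theorem F13645 : act 4 n4416 = n3487 := d14_2 (iv F9772) D4416 (iv D3487)
theorem F13646 : act 7 n4416 = n3219 := d17_2 (iv F9773) D4416 F9930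
def n4417 : Q := act 3 n3170
theorem D4417 : act 3 n3170 = n4417 := rfl
theorem F13647 : act 1 n4417 = n3185 := d8_1 D4417 (iv D3185) (iv F9774)
theorem F13648 : act 2 n4417 = n4057 := d13_1 D4417 F12606 (iv F13020) (iv F13617) F13616
theorem F13649 : act 4 n4417 = n3251 := d18_2 (iv F9775) D4417 F10030 F6963 F6791
theorem F13650 : act 5 n4417 = n3250 := d19_2 (iv F9776) D4417 F10027
theorem F13651 : act 6 n4417 = n4045 := d20_2 F13026 D4417 (iv F13024)
theorem F13652 : act 7 n4417 = n3498 := d21_2 D3170 D4417 (iv D3498) (iv D2443) (iv F6781)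
def n4418 : Q := act 2 n3171
theorem D4418 : act 2 n3171 = n4418 := rfl
theorem F13653 : act 0 n4418 = n3496 := d1_1 D4418 (iv D3496) (iv F9777)
theorem F13654 : act 1 n4418 = n4418 := d7_1 D4418 (iv D4418) (iv D3171) F6793 D3171
theorem F13655 : act 4 n4418 = n4418 := d14_2 F9779 D4418 (iv D4418)
def n4419 : Q := act 6 n3171
theorem D4419 : act 6 n3171 = n4419 := rfl
theorem F13656 : act 0 n4419 = n3493 := d5_1 D4419 F10745 (iv F9777)
theorem F13657 : act 1 n4419 = n3172 := d11_1 D4419 (iv D3172) D3171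
theorem F13658 : act 3 n4419 = n3176 := d20_1 D4419 (iv D3176) (iv F9778)
theorem F13659 : act 4 n4419 = n4419 := d23_1 D4419 (iv D4419) F9779
def n4420 : Q := act 7 n3171
theorem D4420 : act 7 n3171 = n4420 := rfl
theorem F13660 : act 0 n4420 = n3497 := d6_1 D4420 (iv D3497) (iv F9777)
theorem F13661 : act 1 n4420 = n3173 := d12_1 D4420 (iv D3173) D3171
theorem F13662 : act 3 n4420 = n4296 := d21_1 D4420 (iv F13292) F13109 F9317 (iv F9778)
theorem F13663 : act 4 n4420 = n4420 := d24_1 D4420 (iv D4420) F9779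
theorem F13664 : act 6 n4292 = n4420 := d20_0 F13662 (iv D4296) (iv F13279)
def n4421 : Q := act 7 n3172
theorem D4421 : act 7 n3172 = n4421 := rfl
theorem F13665 : act 0 n4421 = n3183 := d6_1 D4421 (iv D3183) (iv F9780)
theorem F13666 : act 2 n4421 = n4421 := d17_1 D4421 (iv D4421) F9781
theorem F13667 : act 4 n4421 = n4421 := d24_1 D4421 (iv D4421) F9783
theorem F13668 : act 5 n4421 = n4421 := d26_1 D4421 (iv D4421) F9784
theorem F13669 : act 6 n4421 = n4304 := d27_1 D4421 F13317 F9790 (iv D3173) D3172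
def n4422 : Q := act 5 n3174
theorem D4422 : act 5 n3174 = n4422 := rfl
theorem F13670 : act 0 n4422 = n3184 := d4_1 D4422 (iv D3184) (iv F9791)
theorem F13671 : act 2 n4422 = n4422 := d15_1 D4422 (iv D4422) F9792
theorem F13672 : act 3 n4422 = n4309 := d19_1 D4422 F13334 F13116
theorem F13673 : act 4 n4422 = n4422 := d22_1 D4422 (iv D4422) F9793
theorem F13674 : act 6 n4422 = n4306 := d25_2 D3174 D4422 (iv D4306) F9790 F9789
theorem F13675 : act 7 n4422 = n4422 := d26_2 F9794 D4422 (iv D4422)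
def n4423 : Q := act 3 n3175
theorem D4423 : act 3 n3175 = n4423 := rfl
theorem F13676 : act 1 n4423 = n3392 := d8_1 D4423 (iv D3392) (iv F9795)
def n4424 : Q := act 6 n3175
theorem D4424 : act 6 n3175 = n4424 := rfl
theorem F13677 : act 1 n4424 = n3393 := d11_1 D4424 (iv D3393) (iv F9795)
theorem F13678 : act 2 n4424 = n3176 := d16_1 D4424 (iv D3176) D3175
theorem F13679 : act 4 n4424 = n3179 := d23_1 D4424 (iv D3179) (iv F9796)
def n4425 : Q := act 5 n3176
theorem D4425 : act 5 n3176 = n4425 := rfl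
theorem F13680 : act 1 n4425 = n4425 := d10_1 D4425 (iv D4425) F9797 F6803 (iv F9797)
theorem F13681 : act 4 n4425 = n3180 := d22_1 D4425 (iv D3180) (iv F9798)
def n4426 : Q := act 7 n3176
theorem D4426 : act 7 n3176 = n4426 := rfl
theorem F13682 : act 1 n4426 = n3177 := d12_1 D4426 (iv D3177) (iv F9797)
theorem F13683 : act 4 n4426 = n3181 := d24_1 D4426 (iv D3181) (iv F9798)
def n4427 : Q := act 3 n3177
theorem D4427 : act 3 n3177 = n4427 := rfl
theorem F13684 : act 0 n4427 = n3185 := d2_1 D4427 (iv D3185) (iv F9799)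
theorem F13685 : act 5 n4427 = n4427 := d19_2 F9802 D4427 (iv D4427)
def n4428 : Q := act 4 n3178
theorem D4428 : act 4 n3178 = n4428 := rfl
theorem F13686 : act 1 n4428 = n3397 := d9_1 D4428 (iv D3397) (iv F9803)
theorem F13687 : act 2 n4428 = n4428 := d14_1 D4428 (iv D4428) F9804
def n4429 : Q := act 6 n3178
theorem D4429 : act 6 n3178 = n4429 := rfl
theorem F13688 : act 1 n4429 = n3398 := d11_1 D4429 (iv D3398) (iv F9803)
theorem F13689 : act 2 n4429 = n4429 := d16_1 D4429 (iv D4429) F9804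
theorem F13690 : act 3 n4429 = n3179 := d20_1 D4429 (iv D3179) D3178
def n4430 : Q := act 7 n3178
theorem D4430 : act 7 n3178 = n4430 := rfl
theorem F13691 : act 1 n4430 = n3399 := d12_1 D4430 (iv D3399) (iv F9803)
theorem F13692 : act 2 n4430 = n4430 := d17_1 D4430 (iv D4430) F9804
def n4431 : Q := act 5 n3179
theorem D4431 : act 5 n3179 = n4431 := rfl
theorem F13693 : act 2 n4431 = n3180 := d15_1 D4431 (iv D3180) (iv F9806)
def n4432 : Q := act 7 n3179
theorem D4432 : act 7 n3179 = n4432 := rfl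
theorem F13694 : act 1 n4432 = n3401 := d12_1 D4432 (iv D3401) (iv F9805)
theorem F13695 : act 2 n4432 = n3181 := d17_1 D4432 (iv D3181) (iv F9806)
def n4433 : Q := act 7 n3180
theorem D4433 : act 7 n3180 = n4433 := rfl
theorem F13696 : act 1 n4433 = n4433 := d12_1 D4433 (iv D4433) F9807
theorem F13697 : act 5 n4433 = n3181 := d26_1 D4433 (iv D3181) D3180
def n4434 : Q := act 3 n3181
theorem D4434 : act 3 n3181 = n4434 := rfl
theorem F13698 : act 0 n4434 = n3231 := d2_1 D4434 F13638 F13636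
theorem F13699 : act 1 n4434 = n3182 := d8_1 D4434 (iv D3182) (iv F9809)
theorem F13700 : act 7 n4434 = n4434 := d21_2 D3181 D4434 (iv D4434) (iv D3181) F6806
def n4435 : Q := act 2 n3182
theorem D4435 : act 2 n3182 = n4435 := rfl
theorem F13701 : act 0 n4435 = n3186 := d1_1 D4435 (iv D3186) (iv F9810)
theorem F13702 : act 3 n4435 = n3404 := d13_2 D3182 D4435 (iv D3404) (iv D2369) (iv F6808)
theorem F13703 : act 5 n4435 = n4435 := d15_2 F9811 D4435 (iv D4435)
theorem F13704 : act 7 n4435 = n4435 := d17_2 F9812 D4435 (iv D4435)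
def n4436 : Q := act 4 n3182
theorem D4436 : act 4 n3182 = n4436 := rfl
theorem F13705 : act 0 n4436 = n3187 := d3_1 D4436 (iv D3187) (iv F9810)
theorem F13706 : act 5 n4436 = n4436 := d22_2 F9811 D4436 (iv D4436)
theorem F13707 : act 7 n4436 = n4436 := d24_2 F9812 D4436 (iv D4436)
def n4437 : Q := act 3 n3183
theorem D4437 : act 3 n3183 = n4437 := rfl
theorem F13708 : act 1 n4437 = n3498 := d8_1 D4437 (iv D3498) (iv F9813)
theorem F13709 : act 5 n4437 = n4437 := d19_2 F9816 D4437 (iv D4437)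
theorem F13710 : act 6 n4437 = n4099 := d20_2 (iv F9817) D4437 F12721
theorem F13711 : act 7 n4437 = n3185 := d21_2 D3183 D4437 (iv D3185) (iv D2204) (iv F6812)
def n4438 : Q := act 2 n3185
theorem D4438 : act 2 n3185 = n4438 := rfl
theorem F13712 : act 3 n4438 = n3406 := d13_2 D3185 D4438 (iv D3406) (iv D2370) (iv F6825)
theorem F13713 : act 5 n4438 = n4438 := d15_2 F9824 D4438 (iv D4438)
def n4439 : Q := act 4 n3185
theorem D4439 : act 4 n3185 = n4439 := rfl
theorem F13714 : act 1 n4439 = n3251 := d9_1 D4439 (iv F13649) F13647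
theorem F13715 : act 3 n4439 = n3187 := d18_1 D4439 (iv D3187) (iv D2205) (iv F6826) D3185
theorem F13716 : act 5 n4439 = n4439 := d22_2 F9824 D4439 (iv D4439)
def n4440 : Q := act 4 n3186
theorem D4440 : act 4 n3186 = n4440 := rfl
theorem F13717 : act 1 n4440 = n3363 := d9_1 D4440 F10340 (iv F9825)
theorem F13718 : act 2 n4440 = n3187 := d14_1 D4440 (iv D3187) D3186
theorem F13719 : act 5 n4440 = n4440 := d22_2 F9827 D4440 (iv D4440)
theorem F13720 : act 7 n4440 = n4440 := d24_2 F9828 D4440 (iv D4440)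
def n4441 : Q := act 4 n3188
theorem D4441 : act 4 n3188 = n4441 := rfl
theorem F13721 : act 0 n4441 = n4441 := d3_1 D4441 (iv D4441) F9832
theorem F13722 : act 1 n4441 = n3302 := d9_1 D4441 F13422 F13419
theorem F13723 : act 2 n4441 = n4441 := d14_1 D4441 (iv D4441) F9833
theorem F13724 : act 3 n4441 = n4441 := d18_1 D4441 (iv D4441) (iv D3188) F6833 D3188
theorem F13725 : act 5 n4441 = n4441 := d22_2 F9834 D4441 (iv D4441)
theorem F13726 : act 7 n4441 = n4441 := d24_2 F9835 D4441 (iv D4441)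
def n4442 : Q := act 6 n3188
theorem D4442 : act 6 n3188 = n4442 := rfl
theorem F13727 : act 0 n4442 = n4442 := d5_1 D4442 (iv D4442) F9832
theorem F13728 : act 2 n4442 = n4442 := d16_1 D4442 (iv D4442) F9833
theorem F13729 : act 3 n4442 = n3189 := d20_1 D4442 (iv D3189) D3188
def n4443 : Q := act 5 n3189
theorem D4443 : act 5 n3189 = n4443 := rfl
theorem F13730 : act 0 n4443 = n4443 := d4_1 D4443 (iv D4443) F9836
theorem F13731 : act 2 n4443 = n3190 := d15_1 D4443 (iv D3190) (iv F9837)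
theorem F13732 : act 4 n4443 = n4443 := d22_1 D4443 (iv D4443) F9838
theorem F13733 : act 6 n4443 = n4443 := d25_2 D3189 D4443 (iv D4443) (iv D3189) F6834
theorem F13734 : act 7 n4443 = n4443 := d26_2 F9839 D4443 (iv D4443)
def n4444 : Q := act 1 n3191
theorem D4444 : act 1 n3191 = n4444 := rfl
theorem F13735 : act 2 n4444 = n3192 := d7_2 D3191 D4444 (iv D3192) (iv D2209) (iv F6841)
theorem F13736 : act 6 n4444 = n4444 := d11_2 F9847 D4444 (iv D4444)
def n4445 : Q := act 5 n3192
theorem D4445 : act 5 n3192 = n4445 := rfl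
theorem F13737 : act 1 n4445 = n3411 := d10_1 D4445 (iv D3411) (iv D2374) (iv F6845) D3192
theorem F13738 : act 3 n4445 = n4445 := d19_1 D4445 (iv D4445) F9848
def n4446 : Q := act 6 n3193
theorem D4446 : act 6 n3193 = n4446 := rfl
theorem F13739 : act 0 n4446 = n4446 := d5_1 D4446 (iv D4446) F9850
theorem F13740 : act 2 n4446 = n3200 := d16_1 D4446 (iv D3200) (iv F9851)
theorem F13741 : act 3 n4446 = n3298 := d20_1 D4446 (iv F11169) F11134
theorem F13742 : act 4 n4446 = n3196 := d23_1 D4446 (iv D3196) (iv F9852)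
theorem F13743 : act 5 n4446 = n4446 := d25_1 D4446 (iv D4446) (iv D3193) F6850 D3193
def n4447 : Q := act 7 n3193
theorem D4447 : act 7 n3193 = n4447 := rfl
theorem F13744 : act 0 n4447 = n4447 := d6_1 D4447 (iv D4447) F9850
theorem F13745 : act 2 n4447 = n3201 := d17_1 D4447 (iv D3201) (iv F9851)
theorem F13746 : act 4 n4447 = n3197 := d24_1 D4447 (iv D3197) (iv F9852)
theorem F13747 : act 5 n4447 = n3194 := d26_1 D4447 (iv D3194) D3193
def n4448 : Q := act 3 n3194
theorem D4448 : act 3 n3194 = n4448 := rfl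
theorem F13748 : act 0 n4448 = n4448 := d2_1 D4448 (iv D4448) F9853
theorem F13749 : act 1 n4448 = n3305 := d8_1 D4448 (iv D3305) (iv F9854)
def n4449 : Q := act 6 n3194
theorem D4449 : act 6 n3194 = n4449 := rfl
theorem F13750 : act 0 n4449 = n4449 := d5_1 D4449 (iv D4449) F9853
theorem F13751 : act 1 n4449 = n3306 := d11_1 D4449 (iv D3306) (iv F9854)
theorem F13752 : act 2 n4449 = n3203 := d16_1 D4449 (iv D3203) (iv F9855)
theorem F13753 : act 4 n4449 = n3199 := d23_1 D4449 (iv D3199) (iv F9856)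
theorem F13754 : act 7 n4449 = n4449 := d27_2 D3194 D4449 (iv D4449) (iv D3194) F6850
def n4450 : Q := act 0 n3195
theorem D4450 : act 0 n3195 = n4450 := rfl
theorem F13755 : act 1 n4450 = n4450 := d0_2 D3195 D4450 (iv D4450) (iv D3195) F6851
theorem F13756 : act 3 n4450 = n4450 := d2_2 F9857 D4450 (iv D4450)
theorem F13757 : act 4 n4450 = n3821 := d3_2 F11221 D4450 F11813
theorem F13758 : act 5 n4450 = n3307 := d4_2 (iv F9858) D4450 (iv D3307)
def n4451 : Q := act 6 n3195
theorem D4451 : act 6 n3195 = n4451 := rfl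
theorem F13759 : act 1 n4451 = n3196 := d11_1 D4451 (iv D3196) D3195
theorem F13760 : act 3 n4451 = n4451 := d20_1 D4451 (iv D4451) F9857
def n4452 : Q := act 7 n3195
theorem D4452 : act 7 n3195 = n4452 := rfl
theorem F13761 : act 1 n4452 = n3197 := d12_1 D4452 (iv D3197) D3195
theorem F13762 : act 5 n4452 = n3308 := d26_1 D4452 (iv D3308) (iv F9858)
def n4453 : Q := act 7 n3196
theorem D4453 : act 7 n3196 = n4453 := rfl
theorem F13763 : act 0 n4453 = n4453 := d6_1 D4453 (iv D4453) F9859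
theorem F13764 : act 2 n4453 = n3204 := d17_1 D4453 (iv D3204) (iv F9860)
theorem F13765 : act 5 n4453 = n4453 := d26_1 D4453 (iv D4453) F9862
def n4454 : Q := act 3 n3197
theorem D4454 : act 3 n3197 = n4454 := rfl
theorem F13766 : act 0 n4454 = n4454 := d2_1 D4454 (iv D4454) F9863
theorem F13767 : act 5 n4454 = n3198 := d19_2 (iv F9865) D4454 (iv D3198)
theorem F13768 : act 7 n4454 = n4454 := d21_2 D3197 D4454 (iv D4454) (iv D3197) F6853
def n4455 : Q := act 6 n3197
theorem D4455 : act 6 n3197 = n4455 := rfl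
theorem F13769 : act 0 n4455 = n4455 := d5_1 D4455 (iv D4455) F9863
theorem F13770 : act 2 n4455 = n3206 := d16_1 D4455 (iv D3206) (iv F9864)
def n4456 : Q := act 2 n3198
theorem D4456 : act 2 n3198 = n4456 := rfl
theorem F13771 : act 0 n4456 = n4456 := d1_1 D4456 (iv D4456) F9866
theorem F13772 : act 3 n4456 = n3207 := d13_2 D3198 D4456 (iv D3207) (iv D2217) (iv F6856)
theorem F13773 : act 7 n4456 = n4456 := d17_2 F9868 D4456 (iv D4456)
def n4457 : Q := act 4 n3198
theorem D4457 : act 4 n3198 = n4457 := rfl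
theorem F13774 : act 0 n4457 = n4457 := d3_1 D4457 (iv D4457) F9866
theorem F13775 : act 1 n4457 = n3312 := d9_1 D4457 (iv D3312) (iv F9867)
theorem F13776 : act 7 n4457 = n4457 := d24_2 F9868 D4457 (iv D4457)
def n4458 : Q := act 6 n3198
theorem D4458 : act 6 n3198 = n4458 := rfl
theorem F13777 : act 0 n4458 = n4458 := d5_1 D4458 (iv D4458) F9866
theorem F13778 : act 1 n4458 = n3313 := d11_1 D4458 (iv D3313) (iv F9867)
theorem F13779 : act 3 n4458 = n3199 := d20_1 D4458 (iv D3199) D3198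
def n4459 : Q := act 5 n3199
theorem D4459 : act 5 n3199 = n4459 := rfl
theorem F13780 : act 0 n4459 = n4459 := d4_1 D4459 (iv D4459) F9869
theorem F13781 : act 2 n4459 = n3210 := d15_1 D4459 (iv D3210) (iv F9871)
theorem F13782 : act 7 n4459 = n4459 := d26_2 F9872 D4459 (iv D4459)
def n4460 : Q := act 7 n3200
theorem D4460 : act 7 n3200 = n4460 := rfl
theorem F13783 : act 0 n4460 = n4460 := d6_1 D4460 (iv D4460) F9873
theorem F13784 : act 4 n4460 = n3204 := d24_1 D4460 (iv D3204) (iv F9875)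
theorem F13785 : act 5 n4460 = n4460 := d26_1 D4460 (iv D4460) F9876
def n4461 : Q := act 3 n3201
theorem D4461 : act 3 n3201 = n4461 := rfl
theorem F13786 : act 0 n4461 = n4461 := d2_1 D4461 (iv D4461) F9877
theorem F13787 : act 5 n4461 = n3202 := d19_2 (iv F9879) D4461 (iv D3202)
theorem F13788 : act 7 n4461 = n4461 := d21_2 D3201 D4461 (iv D4461) (iv D3201) F6858
def n4462 : Q := act 6 n3201
theorem D4462 : act 6 n3201 = n4462 := rfl
theorem F13789 : act 0 n4462 = n4462 := d5_1 D4462 (iv D4462) F9877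
theorem F13790 : act 4 n4462 = n3206 := d23_1 D4462 (iv D3206) (iv F9878)
def n4463 : Q := act 2 n3202
theorem D4463 : act 2 n3202 = n4463 := rfl
theorem F13791 : act 0 n4463 = n4463 := d1_1 D4463 (iv D4463) F9880
theorem F13792 : act 7 n4463 = n4463 := d17_2 F9882 D4463 (iv D4463)
def n4464 : Q := act 4 n3202
theorem D4464 : act 4 n3202 = n4464 := rfl
theorem F13793 : act 0 n4464 = n4464 := d3_1 D4464 (iv D4464) F9880
theorem F13794 : act 1 n4464 = n3224 := d9_1 D4464 (iv D3224) (iv F9881)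
theorem F13795 : act 3 n4464 = n3208 := d18_1 D4464 (iv D3208) (iv D2217) (iv F6862) D3202
theorem F13796 : act 7 n4464 = n4464 := d24_2 F9882 D4464 (iv D4464)
def n4465 : Q := act 6 n3202
theorem D4465 : act 6 n3202 = n4465 := rfl
theorem F13797 : act 0 n4465 = n4465 := d5_1 D4465 (iv D4465) F9880
theorem F13798 : act 1 n4465 = n3225 := d11_1 D4465 (iv D3225) (iv F9881)
theorem F13799 : act 3 n4465 = n3203 := d20_1 D4465 (iv D3203) D3202
def n4466 : Q := act 5 n3203
theorem D4466 : act 5 n3203 = n4466 := rfl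
theorem F13800 : act 0 n4466 = n4466 := d4_1 D4466 (iv D4466) F9883
theorem F13801 : act 4 n4466 = n3210 := d22_1 D4466 (iv D3210) (iv F9885)
theorem F13802 : act 7 n4466 = n4466 := d26_2 F9886 D4466 (iv D4466)
def n4467 : Q := act 3 n3204
theorem D4467 : act 3 n3204 = n4467 := rfl
theorem F13803 : act 0 n4467 = n4467 := d2_1 D4467 (iv D4467) F9887
theorem F13804 : act 5 n4467 = n4467 := d19_2 F9888 D4467 (iv D4467)
theorem F13805 : act 7 n4467 = n3211 := d21_2 D3204 D4467 (iv D3211) (iv D2219) (iv F6864)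
def n4468 : Q := act 6 n3204
theorem D4468 : act 6 n3204 = n4468 := rfl
theorem F13806 : act 0 n4468 = n4468 := d5_1 D4468 (iv D4468) F9887
theorem F13807 : act 7 n4468 = n3206 := d27_2 D3204 D4468 (iv D3206) (iv D2216) D2215
def n4469 : Q := act 2 n3205
theorem D4469 : act 2 n3205 = n4469 := rfl
theorem F13808 : act 0 n4469 = n4469 := d1_1 D4469 (iv D4469) F9889
theorem F13809 : act 5 n4469 = n3207 := d15_2 (iv F9890) D4469 (iv D3207)
theorem F13810 : act 7 n4469 = n3213 := d17_2 (iv F9891) D4469 (iv D3213)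
def n4470 : Q := act 4 n3205
theorem D4470 : act 4 n3205 = n4470 := rfl
theorem F13811 : act 0 n4470 = n4470 := d3_1 D4470 (iv D4470) F9889
theorem F13812 : act 5 n4470 = n3208 := d22_2 (iv F9890) D4470 (iv D3208)
theorem F13813 : act 7 n4470 = n3214 := d24_2 (iv F9891) D4470 (iv D3214)
def n4471 : Q := act 6 n3205
theorem D4471 : act 6 n3205 = n4471 := rfl
theorem F13814 : act 0 n4471 = n4471 := d5_1 D4471 (iv D4471) F9889
theorem F13815 : act 3 n4471 = n3206 := d20_1 D4471 (iv D3206) D3205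
def n4472 : Q := act 5 n3206
theorem D4472 : act 5 n3206 = n4472 := rfl
theorem F13816 : act 0 n4472 = n4472 := d4_1 D4472 (iv D4472) F9892
theorem F13817 : act 6 n4472 = n3210 := d25_2 D3206 D4472 (iv D3210) (iv D2218) (iv F6867)
def n4473 : Q := act 1 n3207
theorem D4473 : act 1 n3207 = n4473 := rfl
theorem F13818 : act 2 n4473 = n3227 := d7_2 D3207 D4473 (iv D3227) (iv D2228) (iv F6869)
theorem F13819 : act 7 n4473 = n3217 := d12_2 (iv F9894) D4473 (iv D3217)
def n4474 : Q := act 4 n3207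
theorem D4474 : act 4 n3207 = n4474 := rfl
theorem F13820 : act 0 n4474 = n4474 := d3_1 D4474 (iv D4474) F9893
theorem F13821 : act 2 n4474 = n3208 := d14_1 D4474 (iv D3208) D3207
theorem F13822 : act 7 n4474 = n3218 := d24_2 (iv F9894) D4474 (iv D3218)
theorem F13823 : act 3 n4447 = n4474 := d21_5 F13822 F10604 F11168 F11134 D4447
theorem F13824 : act 2 n4464 = n4461 := d13_3 F13823 F13821 (iv F13795) (iv D4461) (iv F13745)
theorem F13825 : act 4 n4456 = n4454 := d18_4 (iv F13746) F13823 (iv D4474) (iv F13772) (iv D4454)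
theorem F13826 : act 5 n4474 = n4448 := d19_2 (iv F13747) F13823 (iv D4448)
theorem F13827 : act 2 n4448 = n4470 := d15_1 F13826 F13812 (iv F13821)
theorem F13828 : act 4 n4448 = n4469 := d22_1 F13826 F13809 D4474
theorem F13829 : act 3 n4469 = n4457 := d18_1 F13828 (iv D4457) (iv D3198) (iv F9856) D4448
theorem F13830 : act 2 n4457 = n4454 := d13_1 F13829 (iv D4454) F9864 D3205 D4469
theorem F13831 : act 5 n4457 = n4456 := d19_2 (iv F13809) F13829 F13772
theorem F13832 : act 3 n4470 = n4463 := d13_2 D4448 F13827 (iv D4463) (iv D3202) (iv F9855)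
theorem F13833 : act 4 n4463 = n4461 := d18_2 D4470 F13832 (iv D4461) F9878 D3205
theorem F13834 : act 5 n4463 = n4464 := d19_2 (iv F13812) F13832 F13795
def n4475 : Q := act 6 n3207
theorem D4475 : act 6 n3207 = n4475 := rfl
theorem F13835 : act 0 n4475 = n4475 := d5_1 D4475 (iv D4475) F9893
theorem F13836 : act 2 n4475 = n3209 := d16_1 D4475 (iv D3209) D3207
def n4476 : Q := act 6 n3208
theorem D4476 : act 6 n3208 = n4476 := rfl
theorem F13837 : act 0 n4476 = n4476 := d5_1 D4476 (iv D4476) F9895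
theorem F13838 : act 1 n4476 = n3230 := d11_1 D4476 (iv D3230) (iv F9896)
theorem F13839 : act 4 n4476 = n3209 := d23_1 D4476 (iv D3209) D3208
theorem F13840 : act 7 n4476 = n3488 := d27_2 (iv F9897) D4476 (iv D3488) F9936 (iv D3220)
def n4477 : Q := act 5 n3209
theorem D4477 : act 5 n3209 = n4477 := rfl
theorem F13841 : act 0 n4477 = n4477 := d4_1 D4477 (iv D4477) F9898
theorem F13842 : act 3 n4477 = n3210 := d19_1 D4477 (iv D3210) (iv F9900)
def n4478 : Q := act 1 n3210
theorem D4478 : act 1 n3210 = n4478 := rfl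
theorem F13843 : act 5 n4478 = n3231 := d10_2 D3210 D4478 (iv D3231) (iv D2231) (iv F6872)
theorem F13844 : act 7 n4478 = n4478 := d12_2 F9902 D4478 (iv D4478)
def n4479 : Q := act 2 n3211
theorem D4479 : act 2 n3211 = n4479 := rfl
theorem F13845 : act 0 n4479 = n4479 := d1_1 D4479 (iv D4479) F9903
theorem F13846 : act 3 n4479 = n4479 := d13_2 D3211 D4479 (iv D4479) (iv D3211) F6875
theorem F13847 : act 5 n4479 = n4479 := d15_2 F9904 D4479 (iv D4479)
def n4480 : Q := act 4 n3211
theorem D4480 : act 4 n3211 = n4480 := rfl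
theorem F13848 : act 0 n4480 = n4480 := d3_1 D4480 (iv D4480) F9903
theorem F13849 : act 3 n4480 = n4480 := d18_1 D4480 (iv D4480) (iv D3211) F6876 D3211
theorem F13850 : act 5 n4480 = n4480 := d22_2 F9904 D4480 (iv D4480)
def n4481 : Q := act 6 n3211
theorem D4481 : act 6 n3211 = n4481 := rfl
theorem F13851 : act 0 n4481 = n4481 := d5_1 D4481 (iv D4481) F9903
theorem F13852 : act 1 n4481 = n3572 := d11_1 D4481 (iv F12903) F12902
theorem F13853 : act 3 n4481 = n3212 := d20_1 D4481 (iv D3212) D3211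
theorem F13854 : act 5 n3561 = n4481 := d19_0 F13853 (iv F9910) D3561
def n4482 : Q := act 1 n3213
theorem D4482 : act 1 n3213 = n4482 := rfl
theorem F13855 : act 3 n4482 = n4482 := d8_2 F9912 D4482 (iv D4482)
def n4483 : Q := act 4 n3213
theorem D4483 : act 4 n3213 = n4483 := rfl
theorem F13856 : act 0 n4483 = n4483 := d3_1 D4483 (iv D4483) F9911
theorem F13857 : act 2 n4483 = n3214 := d14_1 D4483 (iv D3214) D3213
theorem F13858 : act 5 n4483 = n3218 := d22_2 (iv F9913) D4483 (iv D3218)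
theorem F13859 : act 7 n4483 = n4448 := d24_2 F13810 D4483 F13828
theorem F13860 : act 1 n3618 = n4483 := d12_3 F13859 F13749 (iv F11142)
theorem F13861 : act 3 n3617 = n4483 := d21_5 F13859 (iv D4448) (iv D3194) (iv F7833) D3617
theorem F13862 : act 4 n4482 = n3618 := d9_0 F13860 (iv D4483) D4482
theorem F13863 : act 0 n3625 = n4482 := d3_3 F13862 F11140 D3625
theorem F13864 : act 5 n3645 = n4482 := d22_0 F13862 F11141 D3645
def n4484 : Q := act 6 n3213
theorem D4484 : act 6 n3213 = n4484 := rfl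
theorem F13865 : act 0 n4484 = n4484 := d5_1 D4484 (iv D4484) F9911
theorem F13866 : act 2 n4484 = n3215 := d16_1 D4484 (iv D3215) D3213
theorem F13867 : act 3 n4484 = n4484 := d20_1 D4484 (iv D4484) F9912
def n4485 : Q := act 6 n3214
theorem D4485 : act 6 n3214 = n4485 := rfl
theorem F13868 : act 0 n4485 = n4485 := d5_1 D4485 (iv D4485) F9914
theorem F13869 : act 3 n4485 = n4485 := d20_1 D4485 (iv D4485) F9915
theorem F13870 : act 4 n4485 = n3215 := d23_1 D4485 (iv D3215) D3214
def n4486 : Q := act 5 n3215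
theorem D4486 : act 5 n3215 = n4486 := rfl
theorem F13871 : act 0 n4486 = n4486 := d4_1 D4486 (iv D4486) F9917
theorem F13872 : act 1 n4486 = n3564 := d10_1 D4486 F10974 (iv F11008) F12911 F12909
theorem F13873 : act 3 n4486 = n3216 := d19_1 D4486 (iv D3216) (iv F9918)
theorem F13874 : act 6 n4486 = n3221 := d25_2 D3215 D4486 (iv D3221) (iv D2224) (iv F6879)
def n4487 : Q := act 7 n3215
theorem D4487 : act 7 n3215 = n4487 := rfl
theorem F13875 : act 0 n4487 = n4487 := d6_1 D4487 (iv D4487) F9917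
def n4488 : Q := act 0 n3217
theorem D4488 : act 0 n3217 = n4488 := rfl
theorem F13876 : act 1 n4488 = n4488 := d0_2 D3217 D4488 (iv D4488) (iv D3217) F6883
theorem F13877 : act 2 n4488 = n3232 := d1_2 (iv F9925) D4488 (iv D3232)
theorem F13878 : act 3 n4488 = n4488 := d2_2 F9926 D4488 (iv D4488)
def n4489 : Q := act 4 n3217
theorem D4489 : act 4 n3217 = n4489 := rfl
theorem F13879 : act 1 n4489 = n3218 := d9_1 D4489 (iv D3218) D3217
theorem F13880 : act 2 n4489 = n3233 := d14_1 D4489 (iv D3233) (iv F9925)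
theorem F13881 : act 3 n3639 = n4489 := d8_0 F13879 F10604 (iv F11229)
theorem F13882 : act 5 n3640 = n4489 := d10_0 F13879 (iv F13858) (iv F13860) F11141 (iv F11234)
theorem F13883 : act 6 n4260 = n4489 := d11_0 F13879 (iv F10603) (iv F13179)
def n4490 : Q := act 5 n3217
theorem D4490 : act 5 n3217 = n4490 := rfl
theorem F13884 : act 1 n4490 = n3645 := d10_1 D4490 F13864 (iv D4482) F9913 D3217
theorem F13885 : act 2 n4490 = n3234 := d15_1 D4490 (iv D3234) (iv F9925)
theorem F13886 : act 3 n4490 = n4490 := d19_1 D4490 (iv D4490) F9926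
theorem F13887 : act 4 n4490 = n3640 := d22_1 D4490 F13882 (iv D4489)
def n4491 : Q := act 6 n3217
theorem D4491 : act 6 n3217 = n4491 := rfl
theorem F13888 : act 1 n4491 = n3219 := d11_1 D4491 (iv D3219) D3217
theorem F13889 : act 2 n4491 = n3235 := d16_1 D4491 (iv D3235) (iv F9925)
theorem F13890 : act 3 n4491 = n4491 := d20_1 D4491 (iv D4491) F9926
theorem F13891 : act 4 n4491 = n4260 := d23_1 D4491 F13883 (iv D4489)
theorem F13892 : act 5 n4259 = n4491 := d22_0 F13891 (iv D4260) D4259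
def n4492 : Q := act 1 n3223
theorem D4492 : act 1 n3223 = n4492 := rfl
theorem F13893 : act 0 n4492 = n4058 := d0_1 D4492 (iv D4058) F8884 F6953 (iv F9945)
theorem F13894 : act 3 n4492 = n3328 := d8_2 (iv F9946) D4492 (iv D3328)
theorem F13895 : act 4 n4492 = n4052 := d9_2 F9949 D4492 (iv D4052)
theorem F13896 : act 7 n4492 = n4492 := d12_2 F9948 D4492 (iv D4492)
def n4493 : Q := act 6 n3223
theorem D4493 : act 6 n3223 = n4493 := rfl
theorem F13897 : act 0 n4493 = n3249 := d5_1 D4493 (iv D3249) (iv F9945)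
theorem F13898 : act 2 n4493 = n3225 := d16_1 D4493 (iv D3225) D3223
theorem F13899 : act 3 n4493 = n3329 := d20_1 D4493 (iv D3329) (iv F9946)
theorem F13900 : act 4 n4493 = n4053 := d23_1 D4493 (iv D4053) F9949
def n4494 : Q := act 6 n3224
theorem D4494 : act 6 n3224 = n4494 := rfl
theorem F13901 : act 0 n4494 = n3250 := d5_1 D4494 (iv D3250) (iv F9950)
theorem F13902 : act 2 n4494 = n4053 := d16_1 D4494 (iv D4053) (iv F9951)
theorem F13903 : act 3 n4494 = n3230 := d20_1 D4494 (iv D3230) (iv F9952)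
theorem F13904 : act 4 n4494 = n3225 := d23_1 D4494 (iv D3225) D3224
theorem F13905 : act 7 n3495 = n4494 := d21_0 F13903 F9973 F7495 D2439 D3495
def n4495 : Q := act 5 n3225
theorem D4495 : act 5 n3225 = n4495 := rfl
theorem F13906 : act 0 n4495 = n3251 := d4_1 D4495 (iv D3251) (iv F9955)
theorem F13907 : act 3 n4495 = n3226 := d19_1 D4495 (iv D3226) (iv F9956)
def n4496 : Q := act 7 n3225
theorem D4496 : act 7 n3225 = n4496 := rfl
theorem F13908 : act 0 n4496 = n3252 := d6_1 D4496 (iv D3252) (iv F9955)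
theorem F13909 : act 3 n4496 = n4496 := d21_1 D4496 (iv D4496) F9956 F6900 (iv F9956)
theorem F13910 : act 4 n4496 = n3495 := d24_1 D4496 F13905 F13904
theorem F13911 : act 6 n4496 = n4496 := d27_1 D4496 (iv D4496) (iv D3225) F6896 D3225
def n4497 : Q := act 1 n3226
theorem D4497 : act 1 n3226 = n4497 := rfl
theorem F13912 : act 4 n4497 = n3231 := d9_2 (iv F9959) D4497 (iv D3231)
theorem F13913 : act 7 n4497 = n4497 := d12_2 F9960 D4497 (iv D4497)
def n4498 : Q := act 0 n3227
theorem D4498 : act 0 n3227 = n4498 := rfl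
theorem F13914 : act 1 n4498 = n3253 := d0_2 D3227 D4498 (iv D3253) (iv D2250) (iv F6901)
theorem F13915 : act 3 n4498 = n3332 := d2_2 (iv F9961) D4498 (iv D3332)
theorem F13916 : act 7 n4498 = n3232 := d6_2 (iv F9962) D4498 (iv D3232)
def n4499 : Q := act 4 n3227
theorem D4499 : act 4 n3227 = n4499 := rfl
theorem F13917 : act 1 n4499 = n3228 := d9_1 D4499 (iv D3228) D3227
theorem F13918 : act 3 n4499 = n4219 := d18_1 D4499 F13576 (iv D4395) F9685 (iv F9961)
theorem F13919 : act 7 n4499 = n3233 := d24_2 (iv F9962) D4499 (iv D3233)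
def n4500 : Q := act 5 n3227
theorem D4500 : act 5 n3227 = n4500 := rfl
theorem F13920 : act 3 n4500 = n3333 := d19_1 D4500 (iv D3333) (iv F9961)
theorem F13921 : act 7 n4500 = n3234 := d26_2 (iv F9962) D4500 (iv D3234)
def n4501 : Q := act 6 n3227
theorem D4501 : act 6 n3227 = n4501 := rfl
theorem F13922 : act 1 n4501 = n3229 := d11_1 D4501 (iv D3229) D3227
theorem F13923 : act 3 n4501 = n3334 := d20_1 D4501 (iv D3334) (iv F9961)
def n4502 : Q := act 6 n3228
theorem D4502 : act 6 n3228 = n4502 := rfl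
theorem F13924 : act 0 n4502 = n3255 := d5_1 D4502 (iv D3255) (iv F9963)
theorem F13925 : act 2 n4502 = n3230 := d16_1 D4502 (iv D3230) (iv F9964)
theorem F13926 : act 3 n4502 = n4220 := d20_1 D4502 (iv D4220) (iv F9965)
theorem F13927 : act 4 n4502 = n3229 := d23_1 D4502 (iv D3229) D3228
theorem F13928 : act 7 n4502 = n3369 := d27_2 (iv F9967) D4502 (iv D3369) F9990 (iv D3237)
def n4503 : Q := act 2 n3231
theorem D4503 : act 2 n3231 = n4503 := rfl
theorem F13929 : act 1 n4503 = n3338 := d7_1 D4503 (iv D3338) (iv D2315) (iv F6909) D3231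
theorem F13930 : act 7 n4503 = n4503 := d17_2 F9974 D4503 (iv D4503)
def n4504 : Q := act 4 n3232
theorem D4504 : act 4 n3232 = n4504 := rfl
theorem F13931 : act 0 n4504 = n3233 := d3_1 D4504 (iv D3233) D3232
theorem F13932 : act 1 n4504 = n3256 := d9_1 D4504 (iv D3256) (iv F9975)
def n4505 : Q := act 5 n3232
theorem D4505 : act 5 n3232 = n4505 := rfl
theorem F13933 : act 0 n4505 = n3234 := d4_1 D4505 (iv D3234) D3232
theorem F13934 : act 3 n4505 = n3239 := d19_1 D4505 (iv D3239) (iv F9976)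
def n4506 : Q := act 3 n3233
theorem D4506 : act 3 n3233 = n4506 := rfl
theorem F13935 : act 1 n4506 = n3236 := d8_1 D4506 (iv D3236) (iv F9977)
theorem F13936 : act 2 n4506 = n4073 := d13_1 D4506 (iv D4073) (iv F11230) F13881 F13880
theorem F13937 : act 4 n4506 = n3240 := d18_2 D3233 D4506 (iv D3240) (iv D2238) (iv F6911)
theorem F13938 : act 7 n4506 = n4398 := d21_2 F13919 D4506 F13587 (iv F13064) (iv F13918)
theorem F13939 : act 6 n4504 = n4506 := d23_0 F13937 F10002 D4504
theorem F13940 : act 5 n4074 = n4506 := d15_0 F13936 F12649 D4074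
def n4507 : Q := act 5 n3233
theorem D4507 : act 5 n3233 = n4507 := rfl
theorem F13941 : act 2 n4507 = n3640 := d15_1 D4507 F13882 F13880
theorem F13942 : act 3 n4507 = n4074 := d19_1 D4507 F13940 (iv D4506)
theorem F13943 : act 4 n4507 = n3234 := d22_1 D4507 (iv D3234) D3233
def n4508 : Q := act 6 n3233
theorem D4508 : act 6 n3233 = n4508 := rfl
theorem F13944 : act 0 n4508 = n4506 := d5_1 D4508 (iv F13939) F13931
theorem F13945 : act 1 n4508 = n3237 := d11_1 D4508 (iv D3237) (iv F9977)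
theorem F13946 : act 2 n4508 = n4260 := d16_1 D4508 F13883 F13880
theorem F13947 : act 3 n4508 = n4504 := d20_1 D4508 F13939 (iv D4506)
theorem F13948 : act 4 n4508 = n3235 := d23_1 D4508 (iv D3235) D3233
theorem F13949 : act 7 n3368 = n4508 := d24_0 F13948 (iv F13614) F13613
theorem F13950 : act 5 n4258 = n4508 := d15_0 F13946 (iv D4260) D4258
def n4509 : Q := act 6 n3234
theorem D4509 : act 6 n3234 = n4509 := rfl
theorem F13951 : act 3 n4509 = n3242 := d20_1 D4509 (iv D3242) (iv F9978)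
def n4510 : Q := act 5 n3235
theorem D4510 : act 5 n3235 = n4510 := rfl
theorem F13952 : act 2 n4510 = n4259 := d15_1 D4510 F13892 F13889
theorem F13953 : act 3 n4510 = n3243 := d19_1 D4510 (iv D3243) (iv F9980)
theorem F13954 : act 4 n4510 = n4258 := d22_1 D4510 F13950 F13948
def n4511 : Q := act 3 n3238
theorem D4511 : act 3 n3238 = n4511 := rfl
theorem F13955 : act 0 n4511 = n3569 := d2_1 D4511 F10992 (iv F9991)
theorem F13956 : act 1 n4511 = n3248 := d8_1 D4511 (iv D3248) (iv F9992)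
theorem F13957 : act 2 n4511 = n3683 := d13_1 D4511 (iv F12303) F12302 (iv F8644) D3238
theorem F13958 : act 5 n4511 = n3565 := d19_2 (iv F9994) D4511 F10978
theorem F13959 : act 6 n4511 = n3584 := d20_2 (iv F9995) D4511 F11031
theorem F13960 : act 4 n3634 = n4511 := d22_3 F13958 F10979 D3634
theorem F13961 : act 7 n3848 = n4511 := d26_0 F13958 (iv F10980) D3848
def n4512 : Q := act 1 n3239
theorem D4512 : act 1 n3239 = n4512 := rfl
theorem F13962 : act 5 n4512 = n3259 := d10_2 D3239 D4512 (iv D3259) (iv D2259) (iv F6924)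
theorem F13963 : act 7 n4512 = n3343 := d12_2 (iv F9999) D4512 (iv D3343)
def n4513 : Q := act 6 n3239
theorem D4513 : act 6 n3239 = n4513 := rfl
theorem F13964 : act 0 n4513 = n3242 := d5_1 D4513 (iv D3242) (iv F9997)
theorem F13965 : act 2 n4513 = n4513 := d16_1 D4513 (iv D4513) F9998
def n4514 : Q := act 2 n3240
theorem D4514 : act 2 n3240 = n4514 := rfl
theorem F13966 : act 0 n4514 = n4491 := d1_1 D4514 F13889 (iv F10000)
theorem F13967 : act 1 n4514 = n4514 := d7_1 D4514 (iv D4514) F10001 F6938 (iv F10001)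
theorem F13968 : act 3 n4514 = n4514 := d13_2 D3240 D4514 (iv D4514) (iv D3240) F6928
theorem F13969 : act 4 n4514 = n4073 := d14_2 F13937 D4514 (iv F13936)
theorem F13970 : act 6 n4514 = n4488 := d16_2 (iv F10002) D4514 F13877
theorem F13971 : act 5 n4075 = n4514 := d22_0 F13969 F12649 D4075
def n4515 : Q := act 5 n3240
theorem D4515 : act 5 n3240 = n4515 := rfl
theorem F13972 : act 0 n4515 = n4510 := d4_1 D4515 (iv D4510) (iv F10000)
theorem F13973 : act 2 n4515 = n4075 := d15_1 D4515 F13971 (iv D4514)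
theorem F13974 : act 3 n4515 = n3241 := d19_1 D4515 (iv D3241) D3240
theorem F13975 : act 4 n4515 = n4074 := d22_1 D4515 F13940 F13937
def n4516 : Q := act 7 n3240
theorem D4516 : act 7 n3240 = n4516 := rfl
theorem F13976 : act 0 n4516 = n4406 := d6_1 D4516 F13614 (iv F10000)
theorem F13977 : act 1 n4516 = n3244 := d12_1 D4516 (iv D3244) (iv F10001)
theorem F13978 : act 3 n4516 = n3348 := d21_1 D4516 (iv D3348) (iv D2321) (iv F6929) D3240
theorem F13979 : act 4 n4516 = n4398 := d24_1 D4516 (iv F13938) F13937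
def n4517 : Q := act 6 n3241
theorem D4517 : act 6 n3241 = n4517 := rfl
theorem F13980 : act 2 n4517 = n4517 := d16_1 D4517 (iv D4517) F10003
theorem F13981 : act 4 n4517 = n3242 := d23_1 D4517 (iv D3242) (iv F10004)
theorem F13982 : act 5 n4517 = n4513 := d25_1 D4517 (iv D4513) (iv D3239) F6930 D3241
def n4518 : Q := act 5 n3242
theorem D4518 : act 5 n3242 = n4518 := rfl
theorem F13983 : act 0 n4518 = n4517 := d4_1 D4518 F13982 F13964
theorem F13984 : act 2 n4518 = n4518 := d15_1 D4518 (iv D4518) F10006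
theorem F13985 : act 4 n4518 = n4513 := d22_1 D4518 (iv F13982) F13981
theorem F13986 : act 6 n4518 = n3243 := d25_2 D3242 D4518 (iv D3243) (iv D2240) D2239
def n4519 : Q := act 7 n3242
theorem D4519 : act 7 n3242 = n4519 := rfl
theorem F13987 : act 2 n4519 = n4519 := d17_1 D4519 (iv D4519) F10006
theorem F13988 : act 6 n4519 = n3352 := d27_1 D4519 (iv D3352) (iv D2324) (iv F6932) D3242
def n4520 : Q := act 1 n3243
theorem D4520 : act 1 n3243 = n4520 := rfl
theorem F13989 : act 4 n4520 = n4512 := d9_2 (iv F10009) D4520 (iv D4512)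
theorem F13990 : act 5 n4520 = n3245 := d10_2 D3243 D4520 (iv D3245) (iv D2242) (iv F6934)
def n4521 : Q := act 6 n3244
theorem D4521 : act 6 n3244 = n4521 := rfl
theorem F13991 : act 0 n4521 = n3261 := d5_1 D4521 (iv D3261) (iv F10010)
theorem F13992 : act 2 n4521 = n4521 := d16_1 D4521 (iv D4521) F10011
theorem F13993 : act 3 n4521 = n3355 := d20_1 D4521 (iv D3355) (iv F10012)
theorem F13994 : act 4 n4521 = n4399 := d23_1 D4521 (iv D4399) (iv F10013)
def n4522 : Q := act 2 n3245
theorem D4522 : act 2 n3245 = n4522 := rfl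
theorem F13995 : act 1 n4522 = n3246 := d7_1 D4522 (iv D3246) (iv D2243) (iv F6940) D3245
def n4523 : Q := act 3 n3246
theorem D4523 : act 3 n3246 = n4523 := rfl
theorem F13996 : act 2 n4523 = n3248 := d13_1 D4523 (iv D3248) (iv D2245) (iv F6941) D3246
theorem F13997 : act 5 n4523 = n4523 := d19_2 F10015 D4523 (iv D4523)
def n4524 : Q := act 3 n3247
theorem D4524 : act 3 n3247 = n4524 := rfl
theorem F13998 : act 0 n4524 = n3248 := d2_1 D4524 (iv D3248) (iv F10016)
theorem F13999 : act 5 n4524 = n4524 := d19_2 F10018 D4524 (iv D4524)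
def n4525 : Q := act 4 n3248
theorem D4525 : act 4 n3248 = n4525 := rfl
theorem F14000 : act 1 n4525 = n3634 := d9_1 D4525 F13960 F13956
theorem F14001 : act 3 n4525 = n4525 := d18_1 D4525 (iv D4525) (iv D3248) F6947 D3248
theorem F14002 : act 5 n4525 = n4525 := d22_2 F10020 D4525 (iv D4525)
theorem F14003 : act 7 n3849 = n4525 := d12_0 F14000 F11214 D3849
def n4526 : Q := act 7 n3248
theorem D4526 : act 7 n3248 = n4526 := rfl
theorem F14004 : act 1 n4526 = n3848 := d12_1 D4526 F13961 F13956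
theorem F14005 : act 3 n4526 = n4526 := d21_1 D4526 (iv D4526) (iv D3248) F6949 D3248
theorem F14006 : act 4 n4526 = n3849 := d24_1 D4526 F14003 (iv D4525)
theorem F14007 : act 5 n4526 = n4526 := d26_1 D4526 (iv D4526) F10020
def n4527 : Q := act 5 n3249
theorem D4527 : act 5 n3249 = n4527 := rfl
theorem F14008 : act 2 n4527 = n3251 := d15_1 D4527 (iv D3251) (iv F10022)
theorem F14009 : act 3 n4527 = n3360 := d19_1 D4527 (iv D3360) (iv F10023)
theorem F14010 : act 4 n4527 = n4057 := d22_1 D4527 (iv D4057) (iv F10024)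
theorem F14011 : act 6 n4527 = n4056 := d25_2 D3249 D4527 (iv D4056) (iv D2866) (iv F6951)
theorem F14012 : act 7 n4527 = n4101 := d31_1 D4527 F12727 (iv F10759) F10761 F8970 F6554 F6555 F4524 (iv D1431) F3635 F3632 (iv F3087) (iv D752) F1685 (iv F1521) (iv F1523) (iv F1526) F1527 D508 (iv F2448) (iv F3097) F3099 (iv F4534) (iv D1435) D1436 F4539 D1590 D2333 (iv F10023)
def n4528 : Q := act 7 n3249
theorem D4528 : act 7 n3249 = n4528 := rfl
theorem F14013 : act 1 n4528 = n4063 := d12_1 D4528 (iv D4063) (iv F10021)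
theorem F14014 : act 2 n4528 = n3252 := d17_1 D4528 (iv D3252) (iv F10022)
theorem F14015 : act 4 n4528 = n3499 := d24_1 D4528 F10765 (iv F10024)
theorem F14016 : act 5 n4528 = n4101 := d26_1 D4528 (iv F14012) (iv D4527)
theorem F14017 : act 6 n4528 = n4528 := d27_1 D4528 (iv D4528) (iv D3249) F6952 D3249
def n4529 : Q := act 7 n3251
theorem D4529 : act 7 n3251 = n4529 := rfl
theorem F14018 : act 2 n4529 = n4101 := d17_1 D4529 (iv F14012) F14008
theorem F14019 : act 3 n4529 = n4529 := d21_1 D4529 (iv D4529) F10030 F6964 (iv F10030)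
theorem F14020 : act 4 n4529 = n3498 := d24_1 D4529 (iv F13652) F13649
theorem F14021 : act 5 n4529 = n3252 := d26_1 D4529 (iv D3252) D3251
theorem F14022 : act 6 n4529 = n4100 := d27_1 D4529 F12726 D4107 (iv F13012) F13011
def n4530 : Q := act 6 n3253
theorem D4530 : act 6 n3253 = n4530 := rfl
theorem F14023 : act 0 n4530 = n3254 := d5_1 D4530 (iv D3254) D3253
theorem F14024 : act 2 n4530 = n4530 := d16_1 D4530 (iv D4530) F10035
theorem F14025 : act 3 n4530 = n3364 := d20_1 D4530 (iv D3364) (iv F10036)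
theorem F14026 : act 5 n4530 = n4397 := d25_1 D4530 (iv D4397) (iv F9984) (iv F10049) (iv F10050)
theorem F14027 : act 7 n4530 = n4521 := d27_2 (iv F10037) D4530 (iv D4521) (iv D3244) (iv F6979)
def n4531 : Q := act 1 n3257
theorem D4531 : act 1 n3257 = n4531 := rfl
theorem F14028 : act 0 n4531 = n4499 := d0_1 D4531 F13917 F9963 (iv F6983) (iv F10051)
theorem F14029 : act 3 n4531 = n3259 := d8_2 (iv F10053) D4531 (iv D3259)
theorem F14030 : act 4 n4531 = n4498 := d9_2 (iv F10054) D4531 F13914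
theorem F14031 : act 7 n4531 = n4504 := d12_2 (iv F10055) D4531 F13932
def n4532 : Q := act 6 n3257
theorem D4532 : act 6 n3257 = n4532 := rfl
theorem F14032 : act 0 n4532 = n3258 := d5_1 D4532 (iv D3258) (iv F10051)
theorem F14033 : act 2 n4532 = n4532 := d16_1 D4532 (iv D4532) F10052
theorem F14034 : act 3 n4532 = n3260 := d20_1 D4532 (iv D3260) (iv F10053)
theorem F14035 : act 4 n4532 = n4530 := d23_1 D4532 (iv D4530) (iv F10054)
theorem F14036 : act 5 n4532 = n4199 := d25_1 D4532 (iv D4199) F9166 (iv F6979) D3257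
theorem F14037 : act 7 n4532 = n4399 := d27_2 (iv F10055) D4532 (iv D4399) (iv F9985) (iv F10049)
def n4533 : Q := act 2 n3259
theorem D4533 : act 2 n3259 = n4533 := rfl
theorem F14038 : act 1 n4533 = n3263 := d7_1 D4533 (iv D3263) (iv D2263) (iv F7000) D3259
theorem F14039 : act 4 n4533 = n4522 := d14_2 (iv F10062) D4533 (iv D4522)
theorem F14040 : act 7 n4533 = n3374 := d17_2 (iv F10063) D4533 (iv D3374)
def n4534 : Q := act 6 n3259
theorem D4534 : act 6 n3259 = n4534 := rfl
theorem F14041 : act 1 n4534 = n3260 := d11_1 D4534 (iv D3260) D3259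
theorem F14042 : act 4 n4534 = n4200 := d23_1 D4534 F12995 (iv F10062)
def n4535 : Q := act 3 n3263
theorem D4535 : act 3 n3263 = n4535 := rfl
theorem F14043 : act 0 n4535 = n3271 := d2_1 D4535 (iv D3271) (iv F10075)
theorem F14044 : act 2 n4535 = n4535 := d13_1 D4535 (iv D4535) (iv D3263) F7016 D3263
theorem F14045 : act 5 n4535 = n4535 := d19_2 F10077 D4535 (iv D4535)
def n4536 : Q := act 6 n3263
theorem D4536 : act 6 n3263 = n4536 := rfl
theorem F14046 : act 0 n4536 = n3272 := d5_1 D4536 (iv D3272) (iv F10075)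
theorem F14047 : act 2 n4536 = n3264 := d16_1 D4536 (iv D3264) D3263
theorem F14048 : act 4 n4536 = n4203 := d23_1 D4536 F13002 (iv F10076)
def n4537 : Q := act 5 n3264
theorem D4537 : act 5 n3264 = n4537 := rfl
theorem F14049 : act 0 n4537 = n3273 := d4_1 D4537 (iv D3273) (iv F10079)
theorem F14050 : act 1 n4537 = n3721 := d10_1 D4537 (iv D3721) F8019 (iv F7023) (iv F10080)
theorem F14051 : act 3 n4537 = n4537 := d19_1 D4537 (iv D4537) F10081
theorem F14052 : act 4 n4537 = n3722 := d22_1 D4537 F11474 (iv F10082)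
theorem F14053 : act 6 n4537 = n4537 := d25_2 D3264 D4537 (iv D4537) (iv D3264) F7018
def n4538 : Q := act 2 n3265
theorem D4538 : act 2 n3265 = n4538 := rfl
theorem F14054 : act 0 n4538 = n4538 := d1_1 D4538 (iv D4538) F10083
theorem F14055 : act 1 n4538 = n3790 := d7_1 D4538 (iv D3790) F8153 (iv F7030) (iv F10084)
theorem F14056 : act 3 n4538 = n4538 := d13_2 D3265 D4538 (iv D4538) (iv D3265) F7025
theorem F14057 : act 6 n4538 = n3281 := d16_2 (iv F10085) D4538 (iv D3281)
theorem F14058 : act 4 n4486 = n4538 := d23_3 F14057 F10599 (iv F13874)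
theorem F14059 : act 5 n4485 = n4538 := d25_5 F14057 (iv F10597) (iv D3220) (iv F9916) D4485
def n4539 : Q := act 4 n3265
theorem D4539 : act 4 n3265 = n4539 := rfl
theorem F14060 : act 0 n4539 = n4539 := d3_1 D4539 (iv D4539) F10083
theorem F14061 : act 1 n4539 = n3267 := d9_1 D4539 (iv D3267) (iv F10084)
theorem F14062 : act 2 n4539 = n4486 := d14_1 D4539 F14058 (iv D4538)
theorem F14063 : act 3 n4539 = n4539 := d18_1 D4539 (iv D4539) (iv D3265) F7026 D3265
theorem F14064 : act 6 n4539 = n3282 := d23_2 (iv F10085) D4539 (iv D3282)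
theorem F14065 : act 7 n4539 = n3537 := d24_2 F13367 D4539 (iv F13366)
theorem F14066 : act 5 n4484 = n4539 := d25_5 F14064 F10601 (iv D3219) (iv F9913) D4484
def n4540 : Q := act 5 n3265
theorem D4540 : act 5 n3265 = n4540 := rfl
theorem F14067 : act 0 n4540 = n4540 := d4_1 D4540 (iv D4540) F10083
theorem F14068 : act 2 n4540 = n4485 := d15_1 D4540 F14059 (iv D4538)
theorem F14069 : act 3 n4540 = n3266 := d19_1 D4540 (iv D3266) D3265
theorem F14070 : act 4 n4540 = n4484 := d22_1 D4540 F14066 (iv D4539)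
theorem F14071 : act 6 n4540 = n4483 := d25_2 (iv F10085) D4540 F13858 (iv F10603) (iv D3283)
def n4541 : Q := act 3 n3268
theorem D4541 : act 3 n3268 = n4541 := rfl
theorem F14072 : act 0 n4541 = n4523 := d2_1 D4541 (iv D4523) (iv F10096)
theorem F14073 : act 2 n4541 = n4524 := d13_1 D4541 (iv D4524) (iv D3247) (iv F7039) D3268
theorem F14074 : act 5 n4541 = n4541 := d19_2 F10098 D4541 (iv D4541)
def n4542 : Q := act 6 n3268
theorem D4542 : act 6 n3268 = n4542 := rfl
theorem F14075 : act 0 n4542 = n4203 := d5_1 D4542 F13002 (iv F10096)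
theorem F14076 : act 2 n4542 = n3269 := d16_1 D4542 (iv D3269) D3268
theorem F14077 : act 4 n4542 = n3272 := d23_1 D4542 (iv D3272) (iv F10097)
def n4543 : Q := act 5 n3269
theorem D4543 : act 5 n3269 = n4543 := rfl
theorem F14078 : act 0 n4543 = n3722 := d4_1 D4543 F11474 (iv F10100)
theorem F14079 : act 1 n4543 = n3759 := d10_1 D4543 F11573 F8138 (iv F7046) (iv F10101)
theorem F14080 : act 3 n4543 = n3724 := d19_1 D4543 F11482 (iv F10102)
theorem F14081 : act 4 n4543 = n3273 := d22_1 D4543 (iv D3273) (iv F10103)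
theorem F14082 : act 6 n4543 = n4543 := d25_2 D3269 D4543 (iv D4543) (iv D3269) F7041
def n4544 : Q := act 7 n3269
theorem D4544 : act 7 n3269 = n4544 := rfl
theorem F14083 : act 0 n4544 = n4204 := d6_1 D4544 (iv D4204) (iv F10100)
theorem F14084 : act 1 n4544 = n3270 := d12_1 D4544 (iv D3270) (iv F10101)
theorem F14085 : act 4 n4544 = n3274 := d24_1 D4544 (iv D3274) (iv F10103)
theorem F14086 : act 6 n4544 = n3395 := d27_1 D4544 (iv D3395) (iv D2363) (iv F7042) D3269
def n4545 : Q := act 4 n3271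
theorem D4545 : act 4 n3271 = n4545 := rfl
theorem F14087 : act 2 n4545 = n4545 := d14_1 D4545 (iv D4545) F10108
theorem F14088 : act 5 n4545 = n4545 := d22_2 F10109 D4545 (iv D4545)
def n4546 : Q := act 6 n3271
theorem D4546 : act 6 n3271 = n4546 := rfl
theorem F14089 : act 2 n4546 = n4546 := d16_1 D4546 (iv D4546) F10108
theorem F14090 : act 3 n4546 = n3272 := d20_1 D4546 (iv D3272) D3271
def n4547 : Q := act 7 n3271
theorem D4547 : act 7 n3271 = n4547 := rfl
theorem F14091 : act 2 n4547 = n4547 := d17_1 D4547 (iv D4547) F10108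
theorem F14092 : act 3 n4547 = n3399 := d21_1 D4547 (iv D3399) (iv D2365) (iv F7048) D3271
theorem F14093 : act 5 n4547 = n4547 := d26_1 D4547 (iv D4547) F10109
def n4548 : Q := act 5 n3272
theorem D4548 : act 5 n3272 = n4548 := rfl
theorem F14094 : act 2 n4548 = n3273 := d15_1 D4548 (iv D3273) (iv F10110)
theorem F14095 : act 6 n4548 = n4548 := d25_2 D3272 D4548 (iv D4548) (iv D3272) F7047
def n4549 : Q := act 7 n3272
theorem D4549 : act 7 n3272 = n4549 := rfl
theorem F14096 : act 2 n4549 = n3274 := d17_1 D4549 (iv D3274) (iv F10110)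
theorem F14097 : act 6 n4549 = n3401 := d27_1 D4549 (iv D3401) (iv D2366) (iv F7048) D3272
def n4550 : Q := act 1 n3273
theorem D4550 : act 1 n3273 = n4550 := rfl
theorem F14098 : act 0 n4550 = n3758 := d0_1 D4550 (iv D3758) (iv F11468) (iv F14050) F14049
theorem F14099 : act 3 n4550 = n4550 := d8_2 F10111 D4550 (iv D4550)
theorem F14100 : act 4 n4550 = n3759 := d9_2 F14081 D4550 (iv F14079)
theorem F14101 : act 5 n4550 = n3275 := d10_2 D3273 D4550 (iv D3275) (iv D2272) (iv F7049)
theorem F14102 : act 6 n4550 = n4550 := d11_2 F10112 D4550 (iv D4550)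
def n4551 : Q := act 7 n3273
theorem D4551 : act 7 n3273 = n4551 := rfl
theorem F14103 : act 5 n4551 = n3274 := d26_1 D4551 (iv D3274) D3273
def n4552 : Q := act 2 n3275
theorem D4552 : act 2 n3275 = n4552 := rfl
theorem F14104 : act 0 n4552 = n3782 := d1_1 D4552 (iv D3782) (iv F10115)
theorem F14105 : act 4 n4552 = n3783 := d14_2 (iv F10117) D4552 (iv D3783)
theorem F14106 : act 6 n4552 = n3276 := d16_2 (iv F10118) D4552 (iv D3276)
def n4553 : Q := act 6 n3278
theorem D4553 : act 6 n3278 = n4553 := rfl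
theorem F14107 : act 0 n4553 = n3804 := d5_1 D4553 F11742 (iv F10126)
theorem F14108 : act 2 n4553 = n4553 := d16_1 D4553 (iv D4553) F10127
theorem F14109 : act 4 n4553 = n3797 := d23_1 D4553 F11714 (iv F10128)
theorem F14110 : act 5 n4553 = n3794 := d25_1 D4553 (iv D3794) (iv D2655) (iv F7069) D3278
def n4554 : Q := act 6 n3279
theorem D4554 : act 6 n3279 = n4554 := rfl
theorem F14111 : act 0 n4554 = n3280 := d5_1 D4554 (iv D3280) (iv F10130)
theorem F14112 : act 2 n4554 = n3287 := d16_1 D4554 (iv D3287) (iv F10131)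
theorem F14113 : act 3 n4554 = n4554 := d20_1 D4554 (iv D4554) F10132
theorem F14114 : act 7 n4554 = n4237 := d27_2 D3279 D4554 (iv D4237) (iv D3022) (iv F7073)
def n4555 : Q := act 7 n3282
theorem D4555 : act 7 n3282 = n4555 := rfl
theorem F14115 : act 0 n4555 = n4555 := d6_1 D4555 (iv D4555) F10139
theorem F14116 : act 1 n4555 = n3286 := d12_1 D4555 (iv D3286) (iv F10140)
theorem F14117 : act 2 n4555 = n3976 := d17_1 D4555 (iv F12346) F10600
theorem F14118 : act 4 n4555 = n3284 := d24_1 D4555 (iv D3284) D3282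
theorem F14119 : act 5 n4555 = n4416 := d26_1 D4555 F13646 (iv F10601)
def n4556 : Q := act 6 n3284
theorem D4556 : act 6 n3284 = n4556 := rfl
theorem F14120 : act 0 n4556 = n4556 := d5_1 D4556 (iv D4556) F10144
theorem F14121 : act 1 n4556 = n3287 := d11_1 D4556 (iv D3287) (iv F10145)
theorem F14122 : act 3 n4556 = n3297 := d20_1 D4556 (iv D3297) (iv F10146)
def n4557 : Q := act 3 n3286
theorem D4557 : act 3 n3286 = n4557 := rfl
theorem F14123 : act 0 n4557 = n3288 := d2_1 D4557 (iv D3288) (iv F10150)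
theorem F14124 : act 4 n4557 = n3299 := d18_2 (iv F10151) D4557 (iv D3299) F7109 (iv F7086)
theorem F14125 : act 7 n4557 = n4557 := d21_2 D3286 D4557 (iv D4557) (iv D3286) F7084
def n4558 : Q := act 6 n3286
theorem D4558 : act 6 n3286 = n4558 := rfl
theorem F14126 : act 0 n4558 = n3289 := d5_1 D4558 (iv D3289) (iv F10150)
theorem F14127 : act 4 n4558 = n3287 := d23_1 D4558 (iv D3287) (iv F10151)
theorem F14128 : act 7 n4558 = n3538 := d27_2 D3286 D4558 (iv D3538) (iv F10095) F10094
def n4559 : Q := act 6 n3288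
theorem D4559 : act 6 n3288 = n4559 := rfl
theorem F14129 : act 1 n4559 = n4559 := d11_1 D4559 (iv D4559) F10154
theorem F14130 : act 3 n4559 = n3289 := d20_1 D4559 (iv D3289) D3288
theorem F14131 : act 4 n4559 = n3303 := d23_1 D4559 (iv D3303) (iv F10155)
theorem F14132 : act 7 n3556 = n4559 := d21_0 F14130 F10159 F7611 D2487 D3556
def n4560 : Q := act 3 n3290
theorem D4560 : act 3 n3290 = n4560 := rfl
theorem F14133 : act 0 n4560 = n4560 := d2_1 D4560 (iv D4560) F10160
theorem F14134 : act 1 n4560 = n4560 := d8_1 D4560 (iv D4560) F10161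
theorem F14135 : act 2 n4560 = n4560 := d13_1 D4560 (iv D4560) F10162 F7097 (iv F10162)
theorem F14136 : act 4 n4560 = n4560 := d18_2 D3290 D4560 (iv D4560) (iv D3290) F7093
theorem F14137 : act 6 n4560 = n4560 := d20_2 F10163 D4560 (iv D4560)
def n4561 : Q := act 5 n3290
theorem D4561 : act 5 n3290 = n4561 := rfl
theorem F14138 : act 0 n4561 = n4561 := d4_1 D4561 (iv D4561) F10160
theorem F14139 : act 2 n4561 = n3293 := d15_1 D4561 (iv D3293) (iv F10162)
theorem F14140 : act 4 n4561 = n3291 := d22_1 D4561 (iv D3291) D3290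
def n4562 : Q := act 7 n3290
theorem D4562 : act 7 n3290 = n4562 := rfl
theorem F14141 : act 0 n4562 = n4562 := d6_1 D4562 (iv D4562) F10160
theorem F14142 : act 1 n4562 = n4562 := d12_1 D4562 (iv D4562) F10161
theorem F14143 : act 2 n4562 = n3294 := d17_1 D4562 (iv D3294) (iv F10162)
theorem F14144 : act 4 n4562 = n3292 := d24_1 D4562 (iv D3292) D3290
theorem F14145 : act 3 n4562 = n4562 := d18_5 F14144 (iv F10636) F10637 F10636 (iv F14144)
theorem F14146 : act 7 n4560 = n4560 := d21_4 D4562 F14145 (iv D4562) D4560 (iv D4560)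
def n4563 : Q := act 6 n3291
theorem D4563 : act 6 n3291 = n4563 := rfl
theorem F14147 : act 0 n4563 = n4563 := d5_1 D4563 (iv D4563) F10164
theorem F14148 : act 2 n4563 = n3295 := d16_1 D4563 (iv D3295) (iv F10165)
theorem F14149 : act 3 n4563 = n4563 := d20_1 D4563 (iv D4563) F10166
theorem F14150 : act 5 n4563 = n4563 := d25_1 D4563 (iv D4563) (iv D3291) F7094 D3291
def n4564 : Q := act 6 n3292
theorem D4564 : act 6 n3292 = n4564 := rfl
theorem F14151 : act 0 n4564 = n4564 := d5_1 D4564 (iv D4564) F10167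
theorem F14152 : act 1 n4564 = n4564 := d11_1 D4564 (iv D4564) F10168
theorem F14153 : act 2 n4564 = n3297 := d16_1 D4564 (iv D3297) (iv F10169)
theorem F14154 : act 7 n4564 = n4564 := d27_2 D3292 D4564 (iv D4564) (iv D3292) F7094
def n4565 : Q := act 6 n3293
theorem D4565 : act 6 n3293 = n4565 := rfl
theorem F14155 : act 0 n4565 = n4565 := d5_1 D4565 (iv D4565) F10170
theorem F14156 : act 3 n4565 = n4565 := d20_1 D4565 (iv D4565) F10171
theorem F14157 : act 4 n4565 = n3295 := d23_1 D4565 (iv D3295) (iv F10172)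
theorem F14158 : act 5 n4565 = n4565 := d25_1 D4565 (iv D4565) (iv D3293) F7098 D3293
def n4566 : Q := act 7 n3293
theorem D4566 : act 7 n3293 = n4566 := rfl
theorem F14159 : act 0 n4566 = n4566 := d6_1 D4566 (iv D4566) F10170
theorem F14160 : act 4 n4566 = n3296 := d24_1 D4566 (iv D3296) (iv F10172)
theorem F14161 : act 5 n4566 = n3294 := d26_1 D4566 (iv D3294) D3293
def n4567 : Q := act 3 n3294
theorem D4567 : act 3 n3294 = n4567 := rfl
theorem F14162 : act 0 n4567 = n4567 := d2_1 D4567 (iv D4567) F10173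
theorem F14163 : act 1 n4567 = n3299 := d8_1 D4567 (iv D3299) (iv F10174)
theorem F14164 : act 2 n4567 = n4567 := d13_1 D4567 (iv D4567) (iv F14143) F14145 F14143
theorem F14165 : act 7 n4567 = n4567 := d21_2 D3294 D4567 (iv D4567) (iv D3294) F7097
def n4568 : Q := act 6 n3294
theorem D4568 : act 6 n3294 = n4568 := rfl
theorem F14166 : act 0 n4568 = n4568 := d5_1 D4568 (iv D4568) F10173
theorem F14167 : act 1 n4568 = n3300 := d11_1 D4568 (iv D3300) (iv F10174)
theorem F14168 : act 4 n4568 = n3297 := d23_1 D4568 (iv D3297) (iv F10175)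
theorem F14169 : act 7 n4568 = n4568 := d27_2 D3294 D4568 (iv D4568) (iv D3294) F7098
def n4569 : Q := act 7 n3295
theorem D4569 : act 7 n3295 = n4569 := rfl
theorem F14170 : act 0 n4569 = n4569 := d6_1 D4569 (iv D4569) F10176
theorem F14171 : act 5 n4569 = n4569 := d26_1 D4569 (iv D4569) F10178
def n4570 : Q := act 6 n3296
theorem D4570 : act 6 n3296 = n4570 := rfl
theorem F14172 : act 0 n4570 = n4570 := d5_1 D4570 (iv D4570) F10179
def n4571 : Q := act 5 n3297
theorem D4571 : act 5 n3297 = n4571 := rfl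
theorem F14173 : act 0 n4571 = n4571 := d4_1 D4571 (iv D4571) F10181
theorem F14174 : act 7 n4571 = n4571 := d26_2 F10183 D4571 (iv D4571)
def n4572 : Q := act 2 n3299
theorem D4572 : act 2 n3299 = n4572 := rfl
theorem F14175 : act 0 n4572 = n3302 := d1_1 D4572 (iv D3302) (iv F10188)
theorem F14176 : act 1 n4572 = n4572 := d7_1 D4572 (iv D4572) (iv F14163) F14164 F14163
theorem F14177 : act 3 n4572 = n4572 := d13_2 D3299 D4572 (iv D4572) (iv D3299) F7108
theorem F14178 : act 7 n4572 = n4572 := d17_2 F10189 D4572 (iv D4572)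
def n4573 : Q := act 6 n3299
theorem D4573 : act 6 n3299 = n4573 := rfl
theorem F14179 : act 0 n4573 = n3303 := d5_1 D4573 (iv D3303) (iv F10188)
theorem F14180 : act 3 n4573 = n3300 := d20_1 D4573 (iv D3300) D3299
def n4574 : Q := act 5 n3300
theorem D4574 : act 5 n3300 = n4574 := rfl
theorem F14181 : act 0 n4574 = n3304 := d4_1 D4574 (iv D3304) (iv F10190)
theorem F14182 : act 2 n4574 = n4574 := d15_1 D4574 (iv D4574) F10191
theorem F14183 : act 4 n4574 = n3301 := d22_1 D4574 (iv D3301) (iv F10192)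
theorem F14184 : act 7 n4574 = n4574 := d26_2 F10193 D4574 (iv D4574)
def n4575 : Q := act 1 n3301
theorem D4575 : act 1 n3301 = n4575 := rfl
theorem F14185 : act 7 n4575 = n4575 := d12_2 F10196 D4575 (iv D4575)
def n4576 : Q := act 6 n3302
theorem D4576 : act 6 n3302 = n4576 := rfl
theorem F14186 : act 2 n4576 = n3303 := d16_1 D4576 (iv D3303) D3302
theorem F14187 : act 3 n4576 = n4576 := d20_1 D4576 (iv D4576) F10197
def n4577 : Q := act 5 n3303
theorem D4577 : act 5 n3303 = n4577 := rfl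
theorem F14188 : act 3 n4577 = n3304 := d19_1 D4577 (iv D3304) (iv F10200)
def n4578 : Q := act 7 n3303
theorem D4578 : act 7 n3303 = n4578 := rfl
theorem F14189 : act 1 n4578 = n4578 := d12_1 D4578 (iv D4578) F10199
theorem F14190 : act 3 n4578 = n4578 := d21_1 D4578 (iv D4578) F10200 F7118 (iv F10200)
theorem F14191 : act 4 n4578 = n3556 := d24_1 D4578 F14132 F14131
theorem F14192 : act 6 n4578 = n4578 := d27_1 D4578 (iv D4578) (iv D3303) F7114 D3303
def n4579 : Q := act 2 n3305
theorem D4579 : act 2 n3305 = n4579 := rfl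
theorem F14193 : act 0 n4579 = n3414 := d1_1 D4579 (iv D3414) (iv F10204)
theorem F14194 : act 3 n4579 = n3315 := d13_2 D3305 D4579 (iv D3315) (iv D2300) (iv F7122)
def n4580 : Q := act 4 n3305
theorem D4580 : act 4 n3305 = n4580 := rfl
theorem F14195 : act 0 n4580 = n3415 := d3_1 D4580 (iv D3415) (iv F10204)
theorem F14196 : act 1 n4580 = n4469 := d9_1 D4580 (iv F13828) F13749
theorem F14197 : act 3 n4580 = n3312 := d18_1 D4580 (iv D3312) (iv D2298) (iv F7123) D3305
theorem F14198 : act 7 n4580 = n4482 := d24_2 F11142 D4580 F13862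
def n4581 : Q := act 6 n3305
theorem D4581 : act 6 n3305 = n4581 := rfl
theorem F14199 : act 0 n4581 = n3416 := d5_1 D4581 (iv D3416) (iv F10204)
theorem F14200 : act 3 n4581 = n3306 := d20_1 D4581 (iv D3306) D3305
def n4582 : Q := act 5 n3306
theorem D4582 : act 5 n3306 = n4582 := rfl
theorem F14201 : act 0 n4582 = n3417 := d4_1 D4582 (iv D3417) (iv F10205)
theorem F14202 : act 2 n4582 = n3317 := d15_1 D4582 (iv D3317) (iv F10206)
theorem F14203 : act 4 n4582 = n3314 := d22_1 D4582 (iv D3314) (iv F10207)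
theorem F14204 : act 7 n4582 = n4582 := d26_2 F10208 D4582 (iv D4582)
def n4583 : Q := act 7 n3307
theorem D4583 : act 7 n3307 = n4583 := rfl
theorem F14205 : act 0 n4583 = n3308 := d6_1 D4583 (iv D3308) D3307
theorem F14206 : act 1 n4583 = n3418 := d12_1 D4583 (iv D3418) (iv F10209)
theorem F14207 : act 4 n4583 = n3822 := d24_1 D4583 (iv D3822) (iv F10211)
theorem F14208 : act 3 n4247 = n4583 := d8_0 F14206 (iv F10515) (iv F13138)
def n4584 : Q := act 3 n3308
theorem D4584 : act 3 n3308 = n4584 := rfl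
theorem F14209 : act 0 n4584 = n4247 := d2_1 D4584 F14208 F14205
theorem F14210 : act 1 n4584 = n3309 := d8_1 D4584 (iv D3309) (iv F10212)
theorem F14211 : act 7 n4584 = n4584 := d21_2 D3308 D4584 (iv D4584) (iv D3308) F7124
theorem F14212 : act 2 n4246 = n4584 := d7_0 F14210 (iv F11774) F11773 F9360 (iv F13135)
def n4585 : Q := act 6 n3308
theorem D4585 : act 6 n3308 = n4585 := rfl
theorem F14213 : act 1 n4585 = n3310 := d11_1 D4585 (iv D3310) (iv F10212)
def n4586 : Q := act 6 n3309
theorem D4586 : act 6 n3309 = n4586 := rfl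
theorem F14214 : act 0 n4586 = n3420 := d5_1 D4586 (iv D3420) (iv F10213)
theorem F14215 : act 3 n4586 = n3310 := d20_1 D4586 (iv D3310) D3309
def n4587 : Q := act 5 n3310
theorem D4587 : act 5 n3310 = n4587 := rfl
theorem F14216 : act 0 n4587 = n3421 := d4_1 D4587 (iv D3421) (iv F10216)
theorem F14217 : act 2 n4587 = n3320 := d15_1 D4587 (iv D3320) (iv F10217)
theorem F14218 : act 6 n4587 = n3314 := d25_2 D3310 D4587 (iv D3314) (iv D2299) (iv F7127)
def n4588 : Q := act 1 n3311
theorem D4588 : act 1 n3311 = n4588 := rfl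
theorem F14219 : act 0 n4588 = n4255 := d0_1 D4588 F13165 F10126 F8201 (iv F10218)
theorem F14220 : act 3 n4588 = n3321 := d8_2 (iv F10219) D4588 (iv D3321)
theorem F14221 : act 5 n4588 = n4251 := d10_2 F11777 D4588 (iv D4251) F9365 (iv F11773)
theorem F14222 : act 7 n4588 = n4588 := d12_2 F10220 D4588 (iv D4588)
def n4589 : Q := act 6 n3311
theorem D4589 : act 6 n3311 = n4589 := rfl
theorem F14223 : act 0 n4589 = n3422 := d5_1 D4589 (iv D3422) (iv F10218)
theorem F14224 : act 2 n4589 = n3313 := d16_1 D4589 (iv D3313) D3311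
theorem F14225 : act 3 n4589 = n3322 := d20_1 D4589 (iv D3322) (iv F10219)
def n4590 : Q := act 6 n3312
theorem D4590 : act 6 n3312 = n4590 := rfl
theorem F14226 : act 0 n4590 = n3423 := d5_1 D4590 (iv D3423) (iv F10221)
theorem F14227 : act 4 n4590 = n3313 := d23_1 D4590 (iv D3313) D3312
def n4591 : Q := act 5 n3313
theorem D4591 : act 5 n3313 = n4591 := rfl
theorem F14228 : act 0 n4591 = n3424 := d4_1 D4591 (iv D3424) (iv F10223)
theorem F14229 : act 3 n4591 = n3314 := d19_1 D4591 (iv D3314) (iv F10224)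
def n4592 : Q := act 7 n3313
theorem D4592 : act 7 n3313 = n4592 := rfl
theorem F14230 : act 0 n4592 = n3425 := d6_1 D4592 (iv D3425) (iv F10223)
theorem F14231 : act 3 n4592 = n4592 := d21_1 D4592 (iv D4592) F10224 F7132 (iv F10224)
theorem F14232 : act 6 n4592 = n4592 := d27_1 D4592 (iv D4592) (iv D3313) F7129 D3313
def n4593 : Q := act 1 n3314
theorem D4593 : act 1 n3314 = n4593 := rfl
theorem F14233 : act 7 n4593 = n4593 := d12_2 F10227 D4593 (iv D4593)
def n4594 : Q := act 1 n3315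
theorem D4594 : act 1 n3315 = n4594 := rfl
theorem F14234 : act 2 n4594 = n3328 := d7_2 D3315 D4594 (iv D3328) (iv D2309) (iv F7134)
theorem F14235 : act 7 n4594 = n3409 := d12_2 (iv F10229) D4594 (iv D3409)
def n4595 : Q := act 6 n3315
theorem D4595 : act 6 n3315 = n4595 := rfl
theorem F14236 : act 0 n4595 = n3428 := d5_1 D4595 (iv D3428) (iv F10228)
theorem F14237 : act 2 n4595 = n3316 := d16_1 D4595 (iv D3316) D3315
def n4596 : Q := act 5 n3316
theorem D4596 : act 5 n3316 = n4596 := rfl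
theorem F14238 : act 0 n4596 = n3429 := d4_1 D4596 (iv D3429) (iv F10230)
theorem F14239 : act 3 n4596 = n3317 := d19_1 D4596 (iv D3317) (iv F10232)
def n4597 : Q := act 1 n3317
theorem D4597 : act 1 n3317 = n4597 := rfl
theorem F14240 : act 4 n4597 = n3324 := d9_2 (iv F10234) D4597 (iv D3324)
theorem F14241 : act 5 n4597 = n3331 := d10_2 D3317 D4597 (iv D3331) (iv D2311) (iv F7137)
theorem F14242 : act 7 n4597 = n4597 := d12_2 F10235 D4597 (iv D4597)
def n4598 : Q := act 6 n3318
theorem D4598 : act 6 n3318 = n4598 := rfl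
theorem F14243 : act 0 n4598 = n3431 := d5_1 D4598 (iv D3431) (iv F10236)
theorem F14244 : act 2 n4598 = n3319 := d16_1 D4598 (iv D3319) D3318
theorem F14245 : act 7 n4598 = n4598 := d27_2 (iv F10238) D4598 (iv D4598) F10238 F7154
def n4599 : Q := act 5 n3319
theorem D4599 : act 5 n3319 = n4599 := rfl
theorem F14246 : act 0 n4599 = n3432 := d4_1 D4599 (iv D3432) (iv F10239)
theorem F14247 : act 3 n4599 = n3320 := d19_1 D4599 (iv D3320) (iv F10240)
theorem F14248 : act 6 n4599 = n3323 := d25_2 D3319 D4599 (iv D3323) (iv D2305) (iv F7141)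
theorem F14249 : act 7 n4599 = n4599 := d26_2 F10241 D4599 (iv D4599)
def n4600 : Q := act 1 n3320
theorem D4600 : act 1 n3320 = n4600 := rfl
theorem F14250 : act 6 n4600 = n3324 := d11_2 (iv F10243) D4600 (iv D3324)
def n4601 : Q := act 0 n3321
theorem D4601 : act 0 n3321 = n4601 := rfl
theorem F14251 : act 1 n4601 = n3434 := d0_2 D3321 D4601 (iv D3434) (iv D2393) (iv F7144)
theorem F14252 : act 2 n4601 = n3332 := d1_2 (iv F10244) D4601 (iv D3332)
theorem F14253 : act 3 n4601 = n4255 := d2_2 F14220 D4601 (iv F14219)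
theorem F14254 : act 7 n4601 = n3326 := d6_2 (iv F10245) D4601 (iv D3326)
theorem F14255 : act 5 n4254 = n4601 := d19_0 F14253 (iv D4255) D4254
def n4602 : Q := act 5 n3321
theorem D4602 : act 5 n3321 = n4602 := rfl
theorem F14256 : act 0 n4602 = n4254 := d4_1 D4602 F14255 (iv D4601)
theorem F14257 : act 1 n4602 = n4252 := d10_1 D4602 F13158 F13149 F10237 D3321
theorem F14258 : act 2 n4602 = n3333 := d15_1 D4602 (iv D3333) (iv F10244)
theorem F14259 : act 3 n4602 = n4251 := d19_1 D4602 (iv F14221) F14220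
theorem F14260 : act 7 n4602 = n3327 := d26_2 (iv F10245) D4602 (iv D3327)
def n4603 : Q := act 6 n3321
theorem D4603 : act 6 n3321 = n4603 := rfl
theorem F14261 : act 1 n4603 = n3322 := d11_1 D4603 (iv D3322) D3321
theorem F14262 : act 2 n4603 = n3334 := d16_1 D4603 (iv D3334) (iv F10244)
def n4604 : Q := act 5 n3322
theorem D4604 : act 5 n3322 = n4604 := rfl
theorem F14263 : act 0 n4604 = n3436 := d4_1 D4604 (iv D3436) (iv F10246)
theorem F14264 : act 2 n4604 = n3323 := d15_1 D4604 (iv D3323) (iv F10247)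
def n4605 : Q := act 1 n3323
theorem D4605 : act 1 n3323 = n4605 := rfl
theorem F14265 : act 3 n4605 = n3324 := d8_2 (iv F10249) D4605 (iv D3324)
theorem F14266 : act 5 n4605 = n3336 := d10_2 D3323 D4605 (iv D3336) (iv D2314) (iv F7147)
theorem F14267 : act 7 n4605 = n4537 := d12_2 F11472 D4605 F14050
theorem F14268 : act 0 n4551 = n4605 := d6_3 F14267 F14049 D4551
def n4606 : Q := act 0 n3324
theorem D4606 : act 0 n3324 = n4606 := rfl
theorem F14269 : act 1 n4606 = n3438 := d0_2 D3324 D4606 (iv D3438) (iv D2396) (iv F7149)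
theorem F14270 : act 3 n4606 = n4551 := d2_2 F14265 D4606 F14268
theorem F14271 : act 5 n4606 = n3337 := d4_2 (iv F10250) D4606 (iv D3337)
theorem F14272 : act 7 n4606 = n4606 := d6_2 F10251 D4606 (iv D4606)
def n4607 : Q := act 2 n3324
theorem D4607 : act 2 n3324 = n4607 := rfl
theorem F14273 : act 5 n4607 = n3338 := d15_2 (iv F10250) D4607 (iv D3338)
theorem F14274 : act 7 n4607 = n4607 := d17_2 F10251 D4607 (iv D4607)
def n4608 : Q := act 5 n3325
theorem D4608 : act 5 n3325 = n4608 := rfl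
theorem F14275 : act 0 n4608 = n4253 := d4_1 D4608 F13163 F10957
theorem F14276 : act 1 n4608 = n3327 := d10_1 D4608 (iv D3327) (iv D2308) (iv F7153) D3325
theorem F14277 : act 3 n4608 = n4608 := d19_1 D4608 (iv D4608) F10252
theorem F14278 : act 7 n4608 = n4252 := d26_2 F13152 D4608 F13158
def n4609 : Q := act 5 n3326
theorem D4609 : act 5 n3326 = n4609 := rfl
theorem F14279 : act 0 n4609 = n3327 := d4_1 D4609 (iv D3327) D3326
theorem F14280 : act 1 n4609 = n4256 := d10_1 D4609 F13171 F10563 (iv D3440) (iv F10254)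
theorem F14281 : act 2 n4609 = n3339 := d15_1 D4609 (iv D3339) (iv F10255)
theorem F14282 : act 3 n4609 = n4609 := d19_1 D4609 (iv D4609) F10256
theorem F14283 : act 7 n4609 = n4254 := d26_2 F14254 D4609 F14255
def n4610 : Q := act 6 n3327
theorem D4610 : act 6 n3327 = n4610 := rfl
theorem F14284 : act 2 n4610 = n3340 := d16_1 D4610 (iv D3340) (iv F10257)
theorem F14285 : act 3 n4610 = n4610 := d20_1 D4610 (iv D4610) F10258
def n4611 : Q := act 0 n3328
theorem D4611 : act 0 n3328 = n4611 := rfl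
theorem F14286 : act 1 n4611 = n3358 := d0_2 D3328 D4611 (iv D3358) (iv D2332) (iv F7157)
theorem F14287 : act 3 n4611 = n4058 := d2_2 F13894 D4611 (iv F13893)
theorem F14288 : act 4 n4611 = n4235 := d3_2 F13301 D4611 (iv F13298)
theorem F14289 : act 7 n4611 = n3410 := d6_2 (iv F10259) D4611 (iv D3410)
def n4612 : Q := act 5 n3328
theorem D4612 : act 5 n3328 = n4612 := rfl
theorem F14290 : act 7 n4612 = n3411 := d26_2 (iv F10259) D4612 (iv D3411)
def n4613 : Q := act 6 n3328
theorem D4613 : act 6 n3328 = n4613 := rfl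
theorem F14291 : act 1 n4613 = n3329 := d11_1 D4613 (iv D3329) D3328
def n4614 : Q := act 5 n3329
theorem D4614 : act 5 n3329 = n4614 := rfl
theorem F14292 : act 0 n4614 = n3360 := d4_1 D4614 (iv D3360) (iv F10260)
theorem F14293 : act 2 n4614 = n3330 := d15_1 D4614 (iv D3330) (iv F10261)
def n4615 : Q := act 1 n3330
theorem D4615 : act 1 n3330 = n4615 := rfl
theorem F14294 : act 3 n4615 = n3331 := d8_2 (iv F10263) D4615 (iv D3331)
def n4616 : Q := act 0 n3331
theorem D4616 : act 0 n3331 = n4616 := rfl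
theorem F14295 : act 1 n4616 = n3362 := d0_2 D3331 D4616 (iv D3362) (iv D2335) (iv F7161)
theorem F14296 : act 4 n4616 = n3337 := d3_2 (iv F10264) D4616 (iv D3337)
theorem F14297 : act 7 n4616 = n4616 := d6_2 F10265 D4616 (iv D4616)
def n4617 : Q := act 2 n3331
theorem D4617 : act 2 n3331 = n4617 := rfl
theorem F14298 : act 4 n4617 = n3338 := d14_2 (iv F10264) D4617 (iv D3338)
theorem F14299 : act 7 n4617 = n4617 := d17_2 F10265 D4617 (iv D4617)
def n4618 : Q := act 5 n3332
theorem D4618 : act 5 n3332 = n4618 := rfl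
theorem F14300 : act 0 n4618 = n3333 := d4_1 D4618 (iv D3333) D3332
theorem F14301 : act 1 n4618 = n4258 := d10_1 D4618 F13950 F13945 (iv F9989) (iv F10266)
theorem F14302 : act 2 n4618 = n4254 := d15_1 D4618 F14255 F14252
theorem F14303 : act 7 n4618 = n3339 := d26_2 (iv F10267) D4618 (iv D3339)
def n4619 : Q := act 6 n3332
theorem D4619 : act 6 n3332 = n4619 := rfl
theorem F14304 : act 0 n4619 = n3334 := d5_1 D4619 (iv D3334) D3332
theorem F14305 : act 1 n4619 = n3364 := d11_1 D4619 (iv D3364) (iv F10266)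
def n4620 : Q := act 6 n3333
theorem D4620 : act 6 n3333 = n4620 := rfl
def n4621 : Q := act 5 n3334
theorem D4621 : act 5 n3334 = n4621 := rfl
def n4622 : Q := act 1 n3335
theorem D4622 : act 1 n3335 = n4622 := rfl
theorem F14306 : act 7 n4622 = n4534 := d12_2 (iv F10272) D4622 F14041
def n4623 : Q := act 2 n3336
theorem D4623 : act 2 n3336 = n4623 := rfl
theorem F14307 : act 0 n4623 = n4549 := d1_1 D4623 F14096 (iv F10273)
theorem F14308 : act 7 n4623 = n4536 := d17_2 (iv F10275) D4623 F14047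
def n4624 : Q := act 2 n3337
theorem D4624 : act 2 n3337 = n4624 := rfl
theorem F14309 : act 0 n4624 = n3338 := d1_1 D4624 (iv D3338) D3337
theorem F14310 : act 7 n4624 = n4624 := d17_2 F10278 D4624 (iv D4624)
def n4625 : Q := act 3 n3338
theorem D4625 : act 3 n3338 = n4625 := rfl
def n4626 : Q := act 1 n3339
theorem D4626 : act 1 n3339 = n4626 := rfl
theorem F14311 : act 2 n4626 = n4261 := d7_2 F14281 D4626 F13182 (iv F13169) (iv F14280)
theorem F14312 : act 3 n4626 = n3343 := d8_2 (iv F10281) D4626 (iv D3343)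
theorem F14313 : act 5 n4626 = n3368 := d10_2 D3339 D4626 (iv D3368) (iv D2341) (iv F7171)
theorem F14314 : act 7 n4626 = n4258 := d12_2 F14303 D4626 (iv F14301)
def n4627 : Q := act 6 n3339
theorem D4627 : act 6 n3339 = n4627 := rfl
theorem F14315 : act 0 n4627 = n3340 := d5_1 D4627 (iv D3340) (iv F10280)
theorem F14316 : act 3 n4627 = n3344 := d20_1 D4627 (iv D3344) (iv F10281)
def n4628 : Q := act 7 n3340
theorem D4628 : act 7 n3340 = n4628 := rfl
def n4629 : Q := act 2 n3341
theorem D4629 : act 2 n3341 = n4629 := rfl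
theorem F14317 : act 0 n4629 = n3346 := d1_1 D4629 (iv D3346) (iv F10283)
theorem F14318 : act 1 n4629 = n4629 := d7_1 D4629 (iv D4629) F10284 F7239 (iv F10284)
theorem F14319 : act 3 n4629 = n4629 := d13_2 D3341 D4629 (iv D4629) (iv D3341) F7176
def n4630 : Q := act 5 n3341
theorem D4630 : act 5 n3341 = n4630 := rfl
theorem F14320 : act 0 n4630 = n3347 := d4_1 D4630 (iv D3347) (iv F10283)
theorem F14321 : act 3 n4630 = n3342 := d19_1 D4630 (iv D3342) D3341
def n4631 : Q := act 7 n3341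
theorem D4631 : act 7 n3341 = n4631 := rfl
theorem F14322 : act 0 n4631 = n3348 := d6_1 D4631 (iv D3348) (iv F10283)
theorem F14323 : act 1 n4631 = n3371 := d12_1 D4631 (iv D3371) (iv F10284)
theorem F14324 : act 3 n4631 = n4406 := d21_1 D4631 F13614 F9980 (iv F7177) D3341
def n4632 : Q := act 1 n3342
theorem D4632 : act 1 n3342 = n4632 := rfl
theorem F14325 : act 4 n4632 = n3343 := d9_2 (iv F10287) D4632 (iv D3343)
theorem F14326 : act 5 n4632 = n3372 := d10_2 D3342 D4632 (iv D3372) (iv D2344) (iv F7175)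
theorem F14327 : act 7 n4632 = n4520 := d12_2 (iv F10288) D4632 (iv D4520)
def n4633 : Q := act 6 n3342
theorem D4633 : act 6 n3342 = n4633 := rfl
theorem F14328 : act 0 n4633 = n3349 := d5_1 D4633 (iv D3349) (iv F10285)
theorem F14329 : act 2 n4633 = n4633 := d16_1 D4633 (iv D4633) F10286
theorem F14330 : act 4 n4633 = n3344 := d23_1 D4633 (iv D3344) (iv F10287)
def n4634 : Q := act 2 n3343
theorem D4634 : act 2 n3343 = n4634 := rfl
theorem F14331 : act 1 n4634 = n4634 := d7_1 D4634 (iv D4634) (iv D3343) F7179 D3343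
theorem F14332 : act 3 n4634 = n4268 := d13_2 F14312 D4634 F13203 (iv F13183) (iv F14311)
theorem F14333 : act 5 n4634 = n3374 := d15_2 (iv F10289) D4634 (iv D3374)
def n4635 : Q := act 6 n3343
theorem D4635 : act 6 n3343 = n4635 := rfl
theorem F14334 : act 1 n4635 = n3344 := d11_1 D4635 (iv D3344) D3343
def n4636 : Q := act 5 n3344
theorem D4636 : act 5 n3344 = n4636 := rfl
theorem F14335 : act 0 n4636 = n3351 := d4_1 D4636 (iv D3351) (iv F10290)
theorem F14336 : act 2 n4636 = n4636 := d15_1 D4636 (iv D4636) F10291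
theorem F14337 : act 6 n4636 = n3345 := d25_2 D3344 D4636 (iv D3345) (iv D2320) D2319
def n4637 : Q := act 7 n3344
theorem D4637 : act 7 n3344 = n4637 := rfl
theorem F14338 : act 0 n4637 = n3352 := d6_1 D4637 (iv D3352) (iv F10290)
theorem F14339 : act 2 n4637 = n4637 := d17_1 D4637 (iv D4637) F10291
def n4638 : Q := act 1 n3345
theorem D4638 : act 1 n3345 = n4638 := rfl
theorem F14340 : act 5 n4638 = n3378 := d10_2 D3345 D4638 (iv D3378) (iv D2347) (iv F7181)
theorem F14341 : act 7 n4638 = n4385 := d12_2 F10303 D4638 F13550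
def n4639 : Q := act 5 n3346
theorem D4639 : act 5 n3346 = n4639 := rfl
theorem F14342 : act 1 n4639 = n4639 := d10_1 D4639 (iv D4639) F10294 F7205 (iv F10294)
theorem F14343 : act 2 n4639 = n3347 := d15_1 D4639 (iv D3347) D3346
theorem F14344 : act 3 n4639 = n4639 := d19_1 D4639 (iv D4639) F10295
def n4640 : Q := act 7 n3346
theorem D4640 : act 7 n3346 = n4640 := rfl
theorem F14345 : act 1 n4640 = n3356 := d12_1 D4640 (iv D3356) (iv F10294)
theorem F14346 : act 2 n4640 = n3348 := d17_1 D4640 (iv D3348) D3346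
def n4641 : Q := act 6 n3347
theorem D4641 : act 6 n3347 = n4641 := rfl
theorem F14347 : act 1 n4641 = n3351 := d11_1 D4641 F10305 (iv F10296)
theorem F14348 : act 3 n4641 = n3349 := d20_1 D4641 (iv D3349) (iv F10297)
def n4642 : Q := act 7 n3347
theorem D4642 : act 7 n3347 = n4642 := rfl
theorem F14349 : act 1 n4642 = n3353 := d12_1 D4642 (iv D3353) (iv F10296)
theorem F14350 : act 4 n4642 = n4638 := d24_1 D4642 F14341 F13552
theorem F14351 : act 5 n4642 = n3348 := d26_1 D4642 (iv D3348) D3347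
def n4643 : Q := act 6 n3348
theorem D4643 : act 6 n3348 = n4643 := rfl
theorem F14352 : act 1 n4643 = n3355 := d11_1 D4643 (iv D3355) (iv F10298)
def n4644 : Q := act 5 n3349
theorem D4644 : act 5 n3349 = n4644 := rfl
theorem F14353 : act 2 n4644 = n4644 := d15_1 D4644 (iv D4644) F10299
theorem F14354 : act 4 n4644 = n3351 := d22_1 D4644 (iv D3351) (iv F10300)
theorem F14355 : act 6 n4644 = n3350 := d25_2 D3349 D4644 (iv D3350) (iv D2323) D2322
def n4645 : Q := act 7 n3349
theorem D4645 : act 7 n3349 = n4645 := rfl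
theorem F14356 : act 2 n4645 = n4645 := d17_1 D4645 (iv D4645) F10299
theorem F14357 : act 4 n4645 = n3352 := d24_1 D4645 (iv D3352) (iv F10300)
def n4646 : Q := act 7 n3351
theorem D4646 : act 7 n3351 = n4646 := rfl
theorem F14358 : act 2 n4646 = n4646 := d17_1 D4646 (iv D4646) F10304
theorem F14359 : act 5 n4646 = n3352 := d26_1 D4646 (iv D3352) D3351
def n4647 : Q := act 3 n3352
theorem D4647 : act 3 n3352 = n4647 := rfl
def n4648 : Q := act 3 n3353
theorem D4648 : act 3 n3353 = n4648 := rfl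
theorem F14360 : act 0 n4648 = n4383 := d2_1 D4648 F13546 (iv F10307)
theorem F14361 : act 4 n4648 = n4381 := d18_2 (iv F10309) D4648 F13540 (iv F13555) F13554
theorem F14362 : act 5 n4648 = n3354 := d19_2 (iv F10310) D4648 (iv D3354)
def n4649 : Q := act 6 n3353
theorem D4649 : act 6 n3353 = n4649 := rfl
theorem F14363 : act 0 n4649 = n4644 := d5_1 D4649 F14355 (iv F10307)
theorem F14364 : act 2 n4649 = n4649 := d16_1 D4649 (iv D4649) F10308
theorem F14365 : act 4 n4649 = n4636 := d23_1 D4649 F14337 (iv F10309)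
theorem F14366 : act 5 n4649 = n4633 := d25_1 D4649 (iv D4633) (iv D3342) (iv F7196) (iv F10310)
def n4650 : Q := act 2 n3354
theorem D4650 : act 2 n3354 = n4650 := rfl
theorem F14367 : act 0 n4650 = n4368 := d1_1 D4650 F13500 (iv F10311)
theorem F14368 : act 1 n4650 = n4650 := d7_1 D4650 (iv D4650) F10312 F7201 (iv F10312)
theorem F14369 : act 3 n4650 = n4650 := d13_2 D3354 D4650 (iv D4650) (iv D3354) F7194
theorem F14370 : act 4 n4650 = n4367 := d14_2 (iv F10313) D4650 F13498
theorem F14371 : act 6 n4650 = n4629 := d16_2 (iv F10314) D4650 (iv D4629)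
def n4651 : Q := act 3 n3356
theorem D4651 : act 3 n3356 = n4651 := rfl
theorem F14372 : act 0 n4651 = n4651 := d2_1 D4651 (iv D4651) F10317
theorem F14373 : act 2 n4651 = n4651 := d13_1 D4651 (iv D4651) F10318 F7208 (iv F10318)
theorem F14374 : act 5 n4651 = n4651 := d19_2 F10319 D4651 (iv D4651)
theorem F14375 : act 7 n4651 = n4651 := d21_2 D3356 D4651 (iv D4651) (iv D3356) F7204
def n4652 : Q := act 6 n3356
theorem D4652 : act 6 n3356 = n4652 := rfl
theorem F14376 : act 0 n4652 = n4652 := d5_1 D4652 (iv D4652) F10317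
theorem F14377 : act 2 n4652 = n3357 := d16_1 D4652 (iv D3357) (iv F10318)
def n4653 : Q := act 5 n3357
theorem D4653 : act 5 n3357 = n4653 := rfl
theorem F14378 : act 0 n4653 = n4653 := d4_1 D4653 (iv D4653) F10320
theorem F14379 : act 3 n4653 = n4653 := d19_1 D4653 (iv D4653) F10322
theorem F14380 : act 6 n4653 = n4653 := d25_2 D3357 D4653 (iv D4653) (iv D3357) F7209
def n4654 : Q := act 6 n3358
theorem D4654 : act 6 n3358 = n4654 := rfl
theorem F14381 : act 0 n4654 = n3359 := d5_1 D4654 (iv D3359) D3358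
theorem F14382 : act 2 n4654 = n3473 := d16_1 D4654 (iv D3473) (iv F10323)
theorem F14383 : act 3 n4654 = n4059 := d20_1 D4654 (iv D4059) (iv F10324)
theorem F14384 : act 4 n4654 = n4236 := d23_1 D4654 (iv D4236) (iv F10325)
def n4655 : Q := act 1 n3360
theorem D4655 : act 1 n3360 = n4655 := rfl
def n4656 : Q := act 0 n3361
theorem D4656 : act 0 n3361 = n4656 := rfl
theorem F14385 : act 3 n4656 = n3362 := d2_2 (iv F10333) D4656 (iv D3362)
theorem F14386 : act 4 n4656 = n4038 := d3_2 (iv F10334) D4656 F12545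
theorem F14387 : act 5 n4656 = n3475 := d4_2 (iv F10335) D4656 (iv D3475)
theorem F14388 : act 7 n4656 = n4036 := d6_2 (iv F10336) D4656 F12539
def n4657 : Q := act 2 n3361
theorem D4657 : act 2 n3361 = n4657 := rfl
theorem F14389 : act 4 n4657 = n4049 := d14_2 (iv F10334) D4657 F12584
theorem F14390 : act 5 n4657 = n3476 := d15_2 (iv F10335) D4657 (iv D3476)
theorem F14391 : act 7 n4657 = n4047 := d17_2 (iv F10336) D4657 F12578
def n4658 : Q := act 2 n3362
theorem D4658 : act 2 n3362 = n4658 := rfl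
theorem F14392 : act 0 n4658 = n3363 := d1_1 D4658 (iv D3363) D3362
theorem F14393 : act 4 n4658 = n3366 := d14_2 (iv F10337) D4658 (iv D3366)
theorem F14394 : act 5 n4658 = n3477 := d15_2 (iv F10338) D4658 (iv D3477)
theorem F14395 : act 7 n4658 = n4658 := d17_2 F10339 D4658 (iv D4658)
def n4659 : Q := act 3 n3363
theorem D4659 : act 3 n3363 = n4659 := rfl
theorem F14396 : act 5 n4659 = n3478 := d19_2 (iv F10341) D4659 (iv D3478)
def n4660 : Q := act 0 n3365
theorem D4660 : act 0 n3365 = n4660 := rfl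
theorem F14397 : act 2 n4660 = n4179 := d1_2 (iv F10345) D4660 F12939
theorem F14398 : act 3 n4660 = n3377 := d2_2 (iv F10346) D4660 F10384
theorem F14399 : act 5 n4660 = n4177 := d4_2 (iv F10347) D4660 F12933
theorem F14400 : act 6 n4660 = n4405 := d5_2 (iv F10348) D4660 F13609
theorem F14401 : act 7 n4660 = n4220 := d6_2 (iv F10349) D4660 F13065
def n4661 : Q := act 1 n3366
theorem D4661 : act 1 n3366 = n4661 := rfl
theorem F14402 : act 7 n4661 = n4661 := d12_2 F10352 D4661 (iv D4661)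
def n4662 : Q := act 3 n3366
theorem D4662 : act 3 n3366 = n4662 := rfl
theorem F14403 : act 0 n4662 = n3367 := d2_1 D4662 (iv D3367) (iv F10350)
theorem F14404 : act 2 n4662 = n4212 := d13_1 D4662 F13033 F9331 (iv F7228) D3366
theorem F14405 : act 5 n4662 = n3484 := d19_2 (iv F10351) D4662 (iv D3484)
theorem F14406 : act 6 n4662 = n4435 := d20_2 F10473 D4662 F13702
theorem F14407 : act 7 n3530 = n4662 := d6_0 F14403 (iv F10357) D3530
def n4663 : Q := act 4 n3367
theorem D4663 : act 4 n3367 = n4663 := rfl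
theorem F14408 : act 1 n4663 = n3408 := d9_1 D4663 (iv D3408) (iv F10353)
theorem F14409 : act 2 n4663 = n4208 := d14_1 D4663 F13018 (iv F10354)
theorem F14410 : act 5 n4663 = n3485 := d22_2 (iv F10355) D4663 (iv D3485)
theorem F14411 : act 6 n4663 = n4440 := d23_2 (iv F10356) D4663 (iv D4440)
theorem F14412 : act 7 n4663 = n3531 := d24_2 F10357 D4663 (iv D3531)
def n4664 : Q := act 2 n3368
theorem D4664 : act 2 n3368 = n4664 := rfl
theorem F14413 : act 1 n4664 = n3487 := d7_1 D4664 (iv D3487) (iv D2434) (iv F7234) D3368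
theorem F14414 : act 5 n4664 = n4261 := d15_2 F14313 D4664 (iv F14311)
theorem F14415 : act 7 n4664 = n4260 := d17_2 (iv F13949) D4664 (iv F13946)
theorem F14416 : act 3 n4272 = n4664 := d21_5 F14415 F13180 F9383 (iv F9404) D4272
def n4665 : Q := act 6 n3368
theorem D4665 : act 6 n3368 = n4665 := rfl
theorem F14417 : act 1 n4665 = n3369 := d11_1 D4665 (iv D3369) D3368
theorem F14418 : act 3 n4665 = n3375 := d20_1 D4665 (iv D3375) (iv F10358)
def n4666 : Q := act 1 n3370
theorem D4666 : act 1 n3370 = n4666 := rfl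
theorem F14419 : act 0 n4666 = n3378 := d0_1 D4666 (iv D3378) F7247 (iv F7251) (iv F10362)
theorem F14420 : act 3 n4666 = n3372 := d8_2 (iv F10364) D4666 (iv D3372)
theorem F14421 : act 4 n4666 = n4631 := d9_2 F10369 D4666 F14323
theorem F14422 : act 7 n4666 = n4382 := d12_2 (iv F10365) D4666 F13542
def n4667 : Q := act 6 n3370
theorem D4667 : act 6 n3370 = n4667 := rfl
theorem F14423 : act 0 n4667 = n3379 := d5_1 D4667 (iv D3379) (iv F10362)
theorem F14424 : act 2 n4667 = n4667 := d16_1 D4667 (iv D4667) F10363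
theorem F14425 : act 3 n4667 = n3373 := d20_1 D4667 (iv D3373) (iv F10364)
theorem F14426 : act 5 n4667 = n4521 := d25_1 D4667 (iv D4521) F10014 (iv F7240) D3370
theorem F14427 : act 7 n4667 = n4397 := d27_2 (iv F10365) D4667 (iv D4397) F9701 D3153
def n4668 : Q := act 6 n3371
theorem D4668 : act 6 n3371 = n4668 := rfl
theorem F14428 : act 0 n4668 = n3380 := d5_1 D4668 (iv D3380) (iv F10366)
theorem F14429 : act 2 n4668 = n4668 := d16_1 D4668 (iv D4668) F10367
theorem F14430 : act 3 n4668 = n4404 := d20_1 D4668 F13607 (iv F10368)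
theorem F14431 : act 4 n4668 = n4667 := d23_1 D4668 (iv D4667) (iv F10369)
theorem F14432 : act 5 n4668 = n4399 := d25_1 D4668 (iv D4399) (iv D3152) D3153 (iv F10370)
theorem F14433 : act 7 n4668 = n4199 := d27_2 D3371 D4668 (iv D4199) F9167 (iv F7240)
def n4669 : Q := act 2 n3372
theorem D4669 : act 2 n3372 = n4669 := rfl
theorem F14434 : act 1 n4669 = n3382 := d7_1 D4669 (iv D3382) (iv D2354) (iv F7242) D3372
theorem F14435 : act 4 n4669 = n3374 := d14_2 (iv F10371) D4669 (iv D3374)
theorem F14436 : act 7 n4669 = n4522 := d17_2 (iv F10372) D4669 (iv D4522)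
def n4670 : Q := act 6 n3372
theorem D4670 : act 6 n3372 = n4670 := rfl
theorem F14437 : act 1 n4670 = n3373 := d11_1 D4670 (iv D3373) D3372
theorem F14438 : act 4 n4670 = n3375 := d23_1 D4670 (iv D3375) (iv F10371)
def n4671 : Q := act 7 n3373
theorem D4671 : act 7 n3373 = n4671 := rfl
theorem F14439 : act 0 n4671 = n3381 := d6_1 D4671 (iv D3381) (iv F10373)
theorem F14440 : act 2 n4671 = n3384 := d17_1 D4671 (iv D3384) (iv F10374)
theorem F14441 : act 4 n4671 = n3377 := d24_1 D4671 (iv D3377) (iv F10375)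
theorem F14442 : act 5 n4671 = n4379 := d26_1 D4671 F13537 (iv F10376)
theorem F14443 : act 6 n4671 = n4201 := d27_1 D4671 (iv D4201) F9174 (iv F7244) D3373
def n4672 : Q := act 3 n3374
theorem D4672 : act 3 n3374 = n4672 := rfl
theorem F14444 : act 1 n4672 = n3385 := d8_1 D4672 (iv D3385) (iv F10377)
theorem F14445 : act 2 n4672 = n4272 := d13_1 D4672 F14416 (iv D4664) F10358 D3374
theorem F14446 : act 5 n4672 = n4268 := d19_2 F14333 D4672 (iv F14332)
theorem F14447 : act 7 n4267 = n4672 := d26_0 F14446 (iv D4268) D4267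
def n4673 : Q := act 6 n3374
theorem D4673 : act 6 n3374 = n4673 := rfl
theorem F14448 : act 1 n4673 = n3386 := d11_1 D4673 (iv D3386) (iv F10377)
theorem F14449 : act 2 n4673 = n3375 := d16_1 D4673 (iv D3375) D3374
def n4674 : Q := act 5 n3375
theorem D4674 : act 5 n3375 = n4674 := rfl
def n4675 : Q := act 7 n3375
theorem D4675 : act 7 n3375 = n4675 := rfl
theorem F14450 : act 1 n4675 = n3377 := d12_1 D4675 (iv D3377) (iv F10378)
theorem F14451 : act 6 n4675 = n4622 := d27_1 D4675 F14306 (iv D4534) F10063 D3375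
def n4676 : Q := act 1 n3376
theorem D4676 : act 1 n3376 = n4676 := rfl
theorem F14452 : act 4 n4676 = n4643 := d9_2 (iv F10381) D4676 F14352
theorem F14453 : act 6 n4676 = n3378 := d11_2 (iv F10382) D4676 (iv D3378)
theorem F14454 : act 7 n4676 = n4378 := d12_2 F10383 D4676 F13532
def n4677 : Q := act 2 n3378
theorem D4677 : act 2 n3378 = n4677 := rfl
theorem F14455 : act 1 n4677 = n3390 := d7_1 D4677 (iv D3390) (iv D2360) (iv F7248) D3378
theorem F14456 : act 4 n4677 = n4640 := d14_2 (iv F10388) D4677 F14346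
theorem F14457 : act 7 n4677 = n4370 := d17_2 (iv F10389) D4677 F13505
def n4678 : Q := act 3 n3382
theorem D4678 : act 3 n3382 = n4678 := rfl
theorem F14458 : act 0 n4678 = n3392 := d2_1 D4678 (iv D3392) (iv F10405)
theorem F14459 : act 2 n4678 = n4678 := d13_1 D4678 (iv D4678) (iv D3382) F7272 D3382
theorem F14460 : act 5 n4678 = n4678 := d19_2 F10407 D4678 (iv D4678)
def n4679 : Q := act 6 n3382
theorem D4679 : act 6 n3382 = n4679 := rfl
theorem F14461 : act 0 n4679 = n3393 := d5_1 D4679 (iv D3393) (iv F10405)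
theorem F14462 : act 2 n4679 = n3383 := d16_1 D4679 (iv D3383) D3382
theorem F14463 : act 4 n4679 = n3386 := d23_1 D4679 (iv D3386) (iv F10406)
def n4680 : Q := act 5 n3383
theorem D4680 : act 5 n3383 = n4680 := rfl
theorem F14464 : act 0 n4680 = n3394 := d4_1 D4680 (iv D3394) (iv F10409)
theorem F14465 : act 1 n4680 = n4653 := d10_1 D4680 (iv D4653) F10321 (iv F7279) (iv F10410)
theorem F14466 : act 3 n4680 = n4680 := d19_1 D4680 (iv D4680) F10411
theorem F14467 : act 4 n4680 = n3387 := d22_1 D4680 (iv D3387) (iv F10412)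
theorem F14468 : act 6 n4680 = n4680 := d25_2 D3383 D4680 (iv D4680) (iv D3383) F7274
def n4681 : Q := act 7 n3383
theorem D4681 : act 7 n3383 = n4681 := rfl
theorem F14469 : act 0 n4681 = n3395 := d6_1 D4681 (iv D3395) (iv F10409)
theorem F14470 : act 1 n4681 = n3384 := d12_1 D4681 (iv D3384) (iv F10410)
theorem F14471 : act 4 n4681 = n3388 := d24_1 D4681 (iv D3388) (iv F10412)
theorem F14472 : act 6 n4681 = n4204 := d27_1 D4681 (iv D4204) F9180 (iv F7275) D3383
def n4682 : Q := act 3 n3384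
theorem D4682 : act 3 n3384 = n4682 := rfl
theorem F14473 : act 0 n4682 = n3391 := d2_1 D4682 (iv D3391) (iv F10413)
theorem F14474 : act 4 n4682 = n4373 := d18_2 (iv F10414) D4682 F13517 F9647 F7293
theorem F14475 : act 5 n4682 = n4303 := d19_2 (iv F10415) D4682 F13312
theorem F14476 : act 6 n4682 = n4096 := d20_2 (iv F10416) D4682 F12712
theorem F14477 : act 7 n4682 = n4682 := d21_2 D3384 D4682 (iv D4682) (iv D3384) F7277
def n4683 : Q := act 4 n3385
theorem D4683 : act 4 n3385 = n4683 := rfl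
theorem F14478 : act 0 n4683 = n3397 := d3_1 D4683 (iv D3397) (iv F10417)
theorem F14479 : act 2 n4683 = n3500 := d14_1 D4683 (iv D3500) (iv F10418)
theorem F14480 : act 5 n4683 = n4683 := d22_2 F10419 D4683 (iv D4683)
def n4684 : Q := act 6 n3385
theorem D4684 : act 6 n3385 = n4684 := rfl
theorem F14481 : act 0 n4684 = n3398 := d5_1 D4684 (iv D3398) (iv F10417)
theorem F14482 : act 2 n4684 = n3501 := d16_1 D4684 (iv D3501) (iv F10418)
theorem F14483 : act 3 n4684 = n3386 := d20_1 D4684 (iv D3386) D3385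
def n4685 : Q := act 7 n3385
theorem D4685 : act 7 n3385 = n4685 := rfl
theorem F14484 : act 0 n4685 = n3399 := d6_1 D4685 (iv D3399) (iv F10417)
theorem F14485 : act 1 n4685 = n4267 := d12_1 D4685 F14447 F14444
theorem F14486 : act 2 n4685 = n3502 := d17_1 D4685 (iv D3502) (iv F10418)
theorem F14487 : act 5 n4685 = n4685 := d26_1 D4685 (iv D4685) F10419
def n4686 : Q := act 5 n3386
theorem D4686 : act 5 n3386 = n4686 := rfl
theorem F14488 : act 0 n4686 = n3400 := d4_1 D4686 (iv D3400) (iv F10420)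
theorem F14489 : act 2 n4686 = n3387 := d15_1 D4686 (iv D3387) (iv F10421)
theorem F14490 : act 6 n4686 = n4686 := d25_2 D3386 D4686 (iv D4686) (iv D3386) F7281
def n4687 : Q := act 7 n3386
theorem D4687 : act 7 n3386 = n4687 := rfl
theorem F14491 : act 0 n4687 = n3401 := d6_1 D4687 (iv D3401) (iv F10420)
theorem F14492 : act 2 n4687 = n3388 := d17_1 D4687 (iv D3388) (iv F10421)
theorem F14493 : act 6 n4687 = n4623 := d27_1 D4687 F14308 (iv D4536) F10078 D3386
def n4688 : Q := act 1 n3387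
theorem D4688 : act 1 n3387 = n4688 := rfl
theorem F14494 : act 0 n4688 = n4688 := d0_1 D4688 (iv D4688) F10422 F7314 (iv F10422)
theorem F14495 : act 3 n4688 = n3505 := d8_2 (iv F10423) D4688 (iv D3505)
theorem F14496 : act 4 n4688 = n4653 := d9_2 F14467 D4688 (iv F14465)
theorem F14497 : act 5 n4688 = n3389 := d10_2 D3387 D4688 (iv D3389) (iv D2358) (iv F7283)
theorem F14498 : act 6 n4688 = n4688 := d11_2 F10424 D4688 (iv D4688)
theorem F14499 : act 7 n4364 = n4688 := d26_0 F14497 F10433 D4364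
def n4689 : Q := act 7 n3387
theorem D4689 : act 7 n3387 = n4689 := rfl
theorem F14500 : act 0 n4689 = n3402 := d6_1 D4689 (iv D3402) (iv F10422)
theorem F14501 : act 1 n4689 = n4364 := d12_1 D4689 F14499 (iv D4688)
theorem F14502 : act 5 n4689 = n3388 := d26_1 D4689 (iv D3388) D3387
theorem F14503 : act 3 n4365 = n4689 := d19_3 F14502 (iv F10428) (iv F13494)
def n4690 : Q := act 2 n3389
theorem D4690 : act 2 n3389 = n4690 := rfl
theorem F14504 : act 0 n4690 = n4690 := d1_1 D4690 (iv D4690) F10429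
theorem F14505 : act 4 n4690 = n4652 := d14_2 (iv F10431) D4690 F14377
theorem F14506 : act 6 n4690 = n3390 := d16_2 (iv F10432) D4690 (iv D3390)
theorem F14507 : act 7 n4690 = n4362 := d17_2 (iv F10433) D4690 F13487
def n4691 : Q := act 3 n3390
theorem D4691 : act 3 n3390 = n4691 := rfl
theorem F14508 : act 0 n4691 = n4691 := d2_1 D4691 (iv D4691) F10434
theorem F14509 : act 2 n4691 = n3512 := d13_1 D4691 (iv D3512) (iv D2452) (iv F7295) D3390
theorem F14510 : act 5 n4691 = n4691 := d19_2 F10436 D4691 (iv D4691)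
def n4692 : Q := act 4 n3392
theorem D4692 : act 4 n3392 = n4692 := rfl
theorem F14511 : act 2 n4692 = n4692 := d14_1 D4692 (iv D4692) F10443
theorem F14512 : act 3 n4692 = n3397 := d18_1 D4692 (iv D3397) (iv D2365) (iv F7303) D3392
theorem F14513 : act 5 n4692 = n4692 := d22_2 F10444 D4692 (iv D4692)
def n4693 : Q := act 6 n3392
theorem D4693 : act 6 n3392 = n4693 := rfl
theorem F14514 : act 2 n4693 = n4693 := d16_1 D4693 (iv D4693) F10443
theorem F14515 : act 3 n4693 = n3393 := d20_1 D4693 (iv D3393) D3392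
def n4694 : Q := act 7 n3392
theorem D4694 : act 7 n3392 = n4694 := rfl
theorem F14516 : act 2 n4694 = n4694 := d17_1 D4694 (iv D4694) F10443
theorem F14517 : act 5 n4694 = n4694 := d26_1 D4694 (iv D4694) F10444
def n4695 : Q := act 5 n3393
theorem D4695 : act 5 n3393 = n4695 := rfl
theorem F14518 : act 2 n4695 = n3394 := d15_1 D4695 (iv D3394) (iv F10445)
theorem F14519 : act 4 n4695 = n3400 := d22_1 D4695 (iv D3400) (iv F10446)
theorem F14520 : act 6 n4695 = n4695 := d25_2 D3393 D4695 (iv D4695) (iv D3393) F7304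
def n4696 : Q := act 7 n3393
theorem D4696 : act 7 n3393 = n4696 := rfl
theorem F14521 : act 2 n4696 = n3395 := d17_1 D4696 (iv D3395) (iv F10445)
theorem F14522 : act 4 n4696 = n3401 := d24_1 D4696 (iv D3401) (iv F10446)
def n4697 : Q := act 7 n3394
theorem D4697 : act 7 n3394 = n4697 := rfl
theorem F14523 : act 1 n4697 = n4697 := d12_1 D4697 (iv D4697) F10447
theorem F14524 : act 4 n4697 = n3402 := d24_1 D4697 (iv D3402) (iv F10449)
theorem F14525 : act 5 n4697 = n3395 := d26_1 D4697 (iv D3395) D3394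
def n4698 : Q := act 3 n3395
theorem D4698 : act 3 n3395 = n4698 := rfl
theorem F14526 : act 1 n4698 = n3396 := d8_1 D4698 (iv D3396) (iv F10451)
theorem F14527 : act 7 n4698 = n4698 := d21_2 D3395 D4698 (iv D4698) (iv D3395) F7306
def n4699 : Q := act 2 n3396
theorem D4699 : act 2 n3396 = n4699 := rfl
theorem F14528 : act 0 n4699 = n3406 := d1_1 D4699 (iv D3406) (iv F10453)
theorem F14529 : act 5 n4699 = n4699 := d15_2 F10454 D4699 (iv D4699)
theorem F14530 : act 7 n4699 = n4699 := d17_2 F10455 D4699 (iv D4699)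
def n4700 : Q := act 4 n3396
theorem D4700 : act 4 n3396 = n4700 := rfl
theorem F14531 : act 0 n4700 = n3407 := d3_1 D4700 (iv D3407) (iv F10453)
theorem F14532 : act 3 n4700 = n3405 := d18_1 D4700 (iv D3405) (iv D2369) (iv F7309) D3396
theorem F14533 : act 5 n4700 = n4700 := d22_2 F10454 D4700 (iv D4700)
theorem F14534 : act 6 n4700 = n4656 := d23_2 (iv F12548) D4700 F14386
theorem F14535 : act 7 n4700 = n4700 := d24_2 F10455 D4700 (iv D4700)
def n4701 : Q := act 6 n3397
theorem D4701 : act 6 n3397 = n4701 := rfl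
theorem F14536 : act 2 n4701 = n3516 := d16_1 D4701 (iv D3516) (iv F10456)
theorem F14537 : act 4 n4701 = n3398 := d23_1 D4701 (iv D3398) D3397
def n4702 : Q := act 7 n3397
theorem D4702 : act 7 n3397 = n4702 := rfl
theorem F14538 : act 2 n4702 = n3517 := d17_1 D4702 (iv D3517) (iv F10456)
theorem F14539 : act 4 n4702 = n3399 := d24_1 D4702 (iv D3399) D3397
theorem F14540 : act 5 n4702 = n4702 := d26_1 D4702 (iv D4702) F10457
def n4703 : Q := act 5 n3398
theorem D4703 : act 5 n3398 = n4703 := rfl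
theorem F14541 : act 2 n4703 = n3518 := d15_1 D4703 (iv D3518) (iv F10458)
theorem F14542 : act 3 n4703 = n3400 := d19_1 D4703 (iv D3400) (iv F10459)
theorem F14543 : act 6 n4703 = n4703 := d25_2 D3398 D4703 (iv D4703) (iv D3398) F7312
def n4704 : Q := act 7 n3398
theorem D4704 : act 7 n3398 = n4704 := rfl
theorem F14544 : act 2 n4704 = n3519 := d17_1 D4704 (iv D3519) (iv F10458)
def n4705 : Q := act 6 n3399
theorem D4705 : act 6 n3399 = n4705 := rfl
theorem F14545 : act 2 n4705 = n3520 := d16_1 D4705 (iv D3520) (iv F10460)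
def n4706 : Q := act 1 n3400
theorem D4706 : act 1 n3400 = n4706 := rfl
theorem F14546 : act 2 n4706 = n4706 := d7_2 (iv F10462) D4706 (iv D4706) F10462 F7314
theorem F14547 : act 6 n4706 = n4706 := d11_2 F10463 D4706 (iv D4706)
def n4707 : Q := act 7 n3400
theorem D4707 : act 7 n3400 = n4707 := rfl
theorem F14548 : act 2 n4707 = n3402 := d17_1 D4707 (iv D3402) (iv F10462)
theorem F14549 : act 5 n4707 = n3401 := d26_1 D4707 (iv D3401) D3400
def n4708 : Q := act 3 n3401
theorem D4708 : act 3 n3401 = n4708 := rfl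
def n4709 : Q := act 3 n3402
theorem D4709 : act 3 n3402 = n4709 := rfl
theorem F14550 : act 0 n4709 = n4365 := d2_1 D4709 F14503 F14500
theorem F14551 : act 1 n4709 = n4709 := d8_1 D4709 (iv D4709) F10465
theorem F14552 : act 5 n4709 = n3403 := d19_2 (iv F10466) D4709 (iv D3403)
theorem F14553 : act 7 n4709 = n3524 := d21_2 D3402 D4709 (iv D3524) (iv D2461) (iv F7315)
def n4710 : Q := act 6 n3402
theorem D4710 : act 6 n3402 = n4710 := rfl
theorem F14554 : act 1 n4710 = n4710 := d11_1 D4710 (iv D4710) F10465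
theorem F14555 : act 7 n4710 = n4710 := d27_2 D3402 D4710 (iv D4710) (iv D3402) F7316
def n4711 : Q := act 2 n3403
theorem D4711 : act 2 n3403 = n4711 := rfl
theorem F14556 : act 0 n4711 = n4380 := d1_1 D4711 (iv D4380) (iv F10467)
theorem F14557 : act 6 n4711 = n4624 := d16_2 (iv F10469) D4711 (iv D4624)
theorem F14558 : act 7 n4711 = n3526 := d17_2 (iv F10470) D4711 (iv D3526)
def n4712 : Q := act 4 n3403
theorem D4712 : act 4 n3403 = n4712 := rfl
theorem F14559 : act 0 n4712 = n4374 := d3_1 D4712 F13520 (iv F10467)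
theorem F14560 : act 1 n4712 = n3405 := d9_1 D4712 (iv D3405) (iv F10468)
theorem F14561 : act 6 n4712 = n4616 := d23_2 (iv F10469) D4712 F14296
theorem F14562 : act 7 n4712 = n3527 := d24_2 (iv F10470) D4712 (iv D3527)
def n4713 : Q := act 1 n3404
theorem D4713 : act 1 n3404 = n4713 := rfl
theorem F14563 : act 6 n4713 = n4661 := d11_2 (iv F10473) D4713 (iv D4661)
theorem F14564 : act 7 n4713 = n3528 := d12_2 (iv F10474) D4713 (iv D3528)
def n4714 : Q := act 4 n3404
theorem D4714 : act 4 n3404 = n4714 := rfl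
theorem F14565 : act 0 n4714 = n3408 := d3_1 D4714 (iv D3408) (iv F10471)
theorem F14566 : act 2 n4714 = n3405 := d14_1 D4714 (iv D3405) D3404
theorem F14567 : act 5 n4714 = n4714 := d22_2 F10472 D4714 (iv D4714)
theorem F14568 : act 6 n4714 = n4658 := d23_2 (iv F10473) D4714 F14393
theorem F14569 : act 7 n4714 = n3529 := d24_2 (iv F10474) D4714 (iv D3529)
def n4715 : Q := act 1 n3406
theorem D4715 : act 1 n3406 = n4715 := rfl
theorem F14570 : act 7 n4715 = n4715 := d12_2 F10480 D4715 (iv D4715)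
def n4716 : Q := act 4 n3406
theorem D4716 : act 4 n3406 = n4716 := rfl
theorem F14571 : act 2 n4716 = n3407 := d14_1 D4716 (iv D3407) D3406
theorem F14572 : act 5 n4716 = n4716 := d22_2 F10479 D4716 (iv D4716)
theorem F14573 : act 6 n4716 = n4657 := d23_2 (iv F12586) D4716 F14389
theorem F14574 : act 7 n4716 = n4716 := d24_2 F10480 D4716 (iv D4716)
def n4717 : Q := act 3 n3408
theorem D4717 : act 3 n3408 = n4717 := rfl
theorem F14575 : act 5 n4717 = n4717 := d19_2 F10487 D4717 (iv D4717)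
theorem F14576 : act 6 n4717 = n4659 := d20_2 (iv F10488) D4717 (iv D4659)
def n4718 : Q := act 0 n3409
theorem D4718 : act 0 n3409 = n4718 := rfl
theorem F14577 : act 1 n4718 = n3533 := d0_2 D3409 D4718 (iv D3533) (iv D2467) (iv F7331)
theorem F14578 : act 2 n4718 = n3410 := d1_2 (iv F10490) D4718 (iv D3410)
def n4719 : Q := act 5 n3409
theorem D4719 : act 5 n3409 = n4719 := rfl
theorem F14579 : act 2 n4719 = n3411 := d15_1 D4719 (iv D3411) (iv F10490)
def n4720 : Q := act 5 n3410
theorem D4720 : act 5 n3410 = n4720 := rfl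
theorem F14580 : act 0 n4720 = n3411 := d4_1 D4720 (iv D3411) D3410
theorem F14581 : act 3 n4720 = n4720 := d19_1 D4720 (iv D4720) F10492
def n4721 : Q := act 6 n3411
theorem D4721 : act 6 n3411 = n4721 := rfl
theorem F14582 : act 3 n4721 = n4721 := d20_1 D4721 (iv D4721) F10493
def n4722 : Q := act 1 n3412
theorem D4722 : act 1 n3412 = n4722 := rfl
theorem F14583 : act 0 n4722 = n3613 := d0_1 D4722 F11118 F7826 (iv F7335) (iv F10494)
theorem F14584 : act 3 n4722 = n4722 := d8_2 F10496 D4722 (iv D4722)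
theorem F14585 : act 4 n4722 = n3792 := d9_2 (iv F10497) D4722 F11699
theorem F14586 : act 7 n4722 = n3610 := d12_2 (iv F10498) D4722 F11106
def n4723 : Q := act 6 n3412
theorem D4723 : act 6 n3412 = n4723 := rfl
theorem F14587 : act 0 n4723 = n3413 := d5_1 D4723 (iv D3413) (iv F10494)
theorem F14588 : act 2 n4723 = n3538 := d16_1 D4723 (iv D3538) (iv F10495)
theorem F14589 : act 3 n4723 = n4723 := d20_1 D4723 (iv D4723) F10496
theorem F14590 : act 4 n4723 = n4237 := d23_1 D4723 (iv D4237) (iv F10497)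
def n4724 : Q := act 1 n3414
theorem D4724 : act 1 n3414 = n4724 := rfl
theorem F14591 : act 2 n4724 = n4724 := d7_2 D3414 D4724 (iv D4724) (iv D3414) F7340
theorem F14592 : act 3 n4724 = n3427 := d8_2 (iv F10503) D4724 (iv D3427)
def n4725 : Q := act 4 n3414
theorem D4725 : act 4 n3414 = n4725 := rfl
theorem F14593 : act 2 n4725 = n3415 := d14_1 D4725 (iv D3415) D3414
theorem F14594 : act 3 n4725 = n3668 := d18_1 D4725 F12044 (iv D3891) F8414 (iv F10503)
theorem F14595 : act 5 n4725 = n3659 := d22_2 F11285 D4725 (iv F11298)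
def n4726 : Q := act 6 n3414
theorem D4726 : act 6 n3414 = n4726 := rfl
theorem F14596 : act 2 n4726 = n3416 := d16_1 D4726 (iv D3416) D3414
theorem F14597 : act 3 n4726 = n3428 := d20_1 D4726 (iv D3428) (iv F10503)
def n4727 : Q := act 6 n3415
theorem D4727 : act 6 n3415 = n4727 := rfl
theorem F14598 : act 1 n4727 = n4727 := d11_1 D4727 (iv D4727) F10504
theorem F14599 : act 3 n4727 = n3423 := d20_1 D4727 (iv D3423) (iv F10505)
theorem F14600 : act 4 n4727 = n3416 := d23_1 D4727 (iv D3416) D3415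
theorem F14601 : act 7 n4727 = n3536 := d27_2 F11176 D4727 (iv D3536) (iv F10571) F11177
def n4728 : Q := act 6 n3418
theorem D4728 : act 6 n3418 = n4728 := rfl
theorem F14602 : act 0 n4728 = n3419 := d5_1 D4728 (iv D3419) (iv F10511)
theorem F14603 : act 2 n4728 = n4728 := d16_1 D4728 (iv D4728) F10512
theorem F14604 : act 3 n4728 = n4552 := d20_1 D4728 F14106 F10515
theorem F14605 : act 4 n4728 = n3824 := d23_1 D4728 (iv D3824) (iv F10513)
def n4729 : Q := act 5 n3419
theorem D4729 : act 5 n3419 = n4729 := rfl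
theorem F14606 : act 2 n4729 = n4729 := d15_1 D4729 (iv D4729) F10517
theorem F14607 : act 4 n4729 = n3825 := d22_1 D4729 (iv D3825) (iv F10518)
theorem F14608 : act 6 n4729 = n4729 := d25_2 D3419 D4729 (iv D4729) (iv D3419) F7352
def n4730 : Q := act 5 n3420
theorem D4730 : act 5 n3420 = n4730 := rfl
theorem F14609 : act 2 n4730 = n3743 := d15_1 D4730 (iv F11645) (iv F11648)
theorem F14610 : act 3 n4730 = n3421 := d19_1 D4730 (iv D3421) (iv F10519)
theorem F14611 : act 4 n4730 = n3742 := d22_1 D4730 (iv F11656) F11655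
theorem F14612 : act 6 n4730 = n3424 := d25_2 D3420 D4730 (iv D3424) (iv D2385) (iv F7353)
theorem F14613 : act 7 n4730 = n3740 := d31_1 D4730 F11520 F8050 (iv D1784) (iv D1206) F2646 (iv D817) F1832 (iv D553) (iv F1821) F1819 (iv F1868) D834 F2708 F1939 F1965 (iv D592) (iv F1940) (iv D585) (iv F1867) F1866 F1760 (iv F2454) (iv F2732) D1246 F3957 (iv F5081) D2382 (iv F10519)
def n4731 : Q := act 7 n3420
theorem D4731 : act 7 n3420 = n4731 := rfl
theorem F14614 : act 1 n4731 = n3454 := d12_1 D4731 (iv F11662) F11659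
theorem F14615 : act 2 n4731 = n3452 := d17_1 D4731 (iv F11647) (iv F11648)
theorem F14616 : act 4 n4731 = n3741 := d24_1 D4731 (iv F11658) F11655
theorem F14617 : act 5 n4731 = n3740 := d26_1 D4731 (iv F14613) (iv D4730)
theorem F14618 : act 6 n4731 = n4731 := d27_1 D4731 (iv D4731) (iv D3420) F7354 D3420
def n4732 : Q := act 1 n3421
theorem D4732 : act 1 n3421 = n4732 := rfl
theorem F14619 : act 6 n4732 = n3426 := d11_2 (iv F10521) D4732 (iv D3426)
def n4733 : Q := act 5 n3422
theorem D4733 : act 5 n3422 = n4733 := rfl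
theorem F14620 : act 2 n4733 = n3424 := d15_1 D4733 (iv D3424) (iv F10522)
theorem F14621 : act 3 n4733 = n3436 := d19_1 D4733 (iv D3436) (iv F10523)
theorem F14622 : act 4 n4733 = n3733 := d22_1 D4733 (iv F11749) F11748
theorem F14623 : act 6 n4733 = n3743 := d25_2 D3422 D4733 (iv F11645) F11646 F8217
theorem F14624 : act 7 n4733 = n3731 := d31_1 D4733 F11503 (iv F11501) (iv D3730) F8039 F5896 F5897 F4046 (iv D1275) D1276 F4049 D1277 (iv F5778) F5776 F4117 F4112 F4109 (iv F4119) (iv F4120) (iv F4052) F4051 F2795 (iv F4062) (iv D1281) D1282 F4066 D1635 D2394 (iv F10523)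
def n4734 : Q := act 7 n3422
theorem D4734 : act 7 n3422 = n4734 := rfl
theorem F14625 : act 2 n4734 = n3425 := d17_1 D4734 (iv D3425) (iv F10522)
theorem F14626 : act 4 n4734 = n3732 := d24_1 D4734 F11752 F11748
theorem F14627 : act 5 n4734 = n3731 := d26_1 D4734 (iv F14624) (iv D4733)
theorem F14628 : act 6 n4734 = n4734 := d27_1 D4734 (iv D4734) (iv D3422) F7357 D3422
def n4735 : Q := act 5 n3423
theorem D4735 : act 5 n3423 = n4735 := rfl
theorem F14629 : act 2 n4735 = n3733 := d15_1 D4735 (iv F11749) (iv F11751)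
theorem F14630 : act 4 n4735 = n3424 := d22_1 D4735 (iv D3424) (iv F10525)
theorem F14631 : act 6 n4735 = n3742 := d25_2 D3423 D4735 (iv F11656) F11657 F8225
theorem F14632 : act 7 n3730 = n4735 := d27_0 F14631 (iv D3742) (iv D2616) (iv F8041) D3730
def n4736 : Q := act 7 n3423
theorem D4736 : act 7 n3423 = n4736 := rfl
theorem F14633 : act 1 n4736 = n4736 := d12_1 D4736 (iv D4736) F10524
theorem F14634 : act 2 n4736 = n3732 := d17_1 D4736 F11752 (iv F11751)
theorem F14635 : act 3 n4736 = n3547 := d21_1 D4736 (iv D3547) (iv F10876) (iv F14601) F14599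
theorem F14636 : act 4 n4736 = n3425 := d24_1 D4736 (iv D3425) (iv F10525)
theorem F14637 : act 5 n4736 = n3730 := d26_1 D4736 F14632 (iv D4735)
theorem F14638 : act 6 n4736 = n4736 := d27_1 D4736 (iv D4736) (iv D3423) F7359 D3423
def n4737 : Q := act 1 n3424
theorem D4737 : act 1 n3424 = n4737 := rfl
theorem F14639 : act 3 n4737 = n3426 := d8_2 (iv F10526) D4737 (iv D3426)
theorem F14640 : act 5 n4737 = n4737 := d10_2 D3424 D4737 (iv D4737) (iv D3424) F7360
def n4738 : Q := act 7 n3424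
theorem D4738 : act 7 n3424 = n4738 := rfl
theorem F14641 : act 2 n4738 = n3731 := d17_1 D4738 (iv F14624) F14620
theorem F14642 : act 3 n4738 = n4738 := d21_1 D4738 (iv D4738) F10526 F7363 (iv F10526)
theorem F14643 : act 4 n4738 = n3730 := d24_1 D4738 F14632 F14630
theorem F14644 : act 5 n4738 = n3425 := d26_1 D4738 (iv D3425) D3424
theorem F14645 : act 6 n4738 = n3729 := d27_1 D4738 F11500 D3740 (iv F14613) F14612
def n4739 : Q := act 0 n3426
theorem D4739 : act 0 n3426 = n4739 := rfl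
theorem F14646 : act 5 n4739 = n4739 := d4_2 F10530 D4739 (iv D4739)
theorem F14647 : act 7 n4739 = n4739 := d6_2 F10531 D4739 (iv D4739)
def n4740 : Q := act 2 n3426
theorem D4740 : act 2 n3426 = n4740 := rfl
theorem F14648 : act 1 n4740 = n3439 := d7_1 D4740 (iv D3439) (iv D2396) (iv F7362) D3426
theorem F14649 : act 5 n4740 = n4740 := d15_2 F10530 D4740 (iv D4740)
theorem F14650 : act 7 n4740 = n4740 := d17_2 F10531 D4740 (iv D4740)
def n4741 : Q := act 0 n3427
theorem D4741 : act 0 n3427 = n4741 := rfl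
theorem F14651 : act 2 n4741 = n3442 := d1_2 (iv F10532) D4741 (iv D3442)
theorem F14652 : act 7 n4741 = n3533 := d6_2 (iv F10533) D4741 (iv D3533)
def n4742 : Q := act 5 n3427
theorem D4742 : act 5 n3427 = n4742 := rfl
theorem F14653 : act 2 n4742 = n3443 := d15_1 D4742 (iv D3443) (iv F10532)
theorem F14654 : act 7 n4742 = n3534 := d26_2 (iv F10533) D4742 (iv D3534)
def n4743 : Q := act 6 n3427
theorem D4743 : act 6 n3427 = n4743 := rfl
theorem F14655 : act 1 n4743 = n3428 := d11_1 D4743 (iv D3428) D3427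
theorem F14656 : act 2 n4743 = n3444 := d16_1 D4743 (iv D3444) (iv F10532)
def n4744 : Q := act 5 n3428
theorem D4744 : act 5 n3428 = n4744 := rfl
theorem F14657 : act 2 n4744 = n3429 := d15_1 D4744 (iv D3429) (iv F10534)
def n4745 : Q := act 1 n3429
theorem D4745 : act 1 n3429 = n4745 := rfl
theorem F14658 : act 3 n4745 = n3430 := d8_2 (iv F10535) D4745 (iv D3430)
theorem F14659 : act 4 n4745 = n3599 := d9_2 F11346 D4745 (iv F11344)
theorem F14660 : act 5 n4745 = n3446 := d10_2 D3429 D4745 (iv D3446) (iv D2402) (iv F7365)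
theorem F14661 : act 6 n4745 = n3852 := d11_2 F11998 D4745 (iv F12000)
theorem F14662 : act 7 n4745 = n3598 := d12_2 F11343 D4745 (iv F11339)
theorem F14663 : act 2 n3686 = n4745 := d17_3 F14662 F11061 D3686
def n4746 : Q := act 0 n3430
theorem D4746 : act 0 n3430 = n4746 := rfl
theorem F14664 : act 4 n4746 = n3438 := d3_2 (iv F10536) D4746 (iv D3438)
theorem F14665 : act 5 n4746 = n3447 := d4_2 (iv F10537) D4746 (iv D3447)
theorem F14666 : act 7 n4746 = n4746 := d6_2 F10538 D4746 (iv D4746)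
def n4747 : Q := act 2 n3430
theorem D4747 : act 2 n3430 = n4747 := rfl
theorem F14667 : act 4 n4747 = n3439 := d14_2 (iv F10536) D4747 (iv D3439)
theorem F14668 : act 5 n4747 = n3448 := d15_2 (iv F10537) D4747 (iv D3448)
theorem F14669 : act 7 n4747 = n4747 := d17_2 F10538 D4747 (iv D4747)
def n4748 : Q := act 5 n3431
theorem D4748 : act 5 n3431 = n4748 := rfl
theorem F14670 : act 2 n4748 = n3432 := d15_1 D4748 (iv D3432) (iv F10539)
theorem F14671 : act 3 n4748 = n3743 := d19_1 D4748 (iv F11645) F11643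
theorem F14672 : act 6 n4748 = n3436 := d25_2 D3431 D4748 (iv D3436) (iv D2394) (iv F7369)
theorem F14673 : act 7 n4748 = n4748 := d26_2 F10540 D4748 (iv D4748)
def n4749 : Q := act 1 n3432
theorem D4749 : act 1 n3432 = n4749 := rfl
theorem F14674 : act 3 n4749 = n3433 := d8_2 (iv F10541) D4749 (iv D3433)
theorem F14675 : act 5 n4749 = n4749 := d10_2 D3432 D4749 (iv D4749) (iv D3432) F7371
theorem F14676 : act 6 n4749 = n3437 := d11_2 (iv F10542) D4749 (iv D3437)
theorem F14677 : act 7 n4749 = n4749 := d12_2 F10543 D4749 (iv D4749)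
def n4750 : Q := act 0 n3433
theorem D4750 : act 0 n3433 = n4750 := rfl
theorem F14678 : act 5 n4750 = n4750 := d4_2 F10544 D4750 (iv D4750)
theorem F14679 : act 6 n4750 = n3438 := d5_2 (iv F10545) D4750 (iv D3438)
def n4751 : Q := act 2 n3433
theorem D4751 : act 2 n3433 = n4751 := rfl
theorem F14680 : act 5 n4751 = n4751 := d15_2 F10544 D4751 (iv D4751)
theorem F14681 : act 6 n4751 = n3439 := d16_2 (iv F10545) D4751 (iv D3439)
def n4752 : Q := act 6 n3434
theorem D4752 : act 6 n3434 = n4752 := rfl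
theorem F14682 : act 0 n4752 = n3435 := d5_1 D4752 (iv D3435) D3434
theorem F14683 : act 2 n4752 = n3450 := d16_1 D4752 (iv D3450) (iv F10546)
theorem F14684 : act 3 n4752 = n4553 := d20_1 D4752 (iv D4553) (iv F10547)
def n4753 : Q := act 1 n3436
theorem D4753 : act 1 n3436 = n4753 := rfl
def n4754 : Q := act 0 n3437
theorem D4754 : act 0 n3437 = n4754 := rfl
theorem F14685 : act 1 n4754 = n4551 := d0_2 D3437 D4754 F14268 (iv D4605) F10248
theorem F14686 : act 3 n4754 = n3438 := d2_2 (iv F10553) D4754 (iv D3438)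
theorem F14687 : act 5 n4754 = n3453 := d4_2 (iv F10554) D4754 (iv D3453)
theorem F14688 : act 7 n4754 = n4550 := d6_2 F11571 D4754 F14098
def n4755 : Q := act 2 n3437
theorem D4755 : act 2 n3437 = n4755 := rfl
theorem F14689 : act 5 n4755 = n3454 := d15_2 (iv F10554) D4755 (iv D3454)
def n4756 : Q := act 2 n3438
theorem D4756 : act 2 n3438 = n4756 := rfl
theorem F14690 : act 0 n4756 = n3439 := d1_1 D4756 (iv D3439) D3438
theorem F14691 : act 5 n4756 = n3455 := d15_2 (iv F10555) D4756 (iv D3455)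
theorem F14692 : act 7 n4756 = n4756 := d17_2 F10556 D4756 (iv D4756)
def n4757 : Q := act 3 n3439
theorem D4757 : act 3 n3439 = n4757 := rfl
theorem F14693 : act 5 n4757 = n3456 := d19_2 (iv F10557) D4757 (iv D3456)
def n4758 : Q := act 6 n3440
theorem D4758 : act 6 n3440 = n4758 := rfl
theorem F14694 : act 0 n4758 = n3441 := d5_1 D4758 (iv D3441) (iv F10559)
theorem F14695 : act 1 n4758 = n4554 := d11_1 D4758 (iv D4554) F10563
theorem F14696 : act 2 n4758 = n3458 := d16_1 D4758 (iv D3458) (iv F10560)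
theorem F14697 : act 3 n4758 = n4758 := d20_1 D4758 (iv D4758) F10561
def n4759 : Q := act 5 n3442
theorem D4759 : act 5 n3442 = n4759 := rfl
theorem F14698 : act 0 n4759 = n3443 := d4_1 D4759 (iv D3443) D3442
theorem F14699 : act 1 n4759 = n4484 := d10_1 D4759 F14066 F14061 F10093 (iv F10566)
theorem F14700 : act 3 n4759 = n4759 := d19_1 D4759 (iv D4759) F10567
theorem F14701 : act 7 n4759 = n3535 := d26_2 (iv F10568) D4759 (iv D3535)
theorem F14702 : act 6 n4482 = n4759 := d11_0 F14699 (iv D4484) D4482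
def n4760 : Q := act 6 n3442
theorem D4760 : act 6 n3442 = n4760 := rfl
theorem F14703 : act 0 n4760 = n3444 := d5_1 D4760 (iv D3444) D3442
theorem F14704 : act 1 n4760 = n3473 := d11_1 D4760 (iv D3473) (iv F10566)
theorem F14705 : act 3 n4760 = n4760 := d20_1 D4760 (iv D4760) F10567
def n4761 : Q := act 1 n3445
theorem D4761 : act 1 n3445 = n4761 := rfl
theorem F14706 : act 3 n4761 = n4761 := d8_2 F10576 D4761 (iv D4761)
theorem F14707 : act 4 n4761 = n3607 := d9_2 (iv F10577) D4761 F11090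
theorem F14708 : act 5 n4761 = n3789 := d10_2 D3445 D4761 F11686 F11306 F10572
theorem F14709 : act 6 n4761 = n4761 := d11_2 F10578 D4761 (iv D4761)
theorem F14710 : act 7 n4761 = n3604 := d12_2 (iv F10579) D4761 F11082
def n4762 : Q := act 0 n3446
theorem D4762 : act 0 n3446 = n4762 := rfl
theorem F14711 : act 1 n4762 = n3475 := d0_2 D3446 D4762 (iv D3475) (iv D2425) (iv F7393)
theorem F14712 : act 3 n4762 = n3447 := d2_2 (iv F10580) D4762 (iv D3447)
theorem F14713 : act 4 n4762 = n3585 := d3_2 (iv F10581) D4762 F11032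
theorem F14714 : act 6 n4762 = n4762 := d5_2 F10582 D4762 (iv D4762)
theorem F14715 : act 7 n4762 = n3583 := d6_2 (iv F10583) D4762 F11026
def n4763 : Q := act 2 n3447
theorem D4763 : act 2 n3447 = n4763 := rfl
theorem F14716 : act 0 n4763 = n3448 := d1_1 D4763 (iv D3448) D3447
theorem F14717 : act 4 n4763 = n3455 := d14_2 (iv F10585) D4763 (iv D3455)
theorem F14718 : act 6 n4763 = n4763 := d16_2 F10586 D4763 (iv D4763)
theorem F14719 : act 7 n4763 = n4763 := d17_2 F10587 D4763 (iv D4763)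
def n4764 : Q := act 3 n3448
theorem D4764 : act 3 n3448 = n4764 := rfl
theorem F14720 : act 1 n4764 = n4764 := d8_1 D4764 (iv D4764) F10588
theorem F14721 : act 6 n4764 = n4764 := d20_2 F10590 D4764 (iv D4764)
def n4765 : Q := act 5 n3450
theorem D4765 : act 5 n3450 = n4765 := rfl
theorem F14722 : act 0 n4765 = n3451 := d4_1 D4765 (iv D3451) (iv F10605)
theorem F14723 : act 3 n4765 = n4765 := d19_1 D4765 (iv D4765) F10607
theorem F14724 : act 4 n4765 = n3580 := d22_1 D4765 (iv F11609) F11608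
theorem F14725 : act 6 n4765 = n3579 := d25_2 D3450 D4765 F11693 F11692 (iv D3449)
def n4766 : Q := act 0 n3452
theorem D4766 : act 0 n3452 = n4766 := rfl
theorem F14726 : act 1 n4766 = n3479 := d0_2 D3452 D4766 (iv D3479) (iv D2429) (iv F7409)
theorem F14727 : act 3 n4766 = n4766 := d2_2 F10612 D4766 (iv D4766)
theorem F14728 : act 4 n4766 = n3711 := d3_2 (iv F10613) D4766 F11438
theorem F14729 : act 5 n4766 = n3710 := d4_2 (iv F10614) D4766 F11435
theorem F14730 : act 6 n4766 = n4766 := d5_2 F10615 D4766 (iv D4766)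
def n4767 : Q := act 2 n3453
theorem D4767 : act 2 n3453 = n4767 := rfl
theorem F14731 : act 0 n4767 = n3454 := d1_1 D4767 (iv D3454) D3453
theorem F14732 : act 6 n4767 = n4767 := d16_2 F10618 D4767 (iv D4767)
theorem F14733 : act 7 n4767 = n4552 := d17_2 (iv F10619) D4767 (iv D4552)
def n4768 : Q := act 3 n3454
theorem D4768 : act 3 n3454 = n4768 := rfl
theorem F14734 : act 2 n4768 = n3456 := d13_1 D4768 (iv D3456) (iv D2410) (iv F7413) D3454
theorem F14735 : act 6 n4768 = n4768 := d20_2 F10620 D4768 (iv D4768)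
def n4769 : Q := act 1 n3455
theorem D4769 : act 1 n3455 = n4769 := rfl
theorem F14736 : act 0 n4769 = n4769 := d0_1 D4769 (iv D4769) F10621 F7418 (iv F10621)
theorem F14737 : act 2 n4769 = n3483 := d7_2 D3455 D4769 (iv D3483) (iv D2432) (iv F7415)
theorem F14738 : act 6 n4769 = n4769 := d11_2 F10622 D4769 (iv D4769)
theorem F14739 : act 7 n4769 = n4769 := d12_2 F10623 D4769 (iv D4769)
def n4770 : Q := act 3 n3455
theorem D4770 : act 3 n3455 = n4770 := rfl
theorem F14740 : act 0 n4770 = n3456 := d2_1 D4770 (iv D3456) (iv F10621)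
theorem F14741 : act 6 n4770 = n4770 := d20_2 F10622 D4770 (iv D4770)
def n4771 : Q := act 4 n3456
theorem D4771 : act 4 n3456 = n4771 := rfl
theorem F14742 : act 1 n4771 = n4771 := d9_1 D4771 (iv D4771) F10624
theorem F14743 : act 6 n4771 = n4771 := d23_2 F10625 D4771 (iv D4771)
def n4772 : Q := act 7 n3456
theorem D4772 : act 7 n3456 = n4772 := rfl
theorem F14744 : act 1 n4772 = n4772 := d12_1 D4772 (iv D4772) F10624
theorem F14745 : act 3 n4772 = n4772 := d21_1 D4772 (iv D4772) (iv D3456) F7420 D3456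
def n4773 : Q := act 6 n3457
theorem D4773 : act 6 n3457 = n4773 := rfl
theorem F14746 : act 0 n4773 = n4773 := d5_1 D4773 (iv D4773) F10626
theorem F14747 : act 1 n4773 = n3458 := d11_1 D4773 (iv D3458) D3457
theorem F14748 : act 2 n4773 = n4556 := d16_1 D4773 (iv D4556) (iv F10627)
theorem F14749 : act 3 n4773 = n3461 := d20_1 D4773 (iv D3461) (iv F10628)
def n4774 : Q := act 7 n3458
theorem D4774 : act 7 n3458 = n4774 := rfl
theorem F14750 : act 0 n4774 = n3459 := d6_1 D4774 (iv D3459) (iv F10631)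
def n4775 : Q := act 3 n3459
theorem D4775 : act 3 n3459 = n4775 := rfl
theorem F14751 : act 1 n4775 = n4775 := d8_1 D4775 (iv D4775) F10633
theorem F14752 : act 7 n4775 = n3468 := d21_2 D3459 D4775 (iv D3468) (iv D2418) (iv F7424)
def n4776 : Q := act 6 n3460
theorem D4776 : act 6 n3460 = n4776 := rfl
theorem F14753 : act 0 n4776 = n4776 := d5_1 D4776 (iv D4776) F10634
theorem F14754 : act 1 n4776 = n4776 := d11_1 D4776 (iv D4776) F10635
theorem F14755 : act 2 n4776 = n3461 := d16_1 D4776 (iv D3461) D3460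
theorem F14756 : act 3 n4776 = n4564 := d20_1 D4776 (iv D4564) (iv F10636)
theorem F14757 : act 4 n4776 = n4776 := d23_1 D4776 (iv D4776) F10637
def n4777 : Q := act 5 n3461
theorem D4777 : act 5 n3461 = n4777 := rfl
theorem F14758 : act 0 n4777 = n4777 := d4_1 D4777 (iv D4777) F10640
theorem F14759 : act 4 n4777 = n4777 := d22_1 D4777 (iv D4777) F10642
theorem F14760 : act 6 n4777 = n3491 := d25_2 D3461 D4777 (iv D3491) (iv D2437) (iv F7427)
def n4778 : Q := act 7 n3461
theorem D4778 : act 7 n3461 = n4778 := rfl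
theorem F14761 : act 0 n4778 = n4778 := d6_1 D4778 (iv D4778) F10640
theorem F14762 : act 1 n4778 = n3463 := d12_1 D4778 (iv D3463) (iv F10641)
theorem F14763 : act 4 n4778 = n4778 := d24_1 D4778 (iv D4778) F10642
theorem F14764 : act 6 n4778 = n4778 := d27_1 D4778 (iv D4778) (iv D3461) F7428 D3461
def n4779 : Q := act 1 n3462
theorem D4779 : act 1 n3462 = n4779 := rfl
theorem F14765 : act 4 n4779 = n4779 := d9_2 F10645 D4779 (iv D4779)
theorem F14766 : act 6 n4779 = n3464 := d11_2 (iv F10646) D4779 (iv D3464)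
def n4780 : Q := act 7 n3462
theorem D4780 : act 7 n3462 = n4780 := rfl
theorem F14767 : act 0 n4780 = n3467 := d6_1 D4780 (iv D3467) (iv F10643)
theorem F14768 : act 2 n4780 = n4780 := d17_1 D4780 (iv D4780) F10644
theorem F14769 : act 4 n4780 = n4780 := d24_1 D4780 (iv D4780) F10645
theorem F14770 : act 5 n4780 = n3463 := d26_1 D4780 (iv D3463) D3462
def n4781 : Q := act 3 n3463
theorem D4781 : act 3 n3463 = n4781 := rfl
theorem F14771 : act 0 n4781 = n3468 := d2_1 D4781 (iv D3468) (iv F10647)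
theorem F14772 : act 6 n4781 = n4781 := d20_2 F10650 D4781 (iv D4781)
def n4782 : Q := act 2 n3464
theorem D4782 : act 2 n3464 = n4782 := rfl
theorem F14773 : act 1 n4782 = n4782 := d7_1 D4782 (iv D4782) (iv D3464) F7433 D3464
theorem F14774 : act 4 n4782 = n4782 := d14_2 F10651 D4782 (iv D4782)
theorem F14775 : act 5 n4782 = n3496 := d15_2 (iv F10652) D4782 (iv D3496)
def n4783 : Q := act 7 n3464
theorem D4783 : act 7 n3464 = n4783 := rfl
theorem F14776 : act 1 n4783 = n3465 := d12_1 D4783 (iv D3465) D3464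
theorem F14777 : act 4 n4783 = n4783 := d24_1 D4783 (iv D4783) F10651
theorem F14778 : act 5 n4783 = n3497 := d26_1 D4783 (iv D3497) (iv F10652)
theorem F14779 : act 3 n4299 = n4783 := d19_3 F14778 (iv F10757) D4299
def n4784 : Q := act 3 n3465
theorem D4784 : act 3 n3465 = n4784 := rfl
theorem F14780 : act 0 n4784 = n3469 := d2_1 D4784 (iv D3469) (iv F10653)
theorem F14781 : act 1 n4784 = n4299 := d8_1 D4784 F14779 F14776
theorem F14782 : act 5 n4784 = n3466 := d19_2 (iv F10656) D4784 (iv D3466)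
theorem F14783 : act 4 n4445 = n4784 := d22_3 F14782 (iv F10660) D4445
def n4785 : Q := act 6 n3465
theorem D4785 : act 6 n3465 = n4785 := rfl
theorem F14784 : act 0 n4785 = n3470 := d5_1 D4785 (iv D3470) (iv F10653)
theorem F14785 : act 2 n4785 = n4785 := d16_1 D4785 (iv D4785) F10654
theorem F14786 : act 4 n4785 = n4785 := d23_1 D4785 (iv D4785) F10655
theorem F14787 : act 5 n4785 = n4785 := d25_1 D4785 (iv D4785) F10656 F7439 (iv F10656)
def n4786 : Q := act 2 n3466
theorem D4786 : act 2 n3466 = n4786 := rfl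
theorem F14788 : act 0 n4786 = n3471 := d1_1 D4786 (iv D3471) (iv F10657)
theorem F14789 : act 1 n4786 = n4301 := d7_1 D4786 (iv D4301) (iv D3076) (iv F7519) (iv F10658)
theorem F14790 : act 3 n4786 = n4786 := d13_2 D3466 D4786 (iv D4786) (iv D3466) F7437
theorem F14791 : act 4 n4786 = n4444 := d14_2 F10660 D4786 F13735
theorem F14792 : act 6 n4786 = n4786 := d16_2 F10659 D4786 (iv D4786)
def n4787 : Q := act 3 n3467
theorem D4787 : act 3 n3467 = n4787 := rfl
theorem F14793 : act 5 n4787 = n3468 := d19_2 (iv F10663) D4787 (iv D3468)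
def n4788 : Q := act 6 n3467
theorem D4788 : act 6 n3467 = n4788 := rfl
theorem F14794 : act 2 n4788 = n4788 := d16_1 D4788 (iv D4788) F10661
theorem F14795 : act 4 n4788 = n4788 := d23_1 D4788 (iv D4788) F10662
theorem F14796 : act 5 n4788 = n4788 := d25_1 D4788 (iv D4788) F10663 F7446 (iv F10663)
theorem F14797 : act 7 n4788 = n3470 := d27_2 D3467 D4788 (iv D3470) (iv D2419) (iv F7442)
def n4789 : Q := act 2 n3468
theorem D4789 : act 2 n3468 = n4789 := rfl
theorem F14798 : act 3 n4789 = n4789 := d13_2 D3468 D4789 (iv D4789) (iv D3468) F7444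
theorem F14799 : act 6 n4789 = n4789 := d16_2 F10665 D4789 (iv D4789)
def n4790 : Q := act 4 n3468
theorem D4790 : act 4 n3468 = n4790 := rfl
theorem F14800 : act 1 n4790 = n4790 := d9_1 D4790 (iv D4790) F10664
theorem F14801 : act 3 n4790 = n4790 := d18_1 D4790 (iv D4790) (iv D3468) F7445 D3468
theorem F14802 : act 6 n4790 = n4790 := d23_2 F10665 D4790 (iv D4790)
def n4791 : Q := act 2 n3469
theorem D4791 : act 2 n3469 = n4791 := rfl
theorem F14803 : act 1 n4791 = n3729 := d7_1 D4791 F11497 (iv F11043) (iv F11731) F11730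
theorem F14804 : act 3 n4791 = n4791 := d13_2 D3469 D4791 (iv D4791) (iv D3469) F7447
theorem F14805 : act 5 n4791 = n3471 := d15_2 (iv F10666) D4791 (iv D3471)
theorem F14806 : act 7 n4791 = n3736 := d17_2 F11620 D4791 (iv F11617)
theorem F14807 : act 4 n3728 = n4791 := d24_3 F14806 (iv D3736) (iv F11496)
def n4792 : Q := act 4 n3469
theorem D4792 : act 4 n3469 = n4792 := rfl
theorem F14808 : act 0 n4792 = n4445 := d3_1 D4792 F14783 F14780
theorem F14809 : act 1 n4792 = n3588 := d9_1 D4792 (iv F11733) F11730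
theorem F14810 : act 2 n4792 = n3728 := d14_1 D4792 F14807 (iv D4791)
theorem F14811 : act 3 n4792 = n4792 := d18_1 D4792 (iv D4792) (iv D3469) F7448 D3469
theorem F14812 : act 5 n4792 = n3472 := d22_2 (iv F10666) D4792 (iv D3472)
theorem F14813 : act 7 n4792 = n3592 := d24_2 F11620 D4792 (iv F11619)
def n4793 : Q := act 6 n3469
theorem D4793 : act 6 n3469 = n4793 := rfl
theorem F14814 : act 3 n4793 = n3470 := d20_1 D4793 (iv D3470) D3469
theorem F14815 : act 5 n4793 = n4793 := d25_1 D4793 (iv D4793) F10666 F7451 (iv F10666)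
def n4794 : Q := act 4 n3471
theorem D4794 : act 4 n3471 = n4794 := rfl
theorem F14816 : act 0 n4794 = n4444 := d3_1 D4794 (iv F14791) F14788
theorem F14817 : act 1 n4794 = n4794 := d9_1 D4794 (iv D4794) F10670
theorem F14818 : act 2 n4794 = n3472 := d14_1 D4794 (iv D3472) D3471
theorem F14819 : act 5 n4794 = n3728 := d22_2 F14805 D4794 F14807
theorem F14820 : act 6 n4794 = n4794 := d23_2 F10672 D4794 (iv D4794)
theorem F14821 : act 7 n4794 = n3737 := d24_2 F11614 D4794 (iv F11613)
theorem F14822 : act 3 n3953 = n4794 := d21_5 F14821 F11512 F8065 (iv F8585) (iv F12255)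
def n4795 : Q := act 0 n3474
theorem D4795 : act 0 n3474 = n4795 := rfl
theorem F14823 : act 3 n4795 = n4795 := d2_2 F10679 D4795 (iv D4795)
theorem F14824 : act 4 n4795 = n4055 := d3_2 (iv F10680) D4795 F12600
theorem F14825 : act 5 n4795 = n4085 := d4_2 (iv F10681) D4795 F12678
theorem F14826 : act 6 n4795 = n4795 := d5_2 F10682 D4795 (iv D4795)
theorem F14827 : act 7 n4795 = n4051 := d6_2 (iv F10683) D4795 F12590
def n4796 : Q := act 2 n3475
theorem D4796 : act 2 n3475 = n4796 := rfl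
theorem F14828 : act 0 n4796 = n3476 := d1_1 D4796 (iv D3476) D3475
theorem F14829 : act 4 n4796 = n4035 := d14_2 (iv F10685) D4796 F12537
theorem F14830 : act 6 n4796 = n4796 := d16_2 F10686 D4796 (iv D4796)
theorem F14831 : act 7 n4796 = n4033 := d17_2 (iv F10687) D4796 F12530
def n4797 : Q := act 3 n3476
theorem D4797 : act 3 n3476 = n4797 := rfl
theorem F14832 : act 2 n4797 = n3478 := d13_1 D4797 (iv D3478) (iv D2427) (iv F7465) D3476
theorem F14833 : act 6 n4797 = n4797 := d20_2 F10689 D4797 (iv D4797)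
theorem F14834 : act 7 n4797 = n4278 := d21_2 (iv F10690) D4797 F13237 F9424 (iv F8844)
def n4798 : Q := act 1 n3477
theorem D4798 : act 1 n3477 = n4798 := rfl
theorem F14835 : act 0 n4798 = n4798 := d0_1 D4798 (iv D4798) F10691 F7472 (iv F10691)
theorem F14836 : act 4 n4798 = n3483 := d9_2 (iv F10692) D4798 (iv D3483)
theorem F14837 : act 6 n4798 = n4798 := d11_2 F10693 D4798 (iv D4798)
theorem F14838 : act 7 n4798 = n4798 := d12_2 F10694 D4798 (iv D4798)
def n4799 : Q := act 3 n3477
theorem D4799 : act 3 n3477 = n4799 := rfl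
theorem F14839 : act 0 n4799 = n3478 := d2_1 D4799 (iv D3478) (iv F10691)
theorem F14840 : act 6 n4799 = n4799 := d20_2 F10693 D4799 (iv D4799)
def n4800 : Q := act 4 n3478
theorem D4800 : act 4 n3478 = n4800 := rfl
theorem F14841 : act 1 n4800 = n4800 := d9_1 D4800 (iv D4800) F10695
theorem F14842 : act 3 n4800 = n3485 := d18_1 D4800 (iv D3485) (iv D2433) (iv F7473) D3478
theorem F14843 : act 6 n4800 = n4800 := d23_2 F10696 D4800 (iv D4800)
def n4801 : Q := act 7 n3478
theorem D4801 : act 7 n3478 = n4801 := rfl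
theorem F14844 : act 1 n4801 = n4801 := d12_1 D4801 (iv D4801) F10695
theorem F14845 : act 2 n4801 = n4278 := d17_1 D4801 (iv F14834) F14832
theorem F14846 : act 3 n4801 = n4801 := d21_1 D4801 (iv D4801) (iv D3478) F7475 D3478
theorem F14847 : act 6 n4277 = n4801 := d16_0 F14845 (iv D4278) D4277
def n4802 : Q := act 2 n3479
theorem D4802 : act 2 n3479 = n4802 := rfl
theorem F14848 : act 0 n4802 = n3480 := d1_1 D4802 (iv D3480) D3479
theorem F14849 : act 5 n4802 = n4022 := d15_2 (iv F12511) D4802 (iv F12508)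
theorem F14850 : act 6 n4802 = n4802 := d16_2 F10698 D4802 (iv D4802)
theorem F14851 : act 7 n4802 = n4249 := d17_2 F13088 D4802 F13145
theorem F14852 : act 3 n4023 = n4802 := d19_3 F14849 F12496 D4023
def n4803 : Q := act 1 n3481
theorem D4803 : act 1 n3481 = n4803 := rfl
theorem F14853 : act 6 n4803 = n4803 := d11_2 F10706 D4803 (iv D4803)
theorem F14854 : act 7 n4803 = n4245 := d12_2 (iv F10707) D4803 (iv D4245)
def n4804 : Q := act 3 n3481
theorem D4804 : act 3 n3481 = n4804 := rfl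
theorem F14855 : act 0 n4804 = n3482 := d2_1 D4804 (iv D3482) (iv F10704)
theorem F14856 : act 2 n4804 = n3484 := d13_1 D4804 (iv D3484) (iv D2432) (iv F7480) D3481
theorem F14857 : act 5 n4804 = n4212 := d19_2 (iv F10705) D4804 F13033
theorem F14858 : act 6 n4804 = n4804 := d20_2 F10706 D4804 (iv D4804)
def n4805 : Q := act 4 n3482
theorem D4805 : act 4 n3482 = n4805 := rfl
theorem F14859 : act 1 n4805 = n4039 := d9_1 D4805 F12550 (iv F10708)
theorem F14860 : act 2 n4805 = n3485 := d14_1 D4805 (iv D3485) (iv F10709)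
theorem F14861 : act 5 n4805 = n4208 := d22_2 (iv F10710) D4805 F13018
theorem F14862 : act 6 n4805 = n4805 := d23_2 F10711 D4805 (iv D4805)
def n4806 : Q := act 3 n3483
theorem D4806 : act 3 n3483 = n4806 := rfl
theorem F14863 : act 0 n4806 = n4806 := d2_1 D4806 (iv D4806) F10712
theorem F14864 : act 1 n4806 = n3484 := d8_1 D4806 (iv D3484) D3483
theorem F14865 : act 6 n4806 = n4806 := d20_2 F10713 D4806 (iv D4806)
def n4807 : Q := act 5 n3483
theorem D4807 : act 5 n3483 = n4807 := rfl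
theorem F14866 : act 0 n4807 = n4807 := d4_1 D4807 (iv D4807) F10712
theorem F14867 : act 7 n4807 = n4807 := d26_2 F10714 D4807 (iv D4807)
def n4808 : Q := act 4 n3484
theorem D4808 : act 4 n3484 = n4808 := rfl
theorem F14868 : act 0 n4808 = n3485 := d3_1 D4808 (iv D3485) (iv F10715)
theorem F14869 : act 6 n4808 = n4808 := d23_2 F10716 D4808 (iv D4808)
def n4809 : Q := act 7 n3484
theorem D4809 : act 7 n3484 = n4809 := rfl
theorem F14870 : act 0 n4809 = n3486 := d6_1 D4809 (iv D3486) (iv F10715)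
theorem F14871 : act 3 n4809 = n4809 := d21_1 D4809 (iv D4809) (iv D3484) F7489 D3484
theorem F14872 : act 5 n4809 = n3530 := d26_1 D4809 F14407 F14405
def n4810 : Q := act 7 n3485
theorem D4810 : act 7 n3485 = n4810 := rfl
theorem F14873 : act 1 n4810 = n4810 := d12_1 D4810 (iv D4810) F10717
theorem F14874 : act 4 n4810 = n3486 := d24_1 D4810 (iv D3486) D3485
theorem F14875 : act 5 n4810 = n3531 := d26_1 D4810 (iv F14412) F14410
def n4811 : Q := act 6 n3487
theorem D4811 : act 6 n3487 = n4811 := rfl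
theorem F14876 : act 0 n4811 = n4811 := d5_1 D4811 (iv D4811) F10722
theorem F14877 : act 2 n4811 = n3488 := d16_1 D4811 (iv D3488) D3487
theorem F14878 : act 3 n4811 = n4570 := d20_1 D4811 (iv D4570) F10725
def n4812 : Q := act 5 n3488
theorem D4812 : act 5 n3488 = n4812 := rfl
theorem F14879 : act 0 n4812 = n4812 := d4_1 D4812 (iv D4812) F10726
theorem F14880 : act 3 n4812 = n3491 := d19_1 D4812 (iv D3491) (iv F10728)
def n4813 : Q := act 4 n3489
theorem D4813 : act 4 n3489 = n4813 := rfl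
theorem F14881 : act 0 n4813 = n4813 := d3_1 D4813 (iv D4813) F10729
theorem F14882 : act 1 n4813 = n3500 := d9_1 D4813 (iv D3500) (iv F10730)
theorem F14883 : act 2 n4813 = n4566 := d14_1 D4813 F14160 (iv F10731)
theorem F14884 : act 3 n4813 = n4813 := d18_1 D4813 (iv D4813) (iv D3489) F7498 D3489
theorem F14885 : act 5 n4813 = n4562 := d22_2 (iv F10732) D4813 F14144
theorem F14886 : act 7 n4813 = n4561 := d24_2 F10733 D4813 F14140
def n4814 : Q := act 6 n3489
theorem D4814 : act 6 n3489 = n4814 := rfl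
theorem F14887 : act 0 n4814 = n4814 := d5_1 D4814 (iv D4814) F10729
theorem F14888 : act 1 n4814 = n3501 := d11_1 D4814 (iv D3501) (iv F10730)
theorem F14889 : act 2 n4814 = n4570 := d16_1 D4814 (iv D4570) (iv F10731)
theorem F14890 : act 3 n4814 = n3490 := d20_1 D4814 (iv D3490) D3489
def n4815 : Q := act 5 n3490
theorem D4815 : act 5 n3490 = n4815 := rfl
theorem F14891 : act 0 n4815 = n4815 := d4_1 D4815 (iv D4815) F10734
theorem F14892 : act 2 n4815 = n3491 := d15_1 D4815 (iv D3491) (iv F10736)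
theorem F14893 : act 4 n4815 = n4815 := d22_1 D4815 (iv D4815) F10737
def n4816 : Q := act 7 n3490
theorem D4816 : act 7 n3490 = n4816 := rfl
theorem F14894 : act 0 n4816 = n4816 := d6_1 D4816 (iv D4816) F10734
theorem F14895 : act 1 n4816 = n3504 := d12_1 D4816 (iv D3504) (iv F10735)
theorem F14896 : act 2 n4816 = n3492 := d17_1 D4816 (iv D3492) (iv F10736)
theorem F14897 : act 4 n4816 = n4816 := d24_1 D4816 (iv D4816) F10737
theorem F14898 : act 6 n4816 = n4816 := d27_1 D4816 (iv D4816) (iv D3490) F7499 D3490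
def n4817 : Q := act 1 n3491
theorem D4817 : act 1 n3491 = n4817 := rfl
theorem F14899 : act 4 n4817 = n4817 := d9_2 F10739 D4817 (iv D4817)
theorem F14900 : act 5 n4817 = n3493 := d10_2 D3491 D4817 (iv D3493) (iv D2438) (iv F7501)
def n4818 : Q := act 7 n3491
theorem D4818 : act 7 n3491 = n4818 := rfl
theorem F14901 : act 0 n4818 = n4818 := d6_1 D4818 (iv D4818) F10738
theorem F14902 : act 4 n4818 = n4818 := d24_1 D4818 (iv D4818) F10739
theorem F14903 : act 5 n4818 = n3492 := d26_1 D4818 (iv D3492) D3491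
def n4819 : Q := act 3 n3492
theorem D4819 : act 3 n3492 = n4819 := rfl
theorem F14904 : act 0 n4819 = n4819 := d2_1 D4819 (iv D4819) F10740
theorem F14905 : act 1 n4819 = n3495 := d8_1 D4819 (iv D3495) (iv F10741)
theorem F14906 : act 6 n4819 = n4819 := d20_2 F10743 D4819 (iv D4819)
def n4820 : Q := act 2 n3493
theorem D4820 : act 2 n3493 = n4820 := rfl
theorem F14907 : act 1 n4820 = n3508 := d7_1 D4820 (iv D3508) (iv D2449) (iv F7504) D3493
theorem F14908 : act 4 n4820 = n4820 := d14_2 F10744 D4820 (iv D4820)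
theorem F14909 : act 6 n4820 = n3496 := d16_2 (iv F10745) D4820 (iv D3496)
def n4821 : Q := act 7 n3493
theorem D4821 : act 7 n3493 = n4821 := rfl
theorem F14910 : act 1 n4821 = n3494 := d12_1 D4821 (iv D3494) D3493
theorem F14911 : act 4 n4821 = n4821 := d24_1 D4821 (iv D4821) F10744
theorem F14912 : act 6 n4821 = n4291 := d27_1 D4821 F13277 F10758 (iv D3497) (iv F10745)
def n4822 : Q := act 3 n3494
theorem D4822 : act 3 n3494 = n4822 := rfl
theorem F14913 : act 0 n4822 = n3498 := d2_1 D4822 (iv D3498) (iv F10746)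
theorem F14914 : act 2 n4822 = n4081 := d13_1 D4822 F12670 F8927 (iv F7545) (iv F10747)
theorem F14915 : act 5 n4822 = n3495 := d19_2 (iv F10749) D4822 (iv D3495)
theorem F14916 : act 6 n4822 = n4079 := d20_2 (iv F10750) D4822 F12663
def n4823 : Q := act 2 n3495
theorem D4823 : act 2 n3495 = n4823 := rfl
theorem F14917 : act 0 n4823 = n3499 := d1_1 D4823 (iv D3499) (iv F10751)
theorem F14918 : act 3 n4823 = n3510 := d13_2 D3495 D4823 (iv D3510) (iv D2451) (iv F7508)
theorem F14919 : act 5 n4823 = n4081 := d15_2 F14915 D4823 (iv F14914)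
theorem F14920 : act 6 n4823 = n4823 := d16_2 F10752 D4823 (iv D4823)
theorem F14921 : act 7 n4823 = n4053 := d17_2 (iv F13905) D4823 (iv F13902)
def n4824 : Q := act 3 n3496
theorem D4824 : act 3 n3496 = n4824 := rfl
theorem F14922 : act 1 n4824 = n3512 := d8_1 D4824 (iv D3512) (iv F10753)
def n4825 : Q := act 7 n3496
theorem D4825 : act 7 n3496 = n4825 := rfl
theorem F14923 : act 1 n4825 = n3513 := d12_1 D4825 (iv D3513) (iv F10753)
theorem F14924 : act 2 n4825 = n3497 := d17_1 D4825 (iv D3497) D3496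
theorem F14925 : act 4 n4825 = n4825 := d24_1 D4825 (iv D4825) F10754
theorem F14926 : act 6 n4290 = n4825 := d16_0 F14924 (iv F10758) (iv F13274)
def n4826 : Q := act 6 n3500
theorem D4826 : act 6 n3500 = n4826 := rfl
theorem F14927 : act 0 n4826 = n3516 := d5_1 D4826 (iv D3516) (iv F10767)
theorem F14928 : act 3 n4826 = n4826 := d20_1 D4826 (iv D4826) F10768
theorem F14929 : act 4 n4826 = n3501 := d23_1 D4826 (iv D3501) D3500
def n4827 : Q := act 7 n3500
theorem D4827 : act 7 n3500 = n4827 := rfl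
theorem F14930 : act 0 n4827 = n3517 := d6_1 D4827 (iv D3517) (iv F10767)
theorem F14931 : act 1 n4827 = n4561 := d12_1 D4827 (iv F14886) F14882
theorem F14932 : act 4 n4827 = n3502 := d24_1 D4827 (iv D3502) D3500
theorem F14933 : act 5 n4827 = n4827 := d26_1 D4827 (iv D4827) F10769
def n4828 : Q := act 5 n3501
theorem D4828 : act 5 n3501 = n4828 := rfl
theorem F14934 : act 0 n4828 = n3518 := d4_1 D4828 (iv D3518) (iv F10770)
theorem F14935 : act 3 n4828 = n3503 := d19_1 D4828 (iv D3503) (iv F10771)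
theorem F14936 : act 6 n4828 = n4828 := d25_2 D3501 D4828 (iv D4828) (iv D3501) F7530
def n4829 : Q := act 7 n3501
theorem D4829 : act 7 n3501 = n4829 := rfl
theorem F14937 : act 0 n4829 = n3519 := d6_1 D4829 (iv D3519) (iv F10770)
def n4830 : Q := act 6 n3502
theorem D4830 : act 6 n3502 = n4830 := rfl
theorem F14938 : act 0 n4830 = n3520 := d5_1 D4830 (iv D3520) (iv F10772)
theorem F14939 : act 1 n4830 = n4563 := d11_1 D4830 (iv D4563) (iv F10773)
theorem F14940 : act 3 n4830 = n4830 := d20_1 D4830 (iv D4830) F10774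
def n4831 : Q := act 1 n3503
theorem D4831 : act 1 n3503 = n4831 := rfl
theorem F14941 : act 4 n4831 = n4831 := d9_2 F10778 D4831 (iv D4831)
theorem F14942 : act 6 n4831 = n4831 := d11_2 F10779 D4831 (iv D4831)
def n4832 : Q := act 7 n3503
theorem D4832 : act 7 n3503 = n4832 := rfl
theorem F14943 : act 0 n4832 = n3522 := d6_1 D4832 (iv D3522) (iv F10776)
theorem F14944 : act 2 n4832 = n3506 := d17_1 D4832 (iv D3506) (iv F10777)
theorem F14945 : act 4 n4832 = n4832 := d24_1 D4832 (iv D4832) F10778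
theorem F14946 : act 5 n4832 = n3504 := d26_1 D4832 (iv D3504) D3503
def n4833 : Q := act 3 n3504
theorem D4833 : act 3 n3504 = n4833 := rfl
theorem F14947 : act 0 n4833 = n3523 := d2_1 D4833 (iv D3523) (iv F10780)
theorem F14948 : act 6 n4833 = n4833 := d20_2 F10783 D4833 (iv D4833)
def n4834 : Q := act 2 n3505
theorem D4834 : act 2 n3505 = n4834 := rfl
theorem F14949 : act 0 n4834 = n4834 := d1_1 D4834 (iv D4834) F10784
theorem F14950 : act 4 n4834 = n4834 := d14_2 F10785 D4834 (iv D4834)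
theorem F14951 : act 5 n4834 = n3508 := d15_2 (iv F10786) D4834 (iv D3508)
theorem F14952 : act 6 n4834 = n4834 := d16_2 F10787 D4834 (iv D4834)
def n4835 : Q := act 7 n3505
theorem D4835 : act 7 n3505 = n4835 := rfl
theorem F14953 : act 0 n4835 = n4835 := d6_1 D4835 (iv D4835) F10784
theorem F14954 : act 1 n4835 = n3506 := d12_1 D4835 (iv D3506) D3505
theorem F14955 : act 3 n4835 = n4288 := d21_1 D4835 F13268 (iv F13493) F14499 F14495
theorem F14956 : act 4 n4835 = n4835 := d24_1 D4835 (iv D4835) F10785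
theorem F14957 : act 5 n4835 = n3509 := d26_1 D4835 (iv D3509) (iv F10786)
def n4836 : Q := act 3 n3506
theorem D4836 : act 3 n3506 = n4836 := rfl
theorem F14958 : act 0 n4836 = n3524 := d2_1 D4836 (iv D3524) (iv F10788)
theorem F14959 : act 1 n4836 = n4288 := d8_1 D4836 (iv F14955) F14954
theorem F14960 : act 5 n4836 = n3507 := d19_2 (iv F10790) D4836 (iv D3507)
theorem F14961 : act 7 n4836 = n4365 := d21_2 D3506 D4836 F14503 (iv D4689) F10423
def n4837 : Q := act 6 n3506
theorem D4837 : act 6 n3506 = n4837 := rfl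
theorem F14962 : act 0 n4837 = n3525 := d5_1 D4837 (iv D3525) (iv F10788)
theorem F14963 : act 4 n4837 = n4837 := d23_1 D4837 (iv D4837) F10789
theorem F14964 : act 5 n4837 = n4837 := d25_1 D4837 (iv D4837) F10790 F7540 (iv F10790)
theorem F14965 : act 7 n4837 = n4837 := d27_2 D3506 D4837 (iv D4837) (iv D3506) F7536
def n4838 : Q := act 2 n3507
theorem D4838 : act 2 n3507 = n4838 := rfl
theorem F14966 : act 0 n4838 = n3526 := d1_1 D4838 (iv D3526) (iv F10791)
theorem F14967 : act 6 n4838 = n4838 := d16_2 F10793 D4838 (iv D4838)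
theorem F14968 : act 7 n4838 = n4380 := d17_2 (iv F10794) D4838 (iv D4380)
def n4839 : Q := act 4 n3507
theorem D4839 : act 4 n3507 = n4839 := rfl
theorem F14969 : act 0 n4839 = n3527 := d3_1 D4839 (iv D3527) (iv F10791)
theorem F14970 : act 1 n4839 = n3511 := d9_1 D4839 (iv D3511) (iv F10792)
theorem F14971 : act 3 n4839 = n4839 := d18_1 D4839 (iv D4839) (iv D3507) F7539 D3507
theorem F14972 : act 6 n4839 = n4839 := d23_2 F10793 D4839 (iv D4839)
theorem F14973 : act 7 n4839 = n4374 := d24_2 (iv F10794) D4839 F13520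
def n4840 : Q := act 3 n3508
theorem D4840 : act 3 n3508 = n4840 := rfl
theorem F14974 : act 0 n4840 = n4840 := d2_1 D4840 (iv D4840) F10795
theorem F14975 : act 6 n4840 = n3512 := d20_2 (iv F10797) D4840 (iv D3512)
def n4841 : Q := act 7 n3508
theorem D4841 : act 7 n3508 = n4841 := rfl
theorem F14976 : act 0 n4841 = n4841 := d6_1 D4841 (iv D4841) F10795
theorem F14977 : act 2 n4841 = n3509 := d17_1 D4841 (iv D3509) D3508
theorem F14978 : act 4 n4841 = n4841 := d24_1 D4841 (iv D4841) F10796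
theorem F14979 : act 6 n4841 = n4287 := d27_1 D4841 F13266 F10818 (iv D3513) (iv F10797)
def n4842 : Q := act 1 n3510
theorem D4842 : act 1 n3510 = n4842 := rfl
theorem F14980 : act 6 n4842 = n4842 := d11_2 F10805 D4842 (iv D4842)
theorem F14981 : act 7 n4842 = n4181 := d12_2 (iv F10806) D4842 (iv D4181)
def n4843 : Q := act 4 n3510
theorem D4843 : act 4 n3510 = n4843 := rfl
theorem F14982 : act 0 n4843 = n3515 := d3_1 D4843 (iv D3515) (iv F10803)
theorem F14983 : act 2 n4843 = n3511 := d14_1 D4843 (iv D3511) D3510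
theorem F14984 : act 5 n4843 = n4078 := d22_2 (iv F10804) D4843 F12660
theorem F14985 : act 6 n4843 = n4843 := d23_2 F10805 D4843 (iv D4843)
theorem F14986 : act 7 n4843 = n4175 := d24_2 (iv F10806) D4843 F12929
def n4844 : Q := act 4 n3512
theorem D4844 : act 4 n3512 = n4844 := rfl
theorem F14987 : act 0 n4844 = n4844 := d3_1 D4844 (iv D4844) F10812
theorem F14988 : act 3 n4844 = n4844 := d18_1 D4844 (iv D4844) (iv D3512) F7554 D3512
theorem F14989 : act 5 n4844 = n4844 := d22_2 F10813 D4844 (iv D4844)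
def n4845 : Q := act 7 n3512
theorem D4845 : act 7 n3512 = n4845 := rfl
theorem F14990 : act 0 n4845 = n4845 := d6_1 D4845 (iv D4845) F10812
theorem F14991 : act 5 n4845 = n4845 := d26_1 D4845 (iv D4845) F10813
def n4846 : Q := act 3 n3513
theorem D4846 : act 3 n3513 = n4846 := rfl
theorem F14992 : act 0 n4846 = n4846 := d2_1 D4846 (iv D4846) F10814
theorem F14993 : act 2 n4846 = n3858 := d13_1 D4846 F11947 F8345 (iv F7558) (iv F10815)
theorem F14994 : act 5 n4846 = n4846 := d19_2 F10817 D4846 (iv D4846)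
theorem F14995 : act 6 n4846 = n3856 := d20_2 F10818 D4846 F11939
def n4847 : Q := act 0 n3514
theorem D4847 : act 0 n3514 = n4847 := rfl
theorem F14996 : act 2 n4847 = n3530 := d1_2 (iv F10819) D4847 (iv D3530)
theorem F14997 : act 3 n4847 = n4062 := d2_2 (iv F10820) D4847 F12622
theorem F14998 : act 6 n4847 = n4847 := d5_2 F10821 D4847 (iv D4847)
theorem F14999 : act 7 n4847 = n4212 := d6_2 (iv F10822) D4847 (iv D4212)
def n4848 : Q := act 4 n3514
theorem D4848 : act 4 n3514 = n4848 := rfl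
theorem F15000 : act 1 n4848 = n3515 := d9_1 D4848 (iv D3515) D3514
theorem F15001 : act 2 n4848 = n3531 := d14_1 D4848 (iv D3531) (iv F10819)
theorem F15002 : act 6 n4848 = n4848 := d23_2 F10821 D4848 (iv D4848)
theorem F15003 : act 7 n4848 = n4208 := d24_2 (iv F10822) D4848 F13018
def n4849 : Q := act 3 n3515
theorem D4849 : act 3 n3515 = n4849 := rfl
theorem F15004 : act 2 n4849 = n4849 := d13_1 D4849 (iv D4849) F10823 F7566 (iv F10823)
theorem F15005 : act 5 n4849 = n4098 := d19_2 (iv F10824) D4849 F12720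
theorem F15006 : act 6 n4849 = n4849 := d20_2 F10825 D4849 (iv D4849)
def n4850 : Q := act 5 n3516
theorem D4850 : act 5 n3516 = n4850 := rfl
theorem F15008 : act 4 n4850 = n3518 := d22_1 D4850 (iv D3518) (iv F10829)
def n4851 : Q := act 7 n3516
theorem D4851 : act 7 n3516 = n4851 := rfl
theorem F15010 : act 1 n4851 = n4851 := d12_1 D4851 (iv D4851) F10827
theorem F15011 : act 4 n4851 = n3519 := d24_1 D4851 (iv D3519) (iv F10829)
def n4852 : Q := act 3 n3517
theorem D4852 : act 3 n3517 = n4852 := rfl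
theorem F15012 : act 1 n4852 = n4852 := d8_1 D4852 (iv D4852) F10830
theorem F15013 : act 4 n4852 = n4852 := d18_2 (iv F10831) D4852 (iv D4852) F10831 F7576
theorem F15014 : act 5 n4852 = n4852 := d19_2 F10832 D4852 (iv D4852)
theorem F15015 : act 7 n4852 = n4852 := d21_2 D3517 D4852 (iv D4852) (iv D3517) F7571
def n4853 : Q := act 6 n3517
theorem D4853 : act 6 n3517 = n4853 := rfl
theorem F15016 : act 1 n4853 = n4853 := d11_1 D4853 (iv D4853) F10830
theorem F15017 : act 4 n4853 = n3520 := d23_1 D4853 (iv D3520) (iv F10831)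
def n4854 : Q := act 1 n3518
theorem D4854 : act 1 n3518 = n4854 := rfl
theorem F15018 : act 3 n4854 = n3521 := d8_2 (iv F10833) D4854 (iv D3521)
def n4855 : Q := act 7 n3518
theorem D4855 : act 7 n3518 = n4855 := rfl
theorem F15021 : act 5 n4855 = n3519 := d26_1 D4855 (iv D3519) D3518
def n4856 : Q := act 3 n3519
theorem D4856 : act 3 n3519 = n4856 := rfl
theorem F15022 : act 1 n4856 = n4856 := d8_1 D4856 (iv D4856) F10835
theorem F15023 : act 7 n4856 = n3523 := d21_2 D3519 D4856 (iv D3523) (iv D2460) (iv F7574)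
def n4857 : Q := act 6 n3519
theorem D4857 : act 6 n3519 = n4857 := rfl
theorem F15024 : act 1 n4857 = n4857 := d11_1 D4857 (iv D4857) F10835
theorem F15025 : act 7 n4857 = n3520 := d27_2 D3519 D4857 (iv D3520) (iv D2458) D2457
def n4858 : Q := act 5 n3520
theorem D4858 : act 5 n3520 = n4858 := rfl
theorem F15026 : act 3 n4858 = n4858 := d19_1 D4858 (iv D4858) F10837
theorem F15027 : act 6 n4858 = n4858 := d25_2 D3520 D4858 (iv D4858) (iv D3520) F7577
def n4859 : Q := act 0 n3521
theorem D4859 : act 0 n3521 = n4859 := rfl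
theorem F15029 : act 4 n4859 = n4859 := d3_2 F10839 D4859 (iv D4859)
def n4860 : Q := act 7 n3521
theorem D4860 : act 7 n3521 = n4860 := rfl
theorem F15032 : act 1 n4860 = n3522 := d12_1 D4860 (iv D3522) D3521
theorem F15033 : act 2 n4860 = n4860 := d17_1 D4860 (iv D4860) F10838
theorem F15034 : act 4 n4860 = n4860 := d24_1 D4860 (iv D4860) F10839
theorem F15035 : act 5 n4860 = n4860 := d26_1 D4860 (iv D4860) F10840
def n4861 : Q := act 3 n3522
theorem D4861 : act 3 n3522 = n4861 := rfl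
theorem F15036 : act 5 n4861 = n3523 := d19_2 (iv F10844) D4861 (iv D3523)
def n4862 : Q := act 6 n3522
theorem D4862 : act 6 n3522 = n4862 := rfl
theorem F15037 : act 2 n4862 = n3525 := d16_1 D4862 (iv D3525) (iv F10842)
theorem F15038 : act 4 n4862 = n4862 := d23_1 D4862 (iv D4862) F10843
theorem F15039 : act 5 n4862 = n4862 := d25_1 D4862 (iv D4862) F10844 F7584 (iv F10844)
theorem F15040 : act 7 n4862 = n4862 := d27_2 D3522 D4862 (iv D4862) (iv D3522) F7580
def n4863 : Q := act 2 n3523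
theorem D4863 : act 2 n3523 = n4863 := rfl
theorem F15041 : act 3 n4863 = n3526 := d13_2 D3523 D4863 (iv D3526) (iv D2462) (iv F7582)
theorem F15042 : act 6 n4863 = n4863 := d16_2 F10846 D4863 (iv D4863)
def n4864 : Q := act 4 n3523
theorem D4864 : act 4 n3523 = n4864 := rfl
theorem F15043 : act 1 n4864 = n4864 := d9_1 D4864 (iv D4864) F10845
theorem F15044 : act 3 n4864 = n4864 := d18_1 D4864 (iv D4864) (iv D3523) F7583 D3523
theorem F15045 : act 6 n4864 = n4864 := d23_2 F10846 D4864 (iv D4864)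
def n4865 : Q := act 2 n3524
theorem D4865 : act 2 n3524 = n4865 := rfl
theorem F15046 : act 5 n4865 = n3526 := d15_2 (iv F10848) D4865 (iv D3526)
def n4866 : Q := act 4 n3524
theorem D4866 : act 4 n3524 = n4866 := rfl
theorem F15047 : act 1 n4866 = n4866 := d9_1 D4866 (iv D4866) F10847
theorem F15048 : act 3 n4866 = n4866 := d18_1 D4866 (iv D4866) (iv D3524) F7586 D3524
theorem F15049 : act 5 n4866 = n3527 := d22_2 (iv F10848) D4866 (iv D3527)
def n4867 : Q := act 6 n3524
theorem D4867 : act 6 n3524 = n4867 := rfl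
theorem F15050 : act 1 n4867 = n4867 := d11_1 D4867 (iv D4867) F10847
theorem F15051 : act 3 n4867 = n3525 := d20_1 D4867 (iv D3525) D3524
theorem F15052 : act 5 n4867 = n4867 := d25_1 D4867 (iv D4867) F10848 F7589 (iv F10848)
def n4868 : Q := act 1 n3526
theorem D4868 : act 1 n3526 = n4868 := rfl
theorem F15053 : act 2 n4868 = n3528 := d7_2 D3526 D4868 (iv D3528) (iv D2463) (iv F7588)
theorem F15054 : act 6 n4868 = n4868 := d11_2 F10853 D4868 (iv D4868)
def n4869 : Q := act 4 n3526
theorem D4869 : act 4 n3526 = n4869 := rfl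
theorem F15055 : act 2 n4869 = n3527 := d14_1 D4869 (iv D3527) D3526
theorem F15056 : act 6 n4869 = n4869 := d23_2 F10853 D4869 (iv D4869)
def n4870 : Q := act 0 n3528
theorem D4870 : act 0 n3528 = n4870 := rfl
theorem F15057 : act 1 n4870 = n3530 := d0_2 D3528 D4870 (iv D3530) (iv D2465) (iv F7590)
theorem F15058 : act 3 n4870 = n4870 := d2_2 F10857 D4870 (iv D4870)
theorem F15059 : act 6 n4870 = n4870 := d5_2 F10858 D4870 (iv D4870)
def n4871 : Q := act 4 n3528
theorem D4871 : act 4 n3528 = n4871 := rfl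
theorem F15060 : act 1 n4871 = n3529 := d9_1 D4871 (iv D3529) D3528
def n4872 : Q := act 5 n3528
theorem D4872 : act 5 n3528 = n4872 := rfl
def n4873 : Q := act 3 n3529
theorem D4873 : act 3 n3529 = n4873 := rfl
theorem F15064 : act 0 n4873 = n3532 := d2_1 D4873 (iv D3532) (iv F10859)
def n4874 : Q := act 4 n3530
theorem D4874 : act 4 n3530 = n4874 := rfl
theorem F15069 : act 0 n4874 = n3531 := d3_1 D4874 (iv D3531) D3530
theorem F15070 : act 6 n4874 = n4874 := d23_2 F10864 D4874 (iv D4874)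
def n4875 : Q := act 3 n3531
theorem D4875 : act 3 n3531 = n4875 := rfl
theorem F15071 : act 1 n4875 = n3532 := d8_1 D4875 (iv D3532) (iv F10865)
theorem F15072 : act 4 n4875 = n4875 := d18_2 D3531 D4875 (iv D4875) (iv D3531) F7598
theorem F15073 : act 6 n4875 = n4875 := d20_2 F10866 D4875 (iv D4875)
def n4876 : Q := act 7 n3532
theorem D4876 : act 7 n3532 = n4876 := rfl
theorem F15074 : act 2 n4876 = n4876 := d17_1 D4876 (iv D4876) F10867
theorem F15075 : act 4 n4876 = n4876 := d24_1 D4876 (iv D4876) F10868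
theorem F15076 : act 5 n4876 = n4876 := d26_1 D4876 (iv D4876) F10869
def n4877 : Q := act 5 n3533
theorem D4877 : act 5 n3533 = n4877 := rfl
theorem F15077 : act 0 n4877 = n3534 := d4_1 D4877 (iv D3534) D3533
theorem F15078 : act 2 n4877 = n3535 := d15_1 D4877 (iv D3535) (iv F10871)
def n4878 : Q := act 6 n3534
theorem D4878 : act 6 n3534 = n4878 := rfl
theorem F15079 : act 2 n4878 = n3536 := d16_1 D4878 (iv D3536) (iv F10872)
def n4879 : Q := act 1 n3535
theorem D4879 : act 1 n3535 = n4879 := rfl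
theorem F15080 : act 0 n4879 = n4879 := d0_1 D4879 (iv D4879) F10873 F7606 (iv F10873)
theorem F15081 : act 3 n4879 = n3542 := d8_2 (iv F10874) D4879 (iv D3542)
theorem F15082 : act 5 n4879 = n3537 := d10_2 D3535 D4879 (iv D3537) (iv D2470) (iv F7604)
theorem F15083 : act 7 n4879 = n4484 := d12_2 F14701 D4879 (iv F14699)
theorem F15084 : act 2 n4487 = n4879 := d17_3 F15083 F13866 D4487
def n4880 : Q := act 6 n3535
theorem D4880 : act 6 n3535 = n4880 := rfl
theorem F15085 : act 0 n4880 = n3536 := d5_1 D4880 (iv D3536) (iv F10873)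
theorem F15086 : act 3 n4880 = n3543 := d20_1 D4880 (iv D3543) (iv F10874)
def n4881 : Q := act 2 n3537
theorem D4881 : act 2 n3537 = n4881 := rfl
theorem F15087 : act 0 n4881 = n4881 := d1_1 D4881 (iv D4881) F10877
theorem F15088 : act 5 n4881 = n4487 := d15_2 F15082 D4881 F15084
theorem F15089 : act 7 n4881 = n4486 := d17_2 F14065 D4881 (iv F14062)
def n4882 : Q := act 6 n3537
theorem D4882 : act 6 n3537 = n4882 := rfl
theorem F15090 : act 0 n4882 = n4882 := d5_1 D4882 (iv D4882) F10877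
theorem F15091 : act 1 n4882 = n3538 := d11_1 D4882 (iv D3538) D3537
theorem F15092 : act 3 n4882 = n3549 := d20_1 D4882 (iv D3549) (iv F10878)
def n4883 : Q := act 1 n3539
theorem D4883 : act 1 n3539 = n4883 := rfl
theorem F15093 : act 4 n4883 = n4883 := d9_2 F10883 D4883 (iv D4883)
theorem F15094 : act 5 n4883 = n4883 := d10_2 D3539 D4883 (iv D4883) (iv D3539) F7612
theorem F15095 : act 7 n4883 = n4883 := d12_2 F10884 D4883 (iv D4883)
def n4884 : Q := act 6 n3539
theorem D4884 : act 6 n3539 = n4884 := rfl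
theorem F15096 : act 0 n4884 = n3541 := d5_1 D4884 (iv D3541) (iv F10881)
theorem F15097 : act 2 n4884 = n3543 := d16_1 D4884 (iv D3543) (iv F10882)
theorem F15098 : act 4 n4884 = n4884 := d23_1 D4884 (iv D4884) F10883
theorem F15099 : act 5 n4884 = n3934 := d25_1 D4884 F12190 F10889 (iv D3540) D3539
theorem F15100 : act 7 n3933 = n4884 := d26_0 F15099 (iv D3934) D3933
def n4885 : Q := act 2 n3542
theorem D4885 : act 2 n3542 = n4885 := rfl
theorem F15101 : act 0 n4885 = n4885 := d1_1 D4885 (iv D4885) F10895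
theorem F15102 : act 4 n4885 = n4885 := d14_2 F10896 D4885 (iv D4885)
theorem F15103 : act 5 n4885 = n3548 := d15_2 (iv F10897) D4885 (iv D3548)
theorem F15104 : act 7 n4885 = n4885 := d17_2 F10898 D4885 (iv D4885)
def n4886 : Q := act 6 n3542
theorem D4886 : act 6 n3542 = n4886 := rfl
theorem F15105 : act 0 n4886 = n4886 := d5_1 D4886 (iv D4886) F10895
theorem F15106 : act 1 n4886 = n3543 := d11_1 D4886 (iv D3543) D3542
theorem F15107 : act 4 n4886 = n4886 := d23_1 D4886 (iv D4886) F10896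
def n4887 : Q := act 5 n3543
theorem D4887 : act 5 n3543 = n4887 := rfl
theorem F15108 : act 0 n4887 = n3546 := d4_1 D4887 (iv D3546) (iv F10899)
theorem F15109 : act 2 n4887 = n3934 := d15_1 D4887 (iv F15099) F15097
theorem F15110 : act 4 n4887 = n4887 := d22_1 D4887 (iv D4887) F10900
theorem F15111 : act 6 n4887 = n3544 := d25_2 D3543 D4887 (iv D3544) (iv D2477) D2476
theorem F15112 : act 7 n3932 = n4887 := d27_0 F15111 (iv F10904) (iv D2767) (iv F8518) D3932
def n4888 : Q := act 7 n3543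
theorem D4888 : act 7 n3543 = n4888 := rfl
theorem F15113 : act 0 n4888 = n3547 := d6_1 D4888 (iv D3547) (iv F10899)
theorem F15114 : act 2 n4888 = n3933 := d17_1 D4888 F15100 F15097
theorem F15115 : act 4 n4888 = n4888 := d24_1 D4888 (iv D4888) F10900
theorem F15116 : act 5 n4888 = n3932 := d26_1 D4888 F15112 (iv D4887)
theorem F15117 : act 6 n4888 = n4888 := d27_1 D4888 (iv D4888) (iv D3543) F7633 D3543
def n4889 : Q := act 1 n3544
theorem D4889 : act 1 n3544 = n4889 := rfl
theorem F15118 : act 4 n4889 = n4889 := d9_2 F10903 D4889 (iv D4889)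
theorem F15119 : act 5 n4889 = n3552 := d10_2 D3544 D4889 (iv D3552) (iv D2484) (iv F7635)
theorem F15120 : act 7 n4889 = n3938 := d12_2 F10904 D4889 F12198
def n4890 : Q := act 3 n3548
theorem D4890 : act 3 n3548 = n4890 := rfl
theorem F15121 : act 0 n4890 = n4890 := d2_1 D4890 (iv D4890) F10921
theorem F15122 : act 1 n4890 = n4890 := d8_1 D4890 (iv D4890) F10922
def n4891 : Q := act 6 n3548
theorem D4891 : act 6 n3548 = n4891 := rfl
theorem F15123 : act 0 n4891 = n4891 := d5_1 D4891 (iv D4891) F10921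
theorem F15124 : act 1 n4891 = n4891 := d11_1 D4891 (iv D4891) F10922
theorem F15125 : act 2 n4891 = n3549 := d16_1 D4891 (iv D3549) D3548
theorem F15126 : act 4 n4891 = n4891 := d23_1 D4891 (iv D4891) F10923
def n4892 : Q := act 5 n3549
theorem D4892 : act 5 n3549 = n4892 := rfl
theorem F15127 : act 0 n4892 = n4892 := d4_1 D4892 (iv D4892) F10925
theorem F15128 : act 4 n4892 = n4892 := d22_1 D4892 (iv D4892) F10927
def n4893 : Q := act 7 n3549
theorem D4893 : act 7 n3549 = n4893 := rfl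
theorem F15129 : act 0 n4893 = n4893 := d6_1 D4893 (iv D4893) F10925
theorem F15130 : act 1 n4893 = n3551 := d12_1 D4893 (iv D3551) (iv F10926)
theorem F15131 : act 4 n4893 = n4893 := d24_1 D4893 (iv D4893) F10927
theorem F15132 : act 6 n4893 = n4893 := d27_1 D4893 (iv D4893) (iv D3549) F7655 D3549
def n4894 : Q := act 1 n3550
theorem D4894 : act 1 n3550 = n4894 := rfl
theorem F15133 : act 4 n4894 = n4894 := d9_2 F10930 D4894 (iv D4894)
theorem F15134 : act 6 n4894 = n3552 := d11_2 (iv F10931) D4894 (iv D3552)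
def n4895 : Q := act 7 n3550
theorem D4895 : act 7 n3550 = n4895 := rfl
theorem F15135 : act 0 n4895 = n3555 := d6_1 D4895 (iv D3555) (iv F10928)
theorem F15136 : act 2 n4895 = n4895 := d17_1 D4895 (iv D4895) F10929
theorem F15137 : act 4 n4895 = n4895 := d24_1 D4895 (iv D4895) F10930
theorem F15138 : act 5 n4895 = n3551 := d26_1 D4895 (iv D3551) D3550
def n4896 : Q := act 3 n3551
theorem D4896 : act 3 n3551 = n4896 := rfl
theorem F15139 : act 0 n4896 = n3556 := d2_1 D4896 (iv D3556) (iv F10932)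
theorem F15140 : act 6 n4896 = n4896 := d20_2 F10935 D4896 (iv D4896)
def n4897 : Q := act 2 n3552
theorem D4897 : act 2 n3552 = n4897 := rfl
theorem F15141 : act 1 n4897 = n4897 := d7_1 D4897 (iv D4897) (iv D3552) F7660 D3552
theorem F15142 : act 4 n4897 = n4897 := d14_2 F10936 D4897 (iv D4897)
def n4898 : Q := act 7 n3552
theorem D4898 : act 7 n3552 = n4898 := rfl
theorem F15143 : act 1 n4898 = n3553 := d12_1 D4898 (iv D3553) D3552
theorem F15144 : act 4 n4898 = n4898 := d24_1 D4898 (iv D4898) F10936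
theorem F15145 : act 5 n4898 = n3938 := d26_1 D4898 (iv F15120) F15119
theorem F15146 : act 3 n3944 = n4898 := d19_3 F15145 F12199 D3944
def n4899 : Q := act 3 n3553
theorem D4899 : act 3 n3553 = n4899 := rfl
theorem F15147 : act 0 n4899 = n3557 := d2_1 D4899 (iv D3557) (iv F10937)
theorem F15148 : act 1 n4899 = n3944 := d8_1 D4899 F15146 F15143
theorem F15149 : act 5 n4899 = n3554 := d19_2 (iv F10940) D4899 (iv D3554)
theorem F15150 : act 4 n4608 = n4899 := d22_3 F15149 (iv F10944) D4608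
def n4900 : Q := act 6 n3553
theorem D4900 : act 6 n3553 = n4900 := rfl
theorem F15151 : act 0 n4900 = n3558 := d5_1 D4900 (iv D3558) (iv F10937)
theorem F15152 : act 2 n4900 = n4900 := d16_1 D4900 (iv D4900) F10938
theorem F15153 : act 4 n4900 = n4900 := d23_1 D4900 (iv D4900) F10939
theorem F15154 : act 5 n4900 = n4900 := d25_1 D4900 (iv D4900) F10940 F7665 (iv F10940)
def n4901 : Q := act 2 n3554
theorem D4901 : act 2 n3554 = n4901 := rfl
theorem F15155 : act 0 n4901 = n3559 := d1_1 D4901 (iv D3559) (iv F10941)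
theorem F15156 : act 1 n4901 = n3948 := d7_1 D4901 (iv D3948) (iv D2776) (iv F8549) (iv F10942)
theorem F15157 : act 3 n4901 = n4901 := d13_2 D3554 D4901 (iv D4901) (iv D3554) F7663
theorem F15158 : act 4 n4901 = n4366 := d14_2 F10944 D4901 F13495
theorem F15159 : act 6 n4901 = n4901 := d16_2 F10943 D4901 (iv D4901)
def n4902 : Q := act 3 n3555
theorem D4902 : act 3 n3555 = n4902 := rfl
theorem F15160 : act 5 n4902 = n3556 := d19_2 (iv F10947) D4902 (iv D3556)
def n4903 : Q := act 6 n3555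
theorem D4903 : act 6 n3555 = n4903 := rfl
theorem F15161 : act 2 n4903 = n4903 := d16_1 D4903 (iv D4903) F10945
theorem F15162 : act 4 n4903 = n4903 := d23_1 D4903 (iv D4903) F10946
theorem F15163 : act 5 n4903 = n4903 := d25_1 D4903 (iv D4903) F10947 F7672 (iv F10947)
theorem F15164 : act 7 n4903 = n3558 := d27_2 D3555 D4903 (iv D3558) (iv D2488) (iv F7668)
def n4904 : Q := act 2 n3556
theorem D4904 : act 2 n3556 = n4904 := rfl
theorem F15165 : act 3 n4904 = n4904 := d13_2 D3556 D4904 (iv D4904) (iv D3556) F7670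
theorem F15166 : act 6 n4904 = n4904 := d16_2 F10949 D4904 (iv D4904)
def n4905 : Q := act 2 n3557
theorem D4905 : act 2 n3557 = n4905 := rfl
theorem F15167 : act 1 n4905 = n4100 := d7_1 D4905 F12723 (iv F9390) (iv F12844) F12843
theorem F15168 : act 3 n4905 = n4905 := d13_2 D3557 D4905 (iv D4905) (iv D3557) F7673
theorem F15169 : act 4 n4905 = n4099 := d14_2 F13162 D4905 (iv F13160)
theorem F15170 : act 5 n4905 = n3559 := d15_2 (iv F10950) D4905 (iv D3559)
theorem F15171 : act 7 n4905 = n4103 := d17_2 F12800 D4905 (iv F12797)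
def n4906 : Q := act 6 n3557
theorem D4906 : act 6 n3557 = n4906 := rfl
theorem F15172 : act 3 n4906 = n3558 := d20_1 D4906 (iv D3558) D3557
theorem F15173 : act 5 n4906 = n4906 := d25_1 D4906 (iv D4906) F10950 F7677 (iv F10950)
def n4907 : Q := act 4 n3559
theorem D4907 : act 4 n3559 = n4907 := rfl
theorem F15174 : act 0 n4907 = n4366 := d3_1 D4907 (iv F15158) F15155
theorem F15175 : act 1 n4907 = n4907 := d9_1 D4907 (iv D4907) F10954
theorem F15176 : act 2 n4907 = n3560 := d14_1 D4907 (iv D3560) D3559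
theorem F15177 : act 5 n4907 = n4099 := d22_2 F15170 D4907 (iv F15169)
theorem F15178 : act 6 n4907 = n4907 := d23_2 F10956 D4907 (iv D4907)
theorem F15179 : act 7 n4907 = n4104 := d24_2 F12794 D4907 (iv F12793)
theorem F15180 : act 3 n4305 = n4907 := d21_5 F15179 F12732 F8990 (iv F9496) (iv F13322)
def n4908 : Q := act 2 n3561
theorem D4908 : act 2 n3561 = n4908 := rfl
theorem F15181 : act 0 n4908 = n4908 := d1_1 D4908 (iv D4908) F10962
theorem F15182 : act 1 n4908 = n4908 := d7_1 D4908 (iv D4908) F10963 F7689 (iv F10963)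
theorem F15183 : act 3 n4908 = n4908 := d13_2 D3561 D4908 (iv D4908) (iv D3561) F7685
theorem F15184 : act 6 n4908 = n4908 := d16_2 F10964 D4908 (iv D4908)
def n4909 : Q := act 4 n3561
theorem D4909 : act 4 n3561 = n4909 := rfl
theorem F15185 : act 0 n4909 = n4909 := d3_1 D4909 (iv D4909) F10962
theorem F15186 : act 1 n4909 = n3562 := d9_1 D4909 (iv D3562) (iv F10963)
theorem F15187 : act 3 n4909 = n4909 := d18_1 D4909 (iv D4909) (iv D3561) F7686 D3561
theorem F15188 : act 6 n4909 = n4909 := d23_2 F10964 D4909 (iv D4909)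
def n4910 : Q := act 7 n3561
theorem D4910 : act 7 n3561 = n4910 := rfl
theorem F15189 : act 0 n4910 = n4910 := d6_1 D4910 (iv D4910) F10962
theorem F15190 : act 1 n4910 = n3563 := d12_1 D4910 (iv D3563) (iv F10963)
theorem F15191 : act 3 n4910 = n4881 := d21_1 D4910 F15089 F13873 F9924 D3561
theorem F15192 : act 2 n4890 = n4910 := d13_5 F15191 (iv D4881) F10878 D3548 D4890
theorem F15193 : act 7 n4908 = n4890 := d17_0 F15192 (iv D4910) D4908
def n4911 : Q := act 7 n3562
theorem D4911 : act 7 n3562 = n4911 := rfl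
theorem F15194 : act 0 n4911 = n3566 := d6_1 D4911 (iv D3566) (iv F10965)
theorem F15195 : act 2 n4911 = n4911 := d17_1 D4911 (iv D4911) F10966
theorem F15196 : act 4 n4911 = n3563 := d24_1 D4911 (iv D3563) D3562
theorem F15197 : act 5 n4911 = n3575 := d26_1 D4911 (iv D3575) (iv F10968)
def n4912 : Q := act 3 n3563
theorem D4912 : act 3 n3563 = n4912 := rfl
theorem F15198 : act 0 n4912 = n3567 := d2_1 D4912 (iv D3567) (iv F10970)
theorem F15199 : act 1 n4912 = n4881 := d8_1 D4912 (iv F15191) F15190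
theorem F15200 : act 5 n4912 = n3576 := d19_2 (iv F10972) D4912 (iv D3576)
theorem F15201 : act 7 n4912 = n3564 := d21_2 D3563 D4912 (iv D3564) (iv D2493) D2492
theorem F15202 : act 2 n4722 = n4912 := d17_3 F15201 (iv F11107) (iv F14586)
def n4913 : Q := act 6 n3563
theorem D4913 : act 6 n3563 = n4913 := rfl
theorem F15203 : act 0 n4913 = n3568 := d5_1 D4913 (iv D3568) (iv F10970)
theorem F15204 : act 2 n4913 = n4913 := d16_1 D4913 (iv D4913) F10971
theorem F15205 : act 7 n4913 = n4913 := d27_2 D3563 D4913 (iv D4913) (iv D3563) F7691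
def n4914 : Q := act 3 n3566
theorem D4914 : act 3 n3566 = n4914 := rfl
theorem F15206 : act 1 n4914 = n4914 := d8_1 D4914 (iv D4914) F10981
theorem F15207 : act 5 n4914 = n3586 := d19_2 (iv F10984) D4914 (iv D3586)
theorem F15208 : act 7 n4914 = n4914 := d21_2 D3566 D4914 (iv D4914) (iv D3566) F7706
def n4915 : Q := act 6 n3566
theorem D4915 : act 6 n3566 = n4915 := rfl
theorem F15209 : act 1 n4915 = n4915 := d11_1 D4915 (iv D4915) F10981
theorem F15210 : act 2 n4915 = n4915 := d16_1 D4915 (iv D4915) F10982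
theorem F15211 : act 4 n4915 = n3568 := d23_1 D4915 (iv D3568) (iv F10983)
theorem F15212 : act 7 n4915 = n4915 := d27_2 D3566 D4915 (iv D4915) (iv D3566) F7708
def n4916 : Q := act 4 n3570
theorem D4916 : act 4 n3570 = n4916 := rfl
theorem F15213 : act 0 n4916 = n3688 := d3_1 D4916 (iv D3688) (iv F10996)
theorem F15214 : act 1 n4916 = n4916 := d9_1 D4916 (iv D4916) F10997
theorem F15215 : act 2 n4916 = n3571 := d14_1 D4916 (iv D3571) D3570
theorem F15216 : act 6 n4916 = n4346 := d23_2 F11812 D4916 F13450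
def n4917 : Q := act 5 n3570
theorem D4917 : act 5 n3570 = n4917 := rfl
theorem F15217 : act 0 n4917 = n3689 := d4_1 D4917 (iv D3689) (iv F10996)
theorem F15218 : act 2 n4917 = n3572 := d15_1 D4917 (iv D3572) D3570
theorem F15219 : act 3 n4917 = n4009 := d19_1 D4917 (iv D4009) (iv F10998)
def n4918 : Q := act 7 n3570
theorem D4918 : act 7 n3570 = n4918 := rfl
theorem F15220 : act 0 n4918 = n3690 := d6_1 D4918 (iv D3690) (iv F10996)
theorem F15221 : act 1 n4918 = n4918 := d12_1 D4918 (iv D4918) F10997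
theorem F15222 : act 2 n4918 = n3573 := d17_1 D4918 (iv D3573) D3570
def n4919 : Q := act 5 n3571
theorem D4919 : act 5 n3571 = n4919 := rfl
theorem F15223 : act 0 n4919 = n3691 := d4_1 D4919 (iv D3691) (iv F10999)
theorem F15224 : act 3 n4919 = n4919 := d19_1 D4919 (iv D4919) F11001
theorem F15225 : act 4 n4919 = n3572 := d22_1 D4919 (iv D3572) D3571
def n4920 : Q := act 7 n3571
theorem D4920 : act 7 n3571 = n4920 := rfl
theorem F15226 : act 0 n4920 = n3692 := d6_1 D4920 (iv D3692) (iv F10999)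
theorem F15227 : act 1 n4920 = n3575 := d12_1 D4920 (iv D3575) (iv F11000)
theorem F15228 : act 4 n4920 = n3573 := d24_1 D4920 (iv D3573) D3571
def n4921 : Q := act 7 n3572
theorem D4921 : act 7 n3572 = n4921 := rfl
theorem F15229 : act 0 n4921 = n3694 := d6_1 D4921 (iv D3694) (iv F11003)
theorem F15230 : act 5 n4921 = n3573 := d26_1 D4921 (iv D3573) D3572
def n4922 : Q := act 3 n3573
theorem D4922 : act 3 n3573 = n4922 := rfl
theorem F15231 : act 0 n4922 = n3695 := d2_1 D4922 (iv D3695) (iv F11005)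
theorem F15232 : act 1 n4922 = n3576 := d8_1 D4922 (iv D3576) (iv F11006)
theorem F15233 : act 7 n4922 = n3574 := d21_2 D3573 D4922 (iv D3574) (iv D2505) D2503
def n4923 : Q := act 6 n3573
theorem D4923 : act 6 n3573 = n4923 := rfl
theorem F15234 : act 0 n4923 = n3696 := d5_1 D4923 (iv D3696) (iv F11005)
theorem F15235 : act 1 n4923 = n3577 := d11_1 D4923 (iv D3577) (iv F11006)
def n4924 : Q := act 2 n3574
theorem D4924 : act 2 n3574 = n4924 := rfl
theorem F15236 : act 0 n4924 = n3698 := d1_1 D4924 (iv D3698) (iv F11007)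
theorem F15237 : act 3 n4924 = n4018 := d13_2 D3574 D4924 (iv D4018) (iv D2832) (iv F7738)
def n4925 : Q := act 4 n3574
theorem D4925 : act 4 n3574 = n4925 := rfl
theorem F15238 : act 0 n4925 = n3699 := d3_1 D4925 (iv D3699) (iv F11007)
theorem F15239 : act 1 n4925 = n3579 := d9_1 D4925 (iv D3579) (iv F11008)
theorem F15240 : act 3 n4925 = n4925 := d18_1 D4925 (iv D4925) (iv D3574) F7739 D3574
def n4926 : Q := act 3 n3575
theorem D4926 : act 3 n3575 = n4926 := rfl
theorem F15241 : act 0 n4926 = n3586 := d2_1 D4926 (iv D3586) (iv F11009)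
theorem F15242 : act 7 n4926 = n4926 := d21_2 D3575 D4926 (iv D4926) (iv D3575) F7742
def n4927 : Q := act 6 n3575
theorem D4927 : act 6 n3575 = n4927 := rfl
theorem F15243 : act 0 n4927 = n3587 := d5_1 D4927 (iv D3587) (iv F11009)
theorem F15244 : act 2 n4927 = n4927 := d16_1 D4927 (iv D4927) F11010
theorem F15245 : act 4 n4927 = n3577 := d23_1 D4927 (iv D3577) (iv F11011)
theorem F15246 : act 7 n4927 = n4728 := d27_2 D3575 D4927 (iv D4728) (iv D3418) (iv F7743)
def n4928 : Q := act 2 n3576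
theorem D4928 : act 2 n3576 = n4928 := rfl
theorem F15247 : act 0 n4928 = n3588 := d1_1 D4928 (iv D3588) (iv F11012)
theorem F15248 : act 3 n4928 = n4928 := d13_2 D3576 D4928 (iv D4928) (iv D3576) F7745
theorem F15249 : act 5 n4928 = n4722 := d15_2 F15200 D4928 F15202
theorem F15250 : act 7 n4928 = n3578 := d17_2 (iv F11013) D4928 (iv D3578)
theorem F15251 : act 1 n4720 = n4928 := d10_5 F15249 (iv D4722) (iv D3412) (iv F10491) D4720
def n4929 : Q := act 4 n3576
theorem D4929 : act 4 n3576 = n4929 := rfl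
theorem F15252 : act 0 n4929 = n3589 := d3_1 D4929 (iv D3589) (iv F11012)
theorem F15253 : act 7 n4929 = n3579 := d24_2 (iv F11013) D4929 (iv D3579)
def n4930 : Q := act 6 n3576
theorem D4930 : act 6 n3576 = n4930 := rfl
theorem F15254 : act 0 n4930 = n3590 := d5_1 D4930 (iv D3590) (iv F11012)
theorem F15255 : act 3 n4930 = n3577 := d20_1 D4930 (iv D3577) D3576
def n4931 : Q := act 5 n3577
theorem D4931 : act 5 n3577 = n4931 := rfl
theorem F15256 : act 0 n4931 = n3591 := d4_1 D4931 (iv D3591) (iv F11014)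
theorem F15257 : act 2 n4931 = n4931 := d15_1 D4931 (iv D4931) F11015
def n4932 : Q := act 1 n3578
theorem D4932 : act 1 n3578 = n4932 := rfl
theorem F15258 : act 3 n4932 = n3581 := d8_2 (iv F11017) D4932 (iv D3581)
theorem F15259 : act 5 n4932 = n4611 := d10_2 F11109 D4932 F14286 F10326 (iv F11106)
theorem F15260 : act 7 n4932 = n4720 := d12_2 F15250 D4932 F15251
theorem F15261 : act 0 n4612 = n4932 := d6_3 F15260 F14580 (iv F14290)
def n4933 : Q := act 6 n3578
theorem D4933 : act 6 n3578 = n4933 := rfl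
theorem F15262 : act 0 n4933 = n3593 := d5_1 D4933 (iv D3593) (iv F11016)
theorem F15263 : act 2 n4933 = n3580 := d16_1 D4933 (iv D3580) D3578
theorem F15264 : act 3 n4933 = n3582 := d20_1 D4933 (iv D3582) (iv F11017)
def n4934 : Q := act 0 n3581
theorem D4934 : act 0 n3581 = n4934 := rfl
theorem F15265 : act 1 n4934 = n3594 := d0_2 D3581 D4934 (iv D3594) (iv D2521) (iv F7750)
theorem F15266 : act 2 n4934 = n4029 := d1_2 (iv F11022) D4934 (iv D4029)
theorem F15267 : act 3 n4934 = n4612 := d2_2 F15258 D4934 F15261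
theorem F15268 : act 5 n4934 = n4492 := d4_2 F12610 D4934 F13893
theorem F15269 : act 7 n4934 = n4934 := d6_2 F11023 D4934 (iv D4934)
def n4935 : Q := act 6 n3581
theorem D4935 : act 6 n3581 = n4935 := rfl
theorem F15270 : act 1 n4935 = n3582 := d11_1 D4935 (iv D3582) D3581
theorem F15271 : act 2 n4935 = n4032 := d16_1 D4935 (iv D4032) (iv F11022)
def n4936 : Q := act 5 n3582
theorem D4936 : act 5 n3582 = n4936 := rfl
theorem F15272 : act 0 n4936 = n3596 := d4_1 D4936 (iv D3596) (iv F11024)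
theorem F15273 : act 2 n4936 = n3584 := d15_1 D4936 (iv D3584) (iv F11025)
theorem F15274 : act 4 n4936 = n3685 := d22_1 D4936 F11374 F11117
theorem F15275 : act 6 n4936 = n3683 := d25_2 D3582 D4936 (iv D3683) F7957 (iv F7813)
def n4937 : Q := act 7 n3582
theorem D4937 : act 7 n3582 = n4937 := rfl
theorem F15276 : act 0 n4937 = n3597 := d6_1 D4937 (iv D3597) (iv F11024)
theorem F15277 : act 2 n4937 = n3585 := d17_1 D4937 (iv D3585) (iv F11025)
theorem F15278 : act 6 n4937 = n4937 := d27_1 D4937 (iv D4937) (iv D3582) F7751 D3582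
def n4938 : Q := act 5 n3583
theorem D4938 : act 5 n3583 = n4938 := rfl
theorem F15279 : act 0 n4938 = n3598 := d4_1 D4938 (iv D3598) (iv F11026)
theorem F15280 : act 2 n4938 = n3685 := d15_1 D4938 F11374 F11115
theorem F15281 : act 3 n4938 = n4938 := d19_1 D4938 (iv D4938) F11028
theorem F15282 : act 4 n4938 = n3584 := d22_1 D4938 (iv D3584) (iv F11029)
theorem F15283 : act 6 n4938 = n3634 := d25_2 D3583 D4938 (iv D3634) F7874 (iv F7755)
def n4939 : Q := act 7 n3584
theorem D4939 : act 7 n3584 = n4939 := rfl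
theorem F15284 : act 0 n4939 = n3599 := d6_1 D4939 (iv D3599) (iv F11030)
theorem F15285 : act 5 n4939 = n3585 := d26_1 D4939 (iv D3585) D3584
def n4940 : Q := act 2 n3586
theorem D4940 : act 2 n3586 = n4940 := rfl
theorem F15286 : act 1 n4940 = n4940 := d7_1 D4940 (iv D4940) F11035 F8033 (iv F11035)
theorem F15287 : act 3 n4940 = n4940 := d13_2 D3586 D4940 (iv D4940) (iv D3586) F7763
theorem F15288 : act 7 n4940 = n4940 := d17_2 F11036 D4940 (iv D4940)
def n4941 : Q := act 4 n3586
theorem D4941 : act 4 n3586 = n4941 := rfl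
theorem F15289 : act 1 n4941 = n3725 := d9_1 D4941 (iv D3725) (iv F11035)
theorem F15290 : act 3 n4941 = n3589 := d18_1 D4941 (iv D3589) (iv D2515) (iv F7764) D3586
theorem F15291 : act 7 n4941 = n4941 := d24_2 F11036 D4941 (iv D4941)
def n4942 : Q := act 6 n3586
theorem D4942 : act 6 n3586 = n4942 := rfl
theorem F15292 : act 1 n4942 = n3726 := d11_1 D4942 (iv D3726) (iv F11035)
theorem F15293 : act 3 n4942 = n3587 := d20_1 D4942 (iv D3587) D3586
theorem F15294 : act 7 n4768 = n4942 := d21_0 F15293 F11040 F11663 F11662 D4768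
theorem F15295 : act 2 n4942 = n4772 := d17_1 F15294 (iv D4772) (iv F14734)
theorem F15296 : act 6 n4772 = n4940 := d16_2 D4942 F15295 (iv D4940)
def n4943 : Q := act 5 n3587
theorem D4943 : act 5 n3587 = n4943 := rfl
theorem F15297 : act 2 n4943 = n4943 := d15_1 D4943 (iv D4943) F11038
theorem F15298 : act 4 n4943 = n3591 := d22_1 D4943 (iv D3591) (iv F11039)
theorem F15299 : act 7 n4943 = n4729 := d26_2 (iv F11040) D4943 (iv D4729)
def n4944 : Q := act 6 n3588
theorem D4944 : act 6 n3588 = n4944 := rfl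
theorem F15300 : act 2 n4944 = n3590 := d16_1 D4944 (iv D3590) D3588
theorem F15301 : act 3 n4944 = n4944 := d20_1 D4944 (iv D4944) F11041
def n4945 : Q := act 6 n3589
theorem D4945 : act 6 n3589 = n4945 := rfl
theorem F15302 : act 1 n4945 = n3731 := d11_1 D4945 (iv D3731) (iv F11043)
theorem F15303 : act 4 n4945 = n3590 := d23_1 D4945 (iv D3590) D3589
def n4946 : Q := act 0 n3592
theorem D4946 : act 0 n3592 = n4946 := rfl
theorem F15304 : act 1 n4946 = n4612 := d0_2 D3592 D4946 F15261 (iv D4932) F11016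
theorem F15305 : act 2 n4946 = n3735 := d1_2 (iv F11048) D4946 (iv D3735)
theorem F15306 : act 3 n4946 = n3594 := d2_2 (iv F11049) D4946 (iv D3594)
theorem F15307 : act 5 n4946 = n4371 := d4_2 F11080 D4946 F13507
theorem F15308 : act 7 n4946 = n4445 := d6_2 F14813 D4946 (iv F14808)
def n4947 : Q := act 6 n3592
theorem D4947 : act 6 n3592 = n4947 := rfl
theorem F15309 : act 1 n4947 = n3593 := d11_1 D4947 (iv D3593) D3592
theorem F15310 : act 2 n4947 = n3738 := d16_1 D4947 (iv D3738) (iv F11048)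
theorem F15311 : act 3 n4947 = n3595 := d20_1 D4947 (iv D3595) (iv F11049)
def n4948 : Q := act 6 n3594
theorem D4948 : act 6 n3594 = n4948 := rfl
theorem F15312 : act 0 n4948 = n3595 := d5_1 D4948 (iv D3595) D3594
theorem F15313 : act 2 n4948 = n3602 := d16_1 D4948 (iv D3602) (iv F11052)
def n4949 : Q := act 5 n3595
theorem D4949 : act 5 n3595 = n4949 := rfl
theorem F15314 : act 2 n4949 = n3606 := d15_1 D4949 (iv D3606) (iv F11055)
theorem F15315 : act 7 n4949 = n3785 := d31_1 D4949 (iv F11808) F11806 F11688 F8244 F8245 F8251 F8249 F8250 (iv F11688) F11687 (iv F14708) F14710 F11083 (iv F11055) (iv D3595) (iv F11049) (iv F11080) (iv F11081) (iv D3472) D3471 F10672 F10671 (iv F14805) F14806 (iv D3736) (iv F11048) D4947 F15311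
def n4950 : Q := act 7 n3595
theorem D4950 : act 7 n3595 = n4950 := rfl
theorem F15316 : act 1 n4950 = n3597 := d12_1 D4950 (iv D3597) (iv F11054)
theorem F15317 : act 2 n4950 = n3607 := d17_1 D4950 (iv D3607) (iv F11055)
theorem F15318 : act 5 n4950 = n3785 := d26_1 D4950 (iv F15315) (iv D4949)
theorem F15319 : act 6 n4950 = n4950 := d27_1 D4950 (iv D4950) (iv D3595) F7777 D3595
theorem F15320 : act 3 n3760 = n4950 := d19_3 F15318 (iv D3785) (iv F11575)
def n4951 : Q := act 7 n3596
theorem D4951 : act 7 n3596 = n4951 := rfl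
theorem F15321 : act 2 n4951 = n3599 := d17_1 D4951 (iv D3599) (iv F11056)
theorem F15322 : act 4 n4951 = n3686 := d24_1 D4951 (iv D3686) (iv F11057)
theorem F15323 : act 5 n4951 = n3597 := d26_1 D4951 (iv D3597) D3596
theorem F15324 : act 6 n4951 = n3909 := d27_1 D4951 (iv D3909) (iv D2747) (iv F7964) (iv F11058)
def n4952 : Q := act 3 n3597
theorem D4952 : act 3 n3597 = n4952 := rfl
theorem F15325 : act 1 n4952 = n3760 := d8_1 D4952 F15320 F15316
theorem F15326 : act 2 n4952 = n3755 := d13_1 D4952 F11677 F11674 F8143 (iv F11059)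
theorem F15327 : act 6 n4952 = n4952 := d20_2 F11060 D4952 (iv D4952)
def n4953 : Q := act 6 n3599
theorem D4953 : act 6 n3599 = n4953 := rfl
theorem F15328 : act 2 n4953 = n3909 := d16_1 D4953 (iv F15324) F15321
theorem F15329 : act 4 n4953 = n3852 := d23_1 D4953 (iv F14661) F14659
theorem F15330 : act 5 n4953 = n4953 := d25_1 D4953 (iv D4953) F11065 F7784 (iv F11065)
theorem F15331 : act 7 n4953 = n3851 := d27_2 D3599 D4953 (iv D3851) (iv F10995) F10994
def n4954 : Q := act 6 n3600
theorem D4954 : act 6 n3600 = n4954 := rfl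
theorem F15332 : act 0 n4954 = n3604 := d5_1 D4954 (iv D3604) (iv F11066)
theorem F15333 : act 1 n4954 = n4051 := d11_1 D4954 (iv D4051) (iv F11067)
theorem F15334 : act 4 n4954 = n3602 := d23_1 D4954 (iv D3602) D3600
def n4955 : Q := act 1 n3601
theorem D4955 : act 1 n3601 = n4955 := rfl
theorem F15335 : act 0 n4955 = n3611 := d0_1 D4955 (iv D3611) F7814 (iv F7791) (iv F11070)
theorem F15336 : act 2 n4955 = n4155 := d7_2 (iv F11071) D4955 F12884 (iv F9116) (iv F11067)
theorem F15337 : act 3 n4955 = n3767 := d8_2 (iv F11072) D4955 (iv D3767)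
theorem F15338 : act 4 n4955 = n4934 := d9_2 (iv F11073) D4955 F15265
theorem F15339 : act 5 n4955 = n4052 := d10_2 D3601 D4955 (iv D4052) (iv D2864) (iv F7785)
theorem F15340 : act 7 n4955 = n4955 := d12_2 F11074 D4955 (iv D4955)
def n4956 : Q := act 6 n3601
theorem D4956 : act 6 n3601 = n4956 := rfl
theorem F15341 : act 0 n4956 = n3605 := d5_1 D4956 (iv D3605) (iv F11070)
theorem F15342 : act 2 n4956 = n4954 := d16_1 D4956 (iv D4954) (iv F11071)
theorem F15343 : act 3 n4956 = n3768 := d20_1 D4956 (iv D3768) (iv F11072)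
theorem F15344 : act 4 n4956 = n4948 := d23_1 D4956 (iv D4948) (iv F11073)
def n4957 : Q := act 5 n3602
theorem D4957 : act 5 n3602 = n4957 := rfl
theorem F15345 : act 0 n4957 = n3606 := d4_1 D4957 (iv D3606) (iv F11075)
theorem F15346 : act 3 n4957 = n3769 := d19_1 D4957 (iv D3769) (iv F11077)
theorem F15347 : act 7 n3788 = n4957 := d21_0 F15346 (iv F11605) F11021 (iv F8149) D3788
def n4958 : Q := act 7 n3602
theorem D4958 : act 7 n3602 = n4958 := rfl
theorem F15348 : act 0 n4958 = n3607 := d6_1 D4958 (iv D3607) (iv F11075)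
theorem F15349 : act 1 n4958 = n4055 := d12_1 D4958 (iv D4055) (iv F11076)
theorem F15350 : act 3 n4958 = n3763 := d21_1 D4958 F11589 F11611 (iv D3770) (iv F11077)
theorem F15351 : act 5 n4958 = n3788 := d26_1 D4958 F15347 (iv D4957)
theorem F15352 : act 6 n4958 = n4958 := d27_1 D4958 (iv D4958) (iv D3602) F7787 D3602
def n4959 : Q := act 6 n3603
theorem D4959 : act 6 n3603 = n4959 := rfl
theorem F15353 : act 1 n4959 = n3608 := d11_1 D4959 (iv D3608) (iv F11078)
theorem F15354 : act 3 n4959 = n3604 := d20_1 D4959 (iv D3604) D3603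
theorem F15355 : act 4 n4959 = n3773 := d23_1 D4959 (iv D3773) (iv F11079)
theorem F15356 : act 7 n4959 = n4959 := d27_2 F11081 D4959 (iv D4959) (iv F11081) F10676
def n4960 : Q := act 5 n3604
theorem D4960 : act 5 n3604 = n4960 := rfl
theorem F15357 : act 4 n4960 = n3606 := d22_1 D4960 (iv D3606) (iv F11083)
theorem F15358 : act 6 n4960 = n4949 := d25_2 D3604 D4960 (iv D4949) (iv D3595) F7790
theorem F15359 : act 7 n4960 = n3789 := d26_2 F14710 D4960 (iv F14708)
def n4961 : Q := act 5 n3605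
theorem D4961 : act 5 n3605 = n4961 := rfl
theorem F15360 : act 2 n4961 = n4960 := d15_1 D4961 (iv D4960) (iv F11085)
theorem F15361 : act 3 n4961 = n3776 := d19_1 D4961 (iv D3776) (iv F11086)
theorem F15362 : act 4 n4961 = n4949 := d22_1 D4961 (iv D4949) (iv F11087)
theorem F15363 : act 6 n4961 = n3606 := d25_2 D3605 D4961 (iv D3606) (iv D2529) D2528
theorem F15364 : act 7 n4961 = n3819 := d31_1 D4961 F11808 F11671 F8151 (iv D1822) F3895 F3896 F2692 (iv D831) F1859 F1801 (iv F2573) D1165 F3694 (iv F5326) D2499 F8659 F8657 (iv D1913) F4076 (iv F5104) F5923 F5922 D2790 (iv F11539) F11538 F8064 D2640 (iv F11086)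
def n4962 : Q := act 7 n3605
theorem D4962 : act 7 n3605 = n4962 := rfl
theorem F15365 : act 1 n4962 = n3614 := d12_1 D4962 (iv D3614) (iv F11084)
theorem F15366 : act 2 n4962 = n4761 := d17_1 D4962 F14710 (iv F11085)
theorem F15367 : act 3 n4962 = n3825 := d21_1 D4962 F11829 F11635 (iv D3777) (iv F11086)
theorem F15368 : act 4 n4962 = n4950 := d24_1 D4962 (iv D4950) (iv F11087)
theorem F15369 : act 5 n4962 = n3819 := d26_1 D4962 (iv F15364) (iv D4961)
theorem F15370 : act 6 n4962 = n4962 := d27_1 D4962 (iv D4962) (iv D3605) F7795 D3605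
def n4963 : Q := act 6 n3611
theorem D4963 : act 6 n3611 = n4963 := rfl
theorem F15371 : act 1 n4963 = n3612 := d11_1 D4963 (iv D3612) D3611
theorem F15372 : act 3 n4963 = n3796 := d20_1 D4963 (iv D3796) (iv F11110)
theorem F15373 : act 4 n4963 = n4935 := d23_1 D4963 (iv D4935) (iv F11111)
def n4964 : Q := act 7 n3612
theorem D4964 : act 7 n3612 = n4964 := rfl
theorem F15374 : act 0 n4964 = n3614 := d6_1 D4964 (iv D3614) (iv F11114)
theorem F15375 : act 2 n4964 = n4762 := d17_1 D4964 F14715 (iv F11115)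
theorem F15376 : act 4 n4964 = n4937 := d24_1 D4964 (iv D4937) (iv F11117)
theorem F15377 : act 6 n4964 = n4964 := d27_1 D4964 (iv D4964) (iv D3612) F7818 D3612
def n4965 : Q := act 6 n3613
theorem D4965 : act 6 n3613 = n4965 := rfl
theorem F15378 : act 1 n4965 = n3615 := d11_1 D4965 (iv D3615) (iv F11118)
theorem F15379 : act 2 n4965 = n3979 := d16_1 D4965 F12360 (iv F11119)
theorem F15380 : act 3 n4965 = n4965 := d20_1 D4965 (iv D4965) F11120
theorem F15381 : act 4 n4965 = n3803 := d23_1 D4965 (iv D3803) (iv F11121)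
theorem F15382 : act 7 n4965 = n3967 := d27_2 D3613 D4965 F12314 (iv F8612) F7962
theorem F15383 : act 5 n4965 = n3968 := d30_1 D4965 F12316 F12317 D3980 F12366 F12365 (iv D3591) F7767 F5541 (iv F5899) D2782 F8577 F7630 F7619 F5274 F3659 F2554 (iv D788) (iv F1864) F1861 F1862 D565 (iv F2612) F2611 (iv F3697) (iv F5329) (iv F5394) D2535 D3613
def n4966 : Q := act 3 n3614
theorem D4966 : act 3 n3614 = n4966 := rfl
theorem F15384 : act 1 n4966 = n3825 := d8_1 D4966 (iv F15367) F15365
theorem F15385 : act 2 n4966 = n4764 := d13_1 D4966 (iv D4764) (iv D3448) (iv F10580) (iv F11123)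
theorem F15386 : act 6 n4966 = n4966 := d20_2 F11125 D4966 (iv D4966)
theorem F15387 : act 7 n4966 = n3808 := d21_2 D3614 D4966 (iv D3808) (iv D2666) (iv F7824)
def n4967 : Q := act 2 n3618
theorem D4967 : act 2 n3618 = n4967 := rfl
theorem F15388 : act 0 n4967 = n3624 := d1_1 D4967 (iv D3624) (iv F11140)
theorem F15389 : act 3 n4967 = n3620 := d13_2 D3618 D4967 (iv D3620) (iv D2540) (iv F7837)
theorem F15390 : act 5 n4967 = n3644 := d15_2 (iv F11141) D4967 (iv D3644)
theorem F15391 : act 7 n4967 = n4579 := d17_2 (iv F11142) D4967 (iv D4579)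
def n4968 : Q := act 6 n3618
theorem D4968 : act 6 n3618 = n4968 := rfl
theorem F15392 : act 0 n4968 = n3626 := d5_1 D4968 (iv D3626) (iv F11140)
theorem F15393 : act 1 n4968 = n4540 := d11_1 D4968 F14071 (iv F13860)
theorem F15394 : act 3 n4968 = n3619 := d20_1 D4968 (iv D3619) D3618
theorem F15395 : act 4 n4968 = n4759 := d23_1 D4968 (iv F14702) F13862
theorem F15396 : act 5 n3896 = n4968 := d22_0 F15395 (iv D4759) (iv F12058)
theorem F15397 : act 7 n3895 = n4968 := d24_0 F15395 F14701 (iv F12055)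
def n4969 : Q := act 1 n3620
theorem D4969 : act 1 n3620 = n4969 := rfl
theorem F15398 : act 2 n4969 = n4969 := d7_2 D3620 D4969 (iv D4969) (iv D3620) F7841
theorem F15399 : act 7 n4969 = n3828 := d12_2 (iv F11149) D4969 (iv D3828)
def n4970 : Q := act 4 n3620
theorem D4970 : act 4 n3620 = n4970 := rfl
theorem F15400 : act 0 n4970 = n3629 := d3_1 D4970 (iv D3629) (iv F11147)
theorem F15401 : act 2 n4970 = n3621 := d14_1 D4970 (iv D3621) D3620
theorem F15402 : act 5 n4970 = n3649 := d22_2 (iv F11148) D4970 (iv D3649)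
theorem F15403 : act 7 n4970 = n3829 := d24_2 (iv F11149) D4970 (iv D3829)
def n4971 : Q := act 6 n3620
theorem D4971 : act 6 n3620 = n4971 := rfl
theorem F15404 : act 0 n4971 = n3630 := d5_1 D4971 (iv D3630) (iv F11147)
theorem F15405 : act 2 n4971 = n3622 := d16_1 D4971 (iv D3622) D3620
def n4972 : Q := act 5 n3622
theorem D4972 : act 5 n3622 = n4972 := rfl
theorem F15406 : act 0 n4972 = n3631 := d4_1 D4972 (iv D3631) (iv F11155)
theorem F15407 : act 3 n4972 = n3623 := d19_1 D4972 (iv D3623) (iv F11157)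
theorem F15408 : act 6 n4972 = n3652 := d25_2 D3622 D4972 (iv D3652) (iv D2559) (iv F7842)
theorem F15409 : act 1 n4524 = n4972 := d8_3 F15407 (iv F11162) D4524
def n4973 : Q := act 1 n3624
theorem D4973 : act 1 n3624 = n4973 := rfl
theorem F15410 : act 2 n4973 = n4973 := d7_2 D3624 D4973 (iv D4973) (iv D3624) F7848
theorem F15411 : act 3 n4973 = n3628 := d8_2 (iv F11170) D4973 (iv D3628)
theorem F15412 : act 7 n4973 = n4724 := d12_2 (iv F11172) D4973 (iv D4724)
def n4974 : Q := act 4 n3624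
theorem D4974 : act 4 n3624 = n4974 := rfl
theorem F15413 : act 2 n4974 = n3625 := d14_1 D4974 (iv D3625) D3624
theorem F15414 : act 5 n4974 = n3660 := d22_2 (iv F11171) D4974 (iv D3660)
theorem F15415 : act 7 n4974 = n4725 := d24_2 (iv F11172) D4974 (iv D4725)
theorem F15416 : act 6 n4974 = n4742 := d30_6 (iv F3799) D1766 (iv F7938) (iv F11327) (iv F14594) (iv F15415) (iv D4742) (iv D3427) (iv D2387) (iv D1631) (iv D1109) F2455 (iv F2732) F2730 (iv F3778) (iv D1190) D1191 D1754 D2566 D3665 F11316 (iv D2647) (iv D1800) (iv D1214) F2653 D824 F2666 (iv F3737) F3738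
def n4975 : Q := act 6 n3624
theorem D4975 : act 6 n3624 = n4975 := rfl
theorem F15417 : act 2 n4975 = n3626 := d16_1 D4975 (iv D3626) D3624
theorem F15418 : act 3 n4975 = n3630 := d20_1 D4975 (iv D3630) (iv F11170)
theorem F15419 : act 4 n4975 = n4742 := d23_1 D4975 (iv F15416) (iv D4974)
theorem F15420 : act 5 n3890 = n4975 := d22_0 F15419 (iv D4742) (iv F12040)
theorem F15421 : act 7 n3889 = n4975 := d24_0 F15419 F14654 (iv F12037)
def n4976 : Q := act 0 n3628
theorem D4976 : act 0 n3628 = n4976 := rfl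
theorem F15422 : act 2 n4976 = n3632 := d1_2 (iv F11190) D4976 (iv D3632)
theorem F15423 : act 4 n4976 = n4971 := d3_2 F11198 D4976 F15404
theorem F15424 : act 6 n4976 = n4970 := d5_2 (iv F11195) D4976 F15400
theorem F15425 : act 7 n4976 = n3835 := d6_2 (iv F11191) D4976 (iv D3835)
def n4977 : Q := act 5 n3628
theorem D4977 : act 5 n3628 = n4977 := rfl
theorem F15426 : act 1 n4977 = n3668 := d10_1 D4977 (iv D3668) (iv D2567) (iv F7855) D3628
theorem F15427 : act 2 n4977 = n3633 := d15_1 D4977 (iv D3633) (iv F11190)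
theorem F15428 : act 7 n4977 = n3837 := d26_2 (iv F11191) D4977 (iv D3837)
def n4978 : Q := act 3 n3629
theorem D4978 : act 3 n3629 = n4978 := rfl
theorem F15429 : act 1 n4978 = n4975 := d8_1 D4978 F15418 F11196
theorem F15430 : act 2 n4978 = n4978 := d13_1 D4978 (iv D4978) F11192 F7858 (iv F11192)
theorem F15431 : act 5 n4978 = n3670 := d19_2 (iv F11193) D4978 (iv D3670)
theorem F15432 : act 6 n4978 = n4973 := d20_2 F11195 D4978 F15411
def n4979 : Q := act 5 n3630
theorem D4979 : act 5 n3630 = n4979 := rfl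
theorem F15433 : act 1 n4979 = n3891 := d10_1 D4979 F12042 F11324 (iv F11193) (iv F11196)
theorem F15434 : act 2 n4979 = n3631 := d15_1 D4979 (iv D3631) (iv F11197)
theorem F15435 : act 3 n4979 = n3890 := d19_1 D4979 F15420 F15418
theorem F15436 : act 4 n4979 = n4977 := d22_1 D4979 (iv D4977) (iv F11198)
theorem F15437 : act 6 n4979 = n3672 := d25_2 D3630 D4979 (iv D3672) (iv D2569) (iv F7855)
def n4980 : Q := act 5 n3632
theorem D4980 : act 5 n3632 = n4980 := rfl
theorem F15438 : act 0 n4980 = n3633 := d4_1 D4980 (iv D3633) D3632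
theorem F15439 : act 3 n4980 = n4980 := d19_1 D4980 (iv D4980) F11203
theorem F15440 : act 4 n4980 = n4972 := d22_1 D4980 (iv D4972) (iv F11204)
theorem F15441 : act 7 n4980 = n3844 := d26_2 (iv F11206) D4980 (iv D3844)
def n4981 : Q := act 5 n3635
theorem D4981 : act 5 n3635 = n4981 := rfl
theorem F15442 : act 1 n4981 = n4146 := d10_1 D4981 (iv D4146) F9074 (iv F8334) (iv F11215)
theorem F15443 : act 2 n4981 = n3636 := d15_1 D4981 (iv D3636) D3635
theorem F15444 : act 3 n4981 = n4065 := d19_1 D4981 (iv D4065) (iv F11216)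
theorem F15445 : act 4 n4981 = n4148 := d22_1 D4981 F12870 (iv F11217)
def n4982 : Q := act 7 n3635
theorem D4982 : act 7 n3635 = n4982 := rfl
theorem F15446 : act 1 n4982 = n3853 := d12_1 D4982 (iv D3853) (iv F11215)
theorem F15447 : act 2 n4982 = n3637 := d17_1 D4982 (iv D3637) D3635
theorem F15448 : act 4 n4982 = n4347 := d24_1 D4982 (iv D4347) (iv F11217)
def n4983 : Q := act 6 n3636
theorem D4983 : act 6 n3636 = n4983 := rfl
theorem F15449 : act 1 n4983 = n4446 := d11_1 D4983 (iv D4446) (iv F11219)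
theorem F15450 : act 3 n4983 = n3638 := d20_1 D4983 (iv D3638) (iv F11220)
theorem F15451 : act 4 n4983 = n4451 := d23_1 D4983 (iv D4451) (iv F11221)
theorem F15452 : act 5 n4983 = n3693 := d25_1 D4983 (iv D3693) (iv D2588) (iv F7880) D3636
def n4984 : Q := act 7 n3636
theorem D4984 : act 7 n3636 = n4984 := rfl
theorem F15453 : act 1 n4984 = n4447 := d12_1 D4984 (iv D4447) (iv F11219)
theorem F15454 : act 4 n4984 = n4452 := d24_1 D4984 (iv D4452) (iv F11221)
theorem F15455 : act 5 n4984 = n3637 := d26_1 D4984 (iv D3637) D3636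
def n4985 : Q := act 3 n3637
theorem D4985 : act 3 n3637 = n4985 := rfl
theorem F15456 : act 1 n4985 = n3642 := d8_1 D4985 (iv D3642) (iv F11222)
theorem F15457 : act 7 n4985 = n3640 := d21_2 D3637 D4985 (iv D3640) (iv D2553) D2551
def n4986 : Q := act 6 n3637
theorem D4986 : act 6 n3637 = n4986 := rfl
theorem F15458 : act 1 n4986 = n3643 := d11_1 D4986 (iv D3643) (iv F11222)
theorem F15459 : act 4 n4986 = n4585 := d23_1 D4986 (iv D4585) (iv F11223)
theorem F15460 : act 7 n4986 = n3696 := d27_2 D3637 D4986 (iv D3696) (iv D2589) (iv F7880)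
def n4987 : Q := act 6 n3640
theorem D4987 : act 6 n3640 = n4987 := rfl
theorem F15461 : act 1 n4987 = n3646 := d11_1 D4987 (iv D3646) (iv F11234)
theorem F15462 : act 3 n4987 = n3641 := d20_1 D4987 (iv D3641) D3640
theorem F15463 : act 5 n4987 = n4233 := d25_1 D4987 F13104 D4260 F13883 (iv F13882)
def n4988 : Q := act 2 n3642
theorem D4988 : act 2 n3642 = n4988 := rfl
theorem F15464 : act 0 n4988 = n3655 := d1_1 D4988 (iv D3655) (iv F11240)
theorem F15465 : act 3 n4988 = n3859 := d13_2 D3642 D4988 (iv D3859) (iv D2709) (iv F7888)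
theorem F15466 : act 5 n4988 = n4579 := d15_2 (iv F11241) D4988 (iv D4579)
theorem F15467 : act 7 n4988 = n3644 := d17_2 (iv F11242) D4988 (iv D3644)
def n4989 : Q := act 4 n3642
theorem D4989 : act 4 n3642 = n4989 := rfl
theorem F15468 : act 0 n4989 = n3656 := d3_1 D4989 (iv D3656) (iv F11240)
theorem F15469 : act 3 n4989 = n3812 := d18_1 D4989 F11780 (iv D3309) (iv F7889) D3642
theorem F15470 : act 5 n4989 = n4580 := d22_2 (iv F11241) D4989 (iv D4580)
theorem F15471 : act 7 n4989 = n3645 := d24_2 (iv F11242) D4989 (iv D3645)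
def n4990 : Q := act 6 n3642
theorem D4990 : act 6 n3642 = n4990 := rfl
theorem F15472 : act 0 n4990 = n3657 := d5_1 D4990 (iv D3657) (iv F11240)
theorem F15473 : act 3 n4990 = n3643 := d20_1 D4990 (iv D3643) D3642
def n4991 : Q := act 5 n3643
theorem D4991 : act 5 n3643 = n4991 := rfl
theorem F15474 : act 0 n4991 = n3658 := d4_1 D4991 (iv D3658) (iv F11243)
theorem F15475 : act 2 n4991 = n3862 := d15_1 D4991 (iv D3862) (iv F11244)
theorem F15476 : act 4 n4991 = n4587 := d22_1 D4991 (iv D4587) (iv F11245)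
theorem F15477 : act 6 n4991 = n4582 := d25_2 D3643 D4991 (iv D4582) (iv D3306) (iv F7890)
theorem F15478 : act 7 n4991 = n3706 := d26_2 (iv F11246) D4991 (iv D3706)
def n4992 : Q := act 1 n3644
theorem D4992 : act 1 n3644 = n4992 := rfl
theorem F15479 : act 3 n4992 = n3648 := d8_2 (iv F11248) D4992 (iv D3648)
def n4993 : Q := act 4 n3644
theorem D4993 : act 4 n3644 = n4993 := rfl
theorem F15480 : act 0 n4993 = n3660 := d3_1 D4993 (iv D3660) (iv F11247)
theorem F15481 : act 2 n4993 = n3645 := d14_1 D4993 (iv D3645) D3644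
def n4994 : Q := act 6 n3644
theorem D4994 : act 6 n3644 = n4994 := rfl
theorem F15482 : act 0 n4994 = n3661 := d5_1 D4994 (iv D3661) (iv F11247)
theorem F15483 : act 2 n4994 = n3646 := d16_1 D4994 (iv D3646) D3644
theorem F15484 : act 3 n4994 = n3650 := d20_1 D4994 (iv D3650) (iv F11248)
def n4995 : Q := act 6 n3645
theorem D4995 : act 6 n3645 = n4995 := rfl
theorem F15485 : act 0 n4995 = n3662 := d5_1 D4995 (iv D3662) (iv F11249)
theorem F15486 : act 3 n4995 = n4995 := d20_1 D4995 (iv D4995) F11250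
theorem F15487 : act 4 n4995 = n3646 := d23_1 D4995 (iv D3646) D3645
theorem F15488 : act 5 n4995 = n4760 := d25_1 D4995 (iv D4760) D4759 (iv F14702) (iv F13864)
def n4996 : Q := act 5 n3646
theorem D4996 : act 5 n3646 = n4996 := rfl
theorem F15489 : act 0 n4996 = n3663 := d4_1 D4996 (iv D3663) (iv F11251)
theorem F15490 : act 1 n4996 = n4125 := d10_1 D4996 F12790 (iv F13103) (iv F15463) F15461
theorem F15491 : act 3 n4996 = n3647 := d19_1 D4996 (iv D3647) (iv F11252)
theorem F15492 : act 4 n4996 = n4760 := d22_1 D4996 (iv F15488) F15487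
theorem F15493 : act 6 n4996 = n3896 := d25_2 D3646 D4996 F15396 (iv D4968) F11141
theorem F15494 : act 7 n3678 = n4996 := d27_0 F15493 (iv D3896) (iv D2735) (iv F7935) D3678
def n4997 : Q := act 7 n3646
theorem D4997 : act 7 n3646 = n4997 := rfl
theorem F15495 : act 0 n4997 = n3664 := d6_1 D4997 (iv D3664) (iv F11251)
theorem F15496 : act 3 n4997 = n3712 := d21_1 D4997 (iv D3712) F8005 (iv F7895) (iv F11252)
theorem F15497 : act 5 n4997 = n3678 := d26_1 D4997 F15494 (iv D4996)
def n4998 : Q := act 0 n3648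
theorem D4998 : act 0 n3648 = n4998 := rfl
theorem F15498 : act 1 n4998 = n3666 := d0_2 D3648 D4998 (iv D3666) (iv D2567) (iv F7896)
theorem F15499 : act 2 n4998 = n4086 := d1_2 (iv F11259) D4998 (iv D4086)
theorem F15500 : act 7 n4998 = n3867 := d6_2 (iv F11260) D4998 (iv D3867)
def n4999 : Q := act 4 n3648
theorem D4999 : act 4 n3648 = n4999 := rfl
theorem F15501 : act 1 n4999 = n3649 := d9_1 D4999 (iv D3649) D3648
theorem F15502 : act 2 n4999 = n4087 := d14_1 D4999 (iv D4087) (iv F11259)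
theorem F15503 : act 7 n4999 = n3868 := d24_2 (iv F11260) D4999 (iv D3868)
def n5000 : Q := act 5 n3648
theorem D5000 : act 5 n3648 = n5000 := rfl
theorem F15504 : act 2 n5000 = n4088 := d15_1 D5000 (iv D4088) (iv F11259)
theorem F15505 : act 7 n5000 = n3869 := d26_2 (iv F11260) D5000 (iv D3869)
def n5001 : Q := act 6 n3648
theorem D5001 : act 6 n3648 = n5001 := rfl
theorem F15506 : act 1 n5001 = n3650 := d11_1 D5001 (iv D3650) D3648
theorem F15507 : act 2 n5001 = n4089 := d16_1 D5001 (iv D4089) (iv F11259)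
def n5002 : Q := act 3 n3649
theorem D5002 : act 3 n3649 = n5002 := rfl
theorem F15508 : act 0 n5002 = n3670 := d2_1 D5002 (iv D3670) (iv F11261)
theorem F15509 : act 2 n5002 = n5002 := d13_1 D5002 (iv D5002) F11262 F7900 (iv F11262)
def n5003 : Q := act 6 n3649
theorem D5003 : act 6 n3649 = n5003 := rfl
theorem F15510 : act 0 n5003 = n3671 := d5_1 D5003 (iv D3671) (iv F11261)
theorem F15511 : act 2 n5003 = n3651 := d16_1 D5003 (iv D3651) (iv F11262)
theorem F15512 : act 4 n5003 = n3650 := d23_1 D5003 (iv D3650) D3649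
theorem F15513 : act 7 n5003 = n4595 := d27_2 (iv F11263) D5003 (iv D4595) F10229 F8372
def n5004 : Q := act 5 n3650
theorem D5004 : act 5 n3650 = n5004 := rfl
theorem F15514 : act 0 n5004 = n3672 := d4_1 D5004 (iv D3672) (iv F11264)
theorem F15515 : act 2 n5004 = n3652 := d15_1 D5004 (iv D3652) (iv F11265)
def n5005 : Q := act 7 n3650
theorem D5005 : act 7 n3650 = n5005 := rfl
theorem F15516 : act 0 n5005 = n3673 := d6_1 D5005 (iv D3673) (iv F11264)
theorem F15517 : act 2 n5005 = n3653 := d17_1 D5005 (iv D3653) (iv F11265)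
theorem F15518 : act 4 n5005 = n4595 := d24_1 D5005 (iv F15513) F15512
theorem F15519 : act 6 n5005 = n3871 := d27_1 D5005 (iv D3871) (iv D2717) (iv F7897) D3650
def n5006 : Q := act 5 n3651
theorem D5006 : act 5 n3651 = n5006 := rfl
theorem F15520 : act 0 n5006 = n3674 := d4_1 D5006 (iv D3674) (iv F11266)
theorem F15521 : act 3 n5006 = n5006 := d19_1 D5006 (iv D5006) F11268
theorem F15522 : act 4 n5006 = n3652 := d22_1 D5006 (iv D3652) (iv F11269)
theorem F15523 : act 6 n5006 = n4980 := d25_2 D3651 D5006 (iv D4980) F11205 F11153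
theorem F15524 : act 7 n5006 = n4596 := d26_2 (iv F11270) D5006 (iv D4596)
def n5007 : Q := act 1 n3652
theorem D5007 : act 1 n3652 = n5007 := rfl
theorem F15525 : act 0 n5007 = n4205 := d0_1 D5007 F13005 F11030 (iv F7928) (iv F11271)
theorem F15526 : act 3 n5007 = n3654 := d8_2 (iv F11272) D5007 (iv D3654)
theorem F15527 : act 5 n5007 = n4095 := d10_2 D3652 D5007 (iv D4095) (iv D2898) (iv F7903)
theorem F15528 : act 6 n5007 = n4524 := d11_2 F15408 D5007 F15409
def n5008 : Q := act 7 n3652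
theorem D5008 : act 7 n3652 = n5008 := rfl
theorem F15529 : act 0 n5008 = n3675 := d6_1 D5008 (iv D3675) (iv F11271)
theorem F15530 : act 3 n5008 = n3723 := d21_1 D5008 (iv D3723) F8024 (iv F7907) (iv F11272)
theorem F15531 : act 4 n5008 = n4596 := d24_1 D5008 (iv F15524) F15522
theorem F15532 : act 5 n5008 = n3653 := d26_1 D5008 (iv D3653) D3652
def n5009 : Q := act 6 n3655
theorem D5009 : act 6 n3655 = n5009 := rfl
theorem F15533 : act 2 n5009 = n3657 := d16_1 D5009 (iv D3657) D3655
theorem F15534 : act 3 n5009 = n3874 := d20_1 D5009 (iv D3874) (iv F11284)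
def n5010 : Q := act 6 n3656
theorem D5010 : act 6 n3656 = n5010 := rfl
theorem F15535 : act 1 n5010 = n3785 := d11_1 D5010 F11672 (iv F11287)
theorem F15536 : act 3 n5010 = n3781 := d20_1 D5010 F11657 (iv F11288)
theorem F15537 : act 4 n5010 = n3657 := d23_1 D5010 (iv D3657) D3656
def n5011 : Q := act 5 n3657
theorem D5011 : act 5 n3657 = n5011 := rfl
theorem F15538 : act 1 n5011 = n3686 := d10_1 D5011 F11375 (iv F15365) F15369 F11805
theorem F15539 : act 3 n5011 = n3658 := d19_1 D5011 (iv D3658) (iv F11291)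
theorem F15540 : act 6 n5011 = n3899 := d25_2 D3657 D5011 F12070 (iv D3416) (iv F7908)
theorem F15541 : act 7 n5011 = n3680 := d30_11 D3657 D5011 F15538 F14663 F14658 F10538 (iv F12008) F12007 (iv D3878) (iv F11292) (iv F15539) (iv D3680) (iv D2575) (iv D1759) (iv D1194) (iv D810) (iv D550) F1107 (iv D189) F361 (iv F618) F619 D339 (iv F1436) (iv F1824) (iv F2619) (iv F3782) D1753 (iv F7909)
def n5012 : Q := act 7 n3657
theorem D5012 : act 7 n3657 = n5012 := rfl
theorem F15542 : act 1 n5012 = n4961 := d12_1 D5012 F15364 F11805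
theorem F15543 : act 3 n5012 = n3733 := d21_1 D5012 (iv D3733) F8044 (iv F7912) (iv F11291)
theorem F15544 : act 5 n5012 = n3680 := d26_1 D5012 (iv F15541) (iv D5011)
theorem F15545 : act 6 n5012 = n3664 := d27_1 D5012 (iv D3664) (iv D2565) (iv F7909) D3657
def n5013 : Q := act 1 n3658
theorem D5013 : act 1 n3658 = n5013 := rfl
theorem F15546 : act 3 n5013 = n3686 := d8_2 F15539 D5013 (iv F15538)
theorem F15547 : act 4 n5013 = n4732 := d9_2 (iv F11293) D5013 (iv D4732)
theorem F15548 : act 5 n5013 = n4966 := d10_2 D3658 D5013 F15384 (iv D3825) F8262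
theorem F15549 : act 6 n5013 = n3910 := d11_2 (iv F11294) D5013 F12101
theorem F15550 : act 7 n5013 = n3734 := d12_2 (iv F11295) D5013 (iv D3734)
def n5014 : Q := act 0 n3659
theorem D5014 : act 0 n3659 = n5014 := rfl
theorem F15551 : act 2 n5014 = n4989 := d1_2 (iv F11296) D5014 F15468
theorem F15552 : act 3 n5014 = n3666 := d2_2 (iv F11297) D5014 (iv D3666)
theorem F15553 : act 4 n5014 = n4988 := d3_2 F11298 D5014 F15464
theorem F15554 : act 7 n5014 = n4993 := d6_2 F11301 D5014 F15480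
def n5015 : Q := act 6 n3659
theorem D5015 : act 6 n3659 = n5015 := rfl
theorem F15555 : act 1 n5015 = n3661 := d11_1 D5015 (iv D3661) D3659
theorem F15556 : act 2 n5015 = n5010 := d16_1 D5015 (iv D5010) (iv F11296)
theorem F15557 : act 3 n5015 = n3669 := d20_1 D5015 (iv D3669) (iv F11297)
theorem F15558 : act 4 n5015 = n5009 := d23_1 D5015 (iv D5009) F11298
def n5016 : Q := act 6 n3660
theorem D5016 : act 6 n3660 = n5016 := rfl
theorem F15559 : act 1 n5016 = n5009 := d11_1 D5016 (iv D5009) (iv F11299)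
theorem F15560 : act 2 n5016 = n3662 := d16_1 D5016 (iv D3662) (iv F11300)
theorem F15561 : act 4 n5016 = n3661 := d23_1 D5016 (iv D3661) D3660
theorem F15562 : act 5 n5016 = n4743 := d25_1 D5016 (iv D4743) D4742 (iv F15416) F15414
def n5017 : Q := act 5 n3661
theorem D5017 : act 5 n3661 = n5017 := rfl
theorem F15563 : act 2 n5017 = n3663 := d15_1 D5017 (iv D3663) (iv F11302)
theorem F15564 : act 3 n5017 = n3672 := d19_1 D5017 (iv D3672) (iv F11303)
theorem F15565 : act 4 n5017 = n4743 := d22_1 D5017 (iv F15562) F15561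
theorem F15566 : act 6 n5017 = n3890 := d25_2 D3661 D5017 F15420 (iv D4975) F11171
theorem F15567 : act 1 n5017 = n3673 := d29_6 (iv F15411) F15410 (iv D4973) F11171 D3661 D5017 F11336 F7931 (iv D1791) F3837 (iv F3828) (iv F5365) D2520 (iv F8674) F8673 F7714 F7715 (iv F7720) (iv F7722) F5728 F5727 F3992 (iv F3977) F3979 F3652 D1692 (iv F7603) (iv F8292) (iv F11191)
theorem F15568 : act 7 n3669 = n5017 := d30_17 (iv F15566) (iv D5017) (iv F15555) F15556 F15536 F11658 F11523 (iv D3741) (iv F11513) (iv F15310) F15311 D4950 F15319 F15318 (iv F15535) (iv F15556) F15557 F15566 F15420 (iv F15429) F15430 (iv D4978) F11194 D3840 F11884 (iv F12019) F12020 F12021 D3890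
def n5018 : Q := act 7 n3661
theorem D5018 : act 7 n3661 = n5018 := rfl
theorem F15569 : act 2 n5018 = n3664 := d17_1 D5018 (iv D3664) (iv F11302)
theorem F15570 : act 5 n5018 = n3669 := d26_1 D5018 F15568 (iv D5017)
def n5019 : Q := act 7 n3662
theorem D5019 : act 7 n3662 = n5019 := rfl
theorem F15571 : act 1 n5019 = n4960 := d12_1 D5019 F15359 F11686
theorem F15572 : act 4 n5019 = n3664 := d24_1 D5019 (iv D3664) (iv F11305)
theorem F15573 : act 5 n5019 = n3679 := d26_1 D5019 F11357 (iv F11306)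
def n5020 : Q := act 4 n3666
theorem D5020 : act 4 n3666 = n5020 := rfl
theorem F15574 : act 0 n5020 = n3667 := d3_1 D5020 (iv D3667) D3666
theorem F15575 : act 2 n5020 = n3676 := d14_1 D5020 (iv D3676) (iv F11322)
theorem F15576 : act 7 n5020 = n3884 := d24_2 (iv F11323) D5020 (iv D3884)
def n5021 : Q := act 5 n3666
theorem D5021 : act 5 n3666 = n5021 := rfl
theorem F15577 : act 0 n5021 = n3668 := d4_1 D5021 (iv D3668) D3666
theorem F15578 : act 2 n5021 = n3677 := d15_1 D5021 (iv D3677) (iv F11322)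
theorem F15579 : act 7 n5021 = n3885 := d26_2 (iv F11323) D5021 (iv D3885)
def n5022 : Q := act 6 n3666
theorem D5022 : act 6 n3666 = n5022 := rfl
theorem F15580 : act 0 n5022 = n3669 := d5_1 D5022 (iv D3669) D3666
theorem F15581 : act 2 n5022 = n3678 := d16_1 D5022 (iv D3678) (iv F11322)
def n5023 : Q := act 6 n3667
theorem D5023 : act 6 n3667 = n5023 := rfl
theorem F15582 : act 1 n5023 = n3671 := d11_1 D5023 (iv D3671) (iv F11324)
theorem F15583 : act 2 n5023 = n3679 := d16_1 D5023 (iv D3679) (iv F11325)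
theorem F15584 : act 4 n5023 = n3669 := d23_1 D5023 (iv D3669) D3667
theorem F15585 : act 7 n5023 = n4743 := d27_2 (iv F11326) D5023 (iv D4743) F10533 F8408
def n5024 : Q := act 6 n3668
theorem D5024 : act 6 n3668 = n5024 := rfl
theorem F15586 : act 2 n5024 = n3680 := d16_1 D5024 (iv D3680) (iv F11327)
def n5025 : Q := act 6 n3670
theorem D5025 : act 6 n3670 = n5025 := rfl
theorem F15587 : act 2 n5025 = n5025 := d16_1 D5025 (iv D5025) F11331
theorem F15588 : act 3 n5025 = n3671 := d20_1 D5025 (iv D3671) D3670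
def n5026 : Q := act 5 n3671
theorem D5026 : act 5 n3671 = n5026 := rfl
theorem F15589 : act 2 n5026 = n3674 := d15_1 D5026 (iv D3674) (iv F11332)
theorem F15590 : act 4 n5026 = n3672 := d22_1 D5026 (iv D3672) (iv F11333)
theorem F15591 : act 6 n5026 = n4977 := d25_2 D3671 D5026 (iv D4977) F11195 F11193
theorem F15592 : act 7 n5026 = n4744 := d26_2 (iv F11334) D5026 (iv D4744)
theorem F15593 : act 1 n5024 = n5026 := d11_3 F15591 F15426 D5024
def n5027 : Q := act 1 n3672
theorem D5027 : act 1 n3672 = n5027 := rfl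
theorem F15594 : act 2 n5027 = n3757 := d7_2 (iv F11335) D5027 F11564 F11056 (iv F7928)
theorem F15595 : act 3 n5027 = n3673 := d8_2 F15564 D5027 (iv F15567)
theorem F15596 : act 4 n5027 = n5024 := d9_2 F15590 D5027 F15593
theorem F15597 : act 6 n5027 = n3891 := d11_2 F15437 D5027 (iv F15433)
def n5028 : Q := act 7 n3672
theorem D5028 : act 7 n3672 = n5028 := rfl
theorem F15598 : act 2 n5028 = n3675 := d17_1 D5028 (iv D3675) (iv F11335)
theorem F15599 : act 4 n5028 = n4744 := d24_1 D5028 (iv F15592) F15590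
theorem F15600 : act 5 n5028 = n3673 := d26_1 D5028 (iv D3673) D3672
def n5029 : Q := act 6 n3675
theorem D5029 : act 6 n3675 = n5029 := rfl
theorem F15601 : act 1 n5029 = n4953 := d11_1 D5029 (iv D4953) (iv F11344)
theorem F15602 : act 3 n5029 = n3762 := d20_1 D5029 (iv D3762) (iv F11345)
theorem F15603 : act 4 n5029 = n3876 := d23_1 D5029 F11998 (iv F11346)
theorem F15604 : act 5 n5029 = n3875 := d25_1 D5029 (iv D3875) F8389 (iv F7933) (iv F11347)
def n5030 : Q := act 6 n3676
theorem D5030 : act 6 n3676 = n5030 := rfl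
theorem F15605 : act 0 n5030 = n3679 := d5_1 D5030 (iv D3679) (iv F11348)
theorem F15606 : act 1 n5030 = n4121 := d11_1 D5030 (iv D4121) (iv F11349)
theorem F15607 : act 4 n5030 = n3678 := d23_1 D5030 (iv D3678) D3676
theorem F15608 : act 7 n5030 = n4760 := d27_2 (iv F11350) D5030 (iv D4760) F10568 F8418
def n5031 : Q := act 1 n3677
theorem D5031 : act 1 n3677 = n5031 := rfl
theorem F15609 : act 0 n5031 = n3684 := d0_1 D5031 (iv D3684) F7959 (iv F7938) (iv F11351)
theorem F15610 : act 5 n5031 = n4122 := d10_2 D3677 D5031 (iv D4122) (iv D2921) (iv F7934)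
theorem F15611 : act 7 n5031 = n3893 := d12_2 (iv F11352) D5031 (iv D3893)
def n5032 : Q := act 6 n3677
theorem D5032 : act 6 n3677 = n5032 := rfl
theorem F15612 : act 0 n5032 = n3680 := d5_1 D5032 (iv D3680) (iv F11351)
def n5033 : Q := act 1 n3683
theorem D5033 : act 1 n3683 = n5033 := rfl
theorem F15613 : act 4 n5033 = n3684 := d9_2 (iv F11369) D5033 (iv D3684)
theorem F15614 : act 5 n5033 = n4135 := d10_2 D3683 D5033 (iv D4135) (iv D2932) (iv F7956)
theorem F15615 : act 7 n5033 = n3902 := d12_2 (iv F11370) D5033 (iv D3902)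
def n5034 : Q := act 2 n3684
theorem D5034 : act 2 n3684 = n5034 := rfl
theorem F15616 : act 5 n5034 = n4137 := d15_2 (iv F11371) D5034 (iv D4137)
theorem F15617 : act 7 n5034 = n3904 := d17_2 (iv F11372) D5034 (iv D3904)
def n5035 : Q := act 6 n3684
theorem D5035 : act 6 n3684 = n5035 := rfl
theorem F15618 : act 1 n5035 = n3685 := d11_1 D5035 (iv D3685) D3684
def n5036 : Q := act 7 n3685
theorem D5036 : act 7 n3685 = n5036 := rfl
theorem F15619 : act 0 n5036 = n3686 := d6_1 D5036 (iv D3686) (iv F11373)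
theorem F15620 : act 5 n5036 = n4964 := d26_1 D5036 (iv D4964) (iv F11374)
theorem F15621 : act 6 n5036 = n3906 := d27_1 D5036 (iv D3906) (iv D2744) (iv F7960) D3685
def n5037 : Q := act 3 n3688
theorem D5037 : act 3 n3688 = n5037 := rfl
theorem F15622 : act 1 n5037 = n3911 := d8_1 D5037 (iv D3911) (iv F11382)
theorem F15623 : act 2 n5037 = n5037 := d13_1 D5037 (iv D5037) F11383 F7973 (iv F11383)
theorem F15624 : act 4 n5037 = n4145 := d18_2 D3688 D5037 (iv D4145) (iv D2940) (iv F7971)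
theorem F15625 : act 6 n5037 = n3914 := d20_2 (iv F11384) D5037 F12119
def n5038 : Q := act 5 n3688
theorem D5038 : act 5 n3688 = n5038 := rfl
theorem F15626 : act 2 n5038 = n3691 := d15_1 D5038 (iv D3691) (iv F11383)
theorem F15627 : act 4 n5038 = n3689 := d22_1 D5038 (iv D3689) D3688
def n5039 : Q := act 7 n3688
theorem D5039 : act 7 n3688 = n5039 := rfl
theorem F15628 : act 1 n5039 = n3913 := d12_1 D5039 (iv D3913) (iv F11382)
theorem F15629 : act 2 n5039 = n3692 := d17_1 D5039 (iv D3692) (iv F11383)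
theorem F15630 : act 4 n5039 = n3690 := d24_1 D5039 (iv D3690) D3688
def n5040 : Q := act 1 n3689
theorem D5040 : act 1 n3689 = n5040 := rfl
theorem F15631 : act 2 n5040 = n5040 := d7_2 (iv F11385) D5040 (iv D5040) F11385 F7975
theorem F15632 : act 3 n5040 = n4148 := d8_2 (iv F11386) D5040 (iv D4148)
theorem F15633 : act 5 n5040 = n3914 := d10_2 D3689 D5040 (iv D3914) (iv D2751) (iv F7970)
def n5041 : Q := act 6 n3689
theorem D5041 : act 6 n3689 = n5041 := rfl
theorem F15634 : act 2 n5041 = n3693 := d16_1 D5041 (iv D3693) (iv F11385)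
theorem F15635 : act 3 n5041 = n4149 := d20_1 D5041 (iv D4149) (iv F11386)
def n5042 : Q := act 7 n3689
theorem D5042 : act 7 n3689 = n5042 := rfl
theorem F15636 : act 2 n5042 = n3694 := d17_1 D5042 (iv D3694) (iv F11385)
theorem F15637 : act 5 n5042 = n3690 := d26_1 D5042 (iv D3690) D3689
def n5043 : Q := act 3 n3690
theorem D5043 : act 3 n3690 = n5043 := rfl
theorem F15638 : act 1 n5043 = n3916 := d8_1 D5043 (iv D3916) (iv F11387)
theorem F15639 : act 7 n5043 = n4151 := d21_2 D3690 D5043 (iv D4151) (iv D2942) (iv F7971)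
def n5044 : Q := act 6 n3690
theorem D5044 : act 6 n3690 = n5044 := rfl
theorem F15640 : act 1 n5044 = n3917 := d11_1 D5044 (iv D3917) (iv F11387)
theorem F15641 : act 2 n5044 = n3696 := d16_1 D5044 (iv D3696) (iv F11388)
def n5045 : Q := act 6 n3691
theorem D5045 : act 6 n3691 = n5045 := rfl
theorem F15642 : act 1 n5045 = n5045 := d11_1 D5045 (iv D5045) F11389
theorem F15643 : act 3 n5045 = n5045 := d20_1 D5045 (iv D5045) F11390
theorem F15644 : act 4 n5045 = n3693 := d23_1 D5045 (iv D3693) (iv F11391)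
theorem F15645 : act 5 n5045 = n4451 := d25_1 D5045 (iv D4451) F9858 (iv F7974) D3691
def n5046 : Q := act 7 n3691
theorem D5046 : act 7 n3691 = n5046 := rfl
theorem F15646 : act 1 n5046 = n5046 := d12_1 D5046 (iv D5046) F11389
theorem F15647 : act 4 n5046 = n3694 := d24_1 D5046 (iv D3694) (iv F11391)
theorem F15648 : act 5 n5046 = n3692 := d26_1 D5046 (iv D3692) D3691
def n5047 : Q := act 3 n3692
theorem D5047 : act 3 n3692 = n5047 := rfl
theorem F15649 : act 1 n5047 = n3701 := d8_1 D5047 (iv D3701) (iv F11392)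
theorem F15650 : act 7 n5047 = n5047 := d21_2 D3692 D5047 (iv D5047) (iv D3692) F7973
def n5048 : Q := act 6 n3692
theorem D5048 : act 6 n3692 = n5048 := rfl
theorem F15651 : act 1 n5048 = n3702 := d11_1 D5048 (iv D3702) (iv F11392)
theorem F15652 : act 4 n5048 = n3696 := d23_1 D5048 (iv D3696) (iv F11393)
theorem F15653 : act 7 n5048 = n4585 := d27_2 D3692 D5048 (iv D4585) (iv D3308) (iv F7974)
def n5049 : Q := act 7 n3693
theorem D5049 : act 7 n3693 = n5049 := rfl
theorem F15654 : act 1 n5049 = n5049 := d12_1 D5049 (iv D5049) F11394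
def n5050 : Q := act 3 n3694
theorem D5050 : act 3 n3694 = n5050 := rfl
theorem F15655 : act 1 n5050 = n5050 := d8_1 D5050 (iv D5050) F11396
theorem F15656 : act 5 n5050 = n3695 := d19_2 (iv F11397) D5050 (iv D3695)
theorem F15657 : act 7 n5050 = n3697 := d21_2 D3694 D5050 (iv D3697) (iv D2591) (iv F7976)
def n5051 : Q := act 6 n3694
theorem D5051 : act 6 n3694 = n5051 := rfl
theorem F15658 : act 1 n5051 = n5051 := d11_1 D5051 (iv D5051) F11396
def n5052 : Q := act 2 n3695
theorem D5052 : act 2 n3695 = n5052 := rfl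
theorem F15659 : act 7 n5052 = n3698 := d17_2 (iv F11399) D5052 (iv D3698)
def n5053 : Q := act 4 n3695
theorem D5053 : act 4 n3695 = n5053 := rfl
theorem F15660 : act 1 n5053 = n3704 := d9_1 D5053 (iv D3704) (iv F11398)
theorem F15661 : act 7 n5053 = n3699 := d24_2 (iv F11399) D5053 (iv D3699)
def n5054 : Q := act 6 n3695
theorem D5054 : act 6 n3695 = n5054 := rfl
theorem F15662 : act 1 n5054 = n3705 := d11_1 D5054 (iv D3705) (iv F11398)
theorem F15663 : act 3 n5054 = n3696 := d20_1 D5054 (iv D3696) D3695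
def n5055 : Q := act 5 n3696
theorem D5055 : act 5 n3696 = n5055 := rfl
def n5056 : Q := act 2 n3697
theorem D5056 : act 2 n3697 = n5056 := rfl
theorem F15664 : act 3 n5056 = n4165 := d13_2 D3697 D5056 (iv D4165) (iv D2950) (iv F7982)
theorem F15665 : act 5 n5056 = n3698 := d15_2 (iv F11402) D5056 (iv D3698)
def n5057 : Q := act 4 n3697
theorem D5057 : act 4 n3697 = n5057 := rfl
theorem F15666 : act 1 n5057 = n5057 := d9_1 D5057 (iv D5057) F11401
theorem F15667 : act 3 n5057 = n5057 := d18_1 D5057 (iv D5057) (iv D3697) F7983 D3697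
theorem F15668 : act 5 n5057 = n3699 := d22_2 (iv F11402) D5057 (iv D3699)
def n5058 : Q := act 1 n3698
theorem D5058 : act 1 n3698 = n5058 := rfl
theorem F15669 : act 2 n5058 = n3707 := d7_2 D3698 D5058 (iv D3707) (iv D2597) (iv F7985)
theorem F15670 : act 3 n5058 = n4168 := d8_2 (iv F11403) D5058 (iv D4168)
def n5059 : Q := act 4 n3698
theorem D5059 : act 4 n3698 = n5059 := rfl
theorem F15671 : act 2 n5059 = n3699 := d14_1 D5059 (iv D3699) D3698
def n5060 : Q := act 6 n3698
theorem D5060 : act 6 n3698 = n5060 := rfl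
theorem F15672 : act 2 n5060 = n3700 := d16_1 D5060 (iv D3700) D3698
theorem F15673 : act 3 n5060 = n4170 := d20_1 D5060 (iv D4170) (iv F11403)
def n5061 : Q := act 6 n3699
theorem D5061 : act 6 n3699 = n5061 := rfl
theorem F15674 : act 1 n5061 = n3710 := d11_1 D5061 (iv D3710) (iv F11404)
theorem F15675 : act 3 n5061 = n5061 := d20_1 D5061 (iv D5061) F11405
theorem F15676 : act 4 n5061 = n3700 := d23_1 D5061 (iv D3700) D3699
def n5062 : Q := act 7 n3700
theorem D5062 : act 7 n3700 = n5062 := rfl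
theorem F15677 : act 1 n5062 = n3712 := d12_1 D5062 (iv D3712) (iv F11406)
def n5063 : Q := act 4 n3701
theorem D5063 : act 4 n3701 = n5063 := rfl
theorem F15678 : act 0 n5063 = n3725 := d3_1 D5063 (iv D3725) (iv F11408)
theorem F15679 : act 2 n5063 = n5063 := d14_1 D5063 (iv D5063) F11409
theorem F15680 : act 3 n5063 = n3704 := d18_1 D5063 (iv D3704) (iv D2595) (iv F7991) D3701
theorem F15681 : act 5 n5063 = n5063 := d22_2 F11410 D5063 (iv D5063)
theorem F15682 : act 7 n5063 = n5063 := d24_2 F11411 D5063 (iv D5063)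
def n5064 : Q := act 6 n3701
theorem D5064 : act 6 n3701 = n5064 := rfl
theorem F15683 : act 0 n5064 = n3726 := d5_1 D5064 (iv D3726) (iv F11408)
theorem F15684 : act 2 n5064 = n5064 := d16_1 D5064 (iv D5064) F11409
theorem F15685 : act 3 n5064 = n3702 := d20_1 D5064 (iv D3702) D3701
def n5065 : Q := act 5 n3702
theorem D5065 : act 5 n3702 = n5065 := rfl
theorem F15686 : act 0 n5065 = n3727 := d4_1 D5065 (iv D3727) (iv F11412)
theorem F15687 : act 2 n5065 = n3930 := d15_1 D5065 (iv D3930) (iv F11413)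
theorem F15688 : act 4 n5065 = n3706 := d22_1 D5065 (iv D3706) (iv F11414)
theorem F15689 : act 6 n5065 = n5065 := d25_2 D3702 D5065 (iv D5065) (iv D3702) F7992
theorem F15690 : act 7 n5065 = n4587 := d26_2 (iv F11415) D5065 (iv D4587)
def n5066 : Q := act 1 n3703
theorem D5066 : act 1 n3703 = n5066 := rfl
theorem F15691 : act 3 n5066 = n3931 := d8_2 (iv F11417) D5066 (iv D3931)
theorem F15692 : act 7 n5066 = n3707 := d12_2 (iv F11419) D5066 (iv D3707)
def n5067 : Q := act 4 n3703
theorem D5067 : act 4 n3703 = n5067 := rfl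
theorem F15693 : act 0 n5067 = n3729 := d3_1 D5067 (iv D3729) (iv F11416)
theorem F15694 : act 2 n5067 = n3704 := d14_1 D5067 (iv D3704) D3703
theorem F15695 : act 3 n5067 = n5067 := d18_1 D5067 (iv D5067) F11417 F8516 (iv F11417)
theorem F15696 : act 5 n5067 = n5067 := d22_2 F11418 D5067 (iv D5067)
theorem F15697 : act 7 n5067 = n3708 := d24_2 (iv F11419) D5067 (iv D3708)
def n5068 : Q := act 6 n3703
theorem D5068 : act 6 n3703 = n5068 := rfl
theorem F15698 : act 0 n5068 = n3730 := d5_1 D5068 (iv D3730) (iv F11416)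
theorem F15699 : act 2 n5068 = n3705 := d16_1 D5068 (iv D3705) D3703
theorem F15700 : act 3 n5068 = n3932 := d20_1 D5068 (iv D3932) (iv F11417)
def n5069 : Q := act 6 n3704
theorem D5069 : act 6 n3704 = n5069 := rfl
theorem F15701 : act 0 n5069 = n3731 := d5_1 D5069 (iv D3731) (iv F11420)
theorem F15702 : act 4 n5069 = n3705 := d23_1 D5069 (iv D3705) D3704
def n5070 : Q := act 5 n3705
theorem D5070 : act 5 n3705 = n5070 := rfl
theorem F15703 : act 0 n5070 = n3732 := d4_1 D5070 (iv D3732) (iv F11423)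
theorem F15704 : act 3 n5070 = n3706 := d19_1 D5070 (iv D3706) (iv F11424)
theorem F15705 : act 6 n5070 = n5070 := d25_2 D3705 D5070 (iv D5070) (iv D3705) F7994
def n5071 : Q := act 7 n3705
theorem D5071 : act 7 n3705 = n5071 := rfl
theorem F15706 : act 0 n5071 = n3733 := d6_1 D5071 (iv D3733) (iv F11423)
theorem F15707 : act 6 n5071 = n3712 := d27_1 D5071 (iv D3712) (iv D2599) (iv F7995) D3705
def n5072 : Q := act 1 n3706
theorem D5072 : act 1 n3706 = n5072 := rfl
theorem F15708 : act 6 n5072 = n5072 := d11_2 F11427 D5072 (iv D5072)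
def n5073 : Q := act 0 n3707
theorem D5073 : act 0 n3707 = n5073 := rfl
theorem F15709 : act 1 n5073 = n3735 := d0_2 D3707 D5073 (iv D3735) (iv D2614) (iv F7998)
theorem F15710 : act 3 n5073 = n3713 := d2_2 (iv F11428) D5073 (iv D3713)
def n5074 : Q := act 4 n3707
theorem D5074 : act 4 n3707 = n5074 := rfl
theorem F15711 : act 1 n5074 = n3708 := d9_1 D5074 (iv D3708) D3707
def n5075 : Q := act 5 n3707
theorem D5075 : act 5 n3707 = n5075 := rfl
theorem F15712 : act 1 n5075 = n5075 := d10_1 D5075 (iv D5075) (iv D3707) F8000 D3707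
theorem F15713 : act 3 n5075 = n3715 := d19_1 D5075 (iv D3715) (iv F11428)
def n5076 : Q := act 6 n3707
theorem D5076 : act 6 n3707 = n5076 := rfl
theorem F15714 : act 1 n5076 = n3709 := d11_1 D5076 (iv D3709) D3707
theorem F15715 : act 3 n5076 = n3716 := d20_1 D5076 (iv D3716) (iv F11428)
def n5077 : Q := act 3 n3708
theorem D5077 : act 3 n3708 = n5077 := rfl
theorem F15716 : act 0 n5077 = n3739 := d2_1 D5077 (iv D3739) (iv F11429)
theorem F15717 : act 2 n5077 = n5077 := d13_1 D5077 (iv D5077) F11430 F8002 (iv F11430)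
theorem F15718 : act 4 n5077 = n3717 := d18_2 D3708 D5077 (iv D3717) (iv D2602) (iv F7999)
theorem F15719 : act 5 n5077 = n5077 := d19_2 F11431 D5077 (iv D5077)
theorem F15720 : act 7 n5077 = n5077 := d21_2 F15697 D5077 (iv D5077) (iv F15697) F15695
def n5078 : Q := act 6 n3708
theorem D5078 : act 6 n3708 = n5078 := rfl
theorem F15721 : act 0 n5078 = n3740 := d5_1 D5078 (iv D3740) (iv F11429)
theorem F15722 : act 2 n5078 = n3710 := d16_1 D5078 (iv D3710) (iv F11430)
theorem F15723 : act 4 n5078 = n3709 := d23_1 D5078 (iv D3709) D3708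
def n5079 : Q := act 5 n3709
theorem D5079 : act 5 n3709 = n5079 := rfl
theorem F15724 : act 0 n5079 = n3741 := d4_1 D5079 (iv D3741) (iv F11432)
theorem F15725 : act 2 n5079 = n3711 := d15_1 D5079 (iv D3711) (iv F11433)
theorem F15726 : act 3 n5079 = n3719 := d19_1 D5079 (iv D3719) (iv F11434)
theorem F15727 : act 6 n5079 = n5079 := d25_2 D3709 D5079 (iv D5079) (iv D3709) F8000
def n5080 : Q := act 7 n3709
theorem D5080 : act 7 n3709 = n5080 := rfl
theorem F15728 : act 0 n5080 = n3742 := d6_1 D5080 (iv D3742) (iv F11432)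
theorem F15729 : act 2 n5080 = n3712 := d17_1 D5080 (iv D3712) (iv F11433)
def n5081 : Q := act 7 n3710
theorem D5081 : act 7 n3710 = n5081 := rfl
theorem F15730 : act 0 n5081 = n3743 := d6_1 D5081 (iv D3743) (iv F11435)
theorem F15731 : act 4 n5081 = n3712 := d24_1 D5081 (iv D3712) (iv F11437)
def n5082 : Q := act 4 n3713
theorem D5082 : act 4 n3713 = n5082 := rfl
theorem F15732 : act 0 n5082 = n3714 := d3_1 D5082 (iv D3714) D3713
theorem F15733 : act 1 n5082 = n3744 := d9_1 D5082 (iv D3744) (iv F11442)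
theorem F15734 : act 2 n5082 = n4190 := d14_1 D5082 (iv D4190) (iv F11443)
theorem F15735 : act 7 n5082 = n3939 := d24_2 (iv F11444) D5082 (iv D3939)
def n5083 : Q := act 5 n3713
theorem D5083 : act 5 n3713 = n5083 := rfl
theorem F15736 : act 0 n5083 = n3715 := d4_1 D5083 (iv D3715) D3713
theorem F15737 : act 2 n5083 = n4191 := d15_1 D5083 (iv D4191) (iv F11443)
theorem F15738 : act 7 n5083 = n3940 := d26_2 (iv F11444) D5083 (iv D3940)
def n5084 : Q := act 6 n3713
theorem D5084 : act 6 n3713 = n5084 := rfl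
theorem F15739 : act 0 n5084 = n3716 := d5_1 D5084 (iv D3716) D3713
theorem F15740 : act 1 n5084 = n3746 := d11_1 D5084 (iv D3746) (iv F11442)
theorem F15741 : act 2 n5084 = n4192 := d16_1 D5084 (iv D4192) (iv F11443)
def n5085 : Q := act 3 n3714
theorem D5085 : act 3 n3714 = n5085 := rfl
theorem F15742 : act 1 n5085 = n3717 := d8_1 D5085 (iv D3717) (iv F11445)
theorem F15743 : act 7 n5085 = n5085 := d21_2 (iv F11447) D5085 (iv D5085) F11447 F8541
def n5086 : Q := act 5 n3714
theorem D5086 : act 5 n3714 = n5086 := rfl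
theorem F15744 : act 1 n5086 = n5086 := d10_1 D5086 (iv D5086) F11445 F8014 (iv F11445)
theorem F15745 : act 2 n5086 = n4194 := d15_1 D5086 (iv D4194) (iv F11446)
theorem F15746 : act 4 n5086 = n3715 := d22_1 D5086 (iv D3715) D3714
theorem F15747 : act 7 n5086 = n3942 := d26_2 (iv F11447) D5086 (iv D3942)
def n5087 : Q := act 6 n3714
theorem D5087 : act 6 n3714 = n5087 := rfl
theorem F15748 : act 1 n5087 = n3718 := d11_1 D5087 (iv D3718) (iv F11445)
theorem F15749 : act 2 n5087 = n4195 := d16_1 D5087 (iv D4195) (iv F11446)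
theorem F15750 : act 4 n5087 = n3716 := d23_1 D5087 (iv D3716) D3714
theorem F15751 : act 7 n5087 = n4603 := d27_2 (iv F11447) D5087 (iv D4603) F10245 F8542
def n5088 : Q := act 6 n3715
theorem D5088 : act 6 n3715 = n5088 := rfl
theorem F15752 : act 1 n5088 = n5088 := d11_1 D5088 (iv D5088) F11448
theorem F15753 : act 2 n5088 = n4196 := d16_1 D5088 (iv D4196) (iv F11449)
def n5089 : Q := act 5 n3716
theorem D5089 : act 5 n3716 = n5089 := rfl
theorem F15754 : act 2 n5089 = n4197 := d15_1 D5089 (iv D4197) (iv F11452)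
def n5090 : Q := act 7 n3716
theorem D5090 : act 7 n3716 = n5090 := rfl
theorem F15755 : act 1 n5090 = n3720 := d12_1 D5090 (iv D3720) (iv F11451)
theorem F15756 : act 2 n5090 = n4198 := d17_1 D5090 (iv D4198) (iv F11452)
theorem F15757 : act 4 n5090 = n4603 := d24_1 D5090 (iv F15751) F15750
theorem F15758 : act 6 n5090 = n3945 := d27_1 D5090 (iv D3945) (iv D2773) (iv F8011) D3716
def n5091 : Q := act 6 n3717
theorem D5091 : act 6 n3717 = n5091 := rfl
theorem F15759 : act 0 n5091 = n3753 := d5_1 D5091 (iv D3753) (iv F11453)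
theorem F15760 : act 2 n5091 = n5091 := d16_1 D5091 (iv D5091) F11454
theorem F15761 : act 3 n5091 = n3718 := d20_1 D5091 (iv D3718) D3717
def n5092 : Q := act 5 n3718
theorem D5092 : act 5 n3718 = n5092 := rfl
theorem F15762 : act 0 n5092 = n3754 := d4_1 D5092 (iv D3754) (iv F11457)
theorem F15763 : act 2 n5092 = n3721 := d15_1 D5092 (iv D3721) (iv F11458)
theorem F15764 : act 4 n5092 = n3719 := d22_1 D5092 (iv D3719) (iv F11459)
theorem F15765 : act 6 n5092 = n5092 := d25_2 D3718 D5092 (iv D5092) (iv D3718) F8014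
theorem F15766 : act 7 n5092 = n4604 := d26_2 (iv F11460) D5092 (iv D4604)
def n5093 : Q := act 1 n3719
theorem D5093 : act 1 n3719 = n5093 := rfl
theorem F15767 : act 6 n5093 = n5093 := d11_2 F11463 D5093 (iv D5093)
def n5094 : Q := act 7 n3719
theorem D5094 : act 7 n3719 = n5094 := rfl
theorem F15768 : act 0 n5094 = n3756 := d6_1 D5094 (iv D3756) (iv F11461)
theorem F15769 : act 2 n5094 = n3723 := d17_1 D5094 (iv D3723) (iv F11462)
theorem F15770 : act 4 n5094 = n4604 := d24_1 D5094 (iv F15766) F15764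
theorem F15771 : act 5 n5094 = n3720 := d26_1 D5094 (iv D3720) D3719
def n5095 : Q := act 3 n3720
theorem D5095 : act 3 n3720 = n5095 := rfl
theorem F15772 : act 0 n5095 = n3757 := d2_1 D5095 (iv D3757) (iv F11464)
theorem F15773 : act 6 n5095 = n3947 := d20_2 (iv F11467) D5095 (iv D3947)
theorem F15774 : act 4 n5032 = n5095 := d23_3 F15773 F12229 D5032
def n5096 : Q := act 2 n3722
theorem D5096 : act 2 n3722 = n5096 := rfl
theorem F15775 : act 5 n5096 = n4203 := d15_2 (iv F11474) D5096 (iv D4203)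
theorem F15776 : act 6 n5096 = n5096 := d16_2 F11475 D5096 (iv D5096)
def n5097 : Q := act 7 n3722
theorem D5097 : act 7 n3722 = n5097 := rfl
theorem F15777 : act 1 n5097 = n3723 := d12_1 D5097 (iv D3723) D3722
theorem F15778 : act 4 n5097 = n4605 := d24_1 D5097 F14267 F14052
theorem F15779 : act 5 n5097 = n4204 := d26_1 D5097 (iv D4204) (iv F11474)
def n5098 : Q := act 6 n3723
theorem D5098 : act 6 n3723 = n5098 := rfl
theorem F15780 : act 0 n5098 = n3762 := d5_1 D5098 (iv D3762) (iv F11476)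
theorem F15781 : act 4 n5098 = n4599 := d23_1 D5098 F14248 (iv F11477)
theorem F15782 : act 5 n5098 = n3950 := d25_1 D5098 (iv D3950) F8562 (iv F8029) (iv F11478)
theorem F15783 : act 7 n5098 = n5098 := d27_2 D3723 D5098 (iv D5098) (iv D3723) F8025
def n5099 : Q := act 6 n3725
theorem D5099 : act 6 n3725 = n5099 := rfl
theorem F15784 : act 2 n5099 = n5099 := d16_1 D5099 (iv D5099) F11485
theorem F15785 : act 3 n5099 = n3731 := d20_1 D5099 (iv D3731) (iv F11486)
theorem F15786 : act 4 n5099 = n3726 := d23_1 D5099 (iv D3726) D3725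
def n5100 : Q := act 5 n3726
theorem D5100 : act 5 n3726 = n5100 := rfl
theorem F15787 : act 2 n5100 = n5100 := d15_1 D5100 (iv D5100) F11489
theorem F15788 : act 3 n5100 = n3727 := d19_1 D5100 (iv D3727) (iv F11490)
theorem F15789 : act 6 n5100 = n5100 := d25_2 D3726 D5100 (iv D5100) (iv D3726) F8034
def n5101 : Q := act 7 n3726
theorem D5101 : act 7 n3726 = n5101 := rfl
theorem F15790 : act 1 n5101 = n4768 := d12_1 D5101 F15294 F15292
theorem F15791 : act 2 n5101 = n5101 := d17_1 D5101 (iv D5101) F11489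
theorem F15792 : act 3 n5101 = n4731 := d21_1 D5101 (iv D4731) F10519 (iv F8038) (iv F11490)
theorem F15793 : act 6 n5101 = n5101 := d27_1 D5101 (iv D5101) (iv D3726) F8035 D3726
def n5102 : Q := act 1 n3727
theorem D5102 : act 1 n3727 = n5102 := rfl
theorem F15794 : act 4 n5102 = n3734 := d9_2 (iv F11492) D5102 (iv D3734)
theorem F15795 : act 6 n5102 = n5102 := d11_2 F11493 D5102 (iv D5102)
theorem F15796 : act 7 n5102 = n4732 := d12_2 (iv F11494) D5102 (iv D4732)
def n5103 : Q := act 0 n3728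
theorem D5103 : act 0 n3728 = n5103 := rfl
theorem F15797 : act 2 n5103 = n4445 := d1_2 F14810 D5103 (iv F14808)
theorem F15798 : act 3 n5103 = n3952 := d2_2 (iv F11495) D5103 (iv D3952)
theorem F15799 : act 5 n5103 = n4444 := d4_2 F14819 D5103 (iv F14816)
theorem F15800 : act 7 n5103 = n3735 := d6_2 (iv F11496) D5103 (iv D3735)
def n5104 : Q := act 6 n3728
theorem D5104 : act 6 n3728 = n5104 := rfl
theorem F15801 : act 1 n5104 = n3730 := d11_1 D5104 (iv D3730) D3728
theorem F15802 : act 3 n5104 = n3954 := d20_1 D5104 (iv D3954) (iv F11495)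
theorem F15803 : act 5 n5104 = n5104 := d25_1 D5104 (iv D5104) (iv F14819) F14820 F14819
def n5105 : Q := act 0 n3734
theorem D5105 : act 0 n3734 = n5105 := rfl
theorem F15804 : act 6 n5105 = n5105 := d5_2 F11507 D5105 (iv D5105)
def n5106 : Q := act 2 n3734
theorem D5106 : act 2 n3734 = n5106 := rfl
theorem F15805 : act 1 n5106 = n3957 := d7_1 D5106 (iv D3957) (iv D2783) (iv F8045) D3734
theorem F15806 : act 3 n5106 = n5106 := d13_2 (iv F11757) D5106 (iv D5106) F11757 F11754
theorem F15807 : act 6 n5106 = n5106 := d16_2 F11507 D5106 (iv D5106)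
def n5107 : Q := act 4 n3735
theorem D5107 : act 4 n3735 = n5107 := rfl
theorem F15808 : act 0 n5107 = n3736 := d3_1 D5107 (iv D3736) D3735
def n5108 : Q := act 5 n3735
theorem D5108 : act 5 n3735 = n5108 := rfl
theorem F15809 : act 0 n5108 = n3737 := d4_1 D5108 (iv D3737) D3735
theorem F15810 : act 2 n5108 = n4371 := d15_1 D5108 (iv F15307) F15305
theorem F15811 : act 3 n5108 = n3745 := d19_1 D5108 (iv D3745) (iv F11508)
theorem F15812 : act 7 n5108 = n4444 := d26_2 F15800 D5108 (iv F15799)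
theorem F15813 : act 1 n4354 = n5108 := d12_3 F15812 (iv D4444) (iv F13465)
def n5109 : Q := act 6 n3735
theorem D5109 : act 6 n3735 = n5109 := rfl
theorem F15814 : act 0 n5109 = n3738 := d5_1 D5109 (iv D3738) D3735
theorem F15815 : act 3 n5109 = n3746 := d20_1 D5109 (iv D3746) (iv F11508)
def n5110 : Q := act 3 n3736
theorem D5110 : act 3 n3736 = n5110 := rfl
theorem F15816 : act 1 n5110 = n3739 := d8_1 D5110 (iv D3739) (iv F11509)
theorem F15817 : act 4 n5110 = n3747 := d18_2 D3736 D5110 (iv D3747) (iv D2622) (iv F8047)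
theorem F15818 : act 7 n5110 = n5110 := d21_2 F14806 D5110 (iv D5110) (iv F14806) F14804
def n5111 : Q := act 6 n3736
theorem D5111 : act 6 n3736 = n5111 := rfl
theorem F15819 : act 1 n5111 = n3740 := d11_1 D5111 (iv D3740) (iv F11509)
theorem F15820 : act 4 n5111 = n3738 := d23_1 D5111 (iv D3738) D3736
def n5112 : Q := act 6 n3737
theorem D5112 : act 6 n3737 = n5112 := rfl
theorem F15821 : act 1 n5112 = n5112 := d11_1 D5112 (iv D5112) F11510
theorem F15822 : act 2 n5112 = n4959 := d16_1 D5112 (iv D4959) (iv F11511)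
theorem F15823 : act 3 n5112 = n3750 := d20_1 D5112 (iv D3750) (iv F11512)
theorem F15824 : act 7 n5112 = n5112 := d27_2 F14821 D5112 (iv D5112) (iv F14821) F14820
def n5113 : Q := act 5 n3738
theorem D5113 : act 5 n3738 = n5113 := rfl
theorem F15825 : act 3 n5113 = n3751 := d19_1 D5113 (iv D3751) (iv F11514)
theorem F15826 : act 7 n4952 = n5113 := d21_0 F15825 (iv F11547) F11051 D3597 D4952
def n5114 : Q := act 7 n3738
theorem D5114 : act 7 n3738 = n5114 := rfl
theorem F15827 : act 1 n5114 = n3742 := d12_1 D5114 (iv D3742) (iv F11513)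
theorem F15828 : act 3 n5114 = n4951 := d21_1 D5114 (iv D4951) F11553 (iv D3752) (iv F11514)
theorem F15829 : act 5 n5114 = n4952 := d26_1 D5114 F15826 (iv D5113)
def n5115 : Q := act 6 n3739
theorem D5115 : act 6 n3739 = n5115 := rfl
theorem F15830 : act 2 n5115 = n5115 := d16_1 D5115 (iv D5115) F11515
theorem F15831 : act 3 n5115 = n3740 := d20_1 D5115 (iv D3740) D3739
theorem F15832 : act 4 n5115 = n3753 := d23_1 D5115 (iv D3753) (iv F11516)
theorem F15833 : act 7 n5100 = n5115 := d31_1 D5100 F15832 F11554 (iv D3753) (iv D2625) F5553 F5554 (iv D1279) (iv D859) D861 F2791 D862 (iv F3973) F3972 (iv F4117) (iv D1298) (iv D872) F1940 (iv D377) (iv F1143) D567 F1883 D575 F1907 D856 (iv F4038) (iv F5536) D2609 (iv F11490)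
theorem F15834 : act 5 n5115 = n5101 := d26_1 F15833 (iv D5101) D5100
def n5116 : Q := act 3 n3742
theorem D5116 : act 3 n3742 = n5116 := rfl
theorem F15835 : act 1 n5116 = n4951 := d8_1 D5116 (iv F15828) F15827
theorem F15836 : act 4 n5116 = n5011 := d18_2 F14611 D5116 F15539 F11293 (iv F14610)
theorem F15837 : act 5 n5116 = n5010 := d19_2 F11656 D5116 F15536
theorem F15838 : act 7 n5116 = n3757 := d21_2 D3742 D5116 (iv D3757) (iv D2628) (iv F8051)
def n5117 : Q := act 3 n3744
theorem D5117 : act 3 n3744 = n5117 := rfl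
theorem F15839 : act 0 n5117 = n3747 := d2_1 D5117 (iv D3747) (iv F11526)
theorem F15840 : act 7 n5117 = n5117 := d21_2 (iv F11528) D5117 (iv D5117) F11528 F8595
def n5118 : Q := act 5 n3744
theorem D5118 : act 5 n3744 = n5118 := rfl
theorem F15841 : act 0 n5118 = n3748 := d4_1 D5118 (iv D3748) (iv F11526)
theorem F15842 : act 2 n5118 = n3765 := d15_1 D5118 (iv D3765) (iv F11527)
theorem F15843 : act 4 n5118 = n3745 := d22_1 D5118 (iv D3745) D3744
theorem F15844 : act 7 n5118 = n3961 := d26_2 (iv F11528) D5118 (iv D3961)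
def n5119 : Q := act 6 n3744
theorem D5119 : act 6 n3744 = n5119 := rfl
theorem F15845 : act 0 n5119 = n3749 := d5_1 D5119 (iv D3749) (iv F11526)
theorem F15846 : act 2 n5119 = n3766 := d16_1 D5119 (iv D3766) (iv F11527)
theorem F15847 : act 4 n5119 = n3746 := d23_1 D5119 (iv D3746) D3744
theorem F15848 : act 7 n5119 = n4752 := d27_2 (iv F11528) D5119 (iv D4752) F10549 F8596
def n5120 : Q := act 1 n3745
theorem D5120 : act 1 n3745 = n5120 := rfl
theorem F15849 : act 0 n5120 = n5120 := d0_1 D5120 (iv D5120) F11529 F8063 (iv F11529)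
theorem F15850 : act 3 n5120 = n4354 := d8_2 F15811 D5120 F15813
theorem F15851 : act 7 n5120 = n3962 := d12_2 (iv F11531) D5120 (iv D3962)
theorem F15852 : act 2 n4344 = n5120 := d13_5 F15850 (iv D4354) (iv D3115) (iv F9596) D4344
def n5121 : Q := act 6 n3745
theorem D5121 : act 6 n3745 = n5121 := rfl
theorem F15853 : act 0 n5121 = n3750 := d5_1 D5121 (iv D3750) (iv F11529)
theorem F15854 : act 2 n5121 = n3768 := d16_1 D5121 (iv D3768) (iv F11530)
def n5122 : Q := act 5 n3746
theorem D5122 : act 5 n3746 = n5122 := rfl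
theorem F15855 : act 0 n5122 = n3751 := d4_1 D5122 (iv D3751) (iv F11532)
theorem F15856 : act 2 n5122 = n3769 := d15_1 D5122 (iv D3769) (iv F11533)
theorem F15857 : act 7 n4933 = n5122 := d17_0 F15856 (iv F11605) (iv F15263)
def n5123 : Q := act 7 n3746
theorem D5123 : act 7 n3746 = n5123 := rfl
theorem F15858 : act 0 n5123 = n3752 := d6_1 D5123 (iv D3752) (iv F11532)
theorem F15859 : act 2 n5123 = n3770 := d17_1 D5123 (iv D3770) (iv F11533)
theorem F15860 : act 4 n5123 = n4752 := d24_1 D5123 (iv F15848) F15847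
theorem F15861 : act 5 n5123 = n4933 := d26_1 D5123 F15857 (iv D5122)
theorem F15862 : act 6 n5123 = n3965 := d27_1 D5123 (iv D3965) (iv D2789) (iv F8059) D3746
theorem F15863 : act 3 n4936 = n5123 := d20_3 F15862 F12303 (iv F15275)
def n5124 : Q := act 2 n3747
theorem D5124 : act 2 n3747 = n5124 := rfl
theorem F15864 : act 1 n5124 = n5124 := d7_1 D5124 (iv D5124) F11534 F8068 (iv F11534)
theorem F15865 : act 3 n5124 = n3771 := d13_2 D3747 D5124 (iv D3771) (iv D2637) (iv F8061)
theorem F15866 : act 7 n5124 = n5124 := d17_2 F11535 D5124 (iv D5124)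
theorem F15867 : act 5 n5110 = n5124 := d19_0 F15865 (iv F11615) D5110
def n5125 : Q := act 5 n3747
theorem D5125 : act 5 n3747 = n5125 := rfl
theorem F15868 : act 1 n5125 = n5125 := d10_1 D5125 (iv D5125) F11534 F8069 (iv F11534)
theorem F15869 : act 2 n5125 = n5110 := d15_1 D5125 F15867 (iv D5124)
theorem F15870 : act 3 n5125 = n3748 := d19_1 D5125 (iv D3748) D3747
theorem F15871 : act 4 n5125 = n5124 := d22_1 D5125 (iv F15867) F15817
theorem F15872 : act 7 n5125 = n5125 := d26_2 F11535 D5125 (iv D5125)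
def n5126 : Q := act 6 n3747
theorem D5126 : act 6 n3747 = n5126 := rfl
theorem F15873 : act 1 n5126 = n3753 := d11_1 D5126 (iv D3753) (iv F11534)
theorem F15874 : act 3 n5126 = n3749 := d20_1 D5126 (iv D3749) D3747
def n5127 : Q := act 6 n3748
theorem D5127 : act 6 n3748 = n5127 := rfl
theorem F15875 : act 1 n5127 = n5127 := d11_1 D5127 (iv D5127) F11536
theorem F15876 : act 2 n5127 = n3774 := d16_1 D5127 (iv D3774) (iv F11537)
theorem F15877 : act 4 n5127 = n3750 := d23_1 D5127 (iv D3750) (iv F11538)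
def n5128 : Q := act 5 n3749
theorem D5128 : act 5 n3749 = n5128 := rfl
theorem F15878 : act 2 n5128 = n3775 := d15_1 D5128 (iv D3775) (iv F11541)
theorem F15879 : act 4 n5128 = n3751 := d22_1 D5128 (iv D3751) (iv F11542)
theorem F15880 : act 7 n5128 = n3801 := d26_2 (iv F11543) D5128 F11729
def n5129 : Q := act 5 n3750
theorem D5129 : act 5 n3750 = n5129 := rfl
theorem F15881 : act 2 n5129 = n3776 := d15_1 D5129 (iv D3776) (iv F11545)
theorem F15882 : act 6 n5129 = n3751 := d25_2 D3750 D5129 (iv D3751) (iv D2624) D2623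
theorem F15883 : act 7 n4944 = n5129 := d27_0 F15882 (iv F11547) (iv D3593) (iv F11042) D4944
def n5130 : Q := act 7 n3750
theorem D5130 : act 7 n3750 = n5130 := rfl
theorem F15884 : act 1 n5130 = n5130 := d12_1 D5130 (iv D5130) F11544
theorem F15885 : act 2 n5130 = n3777 := d17_1 D5130 (iv D3777) (iv F11545)
theorem F15886 : act 3 n5130 = n5130 := d21_1 D5130 (iv D5130) (iv F15823) F15824 F15823
theorem F15887 : act 5 n5130 = n4944 := d26_1 D5130 F15883 (iv D5129)
theorem F15888 : act 6 n5130 = n3968 := d27_1 D5130 (iv D3968) (iv D2791) (iv F8065) D3750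
def n5131 : Q := act 1 n3751
theorem D5131 : act 1 n3751 = n5131 := rfl
theorem F15889 : act 2 n5131 = n5114 := d7_2 (iv F11546) D5131 F15827 F11524 F8664
theorem F15890 : act 5 n5131 = n3755 := d10_2 D3751 D5131 (iv D3755) (iv D2627) (iv F8066)
theorem F15891 : act 7 n5131 = n4947 := d12_2 F11547 D5131 F15309
def n5132 : Q := act 5 n3753
theorem D5132 : act 5 n3753 = n5132 := rfl
theorem F15892 : act 2 n5132 = n5132 := d15_1 D5132 (iv D5132) F11554
theorem F15893 : act 3 n5132 = n3754 := d19_1 D5132 (iv D3754) (iv F11555)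
theorem F15894 : act 4 n5132 = n5101 := d22_1 D5132 (iv F15834) F15832
theorem F15895 : act 6 n5132 = n5132 := d25_2 D3753 D5132 (iv D5132) (iv D3753) F8069
theorem F15896 : act 7 n5132 = n5099 := d31_1 D5132 F15786 F11489 (iv D3726) (iv D2608) F5538 (iv D1779) (iv D1204) F2642 (iv F2733) (iv D841) F1882 D784 F2541 (iv F1939) D873 (iv F4118) F4119 F2863 (iv F2784) F2783 (iv D578) D577 F1913 (iv F2649) D1209 (iv F5552) D2626 (iv F11555)
def n5133 : Q := act 7 n3753
theorem D5133 : act 7 n3753 = n5133 := rfl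
theorem F15897 : act 2 n5133 = n5133 := d17_1 D5133 (iv D5133) F11554
theorem F15898 : act 3 n5133 = n4734 := d21_1 D5133 (iv D4734) F10523 (iv F8073) (iv F11555)
theorem F15899 : act 4 n5133 = n5100 := d24_1 D5133 F15833 F15832
theorem F15900 : act 5 n5133 = n5099 := d26_1 D5133 (iv F15896) (iv D5132)
theorem F15901 : act 6 n5133 = n5133 := d27_1 D5133 (iv D5133) (iv D3753) F8070 D3753
def n5134 : Q := act 1 n3754
theorem D5134 : act 1 n3754 = n5134 := rfl
theorem F15902 : act 4 n5134 = n3755 := d9_2 (iv F11557) D5134 (iv D3755)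
theorem F15903 : act 6 n5134 = n5134 := d11_2 F11558 D5134 (iv D5134)
theorem F15904 : act 7 n5134 = n4753 := d12_2 (iv F11559) D5134 (iv D4753)
def n5135 : Q := act 0 n3755
theorem D5135 : act 0 n3755 = n5135 := rfl
theorem F15905 : act 6 n5135 = n5135 := d5_2 F11560 D5135 (iv D5135)
def n5136 : Q := act 7 n3755
theorem D5136 : act 7 n3755 = n5136 := rfl
theorem F15906 : act 1 n5136 = n3756 := d12_1 D5136 (iv D3756) D3755
theorem F15907 : act 2 n5136 = n5113 := d17_1 D5136 (iv F15826) F15326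
theorem F15908 : act 3 n5136 = n4949 := d21_1 D5136 F15315 (iv D3785) D3786 (iv F11677)
theorem F15909 : act 4 n5136 = n4753 := d24_1 D5136 (iv F15904) F15902
theorem F15910 : act 5 n5136 = n4947 := d26_1 D5136 (iv F15891) F15890
def n5137 : Q := act 3 n3756
theorem D5137 : act 3 n3756 = n5137 := rfl
theorem F15911 : act 1 n5137 = n4949 := d8_1 D5137 (iv F15908) F15906
theorem F15912 : act 4 n5137 = n5012 := d18_2 (iv F11562) D5137 F15543 (iv F14622) F14621
theorem F15913 : act 5 n5137 = n3757 := d19_2 (iv F11563) D5137 (iv D3757)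
theorem F15914 : act 7 n5137 = n5010 := d21_2 D3756 D5137 F15536 F11658 F11522
theorem F15915 : act 6 n5019 = n5137 := d27_5 F15914 (iv D5010) F11290 D3662 D5019
def n5138 : Q := act 6 n3756
theorem D5138 : act 6 n3756 = n5138 := rfl
theorem F15916 : act 2 n5138 = n3762 := d16_1 D5138 (iv D3762) (iv F11561)
theorem F15917 : act 3 n5138 = n5019 := d20_1 D5138 F15915 (iv D5137)
theorem F15918 : act 4 n5138 = n4748 := d23_1 D5138 F14672 (iv F11562)
theorem F15919 : act 5 n5138 = n3969 := d25_1 D5138 (iv D3969) F8622 (iv F8078) (iv F11563)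
theorem F15920 : act 7 n5138 = n5138 := d27_2 D3756 D5138 (iv D5138) (iv D3756) F8075
def n5139 : Q := act 2 n3758
theorem D5139 : act 2 n3758 = n5139 := rfl
theorem F15921 : act 4 n5139 = n3760 := d14_2 (iv F11568) D5139 (iv D3760)
theorem F15922 : act 5 n5139 = n3782 := d15_2 (iv F11569) D5139 (iv D3782)
theorem F15923 : act 6 n5139 = n5139 := d16_2 F11570 D5139 (iv D5139)
theorem F15924 : act 7 n5139 = n4755 := d17_2 (iv F11571) D5139 (iv D4755)
theorem F15925 : act 3 n5139 = n4729 := d31_5 (iv F11580) (iv D3761) (iv F11568) D5139 F15923 (iv D4729) (iv F11040) F11039 F7768 (iv D2516) D2515 (iv F10986) F10987 (iv F8168) (iv D2659) D2661 F8174 D2664 F8182 F8181 F5633 (iv F8185) F8184 F7965 D3614 F11124 F11059 F7784 (iv F8143)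
def n5140 : Q := act 2 n3759
theorem D5140 : act 2 n3759 = n5140 := rfl
theorem F15926 : act 0 n5140 = n3760 := d1_1 D5140 (iv D3760) D3759
theorem F15927 : act 5 n5140 = n3783 := d15_2 (iv F11573) D5140 (iv D3783)
theorem F15928 : act 6 n5140 = n5140 := d16_2 F11574 D5140 (iv D5140)
def n5141 : Q := act 7 n3759
theorem D5141 : act 7 n3759 = n5141 := rfl
theorem F15929 : act 0 n5141 = n3761 := d6_1 D5141 (iv D3761) D3759
theorem F15930 : act 3 n5141 = n4939 := d21_1 D5141 (iv D4939) F11031 (iv F8091) (iv F11572)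
theorem F15931 : act 4 n5141 = n4754 := d24_1 D5141 F14688 F14100
theorem F15932 : act 5 n5141 = n3784 := d26_1 D5141 (iv D3784) (iv F11573)
def n5142 : Q := act 7 n3760
theorem D5142 : act 7 n3760 = n5142 := rfl
theorem F15933 : act 1 n5142 = n5113 := d12_1 D5142 (iv F15826) F15325
theorem F15934 : act 2 n5142 = n3761 := d17_1 D5142 (iv D3761) D3760
theorem F15935 : act 3 n5142 = n5131 := d21_1 D5142 F15891 F15311 D4950 (iv F15320)
theorem F15936 : act 4 n5142 = n4755 := d24_1 D5142 (iv F15924) F15921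
theorem F15937 : act 5 n5142 = n3786 := d26_1 D5142 (iv D3786) (iv F11575)
def n5143 : Q := act 6 n3761
theorem D5143 : act 6 n3761 = n5143 := rfl
theorem F15938 : act 1 n5143 = n3762 := d11_1 D5143 (iv D3762) (iv F11577)
theorem F15939 : act 3 n5143 = n4953 := d20_1 D5143 (iv D4953) (iv F11578)
theorem F15940 : act 4 n5143 = n4749 := d23_1 D5143 F14676 (iv F11579)
theorem F15941 : act 5 n5143 = n5143 := d25_1 D5143 (iv D5143) F11580 F8145 (iv F11580)
theorem F15942 : act 7 n5143 = n5143 := d27_2 D3761 D5143 (iv D5143) (iv D3761) F8085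
def n5144 : Q := act 2 n3764
theorem D5144 : act 2 n3764 = n5144 := rfl
theorem F15943 : act 0 n5144 = n3771 := d1_1 D5144 (iv D3771) (iv F11590)
theorem F15944 : act 4 n5144 = n5108 := d14_2 F13509 D5144 F15810
theorem F15945 : act 7 n5144 = n4786 := d17_2 (iv F11592) D5144 (iv D4786)
theorem F15946 : act 5 n5107 = n5144 := d22_0 F15944 (iv D5108) D5107
def n5145 : Q := act 5 n3764
theorem D5145 : act 5 n3764 = n5145 := rfl
theorem F15947 : act 0 n5145 = n3772 := d4_1 D5145 (iv D3772) (iv F11590)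
theorem F15948 : act 2 n5145 = n5107 := d15_1 D5145 F15946 (iv D5144)
theorem F15949 : act 3 n5145 = n3765 := d19_1 D5145 (iv D3765) D3764
theorem F15950 : act 4 n5145 = n4946 := d22_1 D5145 F15307 F13509
theorem F15951 : act 7 n5145 = n4784 := d26_2 (iv F11592) D5145 F14782
def n5146 : Q := act 6 n3764
theorem D5146 : act 6 n3764 = n5146 := rfl
theorem F15952 : act 0 n5146 = n3773 := d5_1 D5146 (iv D3773) (iv F11590)
theorem F15953 : act 1 n5146 = n4221 := d11_1 D5146 (iv D4221) (iv F11591)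
theorem F15954 : act 3 n5146 = n3766 := d20_1 D5146 (iv D3766) D3764
theorem F15955 : act 7 n5146 = n5146 := d27_2 (iv F11592) D5146 (iv D5146) F11592 F10659
def n5147 : Q := act 1 n3765
theorem D5147 : act 1 n3765 = n5147 := rfl
theorem F15956 : act 0 n5147 = n3793 := d0_1 D5147 (iv D3793) F8154 (iv F8105) (iv F11593)
theorem F15957 : act 4 n5147 = n3767 := d9_2 (iv F11594) D5147 (iv D3767)
theorem F15958 : act 5 n5147 = n4222 := d10_2 D3765 D5147 (iv D4222) (iv D3004) (iv F8097)
theorem F15959 : act 7 n5147 = n3970 := d12_2 (iv F11595) D5147 (iv D3970)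
def n5148 : Q := act 6 n3765
theorem D5148 : act 6 n3765 = n5148 := rfl
theorem F15960 : act 0 n5148 = n3774 := d5_1 D5148 (iv D3774) (iv F11593)
theorem F15961 : act 4 n5148 = n3768 := d23_1 D5148 (iv D3768) (iv F11594)
def n5149 : Q := act 5 n3766
theorem D5149 : act 5 n3766 = n5149 := rfl
theorem F15962 : act 0 n5149 = n3775 := d4_1 D5149 (iv D3775) (iv F11596)
theorem F15963 : act 4 n5149 = n3769 := d22_1 D5149 (iv D3769) (iv F11598)
theorem F15964 : act 7 n5149 = n4765 := d26_2 (iv F11599) D5149 (iv D4765)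
def n5150 : Q := act 2 n3767
theorem D5150 : act 2 n3767 = n5150 := rfl
theorem F15965 : act 0 n5150 = n3795 := d1_1 D5150 (iv D3795) (iv F11600)
theorem F15966 : act 1 n5150 = n4344 := d7_1 D5150 F15852 (iv D5120) F11530 D3767
theorem F15967 : act 3 n5150 = n4147 := d13_2 F15337 D5150 F12867 D4155 (iv F15336)
theorem F15968 : act 5 n5150 = n4224 := d15_2 (iv F11601) D5150 (iv D4224)
theorem F15969 : act 7 n5150 = n3972 := d17_2 (iv F11602) D5150 (iv D3972)
def n5151 : Q := act 6 n3767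
theorem D5151 : act 6 n3767 = n5151 := rfl
theorem F15970 : act 0 n5151 = n3796 := d5_1 D5151 (iv D3796) (iv F11600)
theorem F15971 : act 1 n5151 = n3768 := d11_1 D5151 (iv D3768) D3767
def n5152 : Q := act 5 n3768
theorem D5152 : act 5 n3768 = n5152 := rfl
theorem F15972 : act 0 n5152 = n3776 := d4_1 D5152 (iv D3776) (iv F11603)
theorem F15973 : act 6 n5152 = n3769 := d25_2 D3768 D5152 (iv D3769) (iv D2636) D2635
theorem F15974 : act 7 n4930 = n5152 := d27_0 F15973 (iv F11605) (iv D3580) (iv F11013) D4930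
def n5153 : Q := act 7 n3768
theorem D5153 : act 7 n3768 = n5153 := rfl
theorem F15975 : act 0 n5153 = n3777 := d6_1 D5153 (iv D3777) (iv F11603)
theorem F15976 : act 5 n5153 = n4930 := d26_1 D5153 F15974 (iv D5152)
theorem F15977 : act 6 n5153 = n3975 := d27_1 D5153 (iv D3975) (iv D2799) (iv F8100) D3768
theorem F15978 : act 3 n4931 = n5153 := d19_3 F15976 F15255 D4931
def n5154 : Q := act 1 n3769
theorem D5154 : act 1 n3769 = n5154 := rfl
theorem F15979 : act 0 n5154 = n5062 := d0_1 D5154 F15677 F11441 F8664 (iv F11604)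
theorem F15980 : act 5 n5154 = n4173 := d10_2 D3769 D5154 F12922 F9151 (iv F8102)
theorem F15981 : act 7 n5154 = n4172 := d12_2 F11605 D5154 F12919
def n5155 : Q := act 6 n3771
theorem D5155 : act 6 n3771 = n5155 := rfl
theorem F15982 : act 1 n5155 = n5155 := d11_1 D5155 (iv D5155) F11612
theorem F15983 : act 2 n5155 = n3773 := d16_1 D5155 (iv D3773) D3771
theorem F15984 : act 4 n5155 = n5112 := d23_1 D5155 (iv D5112) (iv F11613)
theorem F15985 : act 7 n5155 = n5155 := d27_2 (iv F11614) D5155 (iv D5155) F11614 F10672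
def n5156 : Q := act 6 n3772
theorem D5156 : act 6 n3772 = n5156 := rfl
theorem F15986 : act 1 n5156 = n3801 := d11_1 D5156 (iv D3801) (iv F11616)
theorem F15987 : act 2 n5156 = n5111 := d16_1 D5156 (iv D5111) (iv F11617)
theorem F15988 : act 3 n5156 = n3774 := d20_1 D5156 (iv D3774) (iv F11618)
theorem F15989 : act 4 n5156 = n4947 := d23_1 D5156 (iv D4947) (iv F11619)
theorem F15990 : act 5 n4753 = n5156 := d22_0 F15989 (iv F15910) F15909
def n5157 : Q := act 5 n3773
theorem D5157 : act 5 n3773 = n5157 := rfl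
theorem F15991 : act 1 n5157 = n4748 := d10_1 D5157 (iv D4748) F11642 (iv D3778) (iv F11621)
theorem F15992 : act 3 n5157 = n3775 := d19_1 D5157 (iv D3775) (iv F11622)
theorem F15993 : act 6 n5157 = n4753 := d25_2 D3773 D5157 F15990 (iv D5156) (iv D3772)
theorem F15994 : act 7 n5157 = n5157 := d26_2 F11623 D5157 (iv D5157)
def n5158 : Q := act 5 n3774
theorem D5158 : act 5 n3774 = n5158 := rfl
theorem F15995 : act 1 n5158 = n4733 := d10_1 D5158 (iv D4733) F11743 (iv D3804) (iv F11624)
theorem F15996 : act 3 n5158 = n4753 := d19_1 D5158 F15990 F15988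
theorem F15997 : act 4 n5158 = n3776 := d22_1 D5158 (iv D3776) (iv F11625)
theorem F15998 : act 6 n5158 = n3775 := d25_2 D3774 D5158 (iv D3775) (iv D2639) D2638
theorem F15999 : act 7 n5158 = n4945 := d31_1 D5158 F15303 (iv F15300) (iv D4944) F11041 (iv F11122) (iv D3613) F7821 D2659 F8204 F7405 (iv D2405) F5118 (iv F4076) (iv F5927) (iv D1903) (iv F5903) D2785 (iv F12255) F12254 F12253 F12256 F14822 F14819 F11496 D3736 (iv F11617) D5156 F15988
def n5159 : Q := act 7 n3774
theorem D5159 : act 7 n3774 = n5159 := rfl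
theorem F16000 : act 1 n5159 = n3805 := d12_1 D5159 (iv D3805) (iv F11624)
theorem F16001 : act 4 n5159 = n3777 := d24_1 D5159 (iv D3777) (iv F11625)
theorem F16002 : act 5 n5159 = n4945 := d26_1 D5159 (iv F15999) (iv D5158)
theorem F16003 : act 6 n5159 = n3978 := d27_1 D5159 (iv D3978) (iv D2802) (iv F8107) D3774
def n5160 : Q := act 0 n3779
theorem D5160 : act 0 n3779 = n5160 := rfl
theorem F16004 : act 1 n5160 = n4227 := d0_2 D3779 D5160 (iv D4227) (iv D3011) (iv F8119)
theorem F16005 : act 2 n5160 = n4586 := d1_2 F11648 D5160 F14214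
theorem F16006 : act 3 n5160 = n4598 := d2_2 (iv F11643) D5160 F14243
theorem F16007 : act 4 n5160 = n3780 := d3_2 (iv F11644) D5160 (iv D3780)
theorem F16008 : act 5 n5160 = n5081 := d4_2 (iv F11645) D5160 F15730
theorem F16009 : act 6 n5160 = n3811 := d5_2 (iv F11646) D5160 (iv D3811)
theorem F16010 : act 7 n5160 = n4766 := d6_2 (iv F11647) D5160 (iv D4766)
def n5161 : Q := act 2 n3780
theorem D5161 : act 2 n3780 = n5161 := rfl
theorem F16011 : act 0 n5161 = n3781 := d1_1 D5161 (iv D3781) D3780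
theorem F16012 : act 4 n5161 = n4586 := d14_2 F16007 D5161 (iv F16005)
theorem F16013 : act 5 n5161 = n5080 := d15_2 (iv F11651) D5161 F15729
theorem F16014 : act 6 n5161 = n3812 := d16_2 (iv F11652) D5161 (iv D3812)
theorem F16015 : act 7 n5161 = n5079 := d17_2 (iv F11653) D5161 F15725
def n5162 : Q := act 1 n3783
theorem D5162 : act 1 n3783 = n5162 := rfl
theorem F16016 : act 2 n5162 = n4230 := d7_2 D3783 D5162 (iv D4230) (iv D3014) (iv F8138)
theorem F16017 : act 6 n5162 = n3813 := d11_2 (iv F11665) D5162 (iv D3813)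
def n5163 : Q := act 3 n3783
theorem D5163 : act 3 n3783 = n5163 := rfl
theorem F16018 : act 0 n5163 = n3785 := d2_1 D5163 (iv D3785) (iv F11664)
theorem F16019 : act 2 n5163 = n3788 := d13_1 D5163 (iv D3788) (iv D2652) (iv F8139) D3783
theorem F16020 : act 6 n5163 = n3814 := d20_2 (iv F11665) D5163 (iv D3814)
def n5164 : Q := act 7 n3783
theorem D5164 : act 7 n3783 = n5164 := rfl
theorem F16021 : act 0 n5164 = n3786 := d6_1 D5164 (iv D3786) (iv F11664)
theorem F16022 : act 2 n5164 = n3784 := d17_1 D5164 (iv D3784) D3783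
theorem F16023 : act 4 n5164 = n4767 := d24_1 D5164 F14733 F14105
theorem F16024 : act 6 n5164 = n5164 := d27_1 D5164 (iv D5164) F11665 F8234 (iv F11665)
theorem F16025 : act 3 n5135 = n5164 := d2_0 F16021 (iv F11677) D5135
def n5165 : Q := act 3 n3787
theorem D5165 : act 3 n3787 = n5165 := rfl
theorem F16026 : act 0 n5165 = n4987 := d2_1 D5165 F15462 (iv F11678)
theorem F16027 : act 1 n5165 = n3788 := d8_1 D5165 (iv D3788) D3787
theorem F16028 : act 5 n5165 = n4076 := d19_2 (iv F11681) D5165 F12653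
theorem F16029 : act 6 n5165 = n3815 := d20_2 (iv F11682) D5165 (iv D3815)
def n5166 : Q := act 4 n3788
theorem D5166 : act 4 n3788 = n5166 := rfl
theorem F16030 : act 0 n5166 = n3789 := d3_1 D5166 (iv D3789) (iv F11684)
theorem F16031 : act 3 n5166 = n5166 := d18_1 D5166 (iv D5166) (iv D3788) F8147 D3788
theorem F16032 : act 6 n5166 = n3817 := d23_2 (iv F11685) D5166 (iv D3817)
def n5167 : Q := act 7 n3790
theorem D5167 : act 7 n3790 = n5167 := rfl
theorem F16033 : act 0 n5167 = n3800 := d6_1 D5167 (iv D3800) (iv F11689)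
theorem F16034 : act 2 n5167 = n3792 := d17_1 D5167 (iv D3792) D3790
theorem F16035 : act 4 n5167 = n4912 := d24_1 D5167 F15201 (iv F11691)
theorem F16036 : act 5 n5167 = n4929 := d26_1 D5167 F15253 F11693
theorem F16037 : act 6 n5167 = n4774 := d27_1 D5167 (iv D4774) (iv D3458) (iv F10595) (iv F11692)
def n5168 : Q := act 1 n3791
theorem D5168 : act 1 n3791 = n5168 := rfl
theorem F16038 : act 3 n5168 = n3793 := d8_2 (iv F11696) D5168 (iv D3793)
theorem F16039 : act 4 n5168 = n4932 := d9_2 (iv F11697) D5168 (iv D4932)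
theorem F16040 : act 5 n5168 = n4235 := d10_2 D3791 D5168 (iv D4235) (iv D3021) (iv F8153)
def n5169 : Q := act 6 n3791
theorem D5169 : act 6 n3791 = n5169 := rfl
theorem F16041 : act 0 n5169 = n3801 := d5_1 D5169 (iv D3801) (iv F11694)
theorem F16042 : act 2 n5169 = n4765 := d16_1 D5169 F14725 (iv F11695)
theorem F16043 : act 3 n5169 = n3794 := d20_1 D5169 (iv D3794) (iv F11696)
theorem F16044 : act 4 n5169 = n4933 := d23_1 D5169 (iv D4933) (iv F11697)
theorem F16045 : act 5 n5169 = n4752 := d25_1 D5169 (iv D4752) F10548 F10125 D3791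
def n5170 : Q := act 7 n3791
theorem D5170 : act 7 n3791 = n5170 := rfl
theorem F16046 : act 0 n5170 = n3802 := d6_1 D5170 (iv D3802) (iv F11694)
theorem F16047 : act 2 n5170 = n4929 := d17_1 D5170 F15253 (iv F11695)
theorem F16048 : act 3 n5170 = n3985 := d21_1 D5170 (iv D3985) F8683 (iv F8157) (iv F11696)
theorem F16049 : act 4 n5170 = n4928 := d24_1 D5170 F15250 (iv F11697)
theorem F16050 : act 5 n5170 = n3792 := d26_1 D5170 (iv D3792) D3791
def n5171 : Q := act 6 n3792
theorem D5171 : act 6 n3792 = n5171 := rfl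
theorem F16051 : act 0 n5171 = n3803 := d5_1 D5171 (iv D3803) (iv F11698)
theorem F16052 : act 1 n5171 = n4237 := d11_1 D5171 (iv D4237) (iv F11699)
theorem F16053 : act 2 n5171 = n4774 := d16_1 D5171 (iv F16037) F16034
theorem F16054 : act 3 n5171 = n3986 := d20_1 D5171 (iv D3986) (iv F11700)
theorem F16055 : act 7 n5171 = n4758 := d27_2 D3792 D5171 (iv D4758) F10562 F10125
def n5172 : Q := act 2 n3793
theorem D5172 : act 2 n3793 = n5172 := rfl
theorem F16056 : act 1 n5172 = n5172 := d7_1 D5172 (iv D5172) (iv D3793) F8155 D3793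
theorem F16057 : act 4 n5172 = n3795 := d14_2 (iv F11701) D5172 (iv D3795)
theorem F16058 : act 5 n5172 = n4238 := d15_2 (iv F11702) D5172 (iv D4238)
theorem F16059 : act 7 n5172 = n3987 := d17_2 (iv F11703) D5172 (iv D3987)
def n5173 : Q := act 6 n3793
theorem D5173 : act 6 n3793 = n5173 := rfl
theorem F16060 : act 1 n5173 = n3794 := d11_1 D5173 (iv D3794) D3793
theorem F16061 : act 4 n5173 = n3796 := d23_1 D5173 (iv D3796) (iv F11701)
def n5174 : Q := act 7 n3794
theorem D5174 : act 7 n3794 = n5174 := rfl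
theorem F16062 : act 0 n5174 = n3805 := d6_1 D5174 (iv D3805) (iv F11704)
theorem F16063 : act 2 n5174 = n5174 := d17_1 D5174 (iv D5174) F11705
theorem F16064 : act 4 n5174 = n3798 := d24_1 D5174 (iv D3798) (iv F11706)
theorem F16065 : act 6 n5174 = n3989 := d27_1 D5174 (iv D3989) (iv D2811) (iv F8157) D3794
def n5175 : Q := act 3 n3795
theorem D5175 : act 3 n3795 = n5175 := rfl
theorem F16066 : act 0 n5175 = n4147 := d2_1 D5175 (iv F15967) F15965
theorem F16067 : act 1 n5175 = n5175 := d8_1 D5175 (iv D5175) F11707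
theorem F16068 : act 2 n5175 = n4012 := d13_1 D5175 (iv F12524) F12523 F11110 D3795
theorem F16069 : act 5 n5175 = n4241 := d19_2 (iv F11708) D5175 (iv D4241)
theorem F16070 : act 4 n4010 = n5175 := d14_0 F16068 F12468 (iv F12461)
theorem F16071 : act 7 n4008 = n5175 := d17_0 F16068 (iv D4012) (iv F12456)
def n5176 : Q := act 6 n3795
theorem D5176 : act 6 n3795 = n5176 := rfl
theorem F16072 : act 1 n5176 = n5176 := d11_1 D5176 (iv D5176) F11707
theorem F16073 : act 2 n5176 = n3796 := d16_1 D5176 (iv D3796) D3795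
def n5177 : Q := act 5 n3796
theorem D5177 : act 5 n3796 = n5177 := rfl
theorem F16074 : act 6 n5177 = n4243 := d25_2 D3796 D5177 (iv D4243) (iv D3026) (iv F8158)
def n5178 : Q := act 7 n3796
theorem D5178 : act 7 n3796 = n5178 := rfl
theorem F16075 : act 1 n5178 = n3798 := d12_1 D5178 (iv D3798) (iv F11710)
theorem F16076 : act 6 n5178 = n3993 := d27_1 D5178 (iv D3993) (iv D2813) (iv F8159) D3796
def n5179 : Q := act 1 n3797
theorem D5179 : act 1 n3797 = n5179 := rfl
theorem F16077 : act 3 n5179 = n5035 := d8_2 (iv F11713) D5179 F15618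
theorem F16078 : act 6 n5179 = n3799 := d11_2 (iv F11714) D5179 (iv D3799)
def n5180 : Q := act 7 n3797
theorem D5180 : act 7 n3797 = n5180 := rfl
theorem F16079 : act 0 n5180 = n3807 := d6_1 D5180 (iv D3807) (iv F11711)
theorem F16080 : act 2 n5180 = n5180 := d17_1 D5180 (iv D5180) F11712
theorem F16081 : act 5 n5180 = n3798 := d26_1 D5180 (iv D3798) D3797
theorem F16082 : act 6 n5180 = n5180 := d27_1 D5180 (iv D5180) F11714 F8165 (iv F11714)
theorem F16083 : act 3 n5105 = n5180 := d2_0 F16079 (iv F11757) D5105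
def n5181 : Q := act 3 n3798
theorem D5181 : act 3 n3798 = n5181 := rfl
theorem F16084 : act 0 n5181 = n3808 := d2_1 D5181 (iv D3808) (iv F11715)
theorem F16085 : act 5 n5181 = n5105 := d19_2 F16081 D5181 F16083
theorem F16086 : act 6 n5181 = n3994 := d20_2 (iv F11717) D5181 (iv D3994)
def n5182 : Q := act 0 n3799
theorem D5182 : act 0 n3799 = n5182 := rfl
theorem F16087 : act 1 n5182 = n3809 := d0_2 D3799 D5182 (iv D3809) (iv D2667) (iv F8162)
theorem F16088 : act 3 n5182 = n5031 := d2_2 (iv F11718) D5182 F15609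
theorem F16089 : act 4 n5182 = n4588 := d3_2 F13166 D5182 F14219
theorem F16090 : act 5 n5182 = n4246 := d4_2 (iv F11719) D5182 (iv D4246)
theorem F16091 : act 7 n5182 = n5182 := d6_2 F11720 D5182 (iv D5182)
def n5183 : Q := act 2 n3799
theorem D5183 : act 2 n3799 = n5183 := rfl
theorem F16092 : act 1 n5183 = n5183 := d7_1 D5183 (iv D5183) (iv D3799) F8163 D3799
theorem F16093 : act 5 n5183 = n4247 := d15_2 (iv F11719) D5183 (iv D4247)
theorem F16094 : act 7 n5183 = n5183 := d17_2 F11720 D5183 (iv D5183)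
def n5184 : Q := act 3 n3800
theorem D5184 : act 3 n3800 = n5184 := rfl
theorem F16095 : act 1 n5184 = n5184 := d8_1 D5184 (iv D5184) F11721
theorem F16096 : act 2 n5184 = n3997 := d13_1 D5184 (iv D3997) F8706 (iv F8177) (iv F11722)
theorem F16097 : act 4 n5184 = n4914 := d18_2 (iv F11723) D5184 (iv D4914) F10983 D3567
theorem F16098 : act 5 n5184 = n4941 := d19_2 (iv F11724) D5184 F15290
theorem F16099 : act 6 n5184 = n4775 := d20_2 (iv F11725) D5184 (iv D4775)
theorem F16100 : act 7 n5184 = n5184 := d21_2 D3800 D5184 (iv D5184) (iv D3800) F8167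
def n5185 : Q := act 6 n3802
theorem D5185 : act 6 n3802 = n5185 := rfl
theorem F16101 : act 1 n5185 = n4793 := d11_1 D5185 (iv D4793) (iv F11730)
theorem F16102 : act 2 n5185 = n4945 := d16_1 D5185 (iv D4945) (iv F11731)
theorem F16103 : act 3 n5185 = n4000 := d20_1 D5185 (iv D4000) (iv F11732)
theorem F16104 : act 4 n5185 = n4944 := d23_1 D5185 (iv D4944) (iv F11733)
def n5186 : Q := act 5 n3803
theorem D5186 : act 5 n3803 = n5186 := rfl
theorem F16105 : act 1 n5186 = n5186 := d10_1 D5186 (iv D5186) F11735 F8214 (iv F11735)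
theorem F16106 : act 2 n5186 = n3978 := d15_1 D5186 F12356 (iv F11736)
theorem F16107 : act 3 n5186 = n4001 := d19_1 D5186 (iv D4001) (iv F11737)
theorem F16108 : act 4 n5186 = n3968 := d22_1 D5186 (iv F15383) F15381
theorem F16109 : act 7 n5186 = n3966 := d26_2 (iv F11738) D5186 F12310
def n5187 : Q := act 7 n3804
theorem D5187 : act 7 n3804 = n5187 := rfl
theorem F16110 : act 1 n5187 = n4734 := d12_1 D5187 (iv D4734) F11743
theorem F16111 : act 2 n5187 = n5187 := d17_1 D5187 (iv D5187) F11739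
theorem F16112 : act 4 n5187 = n3807 := d24_1 D5187 (iv D3807) (iv F11741)
theorem F16113 : act 5 n5187 = n3805 := d26_1 D5187 (iv D3805) D3804
theorem F16114 : act 6 n5187 = n5187 := d27_1 D5187 (iv D5187) F11742 F8182 (iv F11742)
def n5188 : Q := act 3 n3805
theorem D5188 : act 3 n3805 = n5188 := rfl
theorem F16115 : act 6 n5188 = n4002 := d20_2 (iv F11746) D5188 (iv D4002)
def n5189 : Q := act 0 n3806
theorem D5189 : act 0 n3806 = n5189 := rfl
theorem F16116 : act 2 n5189 = n4590 := d1_2 F11751 D5189 F14226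
theorem F16117 : act 3 n5189 = n5032 := d2_2 (iv F11747) D5189 F15612
theorem F16118 : act 4 n5189 = n4589 := d3_2 (iv F11748) D5189 F14223
theorem F16119 : act 5 n5189 = n5071 := d4_2 (iv F11749) D5189 F15706
theorem F16120 : act 6 n5189 = n3809 := d5_2 (iv F11750) D5189 (iv D3809)
theorem F16121 : act 7 n5189 = n5070 := d6_2 F11752 D5189 F15703
def n5190 : Q := act 2 n3808
theorem D5190 : act 2 n3808 = n5190 := rfl
theorem F16122 : act 1 n5190 = n5190 := d7_1 D5190 (iv D5190) F11758 F11047 (iv F11758)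
theorem F16123 : act 3 n5190 = n5190 := d13_2 D3808 D5190 (iv D5190) (iv D3808) F8186
theorem F16124 : act 5 n5190 = n5106 := d15_2 (iv F11759) D5190 (iv D5106)
theorem F16125 : act 6 n5190 = n4003 := d16_2 (iv F11760) D5190 (iv D4003)
theorem F16126 : act 7 n5190 = n4764 := d17_2 F15387 D5190 (iv F15385)
def n5191 : Q := act 4 n3808
theorem D5191 : act 4 n3808 = n5191 := rfl
theorem F16127 : act 1 n5191 = n4943 := d9_1 D5191 F15298 (iv F11758)
theorem F16128 : act 5 n5191 = n5102 := d22_2 (iv F11759) D5191 F15794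
theorem F16129 : act 6 n5191 = n4004 := d23_2 (iv F11760) D5191 (iv D4004)
def n5192 : Q := act 1 n3812
theorem D5192 : act 1 n3812 = n5192 := rfl
theorem F16130 : act 0 n5192 = n3813 := d0_1 D5192 (iv D3813) F8232 (iv F8223) (iv F11779)
theorem F16131 : act 2 n5192 = n4251 := d7_2 D3812 D5192 (iv D4251) (iv D3038) (iv F8220)
theorem F16132 : act 4 n5192 = n4584 := d9_2 (iv F11780) D5192 F14210
theorem F16133 : act 7 n5192 = n5192 := d12_2 F11782 D5192 (iv D5192)
def n5193 : Q := act 3 n3813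
theorem D5193 : act 3 n3813 = n5193 := rfl
theorem F16134 : act 1 n5193 = n3814 := d8_1 D5193 (iv D3814) D3813
def n5194 : Q := act 5 n3813
theorem D5194 : act 5 n3813 = n5194 := rfl
theorem F16135 : act 1 n5194 = n5194 := d10_1 D5194 (iv D5194) (iv D3813) F8233 D3813
theorem F16136 : act 2 n5194 = n4255 := d15_1 D5194 (iv D4255) (iv F11783)
theorem F16137 : act 4 n5194 = n5183 := d22_1 D5194 F16093 F13139
theorem F16138 : act 7 n5194 = n5194 := d26_2 F11784 D5194 (iv D5194)
def n5195 : Q := act 2 n3815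
theorem D5195 : act 2 n3815 = n5195 := rfl
theorem F16139 : act 0 n5195 = n4507 := d1_1 D5195 F13941 (iv F11788)
theorem F16140 : act 3 n5195 = n4258 := d13_2 D3815 D5195 (iv D4258) (iv D3043) (iv F8238)
theorem F16141 : act 4 n4505 = n5195 := d18_0 F16140 (iv F13954) F13953 F10009 (iv F13934)
theorem F16142 : act 5 n4504 = n5195 := d19_0 F16140 F13950 F13947
def n5196 : Q := act 4 n3815
theorem D5196 : act 4 n3815 = n5196 := rfl
theorem F16143 : act 0 n5196 = n4490 := d3_1 D5196 F13887 (iv F11788)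
theorem F16144 : act 1 n5196 = n3817 := d9_1 D5196 (iv D3817) (iv F11789)
theorem F16145 : act 2 n5196 = n4505 := d14_1 D5196 F16141 (iv D5195)
theorem F16146 : act 3 n5196 = n5196 := d18_1 D5196 (iv D5196) (iv D3815) F8239 D3815
theorem F16147 : act 5 n4488 = n5196 := d15_0 F16145 (iv D4505) (iv F13877)
theorem F16148 : act 7 n5193 = n5196 := d12_0 F16144 (iv F11799) (iv F16134)
def n5197 : Q := act 5 n3815
theorem D5197 : act 5 n3815 = n5197 := rfl
theorem F16149 : act 0 n5197 = n4489 := d4_1 D5197 (iv F13882) (iv F11788)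
theorem F16150 : act 1 n5197 = n5197 := d10_1 D5197 (iv D5197) F11789 F8242 (iv F11789)
theorem F16151 : act 2 n5197 = n4504 := d15_1 D5197 F16142 (iv D5195)
theorem F16152 : act 3 n5197 = n3816 := d19_1 D5197 (iv D3816) D3815
theorem F16153 : act 4 n5197 = n4488 := d22_1 D5197 F16147 (iv D5196)
theorem F16154 : act 6 n5197 = n4073 := d25_2 F16029 D5197 F12649 D4076 (iv F16028)
def n5198 : Q := act 7 n3815
theorem D5198 : act 7 n3815 = n5198 := rfl
theorem F16155 : act 0 n5198 = n4985 := d6_1 D5198 F15457 (iv F11788)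
theorem F16156 : act 1 n5198 = n3818 := d12_1 D5198 (iv D3818) (iv F11789)
theorem F16157 : act 3 n5198 = n3822 := d21_1 D5198 (iv D3822) (iv D2681) (iv F8240) D3815
theorem F16158 : act 4 n5198 = n5193 := d24_1 D5198 F16148 (iv D5196)
def n5199 : Q := act 6 n3818
theorem D5199 : act 6 n3818 = n5199 := rfl
theorem F16159 : act 0 n5199 = n3819 := d5_1 D5199 (iv D3819) (iv F11800)
theorem F16160 : act 2 n5199 = n5166 := d16_1 D5199 F16032 (iv F11801)
theorem F16161 : act 3 n5199 = n3824 := d20_1 D5199 (iv D3824) (iv F11802)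
theorem F16162 : act 4 n5199 = n5163 := d23_1 D5199 F16020 (iv F11803)
def n5200 : Q := act 5 n3820
theorem D5200 : act 5 n3820 = n5200 := rfl
theorem F16163 : act 0 n5200 = n4981 := d4_1 D5200 (iv D4981) (iv F11809)
theorem F16164 : act 2 n5200 = n3821 := d15_1 D5200 (iv D3821) D3820
theorem F16165 : act 3 n5200 = n4267 := d19_1 D5200 (iv D4267) (iv F11811)
def n5201 : Q := act 7 n3820
theorem D5201 : act 7 n3820 = n5201 := rfl
theorem F16166 : act 0 n5201 = n4982 := d6_1 D5201 (iv D4982) (iv F11809)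
theorem F16167 : act 1 n5201 = n5201 := d12_1 D5201 (iv D5201) F11810
theorem F16168 : act 2 n5201 = n3822 := d17_1 D5201 (iv D3822) D3820
def n5202 : Q := act 6 n3821
theorem D5202 : act 6 n3821 = n5202 := rfl
theorem F16169 : act 0 n5202 = n4983 := d5_1 D5202 (iv D4983) (iv F11813)
theorem F16170 : act 1 n5202 = n5202 := d11_1 D5202 (iv D5202) F11814
theorem F16171 : act 3 n5202 = n3823 := d20_1 D5202 (iv D3823) (iv F11815)
theorem F16172 : act 5 n5202 = n4164 := d25_1 D5202 F12903 (iv D3572) (iv F8254) D3821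
def n5203 : Q := act 7 n3821
theorem D5203 : act 7 n3821 = n5203 := rfl
theorem F16173 : act 0 n5203 = n4984 := d6_1 D5203 (iv D4984) (iv F11813)
theorem F16174 : act 1 n5203 = n5203 := d12_1 D5203 (iv D5203) F11814
theorem F16175 : act 5 n5203 = n3822 := d26_1 D5203 (iv D3822) D3821
def n5204 : Q := act 6 n3822
theorem D5204 : act 6 n3822 = n5204 := rfl
theorem F16176 : act 0 n5204 = n4986 := d5_1 D5204 (iv D4986) (iv F11816)
theorem F16177 : act 1 n5204 = n3824 := d11_1 D5204 (iv D3824) (iv F11817)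
theorem F16178 : act 7 n5204 = n4923 := d27_2 D3822 D5204 (iv D4923) (iv D3573) (iv F8254)
def n5205 : Q := act 5 n3824
theorem D5205 : act 5 n3824 = n5205 := rfl
theorem F16179 : act 0 n5205 = n3825 := d4_1 D5205 (iv D3825) (iv F11824)
theorem F16180 : act 2 n5205 = n5205 := d15_1 D5205 (iv D5205) F11825
theorem F16181 : act 6 n5205 = n5205 := d25_2 D3824 D5205 (iv D5205) (iv D3824) F8261
theorem F16182 : act 7 n5205 = n4931 := d26_2 (iv F11826) D5205 (iv D4931)
def n5206 : Q := act 1 n3826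
theorem D5206 : act 1 n3826 = n5206 := rfl
theorem F16183 : act 0 n5206 = n4883 := d0_1 D5206 (iv D4883) F10881 (iv F8271) (iv F11830)
theorem F16184 : act 3 n5206 = n3849 := d8_2 (iv F11832) D5206 (iv D3849)
theorem F16185 : act 4 n5206 = n5206 := d9_2 F11833 D5206 (iv D5206)
theorem F16186 : act 5 n5206 = n5206 := d10_2 D3826 D5206 (iv D5206) (iv D3826) F8265
theorem F16187 : act 7 n5206 = n5206 := d12_2 F11834 D5206 (iv D5206)
def n5207 : Q := act 6 n3826
theorem D5207 : act 6 n3826 = n5207 := rfl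
theorem F16188 : act 0 n5207 = n3827 := d5_1 D5207 (iv D3827) (iv F11830)
theorem F16189 : act 2 n5207 = n5207 := d16_1 D5207 (iv D5207) F11831
theorem F16190 : act 3 n5207 = n3850 := d20_1 D5207 (iv D3850) (iv F11832)
theorem F16191 : act 4 n5207 = n5207 := d23_1 D5207 (iv D5207) F11833
theorem F16192 : act 5 n5207 = n5207 := d25_1 D5207 (iv D5207) (iv D3826) F8269 D3826
def n5208 : Q := act 0 n3828
theorem D5208 : act 0 n3828 = n5208 := rfl
theorem F16193 : act 1 n5208 = n3835 := d0_2 D3828 D5208 (iv D3835) (iv D2691) (iv F8276)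
theorem F16194 : act 2 n5208 = n5208 := d1_2 F11840 D5208 (iv D5208)
theorem F16195 : act 3 n5208 = n4718 := d2_2 (iv F11841) D5208 (iv D4718)
def n5209 : Q := act 4 n3828
theorem D5209 : act 4 n3828 = n5209 := rfl
theorem F16196 : act 1 n5209 = n3829 := d9_1 D5209 (iv D3829) D3828
theorem F16197 : act 2 n5209 = n5209 := d14_1 D5209 (iv D5209) F11840
def n5210 : Q := act 5 n3828
theorem D5210 : act 5 n3828 = n5210 := rfl
theorem F16198 : act 1 n5210 = n3869 := d10_1 D5210 (iv D3869) (iv D2715) (iv F8278) D3828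
theorem F16199 : act 2 n5210 = n5210 := d15_1 D5210 (iv D5210) F11840
theorem F16200 : act 3 n5210 = n4719 := d19_1 D5210 (iv D4719) (iv F11841)
def n5211 : Q := act 6 n3828
theorem D5211 : act 6 n3828 = n5211 := rfl
theorem F16201 : act 1 n5211 = n3830 := d11_1 D5211 (iv D3830) D3828
theorem F16202 : act 2 n5211 = n5211 := d16_1 D5211 (iv D5211) F11840
theorem F16203 : act 3 n5211 = n3868 := d20_1 D5211 (iv F11976) (iv F11841)
def n5212 : Q := act 3 n3829
theorem D5212 : act 3 n3829 = n5212 := rfl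
theorem F16204 : act 0 n5212 = n3839 := d2_1 D5212 (iv D3839) (iv F11842)
theorem F16205 : act 2 n5212 = n3832 := d13_1 D5212 F11854 F8287 (iv F8281) (iv F11843)
theorem F16206 : act 4 n5212 = n3865 := d18_2 D3829 D5212 F11968 F8375 (iv F8277)
theorem F16207 : act 5 n5212 = n3830 := d19_2 (iv F11844) D5212 F11847
theorem F16208 : act 6 n3864 = n5212 := d25_0 F16207 (iv D3830) F8278 D2717 (iv F11965)
def n5213 : Q := act 6 n3829
theorem D5213 : act 6 n3829 = n5213 := rfl
theorem F16209 : act 0 n5213 = n3840 := d5_1 D5213 (iv D3840) (iv F11842)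
theorem F16210 : act 2 n5213 = n3831 := d16_1 D5213 (iv D3831) (iv F11843)
theorem F16211 : act 3 n5213 = n3864 := d20_1 D5213 F16208 (iv D5212)
theorem F16212 : act 4 n5213 = n3830 := d23_1 D5213 (iv D3830) D3829
theorem F16213 : act 5 n5213 = n3865 := d25_1 D5213 (iv D3865) F8357 F8372 (iv F11844)
def n5214 : Q := act 7 n3830
theorem D5214 : act 7 n3830 = n5214 := rfl
theorem F16214 : act 0 n5214 = n3841 := d6_1 D5214 (iv D3841) (iv F11845)
theorem F16215 : act 2 n5214 = n3833 := d17_1 D5214 (iv D3833) (iv F11846)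
def n5215 : Q := act 1 n3832
theorem D5215 : act 1 n3832 = n5215 := rfl
theorem F16216 : act 0 n5215 = n5215 := d0_1 D5215 (iv D5215) F11853 F8301 (iv F11853)
theorem F16217 : act 3 n5215 = n3834 := d8_2 (iv F11854) D5215 (iv D3834)
theorem F16218 : act 4 n5215 = n3858 := d9_2 (iv F11855) D5215 F11946
theorem F16219 : act 5 n5215 = n5215 := d10_2 D3832 D5215 (iv D5215) (iv D3832) F8284
theorem F16220 : act 6 n5215 = n3857 := d11_2 (iv F11856) D5215 F11942
def n5216 : Q := act 7 n3832
theorem D5216 : act 7 n3832 = n5216 := rfl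
theorem F16221 : act 0 n5216 = n3842 := d6_1 D5216 (iv D3842) (iv F11853)
theorem F16222 : act 3 n5216 = n5216 := d21_1 D5216 (iv D5216) F11854 F8290 (iv F11854)
theorem F16223 : act 4 n5216 = n3866 := d24_1 D5216 (iv D3866) (iv F11855)
theorem F16224 : act 5 n5216 = n3833 := d26_1 D5216 (iv D3833) D3832
def n5217 : Q := act 4 n3835
theorem D5217 : act 4 n3835 = n5217 := rfl
theorem F16225 : act 0 n5217 = n3836 := d3_1 D5217 (iv D3836) D3835
theorem F16226 : act 2 n5217 = n3843 := d14_1 D5217 (iv D3843) (iv F11866)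
theorem F16227 : act 7 n5217 = n4971 := d24_2 F15425 D5217 (iv F15423)
theorem F16228 : act 6 n5214 = n5217 := d27_5 F16227 (iv D4971) F11149 D3830 D5214
def n5218 : Q := act 5 n3835
theorem D5218 : act 5 n3835 = n5218 := rfl
theorem F16229 : act 0 n5218 = n3837 := d4_1 D5218 (iv D3837) D3835
theorem F16230 : act 2 n5218 = n3844 := d15_1 D5218 (iv D3844) (iv F11866)
theorem F16231 : act 3 n5218 = n4877 := d19_1 D5218 (iv D4877) (iv F11867)
def n5219 : Q := act 6 n3835
theorem D5219 : act 6 n3835 = n5219 := rfl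
theorem F16232 : act 0 n5219 = n3838 := d5_1 D5219 (iv D3838) D3835
theorem F16233 : act 2 n5219 = n3845 := d16_1 D5219 (iv D3845) (iv F11866)
theorem F16234 : act 3 n5219 = n3884 := d20_1 D5219 (iv F12026) (iv F11867)
theorem F16235 : act 4 n5219 = n5214 := d23_1 D5219 F16228 (iv D5217)
theorem F16236 : act 7 n5219 = n5213 := d27_2 F15425 D5219 (iv D5213) (iv F15403) (iv F15424)
def n5220 : Q := act 3 n3836
theorem D5220 : act 3 n3836 = n5220 := rfl
theorem F16237 : act 1 n5220 = n3839 := d8_1 D5220 (iv D3839) (iv F11868)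
theorem F16238 : act 2 n5220 = n5220 := d13_1 D5220 (iv D5220) F11869 F8310 (iv F11869)
theorem F16239 : act 4 n5220 = n3882 := d18_2 D3836 D5220 F12021 F8412 (iv F8292)
theorem F16240 : act 6 n5220 = n3880 := d20_2 F11889 D5220 F12014
def n5221 : Q := act 5 n3836
theorem D5221 : act 5 n3836 = n5221 := rfl
theorem F16241 : act 1 n5221 = n3887 := d10_1 D5221 (iv D3887) F8406 (iv F8294) (iv F11868)
theorem F16242 : act 2 n5221 = n3846 := d15_1 D5221 (iv D3846) (iv F11869)
theorem F16243 : act 4 n5221 = n3837 := d22_1 D5221 (iv D3837) D3836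
theorem F16244 : act 7 n5221 = n4979 := d26_2 (iv F11870) D5221 (iv D4979)
def n5222 : Q := act 6 n3837
theorem D5222 : act 6 n3837 = n5222 := rfl
theorem F16245 : act 1 n5222 = n3888 := d11_1 D5222 (iv D3888) (iv F11871)
theorem F16246 : act 2 n5222 = n3847 := d16_1 D5222 (iv D3847) (iv F11872)
theorem F16247 : act 3 n5222 = n4878 := d20_1 D5222 (iv D4878) (iv F11873)
def n5223 : Q := act 7 n3839
theorem D5223 : act 7 n3839 = n5223 := rfl
theorem F16248 : act 2 n5223 = n3842 := d17_1 D5223 (iv D3842) (iv F11877)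
theorem F16249 : act 4 n5223 = n3883 := d24_1 D5223 (iv D3883) (iv F11878)
theorem F16250 : act 5 n5223 = n3841 := d26_1 D5223 (iv D3841) (iv F11879)
def n5224 : Q := act 6 n3842
theorem D5224 : act 6 n3842 = n5224 := rfl
theorem F16251 : act 1 n5224 = n5224 := d11_1 D5224 (iv D5224) F11890
theorem F16252 : act 3 n5224 = n5224 := d20_1 D5224 (iv D5224) F11891
theorem F16253 : act 4 n5224 = n3877 := d23_1 D5224 F12004 (iv F11892)
theorem F16254 : act 7 n5224 = n3875 := d27_2 D3842 D5224 (iv D3875) F8390 (iv F8304)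
def n5225 : Q := act 5 n3843
theorem D5225 : act 5 n3843 = n5225 := rfl
theorem F16255 : act 0 n5225 = n3846 := d4_1 D5225 (iv D3846) (iv F11894)
theorem F16256 : act 3 n5225 = n5225 := d19_1 D5225 (iv D5225) F11896
theorem F16257 : act 4 n5225 = n3844 := d22_1 D5225 (iv D3844) D3843
theorem F16258 : act 7 n5225 = n4972 := d26_2 (iv F11897) D5225 (iv D4972)
def n5226 : Q := act 1 n3844
theorem D5226 : act 1 n3844 = n5226 := rfl
theorem F16259 : act 0 n5226 = n3849 := d0_1 D5226 (iv D3849) F8324 (iv F8313) (iv F11899)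
theorem F16260 : act 3 n5226 = n4883 := d8_2 (iv F11900) D5226 (iv D4883)
theorem F16261 : act 5 n5226 = n5226 := d10_2 D3844 D5226 (iv D5226) (iv D3844) F8307
def n5227 : Q := act 6 n3844
theorem D5227 : act 6 n3844 = n5227 := rfl
theorem F16262 : act 0 n5227 = n3847 := d5_1 D5227 (iv D3847) (iv F11899)
theorem F16263 : act 3 n5227 = n4884 := d20_1 D5227 (iv D4884) (iv F11900)
def n5228 : Q := act 6 n3846
theorem D5228 : act 6 n3846 = n5228 := rfl
theorem F16264 : act 1 n5228 = n3851 := d11_1 D5228 (iv D3851) (iv F11906)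
theorem F16265 : act 3 n5228 = n5228 := d20_1 D5228 (iv D5228) F11907
theorem F16266 : act 4 n5228 = n3847 := d23_1 D5228 (iv D3847) (iv F11908)
theorem F16267 : act 5 n5228 = n5224 := d25_1 D5228 (iv D5224) F11893 F8312 D3846
theorem F16268 : act 7 n5228 = n5029 := d27_2 (iv F11909) D5228 (iv D5029) (iv D3675) (iv F11201)
def n5229 : Q := act 6 n3848
theorem D5229 : act 6 n3848 = n5229 := rfl
theorem F16269 : act 0 n5229 = n3851 := d5_1 D5229 (iv D3851) (iv F11912)
theorem F16270 : act 2 n5229 = n3903 := d16_1 D5229 (iv D3903) (iv F11913)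
theorem F16271 : act 3 n5229 = n5229 := d20_1 D5229 (iv D5229) F11914
theorem F16272 : act 4 n5229 = n3850 := d23_1 D5229 (iv D3850) (iv F11915)
theorem F16273 : act 5 n5229 = n5229 := d25_1 D5229 (iv D5229) (iv D3848) F8323 D3848
def n5230 : Q := act 2 n3849
theorem D5230 : act 2 n3849 = n5230 := rfl
theorem F16274 : act 1 n5230 = n3904 := d7_1 D5230 (iv D3904) (iv D2743) (iv F8325) D3849
theorem F16275 : act 5 n5230 = n5230 := d15_2 F11916 D5230 (iv D5230)
def n5231 : Q := act 6 n3849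
theorem D5231 : act 6 n3849 = n5231 := rfl
theorem F16276 : act 1 n5231 = n3850 := d11_1 D5231 (iv D3850) D3849
def n5232 : Q := act 7 n3850
theorem D5232 : act 7 n3850 = n5232 := rfl
theorem F16277 : act 0 n5232 = n3852 := d6_1 D5232 (iv D3852) (iv F11917)
theorem F16278 : act 2 n5232 = n3906 := d17_1 D5232 (iv D3906) (iv F11918)
theorem F16279 : act 5 n5232 = n5232 := d26_1 D5232 (iv D5232) F11919
def n5233 : Q := act 3 n3853
theorem D5233 : act 3 n3853 = n5233 := rfl
theorem F16280 : act 0 n5233 = n5233 := d2_1 D5233 (iv D5233) F11926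
theorem F16281 : act 5 n5233 = n4344 := d19_2 (iv F11929) D5233 (iv D4344)
theorem F16282 : act 7 n5233 = n4282 := d21_2 D3853 D5233 (iv D4282) (iv D3061) (iv F8332)
def n5234 : Q := act 6 n3853
theorem D5234 : act 6 n3853 = n5234 := rfl
theorem F16283 : act 0 n5234 = n5234 := d5_1 D5234 (iv D5234) F11926
theorem F16284 : act 2 n5234 = n3855 := d16_1 D5234 (iv D3855) (iv F11927)
theorem F16285 : act 4 n5234 = n4349 := d23_1 D5234 (iv D4349) (iv F11928)
theorem F16286 : act 7 n5234 = n3917 := d27_2 D3853 D5234 (iv D3917) (iv D2752) (iv F8335)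
def n5235 : Q := act 2 n3854
theorem D5235 : act 2 n3854 = n5235 := rfl
theorem F16287 : act 0 n5235 = n5235 := d1_1 D5235 (iv D5235) F11930
theorem F16288 : act 5 n5235 = n4354 := d15_2 (iv F11932) D5235 (iv D4354)
theorem F16289 : act 7 n5235 = n3856 := d17_2 (iv F11933) D5235 (iv D3856)
def n5236 : Q := act 4 n3854
theorem D5236 : act 4 n3854 = n5236 := rfl
theorem F16290 : act 0 n5236 = n5236 := d3_1 D5236 (iv D5236) F11930
theorem F16291 : act 1 n5236 = n3860 := d9_1 D5236 (iv D3860) (iv F11931)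
theorem F16292 : act 3 n5236 = n3949 := d18_1 D5236 F12239 (iv D3117) (iv F8338) D3854
theorem F16293 : act 5 n5236 = n4302 := d22_2 (iv F11932) D5236 F13309
theorem F16294 : act 7 n5236 = n3857 := d24_2 (iv F11933) D5236 (iv D3857)
def n5237 : Q := act 6 n3854
theorem D5237 : act 6 n3854 = n5237 := rfl
theorem F16295 : act 0 n5237 = n5237 := d5_1 D5237 (iv D5237) F11930
theorem F16296 : act 1 n5237 = n3861 := d11_1 D5237 (iv D3861) (iv F11931)
theorem F16297 : act 3 n5237 = n3855 := d20_1 D5237 (iv D3855) D3854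
def n5238 : Q := act 5 n3855
theorem D5238 : act 5 n3855 = n5238 := rfl
theorem F16298 : act 0 n5238 = n5238 := d4_1 D5238 (iv D5238) F11934
theorem F16299 : act 4 n5238 = n4359 := d22_1 D5238 (iv D4359) (iv F11936)
theorem F16300 : act 6 n5238 = n4356 := d25_2 D3855 D5238 (iv D4356) (iv D3116) (iv F8339)
theorem F16301 : act 7 n5238 = n3925 := d26_2 (iv F11937) D5238 (iv D3925)
def n5239 : Q := act 1 n3856
theorem D5239 : act 1 n3856 = n5239 := rfl
theorem F16302 : act 2 n5239 = n3863 := d7_2 D3856 D5239 (iv D3863) (iv D2711) (iv F8341)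
theorem F16303 : act 3 n5239 = n4290 := d8_2 (iv F11939) D5239 (iv D4290)
def n5240 : Q := act 4 n3856
theorem D5240 : act 4 n3856 = n5240 := rfl
theorem F16304 : act 0 n5240 = n5240 := d3_1 D5240 (iv D5240) F11938
theorem F16305 : act 2 n5240 = n3857 := d14_1 D5240 (iv D3857) D3856
theorem F16306 : act 3 n5240 = n5240 := d18_1 D5240 (iv D5240) F11939 F9456 (iv F11939)
theorem F16307 : act 5 n5240 = n4301 := d22_2 (iv F11940) D5240 F13304
def n5241 : Q := act 7 n3858
theorem D5241 : act 7 n3858 = n5241 := rfl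
theorem F16308 : act 0 n5241 = n5241 := d6_1 D5241 (iv D5241) F11945
theorem F16309 : act 1 n5241 = n3866 := d12_1 D5241 (iv D3866) (iv F11946)
theorem F16310 : act 3 n5241 = n3929 := d21_1 D5241 (iv D3929) F8508 (iv F8348) (iv F11947)
theorem F16311 : act 5 n5241 = n5241 := d26_1 D5241 (iv D5241) F11948
def n5242 : Q := act 1 n3859
theorem D5242 : act 1 n3859 = n5242 := rfl
theorem F16312 : act 7 n5242 = n3863 := d12_2 (iv F11951) D5242 (iv D3863)
def n5243 : Q := act 4 n3859
theorem D5243 : act 4 n3859 = n5243 := rfl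
theorem F16313 : act 0 n5243 = n3873 := d3_1 D5243 (iv D3873) (iv F11949)
theorem F16314 : act 2 n5243 = n3860 := d14_1 D5243 (iv D3860) D3859
theorem F16315 : act 3 n5243 = n5020 := d18_1 D5243 (iv D5020) (iv F15552) F15553 F15465
theorem F16316 : act 5 n5243 = n3871 := d22_2 (iv F11950) D5243 F11983
theorem F16317 : act 7 n5243 = n3864 := d24_2 (iv F11951) D5243 (iv D3864)
def n5244 : Q := act 6 n3859
theorem D5244 : act 6 n3859 = n5244 := rfl
theorem F16318 : act 0 n5244 = n3874 := d5_1 D5244 (iv D3874) (iv F11949)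
theorem F16319 : act 2 n5244 = n3861 := d16_1 D5244 (iv D3861) D3859
def n5245 : Q := act 6 n3860
theorem D5245 : act 6 n3860 = n5245 := rfl
theorem F16320 : act 0 n5245 = n3875 := d5_1 D5245 (iv D3875) (iv F11952)
theorem F16321 : act 3 n5245 = n3950 := d20_1 D5245 (iv D3950) (iv F11953)
theorem F16322 : act 4 n5245 = n3861 := d23_1 D5245 (iv D3861) D3860
def n5246 : Q := act 5 n3861
theorem D5246 : act 5 n3861 = n5246 := rfl
theorem F16323 : act 0 n5246 = n3876 := d4_1 D5246 (iv D3876) (iv F11956)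
theorem F16324 : act 3 n5246 = n3862 := d19_1 D5246 (iv D3862) (iv F11957)
theorem F16325 : act 6 n5246 = n4596 := d25_2 D3861 D5246 (iv D4596) (iv D3316) (iv F8350)
theorem F16326 : act 7 n5227 = n5246 := d27_0 F16325 (iv F15524) F15523 F15441 D5227
def n5247 : Q := act 7 n3861
theorem D5247 : act 7 n3861 = n5247 := rfl
theorem F16327 : act 0 n5247 = n3877 := d6_1 D5247 (iv D3877) (iv F11956)
theorem F16328 : act 3 n5247 = n3934 := d21_1 D5247 (iv D3934) F8520 (iv F8354) (iv F11957)
theorem F16329 : act 5 n5247 = n5227 := d26_1 D5247 F16326 (iv D5246)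
theorem F16330 : act 6 n5247 = n3866 := d27_1 D5247 (iv D3866) (iv D2713) (iv F8351) D3861
def n5248 : Q := act 1 n3862
theorem D5248 : act 1 n3862 = n5248 := rfl
theorem F16331 : act 4 n5248 = n4600 := d9_2 (iv F11959) D5248 (iv D4600)
theorem F16332 : act 6 n5248 = n4597 := d11_2 (iv F11960) D5248 (iv D4597)
theorem F16333 : act 7 n5248 = n3935 := d12_2 (iv F11961) D5248 (iv D3935)
def n5249 : Q := act 0 n3863
theorem D5249 : act 0 n3863 = n5249 := rfl
theorem F16334 : act 1 n5249 = n3879 := d0_2 D3863 D5249 (iv D3879) (iv D2724) (iv F8355)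
theorem F16335 : act 3 n5249 = n3867 := d2_2 (iv F11962) D5249 (iv D3867)
def n5250 : Q := act 4 n3863
theorem D5250 : act 4 n3863 = n5250 := rfl
theorem F16336 : act 1 n5250 = n3864 := d9_1 D5250 (iv D3864) D3863
def n5251 : Q := act 5 n3863
theorem D5251 : act 5 n3863 = n5251 := rfl
theorem F16337 : act 1 n5251 = n4719 := d10_1 D5251 (iv D4719) (iv D3409) (iv F8357) D3863
theorem F16338 : act 3 n5251 = n3869 := d19_1 D5251 (iv D3869) (iv F11962)
def n5252 : Q := act 6 n3863
theorem D5252 : act 6 n3863 = n5252 := rfl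
theorem F16339 : act 1 n5252 = n3865 := d11_1 D5252 (iv D3865) D3863
theorem F16340 : act 3 n5252 = n3870 := d20_1 D5252 (iv D3870) (iv F11962)
def n5253 : Q := act 7 n3865
theorem D5253 : act 7 n3865 = n5253 := rfl
theorem F16341 : act 0 n5253 = n3883 := d6_1 D5253 (iv D3883) (iv F11966)
theorem F16342 : act 2 n5253 = n3866 := d17_1 D5253 (iv D3866) (iv F11967)
theorem F16343 : act 5 n5253 = n5219 := d26_1 D5253 F16236 F16213
def n5254 : Q := act 4 n3867
theorem D5254 : act 4 n3867 = n5254 := rfl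
theorem F16344 : act 0 n5254 = n3868 := d3_1 D5254 (iv D3868) D3867
theorem F16345 : act 1 n5254 = n3884 := d9_1 D5254 (iv D3884) (iv F11972)
theorem F16346 : act 2 n5254 = n4294 := d14_1 D5254 (iv D4294) (iv F11973)
theorem F16347 : act 6 n4718 = n5254 := d16_0 F16346 (iv F13287) (iv F14578)
def n5255 : Q := act 5 n3867
theorem D5255 : act 5 n3867 = n5255 := rfl
theorem F16348 : act 0 n5255 = n3869 := d4_1 D5255 (iv D3869) D3867
theorem F16349 : act 2 n5255 = n4295 := d15_1 D5255 (iv D4295) (iv F11973)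
def n5256 : Q := act 6 n3867
theorem D5256 : act 6 n3867 = n5256 := rfl
theorem F16350 : act 0 n5256 = n3870 := d5_1 D5256 (iv D3870) D3867
theorem F16351 : act 1 n5256 = n3886 := d11_1 D5256 (iv D3886) (iv F11972)
theorem F16352 : act 2 n5256 = n4296 := d16_1 D5256 (iv D4296) (iv F11973)
theorem F16353 : act 4 n5256 = n4718 := d23_1 D5256 F16347 (iv D5254)
def n5257 : Q := act 5 n3868
theorem D5257 : act 5 n3868 = n5257 := rfl
theorem F16354 : act 2 n5257 = n4297 := d15_1 D5257 (iv D4297) (iv F11975)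
theorem F16355 : act 4 n5257 = n3869 := d22_1 D5257 (iv D3869) D3868
def n5258 : Q := act 6 n3869
theorem D5258 : act 6 n3869 = n5258 := rfl
theorem F16356 : act 2 n5258 = n4298 := d16_1 D5258 (iv D4298) (iv F11977)
def n5259 : Q := act 5 n3870
theorem D5259 : act 5 n3870 = n5259 := rfl
theorem F16357 : act 2 n5259 = n4299 := d15_1 D5259 (iv D4299) (iv F11979)
theorem F16358 : act 4 n5259 = n4719 := d22_1 D5259 (iv D4719) (iv F11980)
def n5260 : Q := act 7 n3870
theorem D5260 : act 7 n3870 = n5260 := rfl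
theorem F16359 : act 1 n5260 = n3871 := d12_1 D5260 (iv D3871) (iv F11978)
theorem F16360 : act 2 n5260 = n4300 := d17_1 D5260 (iv D4300) (iv F11979)
theorem F16361 : act 4 n5260 = n4594 := d24_1 D5260 F14235 (iv F11980)
def n5261 : Q := act 3 n3871
theorem D5261 : act 3 n3871 = n5261 := rfl
theorem F16362 : act 0 n5261 = n3891 := d2_1 D5261 (iv D3891) (iv F11981)
theorem F16363 : act 2 n5261 = n3947 := d13_1 D5261 (iv D3947) F8553 (iv F8378) (iv F11982)
theorem F16364 : act 5 n5261 = n5020 := d19_2 F16316 D5261 (iv F16315)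
theorem F16365 : act 4 n5021 = n5261 := d22_3 F16364 (iv D5020) D5021
def n5262 : Q := act 0 n3872
theorem D5262 : act 0 n3872 = n5262 := rfl
theorem F16366 : act 2 n5262 = n5262 := d1_2 F11984 D5262 (iv D5262)
theorem F16367 : act 3 n5262 = n4993 := d2_2 (iv F11985) D5262 F15480
theorem F16368 : act 4 n5262 = n5002 := d3_2 F11987 D5262 F15508
theorem F16369 : act 7 n5262 = n3879 := d6_2 (iv F11986) D5262 (iv D3879)
def n5263 : Q := act 5 n3872
theorem D5263 : act 5 n3872 = n5263 := rfl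
theorem F16370 : act 1 n5263 = n4742 := d10_1 D5263 (iv D4742) (iv D3427) (iv F8385) D3872
theorem F16371 : act 2 n5263 = n5263 := d15_1 D5263 (iv D5263) F11984
theorem F16372 : act 3 n5263 = n4974 := d19_1 D5263 F15414 (iv F11985)
theorem F16373 : act 4 n5263 = n4978 := d22_1 D5263 F15431 F11987
theorem F16374 : act 7 n5263 = n3881 := d26_2 (iv F11986) D5263 (iv D3881)
def n5264 : Q := act 6 n3872
theorem D5264 : act 6 n3872 = n5264 := rfl
theorem F16375 : act 1 n5264 = n3874 := d11_1 D5264 (iv D3874) D3872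
theorem F16376 : act 2 n5264 = n5264 := d16_1 D5264 (iv D5264) F11984
theorem F16377 : act 3 n5264 = n5016 := d20_1 D5264 (iv D5016) (iv F11985)
theorem F16378 : act 4 n5264 = n5025 := d23_1 D5264 (iv D5025) F11987
def n5265 : Q := act 6 n3873
theorem D5265 : act 6 n3873 = n5265 := rfl
theorem F16379 : act 1 n5265 = n5025 := d11_1 D5265 (iv D5025) (iv F11988)
theorem F16380 : act 2 n5265 = n3875 := d16_1 D5265 (iv D3875) (iv F11989)
theorem F16381 : act 3 n5265 = n5023 := d20_1 D5265 (iv D5023) (iv F11990)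
theorem F16382 : act 4 n5265 = n3874 := d23_1 D5265 (iv D3874) D3873
def n5266 : Q := act 5 n3874
theorem D5266 : act 5 n3874 = n5266 := rfl
theorem F16383 : act 2 n5266 = n3876 := d15_1 D5266 (iv D3876) (iv F11993)
theorem F16384 : act 6 n5266 = n4744 := d25_2 D3874 D5266 (iv D4744) (iv D3428) (iv F8385)
theorem F16385 : act 7 n5222 = n5266 := d27_0 F16384 (iv F15592) F15591 F15428 D5222
def n5267 : Q := act 7 n3874
theorem D5267 : act 7 n3874 = n5267 := rfl
theorem F16386 : act 2 n5267 = n3877 := d17_1 D5267 (iv D3877) (iv F11993)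
theorem F16387 : act 5 n5267 = n5222 := d26_1 D5267 F16385 (iv D5266)
theorem F16388 : act 6 n5267 = n3883 := d27_1 D5267 (iv D3883) (iv D2726) (iv F8386) D3874
def n5268 : Q := act 0 n3878
theorem D5268 : act 0 n3878 = n5268 := rfl
theorem F16389 : act 3 n5268 = n5232 := d2_2 (iv F12005) D5268 F16277
theorem F16390 : act 4 n5268 = n4750 := d3_2 (iv F12006) D5268 (iv D4750)
theorem F16391 : act 5 n5268 = n5268 := d4_2 F12007 D5268 (iv D5268)
theorem F16392 : act 6 n5268 = n4746 := d5_2 (iv F12008) D5268 (iv D4746)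
theorem F16393 : act 7 n5268 = n3956 := d6_2 (iv F12009) D5268 (iv D3956)
def n5269 : Q := act 2 n3878
theorem D5269 : act 2 n3878 = n5269 := rfl
theorem F16394 : act 4 n5269 = n4751 := d14_2 (iv F12006) D5269 (iv D4751)
theorem F16395 : act 5 n5269 = n5269 := d15_2 F12007 D5269 (iv D5269)
theorem F16396 : act 6 n5269 = n4747 := d16_2 (iv F12008) D5269 (iv D4747)
theorem F16397 : act 7 n5269 = n3957 := d17_2 (iv F12009) D5269 (iv D3957)
def n5270 : Q := act 4 n3879
theorem D5270 : act 4 n3879 = n5270 := rfl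
theorem F16398 : act 0 n5270 = n3880 := d3_1 D5270 (iv D3880) D3879
theorem F16399 : act 2 n5270 = n5270 := d14_1 D5270 (iv D5270) F12010
theorem F16400 : act 3 n5270 = n5214 := d18_1 D5270 (iv F16235) F16234 (iv D3884) (iv F12011)
theorem F16401 : act 7 n5270 = n5002 := d24_2 F16369 D5270 (iv F16368)
def n5271 : Q := act 5 n3879
theorem D5271 : act 5 n3879 = n5271 := rfl
theorem F16402 : act 0 n5271 = n3881 := d4_1 D5271 (iv D3881) D3879
theorem F16403 : act 2 n5271 = n5271 := d15_1 D5271 (iv D5271) F12010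
theorem F16404 : act 3 n5271 = n3885 := d19_1 D5271 (iv D3885) (iv F12011)
def n5272 : Q := act 6 n3879
theorem D5272 : act 6 n3879 = n5272 := rfl
theorem F16405 : act 0 n5272 = n3882 := d5_1 D5272 (iv D3882) D3879
theorem F16406 : act 2 n5272 = n5272 := d16_1 D5272 (iv D5272) F12010
theorem F16407 : act 3 n5272 = n3886 := d20_1 D5272 (iv D3886) (iv F12011)
def n5273 : Q := act 5 n3880
theorem D5273 : act 5 n3880 = n5273 := rfl
theorem F16408 : act 1 n5273 = n3889 := d10_1 D5273 (iv D3889) F8410 (iv F8399) (iv F12012)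
theorem F16409 : act 2 n5273 = n5273 := d15_1 D5273 (iv D5273) F12013
theorem F16410 : act 3 n5273 = n5223 := d19_1 D5273 F16250 (iv F12014)
theorem F16411 : act 4 n5273 = n3881 := d22_1 D5273 (iv D3881) D3880
theorem F16412 : act 7 n5273 = n4978 := d26_2 (iv F12015) D5273 F15431
def n5274 : Q := act 6 n3881
theorem D5274 : act 6 n3881 = n5274 := rfl
theorem F16413 : act 1 n5274 = n4878 := d11_1 D5274 (iv D4878) (iv F12016)
theorem F16414 : act 2 n5274 = n5274 := d16_1 D5274 (iv D5274) F12017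
theorem F16415 : act 3 n5274 = n3888 := d20_1 D5274 (iv D3888) (iv F12018)
def n5275 : Q := act 5 n3882
theorem D5275 : act 5 n3882 = n5275 := rfl
theorem F16416 : act 1 n5275 = n5223 := d10_1 D5275 F16250 F11886 F11884 (iv F12019)
theorem F16417 : act 2 n5275 = n5275 := d15_1 D5275 (iv D5275) F12020
theorem F16418 : act 3 n5275 = n3889 := d19_1 D5275 (iv D3889) (iv F12021)
theorem F16419 : act 7 n5275 = n5220 := d31_1 D5275 F16239 F12020 (iv D3882) F8397 D2730 (iv F11328) F12044 F12041 (iv F11565) (iv D3757) (iv F11563) (iv D3756) (iv F11557) F11556 F8081 F8079 (iv D2629) F5559 (iv F5563) (iv F8076) F8078 D2795 F8625 F7937 (iv D1861) (iv F5780) D2731 (iv F12021)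
def n5276 : Q := act 7 n3882
theorem D5276 : act 7 n3882 = n5276 := rfl
theorem F16420 : act 1 n5276 = n3883 := d12_1 D5276 (iv D3883) (iv F12019)
theorem F16421 : act 2 n5276 = n5276 := d17_1 D5276 (iv D5276) F12020
theorem F16422 : act 3 n5276 = n5221 := d21_1 D5276 F16244 F15435 (iv D3890) (iv F12021)
theorem F16423 : act 4 n5276 = n5275 := d24_1 D5276 F16419 F16239
theorem F16424 : act 5 n5276 = n5220 := d26_1 D5276 (iv F16419) (iv D5275)
def n5277 : Q := act 5 n3884
theorem D5277 : act 5 n3884 = n5277 := rfl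
theorem F16425 : act 0 n5277 = n3887 := d4_1 D5277 (iv D3887) (iv F12024)
theorem F16426 : act 2 n5277 = n3892 := d15_1 D5277 (iv D3892) (iv F12025)
theorem F16427 : act 3 n5277 = n5253 := d19_1 D5277 F16343 F16234
theorem F16428 : act 4 n5277 = n3885 := d22_1 D5277 (iv D3885) D3884
theorem F16429 : act 7 n5277 = n5261 := d26_2 F15576 D5277 F16364
def n5278 : Q := act 1 n3885
theorem D5278 : act 1 n3885 = n5278 := rfl
def n5279 : Q := act 6 n3885
theorem D5279 : act 6 n3885 = n5279 := rfl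
theorem F16430 : act 0 n5279 = n3888 := d5_1 D5279 (iv D3888) (iv F12027)
theorem F16431 : act 2 n5279 = n3894 := d16_1 D5279 (iv D3894) (iv F12028)
def n5280 : Q := act 5 n3886
theorem D5280 : act 5 n3886 = n5280 := rfl
theorem F16432 : act 0 n5280 = n3889 := d4_1 D5280 (iv D3889) (iv F12029)
theorem F16433 : act 2 n5280 = n3895 := d15_1 D5280 (iv D3895) (iv F12030)
theorem F16434 : act 4 n5280 = n4877 := d22_1 D5280 (iv D4877) (iv F12031)
def n5281 : Q := act 7 n3886
theorem D5281 : act 7 n3886 = n5281 := rfl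
theorem F16435 : act 0 n5281 = n3890 := d6_1 D5281 (iv D3890) (iv F12029)
theorem F16436 : act 2 n5281 = n3896 := d17_1 D5281 (iv D3896) (iv F12030)
theorem F16437 : act 4 n5281 = n4741 := d24_1 D5281 F14652 (iv F12031)
def n5282 : Q := act 6 n3887
theorem D5282 : act 6 n3887 = n5282 := rfl
theorem F16438 : act 2 n5282 = n3897 := d16_1 D5282 (iv D3897) (iv F12032)
theorem F16439 : act 3 n5282 = n5267 := d20_1 D5282 F16388 (iv F12033)
theorem F16440 : act 4 n5282 = n3888 := d23_1 D5282 (iv D3888) (iv F12034)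
theorem F16441 : act 5 n5282 = n4878 := d25_1 D5282 (iv D4878) (iv D3534) F8408 D3887
def n5283 : Q := act 5 n3888
theorem D5283 : act 5 n3888 = n5283 := rfl
theorem F16442 : act 2 n5283 = n3898 := d15_1 D5283 (iv D3898) (iv F12035)
theorem F16443 : act 4 n5283 = n4878 := d22_1 D5283 (iv F16441) F16440
theorem F16444 : act 6 n5283 = n3889 := d25_2 D3888 D5283 (iv D3889) (iv D2731) D2730
theorem F16445 : act 7 n4726 = n5283 := d27_0 F16444 F15421 (iv D4975) F11172 D4726
def n5284 : Q := act 7 n3888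
theorem D5284 : act 7 n3888 = n5284 := rfl
theorem F16446 : act 1 n5284 = n5266 := d12_1 D5284 (iv F16385) F16245
theorem F16447 : act 2 n5284 = n3899 := d17_1 D5284 (iv D3899) (iv F12035)
theorem F16448 : act 5 n5284 = n4726 := d26_1 D5284 F16445 (iv D5283)
theorem F16449 : act 3 n4744 = n5284 := d30_4 F10582 (iv F14660) (iv D4745) (iv F14657) (iv D5284) (iv D3888) (iv D2730) (iv D1856) (iv D1249) (iv D843) (iv D568) F1144 F662 (iv D196) F376 (iv F636) D349 D556 D823 D1218 D1805 D2653 F11089 (iv F15363) (iv D4961) F11084 F7823 F7780 (iv F10583)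
def n5285 : Q := act 1 n3892
theorem D5285 : act 1 n3892 = n5285 := rfl
theorem F16450 : act 0 n5285 = n3902 := d0_1 D5285 (iv D3902) F8445 (iv F8425) (iv F12045)
theorem F16451 : act 3 n5285 = n4889 := d8_2 (iv F12046) D5285 (iv D4889)
theorem F16452 : act 4 n5285 = n3893 := d9_2 (iv F12047) D5285 (iv D3893)
theorem F16453 : act 5 n5285 = n4312 := d10_2 D3892 D5285 (iv D4312) (iv D3087) (iv F8416)
def n5286 : Q := act 6 n3892
theorem D5286 : act 6 n3892 = n5286 := rfl
theorem F16454 : act 0 n5286 = n3897 := d5_1 D5286 (iv D3897) (iv F12045)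
theorem F16455 : act 3 n5286 = n4887 := d20_1 D5286 F15111 (iv F12046)
theorem F16456 : act 4 n5286 = n3894 := d23_1 D5286 (iv D3894) (iv F12047)
theorem F16457 : act 5 n5286 = n4880 := d25_1 D5286 (iv D4880) (iv D3535) F8418 D3892
def n5287 : Q := act 2 n3893
theorem D5287 : act 2 n3893 = n5287 := rfl
theorem F16458 : act 0 n5287 = n3904 := d1_1 D5287 (iv D3904) (iv F12048)
theorem F16459 : act 5 n5287 = n4314 := d15_2 (iv F12050) D5287 (iv D4314)
def n5288 : Q := act 6 n3893
theorem D5288 : act 6 n3893 = n5288 := rfl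
theorem F16460 : act 0 n5288 = n3905 := d5_1 D5288 (iv D3905) (iv F12048)
theorem F16461 : act 1 n5288 = n3894 := d11_1 D5288 (iv D3894) D3893
theorem F16462 : act 3 n5288 = n5288 := d20_1 D5288 (iv D5288) F12049
def n5289 : Q := act 5 n3894
theorem D5289 : act 5 n3894 = n5289 := rfl
theorem F16463 : act 0 n5289 = n3898 := d4_1 D5289 (iv D3898) (iv F12051)
theorem F16464 : act 3 n5289 = n5289 := d19_1 D5289 (iv D5289) F12052
theorem F16465 : act 4 n5289 = n4880 := d22_1 D5289 (iv F16457) F16456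
theorem F16466 : act 6 n5289 = n3895 := d25_2 D3894 D5289 (iv D3895) (iv D2735) D2734
theorem F16467 : act 7 n4581 = n5289 := d27_0 F16466 F15397 (iv D4968) F11142 D4581
def n5290 : Q := act 7 n3894
theorem D5290 : act 7 n3894 = n5290 := rfl
theorem F16468 : act 0 n5290 = n3899 := d6_1 D5290 (iv D3899) (iv F12051)
theorem F16469 : act 5 n5290 = n4581 := d26_1 D5290 F16467 (iv D5289)
theorem F16470 : act 3 n4582 = n5290 := d19_3 F16469 F14200 D4582
def n5291 : Q := act 1 n3895
theorem D5291 : act 1 n3895 = n5291 := rfl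
theorem F16471 : act 0 n5291 = n5291 := d0_1 D5291 (iv D5291) F12053 F8430 (iv F12053)
theorem F16472 : act 3 n5291 = n5291 := d8_2 F12054 D5291 (iv D5291)
theorem F16473 : act 4 n5291 = n4879 := d9_2 (iv F12055) D5291 (iv D4879)
theorem F16474 : act 5 n5291 = n4318 := d10_2 D3895 D5291 (iv D4318) (iv D3090) (iv F8422)
theorem F16475 : act 7 n5291 = n4540 := d12_2 (iv F15397) D5291 (iv F15393)
def n5292 : Q := act 7 n3897
theorem D5292 : act 7 n3897 = n5292 := rfl
theorem F16476 : act 1 n5292 = n3909 := d12_1 D5292 (iv D3909) (iv F12060)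
theorem F16477 : act 3 n5292 = n4735 := d21_1 D5292 (iv F14632) F11502 F10915 (iv F12061)
theorem F16478 : act 4 n5292 = n3899 := d24_1 D5292 (iv D3899) (iv F12062)
theorem F16479 : act 5 n5292 = n4727 := d26_1 D5292 F14601 (iv F12063)
theorem F16480 : act 6 n5292 = n5116 := d27_1 D5292 F15838 F11565 F8626 D3897
def n5293 : Q := act 1 n3900
theorem D5293 : act 1 n3900 = n5293 := rfl
theorem F16481 : act 0 n5293 = n4889 := d0_1 D5293 (iv D4889) F10901 (iv F8452) (iv F12072)
theorem F16482 : act 3 n5293 = n3902 := d8_2 (iv F12074) D5293 (iv D3902)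
theorem F16483 : act 4 n5293 = n5293 := d9_2 F12075 D5293 (iv D5293)
theorem F16484 : act 5 n5293 = n4322 := d10_2 D3900 D5293 (iv D4322) (iv D3096) (iv F8441)
def n5294 : Q := act 6 n3900
theorem D5294 : act 6 n3900 = n5294 := rfl
theorem F16485 : act 0 n5294 = n3907 := d5_1 D5294 (iv D3907) (iv F12072)
theorem F16486 : act 2 n5294 = n5294 := d16_1 D5294 (iv D5294) F12073
theorem F16487 : act 3 n5294 = n3903 := d20_1 D5294 (iv D3903) (iv F12074)
theorem F16488 : act 4 n5294 = n5294 := d23_1 D5294 (iv D5294) F12075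
theorem F16489 : act 5 n5294 = n5294 := d25_1 D5294 (iv D5294) (iv D3900) F8444 D3900
def n5295 : Q := act 6 n3901
theorem D5295 : act 6 n3901 = n5295 := rfl
theorem F16490 : act 0 n5295 = n3908 := d5_1 D5295 (iv D3908) (iv F12076)
theorem F16491 : act 1 n5295 = n4325 := d11_1 D5295 (iv D4325) (iv F12077)
theorem F16492 : act 2 n5295 = n5295 := d16_1 D5295 (iv D5295) F12078
theorem F16493 : act 4 n5295 = n5295 := d23_1 D5295 (iv D5295) F12079
theorem F16494 : act 7 n5295 = n5295 := d27_2 D3901 D5295 (iv D5295) (iv D3901) F8444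
def n5296 : Q := act 2 n3902
theorem D5296 : act 2 n3902 = n5296 := rfl
theorem F16495 : act 4 n5296 = n3904 := d14_2 (iv F12080) D5296 (iv D3904)
theorem F16496 : act 5 n5296 = n4326 := d15_2 (iv F12081) D5296 (iv D4326)
def n5297 : Q := act 6 n3902
theorem D5297 : act 6 n3902 = n5297 := rfl
theorem F16497 : act 1 n5297 = n3903 := d11_1 D5297 (iv D3903) D3902
theorem F16498 : act 4 n5297 = n3905 := d23_1 D5297 (iv D3905) (iv F12080)
def n5298 : Q := act 7 n3903
theorem D5298 : act 7 n3903 = n5298 := rfl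
theorem F16499 : act 0 n5298 = n3909 := d6_1 D5298 (iv D3909) (iv F12082)
theorem F16500 : act 4 n5298 = n3906 := d24_1 D5298 (iv D3906) (iv F12083)
theorem F16501 : act 5 n5298 = n5298 := d26_1 D5298 (iv D5298) F12084
def n5299 : Q := act 3 n3904
theorem D5299 : act 3 n3904 = n5299 := rfl
theorem F16502 : act 2 n5299 = n5299 := d13_1 D5299 (iv D5299) (iv D3904) F8447 D3904
theorem F16503 : act 5 n5299 = n4329 := d19_2 (iv F12085) D5299 (iv D4329)
def n5300 : Q := act 6 n3904
theorem D5300 : act 6 n3904 = n5300 := rfl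
theorem F16504 : act 2 n5300 = n3905 := d16_1 D5300 (iv D3905) D3904
def n5301 : Q := act 5 n3905
theorem D5301 : act 5 n3905 = n5301 := rfl
theorem F16505 : act 1 n5301 = n5301 := d10_1 D5301 (iv D5301) F12086 F8451 (iv F12086)
theorem F16506 : act 3 n5301 = n5301 := d19_1 D5301 (iv D5301) F12087
theorem F16507 : act 6 n5301 = n4331 := d25_2 D3905 D5301 (iv D4331) (iv D3101) (iv F8448)
def n5302 : Q := act 7 n3905
theorem D5302 : act 7 n3905 = n5302 := rfl
theorem F16508 : act 1 n5302 = n3906 := d12_1 D5302 (iv D3906) (iv F12086)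
def n5303 : Q := act 3 n3906
theorem D5303 : act 3 n3906 = n5303 := rfl
theorem F16509 : act 0 n5303 = n3910 := d2_1 D5303 (iv D3910) (iv F12088)
theorem F16510 : act 5 n5303 = n5303 := d19_2 F12089 D5303 (iv D5303)
theorem F16511 : act 7 n5303 = n5303 := d21_2 D3906 D5303 (iv D5303) (iv D3906) F8450
theorem F16512 : act 4 n4739 = n5303 := d3_0 F16509 (iv F12104) D4739
def n5304 : Q := act 3 n3909
theorem D5304 : act 3 n3909 = n5304 := rfl
theorem F16513 : act 1 n5304 = n4735 := d8_1 D5304 (iv F16477) F16476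
theorem F16514 : act 4 n5304 = n4737 := d18_2 (iv F12099) D5304 F14639 F12104 (iv D3910)
theorem F16515 : act 5 n5304 = n5304 := d19_2 F12100 D5304 (iv D5304)
theorem F16516 : act 6 n5304 = n5114 := d20_2 F15324 D5304 F15828
theorem F16517 : act 7 n5304 = n5104 := d21_2 D3909 D5304 F15802 F12261 F12092
def n5305 : Q := act 2 n3910
theorem D5305 : act 2 n3910 = n5305 := rfl
theorem F16518 : act 1 n5305 = n4747 := d7_1 D5305 (iv D4747) (iv D3430) (iv F10508) (iv F12101)
theorem F16519 : act 3 n5305 = n5269 := d13_2 D3910 D5305 (iv D5269) F12005 F11924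
theorem F16520 : act 4 n5305 = n4740 := d14_2 F12104 D5305 (iv D4740)
theorem F16521 : act 5 n5305 = n5305 := d15_2 F12102 D5305 (iv D5305)
theorem F16522 : act 7 n5305 = n5305 := d17_2 F12103 D5305 (iv D5305)
def n5306 : Q := act 7 n3911
theorem D5306 : act 7 n3911 = n5306 := rfl
theorem F16523 : act 0 n5306 = n5306 := d6_1 D5306 (iv D5306) F12105
theorem F16524 : act 2 n5306 = n3920 := d17_1 D5306 (iv D3920) (iv F12106)
theorem F16525 : act 4 n5306 = n4281 := d24_1 D5306 (iv D4281) (iv F12107)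
theorem F16526 : act 5 n5306 = n4280 := d26_1 D5306 (iv D4280) F12109
def n5307 : Q := act 1 n3912
theorem D5307 : act 1 n3912 = n5307 := rfl
theorem F16527 : act 2 n5307 = n5307 := d7_2 (iv F12111) D5307 (iv D5307) F12111 F8476
theorem F16528 : act 3 n5307 = n4064 := d8_2 (iv F12112) D5307 F12628
theorem F16529 : act 4 n5307 = n3914 := d9_2 (iv F12113) D5307 (iv D3914)
theorem F16530 : act 6 n5307 = n4145 := d11_2 (iv F12114) D5307 F12862
def n5308 : Q := act 7 n3912
theorem D5308 : act 7 n3912 = n5308 := rfl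
theorem F16531 : act 0 n5308 = n5308 := d6_1 D5308 (iv D5308) F12110
theorem F16532 : act 2 n5308 = n3918 := d17_1 D5308 (iv D3918) (iv F12111)
theorem F16533 : act 4 n5308 = n3915 := d24_1 D5308 (iv D3915) (iv F12113)
theorem F16534 : act 5 n5308 = n3913 := d26_1 D5308 (iv D3913) D3912
def n5309 : Q := act 3 n3913
theorem D5309 : act 3 n3913 = n5309 := rfl
theorem F16535 : act 0 n5309 = n5309 := d2_1 D5309 (iv D5309) F12115
theorem F16536 : act 2 n5309 = n5309 := d13_1 D5309 (iv D5309) F12116 F8482 (iv F12116)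
def n5310 : Q := act 6 n3913
theorem D5310 : act 6 n3913 = n5310 := rfl
theorem F16537 : act 0 n5310 = n5310 := d5_1 D5310 (iv D5310) F12115
theorem F16538 : act 2 n5310 = n3919 := d16_1 D5310 (iv D3919) (iv F12116)
theorem F16539 : act 4 n5310 = n3917 := d23_1 D5310 (iv D3917) (iv F12117)
theorem F16540 : act 7 n5310 = n4349 := d27_2 D3913 D5310 (iv D4349) (iv D3112) (iv F8469)
def n5311 : Q := act 0 n3914
theorem D5311 : act 0 n3914 = n5311 := rfl
theorem F16541 : act 1 n5311 = n5311 := d0_2 D3914 D5311 (iv D5311) (iv D3914) F8470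
theorem F16542 : act 2 n5311 = n5311 := d1_2 F12118 D5311 (iv D5311)
theorem F16543 : act 3 n5311 = n4346 := d2_2 (iv F12119) D5311 (iv D4346)
def n5312 : Q := act 7 n3914
theorem D5312 : act 7 n3914 = n5312 := rfl
theorem F16544 : act 1 n5312 = n3915 := d12_1 D5312 (iv D3915) D3914
theorem F16545 : act 2 n5312 = n5312 := d17_1 D5312 (iv D5312) F12118
def n5313 : Q := act 3 n3915
theorem D5313 : act 3 n3915 = n5313 := rfl
theorem F16546 : act 0 n5313 = n5313 := d2_1 D5313 (iv D5313) F12120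
theorem F16547 : act 5 n5313 = n3916 := d19_2 (iv F12122) D5313 (iv D3916)
theorem F16548 : act 7 n5313 = n4348 := d21_2 D3915 D5313 (iv D4348) (iv D3112) (iv F8472)
def n5314 : Q := act 6 n3915
theorem D5314 : act 6 n3915 = n5314 := rfl
theorem F16549 : act 0 n5314 = n5314 := d5_1 D5314 (iv D5314) F12120
theorem F16550 : act 2 n5314 = n3922 := d16_1 D5314 (iv D3922) (iv F12121)
def n5315 : Q := act 2 n3916
theorem D5315 : act 2 n3916 = n5315 := rfl
theorem F16551 : act 0 n5315 = n5315 := d1_1 D5315 (iv D5315) F12123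
theorem F16552 : act 3 n5315 = n3923 := d13_2 D3916 D5315 (iv D3923) (iv D2757) (iv F8474)
theorem F16553 : act 7 n5315 = n4350 := d17_2 (iv F12124) D5315 (iv D4350)
def n5316 : Q := act 4 n3916
theorem D5316 : act 4 n3916 = n5316 := rfl
theorem F16554 : act 0 n5316 = n5316 := d3_1 D5316 (iv D5316) F12123
theorem F16555 : act 7 n5316 = n4351 := d24_2 (iv F12124) D5316 (iv D4351)
def n5317 : Q := act 6 n3916
theorem D5317 : act 6 n3916 = n5317 := rfl
theorem F16556 : act 0 n5317 = n5317 := d5_1 D5317 (iv D5317) F12123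
theorem F16557 : act 3 n5317 = n3917 := d20_1 D5317 (iv D3917) D3916
def n5318 : Q := act 5 n3917
theorem D5318 : act 5 n3917 = n5318 := rfl
theorem F16558 : act 0 n5318 = n5318 := d4_1 D5318 (iv D5318) F12125
theorem F16559 : act 2 n5318 = n3925 := d15_1 D5318 (iv D3925) (iv F12126)
def n5319 : Q := act 6 n3918
theorem D5319 : act 6 n3918 = n5319 := rfl
theorem F16560 : act 0 n5319 = n5319 := d5_1 D5319 (iv D5319) F12127
theorem F16561 : act 1 n5319 = n5319 := d11_1 D5319 (iv D5319) F12128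
theorem F16562 : act 3 n5319 = n5319 := d20_1 D5319 (iv D5319) F12129
theorem F16563 : act 4 n5319 = n3922 := d23_1 D5319 (iv D3922) (iv F12130)
theorem F16564 : act 7 n5319 = n4286 := d27_2 D3918 D5319 (iv D4286) (iv D3063) (iv F8479)
def n5320 : Q := act 5 n3919
theorem D5320 : act 5 n3919 = n5320 := rfl
theorem F16565 : act 0 n5320 = n5320 := d4_1 D5320 (iv D5320) F12132
theorem F16566 : act 3 n5320 = n5320 := d19_1 D5320 (iv D5320) F12134
theorem F16567 : act 4 n5320 = n3925 := d22_1 D5320 (iv D3925) (iv F12135)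
theorem F16568 : act 7 n5320 = n4359 := d26_2 (iv F12136) D5320 (iv D4359)
def n5321 : Q := act 6 n3920
theorem D5321 : act 6 n3920 = n5321 := rfl
theorem F16569 : act 0 n5321 = n5321 := d5_1 D5321 (iv D5321) F12137
theorem F16570 : act 1 n5321 = n5321 := d11_1 D5321 (iv D5321) F12138
theorem F16571 : act 3 n5321 = n5321 := d20_1 D5321 (iv D5321) F12139
theorem F16572 : act 4 n5321 = n4286 := d23_1 D5321 (iv D4286) (iv F12140)
theorem F16573 : act 7 n5321 = n3922 := d27_2 D3920 D5321 (iv D3922) (iv D2756) D2755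
def n5322 : Q := act 2 n3921
theorem D5322 : act 2 n3921 = n5322 := rfl
theorem F16574 : act 0 n5322 = n5322 := d1_1 D5322 (iv D5322) F12142
theorem F16575 : act 4 n5322 = n5322 := d14_2 F12144 D5322 (iv D5322)
theorem F16576 : act 5 n5322 = n3923 := d15_2 (iv F12145) D5322 (iv D3923)
theorem F16577 : act 7 n5322 = n3926 := d17_2 (iv F12146) D5322 (iv D3926)
def n5323 : Q := act 6 n3921
theorem D5323 : act 6 n3921 = n5323 := rfl
theorem F16578 : act 0 n5323 = n5323 := d5_1 D5323 (iv D5323) F12142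
theorem F16579 : act 1 n5323 = n5323 := d11_1 D5323 (iv D5323) F12143
theorem F16580 : act 3 n5323 = n3922 := d20_1 D5323 (iv D3922) D3921
theorem F16581 : act 4 n5323 = n5323 := d23_1 D5323 (iv D5323) F12144
theorem F16582 : act 7 n5323 = n5323 := d27_2 (iv F12146) D5323 (iv D5323) F12146 F8502
def n5324 : Q := act 5 n3922
theorem D5324 : act 5 n3922 = n5324 := rfl
theorem F16583 : act 0 n5324 = n5324 := d4_1 D5324 (iv D5324) F12147
theorem F16584 : act 6 n5324 = n3925 := d25_2 D3922 D5324 (iv D3925) (iv D2758) (iv F8491)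
def n5325 : Q := act 1 n3923
theorem D5325 : act 1 n3923 = n5325 := rfl
theorem F16585 : act 2 n5325 = n3931 := d7_2 D3923 D5325 (iv D3931) (iv D2763) (iv F8493)
theorem F16586 : act 4 n5325 = n5325 := d9_2 F12150 D5325 (iv D5325)
theorem F16587 : act 7 n5325 = n3927 := d12_2 (iv F12151) D5325 (iv D3927)
def n5326 : Q := act 6 n3923
theorem D5326 : act 6 n3923 = n5326 := rfl
theorem F16588 : act 0 n5326 = n5326 := d5_1 D5326 (iv D5326) F12149
theorem F16589 : act 2 n5326 = n3924 := d16_1 D5326 (iv D3924) D3923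
theorem F16590 : act 4 n5326 = n5326 := d23_1 D5326 (iv D5326) F12150
def n5327 : Q := act 5 n3924
theorem D5327 : act 5 n3924 = n5327 := rfl
theorem F16591 : act 0 n5327 = n5327 := d4_1 D5327 (iv D5327) F12152
theorem F16592 : act 3 n5327 = n3925 := d19_1 D5327 (iv D3925) (iv F12154)
theorem F16593 : act 4 n5327 = n5327 := d22_1 D5327 (iv D5327) F12155
def n5328 : Q := act 7 n3924
theorem D5328 : act 7 n3924 = n5328 := rfl
theorem F16594 : act 0 n5328 = n5328 := d6_1 D5328 (iv D5328) F12152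
theorem F16595 : act 1 n5328 = n3934 := d12_1 D5328 (iv D3934) (iv F12153)
theorem F16596 : act 4 n5328 = n5328 := d24_1 D5328 (iv D5328) F12155
theorem F16597 : act 6 n5328 = n3929 := d27_1 D5328 (iv D3929) (iv D2761) (iv F8495) D3924
def n5329 : Q := act 1 n3925
theorem D5329 : act 1 n3925 = n5329 := rfl
theorem F16598 : act 5 n5329 = n3935 := d10_2 D3925 D5329 (iv D3935) (iv D2765) (iv F8497)
def n5330 : Q := act 1 n3926
theorem D5330 : act 1 n3926 = n5330 := rfl
theorem F16599 : act 2 n5330 = n5330 := d7_2 D3926 D5330 (iv D5330) (iv D3926) F8499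
theorem F16600 : act 3 n5330 = n4366 := d8_2 (iv F12158) D5330 (iv D4366)
theorem F16601 : act 4 n5330 = n5330 := d9_2 F12159 D5330 (iv D5330)
theorem F16602 : act 6 n5330 = n5330 := d11_2 F12161 D5330 (iv D5330)
theorem F16603 : act 0 n4305 = n5330 := d2_3 F16600 (iv F15174) (iv F15180)
theorem F16604 : act 5 n5330 = n4304 := d4_2 D4305 F16603 (iv D4304)
theorem F16605 : act 7 n5330 = n4306 := d6_2 (iv F13322) F16603 F13323
theorem F16606 : act 1 n4306 = n5322 := d12_1 F16605 F16577 D5330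
theorem F16607 : act 3 n5322 = n4308 := d8_2 (iv F13325) F16606 (iv D4308)
theorem F16608 : act 5 n5325 = n4292 := d10_4 D4306 F16606 F16576 D5325 F13278
theorem F16609 : act 0 n4293 = n5325 := d4_3 F16608 (iv D4292) D4293
theorem F16610 : act 3 n4295 = n5325 := d19_3 F16608 F13279 D4295
theorem F16611 : act 1 n5315 = n4295 := d8_3 F16610 (iv D5325) (iv F16552)
theorem F16612 : act 5 n4308 = n5315 := d10_0 F16611 (iv D4295) F9467 D3082 D4308
theorem F16613 : act 2 n5313 = n4308 := d15_3 F16612 (iv D5315) (iv F16547)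
theorem F16614 : act 1 n4314 = n5313 := d7_5 F16613 (iv D4308) F9503 D3088 D4314
theorem F16615 : act 3 n5312 = n4314 := d8_0 F16614 (iv D5313) (iv F16544)
theorem F16616 : act 0 n4329 = n5312 := d2_3 F16615 F13351 D4329
theorem F16617 : act 7 n5311 = n4329 := d6_0 F16616 (iv D5312) D5311
def n5331 : Q := act 0 n3927
theorem D5331 : act 0 n3927 = n5331 := rfl
theorem F16618 : act 1 n5331 = n5331 := d0_2 D3927 D5331 (iv D5331) (iv D3927) F8503
theorem F16619 : act 2 n5331 = n3936 := d1_2 (iv F12162) D5331 (iv D3936)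
theorem F16620 : act 3 n5331 = n4367 := d2_2 (iv F12163) D5331 (iv D4367)
theorem F16621 : act 4 n5331 = n5331 := d3_2 F12164 D5331 (iv D5331)
theorem F16622 : act 7 n5331 = n4293 := d6_2 F16587 D5331 F16609
theorem F16623 : act 5 n4291 = n5331 := d26_3 F16622 (iv D4293) (iv F13277)
def n5332 : Q := act 5 n3927
theorem D5332 : act 5 n3927 = n5332 := rfl
theorem F16624 : act 0 n5332 = n4291 := d4_1 D5332 F16623 (iv D5331)
theorem F16625 : act 1 n5332 = n4304 := d10_1 D5332 (iv F16604) (iv D5330) F12160 D3927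
theorem F16626 : act 2 n5332 = n3937 := d15_1 D5332 (iv D3937) (iv F12162)
theorem F16627 : act 3 n5332 = n4369 := d19_1 D5332 (iv D4369) (iv F12163)
theorem F16628 : act 4 n5332 = n5332 := d22_1 D5332 (iv D5332) F12164
theorem F16629 : act 7 n5332 = n4292 := d26_2 F16587 D5332 (iv F16608)
def n5333 : Q := act 6 n3927
theorem D5333 : act 6 n3927 = n5333 := rfl
theorem F16630 : act 1 n5333 = n3928 := d11_1 D5333 (iv D3928) D3927
theorem F16631 : act 2 n5333 = n3938 := d16_1 D5333 (iv D3938) (iv F12162)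
theorem F16632 : act 3 n5333 = n4370 := d20_1 D5333 (iv D4370) (iv F12163)
theorem F16633 : act 4 n5333 = n5333 := d23_1 D5333 (iv D5333) F12164
def n5334 : Q := act 7 n3928
theorem D5334 : act 7 n3928 = n5334 := rfl
theorem F16634 : act 0 n5334 = n5334 := d6_1 D5334 (iv D5334) F12165
theorem F16635 : act 2 n5334 = n3929 := d17_1 D5334 (iv D3929) (iv F12166)
theorem F16636 : act 4 n5334 = n5334 := d24_1 D5334 (iv D5334) F12168
theorem F16637 : act 5 n5334 = n5334 := d26_1 D5334 (iv D5334) F12169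
def n5335 : Q := act 1 n3930
theorem D5335 : act 1 n3930 = n5335 := rfl
theorem F16638 : act 3 n5335 = n5335 := d8_2 F12175 D5335 (iv D5335)
theorem F16639 : act 4 n5335 = n3935 := d9_2 (iv F12176) D5335 (iv D3935)
theorem F16640 : act 6 n5335 = n5335 := d11_2 F12177 D5335 (iv D5335)
theorem F16641 : act 7 n5335 = n4600 := d12_2 (iv F12178) D5335 (iv D4600)
def n5336 : Q := act 0 n3931
theorem D5336 : act 0 n3931 = n5336 := rfl
theorem F16642 : act 1 n5336 = n3952 := d0_2 D3931 D5336 (iv D3952) (iv D2779) (iv F8515)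
theorem F16643 : act 2 n5336 = n4293 := d1_2 F16585 D5336 F16609
theorem F16644 : act 4 n5336 = n5336 := d3_2 F12179 D5336 (iv D5336)
theorem F16645 : act 7 n5336 = n3936 := d6_2 (iv F12180) D5336 (iv D3936)
theorem F16646 : act 5 n4290 = n5336 := d15_0 F16643 (iv D4293) (iv F13274)
def n5337 : Q := act 5 n3931
theorem D5337 : act 5 n3931 = n5337 := rfl
theorem F16647 : act 0 n5337 = n4290 := d4_1 D5337 F16646 (iv D5336)
theorem F16648 : act 1 n5337 = n5337 := d10_1 D5337 (iv D5337) (iv D3931) F8517 D3931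
theorem F16649 : act 2 n5337 = n4292 := d15_1 D5337 (iv F16608) F16585
theorem F16650 : act 4 n5337 = n5337 := d22_1 D5337 (iv D5337) F12179
theorem F16651 : act 7 n5337 = n3937 := d26_2 (iv F12180) D5337 (iv D3937)
def n5338 : Q := act 6 n3931
theorem D5338 : act 6 n3931 = n5338 := rfl
theorem F16652 : act 1 n5338 = n3932 := d11_1 D5338 (iv D3932) D3931
theorem F16653 : act 4 n5338 = n5338 := d23_1 D5338 (iv D5338) F12179
def n5339 : Q := act 1 n3933
theorem D5339 : act 1 n3933 = n5339 := rfl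
theorem F16654 : act 3 n5339 = n3935 := d8_2 (iv F12185) D5339 (iv D3935)
theorem F16655 : act 4 n5339 = n5339 := d9_2 F12186 D5339 (iv D5339)
theorem F16656 : act 6 n5339 = n5339 := d11_2 F12187 D5339 (iv D5339)
def n5340 : Q := act 0 n3935
theorem D5340 : act 0 n3935 = n5340 := rfl
theorem F16657 : act 1 n5340 = n3956 := d0_2 D3935 D5340 (iv D3956) (iv D2783) (iv F8522)
theorem F16658 : act 6 n5340 = n5340 := d5_2 F12191 D5340 (iv D5340)
def n5341 : Q := act 2 n3935
theorem D5341 : act 2 n3935 = n5341 := rfl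
theorem F16659 : act 6 n5341 = n5341 := d16_2 F12191 D5341 (iv D5341)
def n5342 : Q := act 5 n3936
theorem D5342 : act 5 n3936 = n5342 := rfl
theorem F16660 : act 0 n5342 = n3937 := d4_1 D5342 (iv D3937) D3936
theorem F16661 : act 2 n5342 = n4291 := d15_1 D5342 F16623 F16619
theorem F16662 : act 3 n5342 = n3940 := d19_1 D5342 (iv D3940) (iv F12193)
theorem F16663 : act 4 n5342 = n5342 := d22_1 D5342 (iv D5342) F12194
theorem F16664 : act 7 n5342 = n4290 := d26_2 F16645 D5342 F16646
theorem F16665 : act 1 n4287 = n5342 := d12_3 F16664 (iv D4290) (iv F13266)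
def n5343 : Q := act 6 n3936
theorem D5343 : act 6 n3936 = n5343 := rfl
theorem F16666 : act 0 n5343 = n3938 := d5_1 D5343 (iv D3938) D3936
theorem F16667 : act 1 n5343 = n3959 := d11_1 D5343 (iv D3959) (iv F12192)
theorem F16668 : act 3 n5343 = n3941 := d20_1 D5343 (iv D3941) (iv F12193)
theorem F16669 : act 4 n5343 = n5343 := d23_1 D5343 (iv D5343) F12194
theorem F16670 : act 7 n5293 = n5343 := d12_0 F16667 (iv F12282) D5293
def n5344 : Q := act 6 n3937
theorem D5344 : act 6 n3937 = n5344 := rfl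
theorem F16671 : act 1 n5344 = n5344 := d11_1 D5344 (iv D5344) F12195
theorem F16672 : act 3 n5344 = n3943 := d20_1 D5344 (iv D3943) (iv F12196)
theorem F16673 : act 4 n5344 = n5344 := d23_1 D5344 (iv D5344) F12197
def n5345 : Q := act 5 n3939
theorem D5345 : act 5 n3939 = n5345 := rfl
theorem F16674 : act 0 n5345 = n3942 := d4_1 D5345 (iv D3942) (iv F12201)
theorem F16675 : act 2 n5345 = n4386 := d15_1 D5345 (iv D4386) (iv F12203)
theorem F16676 : act 3 n5345 = n5345 := d19_1 D5345 (iv D5345) F12204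
theorem F16677 : act 4 n5345 = n3940 := d22_1 D5345 (iv D3940) D3939
def n5346 : Q := act 1 n3940
theorem D5346 : act 1 n3940 = n5346 := rfl
theorem F16678 : act 0 n5346 = n5346 := d0_1 D5346 (iv D5346) F12206 F8543 (iv F12206)
theorem F16679 : act 3 n5346 = n4287 := d8_2 F16662 D5346 F16665
theorem F16680 : act 5 n5346 = n3962 := d10_2 D3940 D5346 (iv D3962) (iv D2788) (iv F8537)
theorem F16681 : act 2 n4282 = n5346 := d13_5 F16679 (iv D4287) (iv D3064) (iv F9435) D4282
def n5347 : Q := act 6 n3940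
theorem D5347 : act 6 n3940 = n5347 := rfl
theorem F16682 : act 0 n5347 = n3943 := d5_1 D5347 (iv D3943) (iv F12206)
theorem F16683 : act 2 n5347 = n4388 := d16_1 D5347 (iv D4388) (iv F12207)
def n5348 : Q := act 5 n3941
theorem D5348 : act 5 n3941 = n5348 := rfl
theorem F16684 : act 0 n5348 = n3944 := d4_1 D5348 (iv D3944) (iv F12208)
theorem F16685 : act 2 n5348 = n4389 := d15_1 D5348 (iv D4389) (iv F12210)
theorem F16686 : act 4 n5348 = n4609 := d22_1 D5348 (iv D4609) (iv F12211)
def n5349 : Q := act 7 n3941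
theorem D5349 : act 7 n3941 = n5349 := rfl
theorem F16687 : act 0 n5349 = n3945 := d6_1 D5349 (iv D3945) (iv F12208)
theorem F16688 : act 1 n5349 = n3965 := d12_1 D5349 (iv D3965) (iv F12209)
theorem F16689 : act 2 n5349 = n4390 := d17_1 D5349 (iv D4390) (iv F12210)
theorem F16690 : act 3 n5349 = n5033 := d21_1 D5349 F15615 (iv F16482) F16670 F16668
theorem F16691 : act 4 n5349 = n4601 := d24_1 D5349 F14254 (iv F12211)
def n5350 : Q := act 6 n3942
theorem D5350 : act 6 n3942 = n5350 := rfl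
theorem F16692 : act 1 n5350 = n5350 := d11_1 D5350 (iv D5350) F12212
theorem F16693 : act 2 n5350 = n4391 := d16_1 D5350 (iv D4391) (iv F12213)
theorem F16694 : act 3 n5350 = n5350 := d20_1 D5350 (iv D5350) F12214
theorem F16695 : act 4 n5350 = n3943 := d23_1 D5350 (iv D3943) (iv F12215)
theorem F16696 : act 5 n5350 = n4610 := d25_1 D5350 (iv D4610) (iv D3327) F8542 D3942
def n5351 : Q := act 5 n3943
theorem D5351 : act 5 n3943 = n5351 := rfl
theorem F16697 : act 2 n5351 = n4392 := d15_1 D5351 (iv D4392) (iv F12217)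
theorem F16698 : act 4 n5351 = n4610 := d22_1 D5351 (iv F16696) F16695
theorem F16699 : act 6 n5351 = n3944 := d25_2 D3943 D5351 (iv D3944) (iv D2773) D2772
def n5352 : Q := act 7 n3943
theorem D5352 : act 7 n3943 = n5352 := rfl
theorem F16700 : act 1 n5352 = n5352 := d12_1 D5352 (iv D5352) F12216
theorem F16701 : act 2 n5352 = n4393 := d17_1 D5352 (iv D4393) (iv F12217)
def n5353 : Q := act 7 n3944
theorem D5353 : act 7 n3944 = n5353 := rfl
theorem F16702 : act 2 n5353 = n4394 := d17_1 D5353 (iv D4394) (iv F12218)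
theorem F16703 : act 4 n5353 = n4602 := d24_1 D5353 F14260 (iv F12219)
theorem F16704 : act 5 n5353 = n3945 := d26_1 D5353 (iv D3945) D3944
def n5354 : Q := act 3 n3945
theorem D5354 : act 3 n3945 = n5354 := rfl
theorem F16705 : act 0 n5354 = n5033 := d2_1 D5354 (iv F16690) F16687
theorem F16706 : act 1 n5354 = n3947 := d8_1 D5354 (iv D3947) (iv F12220)
theorem F16707 : act 4 n5354 = n5031 := d18_2 (iv F12222) D5354 (iv F16088) F16089 F14220
theorem F16708 : act 7 n5354 = n5285 := d21_2 D3945 D5354 F16451 F15120 F12199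
def n5355 : Q := act 6 n3946
theorem D5355 : act 6 n3946 = n5355 := rfl
theorem F16709 : act 0 n5355 = n3969 := d5_1 D5355 (iv D3969) (iv F12223)
theorem F16710 : act 2 n5355 = n3950 := d16_1 D5355 (iv D3950) (iv F12224)
theorem F16711 : act 3 n5355 = n5030 := d20_1 D5355 (iv D5030) (iv F12225)
theorem F16712 : act 4 n5355 = n4598 := d23_1 D5355 (iv D4598) (iv F12226)
theorem F16713 : act 7 n5355 = n5355 := d27_2 D3946 D5355 (iv D5355) (iv D3946) F8551
def n5356 : Q := act 7 n3948
theorem D5356 : act 7 n3948 = n5356 := rfl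
theorem F16714 : act 0 n5356 = n5356 := d6_1 D5356 (iv D5356) F12232
theorem F16715 : act 2 n5356 = n3949 := d17_1 D5356 (iv D3949) D3948
theorem F16716 : act 4 n5356 = n4357 := d24_1 D5356 F13474 (iv F12234)
theorem F16717 : act 5 n5356 = n4361 := d26_1 D5356 F13485 (iv F12235)
def n5357 : Q := act 6 n3949
theorem D5357 : act 6 n3949 = n5357 := rfl
theorem F16718 : act 0 n5357 = n5357 := d5_1 D5357 (iv D5357) F12237
theorem F16719 : act 1 n5357 = n3950 := d11_1 D5357 (iv D3950) (iv F12238)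
theorem F16720 : act 4 n5357 = n4358 := d23_1 D5357 (iv D4358) (iv F12239)
theorem F16721 : act 7 n5357 = n5357 := d27_2 D3949 D5357 (iv D5357) (iv D3949) F8559
def n5358 : Q := act 0 n3951
theorem D5358 : act 0 n3951 = n5358 := rfl
theorem F16722 : act 3 n5358 = n5358 := d2_2 F12244 D5358 (iv D5358)
theorem F16723 : act 4 n5358 = n3956 := d3_2 (iv F12245) D5358 (iv D3956)
theorem F16724 : act 5 n5358 = n5358 := d4_2 F12246 D5358 (iv D5358)
theorem F16725 : act 6 n5358 = n5358 := d5_2 F12247 D5358 (iv D5358)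
theorem F16726 : act 7 n5358 = n4750 := d6_2 (iv F12248) D5358 (iv D4750)
def n5359 : Q := act 2 n3951
theorem D5359 : act 2 n3951 = n5359 := rfl
theorem F16727 : act 4 n5359 = n3957 := d14_2 (iv F12245) D5359 (iv D3957)
theorem F16728 : act 5 n5359 = n5359 := d15_2 F12246 D5359 (iv D5359)
theorem F16729 : act 6 n5359 = n5359 := d16_2 F12247 D5359 (iv D5359)
theorem F16730 : act 7 n5359 = n4751 := d17_2 (iv F12248) D5359 (iv D4751)
def n5360 : Q := act 5 n3952
theorem D5360 : act 5 n3952 = n5360 := rfl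
theorem F16731 : act 0 n5360 = n3953 := d4_1 D5360 (iv D3953) D3952
theorem F16732 : act 1 n5360 = n4289 := d10_1 D5360 F13272 D4290 F16646 F16642
theorem F16733 : act 2 n5360 = n5360 := d15_1 D5360 (iv D5360) F12249
theorem F16734 : act 3 n5360 = n4444 := d19_1 D5360 (iv F15799) F15798
theorem F16735 : act 4 n5360 = n5360 := d22_1 D5360 (iv D5360) F12250
theorem F16736 : act 7 n5360 = n3958 := d26_2 (iv F12251) D5360 (iv D3958)
theorem F16737 : act 6 n5360 = n5360 := d20_0 F16734 F13736 (iv F16734)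
def n5361 : Q := act 6 n3952
theorem D5361 : act 6 n3952 = n5361 := rfl
theorem F16738 : act 0 n5361 = n3954 := d5_1 D5361 (iv D3954) D3952
theorem F16739 : act 2 n5361 = n5361 := d16_1 D5361 (iv D5361) F12249
theorem F16740 : act 4 n5361 = n5361 := d23_1 D5361 (iv D5361) F12250
theorem F16741 : act 5 n5361 = n5361 := d25_1 D5361 (iv D5361) D5360 F16737 (iv D5360)
theorem F16742 : act 7 n5361 = n5294 := d27_2 (iv F12251) D5361 (iv D5294) F12282 (iv D3959)
def n5362 : Q := act 0 n3955
theorem D5362 : act 0 n3955 = n5362 := rfl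
theorem F16743 : act 2 n5362 = n5362 := d1_2 F12262 D5362 (iv D5362)
theorem F16744 : act 3 n5362 = n3956 := d2_2 (iv F12263) D5362 (iv D3956)
theorem F16745 : act 4 n5362 = n5362 := d3_2 F12264 D5362 (iv D5362)
theorem F16746 : act 5 n5362 = n5362 := d4_2 F12265 D5362 (iv D5362)
theorem F16747 : act 6 n5362 = n5362 := d5_2 F12266 D5362 (iv D5362)
theorem F16748 : act 7 n5362 = n5207 := d6_2 (iv F12267) D5362 F16188
def n5363 : Q := act 2 n3956
theorem D5363 : act 2 n3956 = n5363 := rfl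
theorem F16749 : act 0 n5363 = n3957 := d1_1 D5363 (iv D3957) D3956
theorem F16750 : act 3 n5363 = n5363 := d13_2 F16744 D5363 (iv D5363) (iv F16744) F16743
theorem F16751 : act 5 n5363 = n5363 := d15_2 F12268 D5363 (iv D5363)
theorem F16752 : act 6 n5363 = n5363 := d16_2 F12269 D5363 (iv D5363)
def n5364 : Q := act 1 n3958
theorem D5364 : act 1 n3958 = n5364 := rfl
theorem F16753 : act 0 n5364 = n5364 := d0_1 D5364 (iv D5364) F12273 F8583 (iv F12273)
theorem F16754 : act 3 n5364 = n3962 := d8_2 (iv F12275) D5364 (iv D3962)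
theorem F16755 : act 4 n5364 = n5364 := d9_2 F12276 D5364 (iv D5364)
theorem F16756 : act 5 n5364 = n4287 := d10_2 D3958 D5364 F16665 (iv D5342) F12192
theorem F16757 : act 7 n5364 = n4289 := d12_2 F16736 D5364 (iv F16732)
theorem F16758 : act 2 n4285 = n5364 := d17_3 F16757 (iv D4289) (iv F13261)
def n5365 : Q := act 6 n3958
theorem D5365 : act 6 n3958 = n5365 := rfl
theorem F16759 : act 0 n5365 = n3960 := d5_1 D5365 (iv D3960) (iv F12273)
theorem F16760 : act 2 n5365 = n5365 := d16_1 D5365 (iv D5365) F12274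
theorem F16761 : act 3 n5365 = n3963 := d20_1 D5365 (iv D3963) (iv F12275)
theorem F16762 : act 4 n5365 = n5365 := d23_1 D5365 (iv D5365) F12276
theorem F16763 : act 5 n5365 = n5295 := d25_1 D5365 (iv D5295) F12281 (iv D3959) D3958
theorem F16764 : act 7 n5365 = n5365 := d27_2 F16736 D5365 (iv D5365) (iv F16736) F16737
def n5366 : Q := act 1 n3961
theorem D5366 : act 1 n3961 = n5366 := rfl
theorem F16765 : act 0 n5366 = n5366 := d0_1 D5366 (iv D5366) F12289 F8602 (iv F12289)
theorem F16766 : act 3 n5366 = n5366 := d8_2 F12291 D5366 (iv D5366)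
theorem F16767 : act 4 n5366 = n3962 := d9_2 (iv F12292) D5366 (iv D3962)
def n5367 : Q := act 6 n3961
theorem D5367 : act 6 n3961 = n5367 := rfl
theorem F16768 : act 0 n5367 = n3966 := d5_1 D5367 (iv D3966) (iv F12289)
theorem F16769 : act 2 n5367 = n3971 := d16_1 D5367 (iv D3971) (iv F12290)
theorem F16770 : act 3 n5367 = n5367 := d20_1 D5367 (iv D5367) F12291
theorem F16771 : act 4 n5367 = n3963 := d23_1 D5367 (iv D3963) (iv F12292)
theorem F16772 : act 5 n5367 = n4758 := d25_1 D5367 (iv D4758) (iv D3440) F8596 D3961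
def n5368 : Q := act 2 n3962
theorem D5368 : act 2 n3962 = n5368 := rfl
theorem F16773 : act 0 n5368 = n5368 := d1_1 D5368 (iv D5368) F12293
theorem F16774 : act 1 n5368 = n3972 := d7_1 D5368 (iv D3972) (iv D2798) (iv F8598) D3962
theorem F16775 : act 3 n5368 = n4281 := d13_2 F16754 D5368 F13246 D4285 F16758
theorem F16776 : act 5 n5368 = n4282 := d15_2 F16680 D5368 F16681
theorem F16777 : act 7 n5368 = n4344 := d17_2 F15851 D5368 F15852
def n5369 : Q := act 6 n3962
theorem D5369 : act 6 n3962 = n5369 := rfl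
theorem F16778 : act 0 n5369 = n5369 := d5_1 D5369 (iv D5369) F12293
theorem F16779 : act 1 n5369 = n3963 := d11_1 D5369 (iv D3963) D3962
def n5370 : Q := act 5 n3963
theorem D5370 : act 5 n3963 = n5370 := rfl
theorem F16780 : act 0 n5370 = n3967 := d4_1 D5370 (iv D3967) (iv F12294)
theorem F16781 : act 2 n5370 = n3974 := d15_1 D5370 (iv D3974) (iv F12295)
theorem F16782 : act 3 n5370 = n5295 := d19_1 D5370 (iv F16763) F16761
theorem F16783 : act 4 n5370 = n4758 := d22_1 D5370 (iv F16772) F16771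
theorem F16784 : act 6 n5370 = n3964 := d25_2 D3963 D5370 (iv D3964) (iv D2789) D2788
def n5371 : Q := act 7 n3963
theorem D5371 : act 7 n3963 = n5371 := rfl
theorem F16785 : act 0 n5371 = n3968 := d6_1 D5371 (iv D3968) (iv F12294)
theorem F16786 : act 2 n5371 = n3975 := d17_1 D5371 (iv D3975) (iv F12295)
theorem F16787 : act 3 n5371 = n5371 := d21_1 D5371 (iv D5371) (iv F16761) F16764 F16761
def n5372 : Q := act 2 n3970
theorem D5372 : act 2 n3970 = n5372 := rfl
theorem F16788 : act 0 n5372 = n3987 := d1_1 D5372 (iv D3987) (iv F12324)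
theorem F16789 : act 4 n5372 = n3972 := d14_2 (iv F12326) D5372 (iv D3972)
theorem F16790 : act 5 n5372 = n4408 := d15_2 (iv F12327) D5372 (iv D4408)
def n5373 : Q := act 6 n3970
theorem D5373 : act 6 n3970 = n5373 := rfl
theorem F16791 : act 0 n5373 = n3988 := d5_1 D5373 (iv D3988) (iv F12324)
theorem F16792 : act 1 n5373 = n3971 := d11_1 D5373 (iv D3971) D3970
theorem F16793 : act 3 n5373 = n4779 := d20_1 D5373 F14766 (iv F12325)
theorem F16794 : act 4 n5373 = n3973 := d23_1 D5373 (iv D3973) (iv F12326)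
def n5374 : Q := act 7 n3971
theorem D5374 : act 7 n3971 = n5374 := rfl
theorem F16795 : act 0 n5374 = n3978 := d6_1 D5374 (iv D3978) (iv F12328)
theorem F16796 : act 4 n5374 = n3975 := d24_1 D5374 (iv D3975) (iv F12330)
theorem F16797 : act 5 n5374 = n4774 := d26_1 D5374 (iv D4774) (iv F12331)
def n5375 : Q := act 3 n3972
theorem D5375 : act 3 n3972 = n5375 := rfl
theorem F16798 : act 0 n5375 = n3990 := d2_1 D5375 (iv D3990) (iv F12332)
theorem F16799 : act 1 n5375 = n4281 := d8_1 D5375 (iv F16775) F16774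
theorem F16800 : act 2 n5375 = n5375 := d13_1 D5375 (iv D5375) (iv D3972) F8634 D3972
theorem F16801 : act 5 n5375 = n4411 := d19_2 (iv F12333) D5375 (iv D4411)
theorem F16802 : act 7 n5375 = n4145 := d21_2 F15969 D5375 (iv D4145) D4147 (iv F15967)
def n5376 : Q := act 6 n3972
theorem D5376 : act 6 n3972 = n5376 := rfl
theorem F16803 : act 0 n5376 = n3991 := d5_1 D5376 (iv D3991) (iv F12332)
theorem F16804 : act 2 n5376 = n3973 := d16_1 D5376 (iv D3973) D3972
def n5377 : Q := act 5 n3973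
theorem D5377 : act 5 n3973 = n5377 := rfl
theorem F16805 : act 0 n5377 = n3992 := d4_1 D5377 (iv D3992) (iv F12334)
theorem F16806 : act 3 n5377 = n5377 := d19_1 D5377 (iv D5377) F12336
theorem F16807 : act 6 n5377 = n4413 := d25_2 D3973 D5377 (iv D4413) (iv D3166) (iv F8635)
def n5378 : Q := act 7 n3973
theorem D5378 : act 7 n3973 = n5378 := rfl
theorem F16808 : act 0 n5378 = n3993 := d6_1 D5378 (iv D3993) (iv F12334)
theorem F16809 : act 1 n5378 = n3975 := d12_1 D5378 (iv D3975) (iv F12335)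
def n5379 : Q := act 1 n3974
theorem D5379 : act 1 n3974 = n5379 := rfl
theorem F16810 : act 0 n5379 = n5379 := d0_1 D5379 (iv D5379) F12337 F8649 (iv F12337)
theorem F16811 : act 3 n5379 = n5379 := d8_2 F12338 D5379 (iv D5379)
theorem F16812 : act 4 n5379 = n4773 := d9_2 (iv F12339) D5379 F14747
theorem F16813 : act 6 n5379 = n3976 := d11_2 (iv F12340) D5379 (iv D3976)
def n5380 : Q := act 7 n3974
theorem D5380 : act 7 n3974 = n5380 := rfl
theorem F16814 : act 0 n5380 = n3979 := d6_1 D5380 (iv D3979) (iv F12337)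
theorem F16815 : act 4 n5380 = n4774 := d24_1 D5380 (iv D4774) (iv F12339)
theorem F16816 : act 5 n5380 = n3975 := d26_1 D5380 (iv D3975) D3974
theorem F16817 : act 6 n5380 = n4912 := d27_1 D5380 F15201 F12353 (iv D3977) (iv F12340)
theorem F16818 : act 3 n4913 = n5380 := d20_3 F16817 (iv D4912) D4913
def n5381 : Q := act 3 n3975
theorem D5381 : act 3 n3975 = n5381 := rfl
theorem F16819 : act 0 n5381 = n3980 := d2_1 D5381 (iv D3980) (iv F12341)
theorem F16820 : act 2 n5381 = n5381 := d13_1 D5381 (iv D5381) (iv F16786) F16787 F16786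
theorem F16821 : act 5 n5381 = n4913 := d19_2 F16816 D5381 F16818
theorem F16822 : act 6 n5381 = n4931 := d20_2 F15977 D5381 F15978
theorem F16823 : act 7 n5381 = n5381 := d21_2 D3975 D5381 (iv D5381) (iv D3975) F8637
def n5382 : Q := act 3 n3978
theorem D5382 : act 3 n3978 = n5382 := rfl
theorem F16824 : act 1 n5382 = n4002 := d8_1 D5382 (iv D4002) (iv F12354)
theorem F16825 : act 5 n5382 = n4775 := d19_2 (iv F12356) D5382 (iv D4775)
theorem F16826 : act 7 n5382 = n4787 := d21_2 D3978 D5382 (iv D4787) (iv D3467) (iv F8646)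
def n5383 : Q := act 4 n3980
theorem D5383 : act 4 n3980 = n5383 := rfl
theorem F16827 : act 1 n5383 = n4004 := d9_1 D5383 (iv D4004) (iv F12362)
theorem F16828 : act 2 n5383 = n5383 := d14_1 D5383 (iv D5383) F12363
theorem F16829 : act 5 n5383 = n4915 := d22_2 (iv F12364) D5383 F15211
theorem F16830 : act 6 n5383 = n4943 := d23_2 (iv F12365) D5383 F15298
theorem F16831 : act 7 n5383 = n5383 := d24_2 F12366 D5383 (iv D5383)
def n5384 : Q := act 1 n3981
theorem D5384 : act 1 n3981 = n5384 := rfl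
theorem F16832 : act 0 n5384 = n5384 := d0_1 D5384 (iv D5384) F12367 F8701 (iv F12367)
theorem F16833 : act 3 n5384 = n5384 := d8_2 F12369 D5384 (iv D5384)
theorem F16834 : act 4 n5384 = n5384 := d9_2 F12370 D5384 (iv D5384)
theorem F16835 : act 5 n5384 = n5384 := d10_2 D3981 D5384 (iv D5384) (iv D3981) F8678
def n5385 : Q := act 6 n3981
theorem D5385 : act 6 n3981 = n5385 := rfl
theorem F16836 : act 0 n5385 = n3995 := d5_1 D5385 (iv D3995) (iv F12367)
theorem F16837 : act 2 n5385 = n3984 := d16_1 D5385 (iv D3984) (iv F12368)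
theorem F16838 : act 3 n5385 = n5385 := d20_1 D5385 (iv D5385) F12369
theorem F16839 : act 4 n5385 = n5385 := d23_1 D5385 (iv D5385) F12370
theorem F16840 : act 5 n5385 = n5385 := d25_1 D5385 (iv D5385) (iv D3981) F8681 D3981
def n5386 : Q := act 7 n3981
theorem D5386 : act 7 n3981 = n5386 := rfl
theorem F16841 : act 0 n5386 = n3996 := d6_1 D5386 (iv D3996) (iv F12367)
theorem F16842 : act 2 n5386 = n3985 := d17_1 D5386 (iv D3985) (iv F12368)
theorem F16843 : act 4 n5386 = n5386 := d24_1 D5386 (iv D5386) F12370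
theorem F16844 : act 5 n5386 = n3982 := d26_1 D5386 (iv D3982) D3981
def n5387 : Q := act 3 n3982
theorem D5387 : act 3 n3982 = n5387 := rfl
theorem F16845 : act 0 n5387 = n3997 := d2_1 D5387 (iv D3997) (iv F12371)
theorem F16846 : act 1 n5387 = n5387 := d8_1 D5387 (iv D5387) F12372
theorem F16847 : act 7 n5387 = n5387 := d21_2 D3982 D5387 (iv D5387) (iv D3982) F8679
def n5388 : Q := act 6 n3982
theorem D5388 : act 6 n3982 = n5388 := rfl
theorem F16848 : act 0 n5388 = n3998 := d5_1 D5388 (iv D3998) (iv F12371)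
theorem F16849 : act 1 n5388 = n5388 := d11_1 D5388 (iv D5388) F12372
theorem F16850 : act 2 n5388 = n3986 := d16_1 D5388 (iv D3986) (iv F12373)
theorem F16851 : act 4 n5388 = n5388 := d23_1 D5388 (iv D5388) F12374
theorem F16852 : act 7 n5388 = n5388 := d27_2 D3982 D5388 (iv D5388) (iv D3982) F8681
def n5389 : Q := act 2 n3983
theorem D5389 : act 2 n3983 = n5389 := rfl
theorem F16853 : act 0 n5389 = n4782 := d1_1 D5389 (iv D4782) (iv F12375)
theorem F16854 : act 4 n5389 = n5389 := d14_2 F12377 D5389 (iv D5389)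
theorem F16855 : act 5 n5389 = n4418 := d15_2 (iv F12378) D5389 (iv D4418)
def n5390 : Q := act 6 n3983
theorem D5390 : act 6 n3983 = n5390 := rfl
theorem F16856 : act 0 n5390 = n4779 := d5_1 D5390 F14766 (iv F12375)
theorem F16857 : act 1 n5390 = n3984 := d11_1 D5390 (iv D3984) D3983
theorem F16858 : act 3 n5390 = n3988 := d20_1 D5390 (iv D3988) (iv F12376)
theorem F16859 : act 4 n5390 = n5390 := d23_1 D5390 (iv D5390) F12377
def n5391 : Q := act 7 n3983
theorem D5391 : act 7 n3983 = n5391 := rfl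
theorem F16860 : act 0 n5391 = n4783 := d6_1 D5391 (iv D4783) (iv F12375)
theorem F16861 : act 1 n5391 = n3985 := d12_1 D5391 (iv D3985) D3983
theorem F16862 : act 4 n5391 = n5391 := d24_1 D5391 (iv D5391) F12377
theorem F16863 : act 5 n5391 = n4420 := d26_1 D5391 (iv D4420) (iv F12378)
def n5392 : Q := act 7 n3984
theorem D5392 : act 7 n3984 = n5392 := rfl
theorem F16864 : act 0 n5392 = n3999 := d6_1 D5392 (iv D3999) (iv F12379)
theorem F16865 : act 4 n5392 = n5392 := d24_1 D5392 (iv D5392) F12381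
theorem F16866 : act 5 n5392 = n5392 := d26_1 D5392 (iv D5392) F12382
def n5393 : Q := act 6 n3985
theorem D5393 : act 6 n3985 = n5393 := rfl
theorem F16867 : act 0 n5393 = n4000 := d5_1 D5393 (iv D4000) (iv F12383)
theorem F16868 : act 4 n5393 = n5393 := d23_1 D5393 (iv D5393) F12384
def n5394 : Q := act 5 n3986
theorem D5394 : act 5 n3986 = n5394 := rfl
theorem F16869 : act 0 n5394 = n4001 := d4_1 D5394 (iv D4001) (iv F12386)
theorem F16870 : act 4 n5394 = n5394 := d22_1 D5394 (iv D5394) F12388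
theorem F16871 : act 7 n5394 = n5394 := d26_2 F12389 D5394 (iv D5394)
def n5395 : Q := act 3 n3987
theorem D5395 : act 3 n3987 = n5395 := rfl
theorem F16872 : act 1 n5395 = n5395 := d8_1 D5395 (iv D5395) F12390
theorem F16873 : act 5 n5395 = n4423 := d19_2 (iv F12392) D5395 (iv D4423)
def n5396 : Q := act 6 n3987
theorem D5396 : act 6 n3987 = n5396 := rfl
theorem F16874 : act 1 n5396 = n5396 := d11_1 D5396 (iv D5396) F12390
theorem F16875 : act 2 n5396 = n3988 := d16_1 D5396 (iv D3988) D3987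
theorem F16876 : act 4 n5396 = n3991 := d23_1 D5396 (iv D3991) (iv F12391)
def n5397 : Q := act 5 n3988
theorem D5397 : act 5 n3988 = n5397 := rfl
theorem F16877 : act 1 n5397 = n5397 := d10_1 D5397 (iv D5397) F12393 F8693 (iv F12393)
theorem F16878 : act 4 n5397 = n3992 := d22_1 D5397 (iv D3992) (iv F12394)
theorem F16879 : act 6 n5397 = n4425 := d25_2 D3988 D5397 (iv D4425) (iv D3176) (iv F8689)
def n5398 : Q := act 7 n3988
theorem D5398 : act 7 n3988 = n5398 := rfl
theorem F16880 : act 1 n5398 = n3989 := d12_1 D5398 (iv D3989) (iv F12393)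
theorem F16881 : act 4 n5398 = n3993 := d24_1 D5398 (iv D3993) (iv F12394)
def n5399 : Q := act 3 n3989
theorem D5399 : act 3 n3989 = n5399 := rfl
theorem F16882 : act 0 n5399 = n4002 := d2_1 D5399 (iv D4002) (iv F12395)
theorem F16883 : act 5 n5399 = n5399 := d19_2 F12398 D5399 (iv D5399)
def n5400 : Q := act 4 n3990
theorem D5400 : act 4 n3990 = n5400 := rfl
theorem F16884 : act 1 n5400 = n5400 := d9_1 D5400 (iv D5400) F12399
theorem F16885 : act 2 n5400 = n5400 := d14_1 D5400 (iv D5400) F12400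
theorem F16886 : act 5 n5400 = n4428 := d22_2 (iv F12401) D5400 (iv D4428)
def n5401 : Q := act 6 n3990
theorem D5401 : act 6 n3990 = n5401 := rfl
theorem F16887 : act 1 n5401 = n5401 := d11_1 D5401 (iv D5401) F12399
theorem F16888 : act 2 n5401 = n5401 := d16_1 D5401 (iv D5401) F12400
theorem F16889 : act 3 n5401 = n3991 := d20_1 D5401 (iv D3991) D3990
def n5402 : Q := act 7 n3990
theorem D5402 : act 7 n3990 = n5402 := rfl
theorem F16890 : act 0 n5402 = n4145 := d6_1 D5402 (iv F16802) F16798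
theorem F16891 : act 1 n5402 = n5402 := d12_1 D5402 (iv D5402) F12399
theorem F16892 : act 2 n5402 = n5402 := d17_1 D5402 (iv D5402) F12400
theorem F16893 : act 3 n5402 = n4008 := d21_1 D5402 F16071 (iv D5175) F11709 D3990
theorem F16894 : act 5 n5402 = n4430 := d26_1 D5402 (iv D4430) (iv F12401)
def n5403 : Q := act 5 n3991
theorem D5403 : act 5 n3991 = n5403 := rfl
theorem F16895 : act 2 n5403 = n3992 := d15_1 D5403 (iv D3992) (iv F12403)
theorem F16896 : act 6 n5403 = n4431 := d25_2 D3991 D5403 (iv D4431) (iv D3179) (iv F8695)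
def n5404 : Q := act 7 n3991
theorem D5404 : act 7 n3991 = n5404 := rfl
theorem F16897 : act 1 n5404 = n5404 := d12_1 D5404 (iv D5404) F12402
theorem F16898 : act 2 n5404 = n3993 := d17_1 D5404 (iv D3993) (iv F12403)
def n5405 : Q := act 7 n3992
theorem D5405 : act 7 n3992 = n5405 := rfl
theorem F16899 : act 1 n5405 = n5405 := d12_1 D5405 (iv D5405) F12404
theorem F16900 : act 5 n5405 = n3993 := d26_1 D5405 (iv D3993) D3992
def n5406 : Q := act 3 n3993
theorem D5406 : act 3 n3993 = n5406 := rfl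
theorem F16901 : act 1 n5406 = n3994 := d8_1 D5406 (iv D3994) (iv F12407)
theorem F16902 : act 7 n5406 = n5406 := d21_2 D3993 D5406 (iv D5406) (iv D3993) F8697
def n5407 : Q := act 2 n3994
theorem D5407 : act 2 n3994 = n5407 := rfl
theorem F16903 : act 0 n5407 = n4003 := d1_1 D5407 (iv D4003) (iv F12408)
theorem F16904 : act 3 n5407 = n5407 := d13_2 D3994 D5407 (iv D5407) (iv D3994) F8699
theorem F16905 : act 5 n5407 = n5407 := d15_2 F12409 D5407 (iv D5407)
theorem F16906 : act 7 n5407 = n5407 := d17_2 F12410 D5407 (iv D5407)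
def n5408 : Q := act 4 n3994
theorem D5408 : act 4 n3994 = n5408 := rfl
theorem F16907 : act 0 n5408 = n4004 := d3_1 D5408 (iv D4004) (iv F12408)
theorem F16908 : act 5 n5408 = n5408 := d22_2 F12409 D5408 (iv D5408)
theorem F16909 : act 7 n5408 = n5408 := d24_2 F12410 D5408 (iv D5408)
def n5409 : Q := act 7 n3995
theorem D5409 : act 7 n3995 = n5409 := rfl
theorem F16910 : act 1 n5409 = n5409 := d12_1 D5409 (iv D5409) F12411
theorem F16911 : act 2 n5409 = n3999 := d17_1 D5409 (iv D3999) (iv F12412)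
theorem F16912 : act 4 n5409 = n5409 := d24_1 D5409 (iv D5409) F12414
theorem F16913 : act 5 n5409 = n5409 := d26_1 D5409 (iv D5409) F12415
def n5410 : Q := act 3 n3996
theorem D5410 : act 3 n3996 = n5410 := rfl
theorem F16914 : act 1 n5410 = n5410 := d8_1 D5410 (iv D5410) F12416
theorem F16915 : act 2 n5410 = n4941 := d13_1 D5410 F15290 (iv F11731) F11732 (iv F12417)
theorem F16916 : act 5 n5410 = n3997 := d19_2 (iv F12419) D5410 (iv D3997)
theorem F16917 : act 7 n5410 = n5410 := d21_2 D3996 D5410 (iv D5410) (iv D3996) F8703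
theorem F16918 : act 4 n4940 = n5410 := d14_0 F16915 (iv D4941) D4940
def n5411 : Q := act 6 n3996
theorem D5411 : act 6 n3996 = n5411 := rfl
theorem F16919 : act 1 n5411 = n5411 := d11_1 D5411 (iv D5411) F12416
theorem F16920 : act 2 n5411 = n4000 := d16_1 D5411 (iv D4000) (iv F12417)
theorem F16921 : act 4 n5411 = n5411 := d23_1 D5411 (iv D5411) F12418
def n5412 : Q := act 4 n3997
theorem D5412 : act 4 n3997 = n5412 := rfl
theorem F16922 : act 1 n5412 = n4005 := d9_1 D5412 (iv D4005) (iv F12420)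
theorem F16923 : act 2 n5412 = n4914 := d14_1 D5412 (iv F16097) F16096
theorem F16924 : act 3 n5412 = n5412 := d18_1 D5412 (iv D5412) (iv D3997) F8707 D3997
theorem F16925 : act 5 n5412 = n4940 := d22_2 F16916 D5412 F16918
theorem F16926 : act 7 n5412 = n5412 := d24_2 F12421 D5412 (iv D5412)
def n5413 : Q := act 6 n3997
theorem D5413 : act 6 n3997 = n5413 := rfl
theorem F16927 : act 1 n5413 = n4006 := d11_1 D5413 (iv D4006) (iv F12420)
theorem F16928 : act 2 n5413 = n4775 := d16_1 D5413 (iv F16099) F16096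
theorem F16929 : act 3 n5413 = n3998 := d20_1 D5413 (iv D3998) D3997
theorem F16930 : act 7 n4789 = n5413 := d17_0 F16928 F14752 D4789
def n5414 : Q := act 5 n3998
theorem D5414 : act 5 n3998 = n5414 := rfl
theorem F16931 : act 2 n5414 = n4001 := d15_1 D5414 (iv D4001) (iv F12423)
theorem F16932 : act 4 n5414 = n5414 := d22_1 D5414 (iv D5414) F12424
theorem F16933 : act 7 n5414 = n5414 := d26_2 F12425 D5414 (iv D5414)
def n5415 : Q := act 3 n3999
theorem D5415 : act 3 n3999 = n5415 := rfl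
theorem F16934 : act 1 n5415 = n4787 := d8_1 D5415 (iv D4787) (iv F12426)
theorem F16935 : act 5 n5415 = n5415 := d19_2 F12428 D5415 (iv D5415)
theorem F16936 : act 7 n5415 = n4002 := d21_2 D3999 D5415 (iv D4002) (iv D2820) (iv F8709)
def n5416 : Q := act 6 n3999
theorem D5416 : act 6 n3999 = n5416 := rfl
theorem F16937 : act 1 n5416 = n4788 := d11_1 D5416 (iv D4788) (iv F12426)
theorem F16938 : act 4 n5416 = n5416 := d23_1 D5416 (iv D5416) F12427
theorem F16939 : act 7 n5416 = n4000 := d27_2 D3999 D5416 (iv D4000) (iv D2818) D2817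
def n5417 : Q := act 5 n4000
theorem D5417 : act 5 n4000 = n5417 := rfl
theorem F16940 : act 1 n5417 = n5417 := d10_1 D5417 (iv D5417) F12429 F10669 (iv F12429)
theorem F16941 : act 4 n5417 = n5417 := d22_1 D5417 (iv D5417) F12430
theorem F16942 : act 6 n5417 = n4001 := d25_2 D4000 D5417 (iv D4001) (iv D2819) (iv F8714)
def n5418 : Q := act 2 n4002
theorem D5418 : act 2 n4002 = n5418 := rfl
theorem F16943 : act 3 n5418 = n5418 := d13_2 D4002 D5418 (iv D5418) (iv D4002) F8718
theorem F16944 : act 5 n5418 = n5418 := d15_2 F12434 D5418 (iv D5418)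
theorem F16945 : act 4 n5415 = n5418 := d31_2 F12434 (iv F16936) (iv D5418) (iv F16115) (iv D5188) (iv F16113) (iv D5187) F11741 F8183 F8185 F5634 (iv D1766) F3800 D1258 (iv F5727) F5729 F5728 D2703 (iv F10995) F10993 F7876 D2584 (iv F8184) (iv D2665) D2666 (iv F11745) F11744 F11746 D4002
def n5419 : Q := act 4 n4002
theorem D5419 : act 4 n4002 = n5419 := rfl
theorem F16946 : act 2 n5419 = n5415 := d14_1 D5419 F16945 (iv D5418)
theorem F16947 : act 3 n5419 = n4004 := d18_1 D5419 (iv D4004) (iv D2821) (iv F8719) D4002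
theorem F16948 : act 5 n5419 = n5419 := d22_2 F12434 D5419 (iv D5419)
theorem F16949 : act 7 n5419 = n5418 := d24_2 F16936 D5419 (iv F16945)
def n5420 : Q := act 4 n4003
theorem D5420 : act 4 n4003 = n5420 := rfl
theorem F16950 : act 1 n5420 = n5420 := d9_1 D5420 (iv D5420) F12435
theorem F16951 : act 2 n5420 = n4004 := d14_1 D5420 (iv D4004) D4003
theorem F16952 : act 5 n5420 = n5420 := d22_2 F12437 D5420 (iv D5420)
theorem F16953 : act 7 n5420 = n5420 := d24_2 F12438 D5420 (iv D5420)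
theorem F16954 : act 3 n5409 = n5420 := d13_0 F16951 (iv F16947) F16946 (iv D5415) (iv F16911)
def n5421 : Q := act 6 n4005
theorem D5421 : act 6 n4005 = n5421 := rfl
theorem F16955 : act 0 n5421 = n5421 := d5_1 D5421 (iv D5421) F12441
theorem F16956 : act 2 n5421 = n5421 := d16_1 D5421 (iv D5421) F12442
theorem F16957 : act 3 n5421 = n5421 := d20_1 D5421 (iv D5421) F12443
theorem F16958 : act 4 n5421 = n4006 := d23_1 D5421 (iv D4006) D4005
def n5422 : Q := act 5 n4006
theorem D5422 : act 5 n4006 = n5422 := rfl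
theorem F16959 : act 0 n5422 = n5422 := d4_1 D5422 (iv D5422) F12446
theorem F16960 : act 2 n5422 = n5422 := d15_1 D5422 (iv D5422) F12447
theorem F16961 : act 3 n5422 = n4007 := d19_1 D5422 (iv D4007) (iv F12448)
theorem F16962 : act 6 n5422 = n5422 := d25_2 D4006 D5422 (iv D5422) (iv D4006) F8731
theorem F16963 : act 7 n5422 = n5421 := d31_1 D5422 F16958 F12447 (iv D4006) (iv D2823) F6033 (iv D1932) F4189 (iv D1313) F2907 (iv D892) F2019 F2021 (iv D605) F1248 F1250 F1249 F1456 F1251 D605 F2018 F2020 D892 F2906 D1314 F4195 (iv F6031) D2824 (iv F12448)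
def n5423 : Q := act 7 n4006
theorem D5423 : act 7 n4006 = n5423 := rfl
theorem F16964 : act 0 n5423 = n5423 := d6_1 D5423 (iv D5423) F12446
theorem F16965 : act 1 n5423 = n4789 := d12_1 D5423 F16930 F16927
theorem F16966 : act 2 n5423 = n5423 := d17_1 D5423 (iv D5423) F12447
theorem F16967 : act 3 n5423 = n5423 := d21_1 D5423 (iv D5423) F12448 F8736 (iv F12448)
theorem F16968 : act 4 n5423 = n5422 := d24_1 D5423 F16963 F16958
theorem F16969 : act 5 n5423 = n5421 := d26_1 D5423 (iv F16963) (iv D5422)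
theorem F16970 : act 6 n5423 = n5423 := d27_1 D5423 (iv D5423) (iv D4006) F8732 D4006
def n5424 : Q := act 1 n4007
theorem D5424 : act 1 n4007 = n5424 := rfl
theorem F16971 : act 2 n5424 = n5424 := d7_2 (iv F12450) D5424 (iv D5424) F12450 F8738
theorem F16972 : act 4 n5424 = n5424 := d9_2 F12451 D5424 (iv D5424)
theorem F16973 : act 6 n5424 = n5424 := d11_2 F12452 D5424 (iv D5424)
theorem F16974 : act 7 n5424 = n5424 := d12_2 F12453 D5424 (iv D5424)
def n5425 : Q := act 5 n4008
theorem D5425 : act 5 n4008 = n5425 := rfl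
theorem F16975 : act 0 n5425 = n4146 := d4_1 D5425 (iv D4146) (iv F12454)
theorem F16976 : act 2 n5425 = n4011 := d15_1 D5425 (iv D4011) (iv F12456)
theorem F16977 : act 3 n5425 = n4430 := d19_1 D5425 (iv F16894) F16893
theorem F16978 : act 4 n5425 = n4009 := d22_1 D5425 (iv D4009) D4008
theorem F16979 : act 7 n5425 = n4241 := d26_2 (iv F16071) D5425 (iv F16069)
theorem F16980 : act 1 n4547 = n5425 := d12_3 F16979 F13127 D4547
def n5426 : Q := act 1 n4009
theorem D5426 : act 1 n4009 = n5426 := rfl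
theorem F16981 : act 2 n5426 = n5426 := d7_2 (iv F12458) D5426 (iv D5426) F12458 F8749
theorem F16982 : act 4 n5426 = n4547 := d9_2 F16978 D5426 F16980
theorem F16983 : act 5 n5426 = n5426 := d10_2 D4009 D5426 (iv D5426) (iv D4009) F8744
theorem F16984 : act 7 n4545 = n5426 := d24_0 F16982 (iv D4547) D4545
def n5427 : Q := act 6 n4009
theorem D5427 : act 6 n4009 = n5427 := rfl
theorem F16985 : act 0 n5427 = n4149 := d5_1 D5427 (iv D4149) (iv F12457)
theorem F16986 : act 2 n5427 = n4013 := d16_1 D5427 (iv D4013) (iv F12458)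
def n5428 : Q := act 7 n4009
theorem D5428 : act 7 n4009 = n5428 := rfl
theorem F16987 : act 0 n5428 = n4150 := d6_1 D5428 (iv D4150) (iv F12457)
theorem F16988 : act 1 n5428 = n4545 := d12_1 D5428 F16984 (iv D5426)
theorem F16989 : act 2 n5428 = n4014 := d17_1 D5428 (iv D4014) (iv F12458)
theorem F16990 : act 4 n5428 = n4241 := d24_1 D5428 (iv F16979) F16978
theorem F16991 : act 5 n5428 = n4010 := d26_1 D5428 (iv D4010) D4009
def n5429 : Q := act 3 n4010
theorem D5429 : act 3 n4010 = n5429 := rfl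
theorem F16992 : act 0 n5429 = n4151 := d2_1 D5429 (iv D4151) (iv F12459)
theorem F16993 : act 1 n5429 = n5429 := d8_1 D5429 (iv D5429) F12460
def n5430 : Q := act 6 n4010
theorem D5430 : act 6 n4010 = n5430 := rfl
theorem F16994 : act 0 n5430 = n4152 := d5_1 D5430 (iv D4152) (iv F12459)
theorem F16995 : act 1 n5430 = n5430 := d11_1 D5430 (iv D5430) F12460
theorem F16996 : act 2 n5430 = n4016 := d16_1 D5430 (iv D4016) (iv F12461)
def n5431 : Q := act 6 n4011
theorem D5431 : act 6 n4011 = n5431 := rfl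
theorem F16997 : act 0 n5431 = n4153 := d5_1 D5431 (iv D4153) (iv F12462)
theorem F16998 : act 1 n5431 = n5431 := d11_1 D5431 (iv D5431) F12463
theorem F16999 : act 3 n5431 = n5431 := d20_1 D5431 (iv D5431) F12464
theorem F17000 : act 4 n5431 = n4013 := d23_1 D5431 (iv D4013) (iv F12465)
def n5432 : Q := act 7 n4011
theorem D5432 : act 7 n4011 = n5432 := rfl
theorem F17001 : act 0 n5432 = n4154 := d6_1 D5432 (iv D4154) (iv F12462)
theorem F17002 : act 1 n5432 = n5432 := d12_1 D5432 (iv D5432) F12463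
theorem F17003 : act 2 n5432 = n4241 := d17_1 D5432 (iv F16979) F16976
theorem F17004 : act 4 n5432 = n4014 := d24_1 D5432 (iv D4014) (iv F12465)
theorem F17005 : act 5 n5432 = n4012 := d26_1 D5432 (iv D4012) D4011
theorem F17006 : act 3 n4060 = n5432 := d19_3 F17005 (iv F12524) (iv F12618)
def n5433 : Q := act 6 n4012
theorem D5433 : act 6 n4012 = n5433 := rfl
theorem F17007 : act 0 n5433 = n4156 := d5_1 D5433 (iv D4156) (iv F12466)
theorem F17008 : act 1 n5433 = n4021 := d11_1 D5433 (iv D4021) (iv F12467)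
theorem F17009 : act 4 n5433 = n4016 := d23_1 D5433 (iv D4016) (iv F12468)
def n5434 : Q := act 7 n4013
theorem D5434 : act 7 n4013 = n5434 := rfl
theorem F17010 : act 0 n5434 = n4157 := d6_1 D5434 (iv D4157) (iv F12469)
theorem F17011 : act 1 n5434 = n5434 := d12_1 D5434 (iv D5434) F12470
theorem F17012 : act 3 n5434 = n5049 := d21_1 D5434 (iv D5049) F11395 F8838 (iv F12471)
def n5435 : Q := act 3 n4014
theorem D5435 : act 3 n4014 = n5435 := rfl
theorem F17013 : act 0 n5435 = n4158 := d2_1 D5435 (iv D4158) (iv F12472)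
theorem F17014 : act 1 n5435 = n5435 := d8_1 D5435 (iv D5435) F12473
theorem F17015 : act 5 n5435 = n4015 := d19_2 (iv F12474) D5435 (iv D4015)
theorem F17016 : act 7 n5435 = n4017 := d21_2 D4014 D5435 (iv D4017) (iv D2831) (iv F8750)
def n5436 : Q := act 6 n4014
theorem D5436 : act 6 n4014 = n5436 := rfl
theorem F17017 : act 0 n5436 = n4159 := d5_1 D5436 (iv D4159) (iv F12472)
theorem F17018 : act 1 n5436 = n5436 := d11_1 D5436 (iv D5436) F12473
def n5437 : Q := act 2 n4015
theorem D5437 : act 2 n4015 = n5437 := rfl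
theorem F17019 : act 0 n5437 = n4160 := d1_1 D5437 (iv D4160) (iv F12475)
theorem F17020 : act 7 n5437 = n4018 := d17_2 (iv F12477) D5437 (iv D4018)
def n5438 : Q := act 6 n4015
theorem D5438 : act 6 n4015 = n5438 := rfl
theorem F17021 : act 0 n5438 = n4162 := d5_1 D5438 (iv D4162) (iv F12475)
theorem F17022 : act 1 n5438 = n4022 := d11_1 D5438 (iv D4022) (iv F12476)
theorem F17023 : act 3 n5438 = n4016 := d20_1 D5438 (iv D4016) D4015
def n5439 : Q := act 5 n4016
theorem D5439 : act 5 n4016 = n5439 := rfl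
theorem F17024 : act 0 n5439 = n4163 := d4_1 D5439 (iv D4163) (iv F12478)
def n5440 : Q := act 2 n4017
theorem D5440 : act 2 n4017 = n5440 := rfl
theorem F17025 : act 0 n5440 = n4165 := d1_1 D5440 (iv D4165) (iv F12480)
theorem F17026 : act 5 n5440 = n4018 := d15_2 (iv F12482) D5440 (iv D4018)
theorem F17027 : act 6 n5440 = n5056 := d16_2 (iv F12483) D5440 (iv D5056)
def n5441 : Q := act 4 n4017
theorem D5441 : act 4 n4017 = n5441 := rfl
theorem F17028 : act 0 n5441 = n4166 := d3_1 D5441 (iv D4166) (iv F12480)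
theorem F17029 : act 1 n5441 = n5441 := d9_1 D5441 (iv D5441) F12481
theorem F17030 : act 3 n5441 = n5441 := d18_1 D5441 (iv D5441) (iv D4017) F8758 D4017
theorem F17031 : act 5 n5441 = n4019 := d22_2 (iv F12482) D5441 (iv D4019)
theorem F17032 : act 6 n5441 = n5057 := d23_2 (iv F12483) D5441 (iv D5057)
def n5442 : Q := act 1 n4018
theorem D5442 : act 1 n4018 = n5442 := rfl
theorem F17033 : act 2 n5442 = n4024 := d7_2 D4018 D5442 (iv D4024) (iv D2837) (iv F8761)
theorem F17034 : act 4 n5437 = n5442 := d14_0 F17033 F12501 D5437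
def n5443 : Q := act 4 n4018
theorem D5443 : act 4 n4018 = n5443 := rfl
theorem F17035 : act 0 n5443 = n4169 := d3_1 D5443 (iv D4169) (iv F12484)
theorem F17036 : act 1 n5443 = n5437 := d9_1 D5443 F17034 (iv D5442)
theorem F17037 : act 2 n5443 = n4019 := d14_1 D5443 (iv D4019) D4018
theorem F17038 : act 7 n5443 = n5442 := d24_2 F17020 D5443 (iv F17034)
def n5444 : Q := act 6 n4018
theorem D5444 : act 6 n4018 = n5444 := rfl
theorem F17039 : act 0 n5444 = n4170 := d5_1 D5444 (iv D4170) (iv F12484)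
theorem F17040 : act 2 n5444 = n4020 := d16_1 D5444 (iv D4020) D4018
theorem F17041 : act 5 n5444 = n5060 := d25_1 D5444 (iv D5060) (iv F15665) (iv F17027) F17026
def n5445 : Q := act 6 n4019
theorem D5445 : act 6 n4019 = n5445 := rfl
theorem F17042 : act 0 n5445 = n4171 := d5_1 D5445 (iv D4171) (iv F12485)
theorem F17043 : act 1 n5445 = n4026 := d11_1 D5445 (iv D4026) (iv F12486)
theorem F17044 : act 3 n5445 = n5445 := d20_1 D5445 (iv D5445) F12487
theorem F17045 : act 4 n5445 = n4020 := d23_1 D5445 (iv D4020) D4019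
theorem F17046 : act 5 n5445 = n5061 := d25_1 D5445 (iv D5061) (iv F15668) (iv F17032) F17031
def n5446 : Q := act 7 n4020
theorem D5446 : act 7 n4020 = n5446 := rfl
theorem F17047 : act 0 n5446 = n4173 := d6_1 D5446 (iv D4173) (iv F12488)
theorem F17048 : act 1 n5446 = n4028 := d12_1 D5446 (iv D4028) (iv F12489)
theorem F17049 : act 5 n5446 = n5062 := d26_1 D5446 (iv D5062) (iv F12491)
def n5447 : Q := act 5 n4021
theorem D5447 : act 5 n4021 = n5447 := rfl
theorem F17050 : act 0 n5447 = n4039 := d4_1 D5447 (iv D4039) (iv F12492)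
theorem F17051 : act 2 n5447 = n5447 := d15_1 D5447 (iv D5447) F12493
theorem F17052 : act 4 n5447 = n4023 := d22_1 D5447 (iv D4023) (iv F12494)
theorem F17053 : act 6 n5447 = n5447 := d25_2 D4021 D5447 (iv D5447) (iv D4021) F8768
def n5448 : Q := act 7 n4022
theorem D5448 : act 7 n4022 = n5448 := rfl
theorem F17054 : act 0 n5448 = n4040 := d6_1 D5448 (iv D4040) (iv F12495)
theorem F17055 : act 5 n5448 = n4249 := d26_1 D5448 (iv F14851) F14849
theorem F17056 : act 6 n5448 = n4028 := d27_1 D5448 (iv D4028) (iv D2839) (iv F8771) D4022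
def n5449 : Q := act 1 n4023
theorem D5449 : act 1 n4023 = n5449 := rfl
theorem F17057 : act 6 n5449 = n5449 := d11_2 F12499 D5449 (iv D5449)
def n5450 : Q := act 5 n4024
theorem D5450 : act 5 n4024 = n5450 := rfl
theorem F17058 : act 1 n5450 = n5450 := d10_1 D5450 (iv D5450) (iv D4024) F8776 D4024
theorem F17059 : act 3 n5450 = n4031 := d19_1 D5450 (iv D4031) (iv F12500)
theorem F17060 : act 4 n5450 = n5435 := d22_1 D5450 F17015 (iv F12501)
theorem F17061 : act 7 n5450 = n5441 := d26_2 (iv F12502) D5450 F17031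
def n5451 : Q := act 6 n4024
theorem D5451 : act 6 n4024 = n5451 := rfl
theorem F17062 : act 1 n5451 = n4025 := d11_1 D5451 (iv D4025) D4024
theorem F17063 : act 3 n5451 = n4032 := d20_1 D5451 (iv D4032) (iv F12500)
theorem F17064 : act 4 n5451 = n5438 := d23_1 D5451 (iv D5438) (iv F12501)
def n5452 : Q := act 5 n4025
theorem D5452 : act 5 n4025 = n5452 := rfl
theorem F17065 : act 0 n5452 = n4041 := d4_1 D5452 (iv D4041) (iv F12503)
theorem F17066 : act 2 n5452 = n4027 := d15_1 D5452 (iv D4027) (iv F12504)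
theorem F17067 : act 3 n5452 = n4034 := d19_1 D5452 (iv D4034) (iv F12505)
theorem F17068 : act 4 n5452 = n4802 := d22_1 D5452 F14849 (iv F12506)
theorem F17069 : act 6 n5452 = n5452 := d25_2 D4025 D5452 (iv D5452) (iv D4025) F8776
theorem F17070 : act 7 n4228 = n5452 := d24_0 F17068 F14851 F13147
def n5453 : Q := act 7 n4025
theorem D5453 : act 7 n4025 = n5453 := rfl
theorem F17071 : act 0 n5453 = n4042 := d6_1 D5453 (iv D4042) (iv F12503)
theorem F17072 : act 2 n5453 = n4028 := d17_1 D5453 (iv D4028) (iv F12504)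
theorem F17073 : act 4 n5453 = n5448 := d24_1 D5453 (iv D5448) (iv F12506)
theorem F17074 : act 5 n5453 = n4228 := d26_1 D5453 F17070 (iv D5452)
def n5454 : Q := act 7 n4026
theorem D5454 : act 7 n4026 = n5454 := rfl
theorem F17075 : act 0 n5454 = n4043 := d6_1 D5454 (iv D4043) (iv F12507)
theorem F17076 : act 2 n5454 = n5448 := d17_1 D5454 (iv D5448) (iv F12508)
theorem F17077 : act 4 n5454 = n4028 := d24_1 D5454 (iv D4028) (iv F12510)
theorem F17078 : act 5 n5454 = n4227 := d26_1 D5454 F13088 F12511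
theorem F17079 : act 6 n5454 = n5453 := d27_1 D5454 (iv D5453) (iv D4025) (iv F8782) D4026
def n5455 : Q := act 5 n4029
theorem D5455 : act 5 n4029 = n5455 := rfl
theorem F17080 : act 0 n5455 = n4031 := d4_1 D5455 (iv D4031) D4029
theorem F17081 : act 1 n5455 = n4463 := d10_1 D5455 F13834 F13794 F9953 (iv F12520)
theorem F17082 : act 2 n5455 = n4492 := d15_1 D5455 (iv F15268) F15266
theorem F17083 : act 7 n5455 = n5455 := d26_2 F12521 D5455 (iv D5455)
def n5456 : Q := act 6 n4029
theorem D5456 : act 6 n4029 = n5456 := rfl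
theorem F17084 : act 0 n5456 = n4032 := d5_1 D5456 (iv D4032) D4029
theorem F17085 : act 1 n5456 = n4044 := d11_1 D5456 (iv D4044) (iv F12520)
def n5457 : Q := act 6 n4030
theorem D5457 : act 6 n4030 = n5457 := rfl
theorem F17086 : act 1 n5457 = n4033 := d11_1 D5457 (iv D4033) (iv F12522)
theorem F17087 : act 2 n5457 = n4963 := d16_1 D5457 (iv D4963) (iv F12523)
theorem F17088 : act 3 n5457 = n5433 := d20_1 D5457 (iv D5433) (iv F12524)
theorem F17089 : act 4 n5457 = n4032 := d23_1 D5457 (iv D4032) D4030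
def n5458 : Q := act 6 n4031
theorem D5458 : act 6 n4031 = n5458 := rfl
theorem F17090 : act 1 n5458 = n5458 := d11_1 D5458 (iv D5458) F12526
def n5459 : Q := act 5 n4032
theorem D5459 : act 5 n4032 = n5459 := rfl
def n5460 : Q := act 7 n4032
theorem D5460 : act 7 n4032 = n5460 := rfl
theorem F17091 : act 1 n5460 = n4035 := d12_1 D5460 (iv D4035) (iv F12528)
theorem F17092 : act 6 n5460 = n5460 := d27_1 D5460 (iv D5460) (iv D4032) F8789 D4032
def n5461 : Q := act 5 n4033
theorem D5461 : act 5 n4033 = n5461 := rfl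
theorem F17093 : act 0 n5461 = n4047 := d4_1 D5461 (iv D4047) (iv F12529)
theorem F17094 : act 2 n5461 = n4036 := d15_1 D5461 (iv D4036) (iv F12530)
theorem F17095 : act 3 n5461 = n5447 := d19_1 D5461 (iv D5447) (iv F12531)
theorem F17096 : act 4 n5461 = n4034 := d22_1 D5461 (iv D4034) (iv F12532)
theorem F17097 : act 6 n5461 = n5461 := d25_2 D4033 D5461 (iv D5461) (iv D4033) F8793
def n5462 : Q := act 1 n4034
theorem D5462 : act 1 n4034 = n5462 := rfl
theorem F17098 : act 6 n5462 = n5462 := d11_2 F12535 D5462 (iv D5462)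
def n5463 : Q := act 7 n4034
theorem D5463 : act 7 n4034 = n5463 := rfl
theorem F17099 : act 0 n5463 = n4049 := d6_1 D5463 (iv D4049) (iv F12533)
theorem F17100 : act 2 n5463 = n4038 := d17_1 D5463 (iv D4038) (iv F12534)
theorem F17101 : act 5 n5463 = n4035 := d26_1 D5463 (iv D4035) D4034
theorem F17102 : act 6 n4699 = n5463 := d16_0 F17100 (iv F12548) D4699
def n5464 : Q := act 3 n4035
theorem D5464 : act 3 n4035 = n5464 := rfl
theorem F17103 : act 0 n5464 = n4050 := d2_1 D5464 (iv D4050) (iv F12536)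
theorem F17104 : act 6 n5464 = n5464 := d20_2 F12538 D5464 (iv D5464)
def n5465 : Q := act 1 n4036
theorem D5465 : act 1 n4036 = n5465 := rfl
theorem F17105 : act 3 n5465 = n5465 := d8_2 F12540 D5465 (iv D5465)
theorem F17106 : act 4 n5465 = n4037 := d9_2 (iv F12541) D5465 (iv D4037)
theorem F17107 : act 6 n5465 = n5465 := d11_2 F12542 D5465 (iv D5465)
def n5466 : Q := act 2 n4037
theorem D5466 : act 2 n4037 = n5466 := rfl
theorem F17108 : act 3 n5466 = n5096 := d13_2 (iv F12543) D5466 (iv D5096) F11473 F8835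
theorem F17109 : act 6 n5466 = n5466 := d16_2 F12544 D5466 (iv D5466)
def n5467 : Q := act 7 n4037
theorem D5467 : act 7 n4037 = n5467 := rfl
theorem F17110 : act 1 n5467 = n4038 := d12_1 D5467 (iv D4038) D4037
theorem F17111 : act 3 n5467 = n4544 := d21_1 D5467 (iv D4544) F10102 F9187 (iv F12543)
theorem F17112 : act 6 n4698 = n5467 := d20_0 F17111 F14086 D4698
def n5468 : Q := act 3 n4042
theorem D5468 : act 3 n4042 = n5468 := rfl
theorem F17113 : act 1 n5468 = n4118 := d8_1 D5468 (iv F13029) F13028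
theorem F17114 : act 5 n5468 = n4229 := d19_2 (iv F12563) D5468 (iv D4229)
theorem F17115 : act 7 n5468 = n4050 := d21_2 D4042 D5468 (iv D4050) (iv D2860) (iv F8815)
theorem F17116 : act 4 n4655 = n5468 := d9_0 F17113 F12770 D4655
def n5469 : Q := act 3 n4043
theorem D5469 : act 3 n4043 = n5469 := rfl
theorem F17117 : act 1 n5469 = n4217 := d8_1 D5469 (iv D4217) (iv F12564)
theorem F17118 : act 5 n5469 = n4226 := d19_2 (iv F12567) D5469 F13082
theorem F17119 : act 6 n5469 = n5468 := d20_2 (iv F12568) D5469 (iv D5468)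
theorem F17120 : act 7 n5469 = n5469 := d21_2 D4043 D5469 (iv D5469) (iv D4043) F8819
theorem F17121 : act 2 n5469 = n4715 := d29_1 D5469 (iv D4715) F10479 F12586 F12585 (iv F12573) F12574 F8870 F6190 (iv F6327) (iv F9224) F9228 (iv F9255) (iv F10404) F10403 F9706 F9248 F9249 F6351 (iv F6973) F6972 F4820 (iv F6790) (iv F9205) (iv D2985) (iv F8810) (iv F8818) F8819 D4043
def n5470 : Q := act 5 n4044
theorem D5470 : act 5 n4044 = n5470 := rfl
theorem F17122 : act 0 n5470 = n4045 := d4_1 D5470 (iv D4045) (iv F12569)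
theorem F17123 : act 2 n5470 = n4054 := d15_1 D5470 (iv D4054) (iv F12570)
theorem F17124 : act 7 n4084 = n5470 := d17_0 F17123 (iv F12599) (iv F12676)
def n5471 : Q := act 7 n4044
theorem D5471 : act 7 n4044 = n5471 := rfl
theorem F17125 : act 0 n5471 = n4046 := d6_1 D5471 (iv D4046) (iv F12569)
theorem F17126 : act 2 n5471 = n4055 := d17_1 D5471 (iv D4055) (iv F12570)
theorem F17127 : act 5 n5471 = n4084 := d26_1 D5471 F17124 (iv D5470)
theorem F17128 : act 6 n5471 = n5471 := d27_1 D5471 (iv D5471) (iv D4044) F8840 D4044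
theorem F17129 : act 3 n4092 = n5471 := d19_3 F17127 F12677 D4092
def n5472 : Q := act 1 n4047
theorem D5472 : act 1 n4047 = n5472 := rfl
theorem F17130 : act 3 n5472 = n4805 := d8_2 (iv F12579) D5472 F14859
theorem F17131 : act 4 n5472 = n4048 := d9_2 (iv F12580) D5472 (iv D4048)
theorem F17132 : act 6 n5472 = n5472 := d11_2 F12581 D5472 (iv D5472)
def n5473 : Q := act 0 n4048
theorem D5473 : act 0 n4048 = n5473 := rfl
theorem F17133 : act 2 n5473 = n5464 := d1_2 F12588 D5473 F17103
theorem F17134 : act 3 n5473 = n4232 := d2_2 (iv F12582) D5473 F13098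
theorem F17135 : act 6 n5473 = n5473 := d5_2 F12583 D5473 (iv D5473)
def n5474 : Q := act 7 n4048
theorem D5474 : act 7 n4048 = n5474 := rfl
theorem F17136 : act 1 n5474 = n4049 := d12_1 D5474 (iv D4049) D4048
theorem F17137 : act 2 n5474 = n5468 := d17_1 D5474 F17115 F12588
theorem F17138 : act 3 n5474 = n4115 := d21_1 D5474 F12762 (iv D3016) D3017 (iv F12582)
theorem F17139 : act 5 n5474 = n4105 := d26_1 D5474 (iv F13144) F13142
theorem F17140 : act 6 n4715 = n5474 := d16_0 F17137 (iv F17119) F17121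
def n5475 : Q := act 3 n4049
theorem D5475 : act 3 n4049 = n5475 := rfl
theorem F17141 : act 1 n5475 = n4115 := d8_1 D5475 (iv F17138) F17136
theorem F17142 : act 2 n5475 = n4248 := d13_1 D5475 (iv D4248) F9342 (iv F8853) (iv F12584)
theorem F17143 : act 5 n5475 = n4050 := d19_2 (iv F12585) D5475 (iv D4050)
theorem F17144 : act 6 n5475 = n4438 := d20_2 F12586 D5475 F13712
theorem F17145 : act 7 n5475 = n4229 := d21_2 D4049 D5475 (iv D4229) F12560 F12556
def n5476 : Q := act 4 n4050
theorem D5476 : act 4 n4050 = n5476 := rfl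
theorem F17146 : act 1 n5476 = n4117 := d9_1 D5476 F12766 (iv F12587)
theorem F17147 : act 2 n5476 = n5472 := d14_1 D5476 F17131 (iv F12588)
theorem F17148 : act 6 n5476 = n5476 := d23_2 F12589 D5476 (iv D5476)
theorem F17149 : act 7 n5476 = n4655 := d24_2 F17115 D5476 F17116
def n5477 : Q := act 5 n4051
theorem D5477 : act 5 n4051 = n5477 := rfl
theorem F17150 : act 0 n5477 = n4056 := d4_1 D5477 (iv D4056) (iv F12590)
theorem F17151 : act 4 n5477 = n4054 := d22_1 D5477 (iv D4054) (iv F12591)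
theorem F17152 : act 7 n5477 = n4085 := d26_2 F14827 D5477 (iv F14825)
def n5478 : Q := act 2 n4052
theorem D5478 : act 2 n4052 = n5478 := rfl
theorem F17153 : act 0 n5478 = n4060 := d1_1 D5478 (iv D4060) (iv F12592)
theorem F17154 : act 1 n5478 = n4461 := d7_1 D5478 (iv F13824) F13794 F9951 D4052
theorem F17155 : act 4 n5478 = n5455 := d14_2 F13895 D5478 F17082
theorem F17156 : act 5 n5478 = n4155 := d15_2 F15339 D5478 (iv F15336)
theorem F17157 : act 7 n5478 = n5478 := d17_2 F12594 D5478 (iv D5478)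
theorem F17158 : act 3 n4154 = n5478 := d19_3 F17156 (iv D4155) (iv F12882)
def n5479 : Q := act 6 n4052
theorem D5479 : act 6 n4052 = n5479 := rfl
theorem F17159 : act 0 n5479 = n4061 := d5_1 D5479 (iv D4061) (iv F12592)
theorem F17160 : act 1 n5479 = n4053 := d11_1 D5479 (iv D4053) D4052
theorem F17161 : act 3 n5479 = n4225 := d20_1 D5479 (iv D4225) (iv F12593)
def n5480 : Q := act 5 n4053
theorem D5480 : act 5 n4053 = n5480 := rfl
theorem F17162 : act 0 n5480 = n4057 := d4_1 D5480 (iv D4057) (iv F12595)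
theorem F17163 : act 3 n5480 = n4180 := d19_1 D5480 F12944 (iv F12596)
theorem F17164 : act 6 n5480 = n4054 := d25_2 D4053 D5480 (iv D4054) (iv D2865) D2864
theorem F17165 : act 7 n5480 = n4081 := d26_2 F14921 D5480 (iv F14919)
def n5481 : Q := act 1 n4054
theorem D5481 : act 1 n4054 = n5481 := rfl
theorem F17166 : act 3 n5481 = n4173 := d8_2 (iv F12598) D5481 F12922
theorem F17167 : act 7 n5481 = n4076 := d12_2 F12599 D5481 F12652
def n5482 : Q := act 6 n4058
theorem D5482 : act 6 n4058 = n5482 := rfl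
theorem F17168 : act 1 n5482 = n4059 := d11_1 D5482 (iv D4059) D4058
theorem F17169 : act 2 n5482 = n5458 := d16_1 D5482 (iv D5458) F12612
theorem F17170 : act 4 n5482 = n4061 := d23_1 D5482 (iv D4061) (iv F12609)
def n5483 : Q := act 7 n4059
theorem D5483 : act 7 n4059 = n5483 := rfl
theorem F17171 : act 0 n5483 = n4063 := d6_1 D5483 (iv D4063) (iv F12613)
theorem F17172 : act 2 n5483 = n5483 := d17_1 D5483 (iv D5483) F12614
theorem F17173 : act 4 n5483 = n4062 := d24_1 D5483 (iv D4062) (iv F12615)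
theorem F17174 : act 6 n5483 = n5483 := d27_1 D5483 (iv D5483) (iv D4059) F8887 D4059
def n5484 : Q := act 6 n4060
theorem D5484 : act 6 n4060 = n5484 := rfl
theorem F17175 : act 1 n5484 = n5484 := d11_1 D5484 (iv D5484) F12616
theorem F17176 : act 2 n5484 = n4061 := d16_1 D5484 (iv D4061) D4060
theorem F17177 : act 4 n5484 = n5458 := d23_1 D5484 (iv D5458) (iv F12617)
def n5485 : Q := act 5 n4061
theorem D5485 : act 5 n4061 = n5485 := rfl
theorem F17178 : act 3 n5485 = n4243 := d19_1 D5485 (iv D4243) (iv F12621)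
def n5486 : Q := act 7 n4061
theorem D5486 : act 7 n4061 = n5486 := rfl
theorem F17179 : act 1 n5486 = n4062 := d12_1 D5486 (iv D4062) (iv F12620)
theorem F17180 : act 6 n5486 = n5486 := d27_1 D5486 (iv D5486) (iv D4061) F8889 D4061
def n5487 : Q := act 3 n4063
theorem D5487 : act 3 n4063 = n5487 := rfl
theorem F17181 : act 6 n5487 = n5487 := d20_2 F12627 D5487 (iv D5487)
def n5488 : Q := act 5 n4064
theorem D5488 : act 5 n4064 = n5488 := rfl
theorem F17182 : act 2 n5488 = n4067 := d15_1 D5488 (iv D4067) (iv F12629)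
theorem F17183 : act 4 n5488 = n4065 := d22_1 D5488 (iv D4065) D4064
def n5489 : Q := act 7 n4064
theorem D5489 : act 7 n4064 = n5489 := rfl
theorem F17184 : act 1 n5489 = n4280 := d12_1 D5489 (iv D4280) (iv F12628)
theorem F17185 : act 2 n5489 = n4068 := d17_1 D5489 (iv D4068) (iv F12629)
theorem F17186 : act 4 n5489 = n4066 := d24_1 D5489 (iv D4066) D4064
def n5490 : Q := act 1 n4065
theorem D5490 : act 1 n4065 = n5490 := rfl
theorem F17187 : act 0 n5490 = n4430 := d0_1 D5490 F13691 (iv F14484) F14485 F13199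
theorem F17188 : act 2 n5490 = n5490 := d7_2 (iv F12631) D5490 (iv D5490) F12631 F8906
theorem F17189 : act 3 n5490 = n4146 := d8_2 F15444 D5490 (iv F15442)
theorem F17190 : act 5 n5490 = n4145 := d10_2 D4065 D5490 F12862 (iv D3060) (iv F8901)
theorem F17191 : act 7 n4411 = n5490 := d26_0 F17190 (iv F16802) F16801
def n5491 : Q := act 6 n4065
theorem D5491 : act 6 n4065 = n5491 := rfl
theorem F17192 : act 2 n5491 = n4069 := d16_1 D5491 (iv D4069) (iv F12631)
theorem F17193 : act 5 n5491 = n4149 := d25_1 D5491 (iv D4149) (iv D2941) (iv F8902) D4065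
def n5492 : Q := act 7 n4065
theorem D5492 : act 7 n4065 = n5492 := rfl
theorem F17194 : act 0 n5492 = n4672 := d6_1 D5492 (iv F14447) F13199
theorem F17195 : act 1 n5492 = n4411 := d12_1 D5492 F17191 (iv D5490)
theorem F17196 : act 2 n5492 = n4070 := d17_1 D5492 (iv D4070) (iv F12631)
theorem F17197 : act 5 n5492 = n4066 := d26_1 D5492 (iv D4066) D4065
theorem F17198 : act 3 n4402 = n5492 := d8_0 F17195 (iv D4411) (iv F13601)
def n5493 : Q := act 3 n4066
theorem D5493 : act 3 n4066 = n5493 := rfl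
theorem F17199 : act 0 n5493 = n4634 := d2_1 D5493 F14332 F13201
theorem F17200 : act 1 n5493 = n4282 := d8_1 D5493 (iv D4282) (iv F12632)
theorem F17201 : act 5 n5493 = n4402 := d19_2 F17197 D5493 F17198
theorem F17202 : act 2 n4387 = n5493 := d15_3 F17201 (iv D4402) (iv F13557)
def n5494 : Q := act 6 n4066
theorem D5494 : act 6 n4066 = n5494 := rfl
theorem F17203 : act 1 n5494 = n4283 := d11_1 D5494 (iv D4283) (iv F12632)
theorem F17204 : act 2 n5494 = n4072 := d16_1 D5494 (iv D4072) (iv F12633)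
theorem F17205 : act 7 n5494 = n4152 := d27_2 D4066 D5494 (iv D4152) (iv D2942) (iv F8902)
def n5495 : Q := act 6 n4067
theorem D5495 : act 6 n4067 = n5495 := rfl
theorem F17206 : act 1 n5495 = n5495 := d11_1 D5495 (iv D5495) F12634
theorem F17207 : act 3 n5495 = n5495 := d20_1 D5495 (iv D5495) F12635
theorem F17208 : act 4 n5495 = n4069 := d23_1 D5495 (iv D4069) (iv F12636)
theorem F17209 : act 5 n5495 = n4153 := d25_1 D5495 (iv D4153) (iv D2943) (iv F8905) D4067
def n5496 : Q := act 7 n4067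
theorem D5496 : act 7 n4067 = n5496 := rfl
theorem F17210 : act 1 n5496 = n5496 := d12_1 D5496 (iv D5496) F12634
theorem F17211 : act 4 n5496 = n4070 := d24_1 D5496 (iv D4070) (iv F12636)
theorem F17212 : act 5 n5496 = n4068 := d26_1 D5496 (iv D4068) D4067
def n5497 : Q := act 3 n4068
theorem D5497 : act 3 n4068 = n5497 := rfl
theorem F17213 : act 1 n5497 = n4077 := d8_1 D5497 (iv D4077) (iv F12637)
theorem F17214 : act 7 n5497 = n5497 := d21_2 D4068 D5497 (iv D5497) (iv D4068) F8904
def n5498 : Q := act 6 n4068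
theorem D5498 : act 6 n4068 = n5498 := rfl
theorem F17215 : act 1 n5498 = n4078 := d11_1 D5498 (iv D4078) (iv F12637)
theorem F17216 : act 4 n5498 = n4072 := d23_1 D5498 (iv D4072) (iv F12638)
theorem F17217 : act 7 n5498 = n4156 := d27_2 D4068 D5498 (iv D4156) (iv D2944) (iv F8905)
def n5499 : Q := act 7 n4069
theorem D5499 : act 7 n4069 = n5499 := rfl
theorem F17218 : act 1 n5499 = n5499 := d12_1 D5499 (iv D5499) F12639
theorem F17219 : act 5 n5499 = n4157 := d26_1 D5499 (iv D4157) (iv F12641)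
def n5500 : Q := act 3 n4070
theorem D5500 : act 3 n4070 = n5500 := rfl
theorem F17220 : act 0 n5500 = n4664 := d2_1 D5500 (iv F14416) F13215
theorem F17221 : act 1 n5500 = n5500 := d8_1 D5500 (iv D5500) F12642
theorem F17222 : act 2 n5500 = n4398 := d13_1 D5500 F13587 D4402 F17198 F17196
theorem F17223 : act 5 n5500 = n4071 := d19_2 (iv F12643) D5500 (iv D4071)
theorem F17224 : act 7 n5500 = n4073 := d21_2 D4070 D5500 (iv D4073) (iv D2884) (iv F8907)
def n5501 : Q := act 6 n4070
theorem D5501 : act 6 n4070 = n5501 := rfl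
theorem F17225 : act 1 n5501 = n5501 := d11_1 D5501 (iv D5501) F12642
def n5502 : Q := act 2 n4071
theorem D5502 : act 2 n4071 = n5502 := rfl
theorem F17226 : act 0 n5502 = n4626 := d1_1 D5502 F14311 F13181
theorem F17227 : act 3 n5502 = n4387 := d13_2 D4071 D5502 F17202 (iv D5493) F12633
theorem F17228 : act 5 n5502 = n4398 := d15_2 F17223 D5502 (iv F17222)
theorem F17229 : act 7 n5502 = n4074 := d17_2 (iv F12645) D5502 (iv D4074)
theorem F17230 : act 1 n4381 = n5502 := d10_5 F17228 (iv D4398) (iv D3152) (iv F9661) D4381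
def n5503 : Q := act 4 n4071
theorem D5503 : act 4 n4071 = n5503 := rfl
theorem F17231 : act 1 n5503 = n4080 := d9_1 D5503 (iv D4080) (iv F12644)
theorem F17232 : act 7 n5503 = n4075 := d24_2 (iv F12645) D5503 (iv D4075)
def n5504 : Q := act 6 n4071
theorem D5504 : act 6 n4071 = n5504 := rfl
theorem F17233 : act 1 n5504 = n4081 := d11_1 D5504 (iv D4081) (iv F12644)
theorem F17234 : act 3 n5504 = n4072 := d20_1 D5504 (iv D4072) D4071
def n5505 : Q := act 5 n4072
theorem D5505 : act 5 n4072 = n5505 := rfl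
theorem F17235 : act 7 n5505 = n4163 := d26_2 (iv F12647) D5505 (iv D4163)
def n5506 : Q := act 1 n4074
theorem D5506 : act 1 n4074 = n5506 := rfl
theorem F17236 : act 0 n5506 = n4377 := d0_1 D5506 F13530 (iv F14300) F14301 F13174
theorem F17237 : act 2 n5506 = n4082 := d7_2 D4074 D5506 (iv D4082) (iv D2890) (iv F8915)
theorem F17238 : act 5 n5506 = n4375 := d10_2 (iv F13940) D5506 F13522 (iv F9984) (iv F13935)
theorem F17239 : act 7 n5506 = n4381 := d12_2 F17229 D5506 F17230
def n5507 : Q := act 6 n4074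
theorem D5507 : act 6 n4074 = n5507 := rfl
theorem F17240 : act 2 n5507 = n4076 := d16_1 D5507 (iv D4076) D4074
def n5508 : Q := act 6 n4075
theorem D5508 : act 6 n4075 = n5508 := rfl
theorem F17241 : act 1 n5508 = n4085 := d11_1 D5508 (iv D4085) (iv F12650)
theorem F17242 : act 3 n5508 = n5508 := d20_1 D5508 (iv D5508) F12651
theorem F17243 : act 4 n5508 = n4076 := d23_1 D5508 (iv D4076) D4075
def n5509 : Q := act 4 n4077
theorem D5509 : act 4 n4077 = n5509 := rfl
theorem F17244 : act 0 n5509 = n4097 := d3_1 D5509 (iv D4097) (iv F12654)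
theorem F17245 : act 2 n5509 = n5509 := d14_1 D5509 (iv D5509) F12655
theorem F17246 : act 3 n5509 = n4080 := d18_1 D5509 (iv D4080) (iv D2888) (iv F8921) D4077
theorem F17247 : act 5 n5509 = n5509 := d22_2 F12656 D5509 (iv D5509)
theorem F17248 : act 7 n5509 = n5509 := d24_2 F12657 D5509 (iv D5509)
def n5510 : Q := act 6 n4077
theorem D5510 : act 6 n4077 = n5510 := rfl
theorem F17249 : act 0 n5510 = n4098 := d5_1 D5510 (iv D4098) (iv F12654)
theorem F17250 : act 2 n5510 = n5510 := d16_1 D5510 (iv D5510) F12655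
theorem F17251 : act 3 n5510 = n4078 := d20_1 D5510 (iv D4078) D4077
def n5511 : Q := act 1 n4079
theorem D5511 : act 1 n4079 = n5511 := rfl
theorem F17252 : act 2 n5511 = n4381 := d7_2 D4079 D5511 F17230 (iv D5502) F12644
theorem F17253 : act 3 n5511 = n4291 := d8_2 (iv F12663) D5511 (iv D4291)
theorem F17254 : act 7 n5511 = n4082 := d12_2 (iv F12665) D5511 (iv D4082)
theorem F17255 : act 0 n4369 = n5511 := d2_3 F17253 (iv F16624) F16627
theorem F17256 : act 5 n4367 = n5511 := d19_0 F17253 F16623 F16620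
def n5512 : Q := act 4 n4079
theorem D5512 : act 4 n4079 = n5512 := rfl
theorem F17257 : act 0 n5512 = n4100 := d3_1 D5512 (iv D4100) (iv F12662)
theorem F17258 : act 2 n5512 = n4080 := d14_1 D5512 (iv D4080) D4079
theorem F17259 : act 3 n5512 = n5512 := d18_1 D5512 (iv D5512) F12663 F9462 (iv F12663)
theorem F17260 : act 5 n5512 = n5512 := d22_2 F12664 D5512 (iv D5512)
theorem F17261 : act 7 n5512 = n4083 := d24_2 (iv F12665) D5512 (iv D4083)
def n5513 : Q := act 6 n4080
theorem D5513 : act 6 n4080 = n5513 := rfl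
theorem F17262 : act 0 n5513 = n4101 := d5_1 D5513 (iv D4101) (iv F12666)
theorem F17263 : act 4 n5513 = n4081 := d23_1 D5513 (iv D4081) D4080
def n5514 : Q := act 0 n4082
theorem D5514 : act 0 n4082 = n5514 := rfl
theorem F17264 : act 1 n5514 = n4102 := d0_2 D4082 D5514 (iv D4102) (iv D2906) (iv F8929)
theorem F17265 : act 2 n5514 = n4377 := d1_2 F17237 D5514 (iv F17236)
theorem F17266 : act 3 n5514 = n4086 := d2_2 (iv F12671) D5514 (iv D4086)
theorem F17267 : act 7 n5514 = n4369 := d6_2 F17254 D5514 F17255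
theorem F17268 : act 5 n4360 = n5514 := d26_3 F17267 (iv D4369) (iv F13482)
def n5515 : Q := act 4 n4082
theorem D5515 : act 4 n4082 = n5515 := rfl
theorem F17269 : act 1 n5515 = n4083 := d9_1 D5515 (iv D4083) D4082
def n5516 : Q := act 5 n4082
theorem D5516 : act 5 n4082 = n5516 := rfl
theorem F17270 : act 0 n5516 = n4360 := d4_1 D5516 F17268 (iv D5514)
theorem F17271 : act 1 n5516 = n5516 := d10_1 D5516 (iv D5516) (iv D4082) F8931 D4082
theorem F17272 : act 2 n5516 = n4375 := d15_1 D5516 (iv F17238) F17237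
theorem F17273 : act 3 n5516 = n4088 := d19_1 D5516 (iv D4088) (iv F12671)
theorem F17274 : act 7 n5516 = n4367 := d26_2 F17254 D5516 F17256
def n5517 : Q := act 6 n4082
theorem D5517 : act 6 n4082 = n5517 := rfl
theorem F17275 : act 1 n5517 = n4084 := d11_1 D5517 (iv D4084) D4082
theorem F17276 : act 3 n5517 = n4089 := d20_1 D5517 (iv D4089) (iv F12671)
def n5518 : Q := act 3 n4083
theorem D5518 : act 3 n4083 = n5518 := rfl
theorem F17277 : act 0 n5518 = n4106 := d2_1 D5518 (iv D4106) (iv F12672)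
theorem F17278 : act 2 n5518 = n5518 := d13_1 D5518 (iv D5518) F12673 F8933 (iv F12673)
theorem F17279 : act 4 n5518 = n4090 := d18_2 D4083 D5518 (iv D4090) (iv D2895) (iv F8930)
theorem F17280 : act 5 n5518 = n5518 := d19_2 F12674 D5518 (iv D5518)
theorem F17281 : act 7 n5518 = n5518 := d21_2 F17261 D5518 (iv D5518) (iv F17261) F17259
def n5519 : Q := act 6 n4083
theorem D5519 : act 6 n4083 = n5519 := rfl
theorem F17282 : act 0 n5519 = n4107 := d5_1 D5519 (iv D4107) (iv F12672)
theorem F17283 : act 2 n5519 = n4085 := d16_1 D5519 (iv D4085) (iv F12673)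
theorem F17284 : act 4 n5519 = n4084 := d23_1 D5519 (iv D4084) D4083
def n5520 : Q := act 4 n4086
theorem D5520 : act 4 n4086 = n5520 := rfl
theorem F17285 : act 0 n5520 = n4087 := d3_1 D5520 (iv D4087) D4086
theorem F17286 : act 1 n5520 = n4108 := d9_1 D5520 (iv D4108) (iv F12681)
theorem F17287 : act 7 n5520 = n4294 := d24_2 (iv F12682) D5520 (iv D4294)
def n5521 : Q := act 5 n4086
theorem D5521 : act 5 n4086 = n5521 := rfl
theorem F17288 : act 0 n5521 = n4088 := d4_1 D5521 (iv D4088) D4086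
theorem F17289 : act 3 n5521 = n4360 := d19_1 D5521 F17268 F17266
theorem F17290 : act 7 n5521 = n4295 := d26_2 (iv F12682) D5521 (iv D4295)
theorem F17291 : act 1 n4350 = n5521 := d12_3 F17290 (iv F16611) F16553
def n5522 : Q := act 6 n4086
theorem D5522 : act 6 n4086 = n5522 := rfl
theorem F17292 : act 0 n5522 = n4089 := d5_1 D5522 (iv D4089) D4086
theorem F17293 : act 1 n5522 = n4110 := d11_1 D5522 (iv D4110) (iv F12681)
def n5523 : Q := act 3 n4087
theorem D5523 : act 3 n4087 = n5523 := rfl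
theorem F17294 : act 1 n5523 = n4090 := d8_1 D5523 (iv D4090) (iv F12683)
theorem F17295 : act 7 n5523 = n5523 := d21_2 (iv F12684) D5523 (iv D5523) F12684 F9469
def n5524 : Q := act 5 n4087
theorem D5524 : act 5 n4087 = n5524 := rfl
theorem F17296 : act 1 n5524 = n5524 := d10_1 D5524 (iv D5524) F12683 F8945 (iv F12683)
theorem F17297 : act 4 n5524 = n4088 := d22_1 D5524 (iv D4088) D4087
theorem F17298 : act 7 n5524 = n4297 := d26_2 (iv F12684) D5524 (iv D4297)
def n5525 : Q := act 6 n4087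
theorem D5525 : act 6 n4087 = n5525 := rfl
theorem F17299 : act 1 n5525 = n4091 := d11_1 D5525 (iv D4091) (iv F12683)
theorem F17300 : act 4 n5525 = n4089 := d23_1 D5525 (iv D4089) D4087
theorem F17301 : act 7 n5525 = n4613 := d27_2 (iv F12684) D5525 (iv D4613) F10259 F9470
def n5526 : Q := act 6 n4088
theorem D5526 : act 6 n4088 = n5526 := rfl
theorem F17302 : act 1 n5526 = n5526 := d11_1 D5526 (iv D5526) F12685
def n5527 : Q := act 5 n4089
theorem D5527 : act 5 n4089 = n5527 := rfl
def n5528 : Q := act 7 n4089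
theorem D5528 : act 7 n4089 = n5528 := rfl
theorem F17303 : act 1 n5528 = n4093 := d12_1 D5528 (iv D4093) (iv F12687)
theorem F17304 : act 4 n5528 = n4613 := d24_1 D5528 (iv F17301) F17300
theorem F17305 : act 6 n5528 = n4300 := d27_1 D5528 (iv D4300) (iv D3074) (iv F8942) D4089
def n5529 : Q := act 6 n4090
theorem D5529 : act 6 n4090 = n5529 := rfl
theorem F17306 : act 0 n5529 = n4116 := d5_1 D5529 (iv D4116) (iv F12688)
theorem F17307 : act 2 n5529 = n5529 := d16_1 D5529 (iv D5529) F12689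
theorem F17308 : act 3 n5529 = n4091 := d20_1 D5529 (iv D4091) D4090
def n5530 : Q := act 5 n4091
theorem D5530 : act 5 n4091 = n5530 := rfl
theorem F17309 : act 0 n5530 = n4117 := d4_1 D5530 (iv D4117) (iv F12692)
theorem F17310 : act 2 n5530 = n4094 := d15_1 D5530 (iv D4094) (iv F12693)
theorem F17311 : act 4 n5530 = n4092 := d22_1 D5530 (iv D4092) (iv F12694)
theorem F17312 : act 6 n5530 = n5530 := d25_2 D4091 D5530 (iv D5530) (iv D4091) F8945
theorem F17313 : act 7 n5530 = n4614 := d26_2 (iv F12695) D5530 (iv D4614)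
def n5531 : Q := act 1 n4092
theorem D5531 : act 1 n4092 = n5531 := rfl
theorem F17314 : act 6 n5531 = n5531 := d11_2 F12698 D5531 (iv D5531)
def n5532 : Q := act 7 n4092
theorem D5532 : act 7 n4092 = n5532 := rfl
theorem F17315 : act 0 n5532 = n4118 := d6_1 D5532 (iv D4118) (iv F12696)
theorem F17316 : act 2 n5532 = n4096 := d17_1 D5532 (iv D4096) (iv F12697)
theorem F17317 : act 4 n5532 = n4614 := d24_1 D5532 (iv F17313) F17311
theorem F17318 : act 5 n5532 = n4093 := d26_1 D5532 (iv D4093) D4092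
def n5533 : Q := act 1 n4094
theorem D5533 : act 1 n4094 = n5533 := rfl
theorem F17319 : act 0 n5533 = n5465 := d0_1 D5533 (iv D5465) F12539 (iv F9004) (iv F12703)
theorem F17320 : act 3 n5533 = n5533 := d8_2 F12704 D5533 (iv D5533)
theorem F17321 : act 4 n5533 = n4095 := d9_2 (iv F12705) D5533 (iv D4095)
theorem F17322 : act 6 n5533 = n5533 := d11_2 F12706 D5533 (iv D5533)
theorem F17323 : act 7 n5533 = n4615 := d12_2 (iv F12707) D5533 (iv D4615)
def n5534 : Q := act 2 n4095
theorem D5534 : act 2 n4095 = n5534 := rfl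
theorem F17324 : act 0 n5534 = n5466 := d1_1 D5534 (iv D5466) (iv F12708)
theorem F17325 : act 6 n5534 = n5534 := d16_2 F12710 D5534 (iv D5534)
def n5535 : Q := act 7 n4095
theorem D5535 : act 7 n4095 = n5535 := rfl
theorem F17326 : act 0 n5535 = n5467 := d6_1 D5535 (iv D5467) (iv F12708)
theorem F17327 : act 1 n5535 = n4096 := d12_1 D5535 (iv D4096) D4095
theorem F17328 : act 3 n5535 = n4204 := d21_1 D5535 (iv D4204) F9179 (iv F8963) (iv F12709)
theorem F17329 : act 4 n5535 = n4615 := d24_1 D5535 (iv F17323) F17321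
def n5536 : Q := act 6 n4097
theorem D5536 : act 6 n4097 = n5536 := rfl
theorem F17330 : act 2 n5536 = n5536 := d16_1 D5536 (iv D5536) F12715
theorem F17331 : act 3 n5536 = n4101 := d20_1 D5536 (iv D4101) (iv F12716)
theorem F17332 : act 4 n5536 = n4098 := d23_1 D5536 (iv D4098) D4097
def n5537 : Q := act 7 n4098
theorem D5537 : act 7 n4098 = n5537 := rfl
theorem F17333 : act 1 n5537 = n4797 := d12_1 D5537 F14834 F13236
theorem F17334 : act 2 n5537 = n5537 := d17_1 D5537 (iv D5537) F12719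
theorem F17335 : act 3 n5537 = n4207 := d21_1 D5537 (iv D4207) F9194 (iv F8969) (iv F12720)
theorem F17336 : act 6 n5537 = n5537 := d27_1 D5537 (iv D5537) (iv D4098) F8966 D4098
def n5538 : Q := act 0 n4099
theorem D5538 : act 0 n4099 = n5538 := rfl
theorem F17337 : act 1 n5538 = n4369 := d0_2 D4099 D5538 F17255 (iv D5511) F12662
theorem F17338 : act 2 n5538 = n4608 := d1_2 F13160 D5538 F14275
theorem F17339 : act 3 n5538 = n4304 := d2_2 (iv F12721) D5538 (iv D4304)
theorem F17340 : act 5 n5538 = n4366 := d4_2 F15177 D5538 (iv F15174)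
theorem F17341 : act 7 n5538 = n4102 := d6_2 (iv F12722) D5538 (iv D4102)
def n5539 : Q := act 4 n4102
theorem D5539 : act 4 n4102 = n5539 := rfl
theorem F17342 : act 0 n5539 = n4103 := d3_1 D5539 (iv D4103) D4102
def n5540 : Q := act 5 n4102
theorem D5540 : act 5 n4102 = n5540 := rfl
theorem F17343 : act 0 n5540 = n4104 := d4_1 D5540 (iv D4104) D4102
theorem F17344 : act 1 n5540 = n4357 := d10_1 D5540 F13473 D4360 F17268 F17264
theorem F17345 : act 2 n5540 = n4250 := d15_1 D5540 (iv F13158) F13157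
theorem F17346 : act 3 n5540 = n4109 := d19_1 D5540 (iv D4109) (iv F12728)
theorem F17347 : act 7 n5540 = n4366 := d26_2 F17341 D5540 (iv F17340)
def n5541 : Q := act 6 n4102
theorem D5541 : act 6 n4102 = n5541 := rfl
theorem F17348 : act 0 n5541 = n4105 := d5_1 D5541 (iv D4105) D4102
theorem F17349 : act 3 n5541 = n4110 := d20_1 D5541 (iv D4110) (iv F12728)
def n5542 : Q := act 3 n4103
theorem D5542 : act 3 n4103 = n5542 := rfl
theorem F17350 : act 1 n5542 = n4106 := d8_1 D5542 (iv D4106) (iv F12729)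
theorem F17351 : act 4 n5542 = n4111 := d18_2 D4103 D5542 (iv D4111) (iv D2911) (iv F8976)
theorem F17352 : act 7 n5542 = n5542 := d21_2 F15171 D5542 (iv D5542) (iv F15171) F15168
def n5543 : Q := act 6 n4103
theorem D5543 : act 6 n4103 = n5543 := rfl
theorem F17353 : act 1 n5543 = n4107 := d11_1 D5543 (iv D4107) (iv F12729)
theorem F17354 : act 4 n5543 = n4105 := d23_1 D5543 (iv D4105) D4103
def n5544 : Q := act 6 n4104
theorem D5544 : act 6 n4104 = n5544 := rfl
theorem F17355 : act 1 n5544 = n5544 := d11_1 D5544 (iv D5544) F12730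
theorem F17356 : act 2 n5544 = n4226 := d16_1 D5544 F13084 (iv F12731)
theorem F17357 : act 3 n5544 = n4114 := d20_1 D5544 (iv D4114) (iv F12732)
theorem F17358 : act 5 n5544 = n4715 := d25_1 D5544 F17140 F17139 (iv D4105) D4104
theorem F17359 : act 7 n5544 = n5544 := d27_2 F15179 D5544 (iv D5544) (iv F15179) F15178
def n5545 : Q := act 6 n4106
theorem D5545 : act 6 n4106 = n5545 := rfl
theorem F17360 : act 2 n5545 = n5545 := d16_1 D5545 (iv D5545) F12735
theorem F17361 : act 3 n5545 = n4107 := d20_1 D5545 (iv D4107) D4106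
theorem F17362 : act 4 n5545 = n4116 := d23_1 D5545 (iv D4116) (iv F12736)
theorem F17363 : act 7 n4849 = n5545 := d31_1 (iv F15005) F17362 F12763 (iv D4116) (iv D2914) F6194 F6195 (iv D1433) (iv D958) D960 F3094 D961 F3100 F2180 F1521 (iv D287) (iv D154) (iv F457) (iv D133) (iv F437) D232 (iv F1343) D641 F2123 D955 (iv F4515) (iv F6175) D2902 (iv F12720)
theorem F17364 : act 5 n5545 = n5537 := d26_1 F17363 (iv D5537) (iv F15005)
def n5546 : Q := act 3 n4108
theorem D5546 : act 3 n4108 = n5546 := rfl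
theorem F17365 : act 0 n5546 = n4111 := d2_1 D5546 (iv D4111) (iv F12741)
theorem F17366 : act 7 n5546 = n5546 := d21_2 (iv F12743) D5546 (iv D5546) F12743 F9500
def n5547 : Q := act 5 n4108
theorem D5547 : act 5 n4108 = n5547 := rfl
theorem F17367 : act 0 n5547 = n4112 := d4_1 D5547 (iv D4112) (iv F12741)
theorem F17368 : act 2 n5547 = n4120 := d15_1 D5547 (iv D4120) (iv F12742)
theorem F17369 : act 4 n5547 = n4109 := d22_1 D5547 (iv D4109) D4108
theorem F17370 : act 7 n5547 = n4307 := d26_2 (iv F12743) D5547 (iv D4307)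
def n5548 : Q := act 6 n4108
theorem D5548 : act 6 n4108 = n5548 := rfl
theorem F17371 : act 0 n5548 = n4113 := d5_1 D5548 (iv D4113) (iv F12741)
theorem F17372 : act 2 n5548 = n4121 := d16_1 D5548 (iv D4121) (iv F12742)
theorem F17373 : act 4 n5548 = n4110 := d23_1 D5548 (iv D4110) D4108
theorem F17374 : act 7 n5548 = n4654 := d27_2 (iv F12743) D5548 (iv D4654) F10327 F9501
def n5549 : Q := act 1 n4109
theorem D5549 : act 1 n4109 = n5549 := rfl
theorem F17375 : act 0 n5549 = n5549 := d0_1 D5549 (iv D5549) F12744 F8988 (iv F12744)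
theorem F17376 : act 3 n5549 = n4357 := d8_2 F17346 D5549 (iv F17344)
theorem F17377 : act 5 n5549 = n4350 := d10_2 D4109 D5549 F17291 (iv D5521) F12681
theorem F17378 : act 7 n5549 = n4308 := d12_2 (iv F12746) D5549 (iv D4308)
theorem F17379 : act 2 n4348 = n5549 := d17_3 F17378 (iv F16613) F16548
def n5550 : Q := act 6 n4109
theorem D5550 : act 6 n4109 = n5550 := rfl
theorem F17380 : act 0 n5550 = n4114 := d5_1 D5550 (iv D4114) (iv F12744)
theorem F17381 : act 2 n5550 = n4123 := d16_1 D5550 (iv D4123) (iv F12745)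
def n5551 : Q := act 5 n4110
theorem D5551 : act 5 n4110 = n5551 := rfl
theorem F17382 : act 0 n5551 = n4115 := d4_1 D5551 (iv D4115) (iv F12747)
theorem F17383 : act 2 n5551 = n4124 := d15_1 D5551 (iv D4124) (iv F12748)
theorem F17384 : act 7 n5551 = n4231 := d26_2 F13114 D5551 (iv F13113)
def n5552 : Q := act 2 n4111
theorem D5552 : act 2 n4111 = n5552 := rfl
theorem F17385 : act 1 n5552 = n5552 := d7_1 D5552 (iv D5552) F12749 F8993 (iv F12749)
theorem F17386 : act 3 n5552 = n4126 := d13_2 D4111 D5552 (iv D4126) (iv D2923) (iv F8986)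
theorem F17387 : act 7 n5552 = n5552 := d17_2 F12750 D5552 (iv D5552)
theorem F17388 : act 5 n5542 = n5552 := d19_0 F17386 (iv F12795) D5542
def n5553 : Q := act 5 n4111
theorem D5553 : act 5 n4111 = n5553 := rfl
theorem F17389 : act 1 n5553 = n5553 := d10_1 D5553 (iv D5553) F12749 F8994 (iv F12749)
theorem F17390 : act 2 n5553 = n5542 := d15_1 D5553 F17388 (iv D5552)
theorem F17391 : act 3 n5553 = n4112 := d19_1 D5553 (iv D4112) D4111
theorem F17392 : act 4 n5553 = n5552 := d22_1 D5553 (iv F17388) F17351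
theorem F17393 : act 7 n5553 = n5553 := d26_2 F12750 D5553 (iv D5553)
def n5554 : Q := act 6 n4111
theorem D5554 : act 6 n4111 = n5554 := rfl
theorem F17394 : act 1 n5554 = n4116 := d11_1 D5554 (iv D4116) (iv F12749)
theorem F17395 : act 3 n5554 = n4113 := d20_1 D5554 (iv D4113) D4111
theorem F17396 : act 7 n5487 = n5554 := d21_0 F17395 F12758 F10330 D4063 D5487
def n5555 : Q := act 6 n4112
theorem D5555 : act 6 n4112 = n5555 := rfl
theorem F17397 : act 1 n5555 = n5555 := d11_1 D5555 (iv D5555) F12751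
theorem F17398 : act 2 n5555 = n4129 := d16_1 D5555 (iv D4129) (iv F12752)
theorem F17399 : act 4 n5555 = n4114 := d23_1 D5555 (iv D4114) (iv F12753)
def n5556 : Q := act 5 n4113
theorem D5556 : act 5 n4113 = n5556 := rfl
theorem F17400 : act 2 n5556 = n4130 := d15_1 D5556 (iv D4130) (iv F12756)
theorem F17401 : act 4 n5556 = n4115 := d22_1 D5556 (iv D4115) (iv F12757)
theorem F17402 : act 7 n5556 = n4140 := d26_2 (iv F12758) D5556 F12842
def n5557 : Q := act 5 n4114
theorem D5557 : act 5 n4114 = n5557 := rfl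
theorem F17403 : act 2 n5557 = n4131 := d15_1 D5557 (iv D4131) (iv F12760)
theorem F17404 : act 3 n5557 = n4715 := d19_1 D5557 (iv F17358) F17357
theorem F17405 : act 6 n5557 = n4115 := d25_2 D4114 D5557 (iv D4115) (iv D2913) D2912
theorem F17406 : act 1 n5557 = n4438 := d29_6 D909 D1347 D1989 D2912 D4114 D5557 (iv D4438) (iv D3185) (iv D2204) (iv F6812) F6811 F6810 (iv D1671) (iv D1136) (iv D773) (iv D522) (iv D300) (iv D162) (iv D87) F171 D86 (iv F490) (iv F766) (iv F1343) F1342 F1340 (iv D423) (iv F1300) D616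
theorem F17407 : act 7 n4257 = n5557 := d27_0 F17405 F12762 F9298 D3042 D4257
def n5558 : Q := act 7 n4114
theorem D5558 : act 7 n4114 = n5558 := rfl
theorem F17408 : act 1 n5558 = n5558 := d12_1 D5558 (iv D5558) F12759
theorem F17409 : act 2 n5558 = n4132 := d17_1 D5558 (iv D4132) (iv F12760)
theorem F17410 : act 3 n5558 = n5558 := d21_1 D5558 (iv D5558) (iv F17357) F17359 F17357
theorem F17411 : act 5 n5558 = n4257 := d26_1 D5558 F17407 (iv D5557)
theorem F17412 : act 6 n5558 = n4311 := d27_1 D5558 (iv D4311) (iv D3085) (iv F8990) D4114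
def n5559 : Q := act 5 n4116
theorem D5559 : act 5 n4116 = n5559 := rfl
theorem F17413 : act 2 n5559 = n5559 := d15_1 D5559 (iv D5559) F12763
theorem F17414 : act 3 n5559 = n4117 := d19_1 D5559 (iv D4117) (iv F12764)
theorem F17415 : act 4 n5559 = n5537 := d22_1 D5559 (iv F17364) F17362
theorem F17416 : act 6 n5559 = n5559 := d25_2 D4116 D5559 (iv D5559) (iv D4116) F8994
theorem F17417 : act 7 n5559 = n5536 := d31_1 D5559 F17332 F12719 (iv D4098) (iv D2901) F6177 (iv D1982) (iv D1343) F2949 F2124 (iv D431) F766 D268 F865 F516 D155 (iv F913) (iv F1527) (iv F2232) (iv F3085) F3084 (iv D644) D643 F2130 (iv F2957) D1348 (iv F6193) D2915 (iv F12764)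
def n5560 : Q := act 7 n4116
theorem D5560 : act 7 n4116 = n5560 := rfl
theorem F17418 : act 1 n5560 = n5487 := d12_1 D5560 F17396 F17394
theorem F17419 : act 2 n5560 = n5560 := d17_1 D5560 (iv D5560) F12763
theorem F17420 : act 3 n5560 = n4528 := d21_1 D5560 (iv D4528) F10023 (iv F8998) (iv F12764)
theorem F17421 : act 4 n5560 = n4849 := d24_1 D5560 F17363 F17362
theorem F17422 : act 5 n5560 = n5536 := d26_1 D5560 (iv F17417) (iv D5559)
theorem F17423 : act 6 n5560 = n5560 := d27_1 D5560 (iv D5560) (iv D4116) F8995 D4116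
def n5561 : Q := act 2 n4119
theorem D5561 : act 2 n4119 = n5561 := rfl
theorem F17424 : act 0 n5561 = n4126 := d1_1 D5561 (iv D4126) (iv F12772)
theorem F17425 : act 1 n5561 = n5356 := d7_1 D5561 F16715 F12238 (iv F12224) (iv F12773)
theorem F17426 : act 4 n5561 = n5540 := d14_2 F13151 D5561 F17345
theorem F17427 : act 7 n5561 = n4901 := d17_2 (iv F12774) D5561 (iv D4901)
theorem F17428 : act 5 n5539 = n5561 := d22_0 F17426 (iv D5540) D5539
def n5562 : Q := act 5 n4119
theorem D5562 : act 5 n4119 = n5562 := rfl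
theorem F17429 : act 0 n5562 = n4127 := d4_1 D5562 (iv D4127) (iv F12772)
theorem F17430 : act 1 n5562 = n5353 := d10_1 D5562 F16704 F12220 (iv F12227) (iv F12773)
theorem F17431 : act 2 n5562 = n5539 := d15_1 D5562 F17428 (iv D5561)
theorem F17432 : act 3 n5562 = n4120 := d19_1 D5562 (iv D4120) D4119
theorem F17433 : act 4 n5562 = n4252 := d22_1 D5562 F13158 F13151
theorem F17434 : act 7 n5562 = n4899 := d26_2 (iv F12774) D5562 F15149
def n5563 : Q := act 6 n4119
theorem D5563 : act 6 n4119 = n5563 := rfl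
theorem F17435 : act 0 n5563 = n4128 := d5_1 D5563 (iv D4128) (iv F12772)
theorem F17436 : act 1 n5563 = n5355 := d11_1 D5563 (iv D5355) (iv F12773)
theorem F17437 : act 3 n5563 = n4121 := d20_1 D5563 (iv D4121) D4119
theorem F17438 : act 7 n5563 = n5563 := d27_2 (iv F12774) D5563 (iv D5563) F12774 F10943
def n5564 : Q := act 1 n4120
theorem D5564 : act 1 n4120 = n5564 := rfl
theorem F17439 : act 0 n5564 = n4135 := d0_1 D5564 (iv D4135) F9049 (iv F9020) (iv F12775)
theorem F17440 : act 3 n5564 = n5353 := d8_2 F17432 D5564 (iv F17430)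
theorem F17441 : act 4 n5564 = n4122 := d9_2 (iv F12776) D5564 (iv D4122)
theorem F17442 : act 5 n5564 = n5354 := d10_2 D4120 D5564 F16706 F12230 F11349
theorem F17443 : act 7 n5564 = n4312 := d12_2 (iv F12777) D5564 (iv D4312)
def n5565 : Q := act 6 n4120
theorem D5565 : act 6 n4120 = n5565 := rfl
theorem F17444 : act 0 n5565 = n4129 := d5_1 D5565 (iv D4129) (iv F12775)
theorem F17445 : act 4 n5565 = n4123 := d23_1 D5565 (iv D4123) (iv F12776)
def n5566 : Q := act 5 n4121
theorem D5566 : act 5 n4121 = n5566 := rfl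
theorem F17446 : act 0 n5566 = n4130 := d4_1 D5566 (iv D4130) (iv F12778)
theorem F17447 : act 4 n5566 = n4124 := d22_1 D5566 (iv D4124) (iv F12779)
theorem F17448 : act 7 n5566 = n4234 := d26_2 (iv F12780) D5566 F13107
def n5567 : Q := act 2 n4122
theorem D5567 : act 2 n4122 = n5567 := rfl
theorem F17449 : act 0 n5567 = n4137 := d1_1 D5567 (iv D4137) (iv F12781)
theorem F17450 : act 1 n5567 = n4348 := d7_1 D5567 F17379 (iv D5549) F12745 D4122
theorem F17451 : act 3 n5567 = n4347 := d13_2 F13136 D5567 F13452 D4584 (iv F14212)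
theorem F17452 : act 7 n5567 = n4314 := d17_2 (iv F12782) D5567 (iv D4314)
def n5568 : Q := act 6 n4122
theorem D5568 : act 6 n4122 = n5568 := rfl
theorem F17453 : act 0 n5568 = n4138 := d5_1 D5568 (iv D4138) (iv F12781)
theorem F17454 : act 1 n5568 = n4123 := d11_1 D5568 (iv D4123) D4122
def n5569 : Q := act 5 n4123
theorem D5569 : act 5 n4123 = n5569 := rfl
theorem F17455 : act 0 n5569 = n4131 := d4_1 D5569 (iv D4131) (iv F12783)
theorem F17456 : act 3 n5569 = n5448 := d19_1 D5569 F17055 F13146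
theorem F17457 : act 6 n5569 = n4124 := d25_2 D4123 D5569 (iv D4124) (iv D2922) D2921
theorem F17458 : act 7 n4263 = n5569 := d27_0 F17457 (iv F12786) F9307 D3046 D4263
def n5570 : Q := act 7 n4123
theorem D5570 : act 7 n4123 = n5570 := rfl
theorem F17459 : act 0 n5570 = n4132 := d6_1 D5570 (iv D4132) (iv F12783)
theorem F17460 : act 3 n5570 = n4276 := d21_1 D5570 F13231 F14852 F14851 F13146
theorem F17461 : act 5 n5570 = n4263 := d26_1 D5570 F17458 (iv D5569)
theorem F17462 : act 6 n5570 = n4317 := d27_1 D5570 (iv D4317) (iv D3089) (iv F9016) D4123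
def n5571 : Q := act 1 n4124
theorem D5571 : act 1 n4124 = n5571 := rfl
theorem F17463 : act 0 n5571 = n5481 := d0_1 D5571 (iv D5481) F12597 (iv F9027) (iv F12784)
theorem F17464 : act 3 n5571 = n5446 := d8_2 (iv F12785) D5571 F17048
theorem F17465 : act 7 n5571 = n4233 := d12_2 F12786 D5571 F13103
def n5572 : Q := act 6 n4126
theorem D5572 : act 6 n4126 = n5572 := rfl
theorem F17466 : act 1 n5572 = n5572 := d11_1 D5572 (iv D5572) F12792
theorem F17467 : act 2 n5572 = n4128 := d16_1 D5572 (iv D4128) D4126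
theorem F17468 : act 4 n5572 = n5544 := d23_1 D5572 (iv D5544) (iv F12793)
theorem F17469 : act 7 n5572 = n5572 := d27_2 (iv F12794) D5572 (iv D5572) F12794 F10956
def n5573 : Q := act 6 n4127
theorem D5573 : act 6 n4127 = n5573 := rfl
theorem F17470 : act 1 n5573 = n4140 := d11_1 D5573 (iv D4140) (iv F12796)
theorem F17471 : act 2 n5573 = n5543 := d16_1 D5573 (iv D5543) (iv F12797)
theorem F17472 : act 3 n5573 = n4129 := d20_1 D5573 (iv D4129) (iv F12798)
theorem F17473 : act 4 n5573 = n4229 := d23_1 D5573 F13093 (iv F12799)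
theorem F17474 : act 5 n4655 = n5573 := d22_0 F17473 (iv F17114) (iv F17116)
def n5574 : Q := act 5 n4128
theorem D5574 : act 5 n4128 = n5574 := rfl
theorem F17475 : act 1 n5574 = n4396 := d10_1 D5574 (iv D4396) F9690 (iv F9037) (iv F12801)
theorem F17476 : act 3 n5574 = n4130 := d19_1 D5574 (iv D4130) (iv F12802)
theorem F17477 : act 4 n5574 = n5469 := d22_1 D5574 F17118 F13083
theorem F17478 : act 6 n5574 = n4655 := d25_2 D4128 D5574 F17474 (iv D5573) (iv D4127)
theorem F17479 : act 7 n5574 = n5574 := d26_2 F12803 D5574 (iv D5574)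
def n5575 : Q := act 5 n4129
theorem D5575 : act 5 n4129 = n5575 := rfl
theorem F17480 : act 1 n5575 = n4527 := d10_1 D5575 (iv D4527) F10021 (iv F9066) (iv F12804)
theorem F17481 : act 3 n5575 = n4655 := d19_1 D5575 F17474 F17472
theorem F17482 : act 4 n5575 = n4131 := d22_1 D5575 (iv D4131) (iv F12805)
theorem F17483 : act 6 n5575 = n4130 := d25_2 D4129 D5575 (iv D4130) (iv D2925) D2924
theorem F17484 : act 7 n5575 = n4265 := d31_1 D5575 F13194 (iv F13172) (iv D4257) F9376 F9377 (iv D2278) (iv F6233) (iv F6235) (iv F7036) F7034 F7035 F5152 (iv F4548) (iv F6567) (iv D2122) (iv F6557) D3080 (iv F13322) F13320 F13319 F13321 F15180 F15177 F12722 D4103 (iv F12797) D5573 F17472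
def n5576 : Q := act 7 n4129
theorem D5576 : act 7 n4129 = n5576 := rfl
theorem F17485 : act 1 n5576 = n4143 := d12_1 D5576 (iv D4143) (iv F12804)
theorem F17486 : act 4 n5576 = n4132 := d24_1 D5576 (iv D4132) (iv F12805)
theorem F17487 : act 5 n5576 = n4265 := d26_1 D5576 (iv F17484) (iv D5575)
theorem F17488 : act 6 n5576 = n4319 := d27_1 D5576 (iv D4319) (iv D3092) (iv F9022) D4129
def n5577 : Q := act 1 n4133
theorem D5577 : act 1 n4133 = n5577 := rfl
theorem F17489 : act 0 n5577 = n5353 := d0_1 D5577 (iv F17430) F17429 F12796 (iv F12817)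
theorem F17490 : act 3 n5577 = n4135 := d8_2 (iv F12819) D5577 (iv D4135)
theorem F17491 : act 4 n5577 = n4254 := d9_2 (iv F12820) D5577 F13164
theorem F17492 : act 5 n5577 = n5349 := d10_2 D4133 D5577 F16688 F12305 F11365
theorem F17493 : act 7 n5348 = n5577 := d26_0 F17492 (iv D5349) D5348
def n5578 : Q := act 6 n4133
theorem D5578 : act 6 n4133 = n5578 := rfl
theorem F17494 : act 0 n5578 = n4140 := d5_1 D5578 (iv D4140) (iv F12817)
theorem F17495 : act 2 n5578 = n4234 := d16_1 D5578 F13108 (iv F12818)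
theorem F17496 : act 3 n5578 = n4136 := d20_1 D5578 (iv D4136) (iv F12819)
theorem F17497 : act 4 n5578 = n4231 := d23_1 D5578 F13097 (iv F12820)
theorem F17498 : act 5 n5578 = n4654 := d25_1 D5578 (iv D4654) F10326 (iv F9047) D4133
def n5579 : Q := act 7 n4133
theorem D5579 : act 7 n4133 = n5579 := rfl
theorem F17499 : act 0 n5579 = n4141 := d6_1 D5579 (iv D4141) (iv F12817)
theorem F17500 : act 1 n5579 = n5348 := d12_1 D5579 F17493 (iv D5577)
theorem F17501 : act 2 n5579 = n4262 := d17_1 D5579 (iv D4262) (iv F12818)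
theorem F17502 : act 3 n5579 = n4324 := d21_1 D5579 (iv D4324) F9557 (iv F9052) (iv F12819)
theorem F17503 : act 4 n5579 = n4256 := d24_1 D5579 (iv D4256) (iv F12820)
theorem F17504 : act 5 n5579 = n4134 := d26_1 D5579 (iv D4134) D4133
def n5580 : Q := act 6 n4134
theorem D5580 : act 6 n4134 = n5580 := rfl
theorem F17505 : act 0 n5580 = n4142 := d5_1 D5580 (iv D4142) (iv F12821)
theorem F17506 : act 1 n5580 = n5370 := d11_1 D5580 F16784 (iv F12822)
theorem F17507 : act 2 n5580 = n4558 := d16_1 D5580 (iv D4558) (iv F12823)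
theorem F17508 : act 3 n5580 = n4325 := d20_1 D5580 (iv D4325) (iv F12824)
theorem F17509 : act 4 n5580 = n4554 := d23_1 D5580 (iv D4554) (iv F12825)
theorem F17510 : act 7 n5580 = n4723 := d27_2 D4134 D5580 (iv D4723) F10498 (iv F9047)
def n5581 : Q := act 2 n4135
theorem D5581 : act 2 n4135 = n5581 := rfl
theorem F17511 : act 1 n5581 = n5581 := d7_1 D5581 (iv D5581) (iv D4135) F9050 D4135
theorem F17512 : act 4 n5581 = n4137 := d14_2 (iv F12826) D5581 (iv D4137)
theorem F17513 : act 7 n5581 = n4326 := d17_2 (iv F12827) D5581 (iv D4326)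
def n5582 : Q := act 6 n4135
theorem D5582 : act 6 n4135 = n5582 := rfl
theorem F17514 : act 1 n5582 = n4136 := d11_1 D5582 (iv D4136) D4135
theorem F17515 : act 4 n5582 = n4138 := d23_1 D5582 (iv D4138) (iv F12826)
def n5583 : Q := act 7 n4136
theorem D5583 : act 7 n4136 = n5583 := rfl
theorem F17516 : act 0 n5583 = n4143 := d6_1 D5583 (iv D4143) (iv F12828)
theorem F17517 : act 2 n5583 = n5583 := d17_1 D5583 (iv D5583) F12829
theorem F17518 : act 4 n5583 = n4139 := d24_1 D5583 (iv D4139) (iv F12830)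
theorem F17519 : act 5 n5583 = n5483 := d26_1 D5583 (iv D5483) (iv F12831)
theorem F17520 : act 6 n5583 = n4328 := d27_1 D5583 (iv D4328) (iv D3099) (iv F9052) D4136
def n5584 : Q := act 3 n4137
theorem D5584 : act 3 n4137 = n5584 := rfl
theorem F17521 : act 0 n5584 = n4347 := d2_1 D5584 (iv F17451) F17449
theorem F17522 : act 1 n5584 = n5584 := d8_1 D5584 (iv D5584) F12832
theorem F17523 : act 2 n5584 = n4583 := d13_1 D5584 (iv F14208) (iv D4247) F9333 D4137
theorem F17524 : act 7 n5584 = n4346 := d21_2 (iv F12833) D5584 (iv F16543) F16617 (iv D4329)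
theorem F17525 : act 4 n5201 = n5584 := d24_3 F17524 F13450 D5201
def n5585 : Q := act 6 n4137
theorem D5585 : act 6 n4137 = n5585 := rfl
theorem F17526 : act 1 n5585 = n5585 := d11_1 D5585 (iv D5585) F12832
theorem F17527 : act 2 n5585 = n4138 := d16_1 D5585 (iv D4138) D4137
def n5586 : Q := act 5 n4138
theorem D5586 : act 5 n4138 = n5586 := rfl
theorem F17528 : act 1 n5586 = n5485 := d10_1 D5586 (iv D5485) F12620 (iv F9056) (iv F12834)
def n5587 : Q := act 7 n4138
theorem D5587 : act 7 n4138 = n5587 := rfl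
theorem F17529 : act 1 n5587 = n4139 := d12_1 D5587 (iv D4139) (iv F12834)
theorem F17530 : act 6 n5587 = n4332 := d27_1 D5587 (iv D4332) (iv D3101) (iv F9053) D4138
def n5588 : Q := act 3 n4139
theorem D5588 : act 3 n4139 = n5588 := rfl
theorem F17531 : act 0 n5588 = n4144 := d2_1 D5588 (iv D4144) (iv F12835)
theorem F17532 : act 5 n5588 = n4847 := d19_2 (iv F12837) D5588 F14997
theorem F17533 : act 6 n5588 = n4333 := d20_2 (iv F12838) D5588 (iv D4333)
theorem F17534 : act 7 n5588 = n4804 := d21_2 D4139 D5588 (iv D4804) F10707 F9327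
theorem F17535 : act 2 n4809 = n5588 := d17_3 F17534 F14856 D4809
def n5589 : Q := act 6 n4141
theorem D5589 : act 6 n4141 = n5589 := rfl
theorem F17536 : act 1 n5589 = n4906 := d11_1 D5589 (iv D4906) (iv F12843)
theorem F17537 : act 2 n5589 = n4265 := d16_1 D5589 (iv D4265) (iv F12844)
theorem F17538 : act 3 n5589 = n4339 := d20_1 D5589 (iv D4339) (iv F12845)
theorem F17539 : act 4 n5589 = n4257 := d23_1 D5589 (iv D4257) (iv F12846)
def n5590 : Q := act 5 n4142
theorem D5590 : act 5 n4142 = n5590 := rfl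
theorem F17540 : act 1 n5590 = n5590 := d10_1 D5590 (iv D5590) F12848 F9072 (iv F12848)
theorem F17541 : act 2 n5590 = n4319 := d15_1 D5590 F13370 (iv F12849)
theorem F17542 : act 3 n5590 = n4340 := d19_1 D5590 (iv D4340) (iv F12850)
theorem F17543 : act 4 n5590 = n4311 := d22_1 D5590 F13343 (iv F12851)
theorem F17544 : act 7 n5590 = n4310 := d26_2 (iv F12852) D5590 F13339
def n5591 : Q := act 3 n4143
theorem D5591 : act 3 n4143 = n5591 := rfl
theorem F17545 : act 5 n5591 = n5487 := d19_2 (iv F12855) D5591 (iv D5487)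
theorem F17546 : act 6 n5591 = n4341 := d20_2 (iv F12856) D5591 (iv D4341)
def n5592 : Q := act 4 n4144
theorem D5592 : act 4 n4144 = n5592 := rfl
theorem F17547 : act 1 n5592 = n4279 := d9_1 D5592 F13239 (iv F12857)
theorem F17548 : act 2 n5592 = n4810 := d14_1 D5592 F14874 F12861
theorem F17549 : act 5 n5592 = n4848 := d22_2 (iv F12858) D5592 (iv D4848)
theorem F17550 : act 6 n5592 = n4343 := d23_2 (iv F12859) D5592 (iv D4343)
theorem F17551 : act 7 n5592 = n4805 := d24_2 (iv F12860) D5592 (iv D4805)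
def n5593 : Q := act 6 n4146
theorem D5593 : act 6 n4146 = n5593 := rfl
theorem F17552 : act 2 n5593 = n4153 := d16_1 D5593 (iv D4153) (iv F12864)
theorem F17553 : act 4 n5593 = n4149 := d23_1 D5593 (iv D4149) (iv F12865)
def n5594 : Q := act 7 n4146
theorem D5594 : act 7 n4146 = n5594 := rfl
theorem F17554 : act 0 n5594 = n4241 := d6_1 D5594 (iv F16979) F16975
theorem F17555 : act 2 n5594 = n4154 := d17_1 D5594 (iv D4154) (iv F12864)
theorem F17556 : act 3 n5594 = n4224 := d21_1 D5594 F13079 D4411 F17191 F17189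
theorem F17557 : act 4 n5594 = n4150 := d24_1 D5594 (iv D4150) (iv F12865)
theorem F17558 : act 5 n5594 = n4147 := d26_1 D5594 (iv D4147) D4146
def n5595 : Q := act 6 n4147
theorem D5595 : act 6 n4147 = n5595 := rfl
theorem F17559 : act 1 n5595 = n4345 := d11_1 D5595 (iv D4345) (iv F12866)
theorem F17560 : act 2 n5595 = n4156 := d16_1 D5595 (iv D4156) (iv F12867)
theorem F17561 : act 4 n5595 = n4152 := d23_1 D5595 (iv D4152) (iv F12868)
def n5596 : Q := act 0 n4148
theorem D5596 : act 0 n4148 = n5596 := rfl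
theorem F17562 : act 2 n5596 = n4450 := d1_2 (iv F12869) D5596 (iv D4450)
theorem F17563 : act 4 n5596 = n5200 := d3_2 F15445 D5596 F16163
theorem F17564 : act 5 n5596 = n4346 := d4_2 (iv F12870) D5596 (iv D4346)
def n5597 : Q := act 6 n4148
theorem D5597 : act 6 n4148 = n5597 := rfl
theorem F17565 : act 1 n5597 = n4149 := d11_1 D5597 (iv D4149) D4148
theorem F17566 : act 2 n5597 = n4451 := d16_1 D5597 (iv D4451) (iv F12869)
def n5598 : Q := act 7 n4148
theorem D5598 : act 7 n4148 = n5598 := rfl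
theorem F17567 : act 1 n5598 = n4150 := d12_1 D5598 (iv D4150) D4148
theorem F17568 : act 2 n5598 = n4452 := d17_1 D5598 (iv D4452) (iv F12869)
theorem F17569 : act 5 n5598 = n4347 := d26_1 D5598 (iv D4347) (iv F12870)
def n5599 : Q := act 7 n4149
theorem D5599 : act 7 n4149 = n5599 := rfl
theorem F17570 : act 2 n5599 = n4157 := d17_1 D5599 (iv D4157) (iv F12871)
def n5600 : Q := act 3 n4150
theorem D5600 : act 3 n4150 = n5600 := rfl
theorem F17571 : act 5 n5600 = n4151 := d19_2 (iv F12873) D5600 (iv D4151)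
def n5601 : Q := act 6 n4150
theorem D5601 : act 6 n4150 = n5601 := rfl
theorem F17572 : act 2 n5601 = n4159 := d16_1 D5601 (iv D4159) (iv F12872)
def n5602 : Q := act 2 n4151
theorem D5602 : act 2 n4151 = n5602 := rfl
theorem F17573 : act 3 n5602 = n4160 := d13_2 D4151 D5602 (iv D4160) (iv D2947) (iv F9078)
def n5603 : Q := act 4 n4151
theorem D5603 : act 4 n4151 = n5603 := rfl
theorem F17574 : act 1 n5603 = n4351 := d9_1 D5603 (iv D4351) (iv F12874)
def n5604 : Q := act 6 n4151
theorem D5604 : act 6 n4151 = n5604 := rfl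
theorem F17575 : act 1 n5604 = n4352 := d11_1 D5604 (iv D4352) (iv F12874)
theorem F17576 : act 3 n5604 = n4152 := d20_1 D5604 (iv D4152) D4151
def n5605 : Q := act 5 n4152
theorem D5605 : act 5 n4152 = n5605 := rfl
theorem F17577 : act 2 n5605 = n4163 := d15_1 D5605 (iv D4163) (iv F12876)
def n5606 : Q := act 7 n4153
theorem D5606 : act 7 n4153 = n5606 := rfl
theorem F17578 : act 1 n5606 = n4460 := d12_1 D5606 (iv D4460) (iv F12877)
theorem F17579 : act 4 n5606 = n4157 := d24_1 D5606 (iv D4157) (iv F12879)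
def n5607 : Q := act 6 n4154
theorem D5607 : act 6 n4154 = n5607 := rfl
theorem F17580 : act 1 n5607 = n4462 := d11_1 D5607 (iv D4462) (iv F12880)
theorem F17581 : act 4 n5607 = n4159 := d23_1 D5607 (iv D4159) (iv F12881)
def n5608 : Q := act 6 n4155
theorem D5608 : act 6 n4155 = n5608 := rfl
theorem F17582 : act 0 n5608 = n5457 := d5_1 D5608 (iv D5457) (iv F12883)
theorem F17583 : act 1 n5608 = n4174 := d11_1 D5608 (iv D4174) (iv F12884)
theorem F17584 : act 3 n5608 = n4156 := d20_1 D5608 (iv D4156) D4155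
theorem F17585 : act 4 n5608 = n5456 := d23_1 D5608 (iv D5456) F12886
def n5609 : Q := act 5 n4156
theorem D5609 : act 5 n4156 = n5609 := rfl
theorem F17586 : act 4 n5609 = n4163 := d22_1 D5609 (iv D4163) (iv F12888)
def n5610 : Q := act 3 n4157
theorem D5610 : act 3 n4157 = n5610 := rfl
theorem F17587 : act 0 n5610 = n5049 := d2_1 D5610 (iv F17012) F17010
theorem F17588 : act 1 n5610 = n4467 := d8_1 D5610 (iv D4467) (iv F12889)
theorem F17589 : act 7 n5610 = n4164 := d21_2 D4157 D5610 (iv D4164) (iv D2949) (iv F9085)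
def n5611 : Q := act 6 n4157
theorem D5611 : act 6 n4157 = n5611 := rfl
theorem F17590 : act 1 n5611 = n4468 := d11_1 D5611 (iv D4468) (iv F12889)
theorem F17591 : act 7 n5611 = n4159 := d27_2 D4157 D5611 (iv D4159) (iv D2946) D2945
def n5612 : Q := act 2 n4158
theorem D5612 : act 2 n4158 = n5612 := rfl
theorem F17592 : act 5 n5612 = n4160 := d15_2 (iv F12891) D5612 (iv D4160)
theorem F17593 : act 7 n5612 = n4165 := d17_2 (iv F12892) D5612 (iv D4165)
def n5613 : Q := act 4 n4158
theorem D5613 : act 4 n4158 = n5613 := rfl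
theorem F17594 : act 0 n5613 = n5450 := d3_1 D5613 F17060 F17013
theorem F17595 : act 1 n5613 = n4470 := d9_1 D5613 (iv D4470) (iv F12890)
theorem F17596 : act 3 n5613 = n5455 := d18_1 D5613 (iv F17155) (iv F17158) F12881 D4158
theorem F17597 : act 5 n5613 = n4161 := d22_2 (iv F12891) D5613 (iv D4161)
theorem F17598 : act 7 n5613 = n4166 := d24_2 (iv F12892) D5613 (iv D4166)
def n5614 : Q := act 6 n4158
theorem D5614 : act 6 n4158 = n5614 := rfl
theorem F17599 : act 1 n5614 = n4471 := d11_1 D5614 (iv D4471) (iv F12890)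
theorem F17600 : act 3 n5614 = n4159 := d20_1 D5614 (iv D4159) D4158
def n5615 : Q := act 5 n4159
theorem D5615 : act 5 n4159 = n5615 := rfl
theorem F17601 : act 6 n5615 = n4163 := d25_2 D4159 D5615 (iv D4163) (iv D2948) (iv F9087)
def n5616 : Q := act 1 n4160
theorem D5616 : act 1 n4160 = n5616 := rfl
theorem F17602 : act 2 n5616 = n4176 := d7_2 D4160 D5616 (iv D4176) (iv D2958) (iv F9088)
theorem F17603 : act 7 n5616 = n4168 := d12_2 (iv F12894) D5616 (iv D4168)
def n5617 : Q := act 4 n4160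
theorem D5617 : act 4 n4160 = n5617 := rfl
theorem F17604 : act 0 n5617 = n5442 := d3_1 D5617 (iv F17034) F17019
theorem F17605 : act 2 n5617 = n4161 := d14_1 D5617 (iv D4161) D4160
theorem F17606 : act 7 n5617 = n4169 := d24_2 (iv F12894) D5617 (iv D4169)
def n5618 : Q := act 6 n4160
theorem D5618 : act 6 n4160 = n5618 := rfl
theorem F17607 : act 2 n5618 = n4162 := d16_1 D5618 (iv D4162) D4160
def n5619 : Q := act 6 n4161
theorem D5619 : act 6 n4161 = n5619 := rfl
theorem F17608 : act 0 n5619 = n5451 := d5_1 D5619 (iv D5451) (iv F12895)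
theorem F17609 : act 1 n5619 = n4178 := d11_1 D5619 (iv D4178) (iv F12896)
theorem F17610 : act 3 n5619 = n5456 := d20_1 D5619 (iv D5456) (iv F12897)
theorem F17611 : act 4 n5619 = n4162 := d23_1 D5619 (iv D4162) D4161
def n5620 : Q := act 5 n4162
theorem D5620 : act 5 n4162 = n5620 := rfl
theorem F17612 : act 3 n5620 = n4163 := d19_1 D5620 (iv D4163) (iv F12900)
def n5621 : Q := act 7 n4162
theorem D5621 : act 7 n4162 = n5621 := rfl
theorem F17613 : act 1 n5621 = n4180 := d12_1 D5621 (iv D4180) (iv F12899)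
theorem F17614 : act 6 n5621 = n4173 := d27_1 D5621 (iv D4173) (iv D2954) (iv F9089) D4162
def n5622 : Q := act 1 n4163
theorem D5622 : act 1 n4163 = n5622 := rfl
theorem F17615 : act 5 n5622 = n4181 := d10_2 D4163 D5622 (iv D4181) (iv D2961) (iv F9090)
def n5623 : Q := act 2 n4164
theorem D5623 : act 2 n4164 = n5623 := rfl
theorem F17616 : act 0 n5623 = n5041 := d1_1 D5623 F15634 (iv F12901)
theorem F17617 : act 3 n5623 = n5427 := d13_2 D4164 D5623 F16986 F12471 (iv F9093)
theorem F17618 : act 6 n5623 = n4917 := d16_2 (iv F12903) D5623 F15218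
def n5624 : Q := act 4 n4164
theorem D5624 : act 4 n4164 = n5624 := rfl
theorem F17619 : act 0 n5624 = n5045 := d3_1 D5624 F15644 (iv F12901)
theorem F17620 : act 1 n5624 = n4480 := d9_1 D5624 (iv D4480) (iv F12902)
theorem F17621 : act 3 n5624 = n5624 := d18_1 D5624 (iv D5624) (iv D4164) F9094 D4164
theorem F17622 : act 6 n5624 = n4919 := d23_2 (iv F12903) D5624 F15225
def n5625 : Q := act 1 n4165
theorem D5625 : act 1 n4165 = n5625 := rfl
theorem F17623 : act 2 n5625 = n4482 := d7_2 D4165 D5625 (iv D4482) (iv D3213) (iv F9096)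
theorem F17624 : act 0 n4974 = n5625 := d1_3 F17623 (iv F13863) (iv F15413)
theorem F17625 : act 4 n4967 = n5625 := d14_0 F17623 F13862 D4967
theorem F17626 : act 5 n4993 = n5625 := d15_0 F17623 (iv F13864) (iv F15481)
def n5626 : Q := act 4 n4165
theorem D5626 : act 4 n4165 = n5626 := rfl
theorem F17627 : act 1 n5626 = n4967 := d9_1 D5626 F17625 (iv D5625)
theorem F17628 : act 2 n5626 = n4166 := d14_1 D5626 (iv D4166) D4165
theorem F17629 : act 5 n5626 = n4169 := d22_2 (iv F12904) D5626 (iv D4169)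
theorem F17630 : act 3 n4969 = n5626 := d8_0 F17627 F15389 D4969
def n5627 : Q := act 6 n4165
theorem D5627 : act 6 n4165 = n5627 := rfl
theorem F17631 : act 0 n5627 = n5056 := d5_1 D5627 (iv F17027) F17025
theorem F17632 : act 2 n5627 = n4167 := d16_1 D5627 (iv D4167) D4165
theorem F17633 : act 3 n5627 = n5440 := d20_1 D5627 F17027 F15664
theorem F17634 : act 5 n4924 = n5627 := d19_0 F17633 F17026 (iv F15237)
def n5628 : Q := act 6 n4166
theorem D5628 : act 6 n4166 = n5628 := rfl
theorem F17635 : act 0 n5628 = n5057 := d5_1 D5628 (iv F17032) F17028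
theorem F17636 : act 1 n5628 = n4485 := d11_1 D5628 (iv D4485) (iv F12905)
theorem F17637 : act 3 n5628 = n5628 := d20_1 D5628 (iv D5628) F12906
theorem F17638 : act 4 n5628 = n4167 := d23_1 D5628 (iv D4167) D4166
theorem F17639 : act 5 n4925 = n5628 := d22_0 F17638 (iv F12911) D4925
def n5629 : Q := act 7 n4167
theorem D5629 : act 7 n4167 = n5629 := rfl
theorem F17640 : act 0 n5629 = n5050 := d6_1 D5629 F15657 (iv F12908)
theorem F17641 : act 1 n5629 = n4487 := d12_1 D5629 (iv D4487) (iv F12909)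
theorem F17642 : act 3 n5629 = n4921 := d21_1 D5629 (iv D4921) F11004 (iv F9102) (iv F12910)
theorem F17643 : act 5 n5629 = n4922 := d26_1 D5629 F15233 F12911
def n5630 : Q := act 0 n4168
theorem D5630 : act 0 n4168 = n5630 := rfl
theorem F17644 : act 1 n5630 = n5617 := d0_2 D4168 D5630 F17604 (iv D5442) F12484
theorem F17645 : act 2 n5630 = n4182 := d1_2 (iv F12912) D5630 (iv D4182)
theorem F17646 : act 4 n5616 = n5630 := d14_0 F17645 (iv F12949) (iv F17602)
def n5631 : Q := act 4 n4168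
theorem D5631 : act 4 n4168 = n5631 := rfl
theorem F17647 : act 0 n5631 = n5616 := d3_1 D5631 F17646 (iv D5630)
theorem F17648 : act 1 n5631 = n4169 := d9_1 D5631 (iv D4169) D4168
theorem F17649 : act 2 n5631 = n4183 := d14_1 D5631 (iv D4183) (iv F12912)
theorem F17650 : act 7 n5631 = n5630 := d24_2 F17603 D5631 (iv F17646)
theorem F17651 : act 3 n5000 = n5631 := d13_0 F17649 (iv F13523) (iv F17272) F17273 (iv F15504)
theorem F17652 : act 5 n5631 = n4992 := d19_2 D5000 F17651 F15479
def n5632 : Q := act 5 n4168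
theorem D5632 : act 5 n4168 = n5632 := rfl
theorem F17653 : act 1 n5632 = n4993 := d10_1 D5632 F17626 (iv D5625) F12904 D4168
theorem F17654 : act 2 n5632 = n4184 := d15_1 D5632 (iv D4184) (iv F12912)
theorem F17655 : act 4 n5632 = n4992 := d22_1 D5632 (iv F17652) (iv D5631)
def n5633 : Q := act 6 n4168
theorem D5633 : act 6 n4168 = n5633 := rfl
theorem F17656 : act 1 n5633 = n4170 := d11_1 D5633 (iv D4170) D4168
theorem F17657 : act 2 n5633 = n4185 := d16_1 D5633 (iv D4185) (iv F12912)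
def n5634 : Q := act 3 n4169
theorem D5634 : act 3 n4169 = n5634 := rfl
theorem F17658 : act 1 n5634 = n5000 := d8_1 D5634 F17651 F17648
theorem F17659 : act 2 n5634 = n5634 := d13_1 D5634 (iv D5634) F12913 F9105 (iv F12913)
theorem F17660 : act 5 n5634 = n4969 := d19_2 F17629 D5634 F17630
theorem F17661 : act 7 n5210 = n5634 := d26_0 F17660 F15399 D5210
def n5635 : Q := act 6 n4169
theorem D5635 : act 6 n4169 = n5635 := rfl
theorem F17662 : act 2 n5635 = n4171 := d16_1 D5635 (iv D4171) (iv F12913)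
theorem F17663 : act 4 n5635 = n4170 := d23_1 D5635 (iv D4170) D4169
def n5636 : Q := act 5 n4170
theorem D5636 : act 5 n4170 = n5636 := rfl
theorem F17664 : act 0 n5636 = n5060 := d4_1 D5636 (iv F17041) F17039
theorem F17665 : act 2 n5636 = n4172 := d15_1 D5636 (iv D4172) (iv F12914)
theorem F17666 : act 3 n5636 = n5444 := d19_1 D5636 F17041 F15673
theorem F17667 : act 6 n5636 = n4924 := d25_2 D4170 D5636 F17634 (iv D5627) F12904
def n5637 : Q := act 7 n4170
theorem D5637 : act 7 n4170 = n5637 := rfl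
theorem F17668 : act 2 n5637 = n4173 := d17_1 D5637 (iv D4173) (iv F12914)
def n5638 : Q := act 5 n4171
theorem D5638 : act 5 n4171 = n5638 := rfl
theorem F17669 : act 0 n5638 = n5061 := d4_1 D5638 (iv F17046) F17042
theorem F17670 : act 1 n5638 = n4765 := d10_1 D5638 (iv D4765) F10606 (iv F9144) (iv F12915)
theorem F17671 : act 3 n5638 = n5638 := d19_1 D5638 (iv D5638) F12916
theorem F17672 : act 4 n5638 = n4172 := d22_1 D5638 (iv D4172) (iv F12917)
theorem F17673 : act 6 n5638 = n4925 := d25_2 D4171 D5638 F17639 (iv D5628) F12907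
def n5639 : Q := act 7 n4171
theorem D5639 : act 7 n4171 = n5639 := rfl
theorem F17674 : act 1 n5639 = n4189 := d12_1 D5639 (iv D4189) (iv F12915)
theorem F17675 : act 4 n5639 = n4173 := d24_1 D5639 (iv D4173) (iv F12917)
def n5640 : Q := act 5 n4174
theorem D5640 : act 5 n4174 = n5640 := rfl
theorem F17676 : act 0 n5640 = n4206 := d4_1 D5640 (iv D4206) (iv F12923)
theorem F17677 : act 2 n5640 = n5477 := d15_1 D5640 (iv D5477) (iv F12924)
theorem F17678 : act 3 n5640 = n4175 := d19_1 D5640 (iv D4175) (iv F12925)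
theorem F17679 : act 4 n5640 = n5470 := d22_1 D5640 (iv D5470) (iv F12926)
theorem F17680 : act 6 n5640 = n4495 := d25_2 D4174 D5640 (iv D4495) (iv D3225) (iv F9114)
theorem F17681 : act 7 n5640 = n5519 := d31_1 D5640 F17284 F12676 (iv D2892) (iv D1976) F4268 (iv D1340) F2943 (iv D905) F2047 F1314 F763 D266 F860 (iv F892) F1510 (iv D452) F801 (iv D151) (iv F488) D265 F857 D479 (iv F2150) D974 (iv F4590) (iv F6259) D2957 (iv F12925)
def n5641 : Q := act 7 n4174
theorem D5641 : act 7 n4174 = n5641 := rfl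
theorem F17682 : act 0 n5641 = n4207 := d6_1 D5641 (iv D4207) (iv F12923)
theorem F17683 : act 2 n5641 = n4795 := d17_1 D5641 F14827 (iv F12924)
theorem F17684 : act 4 n5641 = n5471 := d24_1 D5641 (iv D5471) (iv F12926)
theorem F17685 : act 5 n5641 = n5519 := d26_1 D5641 (iv F17681) (iv D5640)
theorem F17686 : act 6 n5641 = n5641 := d27_1 D5641 (iv D5641) (iv D4174) F9115 D4174
def n5642 : Q := act 1 n4175
theorem D5642 : act 1 n4175 = n5642 := rfl
theorem F17687 : act 4 n5642 = n4181 := d9_2 (iv F12929) D5642 (iv D4181)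
theorem F17688 : act 6 n5642 = n4497 := d11_2 (iv F12930) D5642 (iv D4497)
def n5643 : Q := act 5 n4176
theorem D5643 : act 5 n4176 = n5643 := rfl
theorem F17689 : act 1 n5643 = n4500 := d10_1 D5643 (iv D4500) (iv D3227) (iv F9123) D4176
theorem F17690 : act 3 n5643 = n4377 := d19_1 D5643 (iv D4377) (iv F12931)
theorem F17691 : act 7 n5643 = n4184 := d26_2 (iv F12932) D5643 (iv D4184)
def n5644 : Q := act 6 n4176
theorem D5644 : act 6 n4176 = n5644 := rfl
theorem F17692 : act 1 n5644 = n4177 := d11_1 D5644 (iv D4177) D4176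
theorem F17693 : act 3 n5644 = n4378 := d20_1 D5644 (iv D4378) (iv F12931)
def n5645 : Q := act 7 n4177
theorem D5645 : act 7 n4177 = n5645 := rfl
theorem F17694 : act 0 n5645 = n4209 := d6_1 D5645 (iv D4209) (iv F12933)
theorem F17695 : act 2 n5645 = n4180 := d17_1 D5645 (iv D4180) (iv F12934)
theorem F17696 : act 5 n5645 = n4220 := d26_1 D5645 (iv F14401) F14399
theorem F17697 : act 6 n5645 = n4188 := d27_1 D5645 (iv D4188) (iv D2964) (iv F9124) D4177
def n5646 : Q := act 5 n4178
theorem D5646 : act 5 n4178 = n5646 := rfl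
theorem F17698 : act 0 n5646 = n4210 := d4_1 D5646 (iv D4210) (iv F12936)
theorem F17699 : act 3 n5646 = n5470 := d19_1 D5646 (iv D5470) (iv F12937)
theorem F17700 : act 4 n5646 = n4179 := d22_1 D5646 (iv D4179) (iv F12938)
theorem F17701 : act 6 n5646 = n4410 := d25_2 D4178 D5646 F13629 (iv D3230) (iv F9127)
theorem F17702 : act 7 n5646 = n4223 := d31_1 D5646 F13077 (iv F13066) (iv D4220) (iv F9965) F9966 F9215 (iv D2963) (iv D2019) D2021 F6274 D2022 (iv F8941) F8939 F8938 F6173 (iv F8954) (iv D2898) D2899 F8958 (iv F10261) (iv D3329) (iv F9946) F9947 F8857 (iv D2863) (iv F8839) D4044 (iv F12937)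
def n5647 : Q := act 7 n4178
theorem D5647 : act 7 n4178 = n5647 := rfl
theorem F17703 : act 0 n5647 = n4211 := d6_1 D5647 (iv D4211) (iv F12936)
theorem F17704 : act 3 n5647 = n5532 := d21_1 D5647 (iv D5532) F17129 (iv D5471) (iv F12937)
theorem F17705 : act 4 n5647 = n4180 := d24_1 D5647 (iv D4180) (iv F12938)
theorem F17706 : act 5 n5647 = n4223 := d26_1 D5647 (iv F17702) (iv D5646)
theorem F17707 : act 6 n5647 = n4189 := d27_1 D5647 (iv D4189) (iv D2965) (iv F9128) D4178
def n5648 : Q := act 1 n4179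
theorem D5648 : act 1 n4179 = n5648 := rfl
theorem F17708 : act 0 n5648 = n4244 := d0_1 D5648 F13130 F9330 F9206 (iv F12939)
theorem F17709 : act 3 n5648 = n4181 := d8_2 (iv F12940) D5648 (iv D4181)
theorem F17710 : act 6 n5648 = n4414 := d11_2 (iv F12941) D5648 F13637
theorem F17711 : act 7 n5648 = n4225 := d12_2 F12942 D5648 F13081
def n5649 : Q := act 0 n4181
theorem D5649 : act 0 n4181 = n5649 := rfl
theorem F17712 : act 1 n5649 = n4212 := d0_2 D4181 D5649 (iv D4212) (iv D2987) (iv F9131)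
theorem F17713 : act 3 n5649 = n4244 := d2_2 F17709 D5649 (iv F17708)
theorem F17714 : act 6 n5649 = n4434 := d5_2 (iv F12946) D5649 F13698
def n5650 : Q := act 2 n4181
theorem D5650 : act 2 n4181 = n5650 := rfl
theorem F17715 : act 1 n5650 = n4380 := d7_1 D5650 (iv D4380) (iv D3134) (iv F9132) D4181
theorem F17716 : act 6 n5650 = n4503 := d16_2 (iv F12946) D5650 (iv D4503)
def n5651 : Q := act 5 n4182
theorem D5651 : act 5 n4182 = n5651 := rfl
theorem F17717 : act 0 n5651 = n4184 := d4_1 D5651 (iv D4184) D4182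
theorem F17718 : act 3 n5651 = n4191 := d19_1 D5651 (iv D4191) (iv F12948)
theorem F17719 : act 4 n5651 = n5643 := d22_1 D5651 (iv D5643) F12949
def n5652 : Q := act 6 n4182
theorem D5652 : act 6 n4182 = n5652 := rfl
theorem F17720 : act 0 n5652 = n4185 := d5_1 D5652 (iv D4185) D4182
theorem F17721 : act 1 n5652 = n4213 := d11_1 D5652 (iv D4213) (iv F12947)
theorem F17722 : act 3 n5652 = n4192 := d20_1 D5652 (iv D4192) (iv F12948)
theorem F17723 : act 4 n5652 = n5644 := d23_1 D5652 (iv D5644) F12949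
def n5653 : Q := act 5 n4183
theorem D5653 : act 5 n4183 = n5653 := rfl
theorem F17724 : act 0 n5653 = n5643 := d4_1 D5653 (iv D5643) (iv F12950)
theorem F17725 : act 1 n5653 = n4507 := d10_1 D5653 (iv D4507) F9977 (iv F9137) (iv F12951)
theorem F17726 : act 2 n5653 = n4992 := d15_1 D5653 (iv F17652) F17649
theorem F17727 : act 3 n5653 = n5506 := d19_1 D5653 F17238 F13523
theorem F17728 : act 4 n5653 = n4184 := d22_1 D5653 (iv D4184) D4183
theorem F17729 : act 7 n5653 = n5651 := d26_2 (iv F12952) D5653 (iv D5651)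
def n5654 : Q := act 6 n4183
theorem D5654 : act 6 n4183 = n5654 := rfl
theorem F17730 : act 0 n5654 = n5644 := d5_1 D5654 (iv D5644) (iv F12950)
theorem F17731 : act 1 n5654 = n4186 := d11_1 D5654 (iv D4186) (iv F12951)
theorem F17732 : act 4 n5654 = n4185 := d23_1 D5654 (iv D4185) D4183
def n5655 : Q := act 6 n4184
theorem D5655 : act 6 n4184 = n5655 := rfl
theorem F17733 : act 1 n5655 = n4509 := d11_1 D5655 (iv D4509) (iv F12953)
theorem F17734 : act 3 n5655 = n4196 := d20_1 D5655 (iv D4196) (iv F12954)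
def n5656 : Q := act 5 n4185
theorem D5656 : act 5 n4185 = n5656 := rfl
theorem F17735 : act 3 n5656 = n4197 := d19_1 D5656 (iv D4197) (iv F12956)
def n5657 : Q := act 7 n4185
theorem D5657 : act 7 n4185 = n5657 := rfl
theorem F17736 : act 1 n5657 = n4188 := d12_1 D5657 (iv D4188) (iv F12955)
def n5658 : Q := act 7 n4186
theorem D5658 : act 7 n4186 = n5658 := rfl
theorem F17737 : act 0 n5658 = n4216 := d6_1 D5658 (iv D4216) (iv F12957)
theorem F17738 : act 2 n5658 = n4189 := d17_1 D5658 (iv D4189) (iv F12958)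
theorem F17739 : act 3 n5658 = n4671 := d21_1 D5658 (iv D4671) (iv F14425) F14427 F13584
theorem F17740 : act 4 n5658 = n4188 := d24_1 D5658 (iv D4188) (iv F12959)
theorem F17741 : act 5 n5658 = n4218 := d26_1 D5658 F13062 (iv F12960)
def n5659 : Q := act 1 n4187
theorem D5659 : act 1 n4187 = n5659 := rfl
theorem F17742 : act 0 n5659 = n4198 := d0_1 D5659 F12989 F9175 (iv F9228) (iv F12961)
theorem F17743 : act 3 n5659 = n4200 := d8_2 (iv F12963) D5659 (iv D4200)
theorem F17744 : act 4 n5659 = n4619 := d9_2 (iv F12964) D5659 F14305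
theorem F17745 : act 6 n5659 = n4390 := d11_2 (iv F12965) D5659 F13562
theorem F17746 : act 7 n5659 = n4192 := d12_2 F12966 D5659 F12979
def n5660 : Q := act 3 n4188
theorem D5660 : act 3 n4188 = n5660 := rfl
theorem F17747 : act 0 n5660 = n4214 := d2_1 D5660 F13041 (iv F12967)
theorem F17748 : act 2 n5660 = n5646 := d13_1 D5660 F17699 F17123 F12598 (iv F12968)
theorem F17749 : act 4 n5660 = n4660 := d18_2 F17740 D5660 F14398 (iv F14441) (iv F17739)
theorem F17750 : act 5 n5660 = n4213 := d19_2 (iv F12969) D5660 F13037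
theorem F17751 : act 7 n5660 = n4202 := d21_2 D4188 D5660 (iv D4202) (iv D2976) (iv F9140)
def n5661 : Q := act 3 n4189
theorem D5661 : act 3 n4189 = n5661 := rfl
theorem F17752 : act 0 n5661 = n4217 := d2_1 D5661 (iv D4217) (iv F12970)
theorem F17753 : act 2 n5661 = n4682 := d13_1 D5661 (iv D4682) (iv F14440) (iv F17739) F17738
theorem F17754 : act 5 n5661 = n4221 := d19_2 (iv F12972) D5661 F13069
theorem F17755 : act 6 n5661 = n5532 := d20_2 F17707 D5661 (iv F17704)
theorem F17756 : act 7 n5661 = n5661 := d21_2 D4189 D5661 (iv D5661) (iv D4189) F9142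
def n5662 : Q := act 5 n4190
theorem D5662 : act 5 n4190 = n5662 := rfl
theorem F17757 : act 0 n5662 = n4194 := d4_1 D5662 (iv D4194) (iv F12973)
theorem F17758 : act 4 n5662 = n4191 := d22_1 D5662 (iv D4191) D4190
theorem F17759 : act 7 n5662 = n4386 := d26_2 (iv F12975) D5662 (iv D4386)
def n5663 : Q := act 6 n4190
theorem D5663 : act 6 n4190 = n5663 := rfl
theorem F17760 : act 0 n5663 = n4195 := d5_1 D5663 (iv D4195) (iv F12973)
theorem F17761 : act 1 n5663 = n4218 := d11_1 D5663 (iv D4218) (iv F12974)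
theorem F17762 : act 4 n5663 = n4192 := d23_1 D5663 (iv D4192) D4190
theorem F17763 : act 7 n5663 = n4619 := d27_2 (iv F12975) D5663 (iv D4619) F10267 F9674
def n5664 : Q := act 1 n4191
theorem D5664 : act 1 n4191 = n5664 := rfl
theorem F17764 : act 0 n5664 = n4512 := d0_1 D5664 (iv D4512) F9997 (iv F9161) (iv F12976)
theorem F17765 : act 5 n5664 = n4219 := d10_2 D4191 D5664 (iv D4219) (iv D2995) (iv F9157)
theorem F17766 : act 7 n5664 = n4387 := d12_2 (iv F12977) D5664 (iv D4387)
def n5665 : Q := act 6 n4191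
theorem D5665 : act 6 n4191 = n5665 := rfl
theorem F17767 : act 0 n5665 = n4196 := d5_1 D5665 (iv D4196) (iv F12976)
def n5666 : Q := act 5 n4192
theorem D5666 : act 5 n4192 = n5666 := rfl
theorem F17768 : act 0 n5666 = n4197 := d4_1 D5666 (iv D4197) (iv F12978)
def n5667 : Q := act 2 n4193
theorem D5667 : act 2 n4193 = n5667 := rfl
theorem F17769 : act 1 n5667 = n5667 := d7_1 D5667 (iv D5667) F12980 F9165 (iv F12980)
theorem F17770 : act 4 n5667 = n5516 := d14_2 (iv F13525) D5667 F17272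
theorem F17771 : act 7 n5667 = n4650 := d17_2 (iv F12981) D5667 (iv D4650)
theorem F17772 : act 5 n5515 = n5667 := d22_0 F17770 (iv D5516) D5515
def n5668 : Q := act 5 n4193
theorem D5668 : act 5 n4193 = n5668 := rfl
theorem F17773 : act 1 n5668 = n4515 := d10_1 D5668 (iv D4515) F10001 (iv F9166) (iv F12980)
theorem F17774 : act 2 n5668 = n5515 := d15_1 D5668 F17772 (iv D5667)
theorem F17775 : act 3 n5668 = n4194 := d19_1 D5668 (iv D4194) D4193
theorem F17776 : act 4 n5668 = n5506 := d22_1 D5668 F17238 (iv F13525)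
theorem F17777 : act 7 n5668 = n4648 := d26_2 (iv F12981) D5668 F14362
def n5669 : Q := act 6 n4193
theorem D5669 : act 6 n4193 = n5669 := rfl
theorem F17778 : act 1 n5669 = n4199 := d11_1 D5669 (iv D4199) (iv F12980)
theorem F17779 : act 3 n5669 = n4195 := d20_1 D5669 (iv D4195) D4193
def n5670 : Q := act 6 n4194
theorem D5670 : act 6 n4194 = n5670 := rfl
theorem F17780 : act 1 n5670 = n4517 := d11_1 D5670 (iv D4517) (iv F12982)
theorem F17781 : act 4 n5670 = n4196 := d23_1 D5670 (iv D4196) (iv F12983)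
def n5671 : Q := act 5 n4195
theorem D5671 : act 5 n4195 = n5671 := rfl
theorem F17782 : act 4 n5671 = n4197 := d22_1 D5671 (iv D4197) (iv F12986)
theorem F17783 : act 7 n5671 = n4621 := d26_2 (iv F12987) D5671 (iv D4621)
def n5672 : Q := act 5 n4196
theorem D5672 : act 5 n4196 = n5672 := rfl
theorem F17784 : act 6 n5672 = n4197 := d25_2 D4196 D5672 (iv D4197) (iv D2972) D2971
def n5673 : Q := act 7 n4196
theorem D5673 : act 7 n4196 = n5673 := rfl
theorem F17785 : act 1 n5673 = n4519 := d12_1 D5673 (iv D4519) (iv F12988)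
theorem F17786 : act 6 n5673 = n4393 := d27_1 D5673 (iv D4393) (iv D3143) (iv F9162) D4196
def n5674 : Q := act 1 n4197
theorem D5674 : act 1 n4197 = n5674 := rfl
theorem F17787 : act 5 n5674 = n4200 := d10_2 D4197 D5674 (iv D4200) (iv D2975) (iv F9163)
def n5675 : Q := act 7 n4197
theorem D5675 : act 7 n4197 = n5675 := rfl
theorem F17788 : act 4 n5675 = n4621 := d24_1 D5675 (iv F17783) F17782
theorem F17789 : act 5 n5675 = n4198 := d26_1 D5675 (iv D4198) D4197
def n5676 : Q := act 3 n4198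
theorem D5676 : act 3 n4198 = n5676 := rfl
theorem F17790 : act 0 n5676 = n4200 := d2_1 D5676 (iv F17743) F17742
theorem F17791 : act 1 n5676 = n4202 := d8_1 D5676 (iv D4202) (iv F12989)
theorem F17792 : act 6 n5676 = n4395 := d20_2 (iv F12991) D5676 (iv D4395)
def n5677 : Q := act 2 n4200
theorem D5677 : act 2 n4200 = n5677 := rfl
theorem F17793 : act 1 n5677 = n4203 := d7_1 D5677 (iv D4203) (iv D2977) (iv F9173) D4200
theorem F17794 : act 6 n5677 = n4522 := d16_2 (iv F12995) D5677 (iv D4522)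
def n5678 : Q := act 7 n4200
theorem D5678 : act 7 n4200 = n5678 := rfl
theorem F17795 : act 1 n5678 = n4201 := d12_1 D5678 (iv D4201) D4200
theorem F17796 : act 4 n5678 = n4622 := d24_1 D5678 F14306 F14042
def n5679 : Q := act 3 n4201
theorem D5679 : act 3 n4201 = n5679 := rfl
theorem F17797 : act 0 n5679 = n4215 := d2_1 D5679 F13046 (iv F12996)
theorem F17798 : act 2 n5679 = n5647 := d13_1 D5679 F17704 F17316 F12712 (iv F12997)
theorem F17799 : act 5 n5679 = n4202 := d19_2 (iv F12999) D5679 (iv D4202)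
theorem F17800 : act 6 n5679 = n5658 := d20_2 F14443 D5679 F17739
theorem F17801 : act 7 n5679 = n4213 := d21_2 D4201 D5679 F13037 F12966 F12963
theorem F17802 : act 4 n5645 = n5679 := d24_3 F17801 F13038 D5645
def n5680 : Q := act 3 n4203
theorem D5680 : act 3 n4203 = n5680 := rfl
theorem F17803 : act 2 n5680 = n4205 := d13_1 D5680 (iv D4205) (iv D2980) (iv F9179) D4203
theorem F17804 : act 5 n5680 = n5466 := d19_2 F15775 D5680 F17108
theorem F17805 : act 6 n5680 = n4523 := d20_2 (iv F13002) D5680 (iv D4523)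
def n5681 : Q := act 7 n4203
theorem D5681 : act 7 n4203 = n5681 := rfl
theorem F17806 : act 2 n5681 = n4204 := d17_1 D5681 (iv D4204) D4203
theorem F17807 : act 4 n5681 = n4623 := d24_1 D5681 F14308 F14048
def n5682 : Q := act 4 n4205
theorem D5682 : act 4 n4205 = n5682 := rfl
theorem F17808 : act 1 n5682 = n4938 := d9_1 D5682 F15282 (iv F13005)
theorem F17809 : act 3 n5682 = n5682 := d18_1 D5682 (iv D5682) (iv D4205) F9189 D4205
theorem F17810 : act 5 n5682 = n5465 := d22_2 (iv F13006) D5682 F17106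
theorem F17811 : act 6 n5682 = n4525 := d23_2 (iv F13007) D5682 (iv D4525)
def n5683 : Q := act 7 n4205
theorem D5683 : act 7 n4205 = n5683 := rfl
theorem F17812 : act 1 n5683 = n4939 := d12_1 D5683 (iv D4939) (iv F13005)
theorem F17813 : act 5 n5683 = n5467 := d26_1 D5683 (iv D5467) (iv F13006)
def n5684 : Q := act 1 n4206
theorem D5684 : act 1 n4206 = n5684 := rfl
theorem F17814 : act 3 n5684 = n4208 := d8_2 (iv F13009) D5684 (iv D4208)
theorem F17815 : act 4 n5684 = n4248 := d9_2 (iv F13010) D5684 F13141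
theorem F17816 : act 5 n5684 = n5472 := d10_2 D4206 D5684 (iv D5472) (iv D4047) (iv F9192)
theorem F17817 : act 6 n5684 = n4439 := d11_2 (iv F13011) D5684 F13714
theorem F17818 : act 7 n5684 = n5543 := d12_2 (iv F13012) D5684 F17353
def n5685 : Q := act 0 n4208
theorem D5685 : act 0 n4208 = n5685 := rfl
theorem F17819 : act 4 n5685 = n4212 := d3_2 (iv F13018) D5685 (iv D4212)
theorem F17820 : act 6 n5685 = n4436 := d5_2 (iv F13019) D5685 F13705
def n5686 : Q := act 2 n4219
theorem D5686 : act 2 n4219 = n5686 := rfl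
theorem F17821 : act 0 n5686 = n4533 := d1_1 D5686 (iv D4533) (iv F13063)
theorem F17822 : act 1 n5686 = n4224 := d7_1 D5686 (iv D4224) (iv D3006) (iv F9238) D4219
theorem F17823 : act 7 n5686 = n4402 := d17_2 (iv F13064) D5686 (iv D4402)
def n5687 : Q := act 6 n4219
theorem D5687 : act 6 n4219 = n5687 := rfl
theorem F17824 : act 0 n5687 = n4534 := d5_1 D5687 (iv D4534) (iv F13063)
theorem F17825 : act 1 n5687 = n4220 := d11_1 D5687 (iv D4220) D4219
theorem F17826 : act 4 n5687 = n5676 := d23_1 D5687 F17792 (iv F13576)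
def n5688 : Q := act 2 n4222
theorem D5688 : act 2 n4222 = n5688 := rfl
theorem F17827 : act 0 n5688 = n4238 := d1_1 D5688 (iv D4238) (iv F13071)
theorem F17828 : act 4 n5688 = n4224 := d14_2 (iv F13072) D5688 (iv D4224)
theorem F17829 : act 7 n5688 = n4408 := d17_2 (iv F13073) D5688 (iv D4408)
def n5689 : Q := act 6 n4222
theorem D5689 : act 6 n4222 = n5689 := rfl
theorem F17830 : act 0 n5689 = n4239 := d5_1 D5689 (iv D4239) (iv F13071)
theorem F17831 : act 1 n5689 = n4223 := d11_1 D5689 (iv D4223) D4222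
theorem F17832 : act 3 n5689 = n5528 := d20_1 D5689 F17305 F13300
theorem F17833 : act 4 n5689 = n4225 := d23_1 D5689 (iv D4225) (iv F13072)
def n5690 : Q := act 6 n4224
theorem D5690 : act 6 n4224 = n5690 := rfl
theorem F17834 : act 0 n5690 = n4242 := d5_1 D5690 (iv D4242) (iv F13078)
theorem F17835 : act 2 n5690 = n4225 := d16_1 D5690 (iv D4225) D4224
def n5691 : Q := act 5 n4225
theorem D5691 : act 5 n4225 = n5691 := rfl
theorem F17836 : act 0 n5691 = n4243 := d4_1 D5691 (iv D4243) (iv F13080)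
def n5692 : Q := act 0 n4226
theorem D5692 : act 0 n4226 = n5692 := rfl
theorem F17837 : act 1 n5692 = n4598 := d0_2 D4226 D5692 F14243 F11642 F11636
theorem F17838 : act 3 n5692 = n4227 := d2_2 (iv F13082) D5692 (iv D4227)
theorem F17839 : act 4 n5692 = n5563 := d3_2 (iv F13083) D5692 F17435
theorem F17840 : act 6 n5692 = n4250 := d5_2 (iv F13084) D5692 (iv D4250)
theorem F17841 : act 7 n5692 = n5692 := d6_2 F13085 D5692 (iv D5692)
def n5693 : Q := act 1 n4228
theorem D5693 : act 1 n4228 = n5693 := rfl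
theorem F17842 : act 0 n5693 = n4230 := d0_1 D5693 (iv D4230) F9291 (iv F9289) (iv F13089)
theorem F17843 : act 6 n5693 = n4251 := d11_2 (iv F13090) D5693 (iv D4251)
def n5694 : Q := act 3 n4228
theorem D5694 : act 3 n4228 = n5694 := rfl
theorem F17844 : act 0 n5694 = n4229 := d2_1 D5694 (iv D4229) (iv F13089)
theorem F17845 : act 2 n5694 = n5541 := d13_1 D5694 F17349 F12748 (iv F9287) D4228
theorem F17846 : act 6 n5694 = n4252 := d20_2 (iv F13090) D5694 (iv D4252)
def n5695 : Q := act 3 n4230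
theorem D5695 : act 3 n4230 = n5695 := rfl
theorem F17847 : act 1 n5695 = n4231 := d8_1 D5695 (iv D4231) D4230
theorem F17848 : act 6 n5695 = n4254 := d20_2 (iv F13094) D5695 (iv D4254)
def n5696 : Q := act 5 n4230
theorem D5696 : act 5 n4230 = n5696 := rfl
def n5697 : Q := act 7 n4230
theorem D5697 : act 7 n4230 = n5697 := rfl
theorem F17849 : act 1 n5697 = n4232 := d12_1 D5697 (iv D4232) D4230
theorem F17850 : act 4 n5697 = n4803 := d24_1 D5697 F14854 F13133
theorem F17851 : act 6 n5697 = n5697 := d27_1 D5697 (iv D5697) F13094 F9371 (iv F13094)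
def n5698 : Q := act 2 n4233
theorem D5698 : act 2 n4233 = n5698 := rfl
theorem F17852 : act 0 n5698 = n5507 := d1_1 D5698 F17240 (iv F13102)
theorem F17853 : act 6 n5698 = n4258 := d16_2 (iv F13104) D5698 (iv D4258)
def n5699 : Q := act 4 n4233
theorem D5699 : act 4 n4233 = n5699 := rfl
theorem F17854 : act 0 n5699 = n5508 := d3_1 D5699 F17243 (iv F13102)
theorem F17855 : act 1 n5699 = n4234 := d9_1 D5699 (iv D4234) (iv F13103)
theorem F17856 : act 3 n5699 = n5699 := d18_1 D5699 (iv D5699) (iv D4233) F9303 D4233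
theorem F17857 : act 6 n5699 = n4259 := d23_2 (iv F13104) D5699 (iv D4259)
def n5700 : Q := act 2 n4235
theorem D5700 : act 2 n4235 = n5700 := rfl
theorem F17858 : act 0 n5700 = n5260 := d1_1 D5700 F16360 F13298
theorem F17859 : act 1 n5700 = n5281 := d7_1 D5700 F16436 F12057 F9534 D4235
theorem F17860 : act 7 n5700 = n5256 := d17_2 (iv F13292) D5700 F16352
def n5701 : Q := act 6 n4235
theorem D5701 : act 6 n4235 = n5701 := rfl
theorem F17861 : act 0 n5701 = n5528 := d5_1 D5701 F17305 F13298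
theorem F17862 : act 1 n5701 = n4236 := d11_1 D5701 (iv D4236) D4235
theorem F17863 : act 3 n5701 = n4239 := d20_1 D5701 (iv D4239) (iv F13109)
theorem F17864 : act 7 n5701 = n5522 := d27_2 (iv F13292) D5701 (iv D5522) F12682 D4296
def n5702 : Q := act 3 n4238
theorem D5702 : act 3 n4238 = n5702 := rfl
theorem F17865 : act 1 n5702 = n4541 := d8_1 D5702 (iv D4541) (iv F13117)
def n5703 : Q := act 6 n4238
theorem D5703 : act 6 n4238 = n5703 := rfl
theorem F17866 : act 1 n5703 = n4542 := d11_1 D5703 (iv D4542) (iv F13117)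
theorem F17867 : act 2 n5703 = n4239 := d16_1 D5703 (iv D4239) D4238
theorem F17868 : act 4 n5703 = n4242 := d23_1 D5703 (iv D4242) (iv F13118)
def n5704 : Q := act 5 n4239
theorem D5704 : act 5 n4239 = n5704 := rfl
theorem F17869 : act 1 n5704 = n5696 := d10_1 D5704 (iv D5696) (iv D4230) (iv F9321) (iv F13120)
theorem F17870 : act 4 n5704 = n4243 := d22_1 D5704 (iv D4243) (iv F13121)
def n5705 : Q := act 7 n4239
theorem D5705 : act 7 n4239 = n5705 := rfl
theorem F17871 : act 1 n5705 = n4240 := d12_1 D5705 (iv D4240) (iv F13120)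
theorem F17872 : act 4 n5705 = n4244 := d24_1 D5705 (iv D4244) (iv F13121)
theorem F17873 : act 6 n5705 = n4426 := d27_1 D5705 (iv D4426) (iv D3176) (iv F9317) D4239
def n5706 : Q := act 3 n4240
theorem D5706 : act 3 n4240 = n5706 := rfl
theorem F17874 : act 0 n5706 = n4248 := d2_1 D5706 (iv D4248) (iv F13122)
theorem F17875 : act 5 n5706 = n5473 := d19_2 (iv F13125) D5706 F17134
theorem F17876 : act 6 n5706 = n4427 := d20_2 (iv F13126) D5706 (iv D4427)
theorem F17877 : act 7 n5706 = n5541 := d21_2 D4240 D5706 F17349 (iv F13114) F13112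
def n5707 : Q := act 6 n4241
theorem D5707 : act 6 n4241 = n5707 := rfl
theorem F17878 : act 1 n5707 = n4546 := d11_1 D5707 (iv D4546) (iv F13127)
theorem F17879 : act 3 n5707 = n4242 := d20_1 D5707 (iv D4242) D4241
def n5708 : Q := act 5 n4242
theorem D5708 : act 5 n4242 = n5708 := rfl
theorem F17880 : act 2 n5708 = n4243 := d15_1 D5708 (iv D4243) (iv F13129)
def n5709 : Q := act 7 n4242
theorem D5709 : act 7 n4242 = n5709 := rfl
theorem F17881 : act 1 n5709 = n4549 := d12_1 D5709 (iv D4549) (iv F13128)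
theorem F17882 : act 2 n5709 = n4244 := d17_1 D5709 (iv D4244) (iv F13129)
theorem F17883 : act 6 n5709 = n4432 := d27_1 D5709 (iv D4432) (iv D3179) (iv F9323) D4242
def n5710 : Q := act 1 n4243
theorem D5710 : act 1 n4243 = n5710 := rfl
theorem F17884 : act 3 n5710 = n5586 := d8_2 F17178 D5710 F17528
theorem F17885 : act 4 n5710 = n5696 := d9_2 F17870 D5710 (iv F17869)
theorem F17886 : act 5 n5710 = n4245 := d10_2 D4243 D5710 (iv D4245) (iv D3027) (iv F9324)
def n5711 : Q := act 7 n4243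
theorem D5711 : act 7 n4243 = n5711 := rfl
theorem F17887 : act 5 n5711 = n4244 := d26_1 D5711 (iv D4244) D4243
def n5712 : Q := act 0 n4245
theorem D5712 : act 0 n4245 = n5712 := rfl
theorem F17888 : act 1 n5712 = n4249 := d0_2 D4245 D5712 (iv D4249) (iv D3033) (iv F9325)
theorem F17889 : act 3 n5712 = n5568 := d2_2 (iv F13132) D5712 F17453
theorem F17890 : act 4 n5712 = n5693 := d3_2 (iv F13133) D5712 F17842
theorem F17891 : act 6 n5712 = n4246 := d5_2 (iv F13134) D5712 (iv D4246)
def n5713 : Q := act 2 n4245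
theorem D5713 : act 2 n4245 = n5713 := rfl
theorem F17892 : act 1 n5713 = n4552 := d7_1 D5713 (iv D4552) (iv D3275) (iv F9326) D4245
theorem F17893 : act 4 n5713 = n5162 := d14_2 (iv F13133) D5713 F16016
theorem F17894 : act 6 n5713 = n4247 := d16_2 (iv F13134) D5713 (iv D4247)
def n5714 : Q := act 6 n4253
theorem D5714 : act 6 n4253 = n5714 := rfl
theorem F17895 : act 1 n5714 = n4257 := d11_1 D5714 (iv D4257) (iv F13159)
theorem F17896 : act 2 n5714 = n4437 := d16_1 D5714 F13710 (iv F13160)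
theorem F17897 : act 3 n5714 = n5714 := d20_1 D5714 (iv D5714) F13161
theorem F17898 : act 4 n5714 = n4906 := d23_1 D5714 (iv D4906) (iv F13162)
theorem F17899 : act 5 n5714 = n5714 := d25_1 D5714 (iv D5714) F13163 F10960 (iv F13163)
theorem F17900 : act 7 n5714 = n4438 := d27_2 D4253 D5714 (iv F17144) F17145 F13093
def n5715 : Q := act 6 n4255
theorem D5715 : act 6 n4255 = n5715 := rfl
theorem F17901 : act 1 n5715 = n4553 := d11_1 D5715 (iv D4553) (iv F13165)
theorem F17902 : act 4 n5715 = n5179 := d23_1 D5715 F16078 (iv F13166)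
def n5716 : Q := act 6 n4256
theorem D5716 : act 6 n4256 = n5716 := rfl
theorem F17903 : act 0 n5716 = n4257 := d5_1 D5716 (iv D4257) (iv F13168)
theorem F17904 : act 2 n5716 = n4263 := d16_1 D5716 (iv D4263) (iv F13169)
theorem F17905 : act 3 n5716 = n5716 := d20_1 D5716 (iv D5716) F13170
def n5717 : Q := act 7 n4259
theorem D5717 : act 7 n4259 = n5717 := rfl
theorem F17906 : act 0 n5717 = n5503 := d6_1 D5717 F17232 (iv F13175)
theorem F17907 : act 1 n5717 = n4262 := d12_1 D5717 (iv D4262) (iv F13176)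
theorem F17908 : act 4 n5717 = n4261 := d24_1 D5717 (iv D4261) D4259
def n5718 : Q := act 6 n4261
theorem D5718 : act 6 n4261 = n5718 := rfl
theorem F17909 : act 0 n5718 = n5504 := d5_1 D5718 (iv D5504) (iv F13181)
theorem F17910 : act 1 n5718 = n4263 := d11_1 D5718 (iv D4263) (iv F13182)
theorem F17911 : act 3 n5718 = n4273 := d20_1 D5718 (iv D4273) (iv F13183)
def n5719 : Q := act 3 n4262
theorem D5719 : act 3 n4262 = n5719 := rfl
theorem F17912 : act 0 n5719 = n4264 := d2_1 D5719 (iv D4264) (iv F13184)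
theorem F17913 : act 4 n5719 = n4274 := d18_2 (iv F13185) D5719 (iv D4274) F9413 (iv F9388)
theorem F17914 : act 5 n5719 = n4557 := d19_2 (iv F13186) D5719 (iv D4557)
theorem F17915 : act 7 n5719 = n5719 := d21_2 D4262 D5719 (iv D5719) (iv D4262) F9385
def n5720 : Q := act 6 n4262
theorem D5720 : act 6 n4262 = n5720 := rfl
theorem F17916 : act 0 n5720 = n4265 := d5_1 D5720 (iv D4265) (iv F13184)
theorem F17917 : act 4 n5720 = n4263 := d23_1 D5720 (iv D4263) (iv F13185)
def n5721 : Q := act 2 n4264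
theorem D5721 : act 2 n4264 = n5721 := rfl
theorem F17918 : act 1 n5721 = n5721 := d7_1 D5721 (iv D5721) F13189 F12715 (iv F13189)
theorem F17919 : act 3 n5721 = n4335 := d13_2 D4264 D5721 F13416 (iv F12845) F12844
theorem F17920 : act 4 n5721 = n4277 := d14_2 (iv F13190) D5721 (iv D4277)
theorem F17921 : act 5 n5721 = n4336 := d15_2 (iv F13191) D5721 F13420
theorem F17922 : act 7 n5721 = n5721 := d17_2 F13192 D5721 (iv D5721)
def n5722 : Q := act 6 n4264
theorem D5722 : act 6 n4264 = n5722 := rfl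
theorem F17923 : act 1 n5722 = n5536 := d11_1 D5722 (iv D5536) (iv F13189)
theorem F17924 : act 3 n5722 = n4265 := d20_1 D5722 (iv D4265) D4264
theorem F17925 : act 4 n5722 = n4278 := d23_1 D5722 (iv D4278) (iv F13190)
def n5723 : Q := act 3 n4266
theorem D5723 : act 3 n4266 = n5723 := rfl
theorem F17926 : act 0 n5723 = n5307 := d2_1 D5723 F16528 (iv F13195)
theorem F17927 : act 1 n5723 = n5723 := d8_1 D5723 (iv D5723) F13196
theorem F17928 : act 2 n5723 = n5723 := d13_1 D5723 (iv D5723) F13197 F9400 (iv F13197)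
theorem F17929 : act 4 n5723 = n5311 := d18_2 D4266 D5723 F16543 F13450 F11811
theorem F17930 : act 6 n5723 = n5402 := d20_2 (iv F13198) D5723 F16893
def n5724 : Q := act 5 n4266
theorem D5724 : act 5 n4266 = n5724 := rfl
theorem F17931 : act 0 n5724 = n5488 := d4_1 D5724 (iv D5488) (iv F13195)
theorem F17932 : act 2 n5724 = n4269 := d15_1 D5724 (iv D4269) (iv F13197)
theorem F17933 : act 4 n5724 = n4267 := d22_1 D5724 (iv D4267) D4266
def n5725 : Q := act 7 n4266
theorem D5725 : act 7 n4266 = n5725 := rfl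
theorem F17934 : act 0 n5725 = n5489 := d6_1 D5725 (iv D5489) (iv F13195)
theorem F17935 : act 1 n5725 = n5725 := d12_1 D5725 (iv D5725) F13196
theorem F17936 : act 2 n5725 = n4270 := d17_1 D5725 (iv D4270) (iv F13197)
theorem F17937 : act 4 n5725 = n4268 := d24_1 D5725 (iv D4268) D4266
def n5726 : Q := act 6 n4267
theorem D5726 : act 6 n4267 = n5726 := rfl
theorem F17938 : act 0 n5726 = n5491 := d5_1 D5726 (iv D5491) (iv F13199)
theorem F17939 : act 2 n5726 = n4271 := d16_1 D5726 (iv D4271) (iv F13200)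
theorem F17940 : act 5 n5726 = n5427 := d25_1 D5726 (iv D5427) (iv D4009) (iv F9397) D4267
def n5727 : Q := act 6 n4268
theorem D5727 : act 6 n4268 = n5727 := rfl
theorem F17941 : act 0 n5727 = n5494 := d5_1 D5727 (iv D5494) (iv F13201)
theorem F17942 : act 1 n5727 = n5727 := d11_1 D5727 (iv D5727) F13202
theorem F17943 : act 2 n5727 = n4273 := d16_1 D5727 (iv D4273) (iv F13203)
theorem F17944 : act 7 n5727 = n5430 := d27_2 D4268 D5727 (iv D5430) (iv D4010) (iv F9397)
def n5728 : Q := act 6 n4269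
theorem D5728 : act 6 n4269 = n5728 := rfl
theorem F17945 : act 0 n5728 = n5495 := d5_1 D5728 (iv D5495) (iv F13204)
theorem F17946 : act 1 n5728 = n4565 := d11_1 D5728 (iv D4565) (iv F13205)
theorem F17947 : act 3 n5728 = n5728 := d20_1 D5728 (iv D5728) F13206
theorem F17948 : act 4 n5728 = n4271 := d23_1 D5728 (iv D4271) (iv F13207)
theorem F17949 : act 5 n5728 = n5431 := d25_1 D5728 (iv D5431) (iv D4011) (iv F9401) D4269
def n5729 : Q := act 7 n4269
theorem D5729 : act 7 n4269 = n5729 := rfl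
theorem F17950 : act 0 n5729 = n5496 := d6_1 D5729 (iv D5496) (iv F13204)
theorem F17951 : act 1 n5729 = n4566 := d12_1 D5729 (iv D4566) (iv F13205)
theorem F17952 : act 4 n5729 = n4272 := d24_1 D5729 (iv D4272) (iv F13207)
theorem F17953 : act 5 n5729 = n4270 := d26_1 D5729 (iv D4270) D4269
def n5730 : Q := act 3 n4270
theorem D5730 : act 3 n4270 = n5730 := rfl
theorem F17954 : act 0 n5730 = n5497 := d2_1 D5730 (iv D5497) (iv F13208)
theorem F17955 : act 1 n5730 = n4274 := d8_1 D5730 (iv D4274) (iv F13209)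
theorem F17956 : act 7 n5730 = n5730 := d21_2 D4270 D5730 (iv D5730) (iv D4270) F9400
def n5731 : Q := act 6 n4270
theorem D5731 : act 6 n4270 = n5731 := rfl
theorem F17957 : act 0 n5731 = n5498 := d5_1 D5731 (iv D5498) (iv F13208)
theorem F17958 : act 1 n5731 = n4275 := d11_1 D5731 (iv D4275) (iv F13209)
theorem F17959 : act 4 n5731 = n4273 := d23_1 D5731 (iv D4273) (iv F13210)
theorem F17960 : act 7 n5731 = n5433 := d27_2 D4270 D5731 (iv D5433) (iv D4012) (iv F9401)
def n5732 : Q := act 7 n4271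
theorem D5732 : act 7 n4271 = n5732 := rfl
theorem F17961 : act 0 n5732 = n5499 := d6_1 D5732 (iv D5499) (iv F13211)
theorem F17962 : act 1 n5732 = n4569 := d12_1 D5732 (iv D4569) (iv F13212)
theorem F17963 : act 5 n5732 = n5434 := d26_1 D5732 (iv D5434) (iv F13214)
def n5733 : Q := act 6 n4272
theorem D5733 : act 6 n4272 = n5733 := rfl
theorem F17964 : act 0 n5733 = n5501 := d5_1 D5733 (iv D5501) (iv F13215)
theorem F17965 : act 1 n5733 = n4570 := d11_1 D5733 (iv D4570) (iv F13216)
def n5734 : Q := act 5 n4273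
theorem D5734 : act 5 n4273 = n5734 := rfl
theorem F17966 : act 0 n5734 = n5505 := d4_1 D5734 (iv D5505) (iv F13218)
theorem F17967 : act 7 n5734 = n5439 := d26_2 (iv F13220) D5734 (iv D5439)
def n5735 : Q := act 2 n4274
theorem D5735 : act 2 n4274 = n5735 := rfl
theorem F17968 : act 0 n5735 = n4277 := d1_1 D5735 (iv D4277) (iv F13221)
theorem F17969 : act 3 n5735 = n5735 := d13_2 D4274 D5735 (iv D5735) (iv D4274) F9412
theorem F17970 : act 5 n5735 = n4572 := d15_2 (iv F13222) D5735 (iv D4572)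
theorem F17971 : act 7 n5735 = n5735 := d17_2 F13223 D5735 (iv D5735)
def n5736 : Q := act 6 n4274
theorem D5736 : act 6 n4274 = n5736 := rfl
theorem F17972 : act 0 n5736 = n4278 := d5_1 D5736 (iv D4278) (iv F13221)
theorem F17973 : act 3 n5736 = n4275 := d20_1 D5736 (iv D4275) D4274
def n5737 : Q := act 5 n4275
theorem D5737 : act 5 n4275 = n5737 := rfl
theorem F17974 : act 0 n5737 = n4279 := d4_1 D5737 (iv D4279) (iv F13224)
theorem F17975 : act 2 n5737 = n5737 := d15_1 D5737 (iv D5737) F13225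
theorem F17976 : act 4 n5737 = n4276 := d22_1 D5737 (iv D4276) (iv F13226)
theorem F17977 : act 6 n5737 = n4574 := d25_2 D4275 D5737 (iv D4574) (iv D3300) (iv F9414)
theorem F17978 : act 7 n5737 = n5447 := d26_2 (iv F13227) D5737 (iv D5447)
def n5738 : Q := act 1 n4276
theorem D5738 : act 1 n4276 = n5738 := rfl
theorem F17979 : act 6 n5738 = n4575 := d11_2 (iv F13230) D5738 (iv D4575)
theorem F17980 : act 7 n5738 = n5449 := d12_2 (iv F13231) D5738 (iv D5449)
def n5739 : Q := act 5 n4278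
theorem D5739 : act 5 n4278 = n5739 := rfl
theorem F17981 : act 3 n5739 = n4279 := d19_1 D5739 (iv D4279) (iv F13237)
theorem F17982 : act 6 n5739 = n4577 := d25_2 D4278 D5739 (iv D4577) (iv D3303) (iv F9419)
def n5740 : Q := act 3 n4280
theorem D5740 : act 3 n4280 = n5740 := rfl
theorem F17983 : act 0 n5740 = n5740 := d2_1 D5740 (iv D5740) F13242
theorem F17984 : act 2 n5740 = n5740 := d13_1 D5740 (iv D5740) F13243 F9438 (iv F13243)
def n5741 : Q := act 6 n4280
theorem D5741 : act 6 n4280 = n5741 := rfl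
theorem F17985 : act 0 n5741 = n5741 := d5_1 D5741 (iv D5741) F13242
theorem F17986 : act 2 n5741 = n4284 := d16_1 D5741 (iv D4284) (iv F13243)
theorem F17987 : act 4 n5741 = n4283 := d23_1 D5741 (iv D4283) (iv F13244)
theorem F17988 : act 7 n5741 = n4345 := d27_2 D4280 D5741 (iv D4345) (iv D3110) (iv F9430)
def n5742 : Q := act 6 n4281
theorem D5742 : act 6 n4281 = n5742 := rfl
theorem F17989 : act 0 n5742 = n5742 := d5_1 D5742 (iv D5742) F13245
theorem F17990 : act 2 n5742 = n4286 := d16_1 D5742 (iv D4286) (iv F13246)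
def n5743 : Q := act 4 n4282
theorem D5743 : act 4 n4282 = n5743 := rfl
theorem F17991 : act 0 n5743 = n5743 := d3_1 D5743 (iv D5743) F13248
def n5744 : Q := act 6 n4282
theorem D5744 : act 6 n4282 = n5744 := rfl
theorem F17992 : act 0 n5744 = n5744 := d5_1 D5744 (iv D5744) F13248
theorem F17993 : act 3 n5744 = n4283 := d20_1 D5744 (iv D4283) D4282
def n5745 : Q := act 5 n4283
theorem D5745 : act 5 n4283 = n5745 := rfl
theorem F17994 : act 0 n5745 = n5745 := d4_1 D5745 (iv D5745) F13249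
theorem F17995 : act 2 n5745 = n4288 := d15_1 D5745 (iv D4288) (iv F13250)
theorem F17996 : act 7 n5745 = n4353 := d26_2 (iv F13251) D5745 (iv D4353)
def n5746 : Q := act 5 n4284
theorem D5746 : act 5 n4284 = n5746 := rfl
theorem F17997 : act 0 n5746 = n5746 := d4_1 D5746 (iv D5746) F13252
theorem F17998 : act 3 n5746 = n5746 := d19_1 D5746 (iv D5746) F13254
theorem F17999 : act 4 n5746 = n4288 := d22_1 D5746 (iv D4288) (iv F13255)
theorem F18000 : act 7 n5746 = n4356 := d26_2 (iv F13256) D5746 (iv D4356)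
def n5747 : Q := act 6 n4285
theorem D5747 : act 6 n4285 = n5747 := rfl
theorem F18001 : act 0 n5747 = n5747 := d5_1 D5747 (iv D5747) F13257
theorem F18002 : act 1 n5747 = n5747 := d11_1 D5747 (iv D5747) F13258
theorem F18003 : act 3 n5747 = n4286 := d20_1 D5747 (iv D4286) D4285
theorem F18004 : act 4 n5747 = n5747 := d23_1 D5747 (iv D5747) F13259
theorem F18005 : act 7 n5747 = n5747 := d27_2 (iv F13261) D5747 (iv D5747) F13261 F9454
def n5748 : Q := act 5 n4286
theorem D5748 : act 5 n4286 = n5748 := rfl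
theorem F18006 : act 0 n5748 = n5748 := d4_1 D5748 (iv D5748) F13262
theorem F18007 : act 6 n5748 = n4288 := d25_2 D4286 D5748 (iv D4288) (iv D3065) (iv F9442)
def n5749 : Q := act 6 n4293
theorem D5749 : act 6 n4293 = n5749 := rfl
theorem F18008 : act 1 n5749 = n5749 := d11_1 D5749 (iv D5749) F13281
theorem F18009 : act 3 n5749 = n4298 := d20_1 D5749 (iv D4298) (iv F13282)
theorem F18010 : act 4 n5749 = n5749 := d23_1 D5749 (iv D5749) F13283
def n5750 : Q := act 5 n4294
theorem D5750 : act 5 n4294 = n5750 := rfl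
theorem F18011 : act 0 n5750 = n4297 := d4_1 D5750 (iv D4297) (iv F13284)
theorem F18012 : act 3 n5750 = n5750 := d19_1 D5750 (iv D5750) F13286
theorem F18013 : act 4 n5750 = n4295 := d22_1 D5750 (iv D4295) D4294
def n5751 : Q := act 6 n4295
theorem D5751 : act 6 n4295 = n5751 := rfl
theorem F18014 : act 0 n5751 = n4298 := d5_1 D5751 (iv D4298) (iv F13288)
def n5752 : Q := act 5 n4296
theorem D5752 : act 5 n4296 = n5752 := rfl
theorem F18015 : act 0 n5752 = n4299 := d4_1 D5752 (iv D4299) (iv F13289)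
theorem F18016 : act 1 n5752 = n5170 := d10_1 D5752 F16050 F11699 F9507 (iv F13290)
theorem F18017 : act 3 n5752 = n5391 := d19_1 D5752 F16863 F13662
theorem F18018 : act 4 n5752 = n4720 := d22_1 D5752 (iv D4720) (iv F13291)
theorem F18019 : act 7 n5752 = n5168 := d26_2 F13292 D5752 F16040
def n5753 : Q := act 6 n4297
theorem D5753 : act 6 n4297 = n5753 := rfl
theorem F18020 : act 1 n5753 = n5753 := d11_1 D5753 (iv D5753) F13293
theorem F18021 : act 3 n5753 = n5753 := d20_1 D5753 (iv D5753) F13294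
theorem F18022 : act 4 n5753 = n4298 := d23_1 D5753 (iv D4298) (iv F13295)
theorem F18023 : act 5 n5753 = n4721 := d25_1 D5753 (iv D4721) (iv D3411) F9470 D4297
def n5754 : Q := act 5 n4298
theorem D5754 : act 5 n4298 = n5754 := rfl
theorem F18024 : act 4 n5754 = n4721 := d22_1 D5754 (iv F18023) F18022
theorem F18025 : act 6 n5754 = n4299 := d25_2 D4298 D5754 (iv D4299) (iv D3074) D3073
def n5755 : Q := act 7 n4298
theorem D5755 : act 7 n4298 = n5755 := rfl
theorem F18026 : act 1 n5755 = n5755 := d12_1 D5755 (iv D5755) F13296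
def n5756 : Q := act 7 n4299
theorem D5756 : act 7 n4299 = n5756 := rfl
theorem F18027 : act 0 n5756 = n5168 := d6_1 D5756 (iv F18019) F18015
theorem F18028 : act 1 n5756 = n5145 := d12_1 D5756 F15951 F14781
theorem F18029 : act 3 n5756 = n5147 := d21_1 D5756 F15959 F12325 D4783 (iv F14779)
theorem F18030 : act 4 n5756 = n4612 := d24_1 D5756 F14290 (iv F13297)
theorem F18031 : act 5 n5756 = n4300 := d26_1 D5756 (iv D4300) D4299
def n5757 : Q := act 7 n4301
theorem D5757 : act 7 n4301 = n5757 := rfl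
theorem F18032 : act 0 n5757 = n5757 := d6_1 D5757 (iv D5757) F13302
theorem F18033 : act 1 n5757 = n5144 := d12_1 D5757 F15945 F14789
theorem F18034 : act 2 n5757 = n4302 := d17_1 D5757 (iv D4302) D4301
theorem F18035 : act 4 n5757 = n4354 := d24_1 D5757 F13465 (iv F13304)
def n5758 : Q := act 6 n4302
theorem D5758 : act 6 n4302 = n5758 := rfl
theorem F18036 : act 0 n5758 = n5758 := d5_1 D5758 (iv D5758) F13306
theorem F18037 : act 1 n5758 = n4303 := d11_1 D5758 (iv D4303) (iv F13307)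
theorem F18038 : act 3 n5758 = n4363 := d20_1 D5758 (iv D4363) (iv F13308)
theorem F18039 : act 4 n5758 = n4355 := d23_1 D5758 (iv D4355) (iv F13309)
theorem F18040 : act 7 n5758 = n5758 := d27_2 D4302 D5758 (iv D5758) (iv D4302) F9482
def n5759 : Q := act 1 n4307
theorem D5759 : act 1 n4307 = n5759 := rfl
theorem F18041 : act 0 n5759 = n5759 := d0_1 D5759 (iv D5759) F13327 F9509 (iv F13327)
theorem F18042 : act 3 n5759 = n5759 := d8_2 F13329 D5759 (iv D5759)
theorem F18043 : act 4 n5759 = n4308 := d9_2 (iv F13330) D5759 (iv D4308)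
def n5760 : Q := act 6 n4307
theorem D5760 : act 6 n4307 = n5760 := rfl
theorem F18044 : act 0 n5760 = n4310 := d5_1 D5760 (iv D4310) (iv F13327)
theorem F18045 : act 2 n5760 = n4313 := d16_1 D5760 (iv D4313) (iv F13328)
theorem F18046 : act 3 n5760 = n5760 := d20_1 D5760 (iv D5760) F13329
theorem F18047 : act 4 n5760 = n4309 := d23_1 D5760 (iv D4309) (iv F13330)
theorem F18048 : act 5 n5760 = n4723 := d25_1 D5760 (iv D4723) (iv D3412) F9501 D4307
def n5761 : Q := act 6 n4308
theorem D5761 : act 6 n4308 = n5761 := rfl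
theorem F18049 : act 0 n5761 = n5761 := d5_1 D5761 (iv D5761) F13331
theorem F18050 : act 1 n5761 = n4309 := d11_1 D5761 (iv D4309) D4308
def n5762 : Q := act 7 n4309
theorem D5762 : act 7 n4309 = n5762 := rfl
theorem F18051 : act 0 n5762 = n4311 := d6_1 D5762 (iv D4311) (iv F13332)
theorem F18052 : act 2 n5762 = n4317 := d17_1 D5762 (iv D4317) (iv F13333)
theorem F18053 : act 3 n5762 = n5762 := d21_1 D5762 (iv D5762) (iv F13672) F13675 F13672
theorem F18054 : act 5 n5762 = n4554 := d26_1 D5762 F14114 (iv F13334)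
def n5763 : Q := act 2 n4312
theorem D5763 : act 2 n4312 = n5763 := rfl
theorem F18055 : act 0 n5763 = n4326 := d1_1 D5763 (iv D4326) (iv F13344)
theorem F18056 : act 4 n5763 = n4314 := d14_2 (iv F13346) D5763 (iv D4314)
def n5764 : Q := act 6 n4312
theorem D5764 : act 6 n4312 = n5764 := rfl
theorem F18057 : act 0 n5764 = n4327 := d5_1 D5764 (iv D4327) (iv F13344)
theorem F18058 : act 1 n5764 = n4313 := d11_1 D5764 (iv D4313) D4312
theorem F18059 : act 3 n5764 = n4894 := d20_1 D5764 F15134 (iv F13345)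
theorem F18060 : act 4 n5764 = n4315 := d23_1 D5764 (iv D4315) (iv F13346)
def n5765 : Q := act 7 n4313
theorem D5765 : act 7 n4313 = n5765 := rfl
theorem F18061 : act 0 n5765 = n4319 := d6_1 D5765 (iv D4319) (iv F13347)
theorem F18062 : act 4 n5765 = n4317 := d24_1 D5765 (iv D4317) (iv F13349)
theorem F18063 : act 5 n5765 = n4558 := d26_1 D5765 F14128 (iv F13350)
def n5766 : Q := act 6 n4314
theorem D5766 : act 6 n4314 = n5766 := rfl
theorem F18064 : act 0 n5766 = n4330 := d5_1 D5766 (iv D4330) (iv F13351)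
theorem F18065 : act 2 n5766 = n4315 := d16_1 D5766 (iv D4315) D4314
def n5767 : Q := act 5 n4315
theorem D5767 : act 5 n4315 = n5767 := rfl
theorem F18066 : act 0 n5767 = n4331 := d4_1 D5767 (iv D4331) (iv F13352)
theorem F18067 : act 3 n5767 = n5767 := d19_1 D5767 (iv D5767) F13354
def n5768 : Q := act 7 n4315
theorem D5768 : act 7 n4315 = n5768 := rfl
theorem F18068 : act 0 n5768 = n4332 := d6_1 D5768 (iv D4332) (iv F13352)
theorem F18069 : act 1 n5768 = n4317 := d12_1 D5768 (iv D4317) (iv F13353)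
theorem F18070 : act 3 n4575 = n5768 := d8_0 F18069 (iv F13363) D4575
def n5769 : Q := act 1 n4316
theorem D5769 : act 1 n4316 = n5769 := rfl
theorem F18071 : act 0 n5769 = n5769 := d0_1 D5769 (iv D5769) F13355 F9542 (iv F13355)
theorem F18072 : act 3 n5769 = n5769 := d8_2 F13357 D5769 (iv D5769)
theorem F18073 : act 4 n5769 = n4882 := d9_2 (iv F13358) D5769 F15091
theorem F18074 : act 6 n5769 = n4318 := d11_2 (iv F13359) D5769 (iv D4318)
theorem F18075 : act 7 n5769 = n4556 := d12_2 F13360 D5769 F14121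
def n5770 : Q := act 2 n4318
theorem D5770 : act 2 n4318 = n5770 := rfl
theorem F18076 : act 0 n5770 = n5770 := d1_1 D5770 (iv D5770) F13364
theorem F18077 : act 1 n5770 = n5167 := d7_1 D5770 F16034 F11699 (iv F9529) D4318
theorem F18078 : act 4 n5770 = n4881 := d14_2 (iv F13366) D5770 (iv D4881)
theorem F18079 : act 7 n5770 = n4538 := d17_2 (iv F13367) D5770 (iv D4538)
def n5771 : Q := act 3 n4319
theorem D5771 : act 3 n4319 = n5771 := rfl
theorem F18080 : act 1 n5771 = n4341 := d8_1 D5771 (iv D4341) (iv F13368)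
theorem F18081 : act 4 n5771 = n4577 := d18_2 (iv F13369) D5771 F14188 F10202 F9550
theorem F18082 : act 5 n5771 = n4559 := d19_2 (iv F13370) D5771 F14130
theorem F18083 : act 7 n5771 = n4902 := d21_2 D4319 D5771 (iv D4902) (iv D3555) (iv F9539)
def n5772 : Q := act 1 n4320
theorem D5772 : act 1 n4320 = n5772 := rfl
theorem F18084 : act 0 n5772 = n5772 := d0_1 D5772 (iv D5772) F13371 F9572 (iv F13371)
theorem F18085 : act 3 n5772 = n5772 := d8_2 F13373 D5772 (iv D5772)
theorem F18086 : act 4 n5772 = n5772 := d9_2 F13374 D5772 (iv D5772)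
theorem F18087 : act 5 n5772 = n5772 := d10_2 D4320 D5772 (iv D5772) (iv D4320) F9552
def n5773 : Q := act 6 n4320
theorem D5773 : act 6 n4320 = n5773 := rfl
theorem F18088 : act 0 n5773 = n4334 := d5_1 D5773 (iv D4334) (iv F13371)
theorem F18089 : act 2 n5773 = n4323 := d16_1 D5773 (iv D4323) (iv F13372)
theorem F18090 : act 3 n5773 = n5773 := d20_1 D5773 (iv D5773) F13373
theorem F18091 : act 4 n5773 = n5773 := d23_1 D5773 (iv D5773) F13374
theorem F18092 : act 5 n5773 = n5773 := d25_1 D5773 (iv D5773) (iv D4320) F9555 D4320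
def n5774 : Q := act 7 n4320
theorem D5774 : act 7 n4320 = n5774 := rfl
theorem F18093 : act 0 n5774 = n4335 := d6_1 D5774 (iv D4335) (iv F13371)
theorem F18094 : act 2 n5774 = n4324 := d17_1 D5774 (iv D4324) (iv F13372)
theorem F18095 : act 4 n5774 = n5774 := d24_1 D5774 (iv D5774) F13374
theorem F18096 : act 5 n5774 = n4321 := d26_1 D5774 (iv D4321) D4320
def n5775 : Q := act 3 n4321
theorem D5775 : act 3 n4321 = n5775 := rfl
theorem F18097 : act 0 n5775 = n4336 := d2_1 D5775 (iv D4336) (iv F13375)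
theorem F18098 : act 1 n5775 = n5775 := d8_1 D5775 (iv D5775) F13376
theorem F18099 : act 2 n5775 = n4557 := d13_1 D5775 (iv D4557) (iv F12823) F12824 (iv F13377)
theorem F18100 : act 7 n5775 = n5775 := d21_2 D4321 D5775 (iv D5775) (iv D4321) F9553
theorem F18101 : act 4 n4572 = n5775 := d14_0 F18099 F14124 D4572
def n5776 : Q := act 6 n4321
theorem D5776 : act 6 n4321 = n5776 := rfl
theorem F18102 : act 0 n5776 = n4337 := d5_1 D5776 (iv D4337) (iv F13375)
theorem F18103 : act 1 n5776 = n5776 := d11_1 D5776 (iv D5776) F13376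
theorem F18104 : act 2 n5776 = n4325 := d16_1 D5776 (iv D4325) (iv F13377)
theorem F18105 : act 4 n5776 = n5776 := d23_1 D5776 (iv D5776) F13378
theorem F18106 : act 7 n5776 = n5776 := d27_2 D4321 D5776 (iv D5776) (iv D4321) F9555
def n5777 : Q := act 2 n4322
theorem D5777 : act 2 n4322 = n5777 := rfl
theorem F18107 : act 0 n5777 = n4897 := d1_1 D5777 (iv D4897) (iv F13379)
theorem F18108 : act 4 n5777 = n5777 := d14_2 F13381 D5777 (iv D5777)
def n5778 : Q := act 6 n4322
theorem D5778 : act 6 n4322 = n5778 := rfl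
theorem F18109 : act 0 n5778 = n4894 := d5_1 D5778 F15134 (iv F13379)
theorem F18110 : act 1 n5778 = n4323 := d11_1 D5778 (iv D4323) D4322
theorem F18111 : act 3 n5778 = n4327 := d20_1 D5778 (iv D4327) (iv F13380)
theorem F18112 : act 4 n5778 = n5778 := d23_1 D5778 (iv D5778) F13381
def n5779 : Q := act 7 n4322
theorem D5779 : act 7 n4322 = n5779 := rfl
theorem F18113 : act 0 n5779 = n4898 := d6_1 D5779 (iv D4898) (iv F13379)
theorem F18114 : act 1 n5779 = n4324 := d12_1 D5779 (iv D4324) D4322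
theorem F18115 : act 3 n5779 = n5348 := d21_1 D5779 F17493 F17490 F12827 (iv F13380)
theorem F18116 : act 4 n5779 = n5779 := d24_1 D5779 (iv D5779) F13381
theorem F18117 : act 5 n5779 = n5343 := d26_1 D5779 (iv F16670) F16484
def n5780 : Q := act 7 n4323
theorem D5780 : act 7 n4323 = n5780 := rfl
theorem F18118 : act 0 n5780 = n4338 := d6_1 D5780 (iv D4338) (iv F13382)
theorem F18119 : act 4 n5780 = n5780 := d24_1 D5780 (iv D5780) F13384
theorem F18120 : act 5 n5780 = n5780 := d26_1 D5780 (iv D5780) F13385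
def n5781 : Q := act 6 n4324
theorem D5781 : act 6 n4324 = n5781 := rfl
theorem F18121 : act 0 n5781 = n4339 := d5_1 D5781 (iv D4339) (iv F13386)
theorem F18122 : act 4 n5781 = n5781 := d23_1 D5781 (iv D5781) F13387
def n5782 : Q := act 5 n4325
theorem D5782 : act 5 n4325 = n5782 := rfl
theorem F18123 : act 0 n5782 = n4340 := d4_1 D5782 (iv D4340) (iv F13389)
theorem F18124 : act 4 n5782 = n5782 := d22_1 D5782 (iv D5782) F13390
theorem F18125 : act 7 n5782 = n5782 := d26_2 F13391 D5782 (iv D5782)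
def n5783 : Q := act 3 n4326
theorem D5783 : act 3 n4326 = n5783 := rfl
theorem F18126 : act 1 n5783 = n5783 := d8_1 D5783 (iv D5783) F13392
def n5784 : Q := act 6 n4326
theorem D5784 : act 6 n4326 = n5784 := rfl
theorem F18127 : act 1 n5784 = n5784 := d11_1 D5784 (iv D5784) F13392
theorem F18128 : act 2 n5784 = n4327 := d16_1 D5784 (iv D4327) D4326
theorem F18129 : act 4 n5784 = n4330 := d23_1 D5784 (iv D4330) (iv F13393)
def n5785 : Q := act 5 n4327
theorem D5785 : act 5 n4327 = n5785 := rfl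
theorem F18130 : act 1 n5785 = n5785 := d10_1 D5785 (iv D5785) F13394 F9565 (iv F13394)
theorem F18131 : act 4 n5785 = n4331 := d22_1 D5785 (iv D4331) (iv F13395)
def n5786 : Q := act 7 n4327
theorem D5786 : act 7 n4327 = n5786 := rfl
theorem F18132 : act 1 n5786 = n4328 := d12_1 D5786 (iv D4328) (iv F13394)
theorem F18133 : act 4 n5786 = n4332 := d24_1 D5786 (iv D4332) (iv F13395)
def n5787 : Q := act 3 n4328
theorem D5787 : act 3 n4328 = n5787 := rfl
theorem F18134 : act 0 n5787 = n4341 := d2_1 D5787 (iv D4341) (iv F13396)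
theorem F18135 : act 5 n5787 = n5787 := d19_2 F13399 D5787 (iv D5787)
def n5788 : Q := act 4 n4329
theorem D5788 : act 4 n4329 = n5788 := rfl
theorem F18136 : act 1 n5788 = n5788 := d9_1 D5788 (iv D5788) F13400
theorem F18137 : act 2 n5788 = n5788 := d14_1 D5788 (iv D5788) F13401
theorem F18138 : act 7 n5788 = n5723 := d24_2 F16617 D5788 F17929
def n5789 : Q := act 6 n4329
theorem D5789 : act 6 n4329 = n5789 := rfl
theorem F18139 : act 1 n5789 = n5789 := d11_1 D5789 (iv D5789) F13400
theorem F18140 : act 2 n5789 = n5789 := d16_1 D5789 (iv D5789) F13401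
theorem F18141 : act 3 n5789 = n4330 := d20_1 D5789 (iv D4330) D4329
def n5790 : Q := act 5 n4330
theorem D5790 : act 5 n4330 = n5790 := rfl
theorem F18142 : act 2 n5790 = n4331 := d15_1 D5790 (iv D4331) (iv F13403)
def n5791 : Q := act 7 n4330
theorem D5791 : act 7 n4330 = n5791 := rfl
theorem F18143 : act 1 n5791 = n5791 := d12_1 D5791 (iv D5791) F13402
theorem F18144 : act 2 n5791 = n4332 := d17_1 D5791 (iv D4332) (iv F13403)
def n5792 : Q := act 7 n4331
theorem D5792 : act 7 n4331 = n5792 := rfl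
theorem F18145 : act 1 n5792 = n5792 := d12_1 D5792 (iv D5792) F13404
theorem F18146 : act 5 n5792 = n4332 := d26_1 D5792 (iv D4332) D4331
def n5793 : Q := act 3 n4332
theorem D5793 : act 3 n4332 = n5793 := rfl
theorem F18147 : act 0 n5793 = n4575 := d2_1 D5793 F18070 F18068
theorem F18148 : act 1 n5793 = n4333 := d8_1 D5793 (iv D4333) (iv F13406)
theorem F18149 : act 7 n5793 = n5793 := d21_2 D4332 D5793 (iv D5793) (iv D4332) F9568
def n5794 : Q := act 2 n4333
theorem D5794 : act 2 n4333 = n5794 := rfl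
theorem F18150 : act 0 n5794 = n4342 := d1_1 D5794 (iv D4342) (iv F13407)
theorem F18151 : act 3 n5794 = n5794 := d13_2 D4333 D5794 (iv D5794) (iv D4333) F9570
theorem F18152 : act 5 n5794 = n5794 := d15_2 F13408 D5794 (iv D5794)
theorem F18153 : act 6 n5794 = n4809 := d16_2 F17533 D5794 F17535
theorem F18154 : act 7 n5794 = n5794 := d17_2 F13409 D5794 (iv D5794)
def n5795 : Q := act 4 n4333
theorem D5795 : act 4 n4333 = n5795 := rfl
theorem F18155 : act 0 n5795 = n4343 := d3_1 D5795 (iv D4343) (iv F13407)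
theorem F18156 : act 5 n5795 = n5795 := d22_2 F13408 D5795 (iv D5795)
theorem F18157 : act 7 n5795 = n5795 := d24_2 F13409 D5795 (iv D5795)
def n5796 : Q := act 7 n4334
theorem D5796 : act 7 n4334 = n5796 := rfl
theorem F18158 : act 1 n5796 = n5796 := d12_1 D5796 (iv D5796) F13410
theorem F18159 : act 2 n5796 = n4338 := d17_1 D5796 (iv D4338) (iv F13411)
theorem F18160 : act 4 n5796 = n5796 := d24_1 D5796 (iv D5796) F13413
theorem F18161 : act 5 n5796 = n5796 := d26_1 D5796 (iv D5796) F13414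
def n5797 : Q := act 6 n4335
theorem D5797 : act 6 n4335 = n5797 := rfl
theorem F18162 : act 1 n5797 = n5797 := d11_1 D5797 (iv D5797) F13415
theorem F18163 : act 2 n5797 = n4339 := d16_1 D5797 (iv D4339) (iv F13416)
theorem F18164 : act 4 n5797 = n5797 := d23_1 D5797 (iv D5797) F13417
def n5798 : Q := act 6 n4336
theorem D5798 : act 6 n4336 = n5798 := rfl
theorem F18165 : act 1 n5798 = n4442 := d11_1 D5798 (iv D4442) (iv F13419)
theorem F18166 : act 2 n5798 = n4559 := d16_1 D5798 (iv D4559) (iv F13420)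
theorem F18167 : act 3 n5798 = n4337 := d20_1 D5798 (iv D4337) D4336
theorem F18168 : act 4 n5798 = n4576 := d23_1 D5798 (iv D4576) F13422
theorem F18169 : act 7 n4904 = n5798 := d17_0 F18166 (iv F14132) D4904
def n5799 : Q := act 5 n4337
theorem D5799 : act 5 n4337 = n5799 := rfl
theorem F18170 : act 2 n5799 = n4340 := d15_1 D5799 (iv D4340) (iv F13424)
theorem F18171 : act 4 n5799 = n5799 := d22_1 D5799 (iv D5799) F13425
theorem F18172 : act 7 n5799 = n5799 := d26_2 F13426 D5799 (iv D5799)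
def n5800 : Q := act 3 n4338
theorem D5800 : act 3 n4338 = n5800 := rfl
theorem F18173 : act 1 n5800 = n4902 := d8_1 D5800 (iv D4902) (iv F13427)
theorem F18174 : act 5 n5800 = n5800 := d19_2 F13429 D5800 (iv D5800)
theorem F18175 : act 7 n5800 = n4341 := d21_2 D4338 D5800 (iv D4341) (iv D3108) (iv F9580)
def n5801 : Q := act 6 n4338
theorem D5801 : act 6 n4338 = n5801 := rfl
theorem F18176 : act 1 n5801 = n4903 := d11_1 D5801 (iv D4903) (iv F13427)
theorem F18177 : act 4 n5801 = n5801 := d23_1 D5801 (iv D5801) F13428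
theorem F18178 : act 7 n5801 = n4339 := d27_2 D4338 D5801 (iv D4339) (iv D3106) D3105
def n5802 : Q := act 5 n4339
theorem D5802 : act 5 n4339 = n5802 := rfl
theorem F18179 : act 1 n5802 = n5802 := d10_1 D5802 (iv D5802) F13430 F10953 (iv F13430)
theorem F18180 : act 4 n5802 = n5802 := d22_1 D5802 (iv D5802) F13431
theorem F18181 : act 6 n5802 = n4340 := d25_2 D4339 D5802 (iv D4340) (iv D3107) (iv F9585)
def n5803 : Q := act 2 n4341
theorem D5803 : act 2 n4341 = n5803 := rfl
theorem F18182 : act 3 n5803 = n5803 := d13_2 D4341 D5803 (iv D5803) (iv D4341) F9589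
theorem F18183 : act 5 n5803 = n5803 := d15_2 F13435 D5803 (iv D5803)
theorem F18184 : act 4 n5800 = n5803 := d31_2 F13435 (iv F18175) (iv D5803) (iv F17546) (iv D5591) F12855 (iv D4063) F8894 F6136 (iv D1969) F4255 (iv D938) F2092 D668 F2197 F1657 F1656 D742 (iv F3373) F3372 (iv F3025) D1403 (iv F6137) (iv F6240) D2938 (iv F12854) F12853 F12856 D4341
def n5804 : Q := act 4 n4341
theorem D5804 : act 4 n4341 = n5804 := rfl
theorem F18185 : act 1 n5804 = n4577 := d9_1 D5804 (iv F18081) F18080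
theorem F18186 : act 2 n5804 = n5800 := d14_1 D5804 F18184 (iv D5803)
theorem F18187 : act 3 n5804 = n4343 := d18_1 D5804 (iv D4343) (iv D3109) (iv F9590) D4341
theorem F18188 : act 5 n5804 = n5804 := d22_2 F13435 D5804 (iv D5804)
theorem F18189 : act 7 n5804 = n5803 := d24_2 F18175 D5804 (iv F18184)
def n5805 : Q := act 4 n4342
theorem D5805 : act 4 n4342 = n5805 := rfl
theorem F18190 : act 1 n5805 = n5805 := d9_1 D5805 (iv D5805) F13436
theorem F18191 : act 2 n5805 = n4343 := d14_1 D5805 (iv D4343) D4342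
theorem F18192 : act 5 n5805 = n5805 := d22_2 F13438 D5805 (iv D5805)
theorem F18193 : act 6 n5805 = n4810 := d23_2 (iv F13439) D5805 F14874
theorem F18194 : act 7 n5805 = n5805 := d24_2 F13440 D5805 (iv D5805)
theorem F18195 : act 3 n5796 = n5805 := d30_4 F7672 (iv F10947) (iv F13427) (iv F18159) F18194 F18193 F14875 F10865 F7600 F5263 (iv F7330) F7329 F7220 (iv D1658) F3579 (iv F5155) F5158 (iv D1332) F2934 F2041 (iv F2940) D1337 D1970 D2878 F8900 (iv F10499) F10500 F7611 D2487
def n5806 : Q := act 4 n4344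
theorem D5806 : act 4 n4344 = n5806 := rfl
theorem F18196 : act 0 n5806 = n5806 := d3_1 D5806 (iv D5806) F13444
theorem F18197 : act 3 n5806 = n4351 := d18_1 D5806 (iv D4351) (iv D3113) (iv F9597) D4344
def n5807 : Q := act 6 n4344
theorem D5807 : act 6 n4344 = n5807 := rfl
theorem F18198 : act 0 n5807 = n5807 := d5_1 D5807 (iv D5807) F13444
theorem F18199 : act 3 n5807 = n4345 := d20_1 D5807 (iv D4345) D4344
def n5808 : Q := act 5 n4345
theorem D5808 : act 5 n4345 = n5808 := rfl
theorem F18200 : act 0 n5808 = n5808 := d4_1 D5808 (iv D5808) F13445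
theorem F18201 : act 2 n5808 = n4356 := d15_1 D5808 (iv D4356) (iv F13446)
theorem F18202 : act 4 n5808 = n4353 := d22_1 D5808 (iv D4353) (iv F13447)
def n5809 : Q := act 6 n4347
theorem D5809 : act 6 n4347 = n5809 := rfl
theorem F18203 : act 1 n5809 = n4349 := d11_1 D5809 (iv D4349) (iv F13451)
theorem F18204 : act 2 n5809 = n4585 := d16_1 D5809 (iv D4585) (iv F13452)
def n5810 : Q := act 4 n4348
theorem D5810 : act 4 n4348 = n5810 := rfl
theorem F18205 : act 0 n5810 = n5810 := d3_1 D5810 (iv D5810) F13453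
theorem F18206 : act 5 n5810 = n4351 := d22_2 (iv F13454) D5810 (iv D4351)
def n5811 : Q := act 6 n4348
theorem D5811 : act 6 n4348 = n5811 := rfl
theorem F18207 : act 0 n5811 = n5811 := d5_1 D5811 (iv D5811) F13453
theorem F18208 : act 3 n5811 = n4349 := d20_1 D5811 (iv D4349) D4348
def n5812 : Q := act 5 n4349
theorem D5812 : act 5 n4349 = n5812 := rfl
theorem F18209 : act 0 n5812 = n5812 := d4_1 D5812 (iv D5812) F13455
theorem F18210 : act 2 n5812 = n4359 := d15_1 D5812 (iv D4359) (iv F13456)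
theorem F18211 : act 6 n5812 = n4353 := d25_2 D4349 D5812 (iv D4353) (iv D3114) (iv F9601)
def n5813 : Q := act 4 n4350
theorem D5813 : act 4 n4350 = n5813 := rfl
theorem F18212 : act 0 n5813 = n5813 := d3_1 D5813 (iv D5813) F13457
theorem F18213 : act 2 n5813 = n4351 := d14_1 D5813 (iv D4351) D4350
def n5814 : Q := act 6 n4350
theorem D5814 : act 6 n4350 = n5814 := rfl
theorem F18214 : act 0 n5814 = n5814 := d5_1 D5814 (iv D5814) F13457
theorem F18215 : act 2 n5814 = n4352 := d16_1 D5814 (iv D4352) D4350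
theorem F18216 : act 3 n5814 = n4362 := d20_1 D5814 (iv D4362) (iv F13458)
def n5815 : Q := act 6 n4351
theorem D5815 : act 6 n4351 = n5815 := rfl
theorem F18217 : act 0 n5815 = n5815 := d5_1 D5815 (iv D5815) F13459
theorem F18218 : act 4 n5815 = n4352 := d23_1 D5815 (iv D4352) D4351
def n5816 : Q := act 5 n4352
theorem D5816 : act 5 n4352 = n5816 := rfl
theorem F18219 : act 0 n5816 = n5816 := d4_1 D5816 (iv D5816) F13460
theorem F18220 : act 3 n5816 = n4353 := d19_1 D5816 (iv D4353) (iv F13461)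
def n5817 : Q := act 7 n4352
theorem D5817 : act 7 n4352 = n5817 := rfl
theorem F18221 : act 0 n5817 = n5817 := d6_1 D5817 (iv D5817) F13460
def n5818 : Q := act 1 n4353
theorem D5818 : act 1 n4353 = n5818 := rfl
def n5819 : Q := act 6 n4354
theorem D5819 : act 6 n4354 = n5819 := rfl
theorem F18222 : act 0 n5819 = n5819 := d5_1 D5819 (iv D5819) F13464
theorem F18223 : act 2 n5819 = n4355 := d16_1 D5819 (iv D4355) D4354
theorem F18224 : act 7 n5819 = n5819 := d27_2 (iv F13465) D5819 (iv D5819) F13465 F9847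
def n5820 : Q := act 5 n4355
theorem D5820 : act 5 n4355 = n5820 := rfl
theorem F18225 : act 0 n5820 = n5820 := d4_1 D5820 (iv D5820) F13466
theorem F18226 : act 3 n5820 = n4356 := d19_1 D5820 (iv D4356) (iv F13468)
theorem F18227 : act 7 n5820 = n5820 := d26_2 F13469 D5820 (iv D5820)
def n5821 : Q := act 1 n4356
theorem D5821 : act 1 n4356 = n5821 := rfl
theorem F18228 : act 4 n5821 = n4365 := d9_2 (iv F13471) D5821 (iv D4365)
theorem F18229 : act 5 n5821 = n4374 := d10_2 D4356 D5821 (iv D4374) (iv D3129) (iv F9609)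
def n5822 : Q := act 6 n4357
theorem D5822 : act 6 n4357 = n5822 := rfl
theorem F18230 : act 0 n5822 = n5822 := d5_1 D5822 (iv D5822) F13472
theorem F18231 : act 2 n5822 = n4358 := d16_1 D5822 (iv D4358) D4357
theorem F18232 : act 7 n5822 = n5822 := d27_2 (iv F13474) D5822 (iv D5822) F13474 F9628
def n5823 : Q := act 5 n4358
theorem D5823 : act 5 n4358 = n5823 := rfl
theorem F18233 : act 0 n5823 = n5823 := d4_1 D5823 (iv D5823) F13475
theorem F18234 : act 3 n5823 = n4359 := d19_1 D5823 (iv D4359) (iv F13477)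
theorem F18235 : act 6 n5823 = n4364 := d25_2 D4358 D5823 (iv D4364) (iv D3121) (iv F9613)
theorem F18236 : act 7 n5823 = n5823 := d26_2 F13478 D5823 (iv D5823)
def n5824 : Q := act 1 n4359
theorem D5824 : act 1 n4359 = n5824 := rfl
theorem F18237 : act 5 n5824 = n4600 := d10_2 D4359 D5824 (iv D4600) (iv D3320) (iv F9616)
theorem F18238 : act 6 n5824 = n4365 := d11_2 (iv F13480) D5824 (iv D4365)
def n5825 : Q := act 4 n4360
theorem D5825 : act 4 n4360 = n5825 := rfl
theorem F18239 : act 0 n5825 = n5667 := d3_1 D5825 F17770 F17270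
theorem F18240 : act 1 n5825 = n4361 := d9_1 D5825 (iv D4361) D4360
theorem F18241 : act 2 n5825 = n4376 := d14_1 D5825 (iv D4376) (iv F13481)
theorem F18242 : act 7 n5825 = n4368 := d24_2 (iv F13482) D5825 (iv D4368)
def n5826 : Q := act 6 n4360
theorem D5826 : act 6 n4360 = n5826 := rfl
theorem F18243 : act 1 n5826 = n4362 := d11_1 D5826 (iv D4362) D4360
theorem F18244 : act 2 n5826 = n4378 := d16_1 D5826 (iv D4378) (iv F13481)
def n5827 : Q := act 3 n4361
theorem D5827 : act 3 n4361 = n5827 := rfl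
theorem F18245 : act 0 n5827 = n5827 := d2_1 D5827 (iv D5827) F13483
theorem F18246 : act 7 n5827 = n5827 := d21_2 (iv F13485) D5827 (iv D5827) F13485 F9632
def n5828 : Q := act 6 n4361
theorem D5828 : act 6 n4361 = n5828 := rfl
theorem F18247 : act 0 n5828 = n5828 := d5_1 D5828 (iv D5828) F13483
theorem F18248 : act 2 n5828 = n4363 := d16_1 D5828 (iv D4363) (iv F13484)
theorem F18249 : act 4 n5828 = n4362 := d23_1 D5828 (iv D4362) D4361
theorem F18250 : act 7 n5828 = n4652 := d27_2 (iv F13485) D5828 (iv D4652) (iv D3356) F9633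
def n5829 : Q := act 5 n4362
theorem D5829 : act 5 n4362 = n5829 := rfl
theorem F18251 : act 0 n5829 = n5829 := d4_1 D5829 (iv D5829) F13486
theorem F18252 : act 2 n5829 = n4364 := d15_1 D5829 (iv D4364) (iv F13487)
def n5830 : Q := act 5 n4363
theorem D5830 : act 5 n4363 = n5830 := rfl
theorem F18253 : act 0 n5830 = n5830 := d4_1 D5830 (iv D5830) F13488
theorem F18254 : act 4 n5830 = n4364 := d22_1 D5830 (iv D4364) (iv F13490)
theorem F18255 : act 7 n5830 = n4653 := d26_2 (iv F13491) D5830 (iv D4653)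
def n5831 : Q := act 2 n4365
theorem D5831 : act 2 n4365 = n5831 := rfl
theorem F18256 : act 5 n5831 = n4380 := d15_2 (iv F13494) D5831 (iv D4380)
def n5832 : Q := act 6 n4367
theorem D5832 : act 6 n4367 = n5832 := rfl
theorem F18257 : act 0 n5832 = n4370 := d5_1 D5832 (iv D4370) D4367
theorem F18258 : act 1 n5832 = n5832 := d11_1 D5832 (iv D5832) F13497
theorem F18259 : act 2 n5832 = n4382 := d16_1 D5832 (iv D4382) (iv F13498)
theorem F18260 : act 4 n5832 = n4629 := d23_1 D5832 (iv F14371) F14370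
def n5833 : Q := act 5 n4368
theorem D5833 : act 5 n4368 = n5833 := rfl
theorem F18261 : act 2 n5833 = n4383 := d15_1 D5833 (iv D4383) (iv F13500)
theorem F18262 : act 3 n5833 = n5833 := d19_1 D5833 (iv D5833) F13501
theorem F18263 : act 4 n5833 = n4369 := d22_1 D5833 (iv D4369) D4368
def n5834 : Q := act 6 n4369
theorem D5834 : act 6 n4369 = n5834 := rfl
theorem F18264 : act 2 n5834 = n4384 := d16_1 D5834 (iv D4384) (iv F13503)
def n5835 : Q := act 5 n4370
theorem D5835 : act 5 n4370 = n5835 := rfl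
theorem F18265 : act 1 n5835 = n5835 := d10_1 D5835 (iv D5835) F13504 F9637 (iv F13504)
theorem F18266 : act 2 n5835 = n4385 := d15_1 D5835 (iv D4385) (iv F13505)
theorem F18267 : act 4 n5835 = n4639 := d22_1 D5835 (iv D4639) (iv F13506)
def n5836 : Q := act 6 n4371
theorem D5836 : act 6 n4371 = n5836 := rfl
theorem F18268 : act 0 n5836 = n4959 := d5_1 D5836 (iv D4959) (iv F13507)
theorem F18269 : act 1 n5836 = n4372 := d11_1 D5836 (iv D4372) D4371
theorem F18270 : act 3 n5836 = n4954 := d20_1 D5836 (iv D4954) (iv F13508)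
theorem F18271 : act 4 n5836 = n5146 := d23_1 D5836 (iv D5146) (iv F13509)
theorem F18272 : act 7 n5836 = n5836 := d27_2 (iv F13510) D5836 (iv D5836) F13510 F9849
def n5837 : Q := act 5 n4372
theorem D5837 : act 5 n4372 = n5837 := rfl
theorem F18273 : act 0 n5837 = n4396 := d4_1 D5837 (iv D4396) (iv F13511)
theorem F18274 : act 2 n5837 = n4373 := d15_1 D5837 (iv D4373) (iv F13512)
theorem F18275 : act 3 n5837 = n5477 := d19_1 D5837 (iv D5477) (iv F13513)
theorem F18276 : act 4 n5837 = n5661 := d22_1 D5837 F17754 (iv F13514)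
theorem F18277 : act 6 n5837 = n4614 := d25_2 D4372 D5837 (iv D4614) (iv D3329) (iv F9641)
theorem F18278 : act 7 n5837 = n5837 := d26_2 F13515 D5837 (iv D5837)
def n5838 : Q := act 1 n4373
theorem D5838 : act 1 n4373 = n5838 := rfl
theorem F18279 : act 3 n5838 = n4374 := d8_2 (iv F13517) D5838 (iv D4374)
theorem F18280 : act 6 n5838 = n4615 := d11_2 (iv F13518) D5838 (iv D4615)
theorem F18281 : act 7 n5838 = n5838 := d12_2 F13519 D5838 (iv D5838)
def n5839 : Q := act 2 n4374
theorem D5839 : act 2 n4374 = n5839 := rfl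
theorem F18282 : act 4 n5839 = n4380 := d14_2 (iv F13520) D5839 (iv D4380)
theorem F18283 : act 6 n5839 = n4617 := d16_2 (iv F13521) D5839 (iv D4617)
def n5840 : Q := act 6 n4375
theorem D5840 : act 6 n4375 = n5840 := rfl
theorem F18284 : act 0 n5840 = n4378 := d5_1 D5840 (iv D4378) D4375
theorem F18285 : act 1 n5840 = n4397 := d11_1 D5840 (iv D4397) (iv F13522)
theorem F18286 : act 3 n5840 = n5654 := d20_1 D5840 (iv D5654) (iv F13523)
theorem F18287 : act 4 n5840 = n5669 := d23_1 D5840 (iv D5669) F13525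
def n5841 : Q := act 5 n4376
theorem D5841 : act 5 n4376 = n5841 := rfl
theorem F18288 : act 0 n5841 = n5668 := d4_1 D5841 (iv D5668) (iv F13526)
theorem F18289 : act 1 n5841 = n4394 := d10_1 D5841 F13573 F9684 (iv F9653) (iv F13527)
theorem F18290 : act 3 n5841 = n5662 := d19_1 D5841 (iv D5662) (iv F13528)
theorem F18291 : act 4 n5841 = n4377 := d22_1 D5841 (iv D4377) D4376
theorem F18292 : act 7 n5841 = n4383 := d26_2 (iv F13529) D5841 (iv D4383)
def n5842 : Q := act 6 n4376
theorem D5842 : act 6 n4376 = n5842 := rfl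
theorem F18293 : act 0 n5842 = n5669 := d5_1 D5842 (iv D5669) (iv F13526)
theorem F18294 : act 1 n5842 = n4379 := d11_1 D5842 (iv D4379) (iv F13527)
theorem F18295 : act 3 n5842 = n5663 := d20_1 D5842 (iv D5663) (iv F13528)
theorem F18296 : act 4 n5842 = n4378 := d23_1 D5842 (iv D4378) D4376
theorem F18297 : act 7 n5842 = n4643 := d27_2 (iv F13529) D5842 (iv D4643) (iv D3348) F9665
def n5843 : Q := act 6 n4377
theorem D5843 : act 6 n4377 = n5843 := rfl

end Cfsg.Agent.Helper17.U6PTC
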