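import Cfsg.Agent.Helper17.U6PTC.Facts2

set_option autoImplicit false
set_option linter.all false

noncomputable section

namespace Cfsg.Agent.Helper17.U6PTC

theorem F18298 : act 1 n5843 = n4620 := d11_1 D5843 (iv D4620) (iv F13530)
def n5844 : Q := act 5 n4378
theorem D5844 : act 5 n4378 = n5844 := rfl
def n5845 : Q := act 3 n4380
theorem D5845 : act 3 n4380 = n5845 := rfl
theorem F18299 : act 6 n5845 = n4625 := d20_2 (iv F13538) D5845 (iv D4625)
def n5846 : Q := act 6 n4381
theorem D5846 : act 6 n4381 = n5846 := rfl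
theorem F18300 : act 0 n5846 = n4384 := d5_1 D5846 (iv D4384) (iv F13539)
theorem F18301 : act 3 n5846 = n4388 := d20_1 D5846 (iv D4388) (iv F13540)
def n5847 : Q := act 5 n4382
theorem D5847 : act 5 n4382 = n5847 := rfl
theorem F18302 : act 0 n5847 = n4385 := d4_1 D5847 (iv D4385) (iv F13541)
theorem F18303 : act 3 n5847 = n4389 := d19_1 D5847 (iv D4389) (iv F13543)
theorem F18304 : act 4 n5847 = n4630 := d22_1 D5847 (iv D4630) (iv F13544)
def n5848 : Q := act 6 n4383
theorem D5848 : act 6 n4383 = n5848 := rfl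
theorem F18305 : act 1 n5848 = n4392 := d11_1 D5848 F13570 (iv F13545)
theorem F18306 : act 3 n5848 = n4644 := d20_1 D5848 F14355 (iv F13546)
theorem F18307 : act 4 n5848 = n4384 := d23_1 D5848 (iv D4384) (iv F13547)
theorem F18308 : act 5 n5848 = n4641 := d25_1 D5848 (iv D4641) (iv D3347) F9665 D4383
def n5849 : Q := act 5 n4384
theorem D5849 : act 5 n4384 = n5849 := rfl
theorem F18309 : act 1 n5849 = n4644 := d10_1 D5849 (iv D4644) (iv F13565) F13568 (iv F13548)
theorem F18310 : act 3 n5849 = n4392 := d19_1 D5849 (iv D4392) (iv F13549)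
theorem F18311 : act 4 n5849 = n4641 := d22_1 D5849 (iv F18308) F18307
theorem F18312 : act 6 n5849 = n4385 := d25_2 D4384 D5849 (iv D4385) (iv D3138) D3137
def n5850 : Q := act 7 n4384
theorem D5850 : act 7 n4384 = n5850 := rfl
theorem F18313 : act 1 n5850 = n4628 := d12_1 D5850 (iv D4628) (iv F13548)
def n5851 : Q := act 1 n4386
theorem D5851 : act 1 n4386 = n5851 := rfl
theorem F18314 : act 0 n5851 = n4632 := d0_1 D5851 (iv D4632) F10285 (iv F9679) (iv F13553)
theorem F18315 : act 3 n5851 = n4638 := d8_2 (iv F13554) D5851 (iv D4638)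
theorem F18316 : act 4 n5851 = n4387 := d9_2 (iv F13555) D5851 (iv D4387)
theorem F18317 : act 5 n5851 = n4400 := d10_2 D4386 D5851 (iv D4400) (iv D3155) (iv F9672)
def n5852 : Q := act 6 n4386
theorem D5852 : act 6 n4386 = n5852 := rfl
theorem F18318 : act 0 n5852 = n4391 := d5_1 D5852 (iv D4391) (iv F13553)
theorem F18319 : act 3 n5852 = n4636 := d20_1 D5852 F14337 (iv F13554)
theorem F18320 : act 4 n5852 = n4388 := d23_1 D5852 (iv D4388) (iv F13555)
theorem F18321 : act 5 n5852 = n4627 := d25_1 D5852 (iv D4627) (iv D3339) F9674 D4386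
def n5853 : Q := act 6 n4387
theorem D5853 : act 6 n4387 = n5853 := rfl
theorem F18322 : act 0 n5853 = n4635 := d5_1 D5853 (iv D4635) (iv F13556)
theorem F18323 : act 1 n5853 = n4388 := d11_1 D5853 (iv D4388) D4387
def n5854 : Q := act 5 n4388
theorem D5854 : act 5 n4388 = n5854 := rfl
theorem F18324 : act 0 n5854 = n4392 := d4_1 D5854 (iv D4392) (iv F13558)
theorem F18325 : act 4 n5854 = n4627 := d22_1 D5854 (iv F18321) F18320
theorem F18326 : act 6 n5854 = n4389 := d25_2 D4388 D5854 (iv D4389) (iv D3141) D3140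
def n5855 : Q := act 7 n4388
theorem D5855 : act 7 n4388 = n5855 := rfl
theorem F18327 : act 0 n5855 = n4393 := d6_1 D5855 (iv D4393) (iv F13558)
def n5856 : Q := act 1 n4389
theorem D5856 : act 1 n4389 = n5856 := rfl
theorem F18328 : act 2 n5856 = n5717 := d7_2 F16685 D5856 F17907 (iv F17501) F17500
theorem F18329 : act 4 n5856 = n4626 := d9_2 (iv F13560) D5856 (iv D4626)
theorem F18330 : act 5 n5856 = n4406 := d10_2 D4389 D5856 (iv D4406) (iv D3158) (iv F9677)
theorem F18331 : act 7 n4510 = n5856 := d26_0 F18330 F13614 D4510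
def n5857 : Q := act 7 n4389
theorem D5857 : act 7 n4389 = n5857 := rfl
theorem F18332 : act 0 n5857 = n4394 := d6_1 D5857 (iv D4394) (iv F13559)
theorem F18333 : act 1 n5857 = n4510 := d12_1 D5857 F18331 (iv D5856)
theorem F18334 : act 2 n5857 = n5577 := d17_1 D5857 (iv F17493) F16685
theorem F18335 : act 4 n5857 = n4618 := d24_1 D5857 F14303 (iv F13560)
theorem F18336 : act 5 n5857 = n4390 := d26_1 D5857 (iv D4390) D4389
theorem F18337 : act 3 n4520 = n5857 := d19_3 F18336 (iv F13564) (iv F13990)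
def n5858 : Q := act 7 n4391
theorem D5858 : act 7 n4391 = n5858 := rfl
theorem F18338 : act 1 n5858 = n4645 := d12_1 D5858 (iv D4645) (iv F13565)
theorem F18339 : act 4 n5858 = n4393 := d24_1 D5858 (iv D4393) (iv F13567)
theorem F18340 : act 5 n5858 = n4628 := d26_1 D5858 (iv D4628) (iv F13568)
def n5859 : Q := act 7 n4392
theorem D5859 : act 7 n4392 = n5859 := rfl
theorem F18341 : act 4 n5859 = n4628 := d24_1 D5859 (iv D4628) (iv F13569)
theorem F18342 : act 5 n5859 = n4393 := d26_1 D5859 (iv D4393) D4392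
def n5860 : Q := act 3 n4393
theorem D5860 : act 3 n4393 = n5860 := rfl
theorem F18343 : act 1 n5860 = n4647 := d8_1 D5860 (iv D4647) (iv F13571)
def n5861 : Q := act 3 n4394
theorem D5861 : act 3 n4394 = n5861 := rfl
theorem F18344 : act 0 n5861 = n4520 := d2_1 D5861 F18337 F18332
theorem F18345 : act 1 n5861 = n5662 := d8_1 D5861 (iv F18290) F18289
theorem F18346 : act 5 n5861 = n4395 := d19_2 (iv F13573) D5861 (iv D4395)
theorem F18347 : act 7 n5861 = n5851 := d21_2 D4394 D5861 F18315 F14341 F13551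
theorem F18348 : act 4 n5664 = n5861 := d24_3 F18347 F18316 (iv F17766)
def n5862 : Q := act 6 n4394
theorem D5862 : act 6 n4394 = n5862 := rfl
theorem F18349 : act 4 n5862 = n4620 := d23_1 D5862 (iv D4620) (iv F13572)
def n5863 : Q := act 2 n4395
theorem D5863 : act 2 n4395 = n5863 := rfl
theorem F18350 : act 0 n5863 = n4522 := d1_1 D5863 (iv D4522) (iv F13574)
theorem F18351 : act 1 n5863 = n5688 := d7_1 D5863 (iv D5688) (iv D4222) (iv F9687) (iv F13575)
theorem F18352 : act 4 n5863 = n5686 := d14_2 F13576 D5863 (iv D5686)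
def n5864 : Q := act 6 n4398
theorem D5864 : act 6 n4398 = n5864 := rfl
theorem F18353 : act 0 n5864 = n4665 := d5_1 D5864 (iv D4665) (iv F13586)
theorem F18354 : act 1 n5864 = n4399 := d11_1 D5864 (iv D4399) D4398
theorem F18355 : act 3 n5864 = n4403 := d20_1 D5864 (iv D4403) (iv F13587)
def n5865 : Q := act 2 n4400
theorem D5865 : act 2 n4400 = n5865 := rfl
theorem F18356 : act 0 n5865 = n4669 := d1_1 D5865 (iv D4669) (iv F13591)
theorem F18357 : act 1 n5865 = n4408 := d7_1 D5865 (iv D4408) (iv D3163) (iv F9722) D4400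
theorem F18358 : act 4 n5865 = n4402 := d14_2 (iv F13593) D5865 (iv D4402)
theorem F18359 : act 7 n5865 = n5863 := d17_2 (iv F13594) D5865 (iv D5863)
def n5866 : Q := act 6 n4400
theorem D5866 : act 6 n4400 = n5866 := rfl
theorem F18360 : act 0 n5866 = n4670 := d5_1 D5866 (iv D4670) (iv F13591)
theorem F18361 : act 1 n5866 = n4401 := d11_1 D5866 (iv D4401) D4400
theorem F18362 : act 3 n5866 = n4676 := d20_1 D5866 F14453 (iv F13592)
theorem F18363 : act 4 n5866 = n4403 := d23_1 D5866 (iv D4403) (iv F13593)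
def n5867 : Q := act 7 n4401
theorem D5867 : act 7 n4401 = n5867 := rfl
theorem F18364 : act 0 n5867 = n4407 := d6_1 D5867 (iv D4407) (iv F13595)
theorem F18365 : act 2 n5867 = n4410 := d17_1 D5867 (iv D4410) (iv F13596)
theorem F18366 : act 3 n5867 = n5645 := d21_1 D5867 (iv D5645) F12935 F10383 (iv F13597)
theorem F18367 : act 4 n5867 = n4405 := d24_1 D5867 (iv D4405) (iv F13598)
theorem F18368 : act 5 n5867 = n4502 := d26_1 D5867 F13928 (iv F13599)
theorem F18369 : act 6 n5867 = n5660 := d27_1 D5867 F17751 F13001 (iv F9725) D4401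
def n5868 : Q := act 6 n4402
theorem D5868 : act 6 n4402 = n5868 := rfl
theorem F18370 : act 0 n5868 = n4673 := d5_1 D5868 (iv D4673) (iv F13600)
theorem F18371 : act 1 n5868 = n4412 := d11_1 D5868 (iv D4412) (iv F13601)
theorem F18372 : act 2 n5868 = n4403 := d16_1 D5868 (iv D4403) D4402
def n5869 : Q := act 5 n4403
theorem D5869 : act 5 n4403 = n5869 := rfl
theorem F18373 : act 0 n5869 = n4674 := d4_1 D5869 (iv D4674) (iv F13602)
def n5870 : Q := act 7 n4403
theorem D5870 : act 7 n4403 = n5870 := rfl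
theorem F18374 : act 0 n5870 = n4675 := d6_1 D5870 (iv D4675) (iv F13602)
theorem F18375 : act 1 n5870 = n4405 := d12_1 D5870 (iv D4405) (iv F13603)
theorem F18376 : act 3 n4622 = n5870 := d8_0 F18375 (iv F13612) D4622
def n5871 : Q := act 1 n4404
theorem D5871 : act 1 n4404 = n5871 := rfl
theorem F18377 : act 4 n5871 = n4665 := d9_2 (iv F13606) D5871 F14417
theorem F18378 : act 6 n5871 = n4406 := d11_2 (iv F13607) D5871 (iv D4406)
theorem F18379 : act 7 n5871 = n4501 := d12_2 F13608 D5871 F13922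
def n5872 : Q := act 2 n4406
theorem D5872 : act 2 n4406 = n5872 := rfl
theorem F18380 : act 1 n5872 = n4416 := d7_1 D5872 (iv D4416) (iv D3169) (iv F9730) D4406
theorem F18381 : act 4 n5872 = n4664 := d14_2 (iv F13613) D5872 (iv D4664)
theorem F18382 : act 5 n5872 = n5717 := d15_2 F18330 D5872 (iv F18328)
theorem F18383 : act 7 n5872 = n4491 := d17_2 (iv F13614) D5872 F13889
def n5873 : Q := act 3 n4408
theorem D5873 : act 3 n4408 = n5873 := rfl
theorem F18384 : act 0 n5873 = n4423 := d2_1 D5873 (iv D4423) (iv F13621)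
theorem F18385 : act 2 n5873 = n4824 := d13_1 D5873 (iv D4824) (iv D3496) (iv F9752) D4408
def n5874 : Q := act 6 n4408
theorem D5874 : act 6 n4408 = n5874 := rfl
theorem F18386 : act 0 n5874 = n4424 := d5_1 D5874 (iv D4424) (iv F13621)
theorem F18387 : act 2 n5874 = n4409 := d16_1 D5874 (iv D4409) D4408
theorem F18388 : act 4 n5874 = n4412 := d23_1 D5874 (iv D4412) (iv F13622)
def n5875 : Q := act 5 n4409
theorem D5875 : act 5 n4409 = n5875 := rfl
theorem F18389 : act 0 n5875 = n4425 := d4_1 D5875 (iv D4425) (iv F13623)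
theorem F18390 : act 1 n5875 = n4812 := d10_1 D5875 (iv D4812) F10727 (iv F9757) (iv F13624)
theorem F18391 : act 3 n5875 = n4817 := d19_1 D5875 F14900 (iv F13625)
theorem F18392 : act 4 n5875 = n4413 := d22_1 D5875 (iv D4413) (iv F13626)
def n5876 : Q := act 7 n4409
theorem D5876 : act 7 n4409 = n5876 := rfl
theorem F18393 : act 0 n5876 = n4426 := d6_1 D5876 (iv D4426) (iv F13623)
theorem F18394 : act 1 n5876 = n4410 := d12_1 D5876 (iv D4410) (iv F13624)
theorem F18395 : act 4 n5876 = n4414 := d24_1 D5876 (iv D4414) (iv F13626)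
def n5877 : Q := act 3 n4410
theorem D5877 : act 3 n4410 = n5877 := rfl
theorem F18396 : act 0 n5877 = n4417 := d2_1 D5877 (iv D4417) (iv F13627)
theorem F18397 : act 2 n5877 = n5480 := d13_1 D5877 F17163 (iv F17695) (iv F18366) F18365
theorem F18398 : act 4 n5877 = n4495 := d18_2 (iv F13628) D5877 F13907 F9959 F9769
theorem F18399 : act 5 n5877 = n4494 := d19_2 (iv F13629) D5877 F13903
theorem F18400 : act 6 n5877 = n5470 := d20_2 F17701 D5877 (iv F17699)
theorem F18401 : act 7 n5877 = n4822 := d21_2 D4410 D5877 (iv D4822) (iv D3494) (iv F9755)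
def n5878 : Q := act 4 n4411
theorem D5878 : act 4 n4411 = n5878 := rfl
theorem F18402 : act 0 n5878 = n4428 := d3_1 D5878 (iv D4428) (iv F13630)
theorem F18403 : act 2 n5878 = n5878 := d14_1 D5878 (iv D5878) F13631
def n5879 : Q := act 6 n4411
theorem D5879 : act 6 n4411 = n5879 := rfl
theorem F18404 : act 0 n5879 = n4429 := d5_1 D5879 (iv D4429) (iv F13630)
theorem F18405 : act 2 n5879 = n5879 := d16_1 D5879 (iv D5879) F13631
theorem F18406 : act 3 n5879 = n4412 := d20_1 D5879 (iv D4412) D4411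
def n5880 : Q := act 5 n4412
theorem D5880 : act 5 n4412 = n5880 := rfl
theorem F18407 : act 0 n5880 = n4431 := d4_1 D5880 (iv D4431) (iv F13632)
theorem F18408 : act 2 n5880 = n4413 := d15_1 D5880 (iv D4413) (iv F13633)
def n5881 : Q := act 7 n4412
theorem D5881 : act 7 n4412 = n5881 := rfl
theorem F18409 : act 0 n5881 = n4432 := d6_1 D5881 (iv D4432) (iv F13632)
theorem F18410 : act 2 n5881 = n4414 := d17_1 D5881 (iv D4414) (iv F13633)
def n5882 : Q := act 1 n4413
theorem D5882 : act 1 n4413 = n5882 := rfl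
theorem F18411 : act 0 n5882 = n5882 := d0_1 D5882 (iv D5882) F13634 F9807 (iv F13634)
theorem F18412 : act 3 n5882 = n5882 := d8_2 F13635 D5882 (iv D5882)
theorem F18413 : act 4 n5882 = n4812 := d9_2 F18392 D5882 (iv F18390)
theorem F18414 : act 5 n5882 = n4415 := d10_2 D4413 D5882 (iv D4415) (iv D3167) (iv F9760)
theorem F18415 : act 7 n4477 = n5882 := d26_0 F18414 F13643 D4477
def n5883 : Q := act 7 n4413
theorem D5883 : act 7 n4413 = n5883 := rfl
theorem F18416 : act 0 n5883 = n4433 := d6_1 D5883 (iv D4433) (iv F13634)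
theorem F18417 : act 1 n5883 = n4477 := d12_1 D5883 F18415 (iv D5882)
theorem F18418 : act 5 n5883 = n4414 := d26_1 D5883 (iv D4414) D4413
theorem F18419 : act 3 n4478 = n5883 := d19_3 F18418 (iv F13638) (iv F13843)
def n5884 : Q := act 2 n4415
theorem D5884 : act 2 n4415 = n5884 := rfl
theorem F18420 : act 0 n5884 = n5884 := d1_1 D5884 (iv D5884) F13639
theorem F18421 : act 4 n5884 = n4811 := d14_2 (iv F13641) D5884 F14877
theorem F18422 : act 6 n5884 = n4416 := d16_2 (iv F13642) D5884 (iv D4416)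
theorem F18423 : act 7 n5884 = n4475 := d17_2 (iv F13643) D5884 F13836
def n5885 : Q := act 3 n4416
theorem D5885 : act 3 n4416 = n5885 := rfl
theorem F18424 : act 0 n5885 = n5885 := d2_1 D5885 (iv D5885) F13644
theorem F18425 : act 2 n5885 = n5885 := d13_1 D5885 (iv D5885) (iv D4416) F9771 D4416
theorem F18426 : act 7 n5885 = n5885 := d21_2 (iv F13646) D5885 (iv D5885) F13646 F9931
def n5886 : Q := act 3 n4418
theorem D5886 : act 3 n4418 = n5886 := rfl
theorem F18427 : act 0 n5886 = n4824 := d2_1 D5886 (iv D4824) (iv F13653)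
theorem F18428 : act 1 n5886 = n5886 := d8_1 D5886 (iv D5886) F13654
theorem F18429 : act 2 n5886 = n4423 := d13_1 D5886 (iv D4423) (iv D3175) (iv F9778) D4418
def n5887 : Q := act 6 n4418
theorem D5887 : act 6 n4418 = n5887 := rfl
theorem F18430 : act 0 n5887 = n4820 := d5_1 D5887 F14909 (iv F13653)
theorem F18431 : act 1 n5887 = n5887 := d11_1 D5887 (iv D5887) F13654
theorem F18432 : act 2 n5887 = n4419 := d16_1 D5887 (iv D4419) D4418
theorem F18433 : act 4 n5887 = n5887 := d23_1 D5887 (iv D5887) F13655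
def n5888 : Q := act 7 n4418
theorem D5888 : act 7 n4418 = n5888 := rfl
theorem F18434 : act 0 n5888 = n4825 := d6_1 D5888 (iv D4825) (iv F13653)
theorem F18435 : act 1 n5888 = n5888 := d12_1 D5888 (iv D5888) F13654
theorem F18436 : act 2 n5888 = n4420 := d17_1 D5888 (iv D4420) D4418
theorem F18437 : act 4 n5888 = n5888 := d24_1 D5888 (iv D5888) F13655
theorem F18438 : act 6 n5337 = n5888 := d16_0 F18436 (iv F13664) (iv F16649)
theorem F18439 : act 7 n5887 = n5344 := d27_4 (iv F16651) F18438 (iv D5888) D5887 (iv D5344)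
def n5889 : Q := act 5 n4419
theorem D5889 : act 5 n4419 = n5889 := rfl
theorem F18440 : act 0 n5889 = n4817 := d4_1 D5889 F14900 (iv F13656)
theorem F18441 : act 1 n5889 = n5889 := d10_1 D5889 (iv D5889) F13657 F9784 (iv F13657)
theorem F18442 : act 3 n5889 = n4425 := d19_1 D5889 (iv D4425) (iv F13658)
theorem F18443 : act 4 n5889 = n5889 := d22_1 D5889 (iv D5889) F13659
def n5890 : Q := act 7 n4419
theorem D5890 : act 7 n4419 = n5890 := rfl
theorem F18444 : act 0 n5890 = n4821 := d6_1 D5890 (iv D4821) (iv F13656)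
theorem F18445 : act 1 n5890 = n4421 := d12_1 D5890 (iv D4421) (iv F13657)
theorem F18446 : act 2 n5890 = n5344 := d17_1 D5890 (iv F18439) F18432
theorem F18447 : act 4 n5890 = n5890 := d24_1 D5890 (iv D5890) F13659
theorem F18448 : act 6 n5890 = n5332 := d27_1 D5890 F16629 F13664 (iv D4420) D4419
theorem F18449 : act 3 n5834 = n5890 := d20_3 F18448 F16627 D5834
def n5891 : Q := act 3 n4421
theorem D5891 : act 3 n4421 = n5891 := rfl
theorem F18450 : act 0 n5891 = n4437 := d2_1 D5891 (iv D4437) (iv F13665)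
theorem F18451 : act 1 n5891 = n5834 := d8_1 D5891 F18449 F18445
theorem F18452 : act 5 n5891 = n5891 := d19_2 F13668 D5891 (iv D5891)
theorem F18453 : act 6 n5891 = n5538 := d20_2 (iv F13669) D5891 F17339
theorem F18454 : act 7 n5891 = n4427 := d21_2 D4421 D5891 (iv D4427) (iv D3177) (iv F9782)
def n5892 : Q := act 1 n4422
theorem D5892 : act 1 n4422 = n5892 := rfl
theorem F18455 : act 0 n5892 = n5892 := d0_1 D5892 (iv D5892) F13670 F9818 (iv F13670)
theorem F18456 : act 3 n5892 = n5761 := d8_2 (iv F13672) D5892 F18050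
theorem F18457 : act 4 n5892 = n5892 := d9_2 F13673 D5892 (iv D5892)
theorem F18458 : act 6 n5892 = n5322 := d11_2 (iv F13674) D5892 (iv F16606)
theorem F18459 : act 7 n5892 = n5892 := d12_2 F13675 D5892 (iv D5892)
theorem F18460 : act 2 n5323 = n5892 := d16_3 F18458 (iv D5322) D5323
def n5893 : Q := act 4 n4423
theorem D5893 : act 4 n4423 = n5893 := rfl
theorem F18461 : act 1 n5893 = n4692 := d9_1 D5893 (iv D4692) (iv F13676)
theorem F18462 : act 3 n5893 = n4428 := d18_1 D5893 (iv D4428) (iv D3178) (iv F9796) D4423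
def n5894 : Q := act 6 n4423
theorem D5894 : act 6 n4423 = n5894 := rfl
theorem F18463 : act 1 n5894 = n4693 := d11_1 D5894 (iv D4693) (iv F13676)
theorem F18464 : act 3 n5894 = n4424 := d20_1 D5894 (iv D4424) D4423
def n5895 : Q := act 7 n4423
theorem D5895 : act 7 n4423 = n5895 := rfl
theorem F18465 : act 1 n5895 = n4694 := d12_1 D5895 (iv D4694) (iv F13676)
def n5896 : Q := act 5 n4424
theorem D5896 : act 5 n4424 = n5896 := rfl
theorem F18466 : act 2 n5896 = n4425 := d15_1 D5896 (iv D4425) (iv F13678)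
theorem F18467 : act 4 n5896 = n4431 := d22_1 D5896 (iv D4431) (iv F13679)
def n5897 : Q := act 7 n4424
theorem D5897 : act 7 n4424 = n5897 := rfl
theorem F18468 : act 1 n5897 = n4696 := d12_1 D5897 (iv D4696) (iv F13677)
theorem F18469 : act 2 n5897 = n4426 := d17_1 D5897 (iv D4426) (iv F13678)
theorem F18470 : act 4 n5897 = n4432 := d24_1 D5897 (iv D4432) (iv F13679)
def n5898 : Q := act 7 n4425
theorem D5898 : act 7 n4425 = n5898 := rfl
theorem F18471 : act 1 n5898 = n5898 := d12_1 D5898 (iv D5898) F13680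
theorem F18472 : act 4 n5898 = n4433 := d24_1 D5898 (iv D4433) (iv F13681)
theorem F18473 : act 5 n5898 = n4426 := d26_1 D5898 (iv D4426) D4425
def n5899 : Q := act 3 n4426
theorem D5899 : act 3 n4426 = n5899 := rfl
theorem F18474 : act 1 n5899 = n4427 := d8_1 D5899 (iv D4427) (iv F13682)
theorem F18475 : act 7 n5899 = n5834 := d21_2 D4426 D5899 F18449 (iv D5890) F13658
theorem F18476 : act 2 n5850 = n5899 := d17_3 F18475 F18264 D5850
def n5900 : Q := act 2 n4427
theorem D5900 : act 2 n4427 = n5900 := rfl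
theorem F18477 : act 0 n5900 = n4438 := d1_1 D5900 (iv D4438) (iv F13684)
theorem F18478 : act 3 n5900 = n4699 := d13_2 D4427 D5900 (iv D4699) (iv D3396) (iv F9800)
theorem F18479 : act 5 n5900 = n5900 := d15_2 F13685 D5900 (iv D5900)
def n5901 : Q := act 4 n4427
theorem D5901 : act 4 n4427 = n5901 := rfl
theorem F18480 : act 0 n5901 = n4439 := d3_1 D5901 (iv D4439) (iv F13684)
theorem F18481 : act 3 n5901 = n4436 := d18_1 D5901 (iv D4436) (iv D3182) (iv F9801) D4427
theorem F18482 : act 5 n5901 = n5901 := d22_2 F13685 D5901 (iv D5901)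
def n5902 : Q := act 6 n4428
theorem D5902 : act 6 n4428 = n5902 := rfl
theorem F18483 : act 1 n5902 = n4701 := d11_1 D5902 (iv D4701) (iv F13686)
theorem F18484 : act 2 n5902 = n5902 := d16_1 D5902 (iv D5902) F13687
theorem F18485 : act 4 n5902 = n4429 := d23_1 D5902 (iv D4429) D4428
def n5903 : Q := act 7 n4428
theorem D5903 : act 7 n4428 = n5903 := rfl
theorem F18486 : act 1 n5903 = n4702 := d12_1 D5903 (iv D4702) (iv F13686)
theorem F18487 : act 2 n5903 = n5903 := d17_1 D5903 (iv D5903) F13687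
theorem F18488 : act 4 n5903 = n4430 := d24_1 D5903 (iv D4430) D4428
def n5904 : Q := act 5 n4429
theorem D5904 : act 5 n4429 = n5904 := rfl
theorem F18489 : act 2 n5904 = n5904 := d15_1 D5904 (iv D5904) F13689
theorem F18490 : act 3 n5904 = n4431 := d19_1 D5904 (iv D4431) (iv F13690)
def n5905 : Q := act 7 n4429
theorem D5905 : act 7 n4429 = n5905 := rfl
theorem F18491 : act 1 n5905 = n4704 := d12_1 D5905 (iv D4704) (iv F13688)
theorem F18492 : act 2 n5905 = n5905 := d17_1 D5905 (iv D5905) F13689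
def n5906 : Q := act 6 n4430
theorem D5906 : act 6 n4430 = n5906 := rfl
theorem F18493 : act 1 n5906 = n4705 := d11_1 D5906 (iv D4705) (iv F13691)
theorem F18494 : act 2 n5906 = n5906 := d16_1 D5906 (iv D5906) F13692
def n5907 : Q := act 1 n4431
theorem D5907 : act 1 n4431 = n5907 := rfl
theorem F18495 : act 2 n5907 = n5907 := d7_2 (iv F13693) D5907 (iv D5907) F13693 F9807
theorem F18496 : act 5 n5907 = n4706 := d10_2 D4431 D5907 (iv D4706) (iv D3400) (iv F9805)
def n5908 : Q := act 7 n4431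
theorem D5908 : act 7 n4431 = n5908 := rfl
theorem F18497 : act 2 n5908 = n4433 := d17_1 D5908 (iv D4433) (iv F13693)
theorem F18498 : act 5 n5908 = n4432 := d26_1 D5908 (iv D4432) D4431
def n5909 : Q := act 3 n4432
theorem D5909 : act 3 n4432 = n5909 := rfl
theorem F18499 : act 1 n5909 = n4708 := d8_1 D5909 (iv D4708) (iv F13694)
def n5910 : Q := act 3 n4433
theorem D5910 : act 3 n4433 = n5910 := rfl
theorem F18500 : act 0 n5910 = n4478 := d2_1 D5910 F18419 F18416
theorem F18501 : act 1 n5910 = n5910 := d8_1 D5910 (iv D5910) F13696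
theorem F18502 : act 5 n5910 = n4434 := d19_2 (iv F13697) D5910 (iv D4434)
theorem F18503 : act 7 n5910 = n5910 := d21_2 D4433 D5910 (iv D5910) (iv D4433) F9808
def n5911 : Q := act 6 n4433
theorem D5911 : act 6 n4433 = n5911 := rfl
theorem F18504 : act 1 n5911 = n5911 := d11_1 D5911 (iv D5911) F13696
def n5912 : Q := act 2 n4434
theorem D5912 : act 2 n4434 = n5912 := rfl
theorem F18505 : act 0 n5912 = n4503 := d1_1 D5912 (iv D4503) (iv F13698)
theorem F18506 : act 7 n5912 = n5912 := d17_2 F13700 D5912 (iv D5912)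
def n5913 : Q := act 4 n4434
theorem D5913 : act 4 n4434 = n5913 := rfl
theorem F18507 : act 0 n5913 = n4497 := d3_1 D5913 F13912 (iv F13698)
theorem F18508 : act 1 n5913 = n4436 := d9_1 D5913 (iv D4436) (iv F13699)
theorem F18509 : act 7 n5913 = n5913 := d24_2 F13700 D5913 (iv D5913)
def n5914 : Q := act 1 n4435
theorem D5914 : act 1 n4435 = n5914 := rfl
theorem F18510 : act 0 n5914 = n4661 := d0_1 D5914 (iv D4661) F10350 (iv F9825) (iv F13701)
theorem F18511 : act 3 n5914 = n4713 := d8_2 (iv F13702) D5914 (iv D4713)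
theorem F18512 : act 7 n5914 = n5914 := d12_2 F13704 D5914 (iv D5914)
def n5915 : Q := act 4 n4435
theorem D5915 : act 4 n4435 = n5915 := rfl
theorem F18513 : act 0 n5915 = n4440 := d3_1 D5915 (iv D4440) (iv F13701)
theorem F18514 : act 2 n5915 = n4436 := d14_1 D5915 (iv D4436) D4435
theorem F18515 : act 5 n5915 = n5915 := d22_2 F13703 D5915 (iv D5915)
theorem F18516 : act 7 n5915 = n5915 := d24_2 F13704 D5915 (iv D5915)
def n5916 : Q := act 4 n4437
theorem D5916 : act 4 n4437 = n5916 := rfl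
theorem F18517 : act 1 n5916 = n4529 := d9_1 D5916 F14020 (iv F13708)
theorem F18518 : act 2 n5916 = n4906 := d14_1 D5916 (iv F17898) F17896
theorem F18519 : act 3 n5916 = n5916 := d18_1 D5916 (iv D5916) (iv D4437) F9815 D4437
theorem F18520 : act 5 n5916 = n5916 := d22_2 F13709 D5916 (iv D5916)
theorem F18521 : act 6 n5916 = n4905 := d23_2 (iv F13710) D5916 F15169
theorem F18522 : act 7 n5916 = n4439 := d24_2 (iv F13711) D5916 (iv D4439)
def n5917 : Q := act 4 n4438
theorem D5917 : act 4 n4438 = n5917 := rfl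
theorem F18523 : act 2 n5917 = n4439 := d14_1 D5917 (iv D4439) D4438
theorem F18524 : act 5 n5917 = n5917 := d22_2 F13713 D5917 (iv D5917)
theorem F18525 : act 7 n5917 = n4906 := d24_2 F17900 D5917 (iv F17898)
def n5918 : Q := act 3 n4440
theorem D5918 : act 3 n4440 = n5918 := rfl
theorem F18526 : act 1 n5918 = n4659 := d8_1 D5918 (iv D4659) (iv F13717)
theorem F18527 : act 4 n5918 = n4717 := d18_2 D4440 D5918 (iv D4717) (iv D3408) (iv F9826)
theorem F18528 : act 5 n5918 = n5918 := d19_2 F13719 D5918 (iv D5918)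
def n5919 : Q := act 6 n4441
theorem D5919 : act 6 n4441 = n5919 := rfl
theorem F18529 : act 0 n5919 = n5919 := d5_1 D5919 (iv D5919) F13721
theorem F18530 : act 1 n5919 = n4576 := d11_1 D5919 (iv D4576) (iv F13722)
theorem F18531 : act 2 n5919 = n5919 := d16_1 D5919 (iv D5919) F13723
theorem F18532 : act 3 n5919 = n5919 := d20_1 D5919 (iv D5919) F13724
theorem F18533 : act 4 n5919 = n4442 := d23_1 D5919 (iv D4442) D4441
def n5920 : Q := act 5 n4442
theorem D5920 : act 5 n4442 = n5920 := rfl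
theorem F18534 : act 0 n5920 = n5920 := d4_1 D5920 (iv D5920) F13727
theorem F18535 : act 2 n5920 = n5920 := d15_1 D5920 (iv D5920) F13728
theorem F18536 : act 3 n5920 = n4443 := d19_1 D5920 (iv D4443) (iv F13729)
theorem F18537 : act 6 n5920 = n5920 := d25_2 D4442 D5920 (iv D5920) (iv D4442) F9834
theorem F18538 : act 7 n5920 = n5919 := d31_1 D5920 F18533 F13728 (iv D4442) (iv D3188) F6834 (iv D2206) F4731 (iv D1501) F3247 (iv D1009) F2247 F2249 (iv D680) F1490 F1493 F1491 F1492 F1494 D680 F2246 F2248 D1009 F3246 D1502 F4737 (iv F6832) D3189 (iv F13729)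
def n5921 : Q := act 7 n4442
theorem D5921 : act 7 n4442 = n5921 := rfl
theorem F18539 : act 0 n5921 = n5921 := d6_1 D5921 (iv D5921) F13727
theorem F18540 : act 1 n5921 = n4904 := d12_1 D5921 F18169 F18165
theorem F18541 : act 2 n5921 = n5921 := d17_1 D5921 (iv D5921) F13728
theorem F18542 : act 3 n5921 = n5921 := d21_1 D5921 (iv D5921) F13729 F9839 (iv F13729)
theorem F18543 : act 4 n5921 = n5920 := d24_1 D5921 F18538 F18533
theorem F18544 : act 5 n5921 = n5919 := d26_1 D5921 (iv F18538) (iv D5920)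
theorem F18545 : act 6 n5921 = n5921 := d27_1 D5921 (iv D5921) (iv D4442) F9835 D4442
def n5922 : Q := act 1 n4443
theorem D5922 : act 1 n4443 = n5922 := rfl
theorem F18546 : act 2 n5922 = n5922 := d7_2 (iv F13731) D5922 (iv D5922) F13731 F9841
theorem F18547 : act 4 n5922 = n5922 := d9_2 F13732 D5922 (iv D5922)
theorem F18548 : act 6 n5922 = n5922 := d11_2 F13733 D5922 (iv D5922)
theorem F18549 : act 7 n5922 = n5922 := d12_2 F13734 D5922 (iv D5922)
def n5923 : Q := act 6 n4445
theorem D5923 : act 6 n4445 = n5923 := rfl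
theorem F18550 : act 1 n5923 = n4721 := d11_1 D5923 (iv D4721) (iv F13737)
theorem F18551 : act 3 n5923 = n5923 := d20_1 D5923 (iv D5923) F13738
theorem F18552 : act 5 n5923 = n5923 := d25_1 D5923 (iv D5923) (iv D4445) F9849 D4445
def n5924 : Q := act 7 n4446
theorem D5924 : act 7 n4446 = n5924 := rfl
theorem F18553 : act 0 n5924 = n5924 := d6_1 D5924 (iv D5924) F13739
theorem F18554 : act 2 n5924 = n4460 := d17_1 D5924 (iv D4460) (iv F13740)
theorem F18555 : act 3 n5924 = n4569 := d21_1 D5924 (iv D4569) F10177 D3298 (iv F13741)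
theorem F18556 : act 4 n5924 = n4453 := d24_1 D5924 (iv D4453) (iv F13742)
theorem F18557 : act 5 n5924 = n5924 := d26_1 D5924 (iv D5924) F13743
def n5925 : Q := act 6 n4447
theorem D5925 : act 6 n4447 = n5925 := rfl
theorem F18558 : act 0 n5925 = n5925 := d5_1 D5925 (iv D5925) F13744
theorem F18559 : act 2 n5925 = n4462 := d16_1 D5925 (iv D4462) (iv F13745)
theorem F18560 : act 4 n5925 = n4455 := d23_1 D5925 (iv D4455) (iv F13746)
def n5926 : Q := act 6 n4448
theorem D5926 : act 6 n4448 = n5926 := rfl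
theorem F18561 : act 0 n5926 = n5926 := d5_1 D5926 (iv D5926) F13748
theorem F18562 : act 1 n5926 = n4581 := d11_1 D5926 (iv D4581) (iv F13749)
theorem F18563 : act 3 n5926 = n4449 := d20_1 D5926 (iv D4449) D4448
def n5927 : Q := act 5 n4449
theorem D5927 : act 5 n4449 = n5927 := rfl
theorem F18564 : act 0 n5927 = n5927 := d4_1 D5927 (iv D5927) F13750
theorem F18565 : act 2 n5927 = n4466 := d15_1 D5927 (iv D4466) (iv F13752)
theorem F18566 : act 4 n5927 = n4459 := d22_1 D5927 (iv D4459) (iv F13753)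
theorem F18567 : act 7 n5927 = n5927 := d26_2 F13754 D5927 (iv D5927)
def n5928 : Q := act 6 n4450
theorem D5928 : act 6 n4450 = n5928 := rfl
theorem F18568 : act 0 n5928 = n4451 := d5_1 D5928 (iv D4451) D4450
theorem F18569 : act 1 n5928 = n5928 := d11_1 D5928 (iv D5928) F13755
theorem F18570 : act 3 n5928 = n5928 := d20_1 D5928 (iv D5928) F13756
theorem F18571 : act 4 n5928 = n5202 := d23_1 D5928 (iv D5202) (iv F13757)
theorem F18572 : act 5 n5928 = n5624 := d25_1 D5928 F17622 (iv D4919) F11002 (iv F13758)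
def n5929 : Q := act 7 n4450
theorem D5929 : act 7 n4450 = n5929 := rfl
theorem F18573 : act 0 n5929 = n4452 := d6_1 D5929 (iv D4452) D4450
theorem F18574 : act 1 n5929 = n5929 := d12_1 D5929 (iv D5929) F13755
theorem F18575 : act 4 n5929 = n5203 := d24_1 D5929 (iv D5203) (iv F13757)
theorem F18576 : act 5 n5929 = n4583 := d26_1 D5929 (iv D4583) (iv F13758)
theorem F18577 : act 3 n5183 = n5929 := d19_3 F18576 (iv F14208) (iv F16093)
def n5930 : Q := act 7 n4451
theorem D5930 : act 7 n4451 = n5930 := rfl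
theorem F18578 : act 1 n5930 = n4453 := d12_1 D5930 (iv D4453) (iv F13759)
def n5931 : Q := act 3 n4452
theorem D5931 : act 3 n4452 = n5931 := rfl
theorem F18579 : act 0 n5931 = n5183 := d2_1 D5931 F18577 F18573
theorem F18580 : act 1 n5931 = n4454 := d8_1 D5931 (iv D4454) (iv F13761)
theorem F18581 : act 5 n5931 = n4584 := d19_2 (iv F13762) D5931 (iv D4584)
theorem F18582 : act 7 n5931 = n5931 := d21_2 D4452 D5931 (iv D5931) (iv D4452) F9857
theorem F18583 : act 2 n5182 = n5931 := d15_3 F18581 (iv F14212) (iv F16090)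
def n5932 : Q := act 6 n4452
theorem D5932 : act 6 n4452 = n5932 := rfl
theorem F18584 : act 1 n5932 = n4455 := d11_1 D5932 (iv D4455) (iv F13761)
def n5933 : Q := act 3 n4453
theorem D5933 : act 3 n4453 = n5933 := rfl
theorem F18585 : act 0 n5933 = n5933 := d2_1 D5933 (iv D5933) F13763
theorem F18586 : act 5 n5933 = n5933 := d19_2 F13765 D5933 (iv D5933)
theorem F18587 : act 7 n5933 = n5933 := d21_2 D4453 D5933 (iv D5933) (iv D4453) F9861
def n5934 : Q := act 6 n4453
theorem D5934 : act 6 n4453 = n5934 := rfl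
theorem F18588 : act 0 n5934 = n5934 := d5_1 D5934 (iv D5934) F13763
theorem F18589 : act 2 n5934 = n4468 := d16_1 D5934 (iv D4468) (iv F13764)
theorem F18590 : act 7 n5934 = n4455 := d27_2 D4453 D5934 (iv D4455) (iv D3197) D3196
def n5935 : Q := act 6 n4454
theorem D5935 : act 6 n4454 = n5935 := rfl
theorem F18591 : act 0 n5935 = n5935 := d5_1 D5935 (iv D5935) F13766
theorem F18592 : act 3 n5935 = n4455 := d20_1 D5935 (iv D4455) D4454
def n5936 : Q := act 5 n4455
theorem D5936 : act 5 n4455 = n5936 := rfl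
theorem F18593 : act 0 n5936 = n5936 := d4_1 D5936 (iv D5936) F13769
theorem F18594 : act 2 n5936 = n4472 := d15_1 D5936 (iv D4472) (iv F13770)
theorem F18595 : act 6 n5936 = n4459 := d25_2 D4455 D5936 (iv D4459) (iv D3199) (iv F9865)
def n5937 : Q := act 1 n4456
theorem D5937 : act 1 n4456 = n5937 := rfl
theorem F18596 : act 2 n5937 = n4588 := d7_2 D4456 D5937 (iv D4588) (iv D3311) (iv F9867)
theorem F18597 : act 3 n5937 = n4473 := d8_2 (iv F13772) D5937 (iv D4473)
theorem F18598 : act 4 n5937 = n5931 := d9_2 (iv F13825) D5937 F18580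
theorem F18599 : act 5 n5937 = n5192 := d10_2 F13831 D5937 (iv D5192) F11781 (iv F13775)
theorem F18600 : act 7 n5937 = n5937 := d12_2 F13773 D5937 (iv D5937)
theorem F18601 : act 0 n5194 = n5937 := d4_3 F18599 F16130 D5194
def n5938 : Q := act 6 n4456
theorem D5938 : act 6 n4456 = n5938 := rfl
theorem F18602 : act 0 n5938 = n5938 := d5_1 D5938 (iv D5938) F13771
theorem F18603 : act 2 n5938 = n4458 := d16_1 D5938 (iv D4458) D4456
theorem F18604 : act 3 n5938 = n4475 := d20_1 D5938 (iv D4475) (iv F13772)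
theorem F18605 : act 4 n5938 = n5935 := d23_1 D5938 (iv D5935) (iv F13825)
def n5939 : Q := act 6 n4457
theorem D5939 : act 6 n4457 = n5939 := rfl
theorem F18606 : act 0 n5939 = n5939 := d5_1 D5939 (iv D5939) F13774
theorem F18607 : act 1 n5939 = n4590 := d11_1 D5939 (iv D4590) (iv F13775)
theorem F18608 : act 2 n5939 = n5935 := d16_1 D5939 (iv D5935) (iv F13830)
theorem F18609 : act 4 n5939 = n4458 := d23_1 D5939 (iv D4458) D4457
def n5940 : Q := act 5 n4458
theorem D5940 : act 5 n4458 = n5940 := rfl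
theorem F18610 : act 0 n5940 = n5940 := d4_1 D5940 (iv D5940) F13777
theorem F18611 : act 3 n5940 = n4459 := d19_1 D5940 (iv D4459) (iv F13779)
def n5941 : Q := act 7 n4458
theorem D5941 : act 7 n4458 = n5941 := rfl
theorem F18612 : act 0 n5941 = n5941 := d6_1 D5941 (iv D5941) F13777
theorem F18613 : act 1 n5941 = n4592 := d12_1 D5941 (iv D4592) (iv F13778)
theorem F18614 : act 3 n5941 = n5941 := d21_1 D5941 (iv D5941) F13779 F9872 (iv F13779)
theorem F18615 : act 6 n5941 = n5941 := d27_1 D5941 (iv D5941) (iv D4458) F9868 D4458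
def n5942 : Q := act 1 n4459
theorem D5942 : act 1 n4459 = n5942 := rfl
theorem F18616 : act 5 n5942 = n4593 := d10_2 D4459 D5942 (iv D4593) (iv D3314) (iv F9870)
theorem F18617 : act 7 n5942 = n5942 := d12_2 F13782 D5942 (iv D5942)
def n5943 : Q := act 3 n4460
theorem D5943 : act 3 n4460 = n5943 := rfl
theorem F18618 : act 0 n5943 = n5943 := d2_1 D5943 (iv D5943) F13783
theorem F18619 : act 5 n5943 = n5943 := d19_2 F13785 D5943 (iv D5943)
theorem F18620 : act 7 n5943 = n5943 := d21_2 D4460 D5943 (iv D5943) (iv D4460) F9874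
def n5944 : Q := act 6 n4460
theorem D5944 : act 6 n4460 = n5944 := rfl
theorem F18621 : act 0 n5944 = n5944 := d5_1 D5944 (iv D5944) F13783
theorem F18622 : act 4 n5944 = n4468 := d23_1 D5944 (iv D4468) (iv F13784)
theorem F18623 : act 7 n5944 = n4462 := d27_2 D4460 D5944 (iv D4462) (iv D3201) D3200
def n5945 : Q := act 6 n4461
theorem D5945 : act 6 n4461 = n5945 := rfl
theorem F18624 : act 0 n5945 = n5945 := d5_1 D5945 (iv D5945) F13786
theorem F18625 : act 3 n5945 = n4462 := d20_1 D5945 (iv D4462) D4461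
def n5946 : Q := act 5 n4462
theorem D5946 : act 5 n4462 = n5946 := rfl
theorem F18626 : act 0 n5946 = n5946 := d4_1 D5946 (iv D5946) F13789
theorem F18627 : act 4 n5946 = n4472 := d22_1 D5946 (iv D4472) (iv F13790)
theorem F18628 : act 6 n5946 = n4466 := d25_2 D4462 D5946 (iv D4466) (iv D3203) (iv F9879)
def n5947 : Q := act 6 n4463
theorem D5947 : act 6 n4463 = n5947 := rfl
theorem F18629 : act 0 n5947 = n5947 := d5_1 D5947 (iv D5947) F13791
theorem F18630 : act 2 n5947 = n4465 := d16_1 D5947 (iv D4465) D4463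
theorem F18631 : act 4 n5947 = n5945 := d23_1 D5947 (iv D5945) (iv F13833)
def n5948 : Q := act 6 n4464
theorem D5948 : act 6 n4464 = n5948 := rfl
theorem F18632 : act 0 n5948 = n5948 := d5_1 D5948 (iv D5948) F13793
theorem F18633 : act 1 n5948 = n4494 := d11_1 D5948 (iv D4494) (iv F13794)
theorem F18634 : act 2 n5948 = n5945 := d16_1 D5948 (iv D5945) (iv F13824)
theorem F18635 : act 3 n5948 = n4476 := d20_1 D5948 (iv D4476) (iv F13795)
theorem F18636 : act 4 n5948 = n4465 := d23_1 D5948 (iv D4465) D4464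
theorem F18637 : act 7 n4819 = n5948 := d21_0 F18635 F13840 F10728 D3492 D4819
def n5949 : Q := act 5 n4465
theorem D5949 : act 5 n4465 = n5949 := rfl
theorem F18638 : act 0 n5949 = n5949 := d4_1 D5949 (iv D5949) F13797
theorem F18639 : act 3 n5949 = n4466 := d19_1 D5949 (iv D4466) (iv F13799)
def n5950 : Q := act 7 n4465
theorem D5950 : act 7 n4465 = n5950 := rfl
theorem F18640 : act 0 n5950 = n5950 := d6_1 D5950 (iv D5950) F13797
theorem F18641 : act 1 n5950 = n4496 := d12_1 D5950 (iv D4496) (iv F13798)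
theorem F18642 : act 3 n5950 = n5950 := d21_1 D5950 (iv D5950) F13799 F9886 (iv F13799)
theorem F18643 : act 4 n5950 = n4819 := d24_1 D5950 F18637 F18636
theorem F18644 : act 6 n5950 = n5950 := d27_1 D5950 (iv D5950) (iv D4465) F9882 D4465
def n5951 : Q := act 1 n4466
theorem D5951 : act 1 n4466 = n5951 := rfl
theorem F18645 : act 4 n5951 = n4478 := d9_2 (iv F13801) D5951 (iv D4478)
theorem F18646 : act 5 n5951 = n4497 := d10_2 D4466 D5951 (iv D4497) (iv D3226) (iv F9884)
theorem F18647 : act 7 n5951 = n5951 := d12_2 F13802 D5951 (iv D5951)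
def n5952 : Q := act 2 n4467
theorem D5952 : act 2 n4467 = n5952 := rfl
theorem F18648 : act 0 n5952 = n5952 := d1_1 D5952 (iv D5952) F13803
theorem F18649 : act 5 n5952 = n5952 := d15_2 F13804 D5952 (iv D5952)
theorem F18650 : act 7 n5952 = n4479 := d17_2 (iv F13805) D5952 (iv D4479)
def n5953 : Q := act 4 n4467
theorem D5953 : act 4 n4467 = n5953 := rfl
theorem F18651 : act 0 n5953 = n5953 := d3_1 D5953 (iv D5953) F13803
theorem F18652 : act 5 n5953 = n5953 := d22_2 F13804 D5953 (iv D5953)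
theorem F18653 : act 7 n5953 = n4480 := d24_2 (iv F13805) D5953 (iv D4480)
def n5954 : Q := act 6 n4467
theorem D5954 : act 6 n4467 = n5954 := rfl
theorem F18654 : act 0 n5954 = n5954 := d5_1 D5954 (iv D5954) F13803
theorem F18655 : act 3 n5954 = n4468 := d20_1 D5954 (iv D4468) D4467
def n5955 : Q := act 5 n4468
theorem D5955 : act 5 n4468 = n5955 := rfl
theorem F18656 : act 0 n5955 = n5955 := d4_1 D5955 (iv D5955) F13806
theorem F18657 : act 6 n5955 = n5955 := d25_2 D4468 D5955 (iv D5955) (iv D4468) F9888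
theorem F18658 : act 7 n5955 = n4472 := d26_2 (iv F13807) D5955 (iv D4472)
def n5956 : Q := act 6 n4469
theorem D5956 : act 6 n4469 = n5956 := rfl
theorem F18659 : act 0 n5956 = n5956 := d5_1 D5956 (iv D5956) F13808
theorem F18660 : act 2 n5956 = n4471 := d16_1 D5956 (iv D4471) D4469
theorem F18661 : act 3 n5956 = n5939 := d20_1 D5956 (iv D5939) (iv F13829)
theorem F18662 : act 4 n5956 = n5926 := d23_1 D5956 (iv D5926) F13828
def n5957 : Q := act 6 n4470
theorem D5957 : act 6 n4470 = n5957 := rfl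
theorem F18663 : act 0 n5957 = n5957 := d5_1 D5957 (iv D5957) F13811
theorem F18664 : act 2 n5957 = n5926 := d16_1 D5957 (iv D5926) F13827
theorem F18665 : act 3 n5957 = n5947 := d20_1 D5957 (iv D5947) (iv F13832)
theorem F18666 : act 4 n5957 = n4471 := d23_1 D5957 (iv D4471) D4470
def n5958 : Q := act 5 n4471
theorem D5958 : act 5 n4471 = n5958 := rfl
theorem F18667 : act 0 n5958 = n5958 := d4_1 D5958 (iv D5958) F13814
theorem F18668 : act 3 n5958 = n4472 := d19_1 D5958 (iv D4472) (iv F13815)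
theorem F18669 : act 6 n5958 = n4477 := d25_2 D4471 D5958 (iv D4477) (iv D3209) (iv F9890)
def n5959 : Q := act 7 n4471
theorem D5959 : act 7 n4471 = n5959 := rfl
theorem F18670 : act 0 n5959 = n5959 := d6_1 D5959 (iv D5959) F13814
theorem F18671 : act 6 n5959 = n4487 := d27_1 D5959 (iv D4487) (iv D3215) (iv F9891) D4471
def n5960 : Q := act 1 n4472
theorem D5960 : act 1 n4472 = n5960 := rfl
theorem F18672 : act 6 n5960 = n4478 := d11_2 (iv F13817) D5960 (iv D4478)
def n5961 : Q := act 0 n4473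
theorem D5961 : act 0 n4473 = n5961 := rfl
theorem F18673 : act 1 n5961 = n5961 := d0_2 D4473 D5961 (iv D5961) (iv D4473) F9893
theorem F18674 : act 2 n5961 = n4498 := d1_2 (iv F13818) D5961 (iv D4498)
theorem F18675 : act 3 n5961 = n5194 := d2_2 F18597 D5961 F18601
theorem F18676 : act 7 n5961 = n4488 := d6_2 (iv F13819) D5961 (iv D4488)
theorem F18677 : act 5 n5193 = n5961 := d26_3 F18676 F16147 (iv F16148)
def n5962 : Q := act 4 n4473
theorem D5962 : act 4 n4473 = n5962 := rfl
theorem F18678 : act 1 n5962 = n4474 := d9_1 D5962 (iv D4474) D4473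
theorem F18679 : act 2 n5962 = n4499 := d14_1 D5962 (iv D4499) (iv F13818)
theorem F18680 : act 3 n5962 = n4984 := d18_1 D5962 F15454 D5931 (iv F18598) F18597
theorem F18681 : act 7 n5962 = n4489 := d24_2 (iv F13819) D5962 (iv D4489)
theorem F18682 : act 5 n4985 = n5962 := d26_3 F18681 (iv F13882) (iv F15457)
def n5963 : Q := act 5 n4473
theorem D5963 : act 5 n4473 = n5963 := rfl
theorem F18683 : act 0 n5963 = n5193 := d4_1 D5963 F18677 (iv D5961)
theorem F18684 : act 1 n5963 = n4989 := d10_1 D5963 F15470 F14196 F13809 D4473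
theorem F18685 : act 2 n5963 = n4500 := d15_1 D5963 (iv D4500) (iv F13818)
theorem F18686 : act 3 n5963 = n5192 := d19_1 D5963 (iv F18599) F18597
theorem F18687 : act 4 n5963 = n4985 := d22_1 D5963 F18682 (iv D5962)
theorem F18688 : act 7 n5963 = n4490 := d26_2 (iv F13819) D5963 (iv D4490)
def n5964 : Q := act 6 n4473
theorem D5964 : act 6 n4473 = n5964 := rfl
theorem F18689 : act 1 n5964 = n4475 := d11_1 D5964 (iv D4475) D4473
theorem F18690 : act 2 n5964 = n4501 := d16_1 D5964 (iv D4501) (iv F13818)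
def n5965 : Q := act 6 n4474
theorem D5965 : act 6 n4474 = n5965 := rfl
theorem F18691 : act 0 n5965 = n5965 := d5_1 D5965 (iv D5965) F13820
theorem F18692 : act 2 n5965 = n4476 := d16_1 D5965 (iv D4476) (iv F13821)
theorem F18693 : act 3 n5965 = n5925 := d20_1 D5965 (iv D5925) F13823
theorem F18694 : act 4 n5965 = n4475 := d23_1 D5965 (iv D4475) D4474
theorem F18695 : act 7 n5965 = n4811 := d27_2 (iv F13822) D5965 (iv D4811) F10724 F10603
def n5966 : Q := act 5 n4475
theorem D5966 : act 5 n4475 = n5966 := rfl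
theorem F18696 : act 0 n5966 = n5966 := d4_1 D5966 (iv D5966) F13835
theorem F18697 : act 2 n5966 = n4477 := d15_1 D5966 (iv D4477) (iv F13836)
def n5967 : Q := act 5 n4476
theorem D5967 : act 5 n4476 = n5967 := rfl
theorem F18698 : act 0 n5967 = n5967 := d4_1 D5967 (iv D5967) F13837
theorem F18699 : act 4 n5967 = n4477 := d22_1 D5967 (iv D4477) (iv F13839)
theorem F18700 : act 7 n5967 = n4812 := d26_2 (iv F13840) D5967 (iv D4812)
def n5968 : Q := act 2 n4478
theorem D5968 : act 2 n4478 = n5968 := rfl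
theorem F18701 : act 5 n5968 = n4503 := d15_2 (iv F13843) D5968 (iv D4503)
theorem F18702 : act 7 n5968 = n5968 := d17_2 F13844 D5968 (iv D5968)
def n5969 : Q := act 1 n4479
theorem D5969 : act 1 n4479 = n5969 := rfl
theorem F18703 : act 3 n5969 = n5969 := d8_2 F13846 D5969 (iv D5969)
def n5970 : Q := act 4 n4479
theorem D5970 : act 4 n4479 = n5970 := rfl
theorem F18704 : act 0 n5970 = n5970 := d3_1 D5970 (iv D5970) F13845
theorem F18705 : act 2 n5970 = n4480 := d14_1 D5970 (iv D4480) D4479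
theorem F18706 : act 5 n5970 = n5970 := d22_2 F13847 D5970 (iv D5970)
def n5971 : Q := act 6 n4479
theorem D5971 : act 6 n4479 = n5971 := rfl
theorem F18707 : act 0 n5971 = n5971 := d5_1 D5971 (iv D5971) F13845
theorem F18708 : act 2 n5971 = n4481 := d16_1 D5971 (iv D4481) D4479
theorem F18709 : act 3 n5971 = n5971 := d20_1 D5971 (iv D5971) F13846
theorem F18710 : act 5 n4908 = n5971 := d15_0 F18708 (iv F13854) D4908
def n5972 : Q := act 6 n4480
theorem D5972 : act 6 n4480 = n5972 := rfl
theorem F18711 : act 0 n5972 = n5972 := d5_1 D5972 (iv D5972) F13848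
theorem F18712 : act 1 n5972 = n4919 := d11_1 D5972 (iv F17622) F17620
theorem F18713 : act 3 n5972 = n5972 := d20_1 D5972 (iv D5972) F13849
theorem F18714 : act 4 n5972 = n4481 := d23_1 D5972 (iv D4481) D4480
theorem F18715 : act 5 n4909 = n5972 := d28_5 (iv F7688) D3562 F10967 F10966 (iv F15186) (iv D5972) F13848 (iv D4480) (iv D3211) F6875 (iv F9092) (iv F11822) (iv D3823) F8255 F7883 (iv F11220) (iv F15443) F15442 (iv D4146) (iv F12630) (iv F13195) (iv D4266) (iv F11811) (iv D3820) F8253 F5672 F5673 F5347 D1721 F5360 F5359 F5358 F3823 F3824 (iv F4925) F5448 (iv D1748) (iv D1188) F2613 F2046 F2047 (iv D412) F743 F742 D232 F764 F766 F492 (iv F855) F856 D277 F889 (iv F1660) (iv F1955) F1956 F1222 (iv F1155) D575 (iv F2642) (iv F3718) (iv F5323) F5324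
def n5973 : Q := act 7 n4481
theorem D5973 : act 7 n4481 = n5973 := rfl
theorem F18716 : act 0 n5973 = n5973 := d6_1 D5973 (iv D5973) F13851
theorem F18717 : act 1 n5973 = n4921 := d12_1 D5973 (iv D4921) (iv F13852)
theorem F18718 : act 3 n5973 = n4487 := d21_1 D5973 (iv D4487) F9918 (iv F9909) (iv F13853)
theorem F18719 : act 5 n5973 = n4910 := d26_1 D5973 (iv D4910) F13854
def n5974 : Q := act 7 n4485
theorem D5974 : act 7 n4485 = n5974 := rfl
theorem F18720 : act 0 n5974 = n5974 := d6_1 D5974 (iv D5974) F13868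
theorem F18721 : act 2 n5974 = n5291 := d17_1 D5974 F16475 F14068
theorem F18722 : act 4 n5974 = n4487 := d24_1 D5974 (iv D4487) (iv F13870)
theorem F18723 : act 5 n5974 = n5770 := d26_1 D5974 F18079 (iv F14059)
def n5975 : Q := act 6 n4490
theorem D5975 : act 6 n4490 = n5975 := rfl
theorem F18724 : act 1 n5975 = n4995 := d11_1 D5975 (iv D4995) (iv F13884)
theorem F18725 : act 2 n5975 = n4509 := d16_1 D5975 (iv D4509) (iv F13885)
theorem F18726 : act 3 n5975 = n5975 := d20_1 D5975 (iv D5975) F13886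
theorem F18727 : act 4 n5975 = n4987 := d23_1 D5975 (iv D4987) (iv F13887)
theorem F18728 : act 5 n5975 = n5699 := d25_1 D5975 F17857 F13892 (iv D4491) D4490
def n5976 : Q := act 6 n4492
theorem D5976 : act 6 n4492 = n5976 := rfl
theorem F18729 : act 0 n5976 = n5482 := d5_1 D5976 (iv D5482) (iv F13893)
theorem F18730 : act 1 n5976 = n4493 := d11_1 D5976 (iv D4493) D4492
theorem F18731 : act 3 n5976 = n4613 := d20_1 D5976 (iv D4613) (iv F13894)
theorem F18732 : act 4 n5976 = n5479 := d23_1 D5976 (iv D5479) (iv F13895)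
def n5977 : Q := act 5 n4493
theorem D5977 : act 5 n4493 = n5977 := rfl
theorem F18733 : act 0 n5977 = n4527 := d4_1 D5977 (iv D4527) (iv F13897)
theorem F18734 : act 2 n5977 = n4495 := d15_1 D5977 (iv D4495) (iv F13898)
theorem F18735 : act 3 n5977 = n4614 := d19_1 D5977 (iv D4614) (iv F13899)
theorem F18736 : act 4 n5977 = n5480 := d22_1 D5977 (iv D5480) (iv F13900)
theorem F18737 : act 6 n5977 = n5477 := d25_2 D4493 D5977 (iv D5477) (iv D4051) (iv F9947)
theorem F18738 : act 7 n5977 = n5513 := d31_1 D5977 F17263 (iv F14914) F14916 F12663 F9463 F9464 F6527 (iv D2109) F5236 F5233 (iv F4498) (iv D1104) F2441 (iv F2267) (iv F2269) (iv F2272) F2273 D750 (iv F3520) (iv F4509) F4511 (iv F6538) (iv D2113) D2114 F6543 D2309 D3329 (iv F13899)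
def n5978 : Q := act 7 n4493
theorem D5978 : act 7 n4493 = n5978 := rfl
theorem F18739 : act 0 n5978 = n4528 := d6_1 D5978 (iv D4528) (iv F13897)
theorem F18740 : act 2 n5978 = n4496 := d17_1 D5978 (iv D4496) (iv F13898)
theorem F18741 : act 4 n5978 = n4823 := d24_1 D5978 F14921 (iv F13900)
theorem F18742 : act 5 n5978 = n5513 := d26_1 D5978 (iv F18738) (iv D5977)
theorem F18743 : act 6 n5978 = n5978 := d27_1 D5978 (iv D5978) (iv D4493) F9948 D4493
def n5979 : Q := act 1 n4495
theorem D5979 : act 1 n4495 = n5979 := rfl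
theorem F18744 : act 3 n5979 = n4497 := d8_2 (iv F13907) D5979 (iv D4497)
def n5980 : Q := act 7 n4495
theorem D5980 : act 7 n4495 = n5980 := rfl
theorem F18745 : act 0 n5980 = n4529 := d6_1 D5980 (iv D4529) (iv F13906)
theorem F18746 : act 2 n5980 = n5513 := d17_1 D5980 (iv F18738) F18734
theorem F18747 : act 3 n5980 = n5980 := d21_1 D5980 (iv D5980) F13907 F9960 (iv F13907)
theorem F18748 : act 4 n5980 = n4822 := d24_1 D5980 (iv F18401) F18398
theorem F18749 : act 5 n5980 = n4496 := d26_1 D5980 (iv D4496) D4495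
theorem F18750 : act 6 n5980 = n5512 := d27_1 D5980 F17261 D5519 (iv F17681) F17680
def n5981 : Q := act 2 n4497
theorem D5981 : act 2 n4497 = n5981 := rfl
theorem F18751 : act 1 n5981 = n4617 := d7_1 D5981 (iv D4617) (iv D3331) (iv F9958) D4497
theorem F18752 : act 4 n5981 = n4503 := d14_2 (iv F13912) D5981 (iv D4503)
theorem F18753 : act 7 n5981 = n5981 := d17_2 F13913 D5981 (iv D5981)
def n5982 : Q := act 5 n4498
theorem D5982 : act 5 n4498 = n5982 := rfl
theorem F18754 : act 0 n5982 = n4500 := d4_1 D5982 (iv D4500) D4498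
theorem F18755 : act 1 n5982 = n5195 := d10_1 D5982 (iv F16142) F13932 (iv F10050) (iv F13914)
theorem F18756 : act 2 n5982 = n5193 := d15_1 D5982 F18677 F18674
theorem F18757 : act 3 n5982 = n4618 := d19_1 D5982 (iv D4618) (iv F13915)
theorem F18758 : act 7 n5982 = n4505 := d26_2 (iv F13916) D5982 (iv D4505)
def n5983 : Q := act 6 n4498
theorem D5983 : act 6 n4498 = n5983 := rfl
theorem F18759 : act 0 n5983 = n4501 := d5_1 D5983 (iv D4501) D4498
theorem F18760 : act 1 n5983 = n4530 := d11_1 D5983 (iv D4530) (iv F13914)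
theorem F18761 : act 3 n5983 = n4619 := d20_1 D5983 (iv D4619) (iv F13915)
def n5984 : Q := act 5 n4499
theorem D5984 : act 5 n4499 = n5984 := rfl
theorem F18762 : act 1 n5984 = n5651 := d10_1 D5984 (iv D5651) F12947 (iv F9966) (iv F13917)
theorem F18763 : act 2 n5984 = n4985 := d15_1 D5984 F18682 F18679
theorem F18764 : act 3 n5984 = n5664 := d19_1 D5984 F17765 (iv F13918)
theorem F18765 : act 4 n5984 = n4500 := d22_1 D5984 (iv D4500) D4499
theorem F18766 : act 7 n5984 = n4507 := d26_2 (iv F13919) D5984 (iv D4507)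
def n5985 : Q := act 6 n4499
theorem D5985 : act 6 n4499 = n5985 := rfl
theorem F18767 : act 1 n5985 = n4502 := d11_1 D5985 (iv D4502) (iv F13917)
theorem F18768 : act 3 n5985 = n5687 := d20_1 D5985 (iv D5687) (iv F13918)
theorem F18769 : act 4 n5985 = n4501 := d23_1 D5985 (iv D4501) D4499
theorem F18770 : act 7 n5985 = n4665 := d27_2 (iv F13919) D5985 (iv D4665) F13949 (iv D4508)
def n5986 : Q := act 6 n4500
theorem D5986 : act 6 n4500 = n5986 := rfl
theorem F18771 : act 3 n5986 = n4620 := d20_1 D5986 (iv D4620) (iv F13920)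
def n5987 : Q := act 5 n4501
theorem D5987 : act 5 n4501 = n5987 := rfl
theorem F18772 : act 3 n5987 = n4621 := d19_1 D5987 (iv D4621) (iv F13923)
def n5988 : Q := act 3 n4503
theorem D5988 : act 3 n4503 = n5988 := rfl
theorem F18773 : act 1 n5988 = n4625 := d8_1 D5988 (iv D4625) (iv F13929)
def n5989 : Q := act 1 n4505
theorem D5989 : act 1 n4505 = n5989 := rfl
theorem F18774 : act 0 n5989 = n5984 := d0_1 D5989 F18762 F17717 F12953 (iv F13933)
theorem F18775 : act 2 n5989 = n5198 := d7_2 F16145 D5989 F16156 F11801 (iv F16144)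
theorem F18776 : act 3 n5989 = n4512 := d8_2 (iv F13934) D5989 (iv D4512)
theorem F18777 : act 4 n5989 = n5982 := d9_2 (iv F16141) D5989 F18755
theorem F18778 : act 5 n5989 = n4531 := d10_2 D4505 D5989 (iv D4531) (iv D3257) (iv F9975)
theorem F18779 : act 7 n5989 = n5195 := d12_2 F18758 D5989 (iv F18755)
def n5990 : Q := act 6 n4505
theorem D5990 : act 6 n4505 = n5990 := rfl
theorem F18780 : act 0 n5990 = n4509 := d5_1 D5990 (iv D4509) (iv F13933)
theorem F18781 : act 3 n5990 = n4513 := d20_1 D5990 (iv D4513) (iv F13934)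
def n5991 : Q := act 6 n4507
theorem D5991 : act 6 n4507 = n5991 := rfl
theorem F18782 : act 2 n5991 = n4987 := d16_1 D5991 (iv D4987) (iv F13941)
theorem F18783 : act 3 n5991 = n5507 := d20_1 D5991 (iv D5507) (iv F13942)
theorem F18784 : act 4 n5991 = n4509 := d23_1 D5991 (iv D4509) (iv F13943)
theorem F18785 : act 5 n5991 = n5698 := d25_1 D5991 F17853 F13950 (iv D4508) D4507
def n5992 : Q := act 5 n4509
theorem D5992 : act 5 n4509 = n5992 := rfl
theorem F18786 : act 2 n5992 = n5699 := d15_1 D5992 (iv F18728) F18725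
theorem F18787 : act 3 n5992 = n4518 := d19_1 D5992 (iv D4518) (iv F13951)
theorem F18788 : act 4 n5992 = n5698 := d22_1 D5992 (iv F18785) F18784
theorem F18789 : act 6 n5992 = n4510 := d25_2 D4509 D5992 (iv D4510) (iv D3235) D3234
def n5993 : Q := act 7 n4509
theorem D5993 : act 7 n4509 = n5993 := rfl
def n5994 : Q := act 2 n4512
theorem D5994 : act 2 n4512 = n5994 := rfl
theorem F18790 : act 1 n5994 = n5994 := d7_1 D5994 (iv D5994) (iv D4512) F9998 D4512
theorem F18791 : act 3 n5994 = n5201 := d13_2 F18776 D5994 F16168 (iv F16157) (iv F18775)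
theorem F18792 : act 5 n5994 = n4533 := d15_2 (iv F13962) D5994 (iv D4533)
theorem F18793 : act 7 n5994 = n4634 := d17_2 (iv F13963) D5994 (iv D4634)
def n5995 : Q := act 6 n4512
theorem D5995 : act 6 n4512 = n5995 := rfl
theorem F18794 : act 1 n5995 = n4513 := d11_1 D5995 (iv D4513) D4512
def n5996 : Q := act 7 n4513
theorem D5996 : act 7 n4513 = n5996 := rfl
theorem F18795 : act 0 n5996 = n4519 := d6_1 D5996 (iv D4519) (iv F13964)
theorem F18796 : act 2 n5996 = n5996 := d17_1 D5996 (iv D5996) F13965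
theorem F18797 : act 6 n5996 = n4637 := d27_1 D5996 (iv D4637) (iv D3344) (iv F9999) D4513
def n5997 : Q := act 7 n4514
theorem D5997 : act 7 n4514 = n5997 := rfl
theorem F18798 : act 0 n5997 = n5872 := d6_1 D5997 F18383 (iv F13966)
theorem F18799 : act 1 n5997 = n5997 := d12_1 D5997 (iv D5997) F13967
theorem F18800 : act 2 n5997 = n4516 := d17_1 D5997 (iv D4516) D4514
theorem F18801 : act 4 n5997 = n5500 := d24_1 D5997 F17224 (iv F13969)
theorem F18802 : act 5 n5997 = n5503 := d26_1 D5997 F17232 F13971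
def n5998 : Q := act 6 n4515
theorem D5998 : act 6 n4515 = n5998 := rfl
theorem F18803 : act 0 n5998 = n5992 := d5_1 D5998 F18789 (iv F13972)
theorem F18804 : act 2 n5998 = n5508 := d16_1 D5998 (iv D5508) (iv F13973)
theorem F18805 : act 3 n5998 = n4517 := d20_1 D5998 (iv D4517) (iv F13974)
theorem F18806 : act 4 n5998 = n5507 := d23_1 D5998 (iv D5507) (iv F13975)
theorem F18807 : act 5 n5998 = n5990 := d25_1 D5998 (iv D5990) (iv D4505) (iv F10002) D4515
def n5999 : Q := act 7 n4515
theorem D5999 : act 7 n4515 = n5999 := rfl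
theorem F18808 : act 0 n5999 = n5856 := d6_1 D5999 (iv F18331) (iv F13972)
theorem F18809 : act 1 n5999 = n4648 := d12_1 D5999 (iv F17777) F17773
theorem F18810 : act 2 n5999 = n5503 := d17_1 D5999 F17232 (iv F13973)
theorem F18811 : act 3 n5999 = n4642 := d21_1 D5999 (iv D4642) F10297 (iv F10005) (iv F13974)
theorem F18812 : act 4 n5999 = n5502 := d24_1 D5999 F17229 (iv F13975)
theorem F18813 : act 5 n5999 = n4516 := d26_1 D5999 (iv D4516) D4515
def n6000 : Q := act 6 n4516
theorem D6000 : act 6 n4516 = n6000 := rfl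
theorem F18814 : act 0 n6000 = n5871 := d5_1 D6000 F18378 (iv F13976)
theorem F18815 : act 1 n6000 = n4521 := d11_1 D6000 (iv D4521) (iv F13977)
theorem F18816 : act 3 n6000 = n4643 := d20_1 D6000 (iv D4643) (iv F13978)
theorem F18817 : act 4 n6000 = n5864 := d23_1 D6000 (iv D5864) (iv F13979)
theorem F18818 : act 7 n6000 = n5983 := d27_2 D4516 D6000 (iv D5983) F13916 (iv F10002)
def n6001 : Q := act 7 n4517
theorem D6001 : act 7 n4517 = n6001 := rfl
theorem F18819 : act 2 n6001 = n6001 := d17_1 D6001 (iv D6001) F13980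
theorem F18820 : act 4 n6001 = n4519 := d24_1 D6001 (iv D4519) (iv F13981)
theorem F18821 : act 5 n6001 = n5996 := d26_1 D6001 (iv D5996) (iv F13982)
theorem F18822 : act 6 n6001 = n4645 := d27_1 D6001 (iv D4645) (iv D3349) (iv F10005) D4517
def n6002 : Q := act 1 n4518
theorem D6002 : act 1 n4518 = n6002 := rfl
theorem F18823 : act 4 n6002 = n5995 := d9_2 (iv F13985) D6002 F18794
theorem F18824 : act 6 n6002 = n4520 := d11_2 (iv F13986) D6002 (iv D4520)
def n6003 : Q := act 7 n4518
theorem D6003 : act 7 n4518 = n6003 := rfl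
theorem F18825 : act 0 n6003 = n6001 := d6_1 D6003 (iv D6001) (iv F13983)
theorem F18826 : act 2 n6003 = n6003 := d17_1 D6003 (iv D6003) F13984
theorem F18827 : act 4 n6003 = n5996 := d24_1 D6003 (iv D5996) (iv F13985)
theorem F18828 : act 5 n6003 = n4519 := d26_1 D6003 (iv D4519) D4518
def n6004 : Q := act 3 n4519
theorem D6004 : act 3 n4519 = n6004 := rfl
theorem F18829 : act 6 n6004 = n4647 := d20_2 (iv F13988) D6004 (iv D4647)
def n6005 : Q := act 2 n4520
theorem D6005 : act 2 n4520 = n6005 := rfl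
theorem F18830 : act 1 n6005 = n6005 := d7_1 D6005 (iv D6005) (iv D4520) F10008 D4520
theorem F18831 : act 3 n6005 = n5581 := d13_2 (iv F18337) D6005 (iv D5581) (iv F17490) (iv F18334)
theorem F18832 : act 4 n6005 = n5994 := d14_2 (iv F13989) D6005 (iv D5994)
theorem F18833 : act 5 n6005 = n4522 := d15_2 (iv F13990) D6005 (iv D4522)
def n6006 : Q := act 3 n4522
theorem D6006 : act 3 n4522 = n6006 := rfl
theorem F18834 : act 1 n6006 = n4523 := d8_1 D6006 (iv D4523) (iv F13995)
theorem F18835 : act 2 n6006 = n5033 := d13_1 D6006 (iv F16690) F16689 (iv F13564) D4522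
theorem F18836 : act 5 n6006 = n5581 := d19_2 F18833 D6006 (iv F18831)
theorem F18837 : act 4 n5034 = n6006 := d22_3 F18836 F17512 (iv F15616)
theorem F18838 : act 7 n5296 = n6006 := d26_0 F18836 F17513 (iv F16496)
def n6007 : Q := act 4 n4523
theorem D6007 : act 4 n4523 = n6007 := rfl
theorem F18839 : act 1 n6007 = n5034 := d9_1 D6007 F18837 F18834
theorem F18840 : act 2 n6007 = n4525 := d14_1 D6007 (iv D4525) (iv F13996)
theorem F18841 : act 5 n6007 = n6007 := d22_2 F13997 D6007 (iv D6007)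
theorem F18842 : act 7 n5230 = n6007 := d17_0 F18840 (iv F14003) D5230
def n6008 : Q := act 7 n4523
theorem D6008 : act 7 n4523 = n6008 := rfl
theorem F18843 : act 1 n6008 = n5296 := d12_1 D6008 F18838 F18834
theorem F18844 : act 2 n6008 = n4526 := d17_1 D6008 (iv D4526) (iv F13996)
theorem F18845 : act 4 n6008 = n5230 := d24_1 D6008 F18842 (iv D6007)
theorem F18846 : act 5 n6008 = n6008 := d26_1 D6008 (iv D6008) F13997
def n6009 : Q := act 4 n4524
theorem D6009 : act 4 n4524 = n6009 := rfl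
theorem F18847 : act 0 n6009 = n4525 := d3_1 D6009 (iv D4525) (iv F13998)
theorem F18848 : act 1 n6009 = n4980 := d9_1 D6009 F15440 (iv F15409)
theorem F18849 : act 3 n6009 = n6009 := d18_1 D6009 (iv D6009) (iv D4524) F10017 D4524
theorem F18850 : act 5 n6009 = n6009 := d22_2 F13999 D6009 (iv D6009)
theorem F18851 : act 7 n5226 = n6009 := d12_0 F18848 F15441 D5226
def n6010 : Q := act 7 n4524
theorem D6010 : act 7 n4524 = n6010 := rfl
theorem F18852 : act 0 n6010 = n4526 := d6_1 D6010 (iv D4526) (iv F13998)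
theorem F18853 : act 1 n6010 = n5225 := d12_1 D6010 F16258 (iv F15409)
theorem F18854 : act 3 n6010 = n6010 := d21_1 D6010 (iv D6010) (iv D4524) F10019 D4524
theorem F18855 : act 4 n6010 = n5226 := d24_1 D6010 F18851 (iv D6009)
theorem F18856 : act 5 n6010 = n6010 := d26_1 D6010 (iv D6010) F13999
def n6011 : Q := act 6 n4526
theorem D6011 : act 6 n4526 = n6011 := rfl
theorem F18857 : act 1 n6011 = n5229 := d11_1 D6011 (iv D5229) (iv F14004)
theorem F18858 : act 3 n6011 = n6011 := d20_1 D6011 (iv D6011) F14005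
theorem F18859 : act 4 n6011 = n5231 := d23_1 D6011 (iv D5231) (iv F14006)
def n6012 : Q := act 2 n4531
theorem D6012 : act 2 n4531 = n6012 := rfl
theorem F18860 : act 0 n6012 = n5962 := d1_1 D6012 F18679 (iv F14028)
theorem F18861 : act 1 n6012 = n6012 := d7_1 D6012 (iv D6012) (iv D4531) F10052 D4531
theorem F18862 : act 4 n6012 = n5961 := d14_2 (iv F14030) D6012 F18674
theorem F18863 : act 5 n6012 = n5198 := d15_2 F18778 D6012 (iv F18775)
theorem F18864 : act 7 n6012 = n5197 := d17_2 (iv F14031) D6012 F16151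
theorem F18865 : act 3 n5203 = n6012 := d21_5 F18864 F16152 F11795 (iv F11815) D5203
def n6013 : Q := act 6 n4531
theorem D6013 : act 6 n4531 = n6013 := rfl
theorem F18866 : act 0 n6013 = n5985 := d5_1 D6013 (iv D5985) (iv F14028)
theorem F18867 : act 1 n6013 = n4532 := d11_1 D6013 (iv D4532) D4531
theorem F18868 : act 3 n6013 = n4534 := d20_1 D6013 (iv D4534) (iv F14029)
theorem F18869 : act 4 n6013 = n5983 := d23_1 D6013 (iv D5983) (iv F14030)
theorem F18870 : act 7 n6013 = n5864 := d27_2 (iv F14031) D6013 (iv D5864) (iv F13938) (iv F13939)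
def n6014 : Q := act 3 n4533
theorem D6014 : act 3 n4533 = n6014 := rfl
theorem F18871 : act 1 n6014 = n4535 := d8_1 D6014 (iv D4535) (iv F14038)
theorem F18872 : act 2 n6014 = n5203 := d13_1 D6014 F18865 (iv D6012) F14029 D4533
theorem F18873 : act 5 n6014 = n5201 := d19_2 F18792 D6014 (iv F18791)
theorem F18874 : act 7 n6014 = n5200 := d21_2 (iv F14040) D6014 F16165 F14447 (iv D4672)
def n6015 : Q := act 6 n4533
theorem D6015 : act 6 n4533 = n6015 := rfl
theorem F18875 : act 1 n6015 = n4536 := d11_1 D6015 (iv D4536) (iv F14038)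
theorem F18876 : act 2 n6015 = n4534 := d16_1 D6015 (iv D4534) D4533
theorem F18877 : act 4 n6015 = n5677 := d23_1 D6015 F17794 (iv F14039)
def n6016 : Q := act 5 n4534
theorem D6016 : act 5 n4534 = n6016 := rfl
theorem F18878 : act 1 n6016 = n5671 := d10_1 D6016 (iv D5671) F12985 (iv F10067) (iv F14041)
theorem F18879 : act 4 n6016 = n5674 := d22_1 D6016 F17787 (iv F14042)
def n6017 : Q := act 4 n4535
theorem D6017 : act 4 n4535 = n6017 := rfl
theorem F18880 : act 0 n6017 = n4545 := d3_1 D6017 (iv D4545) (iv F14043)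
theorem F18881 : act 2 n6017 = n6017 := d14_1 D6017 (iv D6017) F14044
theorem F18882 : act 3 n6017 = n6007 := d18_1 D6017 (iv D6007) (iv D4523) (iv F10076) D4535
theorem F18883 : act 5 n6017 = n6017 := d22_2 F14045 D6017 (iv D6017)
def n6018 : Q := act 6 n4535
theorem D6018 : act 6 n4535 = n6018 := rfl
theorem F18884 : act 0 n6018 = n4546 := d5_1 D6018 (iv D4546) (iv F14043)
theorem F18885 : act 2 n6018 = n6018 := d16_1 D6018 (iv D6018) F14044
theorem F18886 : act 3 n6018 = n4536 := d20_1 D6018 (iv D4536) D4535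
def n6019 : Q := act 7 n4535
theorem D6019 : act 7 n4535 = n6019 := rfl
theorem F18887 : act 0 n6019 = n4547 := d6_1 D6019 (iv D4547) (iv F14043)
theorem F18888 : act 1 n6019 = n5200 := d12_1 D6019 (iv F18874) F18871
theorem F18889 : act 2 n6019 = n6019 := d17_1 D6019 (iv D6019) F14044
theorem F18890 : act 3 n6019 = n4685 := d21_1 D6019 (iv D4685) (iv D3385) (iv F10078) D4535
theorem F18891 : act 5 n6019 = n6019 := d26_1 D6019 (iv D6019) F14045
def n6020 : Q := act 5 n4536
theorem D6020 : act 5 n4536 = n6020 := rfl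
theorem F18892 : act 0 n6020 = n4548 := d4_1 D6020 (iv D4548) (iv F14046)
theorem F18893 : act 2 n6020 = n4537 := d15_1 D6020 (iv D4537) (iv F14047)
theorem F18894 : act 4 n6020 = n5096 := d22_1 D6020 F15775 (iv F14048)
theorem F18895 : act 6 n6020 = n6020 := d25_2 D4536 D6020 (iv D6020) (iv D4536) F10077
def n6021 : Q := act 4 n4541
theorem D6021 : act 4 n4541 = n6021 := rfl
theorem F18896 : act 0 n6021 = n6007 := d3_1 D6021 (iv D6007) (iv F14072)
theorem F18897 : act 2 n6021 = n6009 := d14_1 D6021 (iv D6009) (iv F14073)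
theorem F18898 : act 3 n6021 = n4545 := d18_1 D6021 (iv D4545) (iv D3271) (iv F10097) D4541
theorem F18899 : act 5 n6021 = n6021 := d22_2 F14074 D6021 (iv D6021)
def n6022 : Q := act 6 n4541
theorem D6022 : act 6 n4541 = n6022 := rfl
theorem F18900 : act 0 n6022 = n5680 := d5_1 D6022 F17805 (iv F14072)
theorem F18901 : act 2 n6022 = n5007 := d16_1 D6022 F15528 (iv F14073)
theorem F18902 : act 3 n6022 = n4542 := d20_1 D6022 (iv D4542) D4541
theorem F18903 : act 5 n5534 = n6022 := d15_0 F18901 F15527 D5534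
def n6023 : Q := act 7 n4541
theorem D6023 : act 7 n4541 = n6023 := rfl
theorem F18904 : act 0 n6023 = n6008 := d6_1 D6023 (iv D6008) (iv F14072)
theorem F18905 : act 2 n6023 = n6010 := d17_1 D6023 (iv D6010) (iv F14073)
theorem F18906 : act 3 n6023 = n4694 := d21_1 D6023 (iv D4694) (iv D3392) (iv F10099) D4541
theorem F18907 : act 5 n6023 = n6023 := d26_1 D6023 (iv D6023) F14074
def n6024 : Q := act 5 n4542
theorem D6024 : act 5 n4542 = n6024 := rfl
theorem F18908 : act 0 n6024 = n5096 := d4_1 D6024 F15775 (iv F14075)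
theorem F18909 : act 2 n6024 = n4543 := d15_1 D6024 (iv D4543) (iv F14076)
theorem F18910 : act 3 n6024 = n5534 := d19_1 D6024 F18903 F18902
theorem F18911 : act 4 n6024 = n4548 := d22_1 D6024 (iv D4548) (iv F14077)
theorem F18912 : act 6 n6024 = n6024 := d25_2 D4542 D6024 (iv D6024) (iv D4542) F10098
def n6025 : Q := act 7 n4542
theorem D6025 : act 7 n4542 = n6025 := rfl
theorem F18913 : act 0 n6025 = n5681 := d6_1 D6025 (iv D5681) (iv F14075)
theorem F18914 : act 2 n6025 = n4544 := d17_1 D6025 (iv D4544) (iv F14076)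
theorem F18915 : act 4 n6025 = n4549 := d24_1 D6025 (iv D4549) (iv F14077)
theorem F18916 : act 6 n6025 = n4696 := d27_1 D6025 (iv D4696) (iv D3393) (iv F10099) D4542
def n6026 : Q := act 7 n4543
theorem D6026 : act 7 n4543 = n6026 := rfl
theorem F18917 : act 0 n6026 = n5097 := d6_1 D6026 (iv D5097) (iv F14078)
theorem F18918 : act 1 n6026 = n5141 := d12_1 D6026 (iv D5141) (iv F14079)
theorem F18919 : act 3 n6026 = n5683 := d21_1 D6026 (iv D5683) (iv D4205) (iv F11484) (iv F14080)
theorem F18920 : act 4 n6026 = n4551 := d24_1 D6026 (iv D4551) (iv F14081)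
theorem F18921 : act 5 n6026 = n4544 := d26_1 D6026 (iv D4544) D4543
def n6027 : Q := act 6 n4545
theorem D6027 : act 6 n4545 = n6027 := rfl
theorem F18922 : act 2 n6027 = n6027 := d16_1 D6027 (iv D6027) F14087
theorem F18923 : act 4 n6027 = n4546 := d23_1 D6027 (iv D4546) D4545
def n6028 : Q := act 5 n4546
theorem D6028 : act 5 n4546 = n6028 := rfl
theorem F18924 : act 2 n6028 = n6028 := d15_1 D6028 (iv D6028) F14089
theorem F18925 : act 3 n6028 = n4548 := d19_1 D6028 (iv D4548) (iv F14090)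
theorem F18926 : act 6 n6028 = n6028 := d25_2 D4546 D6028 (iv D6028) (iv D4546) F10109
def n6029 : Q := act 7 n4546
theorem D6029 : act 7 n4546 = n6029 := rfl
theorem F18927 : act 2 n6029 = n6029 := d17_1 D6029 (iv D6029) F14089
def n6030 : Q := act 6 n4547
theorem D6030 : act 6 n4547 = n6030 := rfl
theorem F18928 : act 2 n6030 = n6030 := d16_1 D6030 (iv D6030) F14091
theorem F18929 : act 3 n6030 = n4705 := d20_1 D6030 (iv D4705) (iv F14092)
def n6031 : Q := act 1 n4548
theorem D6031 : act 1 n4548 = n6031 := rfl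
theorem F18930 : act 6 n6031 = n6031 := d11_2 F14095 D6031 (iv D6031)
def n6032 : Q := act 7 n4548
theorem D6032 : act 7 n4548 = n6032 := rfl
theorem F18931 : act 2 n6032 = n4551 := d17_1 D6032 (iv D4551) (iv F14094)
theorem F18932 : act 5 n6032 = n4549 := d26_1 D6032 (iv D4549) D4548
def n6033 : Q := act 3 n4549
theorem D6033 : act 3 n4549 = n6033 := rfl
theorem F18933 : act 6 n6033 = n4708 := d20_2 (iv F14097) D6033 (iv D4708)
def n6034 : Q := act 2 n4550
theorem D6034 : act 2 n4550 = n6034 := rfl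
theorem F18934 : act 0 n6034 = n5139 := d1_1 D6034 (iv D5139) (iv F14098)
theorem F18935 : act 4 n6034 = n5140 := d14_2 (iv F14100) D6034 (iv D5140)
theorem F18936 : act 5 n6034 = n4552 := d15_2 (iv F14101) D6034 (iv D4552)
theorem F18937 : act 6 n6034 = n6034 := d16_2 F14102 D6034 (iv D6034)
def n6035 : Q := act 6 n4551
theorem D6035 : act 6 n4551 = n6035 := rfl
theorem F18938 : act 5 n6035 = n4710 := d25_1 D6035 (iv D4710) F10466 (iv F10114) (iv F14103)
theorem F18939 : act 7 n6035 = n6035 := d27_2 D4551 D6035 (iv D6035) (iv D4551) F10112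
def n6036 : Q := act 7 n4553
theorem D6036 : act 7 n4553 = n6036 := rfl
theorem F18940 : act 0 n6036 = n5187 := d6_1 D6036 (iv D5187) (iv F14107)
theorem F18941 : act 2 n6036 = n6036 := d17_1 D6036 (iv D6036) F14108
theorem F18942 : act 4 n6036 = n5180 := d24_1 D6036 (iv D5180) (iv F14109)
theorem F18943 : act 5 n6036 = n5174 := d26_1 D6036 (iv D5174) (iv F14110)
theorem F18944 : act 6 n6036 = n6036 := d27_1 D6036 (iv D6036) (iv D4553) F10129 D4553
def n6037 : Q := act 3 n4555
theorem D6037 : act 3 n4555 = n6037 := rfl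
theorem F18945 : act 0 n6037 = n6037 := d2_1 D6037 (iv D6037) F14115
theorem F18946 : act 1 n6037 = n4557 := d8_1 D6037 (iv D4557) (iv F14116)
theorem F18947 : act 2 n6037 = n6037 := d13_1 D6037 (iv D6037) F14117 F12343 (iv F14117)
theorem F18948 : act 4 n6037 = n4567 := d18_2 (iv F14118) D6037 (iv D4567) F10175 (iv F10146)
theorem F18949 : act 5 n6037 = n5885 := d19_2 (iv F14119) D6037 (iv D5885)
theorem F18950 : act 7 n6037 = n6037 := d21_2 D4555 D6037 (iv D6037) (iv D4555) F10141
def n6038 : Q := act 6 n4555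
theorem D6038 : act 6 n4555 = n6038 := rfl
theorem F18951 : act 0 n6038 = n6038 := d5_1 D6038 (iv D6038) F14115
theorem F18952 : act 1 n6038 = n4558 := d11_1 D6038 (iv D4558) (iv F14116)
theorem F18953 : act 2 n6038 = n5379 := d16_1 D6038 F16813 (iv F14117)
theorem F18954 : act 4 n6038 = n4556 := d23_1 D6038 (iv D4556) (iv F14118)
theorem F18955 : act 7 n6038 = n4882 := d27_2 D4555 D6038 (iv D4882) (iv F14065) F14064
def n6039 : Q := act 5 n4556
theorem D6039 : act 5 n4556 = n6039 := rfl
theorem F18956 : act 0 n6039 = n6039 := d4_1 D6039 (iv D6039) F14120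
theorem F18957 : act 3 n6039 = n4571 := d19_1 D6039 (iv D4571) (iv F14122)
def n6040 : Q := act 6 n4557
theorem D6040 : act 6 n4557 = n6040 := rfl
theorem F18958 : act 0 n6040 = n4559 := d5_1 D6040 (iv D4559) (iv F14123)
theorem F18959 : act 3 n6040 = n4558 := d20_1 D6040 (iv D4558) D4557
theorem F18960 : act 4 n6040 = n4573 := d23_1 D6040 (iv D4573) (iv F14124)
theorem F18961 : act 7 n4896 = n6040 := d21_0 F18959 F14128 F10880 D3551 D4896
def n6041 : Q := act 5 n4560
theorem D6041 : act 5 n4560 = n6041 := rfl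
theorem F18962 : act 0 n6041 = n6041 := d4_1 D6041 (iv D6041) F14133
theorem F18963 : act 2 n6041 = n6041 := d15_1 D6041 (iv D6041) F14135
theorem F18964 : act 3 n6041 = n4561 := d19_1 D6041 (iv D4561) D4560
theorem F18965 : act 4 n6041 = n6041 := d22_1 D6041 (iv D6041) F14136
theorem F18966 : act 7 n6041 = n6041 := d26_2 F14146 D6041 (iv D6041)
def n6042 : Q := act 6 n4561
theorem D6042 : act 6 n4561 = n6042 := rfl
theorem F18967 : act 0 n6042 = n6042 := d5_1 D6042 (iv D6042) F14138
theorem F18968 : act 2 n6042 = n4565 := d16_1 D6042 (iv D4565) (iv F14139)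
theorem F18969 : act 4 n6042 = n4563 := d23_1 D6042 (iv D4563) (iv F14140)
theorem F18970 : act 5 n6042 = n6042 := d25_1 D6042 (iv D6042) (iv D4561) F10163 D4561
def n6043 : Q := act 6 n4562
theorem D6043 : act 6 n4562 = n6043 := rfl
theorem F18971 : act 0 n6043 = n6043 := d5_1 D6043 (iv D6043) F14141
theorem F18972 : act 1 n6043 = n6043 := d11_1 D6043 (iv D6043) F14142
theorem F18973 : act 2 n6043 = n4568 := d16_1 D6043 (iv D4568) (iv F14143)
theorem F18974 : act 3 n6043 = n6043 := d20_1 D6043 (iv D6043) F14145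
theorem F18975 : act 4 n6043 = n4564 := d23_1 D6043 (iv D4564) (iv F14144)
theorem F18976 : act 7 n6043 = n6043 := d27_2 D4562 D6043 (iv D6043) (iv D4562) F10163
def n6044 : Q := act 7 n4563
theorem D6044 : act 7 n4563 = n6044 := rfl
theorem F18977 : act 0 n6044 = n6044 := d6_1 D6044 (iv D6044) F14147
theorem F18978 : act 2 n6044 = n4569 := d17_1 D6044 (iv D4569) (iv F14148)
theorem F18979 : act 5 n6044 = n6044 := d26_1 D6044 (iv D6044) F14150
def n6045 : Q := act 5 n4564
theorem D6045 : act 5 n4564 = n6045 := rfl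
theorem F18980 : act 0 n6045 = n6045 := d4_1 D6045 (iv D6045) F14151
theorem F18981 : act 2 n6045 = n4571 := d15_1 D6045 (iv D4571) (iv F14153)
theorem F18982 : act 7 n6045 = n6045 := d26_2 F14154 D6045 (iv D6045)
def n6046 : Q := act 7 n4565
theorem D6046 : act 7 n4565 = n6046 := rfl
theorem F18983 : act 0 n6046 = n6046 := d6_1 D6046 (iv D6046) F14155
theorem F18984 : act 4 n6046 = n4569 := d24_1 D6046 (iv D4569) (iv F14157)
theorem F18985 : act 5 n6046 = n6046 := d26_1 D6046 (iv D6046) F14158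
def n6047 : Q := act 3 n4566
theorem D6047 : act 3 n4566 = n6047 := rfl
theorem F18986 : act 0 n6047 = n6047 := d2_1 D6047 (iv D6047) F14159
theorem F18987 : act 2 n6047 = n6047 := d13_1 D6047 (iv D6047) (iv F14883) F14884 F14883
theorem F18988 : act 4 n6047 = n5885 := d18_2 (iv F14160) D6047 (iv D5885) F13645 (iv F10725)
theorem F18989 : act 5 n6047 = n4567 := d19_2 (iv F14161) D6047 (iv D4567)
theorem F18990 : act 7 n6047 = n6047 := d21_2 D4566 D6047 (iv D6047) (iv D4566) F10171
def n6048 : Q := act 6 n4566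
theorem D6048 : act 6 n4566 = n6048 := rfl
theorem F18991 : act 0 n6048 = n6048 := d5_1 D6048 (iv D6048) F14159
theorem F18992 : act 4 n6048 = n4570 := d23_1 D6048 (iv D4570) (iv F14160)
def n6049 : Q := act 6 n4567
theorem D6049 : act 6 n4567 = n6049 := rfl
theorem F18993 : act 0 n6049 = n6049 := d5_1 D6049 (iv D6049) F14162
theorem F18994 : act 1 n6049 = n4573 := d11_1 D6049 (iv D4573) (iv F14163)
theorem F18995 : act 2 n6049 = n6049 := d16_1 D6049 (iv D6049) F14164
theorem F18996 : act 3 n6049 = n4568 := d20_1 D6049 (iv D4568) D4567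
def n6050 : Q := act 5 n4568
theorem D6050 : act 5 n4568 = n6050 := rfl
theorem F18997 : act 0 n6050 = n6050 := d4_1 D6050 (iv D6050) F14166
theorem F18998 : act 4 n6050 = n4571 := d22_1 D6050 (iv D4571) (iv F14168)
theorem F18999 : act 7 n6050 = n6050 := d26_2 F14169 D6050 (iv D6050)
def n6051 : Q := act 6 n4569
theorem D6051 : act 6 n4569 = n6051 := rfl
theorem F19000 : act 0 n6051 = n6051 := d5_1 D6051 (iv D6051) F14170
theorem F19001 : act 7 n6051 = n4570 := d27_2 D4569 D6051 (iv D4570) (iv D3296) D3295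
def n6052 : Q := act 5 n4570
theorem D6052 : act 5 n4570 = n6052 := rfl
theorem F19002 : act 0 n6052 = n6052 := d4_1 D6052 (iv D6052) F14172
theorem F19003 : act 6 n6052 = n4571 := d25_2 D4570 D6052 (iv D4571) (iv D3297) (iv F10180)
def n6053 : Q := act 1 n4571
theorem D6053 : act 1 n4571 = n6053 := rfl
theorem F19004 : act 5 n6053 = n4575 := d10_2 D4571 D6053 (iv D4575) (iv D3301) (iv F10182)
theorem F19005 : act 7 n6053 = n6053 := d12_2 F14174 D6053 (iv D6053)
def n6054 : Q := act 6 n4572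
theorem D6054 : act 6 n4572 = n6054 := rfl
theorem F19006 : act 0 n6054 = n4576 := d5_1 D6054 (iv D4576) (iv F14175)
theorem F19007 : act 1 n6054 = n6054 := d11_1 D6054 (iv D6054) F14176
theorem F19008 : act 2 n6054 = n4573 := d16_1 D6054 (iv D4573) D4572
theorem F19009 : act 3 n6054 = n6054 := d20_1 D6054 (iv D6054) F14177
def n6055 : Q := act 5 n4573
theorem D6055 : act 5 n4573 = n6055 := rfl
theorem F19010 : act 0 n6055 = n4577 := d4_1 D6055 (iv D4577) (iv F14179)
theorem F19011 : act 3 n6055 = n4574 := d19_1 D6055 (iv D4574) (iv F14180)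
def n6056 : Q := act 7 n4573
theorem D6056 : act 7 n4573 = n6056 := rfl
theorem F19012 : act 0 n6056 = n4578 := d6_1 D6056 (iv D4578) (iv F14179)
theorem F19013 : act 3 n6056 = n6056 := d21_1 D6056 (iv D6056) F14180 F10193 (iv F14180)
theorem F19014 : act 4 n6056 = n4896 := d24_1 D6056 F18961 F18960
theorem F19015 : act 6 n6056 = n6056 := d27_1 D6056 (iv D6056) (iv D4573) F10189 D4573
def n6057 : Q := act 1 n4574
theorem D6057 : act 1 n4574 = n6057 := rfl
theorem F19016 : act 4 n6057 = n4575 := d9_2 (iv F14183) D6057 (iv D4575)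
theorem F19017 : act 7 n6057 = n6057 := d12_2 F14184 D6057 (iv D6057)
def n6058 : Q := act 2 n4575
theorem D6058 : act 2 n4575 = n6058 := rfl
theorem F19018 : act 1 n6058 = n6058 := d7_1 D6058 (iv D6058) (iv D4575) F10195 D4575
theorem F19019 : act 7 n6058 = n6058 := d17_2 F14185 D6058 (iv D6058)
def n6059 : Q := act 5 n4576
theorem D6059 : act 5 n4576 = n6059 := rfl
theorem F19020 : act 2 n6059 = n4577 := d15_1 D6059 (iv D4577) (iv F14186)
theorem F19021 : act 3 n6059 = n6059 := d19_1 D6059 (iv D6059) F14187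
def n6060 : Q := act 7 n4576
theorem D6060 : act 7 n4576 = n6060 := rfl
theorem F19022 : act 1 n6060 = n5920 := d12_1 D6060 F18538 F18530
theorem F19023 : act 2 n6060 = n4578 := d17_1 D6060 (iv D4578) (iv F14186)
theorem F19024 : act 4 n6060 = n4904 := d24_1 D6060 F18169 F18168
theorem F19025 : act 6 n6060 = n6060 := d27_1 D6060 (iv D6060) (iv D4576) F10198 D4576
theorem F19026 : act 3 n6060 = n5922 := d29_10 (iv F12720) F12719 (iv F13236) D5739 F17982 (iv D4577) F10199 (iv F14186) F14187 D6060 F18546 (iv D5922) (iv D4443) (iv D3189) F6834 (iv F9576) F9577 (iv F9062) (iv D2936) (iv D2004) F4315 F4314 (iv F4299) D2000 F6219 (iv F8863) (iv F9193) F9194 (iv F8969)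
def n6061 : Q := act 7 n4577
theorem D6061 : act 7 n4577 = n6061 := rfl
theorem F19027 : act 1 n6061 = n5803 := d12_1 D6061 (iv F18189) F18185
theorem F19028 : act 3 n6061 = n6061 := d21_1 D6061 (iv D6061) F14188 F10203 (iv F14188)
theorem F19029 : act 4 n6061 = n4902 := d24_1 D6061 (iv F18083) F18081
theorem F19030 : act 5 n6061 = n4578 := d26_1 D6061 (iv D4578) D4577
def n6062 : Q := act 1 n4579
theorem D6062 : act 1 n4579 = n6062 := rfl
theorem F19031 : act 2 n6062 = n5613 := d7_2 D4579 D6062 F17595 (iv F13827) F13749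
theorem F19032 : act 3 n6062 = n4594 := d8_2 (iv F14194) D6062 (iv D4594)
theorem F19033 : act 7 n6062 = n5626 := d12_2 F15391 D6062 F17627
theorem F19034 : act 4 n5612 = n6062 := d24_3 F19033 (iv D5626) (iv F17593)
theorem F19035 : act 5 n5617 = n6062 := d26_3 F19033 F17629 (iv F17606)
def n6063 : Q := act 4 n4579
theorem D6063 : act 4 n4579 = n6063 := rfl
theorem F19036 : act 0 n6063 = n4725 := d3_1 D6063 (iv D4725) (iv F14193)
theorem F19037 : act 1 n6063 = n5612 := d9_1 D6063 F19034 (iv D6062)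
theorem F19038 : act 2 n6063 = n4580 := d14_1 D6063 (iv D4580) D4579
theorem F19039 : act 3 n6063 = n5021 := d18_1 D6063 F16365 (iv D5261) F11983 (iv F14194)
theorem F19040 : act 5 n6063 = n5014 := d22_2 F15466 D6063 F15553
theorem F19041 : act 7 n6063 = n5625 := d24_2 F15391 D6063 (iv F17625)
def n6064 : Q := act 6 n4579
theorem D6064 : act 6 n4579 = n6064 := rfl
theorem F19042 : act 0 n6064 = n4726 := d5_1 D6064 (iv D4726) (iv F14193)
theorem F19043 : act 2 n6064 = n4581 := d16_1 D6064 (iv D4581) D4579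
theorem F19044 : act 3 n6064 = n4595 := d20_1 D6064 (iv D4595) (iv F14194)
def n6065 : Q := act 6 n4580
theorem D6065 : act 6 n4580 = n6065 := rfl
theorem F19045 : act 0 n6065 = n4727 := d5_1 D6065 (iv D4727) (iv F14195)
theorem F19046 : act 1 n6065 = n5956 := d11_1 D6065 (iv D5956) (iv F14196)
theorem F19047 : act 3 n6065 = n4590 := d20_1 D6065 (iv D4590) (iv F14197)
theorem F19048 : act 4 n6065 = n4581 := d23_1 D6065 (iv D4581) D4580
theorem F19049 : act 7 n6065 = n4880 := d27_2 (iv F14198) D6065 (iv D4880) (iv F14701) (iv F14702)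
def n6066 : Q := act 1 n4582
theorem D6066 : act 1 n4582 = n6066 := rfl
theorem F19050 : act 4 n6066 = n4593 := d9_2 (iv F14203) D6066 (iv D4593)
theorem F19051 : act 7 n6066 = n6066 := d12_2 F14204 D6066 (iv D6066)
def n6067 : Q := act 6 n4583
theorem D6067 : act 6 n4583 = n6067 := rfl
theorem F19052 : act 0 n6067 = n4585 := d5_1 D6067 (iv D4585) (iv F14205)
theorem F19053 : act 1 n6067 = n4728 := d11_1 D6067 (iv D4728) (iv F14206)
theorem F19054 : act 3 n6067 = n5713 := d20_1 D6067 F17894 F14208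
theorem F19055 : act 4 n6067 = n5204 := d23_1 D6067 (iv D5204) (iv F14207)
def n6068 : Q := act 6 n4584
theorem D6068 : act 6 n4584 = n6068 := rfl
theorem F19056 : act 0 n6068 = n5713 := d5_1 D6068 F17894 (iv F14209)
theorem F19057 : act 1 n6068 = n4586 := d11_1 D6068 (iv D4586) (iv F14210)
theorem F19058 : act 2 n6068 = n5712 := d16_1 D6068 F17891 F14212
theorem F19059 : act 3 n6068 = n4585 := d20_1 D6068 (iv D4585) D4584
def n6069 : Q := act 5 n4585
theorem D6069 : act 5 n4585 = n6069 := rfl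
def n6070 : Q := act 5 n4586
theorem D6070 : act 5 n4586 = n6070 := rfl
theorem F19060 : act 0 n6070 = n4730 := d4_1 D6070 (iv D4730) (iv F14214)
theorem F19061 : act 2 n6070 = n5081 := d15_1 D6070 (iv F16008) F16005
theorem F19062 : act 3 n6070 = n4587 := d19_1 D6070 (iv D4587) (iv F14215)
theorem F19063 : act 4 n6070 = n5080 := d22_1 D6070 (iv F16013) F16012
theorem F19064 : act 6 n6070 = n4591 := d25_2 D4586 D6070 (iv D4591) (iv D3313) (iv F10214)
theorem F19065 : act 7 n6070 = n5078 := d31_1 D6070 F15723 F11433 (iv D2599) (iv D1773) F3813 (iv D1201) F2636 (iv D814) (iv F2616) F2614 (iv F2704) D1233 F3914 F2826 F2853 (iv D878) (iv F2827) (iv D871) (iv F2703) F2702 F2425 (iv F3410) (iv F3944) D1843 F5742 (iv F7126) D3310 (iv F14215)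
def n6071 : Q := act 7 n4586
theorem D6071 : act 7 n4586 = n6071 := rfl
theorem F19066 : act 0 n6071 = n4731 := d6_1 D6071 (iv D4731) (iv F14214)
theorem F19067 : act 2 n6071 = n4766 := d17_1 D6071 (iv F16010) F16005
theorem F19068 : act 4 n6071 = n5079 := d24_1 D6071 (iv F16015) F16012
theorem F19069 : act 5 n6071 = n5078 := d26_1 D6071 (iv F19065) (iv D6070)
theorem F19070 : act 6 n6071 = n6071 := d27_1 D6071 (iv D6071) (iv D4586) F10215 D4586
def n6072 : Q := act 1 n4587
theorem D6072 : act 1 n4587 = n6072 := rfl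
theorem F19071 : act 6 n6072 = n4593 := d11_2 (iv F14218) D6072 (iv D4593)
def n6073 : Q := act 6 n4588
theorem D6073 : act 6 n4588 = n6073 := rfl
theorem F19072 : act 0 n6073 = n5715 := d5_1 D6073 (iv D5715) (iv F14219)
theorem F19073 : act 1 n6073 = n4589 := d11_1 D6073 (iv D4589) D4588
theorem F19074 : act 3 n6073 = n4603 := d20_1 D6073 (iv D4603) (iv F14220)
def n6074 : Q := act 5 n4589
theorem D6074 : act 5 n4589 = n6074 := rfl
theorem F19075 : act 0 n6074 = n4733 := d4_1 D6074 (iv D4733) (iv F14223)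
theorem F19076 : act 2 n6074 = n4591 := d15_1 D6074 (iv D4591) (iv F14224)
theorem F19077 : act 3 n6074 = n4604 := d19_1 D6074 (iv D4604) (iv F14225)
theorem F19078 : act 4 n6074 = n5071 := d22_1 D6074 (iv F16119) F16118
theorem F19079 : act 6 n6074 = n5081 := d25_2 D4589 D6074 (iv F16008) F16009 F11777
theorem F19080 : act 7 n6074 = n5069 := d31_1 D6074 F15702 (iv F15699) (iv D5068) F11417 F8517 F8518 F5860 (iv D1882) D1883 F5863 D1884 (iv F8368) F8366 F6004 (iv F5997) F5994 (iv F6006) (iv F6007) (iv F5868) F5867 F4035 (iv F5880) (iv D1888) D1889 F5885 D2304 D3322 (iv F14225)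
def n6075 : Q := act 7 n4589
theorem D6075 : act 7 n4589 = n6075 := rfl
theorem F19081 : act 0 n6075 = n4734 := d6_1 D6075 (iv D4734) (iv F14223)
theorem F19082 : act 2 n6075 = n4592 := d17_1 D6075 (iv D4592) (iv F14224)
theorem F19083 : act 4 n6075 = n5070 := d24_1 D6075 (iv F16121) F16118
theorem F19084 : act 5 n6075 = n5069 := d26_1 D6075 (iv F19080) (iv D6074)
theorem F19085 : act 6 n6075 = n6075 := d27_1 D6075 (iv D6075) (iv D4589) F10220 D4589
def n6076 : Q := act 5 n4590
theorem D6076 : act 5 n4590 = n6076 := rfl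
theorem F19086 : act 0 n6076 = n4735 := d4_1 D6076 (iv D4735) (iv F14226)
theorem F19087 : act 2 n6076 = n5071 := d15_1 D6076 (iv F16119) F16116
theorem F19088 : act 4 n6076 = n4591 := d22_1 D6076 (iv D4591) (iv F14227)
theorem F19089 : act 6 n6076 = n5080 := d25_2 D4590 D6076 (iv F16013) F16014 F11781
theorem F19090 : act 7 n5068 = n6076 := d27_0 F19089 (iv D5080) (iv D3709) (iv F11419) D5068
def n6077 : Q := act 7 n4590
theorem D6077 : act 7 n4590 = n6077 := rfl
theorem F19091 : act 0 n6077 = n4736 := d6_1 D6077 (iv D4736) (iv F14226)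
theorem F19092 : act 2 n6077 = n5070 := d17_1 D6077 (iv F16121) F16116
theorem F19093 : act 3 n6077 = n4888 := d21_1 D6077 (iv D4888) (iv F15086) (iv F19049) F19047
theorem F19094 : act 4 n6077 = n4592 := d24_1 D6077 (iv D4592) (iv F14227)
theorem F19095 : act 5 n6077 = n5068 := d26_1 D6077 F19090 (iv D6076)
theorem F19096 : act 6 n6077 = n6077 := d27_1 D6077 (iv D6077) (iv D4590) F10222 D4590
def n6078 : Q := act 1 n4591
theorem D6078 : act 1 n4591 = n6078 := rfl
theorem F19097 : act 3 n6078 = n4593 := d8_2 (iv F14229) D6078 (iv D4593)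
def n6079 : Q := act 7 n4591
theorem D6079 : act 7 n4591 = n6079 := rfl
theorem F19098 : act 0 n6079 = n4738 := d6_1 D6079 (iv D4738) (iv F14228)
theorem F19099 : act 2 n6079 = n5069 := d17_1 D6079 (iv F19080) F19076
theorem F19100 : act 3 n6079 = n6079 := d21_1 D6079 (iv D6079) F14229 F10227 (iv F14229)
theorem F19101 : act 4 n6079 = n5068 := d24_1 D6079 F19090 F19088
theorem F19102 : act 5 n6079 = n4592 := d26_1 D6079 (iv D4592) D4591
theorem F19103 : act 6 n6079 = n5067 := d27_1 D6079 F15697 D5078 (iv F19065) F19064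
def n6080 : Q := act 0 n4593
theorem D6080 : act 0 n4593 = n6080 := rfl
theorem F19104 : act 1 n6080 = n4739 := d0_2 D4593 D6080 (iv D4739) (iv D3426) (iv F10225)
theorem F19105 : act 7 n6080 = n6080 := d6_2 F14233 D6080 (iv D6080)
def n6081 : Q := act 2 n4593
theorem D6081 : act 2 n4593 = n6081 := rfl
theorem F19106 : act 1 n6081 = n4607 := d7_1 D6081 (iv D4607) (iv D3324) (iv F10226) D4593
theorem F19107 : act 7 n6081 = n6081 := d17_2 F14233 D6081 (iv D6081)
def n6082 : Q := act 0 n4594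
theorem D6082 : act 0 n4594 = n6082 := rfl
theorem F19108 : act 1 n6082 = n4741 := d0_2 D4594 D6082 (iv D4741) (iv D3427) (iv F10228)
theorem F19109 : act 2 n6082 = n4611 := d1_2 (iv F14234) D6082 (iv D4611)
theorem F19110 : act 4 n6082 = n5700 := d3_2 F16361 D6082 F17858
theorem F19111 : act 7 n6082 = n4718 := d6_2 (iv F14235) D6082 (iv D4718)
def n6083 : Q := act 5 n4594
theorem D6083 : act 5 n4594 = n6083 := rfl
theorem F19112 : act 2 n6083 = n4612 := d15_1 D6083 (iv D4612) (iv F14234)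
theorem F19113 : act 3 n6083 = n5617 := d19_1 D6083 F19035 F19032
theorem F19114 : act 7 n6083 = n4719 := d26_2 (iv F14235) D6083 (iv D4719)
def n6084 : Q := act 6 n4594
theorem D6084 : act 6 n4594 = n6084 := rfl
theorem F19115 : act 1 n6084 = n4595 := d11_1 D6084 (iv D4595) D4594
theorem F19116 : act 2 n6084 = n4613 := d16_1 D6084 (iv D4613) (iv F14234)
def n6085 : Q := act 5 n4595
theorem D6085 : act 5 n4595 = n6085 := rfl
theorem F19117 : act 0 n6085 = n4744 := d4_1 D6085 (iv D4744) (iv F14236)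
theorem F19118 : act 2 n6085 = n4596 := d15_1 D6085 (iv D4596) (iv F14237)
def n6086 : Q := act 1 n4596
theorem D6086 : act 1 n4596 = n6086 := rfl
theorem F19119 : act 3 n6086 = n4597 := d8_2 (iv F14239) D6086 (iv D4597)
theorem F19120 : act 5 n6086 = n4615 := d10_2 D4596 D6086 (iv D4615) (iv D3330) (iv F10231)
def n6087 : Q := act 0 n4597
theorem D6087 : act 0 n4597 = n6087 := rfl
theorem F19121 : act 1 n6087 = n4746 := d0_2 D4597 D6087 (iv D4746) (iv D3430) (iv F10233)
theorem F19122 : act 4 n6087 = n4606 := d3_2 (iv F14240) D6087 (iv D4606)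
theorem F19123 : act 5 n6087 = n4616 := d4_2 (iv F14241) D6087 (iv D4616)
theorem F19124 : act 7 n6087 = n6087 := d6_2 F14242 D6087 (iv D6087)
def n6088 : Q := act 2 n4597
theorem D6088 : act 2 n4597 = n6088 := rfl
theorem F19125 : act 4 n6088 = n4607 := d14_2 (iv F14240) D6088 (iv D4607)
theorem F19126 : act 5 n6088 = n4617 := d15_2 (iv F14241) D6088 (iv D4617)
theorem F19127 : act 7 n6088 = n6088 := d17_2 F14242 D6088 (iv D6088)
def n6089 : Q := act 5 n4598
theorem D6089 : act 5 n4598 = n6089 := rfl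
theorem F19128 : act 0 n6089 = n4748 := d4_1 D6089 (iv D4748) (iv F14243)
theorem F19129 : act 2 n6089 = n4599 := d15_1 D6089 (iv D4599) (iv F14244)
theorem F19130 : act 3 n6089 = n5081 := d19_1 D6089 (iv F16008) F16006
theorem F19131 : act 6 n6089 = n4604 := d25_2 D4598 D6089 (iv D4604) (iv D3322) (iv F10237)
theorem F19132 : act 7 n6089 = n6089 := d26_2 F14245 D6089 (iv D6089)
def n6090 : Q := act 1 n4599
theorem D6090 : act 1 n4599 = n6090 := rfl
theorem F19133 : act 3 n6090 = n4600 := d8_2 (iv F14247) D6090 (iv D4600)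
theorem F19134 : act 6 n6090 = n4605 := d11_2 (iv F14248) D6090 (iv D4605)
theorem F19135 : act 7 n6090 = n6090 := d12_2 F14249 D6090 (iv D6090)
theorem F19136 : act 0 n6035 = n6090 := d5_3 F19134 (iv F14268) D6035
def n6091 : Q := act 0 n4600
theorem D6091 : act 0 n4600 = n6091 := rfl
theorem F19137 : act 1 n6091 = n4750 := d0_2 D4600 D6091 (iv D4750) (iv D3433) (iv F10242)
theorem F19138 : act 3 n6091 = n6035 := d2_2 F19133 D6091 F19136
theorem F19139 : act 6 n6091 = n4606 := d5_2 (iv F14250) D6091 (iv D4606)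
def n6092 : Q := act 2 n4600
theorem D6092 : act 2 n4600 = n6092 := rfl
theorem F19140 : act 6 n6092 = n4607 := d16_2 (iv F14250) D6092 (iv D4607)
def n6093 : Q := act 6 n4601
theorem D6093 : act 6 n4601 = n6093 := rfl
theorem F19141 : act 0 n6093 = n4603 := d5_1 D6093 (iv D4603) D4601
theorem F19142 : act 1 n6093 = n4752 := d11_1 D6093 (iv D4752) (iv F14251)
theorem F19143 : act 2 n6093 = n4619 := d16_1 D6093 (iv D4619) (iv F14252)
theorem F19144 : act 3 n6093 = n5715 := d20_1 D6093 (iv D5715) (iv F14253)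
def n6094 : Q := act 6 n4602
theorem D6094 : act 6 n4602 = n6094 := rfl
theorem F19145 : act 0 n6094 = n5695 := d5_1 D6094 F17848 (iv F14256)
theorem F19146 : act 1 n6094 = n5694 := d11_1 D6094 F17846 (iv F14257)
theorem F19147 : act 2 n6094 = n4620 := d16_1 D6094 (iv D4620) (iv F14258)
theorem F19148 : act 3 n6094 = n5693 := d20_1 D6094 F17843 (iv F14259)
def n6095 : Q := act 5 n4603
theorem D6095 : act 5 n4603 = n6095 := rfl
theorem F19149 : act 2 n6095 = n4621 := d15_1 D6095 (iv D4621) (iv F14262)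
def n6096 : Q := act 1 n4604
theorem D6096 : act 1 n4604 = n6096 := rfl
def n6097 : Q := act 2 n4605
theorem D6097 : act 2 n4605 = n6097 := rfl
theorem F19150 : act 0 n6097 = n6032 := d1_1 D6097 F18931 F14268
theorem F19151 : act 5 n6097 = n4623 := d15_2 (iv F14266) D6097 (iv D4623)
theorem F19152 : act 7 n6097 = n6020 := d17_2 (iv F14267) D6097 F18893
def n6098 : Q := act 2 n4606
theorem D6098 : act 2 n4606 = n6098 := rfl
theorem F19153 : act 0 n6098 = n4607 := d1_1 D6098 (iv D4607) D4606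
theorem F19154 : act 5 n6098 = n4624 := d15_2 (iv F14271) D6098 (iv D4624)
theorem F19155 : act 7 n6098 = n6098 := d17_2 F14272 D6098 (iv D6098)
def n6099 : Q := act 3 n4607
theorem D6099 : act 3 n4607 = n6099 := rfl
theorem F19156 : act 5 n6099 = n4625 := d19_2 (iv F14273) D6099 (iv D4625)
def n6100 : Q := act 6 n4608
theorem D6100 : act 6 n4608 = n6100 := rfl
theorem F19157 : act 0 n6100 = n5714 := d5_1 D6100 (iv D5714) (iv F14275)
theorem F19158 : act 1 n6100 = n4610 := d11_1 D6100 (iv D4610) (iv F14276)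
theorem F19159 : act 2 n6100 = n5891 := d16_1 D6100 F18453 F17338
theorem F19160 : act 3 n6100 = n6100 := d20_1 D6100 (iv D6100) F14277
theorem F19161 : act 5 n6100 = n6100 := d25_1 D6100 (iv D6100) (iv D4608) F10253 D4608
theorem F19162 : act 7 n5900 = n6100 := d17_0 F19159 F18454 D5900
def n6101 : Q := act 6 n4609
theorem D6101 : act 6 n4609 = n6101 := rfl
theorem F19163 : act 0 n6101 = n4610 := d5_1 D6101 (iv D4610) (iv F14279)
theorem F19164 : act 1 n6101 = n5716 := d11_1 D6101 (iv D5716) (iv F14280)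
theorem F19165 : act 2 n6101 = n4627 := d16_1 D6101 (iv D4627) (iv F14281)
theorem F19166 : act 3 n6101 = n6101 := d20_1 D6101 (iv D6101) F14282
def n6102 : Q := act 7 n4610
theorem D6102 : act 7 n4610 = n6102 := rfl
theorem F19167 : act 1 n6102 = n5900 := d12_1 D6102 F19162 F19158
theorem F19168 : act 2 n6102 = n4628 := d17_1 D6102 (iv D4628) (iv F14284)
def n6103 : Q := act 6 n4611
theorem D6103 : act 6 n4611 = n6103 := rfl
theorem F19169 : act 0 n6103 = n4613 := d5_1 D6103 (iv D4613) D4611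
theorem F19170 : act 1 n6103 = n4654 := d11_1 D6103 (iv D4654) (iv F14286)
theorem F19171 : act 3 n6103 = n5482 := d20_1 D6103 (iv D5482) (iv F14287)
theorem F19172 : act 4 n6103 = n5701 := d23_1 D6103 (iv D5701) (iv F14288)
def n6104 : Q := act 6 n4612
theorem D6104 : act 6 n4612 = n6104 := rfl
def n6105 : Q := act 5 n4613
theorem D6105 : act 5 n4613 = n6105 := rfl
def n6106 : Q := act 1 n4614
theorem D6106 : act 1 n4614 = n6106 := rfl
def n6107 : Q := act 0 n4615
theorem D6107 : act 0 n4615 = n6107 := rfl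
theorem F19173 : act 1 n6107 = n4656 := d0_2 D4615 D6107 (iv D4656) (iv D3361) (iv F10262)
theorem F19174 : act 3 n6107 = n4616 := d2_2 (iv F14294) D6107 (iv D4616)
theorem F19175 : act 4 n6107 = n5467 := d3_2 F17329 D6107 (iv F17326)
theorem F19176 : act 7 n6107 = n5465 := d6_2 F17323 D6107 (iv F17319)
def n6108 : Q := act 2 n4615
theorem D6108 : act 2 n4615 = n6108 := rfl
def n6109 : Q := act 2 n4616
theorem D6109 : act 2 n4616 = n6109 := rfl
theorem F19177 : act 0 n6109 = n4617 := d1_1 D6109 (iv D4617) D4616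
theorem F19178 : act 4 n6109 = n4624 := d14_2 (iv F14296) D6109 (iv D4624)
theorem F19179 : act 7 n6109 = n6109 := d17_2 F14297 D6109 (iv D6109)
def n6110 : Q := act 3 n4617
theorem D6110 : act 3 n4617 = n6110 := rfl
def n6111 : Q := act 6 n4618
theorem D6111 : act 6 n4618 = n6111 := rfl
theorem F19180 : act 0 n6111 = n4620 := d5_1 D6111 (iv D4620) (iv F14300)
theorem F19181 : act 1 n6111 = n5698 := d11_1 D6111 F17853 (iv F14301)
theorem F19182 : act 2 n6111 = n5695 := d16_1 D6111 F17848 (iv F14302)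
def n6112 : Q := act 5 n4619
theorem D6112 : act 5 n4619 = n6112 := rfl
theorem F19183 : act 0 n6112 = n4621 := d4_1 D6112 (iv D4621) (iv F14304)
def n6113 : Q := act 5 n4620
theorem D6113 : act 5 n4620 = n6113 := rfl
theorem F19184 : act 6 n6113 = n4621 := d25_2 D4620 D6113 (iv D4621) (iv D3334) D3333
def n6114 : Q := act 7 n4620
theorem D6114 : act 7 n4620 = n6114 := rfl
theorem F19185 : act 6 n6114 = n4628 := d27_1 D6114 (iv D4628) (iv D3340) (iv F10268) D4620
def n6115 : Q := act 1 n4621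
theorem D6115 : act 1 n4621 = n6115 := rfl
theorem F19186 : act 5 n6115 = n4622 := d10_2 D4621 D6115 (iv D4622) (iv D3335) (iv F10269)
theorem F19187 : act 7 n6115 = n6016 := d12_2 F17783 D6115 F18878
def n6116 : Q := act 0 n4622
theorem D6116 : act 0 n4622 = n6116 := rfl
theorem F19188 : act 1 n6116 = n4660 := d0_2 D4622 D6116 (iv D4660) (iv D3365) (iv F10270)
theorem F19189 : act 3 n6116 = n4675 := d2_2 (iv F18376) D6116 (iv F18374)
theorem F19190 : act 6 n6116 = n5870 := d5_2 F14451 D6116 F18374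
theorem F19191 : act 7 n6116 = n5687 := d6_2 (iv F14306) D6116 F17824
def n6117 : Q := act 2 n4622
theorem D6117 : act 2 n4622 = n6117 := rfl
theorem F19192 : act 1 n6117 = n4623 := d7_1 D6117 (iv D4623) (iv D3336) (iv F10271) D4622
theorem F19193 : act 7 n6117 = n6015 := d17_2 (iv F14306) D6117 F18876
def n6118 : Q := act 3 n4623
theorem D6118 : act 3 n4623 = n6118 := rfl
theorem F19194 : act 0 n6118 = n6033 := d2_1 D6118 (iv D6033) (iv F14307)
theorem F19195 : act 2 n6118 = n4625 := d13_1 D6118 (iv D4625) (iv D3338) (iv F10274) D4623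
def n6119 : Q := act 1 n4624
theorem D6119 : act 1 n4624 = n6119 := rfl
theorem F19196 : act 2 n6119 = n4661 := d7_2 D4624 D6119 (iv D4661) (iv D3366) (iv F10276)
theorem F19197 : act 7 n6119 = n6119 := d12_2 F14310 D6119 (iv D6119)
def n6120 : Q := act 3 n4624
theorem D6120 : act 3 n4624 = n6120 := rfl
theorem F19198 : act 0 n6120 = n4625 := d2_1 D6120 (iv D4625) (iv F14309)
theorem F19199 : act 2 n6120 = n6033 := d13_1 D6120 (iv D6033) F14096 (iv F10277) D4624
def n6121 : Q := act 4 n4625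
theorem D6121 : act 4 n4625 = n6121 := rfl
def n6122 : Q := act 7 n4625
theorem D6122 : act 7 n4625 = n6122 := rfl
theorem F19200 : act 3 n6122 = n6122 := d21_1 D6122 (iv D6122) (iv D4625) F10279 D4625
def n6123 : Q := act 6 n4626
theorem D6123 : act 6 n4626 = n6123 := rfl
theorem F19201 : act 1 n6123 = n4627 := d11_1 D6123 (iv D4627) D4626
theorem F19202 : act 2 n6123 = n5718 := d16_1 D6123 (iv D5718) (iv F14311)
theorem F19203 : act 3 n6123 = n4635 := d20_1 D6123 (iv D4635) (iv F14312)
def n6124 : Q := act 7 n4627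
theorem D6124 : act 7 n4627 = n6124 := rfl
theorem F19204 : act 0 n6124 = n4628 := d6_1 D6124 (iv D4628) (iv F14315)
def n6125 : Q := act 3 n4628
theorem D6125 : act 3 n4628 = n6125 := rfl
theorem F19205 : act 7 n6125 = n4647 := d21_2 D4628 D6125 (iv D4647) (iv D3352) (iv F10282)
def n6126 : Q := act 5 n4629
theorem D6126 : act 5 n4629 = n6126 := rfl
theorem F19206 : act 0 n6126 = n4639 := d4_1 D6126 (iv D4639) (iv F14317)
theorem F19207 : act 2 n6126 = n4630 := d15_1 D6126 (iv D4630) D4629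
theorem F19208 : act 3 n6126 = n6126 := d19_1 D6126 (iv D6126) F14319
def n6127 : Q := act 7 n4629
theorem D6127 : act 7 n4629 = n6127 := rfl
theorem F19209 : act 0 n6127 = n4640 := d6_1 D6127 (iv D4640) (iv F14317)
theorem F19210 : act 1 n6127 = n6127 := d12_1 D6127 (iv D6127) F14318
theorem F19211 : act 2 n6127 = n4631 := d17_1 D6127 (iv D4631) D4629
def n6128 : Q := act 1 n4630
theorem D6128 : act 1 n4630 = n6128 := rfl
theorem F19212 : act 0 n6128 = n4638 := d0_1 D6128 (iv D4638) F10292 (iv F10296) (iv F14320)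
theorem F19213 : act 3 n6128 = n4632 := d8_2 (iv F14321) D6128 (iv D4632)
theorem F19214 : act 5 n6128 = n4666 := d10_2 D4630 D6128 (iv D4666) (iv D3370) (iv F10284)
theorem F19215 : act 7 n5847 = n6128 := d26_0 F19214 F14422 D5847
def n6129 : Q := act 6 n4630
theorem D6129 : act 6 n4630 = n6129 := rfl
theorem F19216 : act 0 n6129 = n4641 := d5_1 D6129 (iv D4641) (iv F14320)
theorem F19217 : act 3 n6129 = n4633 := d20_1 D6129 (iv D4633) (iv F14321)
def n6130 : Q := act 7 n4630
theorem D6130 : act 7 n4630 = n6130 := rfl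
theorem F19218 : act 0 n6130 = n4642 := d6_1 D6130 (iv D4642) (iv F14320)
theorem F19219 : act 1 n6130 = n5847 := d12_1 D6130 F19215 (iv D6128)
theorem F19220 : act 3 n6130 = n5856 := d21_1 D6130 (iv F18331) F13953 (iv F10288) (iv F14321)
theorem F19221 : act 4 n6130 = n6128 := d24_1 D6130 (iv F19215) F18304
theorem F19222 : act 5 n6130 = n4631 := d26_1 D6130 (iv D4631) D4630
def n6131 : Q := act 6 n4631
theorem D6131 : act 6 n4631 = n6131 := rfl
theorem F19223 : act 0 n6131 = n4643 := d5_1 D6131 (iv D4643) (iv F14322)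
theorem F19224 : act 1 n6131 = n4668 := d11_1 D6131 (iv D4668) (iv F14323)
theorem F19225 : act 3 n6131 = n5871 := d20_1 D6131 F18378 (iv F14324)
theorem F19226 : act 7 n6131 = n5669 := d27_2 D4631 D6131 (iv D5669) F12981 F10314
def n6132 : Q := act 2 n4632
theorem D6132 : act 2 n4632 = n6132 := rfl
theorem F19227 : act 1 n6132 = n6132 := d7_1 D6132 (iv D6132) (iv D4632) F10286 D4632
theorem F19228 : act 4 n6132 = n4634 := d14_2 (iv F14325) D6132 (iv D4634)
theorem F19229 : act 5 n6132 = n4669 := d15_2 (iv F14326) D6132 (iv D4669)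
theorem F19230 : act 7 n6132 = n6005 := d17_2 (iv F14327) D6132 (iv D6005)
def n6133 : Q := act 6 n4632
theorem D6133 : act 6 n4632 = n6133 := rfl
theorem F19231 : act 1 n6133 = n4633 := d11_1 D6133 (iv D4633) D4632
theorem F19232 : act 4 n6133 = n4635 := d23_1 D6133 (iv D4635) (iv F14325)
def n6134 : Q := act 7 n4633
theorem D6134 : act 7 n4633 = n6134 := rfl
theorem F19233 : act 0 n6134 = n4645 := d6_1 D6134 (iv D4645) (iv F14328)
theorem F19234 : act 2 n6134 = n6134 := d17_1 D6134 (iv D6134) F14329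
theorem F19235 : act 4 n6134 = n4637 := d24_1 D6134 (iv D4637) (iv F14330)
theorem F19236 : act 6 n6134 = n6003 := d27_1 D6134 (iv D6003) F13986 (iv F10288) D4633
def n6135 : Q := act 6 n4634
theorem D6135 : act 6 n4634 = n6135 := rfl
theorem F19237 : act 1 n6135 = n6135 := d11_1 D6135 (iv D6135) F14331
theorem F19238 : act 2 n6135 = n4635 := d16_1 D6135 (iv D4635) D4634
theorem F19239 : act 3 n6135 = n5727 := d20_1 D6135 (iv D5727) (iv F14332)
def n6136 : Q := act 5 n4635
theorem D6136 : act 5 n4635 = n6136 := rfl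
theorem F19240 : act 6 n6136 = n4674 := d25_2 D4635 D6136 (iv D4674) (iv D3375) (iv F10289)
def n6137 : Q := act 7 n4635
theorem D6137 : act 7 n4635 = n6137 := rfl
theorem F19241 : act 1 n6137 = n4637 := d12_1 D6137 (iv D4637) (iv F14334)
def n6138 : Q := act 1 n4636
theorem D6138 : act 1 n4636 = n6138 := rfl
theorem F19242 : act 6 n6138 = n4638 := d11_2 (iv F14337) D6138 (iv D4638)
def n6139 : Q := act 7 n4636
theorem D6139 : act 7 n4636 = n6139 := rfl
theorem F19243 : act 0 n6139 = n4646 := d6_1 D6139 (iv D4646) (iv F14335)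
theorem F19244 : act 2 n6139 = n6139 := d17_1 D6139 (iv D6139) F14336
theorem F19245 : act 5 n6139 = n4637 := d26_1 D6139 (iv D4637) D4636
def n6140 : Q := act 3 n4637
theorem D6140 : act 3 n4637 = n6140 := rfl
theorem F19246 : act 0 n6140 = n4647 := d2_1 D6140 (iv D4647) (iv F14338)
def n6141 : Q := act 2 n4638
theorem D6141 : act 2 n4638 = n6141 := rfl
theorem F19247 : act 1 n6141 = n6141 := d7_1 D6141 (iv D6141) (iv D4638) F10293 D4638
theorem F19248 : act 5 n6141 = n4677 := d15_2 (iv F14340) D6141 (iv D4677)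
theorem F19249 : act 7 n6141 = n5835 := d17_2 (iv F14341) D6141 F18266
def n6142 : Q := act 6 n4639
theorem D6142 : act 6 n4639 = n6142 := rfl
theorem F19250 : act 1 n6142 = n6142 := d11_1 D6142 (iv D6142) F14342
theorem F19251 : act 2 n6142 = n4641 := d16_1 D6142 (iv D4641) (iv F14343)
theorem F19252 : act 3 n6142 = n6142 := d20_1 D6142 (iv D6142) F14344
def n6143 : Q := act 7 n4639
theorem D6143 : act 7 n4639 = n6143 := rfl
theorem F19253 : act 1 n6143 = n6143 := d12_1 D6143 (iv D6143) F14342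
theorem F19254 : act 2 n6143 = n4642 := d17_1 D6143 (iv D4642) (iv F14343)
theorem F19255 : act 4 n6143 = n6141 := d24_1 D6143 F19249 F18267
theorem F19256 : act 5 n6143 = n4640 := d26_1 D6143 (iv D4640) D4639
def n6144 : Q := act 3 n4640
theorem D6144 : act 3 n4640 = n6144 := rfl
theorem F19257 : act 1 n6144 = n4651 := d8_1 D6144 (iv D4651) (iv F14345)
theorem F19258 : act 7 n6144 = n6144 := d21_2 D4640 D6144 (iv D6144) (iv D4640) F10295
def n6145 : Q := act 6 n4640
theorem D6145 : act 6 n4640 = n6145 := rfl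
theorem F19259 : act 1 n6145 = n4652 := d11_1 D6145 (iv D4652) (iv F14345)
theorem F19260 : act 2 n6145 = n4643 := d16_1 D6145 (iv D4643) (iv F14346)
def n6146 : Q := act 7 n4641
theorem D6146 : act 7 n4641 = n6146 := rfl
theorem F19261 : act 1 n6146 = n4646 := d12_1 D6146 (iv D4646) (iv F14347)
def n6147 : Q := act 6 n4642
theorem D6147 : act 6 n4642 = n6147 := rfl
theorem F19262 : act 1 n6147 = n4649 := d11_1 D6147 (iv D4649) (iv F14349)
theorem F19263 : act 4 n6147 = n6138 := d23_1 D6147 F19242 (iv F14350)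
def n6148 : Q := act 5 n4643
theorem D6148 : act 5 n4643 = n6148 := rfl
def n6149 : Q := act 7 n4644
theorem D6149 : act 7 n4644 = n6149 := rfl
theorem F19264 : act 2 n6149 = n6149 := d17_1 D6149 (iv D6149) F14353
theorem F19265 : act 4 n6149 = n4646 := d24_1 D6149 (iv D4646) (iv F14354)
theorem F19266 : act 5 n6149 = n4645 := d26_1 D6149 (iv D4645) D4644
theorem F19267 : act 6 n6149 = n6139 := d27_1 D6149 (iv D6139) F14337 (iv F10303) (iv F14355)
def n6150 : Q := act 3 n4645
theorem D6150 : act 3 n4645 = n6150 := rfl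
def n6151 : Q := act 3 n4646
theorem D6151 : act 3 n4646 = n6151 := rfl
theorem F19268 : act 5 n6151 = n4647 := d19_2 (iv F14359) D6151 (iv D4647)
def n6152 : Q := act 6 n4646
theorem D6152 : act 6 n4646 = n6152 := rfl
theorem F19269 : act 0 n6152 = n6149 := d5_1 D6152 F19267 F19243
theorem F19270 : act 2 n6152 = n6152 := d16_1 D6152 (iv D6152) F14358
theorem F19271 : act 4 n6152 = n6139 := d23_1 D6152 (iv F19267) F19265
theorem F19272 : act 5 n6152 = n6134 := d25_1 D6152 F19236 F18828 F13988 (iv F14359)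
theorem F19273 : act 7 n6152 = n4649 := d27_2 D4646 D6152 (iv D4649) (iv D3353) (iv F10305)
def n6153 : Q := act 2 n4647
theorem D6153 : act 2 n4647 = n6153 := rfl
theorem F19274 : act 3 n6153 = n6153 := d13_2 D4647 D6153 (iv D6153) (iv D4647) F10306
def n6154 : Q := act 4 n4647
theorem D6154 : act 4 n4647 = n6154 := rfl
def n6155 : Q := act 2 n4648
theorem D6155 : act 2 n4648 = n6155 := rfl
theorem F19275 : act 0 n6155 = n5833 := d1_1 D6155 F18261 (iv F14360)
theorem F19276 : act 1 n6155 = n5512 := d7_1 D6155 F17258 (iv F17231) (iv F18810) F18809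
theorem F19277 : act 3 n6155 = n6155 := d13_2 D4648 D6155 (iv D6155) (iv D4648) F10308
theorem F19278 : act 4 n6155 = n5511 := d14_2 (iv F14361) D6155 F17252
theorem F19279 : act 5 n6155 = n4650 := d15_2 (iv F14362) D6155 (iv D4650)
theorem F19280 : act 7 n6155 = n5515 := d17_2 F17777 D6155 (iv F17774)
def n6156 : Q := act 6 n4648
theorem D6156 : act 6 n4648 = n6156 := rfl
theorem F19281 : act 0 n6156 = n5848 := d5_1 D6156 (iv D5848) (iv F14360)
theorem F19282 : act 3 n6156 = n4649 := d20_1 D6156 (iv D4649) D4648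
theorem F19283 : act 4 n6156 = n5846 := d23_1 D6156 (iv D5846) (iv F14361)
theorem F19284 : act 5 n6156 = n6129 := d25_1 D6156 (iv D6129) (iv D4630) (iv F10314) (iv F14362)
def n6157 : Q := act 4 n4651
theorem D6157 : act 4 n4651 = n6157 := rfl
theorem F19285 : act 0 n6157 = n6157 := d3_1 D6157 (iv D6157) F14372
theorem F19286 : act 2 n6157 = n6157 := d14_1 D6157 (iv D6157) F14373
theorem F19287 : act 5 n6157 = n6157 := d22_2 F14374 D6157 (iv D6157)
theorem F19288 : act 7 n6157 = n6157 := d24_2 F14375 D6157 (iv D6157)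
def n6158 : Q := act 6 n4651
theorem D6158 : act 6 n4651 = n6158 := rfl
theorem F19289 : act 0 n6158 = n6158 := d5_1 D6158 (iv D6158) F14372
theorem F19290 : act 2 n6158 = n6158 := d16_1 D6158 (iv D6158) F14373
theorem F19291 : act 3 n6158 = n4652 := d20_1 D6158 (iv D4652) D4651
def n6159 : Q := act 5 n4652
theorem D6159 : act 5 n4652 = n6159 := rfl
theorem F19292 : act 0 n6159 = n6159 := d4_1 D6159 (iv D6159) F14376
theorem F19293 : act 2 n6159 = n4653 := d15_1 D6159 (iv D4653) (iv F14377)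
theorem F19294 : act 6 n6159 = n6159 := d25_2 D4652 D6159 (iv D6159) (iv D4652) F10319
def n6160 : Q := act 0 n4655
theorem D6160 : act 0 n4655 = n6160 := rfl
def n6161 : Q := act 2 n4655
theorem D6161 : act 2 n4655 = n6161 := rfl
theorem F19295 : act 1 n6161 = n4657 := d7_1 D6161 (iv D4657) (iv D3361) (iv F10332) D4655
theorem F19296 : act 4 n6161 = n5474 := d14_2 (iv F17116) D6161 F17137
theorem F19297 : act 5 n6161 = n5543 := d15_2 (iv F17474) D6161 (iv F17471)
theorem F19298 : act 7 n6161 = n5472 := d17_2 F17149 D6161 (iv F17147)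
def n6162 : Q := act 2 n4656
theorem D6162 : act 2 n4656 = n6162 := rfl
theorem F19299 : act 0 n6162 = n4657 := d1_1 D6162 (iv D4657) D4656
theorem F19300 : act 4 n6162 = n5463 := d14_2 (iv F14386) D6162 F17100
theorem F19301 : act 5 n6162 = n4796 := d15_2 (iv F14387) D6162 (iv D4796)
theorem F19302 : act 7 n6162 = n5461 := d17_2 (iv F14388) D6162 F17094
def n6163 : Q := act 3 n4657
theorem D6163 : act 3 n4657 = n6163 := rfl
theorem F19303 : act 2 n6163 = n4659 := d13_1 D6163 (iv D4659) (iv D3363) (iv F10333) D4657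
theorem F19304 : act 5 n6163 = n4797 := d19_2 (iv F14390) D6163 (iv D4797)
theorem F19305 : act 7 n6163 = n5739 := d21_2 (iv F14391) D6163 F17981 F13241 (iv F12579)
def n6164 : Q := act 1 n4658
theorem D6164 : act 1 n4658 = n6164 := rfl
theorem F19306 : act 4 n6164 = n4661 := d9_2 (iv F14393) D6164 (iv D4661)
theorem F19307 : act 7 n6164 = n6164 := d12_2 F14395 D6164 (iv D6164)
def n6165 : Q := act 3 n4658
theorem D6165 : act 3 n4658 = n6165 := rfl
theorem F19308 : act 0 n6165 = n4659 := d2_1 D6165 (iv D4659) (iv F14392)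
theorem F19309 : act 5 n6165 = n4799 := d19_2 (iv F14394) D6165 (iv D4799)
def n6166 : Q := act 4 n4659
theorem D6166 : act 4 n4659 = n6166 := rfl
theorem F19310 : act 1 n6166 = n4717 := d9_1 D6166 (iv F18527) F18526
theorem F19311 : act 3 n6166 = n4663 := d18_1 D6166 (iv D4663) (iv D3367) (iv F10340) D4659
theorem F19312 : act 5 n6166 = n4800 := d22_2 (iv F14396) D6166 (iv D4800)
theorem F19313 : act 6 n6166 = n5918 := d23_2 F14576 D6166 F18527
def n6167 : Q := act 7 n4659
theorem D6167 : act 7 n4659 = n6167 := rfl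
theorem F19314 : act 2 n6167 = n5739 := d17_1 D6167 (iv F19305) F19303
theorem F19315 : act 3 n6167 = n6167 := d21_1 D6167 (iv D6167) (iv D4659) F10342 D4659
theorem F19316 : act 5 n6167 = n4801 := d26_1 D6167 (iv D4801) (iv F14396)
theorem F19317 : act 6 n6167 = n6059 := d30_6 D1078 D1592 D2335 D3363 D4659 D6167 (iv D6059) (iv F18530) F18531 F18532 (iv F18538) F18537 (iv D5920) (iv F18165) F18166 F14130 F10159 (iv D2471) (iv D1694) (iv D1153) (iv D786) (iv D535) (iv D316) F577 F576 (iv F899) F900 (iv F1619) D726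
def n6168 : Q := act 3 n4661
theorem D6168 : act 3 n4661 = n6168 := rfl
theorem F19318 : act 0 n6168 = n4713 := d2_1 D6168 (iv F18511) F18510
theorem F19319 : act 1 n6168 = n4662 := d8_1 D6168 (iv D4662) D4661
theorem F19320 : act 6 n6168 = n5914 := d20_2 F14563 D6168 F18511
theorem F19321 : act 7 n4870 = n6168 := d12_0 F19319 (iv F14407) (iv F15057)
def n6169 : Q := act 5 n4661
theorem D6169 : act 5 n4661 = n6169 := rfl
theorem F19322 : act 1 n6169 = n4807 := d10_1 D6169 (iv D4807) (iv D3483) (iv F10351) D4661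
theorem F19323 : act 7 n6169 = n6169 := d26_2 F14402 D6169 (iv D6169)
def n6170 : Q := act 4 n4662
theorem D6170 : act 4 n4662 = n6170 := rfl
theorem F19324 : act 0 n6170 = n4663 := d3_1 D6170 (iv D4663) (iv F14403)
theorem F19325 : act 2 n6170 = n5685 := d14_1 D6170 F17819 (iv F14404)
theorem F19326 : act 5 n6170 = n4808 := d22_2 (iv F14405) D6170 (iv D4808)
theorem F19327 : act 6 n6170 = n5915 := d23_2 (iv F14406) D6170 (iv D5915)
theorem F19328 : act 7 n6170 = n4874 := d24_2 F14407 D6170 (iv D4874)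
def n6171 : Q := act 6 n4664
theorem D6171 : act 6 n4664 = n6171 := rfl
theorem F19329 : act 1 n6171 = n4811 := d11_1 D6171 (iv D4811) (iv F14413)
theorem F19330 : act 2 n6171 = n4665 := d16_1 D6171 (iv D4665) D4664
theorem F19331 : act 3 n6171 = n5733 := d20_1 D6171 (iv D5733) F14416
def n6172 : Q := act 5 n4665
theorem D6172 : act 5 n4665 = n6172 := rfl
theorem F19332 : act 3 n6172 = n4674 := d19_1 D6172 (iv D4674) (iv F14418)
def n6173 : Q := act 2 n4666
theorem D6173 : act 2 n4666 = n6173 := rfl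
theorem F19333 : act 0 n6173 = n4677 := d1_1 D6173 (iv D4677) (iv F14419)
theorem F19334 : act 1 n6173 = n6173 := d7_1 D6173 (iv D6173) (iv D4666) F10363 D4666
theorem F19335 : act 4 n6173 = n6127 := d14_2 (iv F14421) D6173 F19211
theorem F19336 : act 7 n6173 = n5832 := d17_2 (iv F14422) D6173 F18259
def n6174 : Q := act 6 n4666
theorem D6174 : act 6 n4666 = n6174 := rfl
theorem F19337 : act 0 n6174 = n4676 := d5_1 D6174 F14453 (iv F14419)
theorem F19338 : act 1 n6174 = n4667 := d11_1 D6174 (iv D4667) D4666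
theorem F19339 : act 3 n6174 = n4670 := d20_1 D6174 (iv D4670) (iv F14420)
theorem F19340 : act 4 n6174 = n6131 := d23_1 D6174 (iv D6131) (iv F14421)
theorem F19341 : act 7 n6174 = n5840 := d27_2 (iv F14422) D6174 (iv D5840) F13524 D4382
def n6175 : Q := act 3 n4669
theorem D6175 : act 3 n4669 = n6175 := rfl
theorem F19342 : act 1 n6175 = n4678 := d8_1 D6175 (iv D4678) (iv F14434)
def n6176 : Q := act 6 n4669
theorem D6176 : act 6 n4669 = n6176 := rfl
theorem F19343 : act 1 n6176 = n4679 := d11_1 D6176 (iv D4679) (iv F14434)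
theorem F19344 : act 2 n6176 = n4670 := d16_1 D6176 (iv D4670) D4669
theorem F19345 : act 4 n6176 = n4673 := d23_1 D6176 (iv D4673) (iv F14435)
def n6177 : Q := act 5 n4670
theorem D6177 : act 5 n4670 = n6177 := rfl
theorem F19346 : act 1 n6177 = n6148 := d10_1 D6177 (iv D6148) F14352 (iv F10376) (iv F14437)
theorem F19347 : act 4 n6177 = n4674 := d22_1 D6177 (iv D4674) (iv F14438)
def n6178 : Q := act 7 n4670
theorem D6178 : act 7 n4670 = n6178 := rfl
theorem F19348 : act 1 n6178 = n4671 := d12_1 D6178 (iv D4671) (iv F14437)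
theorem F19349 : act 4 n6178 = n4675 := d24_1 D6178 (iv D4675) (iv F14438)
theorem F19350 : act 6 n6178 = n5678 := d27_1 D6178 (iv D5678) F12995 (iv F10372) D4670
def n6179 : Q := act 4 n4672
theorem D6179 : act 4 n4672 = n6179 := rfl
theorem F19351 : act 1 n6179 = n4683 := d9_1 D6179 (iv D4683) (iv F14444)
theorem F19352 : act 2 n6179 = n5729 := d14_1 D6179 F17952 (iv F14445)
theorem F19353 : act 5 n6179 = n5725 := d22_2 (iv F14446) D6179 F17937
theorem F19354 : act 7 n6179 = n5724 := d24_2 F14447 D6179 F17933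
def n6180 : Q := act 6 n4672
theorem D6180 : act 6 n4672 = n6180 := rfl
theorem F19355 : act 1 n6180 = n4684 := d11_1 D6180 (iv D4684) (iv F14444)
theorem F19356 : act 2 n6180 = n5733 := d16_1 D6180 (iv D5733) (iv F14445)
theorem F19357 : act 3 n6180 = n4673 := d20_1 D6180 (iv D4673) D4672
def n6181 : Q := act 5 n4673
theorem D6181 : act 5 n4673 = n6181 := rfl
theorem F19358 : act 2 n6181 = n4674 := d15_1 D6181 (iv D4674) (iv F14449)
def n6182 : Q := act 7 n4673
theorem D6182 : act 7 n4673 = n6182 := rfl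
theorem F19359 : act 1 n6182 = n4687 := d12_1 D6182 (iv D4687) (iv F14448)
theorem F19360 : act 2 n6182 = n4675 := d17_1 D6182 (iv D4675) (iv F14449)
theorem F19361 : act 6 n6182 = n6117 := d27_1 D6182 F19193 (iv D6015) F14040 D4673
def n6183 : Q := act 1 n4674
theorem D6183 : act 1 n4674 = n6183 := rfl
theorem F19362 : act 4 n6183 = n6148 := d9_2 F19347 D6183 (iv F19346)
theorem F19363 : act 5 n6183 = n4676 := d10_2 D4674 D6183 (iv D4676) (iv D3376) (iv F10378)
theorem F19364 : act 7 n5844 = n6183 := d26_0 F19363 F14454 D5844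
def n6184 : Q := act 7 n4674
theorem D6184 : act 7 n4674 = n6184 := rfl
theorem F19365 : act 1 n6184 = n5844 := d12_1 D6184 F19364 (iv D6183)
theorem F19366 : act 5 n6184 = n4675 := d26_1 D6184 (iv D4675) D4674
def n6185 : Q := act 2 n4676
theorem D6185 : act 2 n4676 = n6185 := rfl
theorem F19367 : act 1 n6185 = n4690 := d7_1 D6185 (iv D4690) (iv D3389) (iv F10380) D4676
theorem F19368 : act 4 n6185 = n6145 := d14_2 (iv F14452) D6185 F19260
theorem F19369 : act 6 n6185 = n4677 := d16_2 (iv F14453) D6185 (iv D4677)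
theorem F19370 : act 7 n6185 = n5826 := d17_2 (iv F14454) D6185 F18244
def n6186 : Q := act 3 n4677
theorem D6186 : act 3 n4677 = n6186 := rfl
theorem F19371 : act 1 n6186 = n4691 := d8_1 D6186 (iv D4691) (iv F14455)
def n6187 : Q := act 4 n4678
theorem D6187 : act 4 n4678 = n6187 := rfl
theorem F19372 : act 0 n6187 = n4692 := d3_1 D6187 (iv D4692) (iv F14458)
theorem F19373 : act 2 n6187 = n6187 := d14_1 D6187 (iv D6187) F14459
theorem F19374 : act 3 n6187 = n4683 := d18_1 D6187 (iv D4683) (iv D3385) (iv F10406) D4678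
theorem F19375 : act 5 n6187 = n6187 := d22_2 F14460 D6187 (iv D6187)
def n6188 : Q := act 6 n4678
theorem D6188 : act 6 n4678 = n6188 := rfl
theorem F19376 : act 0 n6188 = n4693 := d5_1 D6188 (iv D4693) (iv F14458)
theorem F19377 : act 2 n6188 = n6188 := d16_1 D6188 (iv D6188) F14459
theorem F19378 : act 3 n6188 = n4679 := d20_1 D6188 (iv D4679) D4678
def n6189 : Q := act 7 n4678
theorem D6189 : act 7 n4678 = n6189 := rfl
theorem F19379 : act 0 n6189 = n4694 := d6_1 D6189 (iv D4694) (iv F14458)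
theorem F19380 : act 2 n6189 = n6189 := d17_1 D6189 (iv D6189) F14459
theorem F19381 : act 3 n6189 = n6008 := d21_1 D6189 (iv D6008) (iv D4523) (iv F10408) D4678
theorem F19382 : act 5 n6189 = n6189 := d26_1 D6189 (iv D6189) F14460
def n6190 : Q := act 5 n4679
theorem D6190 : act 5 n4679 = n6190 := rfl
theorem F19383 : act 0 n6190 = n4695 := d4_1 D6190 (iv D4695) (iv F14461)
theorem F19384 : act 2 n6190 = n4680 := d15_1 D6190 (iv D4680) (iv F14462)
theorem F19385 : act 4 n6190 = n4686 := d22_1 D6190 (iv D4686) (iv F14463)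
theorem F19386 : act 6 n6190 = n6190 := d25_2 D4679 D6190 (iv D6190) (iv D4679) F10407
def n6191 : Q := act 7 n4679
theorem D6191 : act 7 n4679 = n6191 := rfl
theorem F19387 : act 0 n6191 = n4696 := d6_1 D6191 (iv D4696) (iv F14461)
theorem F19388 : act 2 n6191 = n4681 := d17_1 D6191 (iv D4681) (iv F14462)
theorem F19389 : act 4 n6191 = n4687 := d24_1 D6191 (iv D4687) (iv F14463)
theorem F19390 : act 6 n6191 = n5681 := d27_1 D6191 (iv D5681) F13002 (iv F10408) D4679
def n6192 : Q := act 7 n4680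
theorem D6192 : act 7 n4680 = n6192 := rfl
theorem F19391 : act 0 n6192 = n4697 := d6_1 D6192 (iv D4697) (iv F14464)
theorem F19392 : act 1 n6192 = n5830 := d12_1 D6192 F18255 (iv F14465)
theorem F19393 : act 4 n6192 = n4689 := d24_1 D6192 (iv D4689) (iv F14467)
theorem F19394 : act 5 n6192 = n4681 := d26_1 D6192 (iv D4681) D4680
def n6193 : Q := act 3 n4681
theorem D6193 : act 3 n4681 = n6193 := rfl
theorem F19395 : act 0 n6193 = n4698 := d2_1 D6193 (iv D4698) (iv F14469)
theorem F19396 : act 1 n6193 = n4682 := d8_1 D6193 (iv D4682) (iv F14470)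
theorem F19397 : act 4 n6193 = n5838 := d18_2 (iv F14471) D6193 F18279 F13520 F10428
theorem F19398 : act 6 n6193 = n5535 := d20_2 (iv F14472) D6193 F17328
theorem F19399 : act 7 n6193 = n6193 := d21_2 D4681 D6193 (iv D6193) (iv D4681) F10411
def n6194 : Q := act 6 n4683
theorem D6194 : act 6 n4683 = n6194 := rfl
theorem F19400 : act 0 n6194 = n4701 := d5_1 D6194 (iv D4701) (iv F14478)
theorem F19401 : act 2 n6194 = n4826 := d16_1 D6194 (iv D4826) (iv F14479)
theorem F19402 : act 4 n6194 = n4684 := d23_1 D6194 (iv D4684) D4683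
def n6195 : Q := act 7 n4683
theorem D6195 : act 7 n4683 = n6195 := rfl
theorem F19403 : act 0 n6195 = n4702 := d6_1 D6195 (iv D4702) (iv F14478)
theorem F19404 : act 1 n6195 = n5724 := d12_1 D6195 (iv F19354) F19351
theorem F19405 : act 2 n6195 = n4827 := d17_1 D6195 (iv D4827) (iv F14479)
theorem F19406 : act 4 n6195 = n4685 := d24_1 D6195 (iv D4685) D4683
theorem F19407 : act 5 n6195 = n6195 := d26_1 D6195 (iv D6195) F14480
def n6196 : Q := act 5 n4684
theorem D6196 : act 5 n4684 = n6196 := rfl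
theorem F19408 : act 0 n6196 = n4703 := d4_1 D6196 (iv D4703) (iv F14481)
theorem F19409 : act 2 n6196 = n4828 := d15_1 D6196 (iv D4828) (iv F14482)
theorem F19410 : act 3 n6196 = n4686 := d19_1 D6196 (iv D4686) (iv F14483)
theorem F19411 : act 6 n6196 = n6196 := d25_2 D4684 D6196 (iv D6196) (iv D4684) F10419
def n6197 : Q := act 7 n4684
theorem D6197 : act 7 n4684 = n6197 := rfl
theorem F19412 : act 0 n6197 = n4704 := d6_1 D6197 (iv D4704) (iv F14481)
theorem F19413 : act 2 n6197 = n4829 := d17_1 D6197 (iv D4829) (iv F14482)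
def n6198 : Q := act 6 n4685
theorem D6198 : act 6 n4685 = n6198 := rfl
theorem F19414 : act 0 n6198 = n4705 := d5_1 D6198 (iv D4705) (iv F14484)
theorem F19415 : act 1 n6198 = n5726 := d11_1 D6198 (iv D5726) (iv F14485)
theorem F19416 : act 2 n6198 = n4830 := d16_1 D6198 (iv D4830) (iv F14486)
def n6199 : Q := act 1 n4686
theorem D6199 : act 1 n4686 = n6199 := rfl
theorem F19417 : act 6 n6199 = n6199 := d11_2 F14490 D6199 (iv D6199)
def n6200 : Q := act 7 n4686
theorem D6200 : act 7 n4686 = n6200 := rfl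
theorem F19418 : act 0 n6200 = n4707 := d6_1 D6200 (iv D4707) (iv F14488)
theorem F19419 : act 2 n6200 = n4689 := d17_1 D6200 (iv D4689) (iv F14489)
theorem F19420 : act 5 n6200 = n4687 := d26_1 D6200 (iv D4687) D4686
def n6201 : Q := act 3 n4687
theorem D6201 : act 3 n4687 = n6201 := rfl
theorem F19421 : act 0 n6201 = n4708 := d2_1 D6201 (iv D4708) (iv F14491)
theorem F19422 : act 2 n6201 = n5845 := d13_1 D6201 (iv D5845) (iv D4380) F10428 (iv F14492)
theorem F19423 : act 6 n6201 = n6118 := d20_2 (iv F14493) D6201 (iv D6118)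
def n6202 : Q := act 2 n4688
theorem D6202 : act 2 n4688 = n6202 := rfl
theorem F19424 : act 0 n6202 = n6202 := d1_1 D6202 (iv D6202) F14494
theorem F19425 : act 4 n6202 = n6159 := d14_2 (iv F14496) D6202 F19293
theorem F19426 : act 5 n6202 = n4690 := d15_2 (iv F14497) D6202 (iv D4690)
theorem F19427 : act 6 n6202 = n6202 := d16_2 F14498 D6202 (iv D6202)
theorem F19428 : act 7 n6202 = n5829 := d17_2 F14499 D6202 F18252
def n6203 : Q := act 6 n4689
theorem D6203 : act 6 n4689 = n6203 := rfl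
theorem F19429 : act 0 n6203 = n4710 := d5_1 D6203 (iv D4710) (iv F14500)
theorem F19430 : act 1 n6203 = n5823 := d11_1 D6203 F18235 (iv F14501)
theorem F19431 : act 3 n6203 = n5824 := d20_1 D6203 F18238 F14503
theorem F19432 : act 5 n6203 = n6090 := d25_1 D6203 F19134 F14266 (iv F10427) (iv F14502)
theorem F19433 : act 7 n6203 = n6203 := d27_2 D4689 D6203 (iv D6203) (iv D4689) F10424
def n6204 : Q := act 3 n4690
theorem D6204 : act 3 n4690 = n6204 := rfl
theorem F19434 : act 0 n6204 = n6204 := d2_1 D6204 (iv D6204) F14504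
theorem F19435 : act 2 n6204 = n4840 := d13_1 D6204 (iv D4840) (iv D3508) (iv F10430) D4690
theorem F19436 : act 6 n6204 = n4691 := d20_2 (iv F14506) D6204 (iv D4691)
def n6205 : Q := act 4 n4691
theorem D6205 : act 4 n4691 = n6205 := rfl
theorem F19437 : act 0 n6205 = n6205 := d3_1 D6205 (iv D6205) F14508
theorem F19438 : act 2 n6205 = n4844 := d14_1 D6205 (iv D4844) (iv F14509)
theorem F19439 : act 3 n6205 = n6157 := d18_1 D6205 (iv D6157) (iv D4651) (iv F10435) D4691
theorem F19440 : act 5 n6205 = n6205 := d22_2 F14510 D6205 (iv D6205)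
def n6206 : Q := act 7 n4691
theorem D6206 : act 7 n4691 = n6206 := rfl
theorem F19441 : act 0 n6206 = n6206 := d6_1 D6206 (iv D6206) F14508
theorem F19442 : act 2 n6206 = n4845 := d17_1 D6206 (iv D4845) (iv F14509)
theorem F19443 : act 3 n6206 = n5334 := d21_1 D6206 (iv D5334) F12167 (iv F10437) D4691
theorem F19444 : act 5 n6206 = n6206 := d26_1 D6206 (iv D6206) F14510
def n6207 : Q := act 6 n4692
theorem D6207 : act 6 n4692 = n6207 := rfl
theorem F19445 : act 2 n6207 = n6207 := d16_1 D6207 (iv D6207) F14511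
theorem F19446 : act 3 n6207 = n4701 := d20_1 D6207 (iv D4701) (iv F14512)
theorem F19447 : act 4 n6207 = n4693 := d23_1 D6207 (iv D4693) D4692
def n6208 : Q := act 7 n4692
theorem D6208 : act 7 n4692 = n6208 := rfl
theorem F19448 : act 2 n6208 = n6208 := d17_1 D6208 (iv D6208) F14511
theorem F19449 : act 4 n6208 = n4694 := d24_1 D6208 (iv D4694) D4692
theorem F19450 : act 5 n6208 = n6208 := d26_1 D6208 (iv D6208) F14513
def n6209 : Q := act 5 n4693
theorem D6209 : act 5 n4693 = n6209 := rfl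
theorem F19451 : act 2 n6209 = n6209 := d15_1 D6209 (iv D6209) F14514
theorem F19452 : act 3 n6209 = n4695 := d19_1 D6209 (iv D4695) (iv F14515)
theorem F19453 : act 6 n6209 = n6209 := d25_2 D4693 D6209 (iv D6209) (iv D4693) F10444
def n6210 : Q := act 7 n4693
theorem D6210 : act 7 n4693 = n6210 := rfl
theorem F19454 : act 2 n6210 = n6210 := d17_1 D6210 (iv D6210) F14514
def n6211 : Q := act 6 n4694
theorem D6211 : act 6 n4694 = n6211 := rfl
theorem F19455 : act 2 n6211 = n6211 := d16_1 D6211 (iv D6211) F14516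
def n6212 : Q := act 1 n4695
theorem D6212 : act 1 n4695 = n6212 := rfl
theorem F19456 : act 2 n6212 = n6212 := d7_2 (iv F14518) D6212 (iv D6212) F14518 F10447
theorem F19457 : act 4 n6212 = n4706 := d9_2 (iv F14519) D6212 (iv D4706)
theorem F19458 : act 6 n6212 = n6212 := d11_2 F14520 D6212 (iv D6212)
def n6213 : Q := act 7 n4695
theorem D6213 : act 7 n4695 = n6213 := rfl
theorem F19459 : act 2 n6213 = n4697 := d17_1 D6213 (iv D4697) (iv F14518)
theorem F19460 : act 4 n6213 = n4707 := d24_1 D6213 (iv D4707) (iv F14519)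
theorem F19461 : act 5 n6213 = n4696 := d26_1 D6213 (iv D4696) D4695
def n6214 : Q := act 3 n4696
theorem D6214 : act 3 n4696 = n6214 := rfl
def n6215 : Q := act 3 n4697
theorem D6215 : act 3 n4697 = n6215 := rfl
theorem F19462 : act 1 n6215 = n6215 := d8_1 D6215 (iv D6215) F14523
theorem F19463 : act 5 n6215 = n4698 := d19_2 (iv F14525) D6215 (iv D4698)
theorem F19464 : act 7 n6215 = n6215 := d21_2 D4697 D6215 (iv D6215) (iv D4697) F10448
def n6216 : Q := act 6 n4697
theorem D6216 : act 6 n4697 = n6216 := rfl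
theorem F19465 : act 1 n6216 = n6216 := d11_1 D6216 (iv D6216) F14523
theorem F19466 : act 4 n6216 = n4710 := d23_1 D6216 (iv D4710) (iv F14524)
theorem F19467 : act 7 n6216 = n6216 := d27_2 D4697 D6216 (iv D6216) (iv D4697) F10450
def n6217 : Q := act 2 n4698
theorem D6217 : act 2 n4698 = n6217 := rfl
theorem F19468 : act 7 n6217 = n6217 := d17_2 F14527 D6217 (iv D6217)
def n6218 : Q := act 4 n4698
theorem D6218 : act 4 n4698 = n6218 := rfl
theorem F19469 : act 0 n6218 = n5838 := d3_1 D6218 (iv F19397) F19395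
theorem F19470 : act 1 n6218 = n4700 := d9_1 D6218 (iv D4700) (iv F14526)
theorem F19471 : act 3 n6218 = n4712 := d18_1 D6218 (iv D4712) (iv D3403) (iv F10452) D4698
theorem F19472 : act 6 n6218 = n6107 := d23_2 (iv F17112) D6218 F19175
theorem F19473 : act 7 n6218 = n6218 := d24_2 F14527 D6218 (iv D6218)
def n6219 : Q := act 1 n4699
theorem D6219 : act 1 n4699 = n6219 := rfl
theorem F19474 : act 3 n6219 = n6102 := d8_2 F18478 D6219 F19167
theorem F19475 : act 7 n6219 = n6219 := d12_2 F14530 D6219 (iv D6219)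
def n6220 : Q := act 4 n4699
theorem D6220 : act 4 n4699 = n6220 := rfl
theorem F19476 : act 0 n6220 = n4716 := d3_1 D6220 (iv D4716) (iv F14528)
theorem F19477 : act 2 n6220 = n4700 := d14_1 D6220 (iv D4700) D4699
theorem F19478 : act 5 n6220 = n6220 := d22_2 F14529 D6220 (iv D6220)
theorem F19479 : act 6 n6220 = n6162 := d23_2 (iv F17102) D6220 F19300
theorem F19480 : act 7 n6220 = n6220 := d24_2 F14530 D6220 (iv D6220)
def n6221 : Q := act 5 n4701
theorem D6221 : act 5 n4701 = n6221 := rfl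
theorem F19482 : act 4 n6221 = n4703 := d22_1 D6221 (iv D4703) (iv F14537)
def n6222 : Q := act 7 n4701
theorem D6222 : act 7 n4701 = n6222 := rfl
theorem F19484 : act 2 n6222 = n4851 := d17_1 D6222 (iv D4851) (iv F14536)
theorem F19485 : act 4 n6222 = n4704 := d24_1 D6222 (iv D4704) (iv F14537)
def n6223 : Q := act 3 n4702
theorem D6223 : act 3 n4702 = n6223 := rfl
theorem F19486 : act 5 n6223 = n6223 := d19_2 F14540 D6223 (iv D6223)
def n6224 : Q := act 6 n4702
theorem D6224 : act 6 n4702 = n6224 := rfl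
theorem F19487 : act 2 n6224 = n4853 := d16_1 D6224 (iv D4853) (iv F14538)
theorem F19488 : act 4 n6224 = n4705 := d23_1 D6224 (iv D4705) (iv F14539)
def n6225 : Q := act 1 n4703
theorem D6225 : act 1 n4703 = n6225 := rfl
theorem F19489 : act 3 n6225 = n4706 := d8_2 (iv F14542) D6225 (iv D4706)
def n6226 : Q := act 7 n4703
theorem D6226 : act 7 n4703 = n6226 := rfl
theorem F19491 : act 2 n6226 = n4855 := d17_1 D6226 (iv D4855) (iv F14541)
theorem F19492 : act 5 n6226 = n4704 := d26_1 D6226 (iv D4704) D4703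
def n6227 : Q := act 3 n4704
theorem D6227 : act 3 n4704 = n6227 := rfl
theorem F19493 : act 7 n6227 = n4708 := d21_2 D4704 D6227 (iv D4708) (iv D3401) (iv F10459)
def n6228 : Q := act 6 n4704
theorem D6228 : act 6 n4704 = n6228 := rfl
theorem F19494 : act 2 n6228 = n4857 := d16_1 D6228 (iv D4857) (iv F14544)
theorem F19495 : act 7 n6228 = n4705 := d27_2 D4704 D6228 (iv D4705) (iv D3399) D3398
def n6229 : Q := act 5 n4705
theorem D6229 : act 5 n4705 = n6229 := rfl
theorem F19496 : act 2 n6229 = n4858 := d15_1 D6229 (iv D4858) (iv F14545)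
theorem F19497 : act 6 n6229 = n6229 := d25_2 D4705 D6229 (iv D6229) (iv D4705) F10461
def n6230 : Q := act 0 n4706
theorem D6230 : act 0 n4706 = n6230 := rfl
theorem F19498 : act 2 n6230 = n6230 := d1_2 F14546 D6230 (iv D6230)
theorem F19499 : act 6 n6230 = n6230 := d5_2 F14547 D6230 (iv D6230)
def n6231 : Q := act 7 n4706
theorem D6231 : act 7 n4706 = n6231 := rfl
theorem F19500 : act 1 n6231 = n4707 := d12_1 D6231 (iv D4707) D4706
theorem F19501 : act 2 n6231 = n6231 := d17_1 D6231 (iv D6231) F14546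
def n6232 : Q := act 3 n4707
theorem D6232 : act 3 n4707 = n6232 := rfl
theorem F19502 : act 5 n6232 = n4708 := d19_2 (iv F14549) D6232 (iv D4708)
def n6233 : Q := act 6 n4707
theorem D6233 : act 6 n4707 = n6233 := rfl
theorem F19503 : act 2 n6233 = n4710 := d16_1 D6233 (iv D4710) (iv F14548)
theorem F19504 : act 7 n6233 = n6233 := d27_2 D4707 D6233 (iv D6233) (iv D4707) F10463
def n6234 : Q := act 2 n4708
theorem D6234 : act 2 n4708 = n6234 := rfl
theorem F19505 : act 0 n6234 = n5845 := d1_1 D6234 (iv F19422) F19421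
theorem F19506 : act 3 n6234 = n4711 := d13_2 D4708 D6234 (iv D4711) (iv D3403) (iv F10464)
theorem F19507 : act 6 n6234 = n6120 := d16_2 F18933 D6234 F19199
def n6235 : Q := act 4 n4708
theorem D6235 : act 4 n4708 = n6235 := rfl
def n6236 : Q := act 2 n4709
theorem D6236 : act 2 n4709 = n6236 := rfl
theorem F19508 : act 0 n6236 = n5831 := d1_1 D6236 (iv D5831) (iv F14550)
theorem F19509 : act 5 n6236 = n4711 := d15_2 (iv F14552) D6236 (iv D4711)
theorem F19510 : act 7 n6236 = n4865 := d17_2 (iv F14553) D6236 (iv D4865)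
def n6237 : Q := act 4 n4709
theorem D6237 : act 4 n4709 = n6237 := rfl
theorem F19511 : act 0 n6237 = n5821 := d3_1 D6237 F18228 (iv F14550)
theorem F19512 : act 1 n6237 = n6237 := d9_1 D6237 (iv D6237) F14551
theorem F19513 : act 5 n6237 = n4712 := d22_2 (iv F14552) D6237 (iv D4712)
theorem F19514 : act 7 n6237 = n4866 := d24_2 (iv F14553) D6237 (iv D4866)
def n6238 : Q := act 6 n4709
theorem D6238 : act 6 n4709 = n6238 := rfl
theorem F19515 : act 0 n6238 = n5824 := d5_1 D6238 F18238 (iv F14550)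
theorem F19516 : act 1 n6238 = n6238 := d11_1 D6238 (iv D6238) F14551
theorem F19517 : act 3 n6238 = n4710 := d20_1 D6238 (iv D4710) D4709
theorem F19518 : act 5 n6238 = n6091 := d25_1 D6238 F19139 F14271 (iv F10469) (iv F14552)
def n6239 : Q := act 1 n4711
theorem D6239 : act 1 n4711 = n6239 := rfl
theorem F19519 : act 2 n6239 = n4713 := d7_2 D4711 D6239 (iv D4713) (iv D3404) (iv F10468)
theorem F19520 : act 6 n6239 = n6119 := d11_2 (iv F14557) D6239 (iv D6119)
theorem F19521 : act 7 n6239 = n4868 := d12_2 (iv F14558) D6239 (iv D4868)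
def n6240 : Q := act 4 n4711
theorem D6240 : act 4 n4711 = n6240 := rfl
theorem F19522 : act 0 n6240 = n5839 := d3_1 D6240 F18282 (iv F14556)
theorem F19523 : act 2 n6240 = n4712 := d14_1 D6240 (iv D4712) D4711
theorem F19524 : act 6 n6240 = n6109 := d23_2 (iv F14557) D6240 F19178
theorem F19525 : act 7 n6240 = n4869 := d24_2 (iv F14558) D6240 (iv D4869)
def n6241 : Q := act 4 n4713
theorem D6241 : act 4 n4713 = n6241 := rfl
theorem F19526 : act 1 n6241 = n4714 := d9_1 D6241 (iv D4714) D4713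
theorem F19527 : act 6 n6241 = n6164 := d23_2 (iv F14563) D6241 F19306
theorem F19528 : act 7 n6241 = n4871 := d24_2 (iv F14564) D6241 (iv D4871)
def n6242 : Q := act 5 n4713
theorem D6242 : act 5 n4713 = n6242 := rfl
theorem F19530 : act 7 n6242 = n4872 := d26_2 (iv F14564) D6242 (iv D4872)
def n6243 : Q := act 3 n4714
theorem D6243 : act 3 n4714 = n6243 := rfl
theorem F19531 : act 0 n6243 = n4717 := d2_1 D6243 (iv D4717) (iv F14565)
theorem F19532 : act 5 n6243 = n6243 := d19_2 F14567 D6243 (iv D6243)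
theorem F19533 : act 6 n6243 = n6165 := d20_2 (iv F14568) D6243 (iv D6165)
def n6244 : Q := act 0 n4715
theorem D6244 : act 0 n4715 = n6244 := rfl
theorem F19534 : act 7 n6244 = n6244 := d6_2 F14570 D6244 (iv D6244)
def n6245 : Q := act 4 n4715
theorem D6245 : act 4 n4715 = n6245 := rfl
theorem F19535 : act 1 n6245 = n4716 := d9_1 D6245 (iv D4716) D4715
theorem F19536 : act 2 n6245 = n5574 := d14_1 D6245 F17477 F17121
theorem F19537 : act 5 n6245 = n5572 := d22_2 F17358 D6245 F17468
theorem F19538 : act 6 n6245 = n6161 := d23_2 (iv F17140) D6245 F19296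
theorem F19539 : act 7 n6245 = n6245 := d24_2 F14570 D6245 (iv D6245)
def n6246 : Q := act 3 n4716
theorem D6246 : act 3 n4716 = n6246 := rfl
theorem F19540 : act 2 n6246 = n4717 := d13_1 D6246 (iv D4717) F10486 (iv F10482) (iv F14571)
theorem F19541 : act 5 n6246 = n6246 := d19_2 F14572 D6246 (iv D6246)
theorem F19542 : act 6 n6246 = n6163 := d20_2 (iv F14573) D6246 (iv D6163)
def n6247 : Q := act 7 n4717
theorem D6247 : act 7 n4717 = n6247 := rfl
theorem F19543 : act 3 n6247 = n4876 := d21_1 D6247 (iv D4876) (iv D3532) (iv F10489) D4717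
theorem F19544 : act 5 n6247 = n6247 := d26_1 D6247 (iv D6247) F14575
def n6248 : Q := act 5 n4718
theorem D6248 : act 5 n4718 = n6248 := rfl
theorem F19545 : act 0 n6248 = n4719 := d4_1 D6248 (iv D4719) D4718
theorem F19546 : act 2 n6248 = n4720 := d15_1 D6248 (iv D4720) (iv F14578)
def n6249 : Q := act 6 n4719
theorem D6249 : act 6 n4719 = n6249 := rfl
theorem F19547 : act 2 n6249 = n4721 := d16_1 D6249 (iv D4721) (iv F14579)
def n6250 : Q := act 6 n4720
theorem D6250 : act 6 n4720 = n6250 := rfl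
theorem F19548 : act 0 n6250 = n4721 := d5_1 D6250 (iv D4721) (iv F14580)
theorem F19549 : act 3 n6250 = n6250 := d20_1 D6250 (iv D6250) F14581
def n6251 : Q := act 7 n4721
theorem D6251 : act 7 n4721 = n6251 := rfl
def n6252 : Q := act 6 n4722
theorem D6252 : act 6 n4722 = n6252 := rfl
theorem F19550 : act 0 n6252 = n4965 := d5_1 D6252 (iv D4965) (iv F14583)
theorem F19551 : act 1 n6252 = n4723 := d11_1 D6252 (iv D4723) D4722
theorem F19552 : act 2 n6252 = n5380 := d16_1 D6252 F16817 (iv F15202)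
theorem F19553 : act 3 n6252 = n6252 := d20_1 D6252 (iv D6252) F14584
theorem F19554 : act 4 n6252 = n5171 := d23_1 D6252 (iv D5171) (iv F14585)
theorem F19555 : act 7 n6252 = n5370 := d27_2 (iv F14586) D6252 F16784 (iv F12300) F11367
theorem F19556 : act 5 n6252 = n5371 := d31_6 F11693 D5167 F16035 (iv F15202) D6252 F19553 (iv D5371) (iv F16771) F16769 (iv D3971) F8631 (iv D2415) D2416 F7438 F7437 F7439 D3466 (iv F14782) (iv F15951) F15950 F15305 D5109 F15815 D5122 (iv F15857) (iv F16044) F16042 F14725 F11019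
def n6253 : Q := act 0 n4724
theorem D6253 : act 0 n4724 = n6253 := rfl
theorem F19557 : act 2 n6253 = n6253 := d1_2 F14591 D6253 (iv D6253)
theorem F19558 : act 3 n6253 = n4741 := d2_2 (iv F14592) D6253 (iv D4741)
def n6254 : Q := act 4 n4724
theorem D6254 : act 4 n4724 = n6254 := rfl
theorem F19559 : act 1 n6254 = n4725 := d9_1 D6254 (iv D4725) D4724
theorem F19560 : act 2 n6254 = n6254 := d14_1 D6254 (iv D6254) F14591
theorem F19561 : act 3 n6254 = n4977 := d18_1 D6254 (iv F15436) F15435 F12040 (iv F14592)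
theorem F19562 : act 5 n4973 = n6254 := d19_0 F19561 (iv D4977) (iv F15411)
def n6255 : Q := act 5 n4724
theorem D6255 : act 5 n4724 = n6255 := rfl
theorem F19563 : act 1 n6255 = n4974 := d10_1 D6255 F15414 F11299 F11285 D4724
theorem F19564 : act 2 n6255 = n6255 := d15_1 D6255 (iv D6255) F14591
theorem F19565 : act 3 n6255 = n4742 := d19_1 D6255 (iv D4742) (iv F14592)
theorem F19566 : act 4 n6255 = n4973 := d22_1 D6255 F19562 (iv D6254)
theorem F19567 : act 7 n6255 = n6254 := d26_2 F15412 D6255 (iv F19562)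
theorem F19568 : act 6 n6255 = n5263 := d29_4 D2377 D3414 D4724 D6255 (iv D5263) (iv D3872) (iv D2720) (iv D1850) (iv D1246) (iv D841) (iv D567) (iv D357) (iv D194) (iv D105) (iv D55) F117 F118 D54 D103 F366 F1420 D186 F627 D343 D547 D804 D1182 F3748 D1626
def n6256 : Q := act 6 n4724
theorem D6256 : act 6 n4724 = n6256 := rfl
theorem F19569 : act 1 n6256 = n4726 := d11_1 D6256 (iv D4726) D4724
theorem F19570 : act 2 n6256 = n6256 := d16_1 D6256 (iv D6256) F14591
theorem F19571 : act 3 n6256 = n4743 := d20_1 D6256 (iv D4743) (iv F14592)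
theorem F19572 : act 5 n6256 = n5264 := d25_1 D6256 (iv D5264) D5263 (iv F19568) (iv D6255)
def n6257 : Q := act 6 n4725
theorem D6257 : act 6 n4725 = n6257 := rfl
theorem F19573 : act 2 n6257 = n4727 := d16_1 D6257 (iv D4727) (iv F14593)
theorem F19574 : act 3 n6257 = n5024 := d20_1 D6257 (iv D5024) (iv F14594)
theorem F19575 : act 4 n6257 = n4726 := d23_1 D6257 (iv D4726) D4725
theorem F19576 : act 7 n6257 = n4878 := d27_2 F15415 D6257 (iv D4878) (iv F14654) (iv F15416)
def n6258 : Q := act 5 n4728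
theorem D6258 : act 5 n4728 = n6258 := rfl
theorem F19577 : act 0 n6258 = n4729 := d4_1 D6258 (iv D4729) (iv F14602)
theorem F19578 : act 2 n6258 = n6258 := d15_1 D6258 (iv D6258) F14603
theorem F19579 : act 3 n6258 = n6034 := d19_1 D6258 F18936 (iv F14604)
theorem F19580 : act 4 n6258 = n5205 := d22_1 D6258 (iv D5205) (iv F14605)
theorem F19581 : act 6 n6258 = n6258 := d25_2 D4728 D6258 (iv D6258) (iv D4728) F10514
def n6259 : Q := act 1 n4729
theorem D6259 : act 1 n4729 = n6259 := rfl
theorem F19582 : act 4 n6259 = n4966 := d9_2 (iv F14607) D6259 F15384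
theorem F19583 : act 5 n6259 = n4732 := d10_2 D4729 D6259 (iv D4732) (iv D3421) (iv F10516)
theorem F19584 : act 6 n6259 = n6259 := d11_2 F14608 D6259 (iv D6259)
theorem F19585 : act 7 n6259 = n5191 := d12_2 F15299 D6259 F16127
def n6260 : Q := act 1 n4730
theorem D6260 : act 1 n4730 = n6260 := rfl
theorem F19586 : act 3 n6260 = n4732 := d8_2 (iv F14610) D6260 (iv D4732)
theorem F19587 : act 4 n6260 = n5114 := d9_2 (iv F14611) D6260 F15827
theorem F19588 : act 6 n6260 = n4737 := d11_2 (iv F14612) D6260 (iv D4737)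
theorem F19589 : act 7 n6260 = n5111 := d12_2 (iv F14613) D6260 F15819
def n6261 : Q := act 0 n4732
theorem D6261 : act 0 n4732 = n6261 := rfl
theorem F19590 : act 6 n6261 = n4739 := d5_2 (iv F14619) D6261 (iv D4739)
def n6262 : Q := act 2 n4732
theorem D6262 : act 2 n4732 = n6262 := rfl
theorem F19591 : act 1 n6262 = n4751 := d7_1 D6262 (iv D4751) (iv D3433) (iv F10520) D4732
theorem F19592 : act 6 n6262 = n4740 := d16_2 (iv F14619) D6262 (iv D4740)
def n6263 : Q := act 0 n4737
theorem D6263 : act 0 n4737 = n6263 := rfl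
theorem F19593 : act 3 n6263 = n4739 := d2_2 (iv F14639) D6263 (iv D4739)
theorem F19594 : act 5 n6263 = n6263 := d4_2 F14640 D6263 (iv D6263)
def n6264 : Q := act 2 n4737
theorem D6264 : act 2 n4737 = n6264 := rfl
theorem F19595 : act 5 n6264 = n6264 := d15_2 F14640 D6264 (iv D6264)
def n6265 : Q := act 7 n4737
theorem D6265 : act 7 n4737 = n6265 := rfl
theorem F19596 : act 1 n6265 = n4738 := d12_1 D6265 (iv D4738) D4737
theorem F19597 : act 3 n6265 = n6265 := d21_1 D6265 (iv D6265) F14639 F10531 (iv F14639)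
theorem F19598 : act 4 n6265 = n5104 := d24_1 D6265 (iv F16517) F16514
theorem F19599 : act 5 n6265 = n6265 := d26_1 D6265 (iv D6265) F14640
theorem F19600 : act 6 n6265 = n4791 := d27_1 D6265 F14806 D5111 (iv F19589) F19588
theorem F19601 : act 2 n4793 = n6265 := d16_3 F19600 (iv D4791) D4793
theorem F19602 : act 7 n6264 = n4793 := d17_0 F19601 (iv D6265) D6264
def n6266 : Q := act 2 n4739
theorem D6266 : act 2 n4739 = n6266 := rfl
theorem F19603 : act 0 n6266 = n4740 := d1_1 D6266 (iv D4740) D4739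
theorem F19604 : act 5 n6266 = n6266 := d15_2 F14646 D6266 (iv D6266)
theorem F19605 : act 7 n6266 = n6266 := d17_2 F14647 D6266 (iv D6266)
def n6267 : Q := act 3 n4740
theorem D6267 : act 3 n4740 = n6267 := rfl
theorem F19606 : act 1 n6267 = n4757 := d8_1 D6267 (iv D4757) (iv F14648)
theorem F19607 : act 5 n6267 = n6267 := d19_2 F14649 D6267 (iv D6267)
def n6268 : Q := act 5 n4741
theorem D6268 : act 5 n4741 = n6268 := rfl
theorem F19608 : act 0 n6268 = n4742 := d4_1 D6268 (iv D4742) D4741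
theorem F19609 : act 2 n6268 = n4759 := d15_1 D6268 (iv D4759) (iv F14651)
theorem F19610 : act 7 n6268 = n4877 := d26_2 (iv F14652) D6268 (iv D4877)
theorem F19611 : act 1 n5627 = n6268 := d7_5 F19609 F14699 F13866 (iv F12909) (iv F17632)
theorem F19612 : act 6 n5625 = n6268 := d16_0 F19609 (iv F14702) (iv F17623)
def n6269 : Q := act 6 n4741
theorem D6269 : act 6 n4741 = n6269 := rfl
theorem F19613 : act 0 n6269 = n4743 := d5_1 D6269 (iv D4743) D4741
theorem F19614 : act 2 n6269 = n4760 := d16_1 D6269 (iv D4760) (iv F14651)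
def n6270 : Q := act 1 n4744
theorem D6270 : act 1 n4744 = n6270 := rfl
theorem F19615 : act 2 n6270 = n5011 := d7_2 (iv F14657) D6270 F15538 F14663 (iv D4745)
theorem F19616 : act 3 n6270 = n5266 := d8_2 (iv F16449) D6270 (iv F16446)
theorem F19617 : act 5 n6270 = n5009 := d10_2 D4744 D6270 (iv F15559) F15562 F14655
theorem F19618 : act 6 n6270 = n5284 := d11_2 F16384 D6270 F16446
theorem F19619 : act 7 n6270 = n5024 := d12_2 F15592 D6270 F15593
def n6271 : Q := act 0 n4745
theorem D6271 : act 0 n4745 = n6271 := rfl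
theorem F19620 : act 2 n6271 = n5036 := d1_2 F14663 D6271 F15619
theorem F19621 : act 3 n6271 = n4746 := d2_2 (iv F14658) D6271 (iv D4746)
theorem F19622 : act 4 n6271 = n4939 := d3_2 (iv F14659) D6271 F15284
theorem F19623 : act 5 n6271 = n4762 := d4_2 (iv F14660) D6271 (iv D4762)
theorem F19624 : act 6 n6271 = n5232 := d5_2 (iv F14661) D6271 F16277
theorem F19625 : act 7 n6271 = n4938 := d6_2 (iv F14662) D6271 F15279
def n6272 : Q := act 2 n4746
theorem D6272 : act 2 n4746 = n6272 := rfl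
theorem F19626 : act 0 n6272 = n4747 := d1_1 D6272 (iv D4747) D4746
theorem F19627 : act 4 n6272 = n4756 := d14_2 (iv F14664) D6272 (iv D4756)
theorem F19628 : act 5 n6272 = n4763 := d15_2 (iv F14665) D6272 (iv D4763)
theorem F19629 : act 7 n6272 = n6272 := d17_2 F14666 D6272 (iv D6272)
def n6273 : Q := act 3 n4747
theorem D6273 : act 3 n4747 = n6273 := rfl
theorem F19630 : act 1 n6273 = n5269 := d8_1 D6273 (iv F16519) F16518
theorem F19631 : act 2 n6273 = n5013 := d13_1 D6273 F15546 F14663 F14658 D4747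
theorem F19632 : act 5 n6273 = n4764 := d19_2 (iv F14668) D6273 (iv D4764)
theorem F19633 : act 6 n6273 = n5305 := d20_2 F16396 D6273 F16519
theorem F19634 : act 7 n6273 = n5106 := d29_9 (iv D2561) F5459 F3956 F3958 D1632 D2389 D3430 D4747 D6273 F15806 (iv D5106) (iv D3734) (iv D2613) (iv D1781) F3826 (iv F5362) F5363 D2515 F7766 (iv D1723) F3721 F2587 F1806 (iv F1436) (iv F1824) (iv F2619) (iv F3782) D1753 (iv F7909)
theorem F19635 : act 4 n6262 = n6273 := d23_3 F19633 F16520 (iv F19592)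
def n6274 : Q := act 0 n4749
theorem D6274 : act 0 n4749 = n6274 := rfl
theorem F19636 : act 1 n6274 = n6035 := d0_2 D4749 D6274 F19136 (iv D6090) F14246
theorem F19637 : act 3 n6274 = n4750 := d2_2 (iv F14674) D6274 (iv D4750)
theorem F19638 : act 5 n6274 = n6274 := d4_2 F14675 D6274 (iv D6274)
theorem F19639 : act 6 n6274 = n4754 := d5_2 (iv F14676) D6274 (iv D4754)
theorem F19640 : act 7 n6274 = n6274 := d6_2 F14677 D6274 (iv D6274)
def n6275 : Q := act 2 n4749
theorem D6275 : act 2 n4749 = n6275 := rfl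
theorem F19641 : act 5 n6275 = n6275 := d15_2 F14675 D6275 (iv D6275)
theorem F19642 : act 6 n6275 = n4755 := d16_2 (iv F14676) D6275 (iv D4755)
theorem F19643 : act 7 n6275 = n6275 := d17_2 F14677 D6275 (iv D6275)
def n6276 : Q := act 2 n4750
theorem D6276 : act 2 n4750 = n6276 := rfl
theorem F19644 : act 0 n6276 = n4751 := d1_1 D6276 (iv D4751) D4750
theorem F19645 : act 5 n6276 = n6276 := d15_2 F14678 D6276 (iv D6276)
theorem F19646 : act 6 n6276 = n4756 := d16_2 (iv F14679) D6276 (iv D4756)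
def n6277 : Q := act 3 n4751
theorem D6277 : act 3 n4751 = n6277 := rfl
theorem F19647 : act 4 n6277 = n6267 := d18_2 F16394 D6277 (iv D6267) (iv F16520) F16519
theorem F19648 : act 5 n6277 = n6277 := d19_2 F14680 D6277 (iv D6277)
theorem F19649 : act 6 n6277 = n4757 := d20_2 (iv F14681) D6277 (iv D4757)
def n6278 : Q := act 0 n4753
theorem D6278 : act 0 n4753 = n6278 := rfl
def n6279 : Q := act 2 n4753
theorem D6279 : act 2 n4753 = n6279 := rfl
theorem F19650 : act 1 n6279 = n4755 := d7_1 D6279 (iv D4755) (iv D3437) (iv F10552) D4753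
theorem F19651 : act 4 n6279 = n5113 := d14_2 F15909 D6279 (iv F15907)
theorem F19652 : act 5 n6279 = n5111 := d15_2 (iv F15990) D6279 (iv F15987)
def n6280 : Q := act 2 n4754
theorem D6280 : act 2 n4754 = n6280 := rfl
theorem F19653 : act 0 n6280 = n4755 := d1_1 D6280 (iv D4755) D4754
theorem F19654 : act 5 n6280 = n4767 := d15_2 (iv F14687) D6280 (iv D4767)
theorem F19655 : act 7 n6280 = n6034 := d17_2 (iv F14688) D6280 (iv D6034)
def n6281 : Q := act 3 n4755
theorem D6281 : act 3 n4755 = n6281 := rfl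
theorem F19656 : act 2 n6281 = n4757 := d13_1 D6281 (iv D4757) (iv D3439) (iv F10553) D4755
theorem F19657 : act 5 n6281 = n4768 := d19_2 (iv F14689) D6281 (iv D4768)
def n6282 : Q := act 1 n4756
theorem D6282 : act 1 n4756 = n6282 := rfl
theorem F19658 : act 7 n6282 = n6282 := d12_2 F14692 D6282 (iv D6282)
def n6283 : Q := act 3 n4756
theorem D6283 : act 3 n4756 = n6283 := rfl
theorem F19659 : act 0 n6283 = n4757 := d2_1 D6283 (iv D4757) (iv F14690)
theorem F19660 : act 5 n6283 = n4770 := d19_2 (iv F14691) D6283 (iv D4770)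
def n6284 : Q := act 4 n4757
theorem D6284 : act 4 n4757 = n6284 := rfl
theorem F19661 : act 1 n6284 = n6277 := d9_1 D6284 F19647 F19606
theorem F19662 : act 3 n6284 = n6262 := d18_1 D6284 F19635 (iv D6273) F14667 D4757
theorem F19663 : act 5 n6284 = n4771 := d22_2 (iv F14693) D6284 (iv D4771)
theorem F19664 : act 6 n6284 = n6267 := d23_2 F19649 D6284 (iv F19647)
def n6285 : Q := act 7 n4757
theorem D6285 : act 7 n4757 = n6285 := rfl
theorem F19665 : act 3 n6285 = n6285 := d21_1 D6285 (iv D6285) (iv D4757) F10558 D4757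
theorem F19666 : act 5 n6285 = n4772 := d26_1 D6285 (iv D4772) (iv F14693)
def n6286 : Q := act 0 n4761
theorem D6286 : act 0 n4761 = n6286 := rfl
theorem F19667 : act 1 n6286 = n4795 := d0_2 D4761 D6286 (iv D4795) (iv D3474) (iv F10574)
theorem F19668 : act 3 n6286 = n6286 := d2_2 F14706 D6286 (iv D6286)
theorem F19669 : act 4 n6286 = n4958 := d3_2 (iv F14707) D6286 F15348
theorem F19670 : act 5 n6286 = n5166 := d4_2 (iv F14708) D6286 F16030
theorem F19671 : act 6 n6286 = n6286 := d5_2 F14709 D6286 (iv D6286)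
theorem F19672 : act 7 n6286 = n4954 := d6_2 (iv F14710) D6286 F15332
def n6287 : Q := act 1 n4763
theorem D6287 : act 1 n4763 = n6287 := rfl
theorem F19673 : act 0 n6287 = n6287 := d0_1 D6287 (iv D6287) F14716 F10588 (iv F14716)
theorem F19674 : act 2 n6287 = n4798 := d7_2 D4763 D6287 (iv D4798) (iv D3477) (iv F10584)
theorem F19675 : act 4 n6287 = n4769 := d9_2 (iv F14717) D6287 (iv D4769)
theorem F19676 : act 6 n6287 = n6287 := d11_2 F14718 D6287 (iv D6287)
theorem F19677 : act 7 n6287 = n6287 := d12_2 F14719 D6287 (iv D6287)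
def n6288 : Q := act 3 n4763
theorem D6288 : act 3 n4763 = n6288 := rfl
theorem F19678 : act 0 n6288 = n4764 := d2_1 D6288 (iv D4764) (iv F14716)
theorem F19679 : act 6 n6288 = n6288 := d20_2 F14718 D6288 (iv D6288)
def n6289 : Q := act 4 n4764
theorem D6289 : act 4 n4764 = n6289 := rfl
theorem F19680 : act 1 n6289 = n6289 := d9_1 D6289 (iv D6289) F14720
theorem F19681 : act 2 n6289 = n6259 := d14_1 D6289 F19582 F15385
theorem F19682 : act 3 n6289 = n4771 := d18_1 D6289 (iv D4771) (iv D3456) (iv F10589) D4764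
theorem F19683 : act 5 n6289 = n6262 := d22_2 F19632 D6289 F19635
theorem F19684 : act 6 n6289 = n6289 := d23_2 F14721 D6289 (iv D6289)
def n6290 : Q := act 1 n4767
theorem D6290 : act 1 n4767 = n6290 := rfl
theorem F19685 : act 2 n6290 = n4803 := d7_2 D4767 D6290 (iv D4803) (iv D3481) (iv F10616)
theorem F19686 : act 6 n6290 = n6290 := d11_2 F14732 D6290 (iv D6290)
theorem F19687 : act 7 n6290 = n5713 := d12_2 (iv F14733) D6290 F17892
def n6291 : Q := act 3 n4767
theorem D6291 : act 3 n4767 = n6291 := rfl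
theorem F19688 : act 0 n6291 = n4768 := d2_1 D6291 (iv D4768) (iv F14731)
theorem F19689 : act 2 n6291 = n4770 := d13_1 D6291 (iv D4770) (iv D3455) (iv F10617) D4767
theorem F19690 : act 6 n6291 = n6291 := d20_2 F14732 D6291 (iv D6291)
def n6292 : Q := act 4 n4768
theorem D6292 : act 4 n4768 = n6292 := rfl
theorem F19691 : act 1 n6292 = n5132 := d9_1 D6292 F15894 F15790
theorem F19692 : act 2 n6292 = n4771 := d14_1 D6292 (iv D4771) (iv F14734)
theorem F19693 : act 3 n6292 = n5134 := d18_1 D6292 F15902 F11677 F11675 D4768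
theorem F19694 : act 6 n6292 = n6292 := d23_2 F14735 D6292 (iv D6292)
def n6293 : Q := act 3 n4769
theorem D6293 : act 3 n4769 = n6293 := rfl
theorem F19695 : act 0 n6293 = n6293 := d2_1 D6293 (iv D6293) F14736
theorem F19696 : act 1 n6293 = n4770 := d8_1 D6293 (iv D4770) D4769
theorem F19697 : act 6 n6293 = n6293 := d20_2 F14738 D6293 (iv D6293)
def n6294 : Q := act 5 n4769
theorem D6294 : act 5 n4769 = n6294 := rfl
theorem F19698 : act 0 n6294 = n6294 := d4_1 D6294 (iv D6294) F14736
theorem F19699 : act 2 n6294 = n4807 := d15_1 D6294 (iv D4807) (iv F14737)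
theorem F19700 : act 7 n6294 = n6294 := d26_2 F14739 D6294 (iv D6294)
def n6295 : Q := act 4 n4770
theorem D6295 : act 4 n4770 = n6295 := rfl
theorem F19701 : act 0 n6295 = n4771 := d3_1 D6295 (iv D4771) (iv F14740)
theorem F19702 : act 6 n6295 = n6295 := d23_2 F14741 D6295 (iv D6295)
def n6296 : Q := act 7 n4770
theorem D6296 : act 7 n4770 = n6296 := rfl
theorem F19703 : act 0 n6296 = n4772 := d6_1 D6296 (iv D4772) (iv F14740)
theorem F19704 : act 3 n6296 = n6296 := d21_1 D6296 (iv D6296) (iv D4770) F10623 D4770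
def n6297 : Q := act 7 n4771
theorem D6297 : act 7 n4771 = n6297 := rfl
theorem F19705 : act 1 n6297 = n6297 := d12_1 D6297 (iv D6297) F14742
theorem F19706 : act 4 n6297 = n4772 := d24_1 D6297 (iv D4772) D4771
theorem F19707 : act 3 n6297 = n5411 := d29_10 (iv D1633) (iv F5081) (iv F7349) F7352 D3419 D4729 D6259 (iv F19681) F19682 D6297 F16920 F12429 F10669 (iv D3470) F7449 F5144 F3572 F2486 (iv D765) F1718 F1470 (iv F2008) F2010 F2011 (iv F2462) F2459 F2460 D1113 (iv F5095)
theorem F19708 : act 6 n6297 = n5410 := d30_6 D3419 D4729 D6259 (iv F19681) F19682 D6297 F16916 F12420 F8730 (iv D2823) (iv D1932) F4191 F4190 (iv F5974) (iv D1919) (iv D1290) (iv F3865) D1811 D2664 F8201 (iv D2383) (iv D1629) (iv D1108) F2452 D1107 D1627 F5077 F5078 D2380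
def n6298 : Q := act 5 n4773
theorem D6298 : act 5 n4773 = n6298 := rfl
theorem F19709 : act 0 n6298 = n6298 := d4_1 D6298 (iv D6298) F14746
theorem F19710 : act 2 n6298 = n6039 := d15_1 D6298 (iv D6039) (iv F14748)
theorem F19711 : act 3 n6298 = n4777 := d19_1 D6298 (iv D4777) (iv F14749)
theorem F19712 : act 6 n6298 = n4812 := d25_2 D4773 D6298 (iv D4812) (iv D3488) (iv F10629)
def n6299 : Q := act 7 n4773
theorem D6299 : act 7 n4773 = n6299 := rfl
theorem F19713 : act 0 n6299 = n6299 := d6_1 D6299 (iv D6299) F14746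
theorem F19714 : act 1 n6299 = n4774 := d12_1 D6299 (iv D4774) (iv F14747)
theorem F19715 : act 2 n6299 = n5769 := d17_1 D6299 F18075 (iv F14748)
theorem F19716 : act 6 n6299 = n5770 := d27_1 D6299 F18079 F14057 (iv F10630) D4773
def n6300 : Q := act 3 n4774
theorem D6300 : act 3 n4774 = n6300 := rfl
theorem F19717 : act 0 n6300 = n4775 := d2_1 D6300 (iv D4775) (iv F14750)
theorem F19718 : act 7 n6300 = n4781 := d21_2 D4774 D6300 (iv D4781) (iv D3463) (iv F10632)
def n6301 : Q := act 4 n4775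
theorem D6301 : act 4 n4775 = n6301 := rfl
theorem F19719 : act 1 n6301 = n6301 := d9_1 D6301 (iv D6301) F14751
theorem F19720 : act 3 n6301 = n4915 := d18_1 D6301 F15211 F12361 F12358 D4775
theorem F19721 : act 6 n6301 = n4914 := d23_2 F16099 D6301 (iv F16097)
theorem F19722 : act 7 n6301 = n4790 := d24_2 (iv F14752) D6301 (iv D4790)
def n6302 : Q := act 5 n4776
theorem D6302 : act 5 n4776 = n6302 := rfl
theorem F19723 : act 0 n6302 = n6302 := d4_1 D6302 (iv D6302) F14753
theorem F19724 : act 2 n6302 = n4777 := d15_1 D6302 (iv D4777) (iv F14755)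
theorem F19725 : act 3 n6302 = n6045 := d19_1 D6302 (iv D6045) (iv F14756)
theorem F19726 : act 4 n6302 = n6302 := d22_1 D6302 (iv D6302) F14757
theorem F19727 : act 6 n6302 = n4815 := d25_2 D4776 D6302 (iv D4815) (iv D3490) (iv F10638)
def n6303 : Q := act 7 n4776
theorem D6303 : act 7 n4776 = n6303 := rfl
theorem F19728 : act 0 n6303 = n6303 := d6_1 D6303 (iv D6303) F14753
theorem F19729 : act 1 n6303 = n6303 := d12_1 D6303 (iv D6303) F14754
theorem F19730 : act 2 n6303 = n4778 := d17_1 D6303 (iv D4778) (iv F14755)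
theorem F19731 : act 3 n6303 = n6303 := d21_1 D6303 (iv D6303) F14756 F14154 (iv F14756)
theorem F19732 : act 4 n6303 = n6303 := d24_1 D6303 (iv D6303) F14757
theorem F19733 : act 6 n6303 = n6303 := d27_1 D6303 (iv D6303) (iv D4776) F10639 D4776
def n6304 : Q := act 1 n4777
theorem D6304 : act 1 n4777 = n6304 := rfl
theorem F19734 : act 4 n6304 = n6304 := d9_2 F14759 D6304 (iv D6304)
theorem F19735 : act 5 n6304 = n4779 := d10_2 D4777 D6304 (iv D4779) (iv D3462) (iv F10641)
theorem F19736 : act 6 n6304 = n4817 := d11_2 (iv F14760) D6304 (iv D4817)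
def n6305 : Q := act 7 n4777
theorem D6305 : act 7 n4777 = n6305 := rfl
theorem F19737 : act 0 n6305 = n6305 := d6_1 D6305 (iv D6305) F14758
theorem F19738 : act 4 n6305 = n6305 := d24_1 D6305 (iv D6305) F14759
theorem F19739 : act 5 n6305 = n4778 := d26_1 D6305 (iv D4778) D4777
def n6306 : Q := act 3 n4778
theorem D6306 : act 3 n4778 = n6306 := rfl
theorem F19740 : act 0 n6306 = n6306 := d2_1 D6306 (iv D6306) F14761
theorem F19741 : act 1 n6306 = n4781 := d8_1 D6306 (iv D4781) (iv F14762)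
theorem F19742 : act 2 n6306 = n6306 := d13_1 D6306 (iv D6306) (iv F19730) F19731 F19730
theorem F19743 : act 6 n6306 = n6306 := d20_2 F14764 D6306 (iv D6306)
def n6307 : Q := act 2 n4779
theorem D6307 : act 2 n4779 = n6307 := rfl
theorem F19744 : act 1 n6307 = n6307 := d7_1 D6307 (iv D6307) (iv D4779) F10644 D4779
theorem F19745 : act 4 n6307 = n6307 := d14_2 F14765 D6307 (iv D6307)
theorem F19746 : act 6 n6307 = n4782 := d16_2 (iv F14766) D6307 (iv D4782)
def n6308 : Q := act 7 n4779
theorem D6308 : act 7 n4779 = n6308 := rfl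
theorem F19747 : act 1 n6308 = n4780 := d12_1 D6308 (iv D4780) D4779
theorem F19748 : act 4 n6308 = n6308 := d24_1 D6308 (iv D6308) F14765
def n6309 : Q := act 3 n4780
theorem D6309 : act 3 n4780 = n6309 := rfl
theorem F19749 : act 0 n6309 = n4787 := d2_1 D6309 (iv D4787) (iv F14767)
theorem F19750 : act 5 n6309 = n4781 := d19_2 (iv F14770) D6309 (iv D4781)
def n6310 : Q := act 6 n4780
theorem D6310 : act 6 n4780 = n6310 := rfl
theorem F19751 : act 0 n6310 = n4788 := d5_1 D6310 (iv D4788) (iv F14767)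
theorem F19752 : act 2 n6310 = n6310 := d16_1 D6310 (iv D6310) F14768
theorem F19753 : act 4 n6310 = n6310 := d23_1 D6310 (iv D6310) F14769
theorem F19754 : act 5 n6310 = n6310 := d25_1 D6310 (iv D6310) F14770 F10650 (iv F14770)
theorem F19755 : act 7 n6310 = n4785 := d27_2 D4780 D6310 (iv D4785) (iv D3465) (iv F10646)
def n6311 : Q := act 2 n4781
theorem D6311 : act 2 n4781 = n6311 := rfl
theorem F19756 : act 0 n6311 = n4789 := d1_1 D6311 (iv D4789) (iv F14771)
theorem F19757 : act 1 n6311 = n6311 := d7_1 D6311 (iv D6311) (iv F19741) F19742 F19741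
theorem F19758 : act 3 n6311 = n6311 := d13_2 D4781 D6311 (iv D6311) (iv D4781) F10648
theorem F19759 : act 6 n6311 = n6311 := d16_2 F14772 D6311 (iv D6311)
def n6312 : Q := act 4 n4781
theorem D6312 : act 4 n4781 = n6312 := rfl
theorem F19760 : act 0 n6312 = n4790 := d3_1 D6312 (iv D4790) (iv F14771)
theorem F19761 : act 3 n6312 = n6312 := d18_1 D6312 (iv D6312) (iv D4781) F10649 D4781
theorem F19762 : act 6 n6312 = n6312 := d23_2 F14772 D6312 (iv D6312)
def n6313 : Q := act 3 n4782
theorem D6313 : act 3 n4782 = n6313 := rfl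
theorem F19763 : act 1 n6313 = n6313 := d8_1 D6313 (iv D6313) F14773
theorem F19764 : act 5 n6313 = n4824 := d19_2 (iv F14775) D6313 (iv D4824)
def n6314 : Q := act 7 n4782
theorem D6314 : act 7 n4782 = n6314 := rfl
theorem F19765 : act 1 n6314 = n6314 := d12_1 D6314 (iv D6314) F14773
theorem F19766 : act 2 n6314 = n4783 := d17_1 D6314 (iv D4783) D4782
theorem F19767 : act 4 n6314 = n6314 := d24_1 D6314 (iv D6314) F14774
theorem F19768 : act 5 n6314 = n4825 := d26_1 D6314 (iv D4825) (iv F14775)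
def n6315 : Q := act 6 n4783
theorem D6315 : act 6 n4783 = n6315 := rfl
theorem F19769 : act 1 n6315 = n4785 := d11_1 D6315 (iv D4785) (iv F14776)
theorem F19770 : act 3 n6315 = n5754 := d20_1 D6315 F18025 F14779
theorem F19771 : act 4 n6315 = n6315 := d23_1 D6315 (iv D6315) F14777
theorem F19772 : act 5 n6315 = n5749 := d25_1 D6315 (iv D5749) (iv D4293) F10758 (iv F14778)
def n6316 : Q := act 2 n4784
theorem D6316 : act 2 n4784 = n6316 := rfl
theorem F19773 : act 0 n6316 = n4791 := d1_1 D6316 (iv D4791) (iv F14780)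
theorem F19774 : act 3 n6316 = n6316 := d13_2 D4784 D6316 (iv D6316) (iv D4784) F10654
theorem F19775 : act 4 n6316 = n5103 := d14_2 F14783 D6316 F15797
theorem F19776 : act 5 n6316 = n4786 := d15_2 (iv F14782) D6316 (iv D4786)
theorem F19777 : act 7 n6316 = n5107 := d17_2 F15951 D6316 (iv F15948)
def n6317 : Q := act 6 n4784
theorem D6317 : act 6 n4784 = n6317 := rfl
theorem F19778 : act 0 n6317 = n4793 := d5_1 D6317 (iv D4793) (iv F14780)
theorem F19779 : act 1 n6317 = n5754 := d11_1 D6317 F18025 (iv F14781)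
theorem F19780 : act 3 n6317 = n4785 := d20_1 D6317 (iv D4785) D4784
theorem F19781 : act 4 n6317 = n5923 := d23_1 D6317 (iv D5923) F14783
theorem F19782 : act 5 n6317 = n6317 := d25_1 D6317 (iv D6317) F14782 F10659 (iv F14782)
def n6318 : Q := act 2 n4787
theorem D6318 : act 2 n4787 = n6318 := rfl
theorem F19783 : act 3 n6318 = n6318 := d13_2 D4787 D6318 (iv D6318) (iv D4787) F10661
theorem F19784 : act 5 n6318 = n4789 := d15_2 (iv F14793) D6318 (iv D4789)
def n6319 : Q := act 4 n4787
theorem D6319 : act 4 n4787 = n6319 := rfl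
theorem F19785 : act 1 n6319 = n5418 := d9_1 D6319 (iv F16945) F16934
theorem F19786 : act 3 n6319 = n6319 := d18_1 D6319 (iv D6319) (iv D4787) F10662 D4787
theorem F19787 : act 5 n6319 = n4790 := d22_2 (iv F14793) D6319 (iv D4790)
def n6320 : Q := act 6 n4787
theorem D6320 : act 6 n4787 = n6320 := rfl
theorem F19788 : act 3 n6320 = n4788 := d20_1 D6320 (iv D4788) D4787
theorem F19789 : act 5 n6320 = n6320 := d25_1 D6320 (iv D6320) F14793 F10665 (iv F14793)
def n6321 : Q := act 4 n4789
theorem D6321 : act 4 n4789 = n6321 := rfl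
theorem F19790 : act 1 n6321 = n5422 := d9_1 D6321 (iv F16968) F16965
theorem F19791 : act 2 n6321 = n4790 := d14_1 D6321 (iv D4790) D4789
theorem F19792 : act 6 n6321 = n6321 := d23_2 F14799 D6321 (iv D6321)
theorem F19793 : act 3 n5424 = n6321 := d8_0 F19790 F16961 D5424
def n6322 : Q := act 6 n4792
theorem D6322 : act 6 n4792 = n6322 := rfl
theorem F19794 : act 0 n6322 = n5923 := d5_1 D6322 (iv D5923) (iv F14808)
theorem F19795 : act 1 n6322 = n4944 := d11_1 D6322 (iv D4944) (iv F14809)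
theorem F19796 : act 2 n6322 = n5104 := d16_1 D6322 (iv D5104) (iv F14810)
theorem F19797 : act 3 n6322 = n6322 := d20_1 D6322 (iv D6322) F14811
theorem F19798 : act 4 n6322 = n4793 := d23_1 D6322 (iv D4793) D4792
theorem F19799 : act 5 n6322 = n6322 := d25_1 D6322 (iv D6322) F14812 F10676 (iv F14812)
def n6323 : Q := act 1 n4796
theorem D6323 : act 1 n4796 = n6323 := rfl
theorem F19800 : act 4 n6323 = n5460 := d9_2 (iv F14829) D6323 F17091
theorem F19801 : act 6 n6323 = n6323 := d11_2 F14830 D6323 (iv D6323)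
theorem F19802 : act 7 n6323 = n5457 := d12_2 (iv F14831) D6323 F17086
def n6324 : Q := act 3 n4796
theorem D6324 : act 3 n4796 = n6324 := rfl
theorem F19803 : act 0 n6324 = n4797 := d2_1 D6324 (iv D4797) (iv F14828)
theorem F19804 : act 2 n6324 = n4799 := d13_1 D6324 (iv D4799) (iv D3477) (iv F10684) D4796
theorem F19805 : act 6 n6324 = n6324 := d20_2 F14830 D6324 (iv D6324)
theorem F19806 : act 7 n6324 = n5736 := d21_2 (iv F14831) D6324 F17973 F13227 (iv F12531)
def n6325 : Q := act 4 n4797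
theorem D6325 : act 4 n4797 = n6325 := rfl
theorem F19807 : act 1 n6325 = n5559 := d9_1 D6325 F17415 F17333
theorem F19808 : act 2 n6325 = n4800 := d14_1 D6325 (iv D4800) (iv F14832)
theorem F19809 : act 3 n6325 = n5476 := d18_1 D6325 (iv D5476) (iv D4050) (iv F10688) D4797
theorem F19810 : act 6 n6325 = n6325 := d23_2 F14833 D6325 (iv D6325)
theorem F19811 : act 7 n6325 = n5722 := d24_2 (iv F14834) D6325 F17925
def n6326 : Q := act 3 n4798
theorem D6326 : act 3 n4798 = n6326 := rfl
theorem F19812 : act 0 n6326 = n6326 := d2_1 D6326 (iv D6326) F14835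
theorem F19813 : act 1 n6326 = n4799 := d8_1 D6326 (iv D4799) D4798
theorem F19814 : act 6 n6326 = n6326 := d20_2 F14837 D6326 (iv D6326)
def n6327 : Q := act 5 n4798
theorem D6327 : act 5 n4798 = n6327 := rfl
theorem F19815 : act 0 n6327 = n6327 := d4_1 D6327 (iv D6327) F14835
theorem F19816 : act 4 n6327 = n4807 := d22_1 D6327 (iv D4807) (iv F14836)
theorem F19817 : act 7 n6327 = n6327 := d26_2 F14838 D6327 (iv D6327)
def n6328 : Q := act 4 n4799
theorem D6328 : act 4 n4799 = n6328 := rfl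
theorem F19818 : act 0 n6328 = n4800 := d3_1 D6328 (iv D4800) (iv F14839)
theorem F19819 : act 3 n6328 = n4808 := d18_1 D6328 (iv D4808) (iv D3484) (iv F10692) D4799
theorem F19820 : act 6 n6328 = n6328 := d23_2 F14840 D6328 (iv D6328)
def n6329 : Q := act 7 n4799
theorem D6329 : act 7 n4799 = n6329 := rfl
theorem F19821 : act 0 n6329 = n4801 := d6_1 D6329 (iv D4801) (iv F14839)
theorem F19822 : act 2 n6329 = n5736 := d17_1 D6329 (iv F19806) F19804
theorem F19823 : act 3 n6329 = n6329 := d21_1 D6329 (iv D6329) (iv D4799) F10694 D4799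
theorem F19824 : act 6 n5735 = n6329 := d16_0 F19822 (iv D5736) D5735
def n6330 : Q := act 7 n4800
theorem D6330 : act 7 n4800 = n6330 := rfl
theorem F19825 : act 1 n6330 = n6330 := d12_1 D6330 (iv D6330) F14841
theorem F19826 : act 2 n6330 = n5722 := d17_1 D6330 (iv F19811) F19808
theorem F19827 : act 4 n6330 = n4801 := d24_1 D6330 (iv D4801) D4800
theorem F19828 : act 3 n6330 = n5797 := d29_10 (iv D1466) (iv F4351) (iv F6071) F6074 D2848 D4039 (iv F14859) F14860 (iv F14842) D6330 F18163 F13430 F10953 (iv D3558) F7675 F5307 F3681 F2568 (iv D793) F1790 (iv F1485) (iv F2234) F2236 F2237 (iv F2282) F2279 F2280 D1017 (iv F4623)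
theorem F19829 : act 6 n6330 = n5721 := d30_6 D2848 D4039 (iv F14859) F14860 (iv F14842) D6330 F17921 F13419 F9833 (iv D3188) (iv D2206) F4733 F4732 (iv F6620) (iv D2137) (iv D1444) (iv F4317) F4316 D1968 F6953 (iv D2246) (iv D1527) (iv D1030) F2308 (iv F2989) (iv F4216) F4217 F4218 D1945
def n6331 : Q := act 1 n4802
theorem D6331 : act 1 n4802 = n6331 := rfl
theorem F19830 : act 0 n6331 = n4803 := d0_1 D6331 (iv D4803) F10704 (iv F10699) (iv F14848)
theorem F19831 : act 3 n6331 = n5449 := d8_2 F14852 D6331 (iv D5449)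
theorem F19832 : act 6 n6331 = n6331 := d11_2 F14850 D6331 (iv D6331)
theorem F19833 : act 7 n6331 = n5712 := d12_2 (iv F14851) D6331 F17888
def n6332 : Q := act 3 n4803
theorem D6332 : act 3 n4803 = n6332 := rfl
theorem F19834 : act 0 n6332 = n5449 := d2_1 D6332 (iv F19831) F19830
theorem F19835 : act 1 n6332 = n4804 := d8_1 D6332 (iv D4804) D4803
theorem F19836 : act 6 n6332 = n6332 := d20_2 F14853 D6332 (iv D6332)
def n6333 : Q := act 5 n4803
theorem D6333 : act 5 n4803 = n6333 := rfl
theorem F19837 : act 1 n6333 = n5711 := d10_1 D6333 F17887 F13130 (iv F10705) D4803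
theorem F19838 : act 7 n6333 = n5710 := d26_2 (iv F14854) D6333 F17886
def n6334 : Q := act 4 n4804
theorem D6334 : act 4 n4804 = n6334 := rfl
theorem F19839 : act 0 n6334 = n4805 := d3_1 D6334 (iv D4805) (iv F14855)
theorem F19840 : act 2 n6334 = n4808 := d14_1 D6334 (iv D4808) (iv F14856)
theorem F19841 : act 5 n6334 = n5685 := d22_2 (iv F14857) D6334 F17819
theorem F19842 : act 6 n6334 = n6334 := d23_2 F14858 D6334 (iv D6334)
def n6335 : Q := act 2 n4806
theorem D6335 : act 2 n4806 = n6335 := rfl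
theorem F19843 : act 0 n6335 = n6335 := d1_1 D6335 (iv D6335) F14863
theorem F19844 : act 6 n6335 = n6335 := d16_2 F14865 D6335 (iv D6335)
def n6336 : Q := act 4 n4806
theorem D6336 : act 4 n4806 = n6336 := rfl
theorem F19845 : act 0 n6336 = n6336 := d3_1 D6336 (iv D6336) F14863
theorem F19846 : act 1 n6336 = n4808 := d9_1 D6336 (iv D4808) (iv F14864)
theorem F19847 : act 6 n6336 = n6336 := d23_2 F14865 D6336 (iv D6336)
def n6337 : Q := act 5 n4806
theorem D6337 : act 5 n4806 = n6337 := rfl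
theorem F19848 : act 0 n6337 = n6337 := d4_1 D6337 (iv D6337) F14863
theorem F19849 : act 3 n6337 = n4807 := d19_1 D6337 (iv D4807) D4806
def n6338 : Q := act 7 n4806
theorem D6338 : act 7 n4806 = n6338 := rfl
theorem F19850 : act 0 n6338 = n6338 := d6_1 D6338 (iv D6338) F14863
theorem F19851 : act 1 n6338 = n4809 := d12_1 D6338 (iv D4809) (iv F14864)
theorem F19852 : act 3 n6338 = n6338 := d21_1 D6338 (iv D6338) (iv D4806) F10714 D4806
def n6339 : Q := act 6 n4807
theorem D6339 : act 6 n4807 = n6339 := rfl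
theorem F19853 : act 0 n6339 = n6339 := d5_1 D6339 (iv D6339) F14866
theorem F19854 : act 5 n6339 = n6339 := d25_1 D6339 (iv D6339) (iv D4807) F10713 D4807
def n6340 : Q := act 7 n4808
theorem D6340 : act 7 n4808 = n6340 := rfl
theorem F19855 : act 0 n6340 = n4810 := d6_1 D6340 (iv D4810) (iv F14868)
theorem F19856 : act 4 n6340 = n4809 := d24_1 D6340 (iv D4809) D4808
theorem F19857 : act 5 n6340 = n4874 := d26_1 D6340 (iv F19328) F19326
def n6341 : Q := act 3 n4810
theorem D6341 : act 3 n4810 = n6341 := rfl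
theorem F19858 : act 1 n6341 = n6341 := d8_1 D6341 (iv D6341) F14873
theorem F19859 : act 4 n6341 = n6341 := d18_2 (iv F14874) D6341 (iv D6341) F14874 F10720
theorem F19860 : act 5 n6341 = n4875 := d19_2 (iv F14875) D6341 (iv D4875)
theorem F19861 : act 6 n6341 = n5796 := d20_2 F18193 D6341 F18195
theorem F19862 : act 7 n6341 = n5797 := d21_2 D4810 D6341 (iv F19828) (iv D6330) F14842
theorem F19863 : act 2 n6341 = n5801 := d29_1 D6341 F18176 F15163 (iv D4903) F10947 F7669 F7670 D3556 F14132 F14130 (iv F12849) F12848 F9072 (iv D2939) F6243 (iv F7676) D3559 F10955 (iv F12794) (iv F17386) (iv D5552) F12749 F8994 D4116 D5559 (iv F19807) F19808 F14842 D4810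
def n6342 : Q := act 5 n4811
theorem D6342 : act 5 n4811 = n6342 := rfl
theorem F19864 : act 0 n6342 = n6342 := d4_1 D6342 (iv D6342) F14876
theorem F19865 : act 2 n6342 = n4812 := d15_1 D6342 (iv D4812) (iv F14877)
theorem F19866 : act 3 n6342 = n6052 := d19_1 D6342 (iv D6052) (iv F14878)
theorem F19867 : act 6 n6342 = n6039 := d25_2 D4811 D6342 (iv D6039) (iv D4556) (iv F10723)
def n6343 : Q := act 6 n4813
theorem D6343 : act 6 n4813 = n6343 := rfl
theorem F19868 : act 0 n6343 = n6343 := d5_1 D6343 (iv D6343) F14881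
theorem F19869 : act 1 n6343 = n4826 := d11_1 D6343 (iv D4826) (iv F14882)
theorem F19870 : act 2 n6343 = n6048 := d16_1 D6343 (iv D6048) (iv F14883)
theorem F19871 : act 3 n6343 = n6343 := d20_1 D6343 (iv D6343) F14884
theorem F19872 : act 4 n6343 = n4814 := d23_1 D6343 (iv D4814) D4813
def n6344 : Q := act 5 n4814
theorem D6344 : act 5 n4814 = n6344 := rfl
theorem F19873 : act 0 n6344 = n6344 := d4_1 D6344 (iv D6344) F14887
theorem F19874 : act 2 n6344 = n6052 := d15_1 D6344 (iv D6052) (iv F14889)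
theorem F19875 : act 3 n6344 = n4815 := d19_1 D6344 (iv D4815) (iv F14890)
theorem F19876 : act 6 n6344 = n6045 := d25_2 D4814 D6344 (iv D6045) (iv D4564) (iv F10732)
def n6345 : Q := act 7 n4814
theorem D6345 : act 7 n4814 = n6345 := rfl
theorem F19877 : act 0 n6345 = n6345 := d6_1 D6345 (iv D6345) F14887
theorem F19878 : act 1 n6345 = n4829 := d12_1 D6345 (iv D4829) (iv F14888)
theorem F19879 : act 2 n6345 = n6051 := d17_1 D6345 F19001 (iv F14889)
theorem F19880 : act 6 n6345 = n6044 := d27_1 D6345 (iv D6044) (iv D4563) F10733 D4814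
def n6346 : Q := act 1 n4815
theorem D6346 : act 1 n4815 = n6346 := rfl
theorem F19881 : act 4 n6346 = n6346 := d9_2 F14893 D6346 (iv D6346)
theorem F19882 : act 5 n6346 = n4831 := d10_2 D4815 D6346 (iv D4831) (iv D3503) (iv F10735)
def n6347 : Q := act 7 n4815
theorem D6347 : act 7 n4815 = n6347 := rfl
theorem F19883 : act 0 n6347 = n6347 := d6_1 D6347 (iv D6347) F14891
theorem F19884 : act 2 n6347 = n4818 := d17_1 D6347 (iv D4818) (iv F14892)
theorem F19885 : act 4 n6347 = n6347 := d24_1 D6347 (iv D6347) F14893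
theorem F19886 : act 5 n6347 = n4816 := d26_1 D6347 (iv D4816) D4815
def n6348 : Q := act 3 n4816
theorem D6348 : act 3 n4816 = n6348 := rfl
theorem F19887 : act 0 n6348 = n6348 := d2_1 D6348 (iv D6348) F14894
theorem F19888 : act 1 n6348 = n4833 := d8_1 D6348 (iv D4833) (iv F14895)
theorem F19889 : act 6 n6348 = n6348 := d20_2 F14898 D6348 (iv D6348)
def n6349 : Q := act 2 n4817
theorem D6349 : act 2 n4817 = n6349 := rfl
theorem F19890 : act 4 n6349 = n6349 := d14_2 F14899 D6349 (iv D6349)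
theorem F19891 : act 5 n6349 = n4820 := d15_2 (iv F14900) D6349 (iv D4820)
def n6350 : Q := act 7 n4817
theorem D6350 : act 7 n4817 = n6350 := rfl
theorem F19892 : act 1 n6350 = n4818 := d12_1 D6350 (iv D4818) D4817
theorem F19893 : act 4 n6350 = n6350 := d24_1 D6350 (iv D6350) F14899
theorem F19894 : act 5 n6350 = n4821 := d26_1 D6350 (iv D4821) (iv F14900)
def n6351 : Q := act 3 n4818
theorem D6351 : act 3 n4818 = n6351 := rfl
theorem F19895 : act 0 n6351 = n6351 := d2_1 D6351 (iv D6351) F14901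
theorem F19896 : act 5 n6351 = n4819 := d19_2 (iv F14903) D6351 (iv D4819)
def n6352 : Q := act 6 n4818
theorem D6352 : act 6 n4818 = n6352 := rfl
theorem F19897 : act 0 n6352 = n6352 := d5_1 D6352 (iv D6352) F14901
theorem F19898 : act 4 n6352 = n6352 := d23_1 D6352 (iv D6352) F14902
theorem F19899 : act 5 n6352 = n6352 := d25_1 D6352 (iv D6352) F14903 F10743 (iv F14903)
def n6353 : Q := act 2 n4819
theorem D6353 : act 2 n4819 = n6353 := rfl
theorem F19900 : act 0 n6353 = n6353 := d1_1 D6353 (iv D6353) F14904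
theorem F19901 : act 6 n6353 = n6353 := d16_2 F14906 D6353 (iv D6353)
theorem F19902 : act 7 n6353 = n5945 := d17_2 (iv F18637) D6353 (iv F18634)
def n6354 : Q := act 3 n4820
theorem D6354 : act 3 n4820 = n6354 := rfl
theorem F19903 : act 1 n6354 = n4840 := d8_1 D6354 (iv D4840) (iv F14907)
theorem F19904 : act 6 n6354 = n4824 := d20_2 (iv F14909) D6354 (iv D4824)
def n6355 : Q := act 7 n4820
theorem D6355 : act 7 n4820 = n6355 := rfl
theorem F19905 : act 0 n6355 = n5344 := d6_1 D6355 (iv F18439) F18430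
theorem F19906 : act 1 n6355 = n4841 := d12_1 D6355 (iv D4841) (iv F14907)
theorem F19907 : act 2 n6355 = n4821 := d17_1 D6355 (iv D4821) D4820
theorem F19908 : act 4 n6355 = n6355 := d24_1 D6355 (iv D6355) F14908
theorem F19909 : act 6 n6355 = n5342 := d27_1 D6355 F16664 F14926 (iv D4825) (iv F14909)
theorem F19910 : act 3 n5347 = n6355 := d20_3 F19909 F16662 D5347
def n6356 : Q := act 3 n4821
theorem D6356 : act 3 n4821 = n6356 := rfl
theorem F19911 : act 0 n6356 = n5834 := d2_1 D6356 F18449 F18444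
theorem F19912 : act 1 n6356 = n4822 := d8_1 D6356 (iv D4822) (iv F14910)
theorem F19913 : act 2 n6356 = n5846 := d13_1 D6356 F18301 (iv F16683) F19910 F19907
theorem F19914 : act 6 n6356 = n5511 := d20_2 (iv F14912) D6356 F17253
def n6357 : Q := act 1 n4823
theorem D6357 : act 1 n4823 = n6357 := rfl
theorem F19915 : act 0 n6357 = n5486 := d0_1 D6357 F17179 F12622 F10766 (iv F14917)
theorem F19916 : act 3 n6357 = n4842 := d8_2 (iv F14918) D6357 (iv D4842)
theorem F19917 : act 6 n6357 = n6357 := d11_2 F14920 D6357 (iv D6357)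
theorem F19918 : act 7 n6357 = n5479 := d12_2 (iv F14921) D6357 F17160
def n6358 : Q := act 4 n4824
theorem D6358 : act 4 n4824 = n6358 := rfl
theorem F19919 : act 1 n6358 = n4844 := d9_1 D6358 (iv D4844) (iv F14922)
theorem F19920 : act 3 n6358 = n6358 := d18_1 D6358 (iv D6358) (iv D4824) F10754 D4824
def n6359 : Q := act 7 n4824
theorem D6359 : act 7 n4824 = n6359 := rfl
theorem F19921 : act 1 n6359 = n4845 := d12_1 D6359 (iv D4845) (iv F14922)
def n6360 : Q := act 3 n4825
theorem D6360 : act 3 n4825 = n6360 := rfl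
theorem F19922 : act 1 n6360 = n4846 := d8_1 D6360 (iv D4846) (iv F14923)
theorem F19923 : act 2 n6360 = n5252 := d13_1 D6360 F16340 F11979 F10757 (iv F14924)
theorem F19924 : act 6 n6360 = n5239 := d20_2 F14926 D6360 F16303
def n6361 : Q := act 5 n4826
theorem D6361 : act 5 n4826 = n6361 := rfl
theorem F19927 : act 4 n6361 = n4828 := d22_1 D6361 (iv D4828) (iv F14929)
def n6362 : Q := act 7 n4826
theorem D6362 : act 7 n4826 = n6362 := rfl
theorem F19929 : act 0 n6362 = n4851 := d6_1 D6362 (iv D4851) (iv F14927)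
theorem F19930 : act 4 n6362 = n4829 := d24_1 D6362 (iv D4829) (iv F14929)
def n6363 : Q := act 3 n4827
theorem D6363 : act 3 n4827 = n6363 := rfl
theorem F19931 : act 0 n6363 = n4852 := d2_1 D6363 (iv D4852) (iv F14930)
theorem F19932 : act 1 n6363 = n6041 := d8_1 D6363 F18964 (iv F14931)
theorem F19933 : act 4 n6363 = n6363 := d18_2 (iv F14932) D6363 (iv D6363) F14932 F10774
theorem F19934 : act 5 n6363 = n6363 := d19_2 F14933 D6363 (iv D6363)
theorem F19935 : act 7 n6363 = n6363 := d21_2 D4827 D6363 (iv D6363) (iv D4827) F10768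
def n6364 : Q := act 6 n4827
theorem D6364 : act 6 n4827 = n6364 := rfl
theorem F19936 : act 0 n6364 = n4853 := d5_1 D6364 (iv D4853) (iv F14930)
theorem F19937 : act 1 n6364 = n6042 := d11_1 D6364 (iv D6042) (iv F14931)
theorem F19938 : act 4 n6364 = n4830 := d23_1 D6364 (iv D4830) (iv F14932)
def n6365 : Q := act 1 n4828
theorem D6365 : act 1 n4828 = n6365 := rfl
theorem F19939 : act 3 n6365 = n4831 := d8_2 (iv F14935) D6365 (iv D4831)
def n6366 : Q := act 7 n4828
theorem D6366 : act 7 n4828 = n6366 := rfl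
theorem F19941 : act 0 n6366 = n4855 := d6_1 D6366 (iv D4855) (iv F14934)
theorem F19942 : act 5 n6366 = n4829 := d26_1 D6366 (iv D4829) D4828
def n6367 : Q := act 3 n4829
theorem D6367 : act 3 n4829 = n6367 := rfl
theorem F19943 : act 0 n6367 = n4856 := d2_1 D6367 (iv D4856) (iv F14937)
theorem F19944 : act 7 n6367 = n4833 := d21_2 D4829 D6367 (iv D4833) (iv D3504) (iv F10771)
def n6368 : Q := act 6 n4829
theorem D6368 : act 6 n4829 = n6368 := rfl
theorem F19945 : act 0 n6368 = n4857 := d5_1 D6368 (iv D4857) (iv F14937)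
theorem F19946 : act 1 n6368 = n6044 := d11_1 D6368 (iv F19880) F19878
theorem F19947 : act 7 n6368 = n4830 := d27_2 D4829 D6368 (iv D4830) (iv D3502) D3501
def n6369 : Q := act 5 n4830
theorem D6369 : act 5 n4830 = n6369 := rfl
theorem F19948 : act 0 n6369 = n4858 := d4_1 D6369 (iv D4858) (iv F14938)
theorem F19949 : act 1 n6369 = n6369 := d10_1 D6369 (iv D6369) F14939 F14150 (iv F14939)
theorem F19950 : act 3 n6369 = n6369 := d19_1 D6369 (iv D6369) F14940
theorem F19951 : act 6 n6369 = n6369 := d25_2 D4830 D6369 (iv D6369) (iv D4830) F10775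
def n6370 : Q := act 0 n4831
theorem D6370 : act 0 n4831 = n6370 := rfl
theorem F19952 : act 1 n6370 = n4859 := d0_2 D4831 D6370 (iv D4859) (iv D3521) (iv F10776)
def n6371 : Q := act 2 n4831
theorem D6371 : act 2 n4831 = n6371 := rfl
theorem F19955 : act 1 n6371 = n4834 := d7_1 D6371 (iv D4834) (iv D3505) (iv F10777) D4831
theorem F19956 : act 4 n6371 = n6371 := d14_2 F14941 D6371 (iv D6371)
theorem F19957 : act 6 n6371 = n6371 := d16_2 F14942 D6371 (iv D6371)
def n6372 : Q := act 7 n4831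
theorem D6372 : act 7 n4831 = n6372 := rfl
theorem F19958 : act 1 n6372 = n4832 := d12_1 D6372 (iv D4832) D4831
theorem F19959 : act 4 n6372 = n6372 := d24_1 D6372 (iv D6372) F14941
def n6373 : Q := act 3 n4832
theorem D6373 : act 3 n4832 = n6373 := rfl
theorem F19960 : act 0 n6373 = n4861 := d2_1 D6373 (iv D4861) (iv F14943)
theorem F19961 : act 5 n6373 = n4833 := d19_2 (iv F14946) D6373 (iv D4833)
def n6374 : Q := act 6 n4832
theorem D6374 : act 6 n4832 = n6374 := rfl
theorem F19962 : act 0 n6374 = n4862 := d5_1 D6374 (iv D4862) (iv F14943)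
theorem F19963 : act 2 n6374 = n4837 := d16_1 D6374 (iv D4837) (iv F14944)
theorem F19964 : act 4 n6374 = n6374 := d23_1 D6374 (iv D6374) F14945
theorem F19965 : act 5 n6374 = n6374 := d25_1 D6374 (iv D6374) F14946 F10783 (iv F14946)
theorem F19966 : act 7 n6374 = n6374 := d27_2 D4832 D6374 (iv D6374) (iv D4832) F10779
def n6375 : Q := act 2 n4833
theorem D6375 : act 2 n4833 = n6375 := rfl
theorem F19967 : act 0 n6375 = n4863 := d1_1 D6375 (iv D4863) (iv F14947)
theorem F19968 : act 3 n6375 = n4838 := d13_2 D4833 D6375 (iv D4838) (iv D3507) (iv F10781)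
theorem F19969 : act 6 n6375 = n6375 := d16_2 F14948 D6375 (iv D6375)
def n6376 : Q := act 4 n4833
theorem D6376 : act 4 n4833 = n6376 := rfl
theorem F19970 : act 0 n6376 = n4864 := d3_1 D6376 (iv D4864) (iv F14947)
theorem F19971 : act 3 n6376 = n6376 := d18_1 D6376 (iv D6376) (iv D4833) F10782 D4833
theorem F19972 : act 6 n6376 = n6376 := d23_2 F14948 D6376 (iv D6376)
def n6377 : Q := act 3 n4834
theorem D6377 : act 3 n4834 = n6377 := rfl
theorem F19973 : act 0 n6377 = n6377 := d2_1 D6377 (iv D6377) F14949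
theorem F19974 : act 5 n6377 = n4840 := d19_2 (iv F14951) D6377 (iv D4840)
theorem F19975 : act 6 n6377 = n6377 := d20_2 F14952 D6377 (iv D6377)
def n6378 : Q := act 7 n4834
theorem D6378 : act 7 n4834 = n6378 := rfl
theorem F19976 : act 0 n6378 = n6378 := d6_1 D6378 (iv D6378) F14949
theorem F19977 : act 2 n6378 = n4835 := d17_1 D6378 (iv D4835) D4834
theorem F19978 : act 4 n6378 = n6378 := d24_1 D6378 (iv D6378) F14950
theorem F19979 : act 5 n6378 = n4841 := d26_1 D6378 (iv D4841) (iv F14951)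
def n6379 : Q := act 6 n4835
theorem D6379 : act 6 n4835 = n6379 := rfl
theorem F19980 : act 0 n6379 = n6379 := d5_1 D6379 (iv D6379) F14953
theorem F19981 : act 1 n6379 = n4837 := d11_1 D6379 (iv D4837) (iv F14954)
theorem F19982 : act 3 n6379 = n5748 := d20_1 D6379 F18007 (iv F14955)
theorem F19983 : act 4 n6379 = n6379 := d23_1 D6379 (iv D6379) F14956
theorem F19984 : act 5 n6379 = n5747 := d25_1 D6379 (iv D5747) F13260 (iv F10802) (iv F14957)
theorem F19985 : act 7 n6379 = n6379 := d27_2 D4835 D6379 (iv D6379) (iv D4835) F10787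
def n6380 : Q := act 2 n4836
theorem D6380 : act 2 n4836 = n6380 := rfl
theorem F19986 : act 0 n6380 = n4865 := d1_1 D6380 (iv D4865) (iv F14958)
theorem F19987 : act 5 n6380 = n4838 := d15_2 (iv F14960) D6380 (iv D4838)
theorem F19988 : act 7 n6380 = n5831 := d17_2 (iv F14961) D6380 (iv D5831)
def n6381 : Q := act 4 n4836
theorem D6381 : act 4 n4836 = n6381 := rfl
theorem F19989 : act 0 n6381 = n4866 := d3_1 D6381 (iv D4866) (iv F14958)
theorem F19990 : act 1 n6381 = n5746 := d9_1 D6381 F17999 (iv F14959)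
theorem F19991 : act 3 n6381 = n6381 := d18_1 D6381 (iv D6381) (iv D4836) F10789 D4836
theorem F19992 : act 5 n6381 = n4839 := d22_2 (iv F14960) D6381 (iv D4839)
theorem F19993 : act 7 n6381 = n5821 := d24_2 (iv F14961) D6381 F18228
def n6382 : Q := act 6 n4836
theorem D6382 : act 6 n4836 = n6382 := rfl
theorem F19994 : act 0 n6382 = n4867 := d5_1 D6382 (iv D4867) (iv F14958)
theorem F19995 : act 1 n6382 = n5748 := d11_1 D6382 F18007 (iv F14959)
theorem F19996 : act 3 n6382 = n4837 := d20_1 D6382 (iv D4837) D4836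
theorem F19997 : act 5 n6382 = n6382 := d25_1 D6382 (iv D6382) F14960 F10793 (iv F14960)
def n6383 : Q := act 1 n4838
theorem D6383 : act 1 n4838 = n6383 := rfl
theorem F19998 : act 2 n6383 = n4842 := d7_2 D4838 D6383 (iv D4842) (iv D3510) (iv F10792)
theorem F19999 : act 6 n6383 = n6383 := d11_2 F14967 D6383 (iv D6383)
theorem F20000 : act 7 n6383 = n5650 := d12_2 (iv F14968) D6383 F17715
def n6384 : Q := act 4 n4838
theorem D6384 : act 4 n4838 = n6384 := rfl
theorem F20001 : act 0 n6384 = n4869 := d3_1 D6384 (iv D4869) (iv F14966)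
theorem F20002 : act 2 n6384 = n4839 := d14_1 D6384 (iv D4839) D4838
theorem F20003 : act 6 n6384 = n6384 := d23_2 F14967 D6384 (iv D6384)
theorem F20004 : act 7 n6384 = n5839 := d24_2 (iv F14968) D6384 F18282
def n6385 : Q := act 4 n4840
theorem D6385 : act 4 n4840 = n6385 := rfl
theorem F20005 : act 0 n6385 = n6385 := d3_1 D6385 (iv D6385) F14974
theorem F20006 : act 3 n6385 = n6385 := d18_1 D6385 (iv D6385) (iv D4840) F10796 D4840
theorem F20007 : act 6 n6385 = n4844 := d23_2 (iv F14975) D6385 (iv D4844)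
def n6386 : Q := act 7 n4840
theorem D6386 : act 7 n4840 = n6386 := rfl
theorem F20008 : act 0 n6386 = n6386 := d6_1 D6386 (iv D6386) F14974
def n6387 : Q := act 3 n4841
theorem D6387 : act 3 n4841 = n6387 := rfl
theorem F20009 : act 0 n6387 = n6387 := d2_1 D6387 (iv D6387) F14976
theorem F20010 : act 1 n6387 = n5347 := d8_1 D6387 F19910 F19906
theorem F20011 : act 2 n6387 = n5744 := d13_1 D6387 F17993 F13250 (iv F10800) (iv F14977)
theorem F20012 : act 6 n6387 = n5346 := d20_2 (iv F14979) D6387 F16679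
def n6388 : Q := act 0 n4842
theorem D6388 : act 0 n4842 = n6388 := rfl
theorem F20013 : act 1 n6388 = n4847 := d0_2 D4842 D6388 (iv D4847) (iv D3514) (iv F10803)
theorem F20014 : act 3 n6388 = n5486 := d2_2 F19916 D6388 (iv F19915)
theorem F20015 : act 6 n6388 = n6388 := d5_2 F14980 D6388 (iv D6388)
theorem F20016 : act 7 n6388 = n5649 := d6_2 (iv F14981) D6388 (iv D5649)
def n6389 : Q := act 4 n4842
theorem D6389 : act 4 n4842 = n6389 := rfl
theorem F20017 : act 1 n6389 = n4843 := d9_1 D6389 (iv D4843) D4842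
theorem F20018 : act 6 n6389 = n6389 := d23_2 F14980 D6389 (iv D6389)
theorem F20019 : act 7 n6389 = n5642 := d24_2 (iv F14981) D6389 F17687
def n6390 : Q := act 5 n4842
theorem D6390 : act 5 n4842 = n6390 := rfl
theorem F20020 : act 1 n6390 = n5505 := d10_1 D6390 (iv D5505) F12646 (iv F10804) D4842
theorem F20021 : act 7 n6390 = n5622 := d26_2 (iv F14981) D6390 F17615
def n6391 : Q := act 3 n4843
theorem D6391 : act 3 n4843 = n6391 := rfl
theorem F20022 : act 0 n6391 = n4849 := d2_1 D6391 (iv D4849) (iv F14982)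
theorem F20023 : act 2 n6391 = n6391 := d13_1 D6391 (iv D6391) F14983 F10808 (iv F14983)
theorem F20024 : act 5 n6391 = n5510 := d19_2 (iv F14984) D6391 F17251
theorem F20025 : act 6 n6391 = n6391 := d20_2 F14985 D6391 (iv D6391)
def n6392 : Q := act 7 n4844
theorem D6392 : act 7 n4844 = n6392 := rfl
theorem F20026 : act 0 n6392 = n6392 := d6_1 D6392 (iv D6392) F14987
theorem F20027 : act 4 n6392 = n4845 := d24_1 D6392 (iv D4845) D4844
theorem F20028 : act 5 n6392 = n6392 := d26_1 D6392 (iv D6392) F14989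
def n6393 : Q := act 3 n4845
theorem D6393 : act 3 n4845 = n6393 := rfl
theorem F20029 : act 0 n6393 = n6393 := d2_1 D6393 (iv D6393) F14990
theorem F20030 : act 2 n6393 = n5241 := d13_1 D6393 F16310 (iv F16635) (iv F19443) F19442
theorem F20031 : act 5 n6393 = n6393 := d19_2 F14991 D6393 (iv D6393)
theorem F20032 : act 7 n6393 = n4846 := d21_2 D4845 D6393 (iv D4846) (iv D3513) D3512
def n6394 : Q := act 6 n4845
theorem D6394 : act 6 n4845 = n6394 := rfl
theorem F20033 : act 0 n6394 = n6394 := d5_1 D6394 (iv D6394) F14990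
def n6395 : Q := act 4 n4846
theorem D6395 : act 4 n4846 = n6395 := rfl
theorem F20034 : act 0 n6395 = n6395 := d3_1 D6395 (iv D6395) F14992
theorem F20035 : act 2 n6395 = n5215 := d14_1 D6395 F16218 (iv F14993)
theorem F20036 : act 3 n6395 = n6395 := d18_1 D6395 (iv D6395) (iv D4846) F10816 D4846
theorem F20037 : act 5 n6395 = n6395 := d22_2 F14994 D6395 (iv D6395)
theorem F20038 : act 6 n6395 = n5240 := d23_2 (iv F14995) D6395 (iv D5240)
def n6396 : Q := act 4 n4847
theorem D6396 : act 4 n4847 = n6396 := rfl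
theorem F20039 : act 0 n6396 = n4848 := d3_1 D6396 (iv D4848) D4847
theorem F20040 : act 2 n6396 = n4874 := d14_1 D6396 (iv D4874) (iv F14996)
theorem F20041 : act 6 n6396 = n6396 := d23_2 F14998 D6396 (iv D6396)
theorem F20042 : act 7 n6396 = n5685 := d24_2 (iv F14999) D6396 F17819
def n6397 : Q := act 3 n4848
theorem D6397 : act 3 n4848 = n6397 := rfl
theorem F20043 : act 1 n6397 = n4849 := d8_1 D6397 (iv D4849) (iv F15000)
theorem F20044 : act 4 n6397 = n5487 := d18_2 D4848 D6397 (iv D5487) F12626 (iv F10820)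
theorem F20045 : act 6 n6397 = n6397 := d20_2 F15002 D6397 (iv D6397)
def n6399 : Q := act 7 n4850
theorem D6399 : act 7 n4850 = n6399 := rfl
theorem F20050 : act 4 n6399 = n4855 := d24_1 D6399 (iv D4855) (iv F15008)
def n6400 : Q := act 3 n4851
theorem D6400 : act 3 n4851 = n6400 := rfl
theorem F20052 : act 1 n6400 = n6400 := d8_1 D6400 (iv D6400) F15010
theorem F20053 : act 7 n6400 = n6400 := d21_2 D4851 D6400 (iv D6400) (iv D4851) F10828
def n6401 : Q := act 6 n4851
theorem D6401 : act 6 n4851 = n6401 := rfl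
theorem F20054 : act 1 n6401 = n6401 := d11_1 D6401 (iv D6401) F15010
theorem F20055 : act 4 n6401 = n4857 := d23_1 D6401 (iv D4857) (iv F15011)
theorem F20056 : act 7 n6401 = n4853 := d27_2 D4851 D6401 (iv D4853) (iv D3517) D3516
def n6402 : Q := act 2 n4852
theorem D6402 : act 2 n4852 = n6402 := rfl
theorem F20057 : act 4 n6402 = n6402 := d14_2 F15013 D6402 (iv D6402)
theorem F20058 : act 5 n6402 = n6402 := d15_2 F15014 D6402 (iv D6402)
theorem F20059 : act 7 n6402 = n6402 := d17_2 F15015 D6402 (iv D6402)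
def n6403 : Q := act 6 n4852
theorem D6403 : act 6 n4852 = n6403 := rfl
theorem F20060 : act 1 n6403 = n6403 := d11_1 D6403 (iv D6403) F15012
theorem F20061 : act 3 n6403 = n4853 := d20_1 D6403 (iv D4853) D4852
theorem F20062 : act 4 n6403 = n6403 := d23_1 D6403 (iv D6403) F15013
def n6404 : Q := act 5 n4853
theorem D6404 : act 5 n4853 = n6404 := rfl
theorem F20063 : act 4 n6404 = n4858 := d22_1 D6404 (iv D4858) (iv F15017)
theorem F20064 : act 6 n6404 = n6404 := d25_2 D4853 D6404 (iv D6404) (iv D4853) F10832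
def n6405 : Q := act 0 n4854
theorem D6405 : act 0 n4854 = n6405 := rfl
theorem F20065 : act 3 n6405 = n4859 := d2_2 (iv F15018) D6405 (iv D4859)
def n6408 : Q := act 3 n4855
theorem D6408 : act 3 n4855 = n6408 := rfl
theorem F20073 : act 5 n6408 = n4856 := d19_2 (iv F15021) D6408 (iv D4856)
theorem F20074 : act 7 n6408 = n4861 := d21_2 D4855 D6408 (iv D4861) (iv D3522) (iv F10833)
def n6409 : Q := act 6 n4855
theorem D6409 : act 6 n4855 = n6409 := rfl
def n6410 : Q := act 2 n4856
theorem D6410 : act 2 n4856 = n6410 := rfl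
theorem F20076 : act 7 n6410 = n4863 := d17_2 (iv F15023) D6410 (iv D4863)
def n6411 : Q := act 4 n4856
theorem D6411 : act 4 n4856 = n6411 := rfl
theorem F20077 : act 1 n6411 = n6411 := d9_1 D6411 (iv D6411) F15022
theorem F20078 : act 7 n6411 = n4864 := d24_2 (iv F15023) D6411 (iv D4864)
def n6412 : Q := act 6 n4856
theorem D6412 : act 6 n4856 = n6412 := rfl
theorem F20079 : act 1 n6412 = n6412 := d11_1 D6412 (iv D6412) F15022
theorem F20080 : act 3 n6412 = n4857 := d20_1 D6412 (iv D4857) D4856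
theorem F20081 : act 7 n6412 = n6412 := d27_2 (iv F15023) D6412 (iv D6412) F15023 F10846
def n6413 : Q := act 5 n4857
theorem D6413 : act 5 n4857 = n6413 := rfl
theorem F20082 : act 7 n6413 = n4858 := d26_2 (iv F15025) D6413 (iv D4858)
def n6414 : Q := act 1 n4858
theorem D6414 : act 1 n4858 = n6414 := rfl
theorem F20083 : act 0 n6414 = n6414 := d0_1 D6414 (iv D6414) (iv F19948) F19949 F19948
theorem F20084 : act 3 n6414 = n6414 := d8_2 F15026 D6414 (iv D6414)
theorem F20085 : act 5 n6414 = n6414 := d10_2 D4858 D6414 (iv D6414) (iv D4858) F10836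
theorem F20086 : act 6 n6414 = n6414 := d11_2 F15027 D6414 (iv D6414)
def n6416 : Q := act 3 n4860
theorem D6416 : act 3 n4860 = n6416 := rfl
theorem F20091 : act 1 n6416 = n4861 := d8_1 D6416 (iv D4861) (iv F15032)
theorem F20092 : act 5 n6416 = n6416 := d19_2 F15035 D6416 (iv D6416)
def n6417 : Q := act 6 n4860
theorem D6417 : act 6 n4860 = n6417 := rfl
theorem F20093 : act 1 n6417 = n4862 := d11_1 D6417 (iv D4862) (iv F15032)
theorem F20094 : act 2 n6417 = n6417 := d16_1 D6417 (iv D6417) F15033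
theorem F20095 : act 4 n6417 = n6417 := d23_1 D6417 (iv D6417) F15034
theorem F20096 : act 7 n6417 = n6417 := d27_2 D4860 D6417 (iv D6417) (iv D4860) F10841
def n6418 : Q := act 2 n4861
theorem D6418 : act 2 n4861 = n6418 := rfl
theorem F20097 : act 3 n6418 = n4865 := d13_2 D4861 D6418 (iv D4865) (iv D3524) (iv F10842)
theorem F20098 : act 5 n6418 = n4863 := d15_2 (iv F15036) D6418 (iv D4863)
def n6419 : Q := act 4 n4861
theorem D6419 : act 4 n4861 = n6419 := rfl
theorem F20099 : act 3 n6419 = n6419 := d18_1 D6419 (iv D6419) (iv D4861) F10843 D4861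
theorem F20100 : act 5 n6419 = n4864 := d22_2 (iv F15036) D6419 (iv D4864)
def n6420 : Q := act 6 n4861
theorem D6420 : act 6 n4861 = n6420 := rfl
theorem F20101 : act 3 n6420 = n4862 := d20_1 D6420 (iv D4862) D4861
theorem F20102 : act 5 n6420 = n6420 := d25_1 D6420 (iv D6420) F15036 F10846 (iv F15036)
def n6421 : Q := act 1 n4863
theorem D6421 : act 1 n4863 = n6421 := rfl
theorem F20103 : act 2 n6421 = n6421 := d7_2 D4863 D6421 (iv D6421) (iv D4863) F10845
theorem F20104 : act 3 n6421 = n4868 := d8_2 (iv F15041) D6421 (iv D4868)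
theorem F20105 : act 6 n6421 = n6421 := d11_2 F15042 D6421 (iv D6421)
def n6422 : Q := act 4 n4863
theorem D6422 : act 4 n4863 = n6422 := rfl
theorem F20106 : act 2 n6422 = n4864 := d14_1 D6422 (iv D4864) D4863
theorem F20107 : act 6 n6422 = n6422 := d23_2 F15042 D6422 (iv D6422)
def n6423 : Q := act 1 n4865
theorem D6423 : act 1 n4865 = n6423 := rfl
theorem F20108 : act 2 n6423 = n6423 := d7_2 D4865 D6423 (iv D6423) (iv D4865) F10847
def n6424 : Q := act 4 n4865
theorem D6424 : act 4 n4865 = n6424 := rfl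
theorem F20109 : act 2 n6424 = n4866 := d14_1 D6424 (iv D4866) D4865
theorem F20110 : act 5 n6424 = n4869 := d22_2 (iv F15046) D6424 (iv D4869)
def n6425 : Q := act 6 n4865
theorem D6425 : act 6 n4865 = n6425 := rfl
theorem F20111 : act 2 n6425 = n4867 := d16_1 D6425 (iv D4867) D4865
theorem F20112 : act 5 n6425 = n6425 := d25_1 D6425 (iv D6425) F15046 F10853 (iv F15046)
def n6426 : Q := act 6 n4866
theorem D6426 : act 6 n4866 = n6426 := rfl
theorem F20113 : act 1 n6426 = n6426 := d11_1 D6426 (iv D6426) F15047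
theorem F20114 : act 3 n6426 = n6426 := d20_1 D6426 (iv D6426) F15048
theorem F20115 : act 4 n6426 = n4867 := d23_1 D6426 (iv D4867) D4866
theorem F20116 : act 5 n6426 = n6426 := d25_1 D6426 (iv D6426) F15049 F10856 (iv F15049)
def n6427 : Q := act 7 n4867
theorem D6427 : act 7 n4867 = n6427 := rfl
theorem F20117 : act 1 n6427 = n6427 := d12_1 D6427 (iv D6427) F15050
theorem F20118 : act 3 n6427 = n6427 := d21_1 D6427 (iv D6427) F15051 F10852 (iv F15051)
theorem F20119 : act 5 n6427 = n6427 := d26_1 D6427 (iv D6427) F15052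
def n6428 : Q := act 0 n4868
theorem D6428 : act 0 n4868 = n6428 := rfl
theorem F20120 : act 2 n6428 = n4870 := d1_2 (iv F15053) D6428 (iv D4870)
theorem F20121 : act 6 n6428 = n6428 := d5_2 F15054 D6428 (iv D6428)
def n6429 : Q := act 4 n4868
theorem D6429 : act 4 n4868 = n6429 := rfl
theorem F20122 : act 1 n6429 = n4869 := d9_1 D6429 (iv D4869) D4868
theorem F20123 : act 2 n6429 = n4871 := d14_1 D6429 (iv D4871) (iv F15053)
def n6430 : Q := act 5 n4868
theorem D6430 : act 5 n4868 = n6430 := rfl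
def n6431 : Q := act 3 n4869
theorem D6431 : act 3 n4869 = n6431 := rfl
def n6432 : Q := act 4 n4870
theorem D6432 : act 4 n4870 = n6432 := rfl
theorem F20128 : act 0 n6432 = n4871 := d3_1 D6432 (iv D4871) D4870
theorem F20129 : act 1 n6432 = n4874 := d9_1 D6432 (iv D4874) (iv F15057)
def n6433 : Q := act 5 n4870
theorem D6433 : act 5 n4870 = n6433 := rfl
def n6437 : Q := act 7 n4873
theorem D6437 : act 7 n4873 = n6437 := rfl
theorem F20141 : act 0 n6437 = n4876 := d6_1 D6437 (iv D4876) (iv F15064)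
def n6438 : Q := act 3 n4874
theorem D6438 : act 3 n4874 = n6438 := rfl
theorem F20145 : act 0 n6438 = n4875 := d2_1 D6438 (iv D4875) (iv F15069)
def n6439 : Q := act 2 n4875
theorem D6439 : act 2 n4875 = n6439 := rfl
theorem F20148 : act 1 n6439 = n6439 := d7_1 D6439 (iv D6439) F15071 F10867 (iv F15071)
theorem F20149 : act 4 n6439 = n6439 := d14_2 F15072 D6439 (iv D6439)
theorem F20150 : act 5 n6439 = n5801 := d15_2 F19860 D6439 (iv F19863)
theorem F20151 : act 6 n6439 = n6439 := d16_2 F15073 D6439 (iv D6439)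
theorem F20152 : act 7 n5802 = n6439 := d31_1 D5802 F20149 (iv D6439) F15073 (iv D4875) (iv F14875) (iv D4810) (iv D3485) (iv F10709) F10711 (iv D3482) F7484 (iv D2079) (iv F6423) F6422 (iv D1551) F3371 F3340 F2330 F2328 D1045 F3357 D1055 (iv F4459) D2092 (iv F9391) (iv F12844) D5589 F17538
def n6440 : Q := act 7 n4875
theorem D6440 : act 7 n4875 = n6440 := rfl
theorem F20153 : act 1 n6440 = n4876 := d12_1 D6440 (iv D4876) (iv F15071)
theorem F20154 : act 2 n6440 = n5802 := d17_1 D6440 F20152 (iv D6439)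
theorem F20155 : act 4 n6440 = n6440 := d24_1 D6440 (iv D6440) F15072
theorem F20156 : act 5 n6440 = n5797 := d26_1 D6440 (iv F19862) F19860
theorem F20157 : act 6 n6440 = n5799 := d30_6 D2902 (iv F10824) (iv F15000) F15001 D4875 D6440 (iv D5799) F13423 F9837 F6837 F6839 (iv D2207) F4738 F4735 (iv F4566) (iv F6242) (iv D2007) F4321 (iv F6118) F6709 (iv D2168) (iv D1466) (iv D981) (iv F3077) F3076 F3074 (iv F4275) F4276 D1982
def n6441 : Q := act 6 n4876
theorem D6441 : act 6 n4876 = n6441 := rfl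
theorem F20158 : act 1 n6441 = n5799 := d11_1 D6441 (iv F20157) F20153
theorem F20159 : act 2 n6441 = n6441 := d16_1 D6441 (iv D6441) F15074
theorem F20160 : act 4 n6441 = n6441 := d23_1 D6441 (iv D6441) F15075
theorem F20161 : act 7 n6441 = n6441 := d27_2 D4876 D6441 (iv D6441) (iv D4876) F10870
theorem F20162 : act 5 n6441 = n5922 := d30_1 D6441 (iv D5922) F13731 F9842 F9845 F9844 (iv D3190) F6836 (iv F6634) (iv F9071) F9073 (iv D2878) F6141 F5212 (iv D1506) (iv D1017) (iv D690) (iv F2227) F2226 F2224 F2225 (iv F3075) D1428 D2116 (iv F7567) F7565 (iv F7600) D3532 D4876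
def n6442 : Q := act 1 n4877
theorem D6442 : act 1 n4877 = n6442 := rfl
theorem F20163 : act 2 n6442 = n5629 := d7_2 (iv F15078) D6442 F17641 F15084 (iv D4879)
theorem F20164 : act 7 n6442 = n5627 := d12_2 F19610 D6442 F19611
def n6443 : Q := act 6 n4877
theorem D6443 : act 6 n4877 = n6443 := rfl
theorem F20165 : act 0 n6443 = n4878 := d5_1 D6443 (iv D4878) (iv F15077)
theorem F20166 : act 2 n6443 = n4880 := d16_1 D6443 (iv D4880) (iv F15078)
def n6444 : Q := act 6 n4879
theorem D6444 : act 6 n4879 = n6444 := rfl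
theorem F20167 : act 0 n6444 = n6444 := d5_1 D6444 (iv D6444) F15080
theorem F20168 : act 1 n6444 = n4880 := d11_1 D6444 (iv D4880) D4879
theorem F20169 : act 2 n6444 = n5959 := d16_1 D6444 F18671 F15084
theorem F20170 : act 3 n6444 = n4886 := d20_1 D6444 (iv D4886) (iv F15081)
theorem F20171 : act 7 n6444 = n5956 := d27_2 (iv F15083) D6444 (iv D5956) F13810 D4484
def n6445 : Q := act 6 n4881
theorem D6445 : act 6 n4881 = n6445 := rfl
theorem F20172 : act 0 n6445 = n6445 := d5_1 D6445 (iv D6445) F15087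
theorem F20173 : act 1 n6445 = n5380 := d11_1 D6445 F16817 F15199
theorem F20174 : act 2 n6445 = n4882 := d16_1 D6445 (iv D4882) D4881
theorem F20175 : act 4 n6445 = n6299 := d23_1 D6445 F19716 F18078
theorem F20176 : act 7 n6445 = n5379 := d27_2 (iv F15089) D6445 F16813 (iv F12346) (iv F13874)
def n6446 : Q := act 5 n4882
theorem D6446 : act 5 n4882 = n6446 := rfl
theorem F20177 : act 0 n6446 = n6446 := d4_1 D6446 (iv D6446) F15090
theorem F20178 : act 3 n6446 = n4892 := d19_1 D6446 (iv D4892) (iv F15092)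
def n6447 : Q := act 2 n4883
theorem D6447 : act 2 n4883 = n6447 := rfl
theorem F20179 : act 1 n6447 = n4885 := d7_1 D6447 (iv D4885) (iv D3542) (iv F10882) D4883
theorem F20180 : act 4 n6447 = n6447 := d14_2 F15093 D6447 (iv D6447)
theorem F20181 : act 5 n6447 = n6447 := d15_2 F15094 D6447 (iv D6447)
theorem F20182 : act 7 n6447 = n6447 := d17_2 F15095 D6447 (iv D6447)
def n6448 : Q := act 6 n4883
theorem D6448 : act 6 n4883 = n6448 := rfl
theorem F20183 : act 1 n6448 = n4884 := d11_1 D6448 (iv D4884) D4883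
theorem F20184 : act 4 n6448 = n6448 := d23_1 D6448 (iv D6448) F15093
theorem F20185 : act 7 n5339 = n6448 := d12_0 F20183 (iv F15100) D5339
def n6449 : Q := act 3 n4885
theorem D6449 : act 3 n4885 = n6449 := rfl
theorem F20186 : act 0 n6449 = n6449 := d2_1 D6449 (iv D6449) F15101
theorem F20187 : act 2 n6449 = n5973 := d13_1 D6449 F18718 F15084 F15081 D4885
theorem F20188 : act 5 n6449 = n4890 := d19_2 (iv F15103) D6449 (iv D4890)
theorem F20189 : act 7 n5971 = n6449 := d26_0 F20188 (iv F15193) F18710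
def n6450 : Q := act 6 n4885
theorem D6450 : act 6 n4885 = n6450 := rfl
theorem F20190 : act 0 n6450 = n6450 := d5_1 D6450 (iv D6450) F15101
theorem F20191 : act 2 n6450 = n4886 := d16_1 D6450 (iv D4886) D4885
theorem F20192 : act 4 n6450 = n6450 := d23_1 D6450 (iv D6450) F15102
def n6451 : Q := act 5 n4886
theorem D6451 : act 5 n4886 = n6451 := rfl
theorem F20193 : act 0 n6451 = n6451 := d4_1 D6451 (iv D6451) F15105
theorem F20194 : act 4 n6451 = n6451 := d22_1 D6451 (iv D6451) F15107
theorem F20195 : act 6 n6451 = n4892 := d25_2 D4886 D6451 (iv D4892) (iv D3549) (iv F10897)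
def n6452 : Q := act 7 n4886
theorem D6452 : act 7 n4886 = n6452 := rfl
theorem F20196 : act 0 n6452 = n6452 := d6_1 D6452 (iv D6452) F15105
theorem F20197 : act 1 n6452 = n4888 := d12_1 D6452 (iv D4888) (iv F15106)
theorem F20198 : act 4 n6452 = n6452 := d24_1 D6452 (iv D6452) F15107
theorem F20199 : act 6 n6452 = n6452 := d27_1 D6452 (iv D6452) (iv D4886) F10898 D4886
def n6453 : Q := act 1 n4887
theorem D6453 : act 1 n4887 = n6453 := rfl
theorem F20200 : act 4 n6453 = n6453 := d9_2 F15110 D6453 (iv D6453)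
theorem F20201 : act 6 n6453 = n4889 := d11_2 (iv F15111) D6453 (iv D4889)
theorem F20202 : act 7 n6453 = n5338 := d12_2 F15112 D6453 F16652
def n6454 : Q := act 2 n4889
theorem D6454 : act 2 n4889 = n6454 := rfl
theorem F20203 : act 1 n6454 = n5334 := d7_1 D6454 F16635 F12171 (iv F10902) D4889
theorem F20204 : act 4 n6454 = n6454 := d14_2 F15118 D6454 (iv D6454)
theorem F20205 : act 5 n6454 = n4897 := d15_2 (iv F15119) D6454 (iv D4897)
theorem F20206 : act 7 n6454 = n5333 := d17_2 (iv F15120) D6454 F16631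
def n6455 : Q := act 4 n4890
theorem D6455 : act 4 n4890 = n6455 := rfl
theorem F20207 : act 0 n6455 = n6455 := d3_1 D6455 (iv D6455) F15121
theorem F20208 : act 1 n6455 = n6455 := d9_1 D6455 (iv D6455) F15122
theorem F20209 : act 3 n6455 = n6455 := d18_1 D6455 (iv D6455) (iv D4890) F10923 D4890
def n6456 : Q := act 6 n4890
theorem D6456 : act 6 n4890 = n6456 := rfl
theorem F20210 : act 0 n6456 = n6456 := d5_1 D6456 (iv D6456) F15121
theorem F20211 : act 1 n6456 = n6456 := d11_1 D6456 (iv D6456) F15122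
theorem F20212 : act 3 n6456 = n4891 := d20_1 D6456 (iv D4891) D4890
theorem F20213 : act 7 n6456 = n6456 := d27_2 F15193 D6456 (iv D6456) (iv F15193) F15184
def n6457 : Q := act 5 n4891
theorem D6457 : act 5 n4891 = n6457 := rfl
theorem F20214 : act 0 n6457 = n6457 := d4_1 D6457 (iv D6457) F15123
theorem F20215 : act 2 n6457 = n4892 := d15_1 D6457 (iv D4892) (iv F15125)
theorem F20216 : act 4 n6457 = n6457 := d22_1 D6457 (iv D6457) F15126
def n6458 : Q := act 7 n4891
theorem D6458 : act 7 n4891 = n6458 := rfl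
theorem F20217 : act 0 n6458 = n6458 := d6_1 D6458 (iv D6458) F15123
theorem F20218 : act 1 n6458 = n6458 := d12_1 D6458 (iv D6458) F15124
theorem F20219 : act 2 n6458 = n4893 := d17_1 D6458 (iv D4893) (iv F15125)
theorem F20220 : act 3 n6458 = n6458 := d21_1 D6458 (iv D6458) (iv F20212) F20213 F20212
theorem F20221 : act 4 n6458 = n6458 := d24_1 D6458 (iv D6458) F15126
theorem F20222 : act 6 n6458 = n6458 := d27_1 D6458 (iv D6458) (iv D4891) F10924 D4891
def n6459 : Q := act 1 n4892
theorem D6459 : act 1 n4892 = n6459 := rfl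
theorem F20223 : act 4 n6459 = n6459 := d9_2 F15128 D6459 (iv D6459)
theorem F20224 : act 5 n6459 = n4894 := d10_2 D4892 D6459 (iv D4894) (iv D3550) (iv F10926)
def n6460 : Q := act 7 n4892
theorem D6460 : act 7 n4892 = n6460 := rfl
theorem F20225 : act 0 n6460 = n6460 := d6_1 D6460 (iv D6460) F15127
theorem F20226 : act 4 n6460 = n6460 := d24_1 D6460 (iv D6460) F15128
theorem F20227 : act 5 n6460 = n4893 := d26_1 D6460 (iv D4893) D4892
def n6461 : Q := act 3 n4893
theorem D6461 : act 3 n4893 = n6461 := rfl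
theorem F20228 : act 0 n6461 = n6461 := d2_1 D6461 (iv D6461) F15129
theorem F20229 : act 1 n6461 = n4896 := d8_1 D6461 (iv D4896) (iv F15130)
theorem F20230 : act 2 n6461 = n6461 := d13_1 D6461 (iv D6461) (iv F20219) F20220 F20219
theorem F20231 : act 6 n6461 = n6461 := d20_2 F15132 D6461 (iv D6461)
def n6462 : Q := act 2 n4894
theorem D6462 : act 2 n4894 = n6462 := rfl
theorem F20232 : act 1 n6462 = n6462 := d7_1 D6462 (iv D6462) (iv D4894) F10929 D4894
theorem F20233 : act 4 n6462 = n6462 := d14_2 F15133 D6462 (iv D6462)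
theorem F20234 : act 6 n6462 = n4897 := d16_2 (iv F15134) D6462 (iv D4897)
def n6463 : Q := act 7 n4894
theorem D6463 : act 7 n4894 = n6463 := rfl
theorem F20235 : act 1 n6463 = n4895 := d12_1 D6463 (iv D4895) D4894
theorem F20236 : act 4 n6463 = n6463 := d24_1 D6463 (iv D6463) F15133
def n6464 : Q := act 3 n4895
theorem D6464 : act 3 n4895 = n6464 := rfl
theorem F20237 : act 0 n6464 = n4902 := d2_1 D6464 (iv D4902) (iv F15135)
theorem F20238 : act 5 n6464 = n4896 := d19_2 (iv F15138) D6464 (iv D4896)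
def n6465 : Q := act 6 n4895
theorem D6465 : act 6 n4895 = n6465 := rfl
theorem F20239 : act 0 n6465 = n4903 := d5_1 D6465 (iv D4903) (iv F15135)
theorem F20240 : act 2 n6465 = n6465 := d16_1 D6465 (iv D6465) F15136
theorem F20241 : act 4 n6465 = n6465 := d23_1 D6465 (iv D6465) F15137
theorem F20242 : act 5 n6465 = n6465 := d25_1 D6465 (iv D6465) F15138 F10935 (iv F15138)
theorem F20243 : act 7 n6465 = n4900 := d27_2 D4895 D6465 (iv D4900) (iv D3553) (iv F10931)
def n6466 : Q := act 2 n4896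
theorem D6466 : act 2 n4896 = n6466 := rfl
theorem F20244 : act 0 n6466 = n4904 := d1_1 D6466 (iv D4904) (iv F15139)
theorem F20245 : act 1 n6466 = n6466 := d7_1 D6466 (iv D6466) (iv F20229) F20230 F20229
theorem F20246 : act 3 n6466 = n6466 := d13_2 D4896 D6466 (iv D6466) (iv D4896) F10933
theorem F20247 : act 6 n6466 = n6466 := d16_2 F15140 D6466 (iv D6466)
def n6467 : Q := act 3 n4897
theorem D6467 : act 3 n4897 = n6467 := rfl
theorem F20248 : act 1 n6467 = n6467 := d8_1 D6467 (iv D6467) F15141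
def n6468 : Q := act 7 n4897
theorem D6468 : act 7 n4897 = n6468 := rfl
theorem F20249 : act 1 n6468 = n6468 := d12_1 D6468 (iv D6468) F15141
theorem F20250 : act 2 n6468 = n4898 := d17_1 D6468 (iv D4898) D4897
theorem F20251 : act 4 n6468 = n6468 := d24_1 D6468 (iv D6468) F15142
theorem F20252 : act 5 n6468 = n5333 := d26_1 D6468 (iv F20206) F20205
theorem F20253 : act 3 n5835 = n6468 := d19_3 F20252 F16632 D5835
def n6469 : Q := act 6 n4898
theorem D6469 : act 6 n4898 = n6469 := rfl
theorem F20254 : act 1 n6469 = n4900 := d11_1 D6469 (iv D4900) (iv F15143)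
theorem F20255 : act 3 n6469 = n5351 := d20_1 D6469 F16699 F15146
theorem F20256 : act 4 n6469 = n6469 := d23_1 D6469 (iv D6469) F15144
theorem F20257 : act 5 n6469 = n5344 := d25_1 D6469 (iv D5344) (iv D3937) D3938 (iv F15145)
def n6470 : Q := act 2 n4899
theorem D6470 : act 2 n4899 = n6470 := rfl
theorem F20258 : act 0 n6470 = n4905 := d1_1 D6470 (iv D4905) (iv F15147)
theorem F20259 : act 1 n6470 = n5833 := d7_1 D6470 F18261 F13545 (iv F12218) (iv F15148)
theorem F20260 : act 3 n6470 = n6470 := d13_2 D4899 D6470 (iv D6470) (iv D4899) F10938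
theorem F20261 : act 4 n6470 = n5538 := d14_2 F15150 D6470 F17338
theorem F20262 : act 5 n6470 = n4901 := d15_2 (iv F15149) D6470 (iv D4901)
theorem F20263 : act 7 n6470 = n5539 := d17_2 F17434 D6470 (iv F17431)
def n6471 : Q := act 6 n4899
theorem D6471 : act 6 n4899 = n6471 := rfl
theorem F20264 : act 0 n6471 = n4906 := d5_1 D6471 (iv D4906) (iv F15147)
theorem F20265 : act 1 n6471 = n5351 := d11_1 D6471 F16699 (iv F15148)
theorem F20266 : act 3 n6471 = n4900 := d20_1 D6471 (iv D4900) D4899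
theorem F20267 : act 4 n6471 = n6100 := d23_1 D6471 (iv D6100) F15150
theorem F20268 : act 5 n6471 = n6471 := d25_1 D6471 (iv D6471) F15149 F10943 (iv F15149)
def n6472 : Q := act 2 n4902
theorem D6472 : act 2 n4902 = n6472 := rfl
theorem F20269 : act 1 n6472 = n6059 := d7_1 D6472 F19020 (iv F18185) F18186 F18173
theorem F20270 : act 3 n6472 = n6472 := d13_2 D4902 D6472 (iv D6472) (iv D4902) F10945
theorem F20271 : act 5 n6472 = n4904 := d15_2 (iv F15160) D6472 (iv D4904)
def n6473 : Q := act 6 n4902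
theorem D6473 : act 6 n4902 = n6473 := rfl
theorem F20272 : act 3 n6473 = n4903 := d20_1 D6473 (iv D4903) D4902
theorem F20273 : act 5 n6473 = n6473 := d25_1 D6473 (iv D6473) F15160 F10949 (iv F15160)
def n6474 : Q := act 4 n4908
theorem D6474 : act 4 n4908 = n6474 := rfl
theorem F20274 : act 0 n6474 = n6474 := d3_1 D6474 (iv D6474) F15181
theorem F20275 : act 1 n6474 = n6474 := d9_1 D6474 (iv D6474) F15182
theorem F20276 : act 2 n6474 = n4909 := d14_1 D6474 (iv D4909) D4908
theorem F20277 : act 6 n6474 = n6474 := d23_2 F15184 D6474 (iv D6474)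
theorem F20278 : act 7 n6474 = n6455 := d24_2 (iv F15193) D6474 (iv D6455)
def n6475 : Q := act 7 n4909
theorem D6475 : act 7 n4909 = n6475 := rfl
theorem F20279 : act 0 n6475 = n6475 := d6_1 D6475 (iv D6475) F15185
theorem F20280 : act 1 n6475 = n4911 := d12_1 D6475 (iv D4911) (iv F15186)
theorem F20281 : act 2 n6475 = n6455 := d17_1 D6475 (iv F20278) F20276
theorem F20282 : act 4 n6475 = n4910 := d24_1 D6475 (iv D4910) D4909
def n6476 : Q := act 6 n4910
theorem D6476 : act 6 n4910 = n6476 := rfl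
theorem F20283 : act 0 n6476 = n6476 := d5_1 D6476 (iv D6476) F15189
theorem F20284 : act 1 n6476 = n4913 := d11_1 D6476 (iv D4913) (iv F15190)
theorem F20285 : act 2 n6476 = n6456 := d16_1 D6476 (iv D6456) F15192
theorem F20286 : act 3 n6476 = n6445 := d20_1 D6476 (iv D6445) (iv F15191)
theorem F20287 : act 7 n6476 = n6476 := d27_2 D4910 D6476 (iv D6476) (iv D4910) F10964
def n6477 : Q := act 3 n4911
theorem D6477 : act 3 n4911 = n6477 := rfl
theorem F20288 : act 0 n6477 = n4914 := d2_1 D6477 (iv D4914) (iv F15194)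
theorem F20289 : act 5 n6477 = n4926 := d19_2 (iv F15197) D6477 (iv D4926)
theorem F20290 : act 7 n6477 = n6477 := d21_2 D4911 D6477 (iv D6477) (iv D4911) F10967
def n6478 : Q := act 6 n4911
theorem D6478 : act 6 n4911 = n6478 := rfl
theorem F20291 : act 0 n6478 = n4915 := d5_1 D6478 (iv D4915) (iv F15194)
theorem F20292 : act 2 n6478 = n6478 := d16_1 D6478 (iv D6478) F15195
theorem F20293 : act 4 n6478 = n4913 := d23_1 D6478 (iv D4913) (iv F15196)
theorem F20294 : act 7 n6478 = n6478 := d27_2 D4911 D6478 (iv D6478) (iv D4911) F10969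
def n6479 : Q := act 3 n4916
theorem D6479 : act 3 n4916 = n6479 := rfl
theorem F20295 : act 0 n6479 = n5037 := d2_1 D6479 (iv D5037) (iv F15213)
theorem F20296 : act 1 n6479 = n6479 := d8_1 D6479 (iv D6479) F15214
theorem F20297 : act 2 n6479 = n6479 := d13_1 D6479 (iv D6479) F15215 F11001 (iv F15215)
theorem F20298 : act 4 n6479 = n5402 := d18_2 D4916 D6479 F16893 (iv D4008) (iv F10998)
theorem F20299 : act 6 n6479 = n5311 := d20_2 (iv F15216) D6479 F16543
theorem F20300 : act 5 n5903 = n6479 := d22_0 F20298 F16894 (iv F18488)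
theorem F20301 : act 7 n5400 = n6479 := d24_0 F20298 (iv D5402) D5400
def n6480 : Q := act 5 n4916
theorem D6480 : act 5 n4916 = n6480 := rfl
theorem F20302 : act 0 n6480 = n5038 := d4_1 D6480 (iv D5038) (iv F15213)
theorem F20303 : act 2 n6480 = n4919 := d15_1 D6480 (iv D4919) (iv F15215)
theorem F20304 : act 3 n6480 = n5903 := d19_1 D6480 F20300 (iv D6479)
theorem F20305 : act 4 n6480 = n4917 := d22_1 D6480 (iv D4917) D4916
theorem F20306 : act 1 n6223 = n6480 := d8_3 F20304 F18486 D6223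
def n6481 : Q := act 7 n4916
theorem D6481 : act 7 n4916 = n6481 := rfl
theorem F20307 : act 0 n6481 = n5039 := d6_1 D6481 (iv D5039) (iv F15213)
theorem F20308 : act 1 n6481 = n6481 := d12_1 D6481 (iv D6481) F15214
theorem F20309 : act 2 n6481 = n4920 := d17_1 D6481 (iv D4920) (iv F15215)
theorem F20310 : act 4 n6481 = n4918 := d24_1 D6481 (iv D4918) D4916
def n6482 : Q := act 1 n4917
theorem D6482 : act 1 n4917 = n6482 := rfl
theorem F20311 : act 3 n6482 = n5426 := d8_2 (iv F15219) D6482 (iv D5426)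
theorem F20312 : act 4 n6482 = n6223 := d9_2 F20305 D6482 F20306
theorem F20313 : act 5 n6482 = n6482 := d10_2 D4917 D6482 (iv D6482) (iv D4917) F10997
def n6483 : Q := act 7 n4917
theorem D6483 : act 7 n4917 = n6483 := rfl
theorem F20314 : act 0 n6483 = n5042 := d6_1 D6483 (iv D5042) (iv F15217)
theorem F20315 : act 2 n6483 = n4921 := d17_1 D6483 (iv D4921) (iv F15218)
theorem F20316 : act 5 n6483 = n4918 := d26_1 D6483 (iv D4918) D4917
def n6484 : Q := act 3 n4918
theorem D6484 : act 3 n4918 = n6484 := rfl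
theorem F20317 : act 0 n6484 = n5043 := d2_1 D6484 (iv D5043) (iv F15220)
theorem F20318 : act 1 n6484 = n6484 := d8_1 D6484 (iv D6484) F15221
theorem F20319 : act 7 n6484 = n5429 := d21_2 D4918 D6484 (iv D5429) (iv D4010) (iv F10998)
def n6485 : Q := act 6 n4918
theorem D6485 : act 6 n4918 = n6485 := rfl
theorem F20320 : act 0 n6485 = n5044 := d5_1 D6485 (iv D5044) (iv F15220)
theorem F20321 : act 1 n6485 = n6485 := d11_1 D6485 (iv D6485) F15221
theorem F20322 : act 2 n6485 = n4923 := d16_1 D6485 (iv D4923) (iv F15222)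
def n6486 : Q := act 7 n4919
theorem D6486 : act 7 n4919 = n6486 := rfl
theorem F20323 : act 0 n6486 = n5046 := d6_1 D6486 (iv D5046) (iv F15223)
theorem F20324 : act 4 n6486 = n4921 := d24_1 D6486 (iv D4921) (iv F15225)
theorem F20325 : act 5 n6486 = n4920 := d26_1 D6486 (iv D4920) D4919
def n6487 : Q := act 3 n4920
theorem D6487 : act 3 n4920 = n6487 := rfl
theorem F20326 : act 0 n6487 = n5047 := d2_1 D6487 (iv D5047) (iv F15226)
theorem F20327 : act 1 n6487 = n4926 := d8_1 D6487 (iv D4926) (iv F15227)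
theorem F20328 : act 7 n6487 = n6487 := d21_2 D4920 D6487 (iv D6487) (iv D4920) F11001
def n6488 : Q := act 6 n4920
theorem D6488 : act 6 n4920 = n6488 := rfl
theorem F20329 : act 0 n6488 = n5048 := d5_1 D6488 (iv D5048) (iv F15226)
theorem F20330 : act 1 n6488 = n4927 := d11_1 D6488 (iv D4927) (iv F15227)
theorem F20331 : act 4 n6488 = n4923 := d23_1 D6488 (iv D4923) (iv F15228)
theorem F20332 : act 7 n6488 = n6067 := d27_2 D4920 D6488 (iv D6067) (iv D4583) (iv F11002)
def n6489 : Q := act 6 n4921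
theorem D6489 : act 6 n4921 = n6489 := rfl
theorem F20333 : act 0 n6489 = n5051 := d5_1 D6489 (iv D5051) (iv F15229)
def n6490 : Q := act 2 n4922
theorem D6490 : act 2 n4922 = n6490 := rfl
theorem F20334 : act 0 n6490 = n5052 := d1_1 D6490 (iv D5052) (iv F15231)
theorem F20335 : act 1 n6490 = n6248 := d7_1 D6490 F19546 F15251 (iv D4928) (iv F15232)
theorem F20336 : act 5 n6490 = n6442 := d15_2 F17643 D6490 F20163
theorem F20337 : act 7 n6490 = n4924 := d17_2 (iv F15233) D6490 (iv D4924)
def n6491 : Q := act 4 n4922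
theorem D6491 : act 4 n4922 = n6491 := rfl
theorem F20338 : act 0 n6491 = n5053 := d3_1 D6491 (iv D5053) (iv F15231)
theorem F20339 : act 1 n6491 = n4929 := d9_1 D6491 (iv D4929) (iv F15232)
theorem F20340 : act 7 n6491 = n4925 := d24_2 (iv F15233) D6491 (iv D4925)
def n6492 : Q := act 6 n4922
theorem D6492 : act 6 n4922 = n6492 := rfl
theorem F20341 : act 0 n6492 = n5054 := d5_1 D6492 (iv D5054) (iv F15231)
theorem F20342 : act 1 n6492 = n4930 := d11_1 D6492 (iv D4930) (iv F15232)
theorem F20343 : act 3 n6492 = n4923 := d20_1 D6492 (iv D4923) D4922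
def n6493 : Q := act 5 n4923
theorem D6493 : act 5 n4923 = n6493 := rfl
theorem F20344 : act 0 n6493 = n5055 := d4_1 D6493 (iv D5055) (iv F15234)
def n6494 : Q := act 1 n4924
theorem D6494 : act 1 n4924 = n6494 := rfl
theorem F20345 : act 2 n6494 = n4932 := d7_2 D4924 D6494 (iv D4932) (iv D3578) (iv F11008)
theorem F20346 : act 3 n6494 = n5442 := d8_2 (iv F15237) D6494 (iv D5442)
theorem F20347 : act 5 n6494 = n6082 := d10_2 (iv F17634) D6494 F19108 D6268 (iv F19611)
theorem F20348 : act 7 n6494 = n6248 := d12_2 F20337 D6494 (iv F20335)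
theorem F20349 : act 0 n6083 = n6494 := d6_3 F20348 F19545 (iv F19114)
def n6495 : Q := act 4 n4924
theorem D6495 : act 4 n4924 = n6495 := rfl
theorem F20350 : act 0 n6495 = n5059 := d3_1 D6495 (iv D5059) (iv F15236)
theorem F20351 : act 2 n6495 = n4925 := d14_1 D6495 (iv D4925) D4924
def n6496 : Q := act 2 n4926
theorem D6496 : act 2 n4926 = n6496 := rfl
theorem F20352 : act 0 n6496 = n4940 := d1_1 D6496 (iv D4940) (iv F15241)
theorem F20353 : act 3 n6496 = n6496 := d13_2 D4926 D6496 (iv D6496) (iv D4926) F11010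
theorem F20354 : act 7 n6496 = n6496 := d17_2 F15242 D6496 (iv D6496)
theorem F20355 : act 6 n6296 = n6496 := d5_0 F20352 (iv F15296) (iv F19703)
def n6497 : Q := act 4 n4926
theorem D6497 : act 4 n4926 = n6497 := rfl
theorem F20356 : act 0 n6497 = n4941 := d3_1 D6497 (iv D4941) (iv F15241)
theorem F20357 : act 3 n6497 = n4929 := d18_1 D6497 (iv D4929) (iv D3576) (iv F11011) D4926
theorem F20358 : act 7 n6497 = n6497 := d24_2 F15242 D6497 (iv D6497)
def n6498 : Q := act 6 n4926
theorem D6498 : act 6 n4926 = n6498 := rfl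
theorem F20359 : act 0 n6498 = n4942 := d5_1 D6498 (iv D4942) (iv F15241)
theorem F20360 : act 2 n6498 = n6296 := d16_1 D6498 F20355 (iv D6496)
theorem F20361 : act 3 n6498 = n4927 := d20_1 D6498 (iv D4927) D4926
theorem F20362 : act 7 n6291 = n6498 := d21_0 F20361 F15246 F14604 (iv F14733) D6291
def n6499 : Q := act 5 n4927
theorem D6499 : act 5 n4927 = n6499 := rfl
theorem F20363 : act 0 n6499 = n4943 := d4_1 D6499 (iv D4943) (iv F15243)
theorem F20364 : act 2 n6499 = n6499 := d15_1 D6499 (iv D6499) F15244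
theorem F20365 : act 4 n6499 = n4931 := d22_1 D6499 (iv D4931) (iv F15245)
theorem F20366 : act 7 n6499 = n6258 := d26_2 (iv F15246) D6499 (iv D6258)
def n6500 : Q := act 6 n4928
theorem D6500 : act 6 n4928 = n6500 := rfl
theorem F20367 : act 0 n6500 = n4944 := d5_1 D6500 (iv D4944) (iv F15247)
theorem F20368 : act 1 n6500 = n6250 := d11_1 D6500 (iv D6250) F15251
theorem F20369 : act 2 n6500 = n4930 := d16_1 D6500 (iv D4930) D4928
theorem F20370 : act 3 n6500 = n6500 := d20_1 D6500 (iv D6500) F15248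
def n6501 : Q := act 6 n4929
theorem D6501 : act 6 n4929 = n6501 := rfl
theorem F20371 : act 0 n6501 = n4945 := d5_1 D6501 (iv D4945) (iv F15252)
theorem F20372 : act 4 n6501 = n4930 := d23_1 D6501 (iv D4930) D4929
def n6502 : Q := act 1 n4931
theorem D6502 : act 1 n4931 = n6502 := rfl
def n6503 : Q := act 6 n4932
theorem D6503 : act 6 n4932 = n6503 := rfl
theorem F20373 : act 0 n6503 = n6104 := d5_1 D6503 (iv D6104) F15261
theorem F20374 : act 1 n6503 = n4933 := d11_1 D6503 (iv D4933) D4932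
theorem F20375 : act 3 n6503 = n4935 := d20_1 D6503 (iv D4935) (iv F15258)
def n6504 : Q := act 6 n4934
theorem D6504 : act 6 n4934 = n6504 := rfl
theorem F20376 : act 0 n6504 = n4935 := d5_1 D6504 (iv D4935) D4934
theorem F20377 : act 1 n6504 = n4948 := d11_1 D6504 (iv D4948) (iv F15265)
theorem F20378 : act 2 n6504 = n5456 := d16_1 D6504 (iv D5456) (iv F15266)
theorem F20379 : act 3 n6504 = n6104 := d20_1 D6504 (iv D6104) (iv F15267)
def n6505 : Q := act 5 n4935
theorem D6505 : act 5 n4935 = n6505 := rfl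
theorem F20380 : act 2 n6505 = n5459 := d15_1 D6505 (iv D5459) (iv F15271)
def n6506 : Q := act 7 n4935
theorem D6506 : act 7 n4935 = n6506 := rfl
theorem F20381 : act 1 n6506 = n4937 := d12_1 D6506 (iv D4937) (iv F15270)
theorem F20382 : act 2 n6506 = n5460 := d17_1 D6506 (iv D5460) (iv F15271)
theorem F20383 : act 6 n6506 = n6506 := d27_1 D6506 (iv D6506) (iv D4935) F11023 D4935
def n6507 : Q := act 1 n4936
theorem D6507 : act 1 n4936 = n6507 := rfl
theorem F20384 : act 4 n6507 = n5035 := d9_2 (iv F15274) D6507 F15618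
theorem F20385 : act 6 n6507 = n5033 := d11_2 (iv F15275) D6507 (iv D5033)
def n6508 : Q := act 7 n4936
theorem D6508 : act 7 n4936 = n6508 := rfl
theorem F20386 : act 0 n6508 = n4951 := d6_1 D6508 (iv D4951) (iv F15272)
theorem F20387 : act 2 n6508 = n4939 := d17_1 D6508 (iv D4939) (iv F15273)
theorem F20388 : act 4 n6508 = n5036 := d24_1 D6508 (iv D5036) (iv F15274)
theorem F20389 : act 5 n6508 = n4937 := d26_1 D6508 (iv D4937) D4936
theorem F20390 : act 6 n6508 = n5298 := d27_1 D6508 (iv D5298) (iv D3903) (iv F11370) (iv F15275)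
def n6509 : Q := act 3 n4937
theorem D6509 : act 3 n4937 = n6509 := rfl
theorem F20391 : act 0 n6509 = n4952 := d2_1 D6509 (iv D4952) (iv F15276)
theorem F20392 : act 2 n6509 = n5135 := d13_1 D6509 F16025 F16022 F11668 (iv F15277)
theorem F20393 : act 6 n6509 = n6509 := d20_2 F15278 D6509 (iv D6509)
def n6510 : Q := act 6 n4939
theorem D6510 : act 6 n4939 = n6510 := rfl
theorem F20394 : act 0 n6510 = n4953 := d5_1 D6510 (iv D4953) (iv F15284)
theorem F20395 : act 2 n6510 = n5298 := d16_1 D6510 (iv F20390) F20387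
theorem F20396 : act 4 n6510 = n5232 := d23_1 D6510 (iv F19624) F19622
theorem F20397 : act 5 n6510 = n6510 := d25_1 D6510 (iv D6510) F15285 F11034 (iv F15285)
theorem F20398 : act 7 n6510 = n5229 := d27_2 D4939 D6510 (iv D5229) F13961 F13959
def n6511 : Q := act 6 n4941
theorem D6511 : act 6 n4941 = n6511 := rfl
theorem F20399 : act 1 n6511 = n5099 := d11_1 D6511 (iv D5099) (iv F15289)
theorem F20400 : act 2 n6511 = n6297 := d16_1 D6511 F19708 F16915
theorem F20401 : act 3 n6511 = n4945 := d20_1 D6511 (iv D4945) (iv F15290)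
theorem F20402 : act 4 n6511 = n4942 := d23_1 D6511 (iv D4942) D4941
theorem F20403 : act 7 n6292 = n6511 := d24_0 F20402 (iv F15294) D6292
def n6512 : Q := act 5 n4942
theorem D6512 : act 5 n4942 = n6512 := rfl
theorem F20404 : act 2 n6512 = n6285 := d15_1 D6512 F19666 (iv F15295)
theorem F20405 : act 3 n6512 = n4943 := d19_1 D6512 (iv D4943) (iv F15293)
theorem F20406 : act 7 n6512 = n6281 := d26_2 F15294 D6512 F19657
def n6513 : Q := act 6 n4946
theorem D6513 : act 6 n4946 = n6513 := rfl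
theorem F20407 : act 0 n6513 = n4947 := d5_1 D6513 (iv D4947) D4946
theorem F20408 : act 1 n6513 = n6104 := d11_1 D6513 (iv D6104) (iv F15304)
theorem F20409 : act 2 n6513 = n5109 := d16_1 D6513 (iv D5109) (iv F15305)
theorem F20410 : act 3 n6513 = n4948 := d20_1 D6513 (iv D4948) (iv F15306)
def n6514 : Q := act 5 n4948
theorem D6514 : act 5 n4948 = n6514 := rfl
theorem F20411 : act 0 n6514 = n4949 := d4_1 D6514 (iv D4949) (iv F15312)
theorem F20412 : act 2 n6514 = n4957 := d15_1 D6514 (iv D4957) (iv F15313)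
theorem F20413 : act 7 n6514 = n5163 := d31_1 D6514 (iv F16162) F16160 F16032 F11797 F11798 (iv F11799) (iv F11803) F11801 (iv F16032) F16031 (iv F19670) F19672 F15334 (iv F15313) (iv D4948) (iv F15306) F15307 F13510 F10660 D4786 F14792 F14790 (iv F19776) F19777 (iv D5107) (iv F15305) D6513 F20410
def n6515 : Q := act 7 n4948
theorem D6515 : act 7 n4948 = n6515 := rfl
theorem F20414 : act 0 n6515 = n4950 := d6_1 D6515 (iv D4950) (iv F15312)
theorem F20415 : act 2 n6515 = n4958 := d17_1 D6515 (iv D4958) (iv F15313)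
theorem F20416 : act 5 n6515 = n5163 := d26_1 D6515 (iv F20413) (iv D6514)
theorem F20417 : act 6 n6515 = n6515 := d27_1 D6515 (iv D6515) (iv D4948) F11053 D4948
theorem F20418 : act 3 n5140 = n6515 := d19_3 F20416 (iv D5163) (iv F15927)
def n6516 : Q := act 4 n4952
theorem D6516 : act 4 n4952 = n6516 := rfl
theorem F20419 : act 1 n6516 = n5139 := d9_1 D6516 F15921 (iv F15325)
theorem F20420 : act 2 n6516 = n5134 := d14_1 D6516 F15902 (iv F15326)
theorem F20421 : act 3 n6516 = n6259 := d18_1 D6516 F19582 (iv D4966) F11124 D4952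
theorem F20422 : act 5 n6516 = n6260 := d22_2 F15829 D6516 F19587
theorem F20423 : act 6 n6516 = n6516 := d23_2 F15327 D6516 (iv D6516)
theorem F20424 : act 7 n6516 = n6279 := d24_2 (iv F15826) D6516 F19651
def n6517 : Q := act 5 n4954
theorem D6517 : act 5 n4954 = n6517 := rfl
theorem F20425 : act 0 n6517 = n4960 := d4_1 D6517 (iv D4960) (iv F15332)
theorem F20426 : act 4 n6517 = n4957 := d22_1 D6517 (iv D4957) (iv F15334)
theorem F20427 : act 6 n6517 = n6514 := d25_2 D4954 D6517 (iv D6514) (iv D4948) F11069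
theorem F20428 : act 7 n6517 = n5166 := d26_2 F19672 D6517 (iv F19670)
def n6518 : Q := act 6 n4955
theorem D6518 : act 6 n4955 = n6518 := rfl
theorem F20429 : act 0 n6518 = n4963 := d5_1 D6518 (iv D4963) (iv F15335)
theorem F20430 : act 1 n6518 = n4956 := d11_1 D6518 (iv D4956) D4955
theorem F20431 : act 2 n6518 = n5608 := d16_1 D6518 (iv D5608) (iv F15336)
theorem F20432 : act 3 n6518 = n5151 := d20_1 D6518 (iv D5151) (iv F15337)
theorem F20433 : act 4 n6518 = n6504 := d23_1 D6518 (iv D6504) (iv F15338)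
def n6519 : Q := act 5 n4956
theorem D6519 : act 5 n4956 = n6519 := rfl
theorem F20434 : act 0 n6519 = n4961 := d4_1 D6519 (iv D4961) (iv F15341)
theorem F20435 : act 2 n6519 = n6517 := d15_1 D6519 (iv D6517) (iv F15342)
theorem F20436 : act 3 n6519 = n5152 := d19_1 D6519 (iv D5152) (iv F15343)
theorem F20437 : act 4 n6519 = n6514 := d22_1 D6519 (iv D6514) (iv F15344)
theorem F20438 : act 6 n6519 = n4957 := d25_2 D4956 D6519 (iv D4957) (iv D3602) D3601
theorem F20439 : act 7 n6519 = n5199 := d31_1 D6519 F16162 F16019 F11685 (iv D2678) F5662 F5663 F3898 (iv D1230) F2690 F2583 (iv F3687) D1709 F5319 (iv F7693) (iv F9941) F12352 F12351 (iv D2801) F5946 (iv F7384) F8596 F8595 D3961 (iv F15844) F15843 F11530 D3768 (iv F15343)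
def n6520 : Q := act 7 n4956
theorem D6520 : act 7 n4956 = n6520 := rfl
theorem F20440 : act 0 n6520 = n4962 := d6_1 D6520 (iv D4962) (iv F15341)
theorem F20441 : act 2 n6520 = n6286 := d17_1 D6520 F19672 (iv F15342)
theorem F20442 : act 3 n6520 = n5205 := d21_1 D6520 F16182 F15978 (iv D5153) (iv F15343)
theorem F20443 : act 4 n6520 = n6515 := d24_1 D6520 (iv D6515) (iv F15344)
theorem F20444 : act 5 n6520 = n5199 := d26_1 D6520 (iv F20439) (iv D6519)
theorem F20445 : act 6 n6520 = n6520 := d27_1 D6520 (iv D6520) (iv D4956) F11074 D4956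
def n6521 : Q := act 1 n4957
theorem D6521 : act 1 n4957 = n6521 := rfl
theorem F20446 : act 3 n6521 = n5154 := d8_2 (iv F15346) D6521 (iv D5154)
theorem F20447 : act 5 n6521 = n5481 := d10_2 D4957 D6521 (iv D5481) (iv D4054) (iv F11076)
theorem F20448 : act 7 n6521 = n5165 := d12_2 F15347 D6521 F16027
def n6522 : Q := act 5 n4959
theorem D6522 : act 5 n4959 = n6522 := rfl
theorem F20449 : act 1 n6522 = n5138 := d10_1 D6522 F15919 F12319 F11362 (iv F15353)
theorem F20450 : act 3 n6522 = n4960 := d19_1 D6522 (iv D4960) (iv F15354)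
theorem F20451 : act 4 n6522 = n5157 := d22_1 D6522 (iv D5157) (iv F15355)
theorem F20452 : act 6 n6522 = n5136 := d25_2 D4959 D6522 F15910 (iv D4947) (iv F11080)
theorem F20453 : act 7 n6522 = n6522 := d26_2 F15356 D6522 (iv D6522)
def n6523 : Q := act 5 n4963
theorem D6523 : act 5 n4963 = n6523 := rfl
theorem F20454 : act 3 n6523 = n5177 := d19_1 D6523 (iv D5177) (iv F15372)
theorem F20455 : act 4 n6523 = n6505 := d22_1 D6523 (iv D6505) (iv F15373)
theorem F20456 : act 6 n6523 = n5485 := d25_2 D4963 D6523 (iv D5485) (iv D4061) (iv F11112)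
def n6524 : Q := act 7 n4963
theorem D6524 : act 7 n4963 = n6524 := rfl
theorem F20457 : act 1 n6524 = n4964 := d12_1 D6524 (iv D4964) (iv F15371)
theorem F20458 : act 2 n6524 = n6323 := d17_1 D6524 F19802 F17087
theorem F20459 : act 4 n6524 = n6506 := d24_1 D6524 (iv D6506) (iv F15373)
theorem F20460 : act 6 n6524 = n6524 := d27_1 D6524 (iv D6524) (iv D4963) F11113 D4963
def n6525 : Q := act 3 n4964
theorem D6525 : act 3 n4964 = n6525 := rfl
theorem F20461 : act 0 n6525 = n4966 := d2_1 D6525 (iv D4966) (iv F15374)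
theorem F20462 : act 2 n6525 = n6288 := d13_1 D6525 (iv D6288) (iv D4763) (iv F14712) (iv F15375)
theorem F20463 : act 6 n6525 = n6525 := d20_2 F15377 D6525 (iv D6525)
theorem F20464 : act 7 n6525 = n5181 := d21_2 D4964 D6525 (iv D5181) (iv D3798) (iv F11116)
def n6526 : Q := act 6 n4967
theorem D6526 : act 6 n4967 = n6526 := rfl
theorem F20465 : act 0 n6526 = n4975 := d5_1 D6526 (iv D4975) (iv F15388)
theorem F20466 : act 2 n6526 = n4968 := d16_1 D6526 (iv D4968) D4967
theorem F20467 : act 3 n6526 = n4971 := d20_1 D6526 (iv D4971) (iv F15389)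
theorem F20468 : act 4 n6526 = n6268 := d23_1 D6526 (iv F19612) (iv F17625)
theorem F20469 : act 5 n5281 = n6526 := d22_0 F20468 (iv D6268) (iv F16437)
theorem F20470 : act 7 n5280 = n6526 := d24_0 F20468 F19610 (iv F16434)
def n6527 : Q := act 0 n4969
theorem D6527 : act 0 n4969 = n6527 := rfl
theorem F20471 : act 1 n6527 = n4976 := d0_2 D4969 D6527 (iv D4976) (iv D3628) (iv F11147)
theorem F20472 : act 2 n6527 = n6527 := d1_2 F15398 D6527 (iv D6527)
theorem F20473 : act 7 n6527 = n5208 := d6_2 (iv F15399) D6527 (iv D5208)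
def n6528 : Q := act 4 n4969
theorem D6528 : act 4 n4969 = n6528 := rfl
theorem F20474 : act 1 n6528 = n4970 := d9_1 D6528 (iv D4970) D4969
theorem F20475 : act 2 n6528 = n6528 := d14_1 D6528 (iv D6528) F15398
theorem F20476 : act 7 n6528 = n5209 := d24_2 (iv F15399) D6528 (iv D5209)
theorem F20477 : act 6 n6527 = n6528 := d11_0 F20474 (iv F15424) (iv F20471)
def n6529 : Q := act 6 n4969
theorem D6529 : act 6 n4969 = n6529 := rfl
theorem F20478 : act 0 n6529 = n6528 := d5_1 D6529 (iv F20477) (iv D6527)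
theorem F20479 : act 1 n6529 = n4971 := d11_1 D6529 (iv D4971) D4969
theorem F20480 : act 2 n6529 = n6529 := d16_1 D6529 (iv D6529) F15398
theorem F20481 : act 4 n6529 = n6527 := d23_1 D6529 F20477 (iv D6528)
def n6530 : Q := act 3 n4970
theorem D6530 : act 3 n4970 = n6530 := rfl
theorem F20482 : act 0 n6530 = n4978 := d2_1 D6530 (iv D4978) (iv F15400)
theorem F20483 : act 2 n6530 = n6530 := d13_1 D6530 (iv D6530) F15401 F11152 (iv F15401)
theorem F20484 : act 5 n6530 = n5002 := d19_2 (iv F15402) D6530 (iv D5002)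
def n6531 : Q := act 5 n4971
theorem D6531 : act 5 n4971 = n6531 := rfl
theorem F20485 : act 0 n6531 = n4979 := d4_1 D6531 (iv D4979) (iv F15404)
theorem F20486 : act 2 n6531 = n4972 := d15_1 D6531 (iv D4972) (iv F15405)
theorem F20487 : act 3 n6531 = n5281 := d19_1 D6531 F20469 F20467
theorem F20488 : act 6 n6531 = n5004 := d25_2 D4971 D6531 (iv D5004) (iv D3650) (iv F11148)
def n6532 : Q := act 0 n4973
theorem D6532 : act 0 n4973 = n6532 := rfl
theorem F20489 : act 2 n6532 = n6532 := d1_2 F15410 D6532 (iv D6532)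
theorem F20490 : act 3 n6532 = n4976 := d2_2 (iv F15411) D6532 (iv D4976)
theorem F20491 : act 6 n6532 = n6530 := d5_2 F15432 D6532 F20482
theorem F20492 : act 7 n6532 = n6253 := d6_2 (iv F15412) D6532 (iv D6253)
def n6533 : Q := act 5 n4976
theorem D6533 : act 5 n4976 = n6533 := rfl
theorem F20493 : act 0 n6533 = n4977 := d4_1 D6533 (iv D4977) D4976
theorem F20494 : act 2 n6533 = n4980 := d15_1 D6533 (iv D4980) (iv F15422)
theorem F20495 : act 4 n6533 = n6531 := d22_1 D6533 (iv D6531) (iv F15423)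
theorem F20496 : act 7 n6533 = n5218 := d26_2 (iv F15425) D6533 (iv D5218)
def n6534 : Q := act 6 n4981
theorem D6534 : act 6 n4981 = n6534 := rfl
theorem F20497 : act 1 n6534 = n5593 := d11_1 D6534 (iv D5593) (iv F15442)
theorem F20498 : act 2 n6534 = n4983 := d16_1 D6534 (iv D4983) (iv F15443)
theorem F20499 : act 3 n6534 = n5491 := d20_1 D6534 (iv D5491) (iv F15444)
theorem F20500 : act 4 n6534 = n5597 := d23_1 D6534 (iv D5597) (iv F15445)
theorem F20501 : act 5 n6534 = n5041 := d25_1 D6534 (iv D5041) (iv D3689) (iv F11218) D4981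
def n6535 : Q := act 7 n4981
theorem D6535 : act 7 n4981 = n6535 := rfl
theorem F20502 : act 0 n6535 = n6014 := d6_1 D6535 F18874 F16163
theorem F20503 : act 1 n6535 = n5594 := d12_1 D6535 (iv D5594) (iv F15442)
theorem F20504 : act 2 n6535 = n4984 := d17_1 D6535 (iv D4984) (iv F15443)
theorem F20505 : act 3 n6535 = n5686 := d21_1 D6535 F17823 F17198 (iv D5492) (iv F15444)
theorem F20506 : act 4 n6535 = n5598 := d24_1 D6535 (iv D5598) (iv F15445)
theorem F20507 : act 5 n6535 = n4982 := d26_1 D6535 (iv D4982) D4981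
def n6536 : Q := act 3 n4982
theorem D6536 : act 3 n4982 = n6536 := rfl
theorem F20508 : act 0 n6536 = n5994 := d2_1 D6536 F18791 F16166
theorem F20509 : act 1 n6536 = n5233 := d8_1 D6536 (iv D5233) (iv F15446)
theorem F20510 : act 2 n6536 = n5664 := d13_1 D6536 (iv F18764) F18763 (iv D4985) (iv F15447)
theorem F20511 : act 5 n6536 = n5686 := d19_2 F20507 D6536 (iv F20505)
theorem F20512 : act 7 n6536 = n5493 := d21_2 D4982 D6536 (iv D5493) (iv D4066) (iv F11216)
def n6537 : Q := act 6 n4982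
theorem D6537 : act 6 n4982 = n6537 := rfl
theorem F20513 : act 1 n6537 = n5234 := d11_1 D6537 (iv D5234) (iv F15446)
theorem F20514 : act 2 n6537 = n4986 := d16_1 D6537 (iv D4986) (iv F15447)
theorem F20515 : act 4 n6537 = n5809 := d23_1 D6537 (iv D5809) (iv F15448)
theorem F20516 : act 7 n6537 = n5044 := d27_2 D4982 D6537 (iv D5044) (iv D3690) (iv F11218)
def n6538 : Q := act 7 n4983
theorem D6538 : act 7 n4983 = n6538 := rfl
theorem F20517 : act 1 n6538 = n5924 := d12_1 D6538 (iv D5924) (iv F15449)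
theorem F20518 : act 3 n6538 = n5732 := d21_1 D6538 (iv D5732) F13213 F11228 (iv F15450)
theorem F20519 : act 4 n6538 = n5930 := d24_1 D6538 (iv D5930) (iv F15451)
theorem F20520 : act 5 n6538 = n5049 := d26_1 D6538 (iv D5049) (iv F15452)
def n6539 : Q := act 6 n4984
theorem D6539 : act 6 n4984 = n6539 := rfl
theorem F20521 : act 1 n6539 = n5925 := d11_1 D6539 (iv D5925) (iv F15453)
theorem F20522 : act 4 n6539 = n5932 := d23_1 D6539 (iv D5932) (iv F15454)
def n6540 : Q := act 6 n4985
theorem D6540 : act 6 n4985 = n6540 := rfl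
theorem F20523 : act 1 n6540 = n4990 := d11_1 D6540 (iv D4990) (iv F15456)
theorem F20524 : act 3 n6540 = n4986 := d20_1 D6540 (iv D4986) D4985
def n6541 : Q := act 5 n4986
theorem D6541 : act 5 n4986 = n6541 := rfl
theorem F20525 : act 4 n6541 = n6069 := d22_1 D6541 (iv D6069) (iv F15459)
theorem F20526 : act 7 n6541 = n5055 := d26_2 (iv F15460) D6541 (iv D5055)
def n6542 : Q := act 7 n4987
theorem D6542 : act 7 n4987 = n6542 := rfl
theorem F20527 : act 0 n6542 = n6521 := d6_1 D6542 F20448 F16026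
theorem F20528 : act 1 n6542 = n4997 := d12_1 D6542 (iv D4997) (iv F15461)
theorem F20529 : act 3 n6542 = n5062 := d21_1 D6542 (iv D5062) F11407 (iv F11239) (iv F15462)
theorem F20530 : act 5 n6542 = n5571 := d26_1 D6542 F17465 (iv F15463)
def n6543 : Q := act 1 n4988
theorem D6543 : act 1 n4988 = n6543 := rfl
theorem F20531 : act 0 n6543 = n5632 := d0_1 D6543 F17653 F15480 F11299 (iv F15464)
theorem F20532 : act 2 n6543 = n5651 := d7_2 D4988 D6543 (iv F18762) F18763 F15456
theorem F20533 : act 3 n6543 = n5242 := d8_2 (iv F15465) D6543 (iv D5242)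
theorem F20534 : act 5 n6543 = n5630 := d10_2 (iv F15466) D6543 F17644 F19035 (iv D6062)
theorem F20535 : act 7 n6543 = n4992 := d12_2 (iv F15467) D6543 (iv D4992)
def n6544 : Q := act 6 n4988
theorem D6544 : act 6 n4988 = n6544 := rfl
theorem F20536 : act 0 n6544 = n5009 := d5_1 D6544 (iv D5009) (iv F15464)
theorem F20537 : act 2 n6544 = n4990 := d16_1 D6544 (iv D4990) D4988
theorem F20538 : act 3 n6544 = n5244 := d20_1 D6544 (iv D5244) (iv F15465)
def n6545 : Q := act 6 n4989
theorem D6545 : act 6 n4989 = n6545 := rfl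
theorem F20539 : act 0 n6545 = n5010 := d5_1 D6545 (iv D5010) (iv F15468)
theorem F20540 : act 3 n6545 = n5161 := d20_1 D6545 F16014 (iv F15469)
theorem F20541 : act 4 n6545 = n4990 := d23_1 D6545 (iv D4990) D4989
def n6546 : Q := act 5 n4990
theorem D6546 : act 5 n4990 = n6546 := rfl
theorem F20542 : act 0 n6546 = n5011 := d4_1 D6546 (iv D5011) (iv F15472)
theorem F20543 : act 3 n6546 = n4991 := d19_1 D6546 (iv D4991) (iv F15473)
theorem F20544 : act 6 n6546 = n5290 := d25_2 D4990 D6546 F16469 (iv D4581) (iv F11241)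
theorem F20545 : act 7 n5032 = n6546 := d27_0 F20544 (iv D5290) (iv D3894) (iv F11352) D5032
def n6547 : Q := act 7 n4990
theorem D6547 : act 7 n4990 = n6547 := rfl
theorem F20546 : act 0 n6547 = n5012 := d6_1 D6547 (iv D5012) (iv F15472)
theorem F20547 : act 3 n6547 = n5071 := d21_1 D6547 (iv D5071) F11424 (iv F11246) (iv F15473)
theorem F20548 : act 5 n6547 = n5032 := d26_1 D6547 F20545 (iv D6546)
theorem F20549 : act 6 n6547 = n4997 := d27_1 D6547 (iv D4997) (iv D3646) (iv F11242) D4990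
def n6548 : Q := act 1 n4991
theorem D6548 : act 1 n4991 = n6548 := rfl
theorem F20550 : act 4 n6548 = n6072 := d9_2 (iv F15476) D6548 (iv D6072)
theorem F20551 : act 6 n6548 = n6066 := d11_2 (iv F15477) D6548 (iv D6066)
theorem F20552 : act 7 n6548 = n5072 := d12_2 (iv F15478) D6548 (iv D5072)
def n6549 : Q := act 0 n4992
theorem D6549 : act 0 n4992 = n6549 := rfl
theorem F20553 : act 1 n6549 = n5014 := d0_2 D4992 D6549 (iv D5014) (iv D3659) (iv F11247)
theorem F20554 : act 2 n6549 = n5643 := d1_2 F17726 D6549 (iv F17724)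
theorem F20555 : act 3 n6549 = n4998 := d2_2 (iv F15479) D6549 (iv D4998)
theorem F20556 : act 4 n6549 = n6543 := d3_2 F17655 D6549 F20531
theorem F20557 : act 5 n6549 = n5616 := d4_2 F17652 D6549 (iv F17647)
theorem F20558 : act 7 n6549 = n5632 := d6_2 F20535 D6549 (iv F20531)
def n6550 : Q := act 6 n4992
theorem D6550 : act 6 n4992 = n6550 := rfl
theorem F20559 : act 1 n6550 = n4994 := d11_1 D6550 (iv D4994) D4992
theorem F20560 : act 3 n6550 = n5001 := d20_1 D6550 (iv D5001) (iv F15479)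
def n6551 : Q := act 6 n4993
theorem D6551 : act 6 n4993 = n6551 := rfl
theorem F20561 : act 0 n6551 = n5016 := d5_1 D6551 (iv D5016) (iv F15480)
theorem F20562 : act 2 n6551 = n4995 := d16_1 D6551 (iv D4995) (iv F15481)
theorem F20563 : act 4 n6551 = n4994 := d23_1 D6551 (iv D4994) D4993
theorem F20564 : act 5 n6551 = n6269 := d25_1 D6551 (iv D6269) D6268 (iv F19612) (iv F17626)
def n6552 : Q := act 5 n4994
theorem D6552 : act 5 n4994 = n6552 := rfl
theorem F20565 : act 0 n6552 = n5017 := d4_1 D6552 (iv D5017) (iv F15482)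
theorem F20566 : act 2 n6552 = n4996 := d15_1 D6552 (iv D4996) (iv F15483)
theorem F20567 : act 3 n6552 = n5004 := d19_1 D6552 (iv D5004) (iv F15484)
theorem F20568 : act 4 n6552 = n6269 := d22_1 D6552 (iv F20564) F20563
theorem F20569 : act 6 n6552 = n5281 := d25_2 D4994 D6552 F20469 (iv D6526) F15390
theorem F20570 : act 7 n5022 = n6552 := d27_0 F20569 (iv D5281) (iv D3886) (iv F11323) D5022
def n6553 : Q := act 7 n4994
theorem D6553 : act 7 n4994 = n6553 := rfl
theorem F20571 : act 0 n6553 = n5018 := d6_1 D6553 (iv D5018) (iv F15482)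
theorem F20572 : act 2 n6553 = n4997 := d17_1 D6553 (iv D4997) (iv F15483)
theorem F20573 : act 5 n6553 = n5022 := d26_1 D6553 F20570 (iv D6552)
def n6554 : Q := act 7 n4995
theorem D6554 : act 7 n4995 = n6554 := rfl
theorem F20574 : act 0 n6554 = n5019 := d6_1 D6554 (iv D5019) (iv F15485)
theorem F20575 : act 4 n6554 = n4997 := d24_1 D6554 (iv D4997) (iv F15487)
theorem F20576 : act 5 n6554 = n5030 := d26_1 D6554 F15608 (iv F15488)
def n6555 : Q := act 4 n4998
theorem D6555 : act 4 n4998 = n6555 := rfl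
theorem F20577 : act 0 n6555 = n4999 := d3_1 D6555 (iv D4999) D4998
theorem F20578 : act 1 n6555 = n5020 := d9_1 D6555 (iv D5020) (iv F15498)
theorem F20579 : act 2 n6555 = n5520 := d14_1 D6555 (iv D5520) (iv F15499)
theorem F20580 : act 7 n6555 = n5254 := d24_2 (iv F15500) D6555 (iv D5254)
def n6556 : Q := act 5 n4998
theorem D6556 : act 5 n4998 = n6556 := rfl
theorem F20581 : act 0 n6556 = n5000 := d4_1 D6556 (iv D5000) D4998
theorem F20582 : act 2 n6556 = n5521 := d15_1 D6556 (iv D5521) (iv F15499)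
theorem F20583 : act 3 n6556 = n5616 := d19_1 D6556 (iv F20557) F20555
theorem F20584 : act 7 n6556 = n5255 := d26_2 (iv F15500) D6556 (iv D5255)
theorem F20585 : act 1 n5602 = n6556 := d8_3 F20583 (iv D5616) (iv F17573)
def n6557 : Q := act 6 n4998
theorem D6557 : act 6 n4998 = n6557 := rfl
theorem F20586 : act 0 n6557 = n5001 := d5_1 D6557 (iv D5001) D4998
theorem F20587 : act 1 n6557 = n5022 := d11_1 D6557 (iv D5022) (iv F15498)
theorem F20588 : act 2 n6557 = n5522 := d16_1 D6557 (iv D5522) (iv F15499)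
def n6558 : Q := act 3 n4999
theorem D6558 : act 3 n4999 = n6558 := rfl
theorem F20589 : act 1 n6558 = n5002 := d8_1 D6558 (iv D5002) (iv F15501)
def n6559 : Q := act 5 n4999
theorem D6559 : act 5 n4999 = n6559 := rfl
theorem F20590 : act 2 n6559 = n5524 := d15_1 D6559 (iv D5524) (iv F15502)
theorem F20591 : act 4 n6559 = n5000 := d22_1 D6559 (iv D5000) D4999
theorem F20592 : act 7 n6559 = n5257 := d26_2 (iv F15503) D6559 (iv D5257)
def n6560 : Q := act 6 n4999
theorem D6560 : act 6 n4999 = n6560 := rfl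
theorem F20593 : act 1 n6560 = n5003 := d11_1 D6560 (iv D5003) (iv F15501)
theorem F20594 : act 2 n6560 = n5525 := d16_1 D6560 (iv D5525) (iv F15502)
theorem F20595 : act 4 n6560 = n5001 := d23_1 D6560 (iv D5001) D4999
theorem F20596 : act 7 n6560 = n6084 := d27_2 (iv F15503) D6560 (iv D6084) F14235 F11976
def n6561 : Q := act 6 n5000
theorem D6561 : act 6 n5000 = n6561 := rfl
theorem F20597 : act 2 n6561 = n5526 := d16_1 D6561 (iv D5526) (iv F15504)
def n6562 : Q := act 5 n5001
theorem D6562 : act 5 n5001 = n6562 := rfl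
theorem F20598 : act 2 n6562 = n5527 := d15_1 D6562 (iv D5527) (iv F15507)
def n6563 : Q := act 7 n5001
theorem D6563 : act 7 n5001 = n6563 := rfl
theorem F20599 : act 1 n6563 = n5005 := d12_1 D6563 (iv D5005) (iv F15506)
theorem F20600 : act 2 n6563 = n5528 := d17_1 D6563 (iv D5528) (iv F15507)
theorem F20601 : act 4 n6563 = n6084 := d24_1 D6563 (iv F20596) F20595
theorem F20602 : act 6 n6563 = n5260 := d27_1 D6563 (iv D5260) (iv D3870) (iv F11260) D5001
def n6564 : Q := act 6 n5002
theorem D6564 : act 6 n5002 = n6564 := rfl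
theorem F20603 : act 0 n6564 = n5025 := d5_1 D6564 (iv D5025) (iv F15508)
theorem F20604 : act 2 n6564 = n6564 := d16_1 D6564 (iv D6564) F15509
theorem F20605 : act 3 n6564 = n5003 := d20_1 D6564 (iv D5003) D5002
def n6565 : Q := act 5 n5003
theorem D6565 : act 5 n5003 = n6565 := rfl
theorem F20606 : act 0 n6565 = n5026 := d4_1 D6565 (iv D5026) (iv F15510)
theorem F20607 : act 2 n6565 = n5006 := d15_1 D6565 (iv D5006) (iv F15511)
theorem F20608 : act 4 n6565 = n5004 := d22_1 D6565 (iv D5004) (iv F15512)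
theorem F20609 : act 6 n6565 = n6533 := d25_2 D5003 D6565 (iv D6533) F15424 F15402
theorem F20610 : act 7 n6565 = n6085 := d26_2 (iv F15513) D6565 (iv D6085)
def n6566 : Q := act 1 n5004
theorem D6566 : act 1 n5004 = n6566 := rfl
def n6567 : Q := act 7 n5004
theorem D6567 : act 7 n5004 = n6567 := rfl
theorem F20611 : act 0 n6567 = n5028 := d6_1 D6567 (iv D5028) (iv F15514)
theorem F20612 : act 2 n6567 = n5008 := d17_1 D6567 (iv D5008) (iv F15515)
theorem F20613 : act 4 n6567 = n6085 := d24_1 D6567 (iv F20610) F20608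
theorem F20614 : act 5 n6567 = n5005 := d26_1 D6567 (iv D5005) D5004
def n6568 : Q := act 3 n5005
theorem D6568 : act 3 n5005 = n6568 := rfl
theorem F20615 : act 0 n6568 = n5027 := d2_1 D6568 F15595 (iv F15516)
theorem F20616 : act 2 n6568 = n5095 := d13_1 D6568 (iv D5095) F11465 (iv F11275) (iv F15517)
theorem F20617 : act 6 n6568 = n5261 := d20_2 (iv F15519) D6568 (iv D5261)
def n6569 : Q := act 1 n5006
theorem D6569 : act 1 n5006 = n6569 := rfl
theorem F20618 : act 0 n6569 = n5682 := d0_1 D6569 F17808 F15279 (iv F11339) (iv F15520)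
theorem F20619 : act 3 n6569 = n6569 := d8_2 F15521 D6569 (iv D6569)
theorem F20620 : act 4 n6569 = n5007 := d9_2 (iv F15522) D6569 (iv D5007)
theorem F20621 : act 5 n6569 = n5533 := d10_2 D5006 D6569 (iv D5533) (iv D4094) (iv F11267)
theorem F20622 : act 6 n6569 = n6009 := d11_2 (iv F15523) D6569 F18848
theorem F20623 : act 7 n6569 = n6086 := d12_2 (iv F15524) D6569 (iv D6086)
def n6570 : Q := act 7 n5007
theorem D6570 : act 7 n5007 = n6570 := rfl
theorem F20624 : act 0 n6570 = n5683 := d6_1 D6570 (iv D5683) (iv F15525)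
theorem F20625 : act 1 n6570 = n5008 := d12_1 D6570 (iv D5008) D5007
theorem F20626 : act 3 n6570 = n5097 := d21_1 D6570 (iv D5097) F11473 (iv F11283) (iv F15526)
theorem F20627 : act 4 n6570 = n6086 := d24_1 D6570 (iv F20623) F20620
theorem F20628 : act 5 n6570 = n5535 := d26_1 D6570 (iv D5535) (iv F15527)
def n6571 : Q := act 6 n5008
theorem D6571 : act 6 n5008 = n6571 := rfl
theorem F20629 : act 0 n6571 = n5029 := d5_1 D6571 (iv D5029) (iv F15529)
theorem F20630 : act 3 n6571 = n5098 := d20_1 D6571 (iv D5098) (iv F15530)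
theorem F20631 : act 4 n6571 = n5246 := d23_1 D6571 F16325 (iv F15531)
theorem F20632 : act 5 n6571 = n5245 := d25_1 D6571 (iv D5245) F11954 (iv F11277) (iv F15532)
def n6572 : Q := act 7 n5009
theorem D6572 : act 7 n5009 = n6572 := rfl
theorem F20633 : act 2 n6572 = n5012 := d17_1 D6572 (iv D5012) (iv F15533)
theorem F20634 : act 5 n6572 = n5024 := d26_1 D6572 (iv F19619) F19617
theorem F20635 : act 6 n6572 = n5018 := d27_1 D6572 (iv D5018) (iv D3661) (iv F11286) D5009
def n6573 : Q := act 0 n5013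
theorem D6573 : act 0 n5013 = n6573 := rfl
theorem F20636 : act 3 n6573 = n5036 := d2_2 (iv F15546) D6573 F15619
theorem F20637 : act 4 n6573 = n6261 := d3_2 (iv F15547) D6573 (iv D6261)
theorem F20638 : act 5 n6573 = n6525 := d4_2 (iv F15548) D6573 F20461
theorem F20639 : act 6 n6573 = n5303 := d5_2 (iv F15549) D6573 F16509
theorem F20640 : act 7 n6573 = n5105 := d6_2 (iv F15550) D6573 (iv D5105)
def n6574 : Q := act 6 n5014
theorem D6574 : act 6 n5014 = n6574 := rfl
theorem F20641 : act 0 n6574 = n5015 := d5_1 D6574 (iv D5015) D5014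
theorem F20642 : act 2 n6574 = n6545 := d16_1 D6574 (iv D6545) (iv F15551)
theorem F20643 : act 3 n6574 = n5022 := d20_1 D6574 (iv D5022) (iv F15552)
theorem F20644 : act 4 n6574 = n6544 := d23_1 D6574 (iv D6544) (iv F15553)
def n6575 : Q := act 5 n5015
theorem D6575 : act 5 n5015 = n6575 := rfl
theorem F20645 : act 1 n6575 = n5028 := d10_1 D6575 F15600 (iv F15567) (iv D5017) (iv F15555)
theorem F20646 : act 2 n6575 = n5116 := d15_1 D6575 F15837 (iv F15556)
theorem F20647 : act 3 n6575 = n5018 := d19_1 D6575 F15570 (iv F15557)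
theorem F20648 : act 4 n6575 = n6270 := d22_1 D6575 F19617 (iv F15558)
theorem F20649 : act 7 n6575 = n5027 := d31_1 D6575 F15596 F15586 (iv D3680) (iv F8188) F8189 F5649 (iv F8216) (iv F8219) D3420 F10519 D3421 (iv F11494) F11492 F8045 F5901 (iv F8572) (iv D2781) D2782 F8576 (iv F10912) F10914 (iv F8426) (iv D2736) (iv F7937) (iv D2574) (iv F7919) D3669 (iv F15557)
def n6576 : Q := act 7 n5015
theorem D6576 : act 7 n5015 = n6576 := rfl
theorem F20650 : act 1 n6576 = n5018 := d12_1 D6576 (iv D5018) (iv F15555)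
theorem F20651 : act 2 n6576 = n5137 := d17_1 D6576 F15914 (iv F15556)
theorem F20652 : act 3 n6576 = n5028 := d21_1 D6576 (iv D5028) (iv F15564) (iv F15568) (iv F15557)
theorem F20653 : act 4 n6576 = n6572 := d24_1 D6576 (iv D6572) (iv F15558)
theorem F20654 : act 5 n6576 = n5027 := d26_1 D6576 (iv F20649) (iv D6575)
def n6577 : Q := act 7 n5016
theorem D6577 : act 7 n5016 = n6577 := rfl
theorem F20655 : act 1 n6577 = n6572 := d12_1 D6577 (iv D6572) (iv F15559)
theorem F20656 : act 2 n6577 = n5019 := d17_1 D6577 (iv D5019) (iv F15560)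
theorem F20657 : act 4 n6577 = n5018 := d24_1 D6577 (iv D5018) (iv F15561)
theorem F20658 : act 5 n6577 = n5023 := d26_1 D6577 F15585 (iv F15562)
theorem F20659 : act 6 n6577 = n6576 := d27_1 D6577 (iv D6576) (iv D5015) (iv F11301) D5016
def n6578 : Q := act 6 n5020
theorem D6578 : act 6 n5020 = n6578 := rfl
theorem F20660 : act 0 n6578 = n5023 := d5_1 D6578 (iv D5023) (iv F15574)
theorem F20661 : act 2 n6578 = n5030 := d16_1 D6578 (iv D5030) (iv F15575)
theorem F20662 : act 4 n6578 = n5022 := d23_1 D6578 (iv D5022) D5020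
theorem F20663 : act 7 n6578 = n6269 := d27_2 (iv F15576) D6578 (iv D6269) F14652 F12026
def n6579 : Q := act 1 n5021
theorem D6579 : act 1 n5021 = n6579 := rfl
theorem F20664 : act 3 n6579 = n5612 := d8_2 F19039 D6579 (iv F19037)
theorem F20665 : act 5 n6579 = n5602 := d10_2 D5021 D6579 F20585 (iv D6556) F15498
theorem F20666 : act 7 n6579 = n5278 := d12_2 (iv F15579) D6579 (iv D5278)
theorem F20667 : act 2 n5600 = n6579 := d15_3 F20665 (iv D5602) (iv F17571)
def n6580 : Q := act 6 n5021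
theorem D6580 : act 6 n5021 = n6580 := rfl
theorem F20668 : act 0 n6580 = n5024 := d5_1 D6580 (iv D5024) (iv F15577)
theorem F20669 : act 2 n6580 = n5032 := d16_1 D6580 (iv D5032) (iv F15578)
theorem F20670 : act 4 n6580 = n6568 := d23_1 D6580 F20617 (iv F16365)
def n6581 : Q := act 5 n5025
theorem D6581 : act 5 n5025 = n6581 := rfl
theorem F20671 : act 2 n6581 = n6581 := d15_1 D6581 (iv D6581) F15587
theorem F20672 : act 3 n6581 = n5026 := d19_1 D6581 (iv D5026) (iv F15588)
theorem F20673 : act 4 n6581 = n6256 := d22_1 D6581 F19572 F16378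
theorem F20674 : act 6 n6581 = n6254 := d25_2 D5025 D6581 (iv F19562) (iv F15432) F15431
theorem F20675 : act 1 n6257 = n6581 := d11_3 F20674 F19559 D6257
theorem F20676 : act 7 n5274 = n6581 := d27_0 F20674 (iv F19567) F19568 F16374 D5274
def n6582 : Q := act 7 n5025
theorem D6582 : act 7 n5025 = n6582 := rfl
theorem F20677 : act 2 n6582 = n6582 := d17_1 D6582 (iv D6582) F15587
theorem F20678 : act 3 n6582 = n5283 := d21_1 D6582 (iv F16445) F14597 (iv F11334) (iv F15588)
theorem F20679 : act 5 n6582 = n5274 := d26_1 D6582 F20676 (iv D6581)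
theorem F20680 : act 6 n6582 = n5275 := d27_1 D6582 F16419 F16240 F12015 D5025
def n6583 : Q := act 6 n5028
theorem D6583 : act 6 n5028 = n6583 := rfl
theorem F20681 : act 2 n6583 = n5029 := d16_1 D6583 (iv D5029) (iv F15598)
theorem F20682 : act 3 n6583 = n6577 := d20_1 D6583 F20659 F20652
theorem F20683 : act 4 n6583 = n5266 := d23_1 D6583 F16384 (iv F15599)
theorem F20684 : act 5 n6583 = n5265 := d25_1 D6583 (iv D5265) F11991 (iv F11338) (iv F15600)
def n6584 : Q := act 2 n5031
theorem D6584 : act 2 n5031 = n6584 := rfl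
theorem F20685 : act 0 n6584 = n5034 := d1_1 D6584 (iv D5034) (iv F15609)
theorem F20686 : act 1 n6584 = n5600 := d7_1 D6584 F20667 (iv D6579) F15578 D5031
theorem F20687 : act 3 n6584 = n5598 := d13_2 F16088 D6584 F17568 D5931 (iv F18583)
theorem F20688 : act 5 n6584 = n5567 := d15_2 (iv F15610) D6584 (iv D5567)
theorem F20689 : act 7 n6584 = n5287 := d17_2 (iv F15611) D6584 (iv D5287)
def n6585 : Q := act 6 n5031
theorem D6585 : act 6 n5031 = n6585 := rfl
theorem F20690 : act 0 n6585 = n5035 := d5_1 D6585 (iv D5035) (iv F15609)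
theorem F20691 : act 1 n6585 = n5032 := d11_1 D6585 (iv D5032) D5031
def n6586 : Q := act 3 n5034
theorem D6586 : act 3 n5034 = n6586 := rfl
theorem F20692 : act 0 n6586 = n5598 := d2_1 D6586 (iv F20687) F20685
theorem F20693 : act 1 n6586 = n6017 := d8_1 D6586 F18882 F18839
theorem F20694 : act 2 n6586 = n5929 := d13_1 D6586 (iv F18577) (iv D5183) F11718 D5034
theorem F20695 : act 4 n6586 = n6014 := d18_2 (iv F18837) D6586 (iv D6014) F14039 D6006
theorem F20696 : act 5 n6586 = n5584 := d19_2 (iv F15616) D6586 (iv D5584)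
theorem F20697 : act 7 n5596 = n6586 := d26_0 F20696 F17524 (iv F17564)
def n6587 : Q := act 6 n5034
theorem D6587 : act 6 n5034 = n6587 := rfl
theorem F20698 : act 2 n6587 = n5035 := d16_1 D6587 (iv D5035) D5034
def n6588 : Q := act 5 n5035
theorem D6588 : act 5 n5035 = n6588 := rfl
theorem F20699 : act 1 n6588 = n6523 := d10_1 D6588 (iv D6523) F15371 (iv F11374) (iv F15618)
theorem F20700 : act 6 n6588 = n5586 := d25_2 D5035 D6588 (iv D5586) (iv D4138) (iv F11371)
def n6589 : Q := act 7 n5035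
theorem D6589 : act 7 n5035 = n6589 := rfl
theorem F20701 : act 1 n6589 = n5036 := d12_1 D6589 (iv D5036) (iv F15618)
theorem F20702 : act 6 n6589 = n5302 := d27_1 D6589 (iv D5302) (iv D3905) (iv F11372) D5035
def n6590 : Q := act 5 n5037
theorem D6590 : act 5 n5037 = n6590 := rfl
theorem F20703 : act 0 n6590 = n5903 := d4_1 D6590 F20300 F20295
theorem F20704 : act 1 n6590 = n5488 := d10_1 D6590 (iv D5488) F12628 F12109 (iv F15622)
theorem F20705 : act 2 n6590 = n6590 := d15_1 D6590 (iv D6590) F15623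
theorem F20706 : act 3 n6590 = n5038 := d19_1 D6590 (iv D5038) D5037
theorem F20707 : act 4 n6590 = n5490 := d22_1 D6590 F17190 (iv F15624)
theorem F20708 : act 7 n5878 = n6590 := d24_0 F20707 (iv F17191) D5878
def n6591 : Q := act 7 n5037
theorem D6591 : act 7 n5037 = n6591 := rfl
theorem F20709 : act 0 n6591 = n5400 := d6_1 D6591 F20301 F20295
theorem F20710 : act 1 n6591 = n5306 := d12_1 D6591 (iv D5306) (iv F15622)
theorem F20711 : act 2 n6591 = n6591 := d17_1 D6591 (iv D6591) F15623
theorem F20712 : act 4 n6591 = n5375 := d24_1 D6591 F16802 (iv F15624)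
theorem F20713 : act 5 n6591 = n5878 := d26_1 D6591 F20708 (iv D6590)
def n6592 : Q := act 1 n5038
theorem D6592 : act 1 n5038 = n6592 := rfl
theorem F20714 : act 2 n6592 = n6592 := d7_2 (iv F15626) D6592 (iv D6592) F15626 F11389
theorem F20715 : act 3 n6592 = n5488 := d8_2 F20706 D6592 (iv F20704)
theorem F20716 : act 4 n6592 = n5040 := d9_2 (iv F15627) D6592 (iv D5040)
theorem F20717 : act 5 n6592 = n5307 := d10_2 D5038 D6592 (iv D5307) (iv D3912) (iv F11382)
def n6593 : Q := act 6 n5038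
theorem D6593 : act 6 n5038 = n6593 := rfl
theorem F20718 : act 2 n6593 = n5045 := d16_1 D6593 (iv D5045) (iv F15626)
theorem F20719 : act 4 n6593 = n5041 := d23_1 D6593 (iv D5041) (iv F15627)
theorem F20720 : act 5 n6593 = n5597 := d25_1 D6593 (iv D5597) F12870 (iv F11384) D5038
def n6594 : Q := act 7 n5038
theorem D6594 : act 7 n5038 = n6594 := rfl
theorem F20721 : act 2 n6594 = n5046 := d17_1 D6594 (iv D5046) (iv F15626)
theorem F20722 : act 4 n6594 = n5042 := d24_1 D6594 (iv D5042) (iv F15627)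
theorem F20723 : act 5 n6594 = n5039 := d26_1 D6594 (iv D5039) D5038
def n6595 : Q := act 3 n5039
theorem D6595 : act 3 n5039 = n6595 := rfl
theorem F20724 : act 1 n6595 = n5309 := d8_1 D6595 (iv D5309) (iv F15628)
def n6596 : Q := act 6 n5039
theorem D6596 : act 6 n5039 = n6596 := rfl
theorem F20725 : act 1 n6596 = n5310 := d11_1 D6596 (iv D5310) (iv F15628)
theorem F20726 : act 2 n6596 = n5048 := d16_1 D6596 (iv D5048) (iv F15629)
theorem F20727 : act 4 n6596 = n5044 := d23_1 D6596 (iv D5044) (iv F15630)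
theorem F20728 : act 7 n6596 = n5809 := d27_2 D5039 D6596 (iv D5809) (iv D4347) (iv F11384)
def n6597 : Q := act 0 n5040
theorem D6597 : act 0 n5040 = n6597 := rfl
theorem F20729 : act 2 n6597 = n6597 := d1_2 F15631 D6597 (iv D6597)
theorem F20730 : act 3 n6597 = n5596 := d2_2 (iv F15632) D6597 (iv D5596)
theorem F20731 : act 5 n6597 = n5311 := d4_2 (iv F15633) D6597 (iv D5311)
theorem F20732 : act 7 n5299 = n6597 := d26_0 F20731 F16617 (iv F16503)
def n6598 : Q := act 6 n5040
theorem D6598 : act 6 n5040 = n6598 := rfl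
theorem F20733 : act 1 n6598 = n5041 := d11_1 D6598 (iv D5041) D5040
theorem F20734 : act 2 n6598 = n6598 := d16_1 D6598 (iv D6598) F15631
theorem F20735 : act 3 n6598 = n5597 := d20_1 D6598 (iv D5597) (iv F15632)
def n6599 : Q := act 7 n5040
theorem D6599 : act 7 n5040 = n6599 := rfl
theorem F20736 : act 0 n6599 = n5299 := d6_1 D6599 F20732 (iv D6597)
theorem F20737 : act 1 n6599 = n5042 := d12_1 D6599 (iv D5042) D5040
theorem F20738 : act 2 n6599 = n6599 := d17_1 D6599 (iv D6599) F15631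
theorem F20739 : act 3 n6599 = n5287 := d21_1 D6599 (iv F20689) F20687 (iv D5598) (iv F15632)
theorem F20740 : act 5 n6599 = n5312 := d26_1 D6599 (iv D5312) (iv F15633)
def n6600 : Q := act 7 n5041
theorem D6600 : act 7 n5041 = n6600 := rfl
theorem F20741 : act 2 n6600 = n5049 := d17_1 D6600 (iv D5049) (iv F15634)
def n6601 : Q := act 3 n5042
theorem D6601 : act 3 n5042 = n6601 := rfl
theorem F20742 : act 1 n6601 = n5287 := d8_1 D6601 (iv F20739) F20737
theorem F20743 : act 5 n6601 = n5043 := d19_2 (iv F15637) D6601 (iv D5043)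
theorem F20744 : act 7 n6601 = n5600 := d21_2 D5042 D6601 (iv D5600) (iv D4150) (iv F11386)
theorem F20745 : act 2 n5278 = n6601 := d17_3 F20744 F20667 F20666
def n6602 : Q := act 6 n5042
theorem D6602 : act 6 n5042 = n6602 := rfl
theorem F20746 : act 2 n6602 = n5051 := d16_1 D6602 (iv D5051) (iv F15636)
def n6603 : Q := act 2 n5043
theorem D6603 : act 2 n5043 = n6603 := rfl
theorem F20747 : act 1 n6603 = n5255 := d7_1 D6603 F16349 (iv F16611) (iv D5315) (iv F15638)
theorem F20748 : act 3 n6603 = n5052 := d13_2 D5043 D6603 (iv D5052) (iv D3695) (iv F11388)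
theorem F20749 : act 5 n6603 = n5278 := d15_2 F20743 D6603 F20745
theorem F20750 : act 7 n6603 = n5602 := d17_2 (iv F15639) D6603 (iv D5602)
def n6604 : Q := act 4 n5043
theorem D6604 : act 4 n5043 = n6604 := rfl
theorem F20751 : act 1 n6604 = n5316 := d9_1 D6604 (iv D5316) (iv F15638)
theorem F20752 : act 7 n6604 = n5603 := d24_2 (iv F15639) D6604 (iv D5603)
def n6605 : Q := act 6 n5043
theorem D6605 : act 6 n5043 = n6605 := rfl
theorem F20753 : act 1 n6605 = n5317 := d11_1 D6605 (iv D5317) (iv F15638)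
theorem F20754 : act 3 n6605 = n5044 := d20_1 D6605 (iv D5044) D5043
def n6606 : Q := act 5 n5044
theorem D6606 : act 5 n5044 = n6606 := rfl
theorem F20755 : act 2 n6606 = n5055 := d15_1 D6606 (iv D5055) (iv F15641)
def n6607 : Q := act 7 n5045
theorem D6607 : act 7 n5045 = n6607 := rfl
theorem F20756 : act 1 n6607 = n6607 := d12_1 D6607 (iv D6607) F15642
theorem F20757 : act 4 n6607 = n5049 := d24_1 D6607 (iv D5049) (iv F15644)
theorem F20758 : act 5 n6607 = n5930 := d26_1 D6607 (iv D5930) (iv F15645)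
def n6608 : Q := act 3 n5046
theorem D6608 : act 3 n5046 = n6608 := rfl
theorem F20759 : act 1 n6608 = n6608 := d8_1 D6608 (iv D6608) F15646
theorem F20760 : act 5 n6608 = n5047 := d19_2 (iv F15648) D6608 (iv D5047)
theorem F20761 : act 7 n6608 = n6608 := d21_2 D5046 D6608 (iv D6608) (iv D5046) F11390
def n6609 : Q := act 6 n5046
theorem D6609 : act 6 n5046 = n6609 := rfl
theorem F20762 : act 1 n6609 = n6609 := d11_1 D6609 (iv D6609) F15646
theorem F20763 : act 4 n6609 = n5051 := d23_1 D6609 (iv D5051) (iv F15647)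
def n6610 : Q := act 2 n5047
theorem D6610 : act 2 n5047 = n6610 := rfl
theorem F20764 : act 1 n6610 = n6610 := d7_1 D6610 (iv D6610) F15649 F11409 (iv F15649)
theorem F20765 : act 7 n6610 = n6610 := d17_2 F15650 D6610 (iv D6610)
def n6611 : Q := act 4 n5047
theorem D6611 : act 4 n5047 = n6611 := rfl
theorem F20766 : act 1 n6611 = n5063 := d9_1 D6611 (iv D5063) (iv F15649)
theorem F20767 : act 3 n6611 = n5053 := d18_1 D6611 (iv D5053) (iv D3695) (iv F11393) D5047
theorem F20768 : act 7 n6611 = n6611 := d24_2 F15650 D6611 (iv D6611)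
def n6612 : Q := act 6 n5047
theorem D6612 : act 6 n5047 = n6612 := rfl
theorem F20769 : act 1 n6612 = n5064 := d11_1 D6612 (iv D5064) (iv F15649)
theorem F20770 : act 3 n6612 = n5048 := d20_1 D6612 (iv D5048) D5047
def n6613 : Q := act 5 n5048
theorem D6613 : act 5 n5048 = n6613 := rfl
theorem F20771 : act 4 n6613 = n5055 := d22_1 D6613 (iv D5055) (iv F15652)
theorem F20772 : act 7 n6613 = n6069 := d26_2 (iv F15653) D6613 (iv D6069)
def n6614 : Q := act 6 n5049
theorem D6614 : act 6 n5049 = n6614 := rfl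
theorem F20773 : act 1 n6614 = n6614 := d11_1 D6614 (iv D6614) F15654
theorem F20774 : act 7 n6614 = n5051 := d27_2 D5049 D6614 (iv D5051) (iv D3694) D3693
def n6615 : Q := act 2 n5050
theorem D6615 : act 2 n5050 = n6615 := rfl
theorem F20775 : act 0 n6615 = n6442 := d1_1 D6615 F20163 F17640
theorem F20776 : act 3 n6615 = n5278 := d13_2 D5050 D6615 F20745 (iv D6601) F15636
theorem F20777 : act 5 n6615 = n5052 := d15_2 (iv F15656) D6615 (iv D5052)
theorem F20778 : act 7 n6615 = n5056 := d17_2 (iv F15657) D6615 (iv D5056)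
theorem F20779 : act 1 n5271 = n6615 := d8_3 F20776 (iv D5278) (iv F16404)
def n6616 : Q := act 4 n5050
theorem D6616 : act 4 n5050 = n6616 := rfl
theorem F20780 : act 1 n6616 = n6616 := d9_1 D6616 (iv D6616) F15655
theorem F20781 : act 5 n6616 = n5053 := d22_2 (iv F15656) D6616 (iv D5053)
theorem F20782 : act 7 n6616 = n5057 := d24_2 (iv F15657) D6616 (iv D5057)
def n6617 : Q := act 6 n5050
theorem D6617 : act 6 n5050 = n6617 := rfl
theorem F20783 : act 1 n6617 = n6617 := d11_1 D6617 (iv D6617) F15655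
theorem F20784 : act 3 n6617 = n5051 := d20_1 D6617 (iv D5051) D5050
def n6618 : Q := act 5 n5051
theorem D6618 : act 5 n5051 = n6618 := rfl
theorem F20785 : act 6 n6618 = n5055 := d25_2 D5051 D6618 (iv D5055) (iv D3696) (iv F11397)
def n6619 : Q := act 1 n5052
theorem D6619 : act 1 n5052 = n6619 := rfl
theorem F20786 : act 0 n6619 = n5251 := d0_1 D6619 F16337 (iv F19545) (iv F20335) F20334
theorem F20787 : act 2 n6619 = n5066 := d7_2 D5052 D6619 (iv D5066) (iv D3703) (iv F11398)
theorem F20788 : act 3 n6619 = n5255 := d8_2 F20748 D6619 (iv F20747)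
theorem F20789 : act 5 n6619 = n5249 := d10_2 F20777 D6619 F16334 D5271 F20779
theorem F20790 : act 7 n6619 = n5058 := d12_2 (iv F15659) D6619 (iv D5058)
def n6620 : Q := act 4 n5052
theorem D6620 : act 4 n5052 = n6620 := rfl
theorem F20791 : act 2 n6620 = n5053 := d14_1 D6620 (iv D5053) D5052
theorem F20792 : act 7 n6620 = n5059 := d24_2 (iv F15659) D6620 (iv D5059)
def n6621 : Q := act 6 n5052
theorem D6621 : act 6 n5052 = n6621 := rfl
theorem F20793 : act 2 n6621 = n5054 := d16_1 D6621 (iv D5054) D5052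
def n6622 : Q := act 6 n5053
theorem D6622 : act 6 n5053 = n6622 := rfl
theorem F20794 : act 1 n6622 = n5069 := d11_1 D6622 (iv D5069) (iv F15660)
theorem F20795 : act 4 n6622 = n5054 := d23_1 D6622 (iv D5054) D5053
def n6623 : Q := act 5 n5054
theorem D6623 : act 5 n5054 = n6623 := rfl
theorem F20796 : act 3 n6623 = n5055 := d19_1 D6623 (iv D5055) (iv F15663)
def n6624 : Q := act 7 n5054
theorem D6624 : act 7 n5054 = n6624 := rfl
theorem F20797 : act 1 n6624 = n5071 := d12_1 D6624 (iv D5071) (iv F15662)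
theorem F20798 : act 6 n6624 = n5062 := d27_1 D6624 (iv D5062) (iv D3700) (iv F11399) D5054
def n6625 : Q := act 1 n5055
theorem D6625 : act 1 n5055 = n6625 := rfl
theorem F20799 : act 5 n6625 = n5072 := d10_2 D5055 D6625 (iv D5072) (iv D3706) (iv F11400)
def n6626 : Q := act 1 n5056
theorem D6626 : act 1 n5056 = n6626 := rfl
theorem F20800 : act 0 n6626 = n5263 := d0_1 D6626 F16370 (iv F19608) (iv F19611) F17631
theorem F20801 : act 2 n6626 = n6626 := d7_2 D5056 D6626 (iv D6626) (iv D5056) F11401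
theorem F20802 : act 3 n6626 = n5625 := d8_2 (iv F15664) D6626 (iv D5625)
theorem F20803 : act 7 n6626 = n5271 := d12_2 F20778 D6626 F20779
theorem F20804 : act 5 n5262 = n6626 := d26_3 F20803 (iv D5271) (iv F16369)
theorem F20805 : act 4 n6626 = n6530 := d22_1 F20804 F20484 (iv F16368)
def n6627 : Q := act 4 n5056
theorem D6627 : act 4 n5056 = n6627 := rfl
theorem F20806 : act 1 n6627 = n6530 := d9_1 D6627 (iv F20805) (iv D6626)
theorem F20807 : act 2 n6627 = n5057 := d14_1 D6627 (iv D5057) D5056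
theorem F20808 : act 3 n6627 = n6528 := d18_1 D6627 (iv D6528) F17630 (iv D5626) (iv F15664)
theorem F20809 : act 5 n6627 = n5059 := d22_2 (iv F15665) D6627 (iv D5059)
def n6628 : Q := act 0 n5058
theorem D6628 : act 0 n5058 = n6628 := rfl
theorem F20810 : act 1 n6628 = n6083 := d0_2 D5058 D6628 F20349 (iv D6494) F15236
theorem F20811 : act 2 n6628 = n5073 := d1_2 (iv F15669) D6628 (iv D5073)
theorem F20812 : act 3 n6628 = n5630 := d2_2 (iv F15670) D6628 (iv D5630)
theorem F20813 : act 7 n6628 = n5251 := d6_2 F20790 D6628 (iv F20786)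
theorem F20814 : act 5 n5242 = n6628 := d26_3 F20813 (iv D5251) (iv F16312)
def n6629 : Q := act 4 n5058
theorem D6629 : act 4 n5058 = n6629 := rfl
theorem F20815 : act 1 n6629 = n5059 := d9_1 D6629 (iv D5059) D5058
theorem F20816 : act 2 n6629 = n5074 := d14_1 D6629 (iv D5074) (iv F15669)
theorem F20817 : act 3 n6629 = n6559 := d18_1 D6629 F20591 F17651 (iv D5631) (iv F15670)
theorem F20818 : act 5 n6558 = n6629 := d19_0 F20817 (iv D6559) D6558
def n6630 : Q := act 5 n5058
theorem D6630 : act 5 n5058 = n6630 := rfl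
theorem F20819 : act 0 n6630 = n5242 := d4_1 D6630 F20814 (iv D6628)
theorem F20820 : act 1 n6630 = n5262 := d10_1 D6630 F20804 (iv D6626) F15665 D5058
theorem F20821 : act 2 n6630 = n5075 := d15_1 D6630 (iv D5075) (iv F15669)
theorem F20822 : act 3 n6630 = n5632 := d19_1 D6630 (iv D5632) (iv F15670)
theorem F20823 : act 4 n6630 = n6558 := d22_1 D6630 F20818 (iv D6629)
theorem F20824 : act 7 n6630 = n5249 := d26_2 F20790 D6630 (iv F20789)
def n6631 : Q := act 6 n5058
theorem D6631 : act 6 n5058 = n6631 := rfl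
theorem F20825 : act 1 n6631 = n5060 := d11_1 D6631 (iv D5060) D5058
theorem F20826 : act 2 n6631 = n5076 := d16_1 D6631 (iv D5076) (iv F15669)
theorem F20827 : act 3 n6631 = n5633 := d20_1 D6631 (iv D5633) (iv F15670)
def n6632 : Q := act 3 n5059
theorem D6632 : act 3 n5059 = n6632 := rfl
theorem F20828 : act 1 n6632 = n6559 := d8_1 D6632 (iv F20817) F20815
theorem F20829 : act 2 n6632 = n6632 := d13_1 D6632 (iv D6632) F15671 F11405 (iv F15671)
theorem F20830 : act 4 n6632 = n5634 := d18_2 D5059 D6632 (iv D5634) (iv D4169) (iv F11403)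
theorem F20831 : act 5 n6632 = n6528 := d19_2 F20809 D6632 (iv F20808)
def n6633 : Q := act 6 n5059
theorem D6633 : act 6 n5059 = n6633 := rfl
theorem F20832 : act 2 n6633 = n5061 := d16_1 D6633 (iv D5061) (iv F15671)
theorem F20833 : act 4 n6633 = n5060 := d23_1 D6633 (iv D5060) D5059
def n6634 : Q := act 7 n5060
theorem D6634 : act 7 n5060 = n6634 := rfl
theorem F20834 : act 2 n6634 = n5062 := d17_1 D6634 (iv D5062) (iv F15672)
def n6635 : Q := act 7 n5061
theorem D6635 : act 7 n5061 = n6635 := rfl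
theorem F20835 : act 1 n6635 = n5081 := d12_1 D6635 (iv D5081) (iv F15674)
theorem F20836 : act 4 n6635 = n5062 := d24_1 D6635 (iv D5062) (iv F15676)
def n6636 : Q := act 6 n5063
theorem D6636 : act 6 n5063 = n6636 := rfl
theorem F20837 : act 0 n6636 = n5099 := d5_1 D6636 (iv D5099) (iv F15678)
theorem F20838 : act 2 n6636 = n6636 := d16_1 D6636 (iv D6636) F15679
theorem F20839 : act 3 n6636 = n5069 := d20_1 D6636 (iv D5069) (iv F15680)
theorem F20840 : act 4 n6636 = n5064 := d23_1 D6636 (iv D5064) D5063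
def n6637 : Q := act 5 n5064
theorem D6637 : act 5 n5064 = n6637 := rfl
theorem F20841 : act 0 n6637 = n5100 := d4_1 D6637 (iv D5100) (iv F15683)
theorem F20842 : act 2 n6637 = n6637 := d15_1 D6637 (iv D6637) F15684
theorem F20843 : act 3 n6637 = n5065 := d19_1 D6637 (iv D5065) (iv F15685)
theorem F20844 : act 6 n6637 = n6637 := d25_2 D5064 D6637 (iv D6637) (iv D5064) F11410
def n6638 : Q := act 7 n5064
theorem D6638 : act 7 n5064 = n6638 := rfl
theorem F20845 : act 0 n6638 = n5101 := d6_1 D6638 (iv D5101) (iv F15683)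
theorem F20846 : act 2 n6638 = n6638 := d17_1 D6638 (iv D6638) F15684
theorem F20847 : act 3 n6638 = n6071 := d21_1 D6638 (iv D6071) F14215 (iv F11415) (iv F15685)
theorem F20848 : act 6 n6638 = n6638 := d27_1 D6638 (iv D6638) (iv D5064) F11411 D5064
def n6639 : Q := act 1 n5065
theorem D6639 : act 1 n5065 = n6639 := rfl
theorem F20849 : act 4 n6639 = n5072 := d9_2 (iv F15688) D6639 (iv D5072)
theorem F20850 : act 6 n6639 = n6639 := d11_2 F15689 D6639 (iv D6639)
theorem F20851 : act 7 n6639 = n6072 := d12_2 (iv F15690) D6639 (iv D6072)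
def n6640 : Q := act 0 n5066
theorem D6640 : act 0 n5066 = n6640 := rfl
theorem F20852 : act 1 n6640 = n5103 := d0_2 D5066 D6640 (iv D5103) (iv D3728) (iv F11416)
theorem F20853 : act 2 n6640 = n5251 := d1_2 F20787 D6640 (iv F20786)
theorem F20854 : act 3 n6640 = n5336 := d2_2 (iv F15691) D6640 (iv D5336)
theorem F20855 : act 7 n6640 = n5073 := d6_2 (iv F15692) D6640 (iv D5073)
theorem F20856 : act 5 n5239 = n6640 := d19_0 F20854 (iv F16646) (iv F16303)
def n6641 : Q := act 4 n5066
theorem D6641 : act 4 n5066 = n6641 := rfl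
theorem F20857 : act 1 n6641 = n5067 := d9_1 D6641 (iv D5067) D5066
theorem F20858 : act 3 n6641 = n6641 := d18_1 D6641 (iv D6641) F15691 F12179 (iv F15691)
theorem F20859 : act 7 n6641 = n5074 := d24_2 (iv F15692) D6641 (iv D5074)
def n6642 : Q := act 5 n5066
theorem D6642 : act 5 n5066 = n6642 := rfl
theorem F20860 : act 0 n6642 = n5239 := d4_1 D6642 F20856 (iv D6640)
theorem F20861 : act 1 n6642 = n6642 := d10_1 D6642 (iv D6642) (iv D5066) F11418 D5066
theorem F20862 : act 2 n6642 = n5249 := d15_1 D6642 (iv F20789) F20787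
theorem F20863 : act 3 n6642 = n5337 := d19_1 D6642 (iv D5337) (iv F15691)
theorem F20864 : act 7 n6642 = n5075 := d26_2 (iv F15692) D6642 (iv D5075)
def n6643 : Q := act 6 n5066
theorem D6643 : act 6 n5066 = n6643 := rfl
theorem F20865 : act 1 n6643 = n5068 := d11_1 D6643 (iv D5068) D5066
theorem F20866 : act 3 n6643 = n5338 := d20_1 D6643 (iv D5338) (iv F15691)
def n6644 : Q := act 1 n5070
theorem D6644 : act 1 n5070 = n6644 := rfl
theorem F20867 : act 3 n6644 = n5072 := d8_2 (iv F15704) D6644 (iv D5072)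
theorem F20868 : act 6 n6644 = n6644 := d11_2 F15705 D6644 (iv D6644)
def n6645 : Q := act 0 n5072
theorem D6645 : act 0 n5072 = n6645 := rfl
theorem F20869 : act 1 n6645 = n5105 := d0_2 D5072 D6645 (iv D5105) (iv D3734) (iv F11425)
theorem F20870 : act 6 n6645 = n6645 := d5_2 F15708 D6645 (iv D6645)
def n6646 : Q := act 2 n5072
theorem D6646 : act 2 n5072 = n6646 := rfl
theorem F20871 : act 1 n6646 = n5341 := d7_1 D6646 (iv D5341) (iv D3935) (iv F11426) D5072
theorem F20872 : act 6 n6646 = n6646 := d16_2 F15708 D6646 (iv D6646)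
def n6647 : Q := act 4 n5073
theorem D6647 : act 4 n5073 = n6647 := rfl
theorem F20873 : act 0 n6647 = n5074 := d3_1 D6647 (iv D5074) D5073
theorem F20874 : act 1 n6647 = n5107 := d9_1 D6647 (iv D5107) (iv F15709)
def n6648 : Q := act 5 n5073
theorem D6648 : act 5 n5073 = n6648 := rfl
theorem F20875 : act 0 n6648 = n5075 := d4_1 D6648 (iv D5075) D5073
theorem F20876 : act 1 n6648 = n5235 := d10_1 D6648 F16288 F15813 (iv D5108) (iv F15709)
theorem F20877 : act 2 n6648 = n5242 := d15_1 D6648 F20814 F20811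
theorem F20878 : act 3 n6648 = n5083 := d19_1 D6648 (iv D5083) (iv F15710)
theorem F20879 : act 7 n6648 = n5239 := d26_2 F20855 D6648 F20856
def n6649 : Q := act 6 n5073
theorem D6649 : act 6 n5073 = n6649 := rfl
theorem F20880 : act 0 n6649 = n5076 := d5_1 D6649 (iv D5076) D5073
theorem F20881 : act 1 n6649 = n5109 := d11_1 D6649 (iv D5109) (iv F15709)
theorem F20882 : act 3 n6649 = n5084 := d20_1 D6649 (iv D5084) (iv F15710)
def n6650 : Q := act 3 n5074
theorem D6650 : act 3 n5074 = n6650 := rfl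
theorem F20883 : act 1 n6650 = n5077 := d8_1 D6650 (iv D5077) (iv F15711)
theorem F20884 : act 4 n6650 = n5085 := d18_2 D5074 D6650 (iv D5085) (iv D3714) (iv F11428)
theorem F20885 : act 7 n6650 = n6650 := d21_2 F20859 D6650 (iv D6650) (iv F20859) F20858
def n6651 : Q := act 5 n5074
theorem D6651 : act 5 n5074 = n6651 := rfl
theorem F20886 : act 1 n6651 = n6651 := d10_1 D6651 (iv D6651) F15711 F11431 (iv F15711)
theorem F20887 : act 2 n6651 = n6558 := d15_1 D6651 F20818 F20816
theorem F20888 : act 4 n6651 = n5075 := d22_1 D6651 (iv D5075) D5074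
def n6652 : Q := act 6 n5074
theorem D6652 : act 6 n5074 = n6652 := rfl
theorem F20889 : act 1 n6652 = n5078 := d11_1 D6652 (iv D5078) (iv F15711)
theorem F20890 : act 4 n6652 = n5076 := d23_1 D6652 (iv D5076) D5074
def n6653 : Q := act 6 n5075
theorem D6653 : act 6 n5075 = n6653 := rfl
theorem F20891 : act 1 n6653 = n6653 := d11_1 D6653 (iv D6653) F15712
theorem F20892 : act 3 n6653 = n5088 := d20_1 D6653 (iv D5088) (iv F15713)
def n6654 : Q := act 5 n5076
theorem D6654 : act 5 n5076 = n6654 := rfl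
theorem F20893 : act 3 n6654 = n5089 := d19_1 D6654 (iv D5089) (iv F15715)
def n6655 : Q := act 7 n5076
theorem D6655 : act 7 n5076 = n6655 := rfl
theorem F20894 : act 1 n6655 = n5080 := d12_1 D6655 (iv D5080) (iv F15714)
def n6656 : Q := act 6 n5077
theorem D6656 : act 6 n5077 = n6656 := rfl
theorem F20895 : act 0 n6656 = n5115 := d5_1 D6656 (iv D5115) (iv F15716)
theorem F20896 : act 2 n6656 = n6656 := d16_1 D6656 (iv D6656) F15717
theorem F20897 : act 3 n6656 = n5078 := d20_1 D6656 (iv D5078) D5077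
theorem F20898 : act 4 n6656 = n5091 := d23_1 D6656 (iv D5091) (iv F15718)
theorem F20899 : act 7 n6637 = n6656 := d31_1 D6637 F20898 F15760 (iv D5091) (iv D3717) F8014 F8015 (iv D1886) (iv D1268) D1270 F4031 D1271 (iv F5761) F5760 (iv F6004) (iv D1927) (iv D1294) F2827 (iv D590) (iv F1878) D839 F2726 D851 F2762 D1265 (iv F5851) (iv F7990) D3702 (iv F15685)
theorem F20900 : act 5 n6656 = n6638 := d26_1 F20899 (iv D6638) D6637
def n6657 : Q := act 1 n5079
theorem D6657 : act 1 n5079 = n6657 := rfl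
theorem F20901 : act 3 n6657 = n5093 := d8_2 (iv F15726) D6657 (iv D5093)
theorem F20902 : act 6 n6657 = n6657 := d11_2 F15727 D6657 (iv D6657)
def n6658 : Q := act 3 n5080
theorem D6658 : act 3 n5080 = n6658 := rfl
theorem F20903 : act 0 n6658 = n5116 := d2_1 D6658 (iv D5116) (iv F15728)
theorem F20904 : act 4 n6658 = n6546 := d18_2 F19063 D6658 F20543 F15476 (iv F19062)
theorem F20905 : act 5 n6658 = n6545 := d19_2 F16013 D6658 F20540
theorem F20906 : act 7 n6658 = n5095 := d21_2 D5080 D6658 (iv D5095) (iv D3720) (iv F11434)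
def n6659 : Q := act 3 n5082
theorem D6659 : act 3 n5082 = n6659 := rfl
theorem F20907 : act 0 n6659 = n5085 := d2_1 D6659 (iv D5085) (iv F15732)
theorem F20908 : act 1 n6659 = n5117 := d8_1 D6659 (iv D5117) (iv F15733)
theorem F20909 : act 7 n6659 = n6659 := d21_2 (iv F15735) D6659 (iv D6659) F15735 F12204
def n6660 : Q := act 5 n5082
theorem D6660 : act 5 n5082 = n6660 := rfl
theorem F20910 : act 0 n6660 = n5086 := d4_1 D6660 (iv D5086) (iv F15732)
theorem F20911 : act 2 n6660 = n5662 := d15_1 D6660 (iv D5662) (iv F15734)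
theorem F20912 : act 4 n6660 = n5083 := d22_1 D6660 (iv D5083) D5082
theorem F20913 : act 7 n6660 = n5345 := d26_2 (iv F15735) D6660 (iv D5345)
def n6661 : Q := act 6 n5082
theorem D6661 : act 6 n5082 = n6661 := rfl
theorem F20914 : act 0 n6661 = n5087 := d5_1 D6661 (iv D5087) (iv F15732)
theorem F20915 : act 1 n6661 = n5119 := d11_1 D6661 (iv D5119) (iv F15733)
theorem F20916 : act 2 n6661 = n5663 := d16_1 D6661 (iv D5663) (iv F15734)
theorem F20917 : act 4 n6661 = n5084 := d23_1 D6661 (iv D5084) D5082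
theorem F20918 : act 7 n6661 = n6093 := d27_2 (iv F15735) D6661 (iv D6093) F14254 F12205
def n6662 : Q := act 1 n5083
theorem D6662 : act 1 n5083 = n6662 := rfl
theorem F20919 : act 0 n6662 = n6662 := d0_1 D6662 (iv D6662) F15736 F11448 (iv F15736)
theorem F20920 : act 2 n6662 = n5233 := d7_2 (iv F15737) D6662 (iv F20509) F20510 (iv D5664)
theorem F20921 : act 3 n6662 = n5235 := d8_2 F20878 D6662 (iv F20876)
theorem F20922 : act 5 n6662 = n5120 := d10_2 D5083 D6662 (iv D5120) (iv D3745) (iv F11442)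
theorem F20923 : act 7 n6662 = n5346 := d12_2 (iv F15738) D6662 (iv D5346)
def n6663 : Q := act 6 n5083
theorem D6663 : act 6 n5083 = n6663 := rfl
theorem F20924 : act 0 n6663 = n5088 := d5_1 D6663 (iv D5088) (iv F15736)
theorem F20925 : act 2 n6663 = n5665 := d16_1 D6663 (iv D5665) (iv F15737)
def n6664 : Q := act 5 n5084
theorem D6664 : act 5 n5084 = n6664 := rfl
theorem F20926 : act 0 n6664 = n5089 := d4_1 D6664 (iv D5089) (iv F15739)
theorem F20927 : act 2 n6664 = n5666 := d15_1 D6664 (iv D5666) (iv F15741)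
def n6665 : Q := act 7 n5084
theorem D6665 : act 7 n5084 = n6665 := rfl
theorem F20928 : act 0 n6665 = n5090 := d6_1 D6665 (iv D5090) (iv F15739)
theorem F20929 : act 1 n6665 = n5123 := d12_1 D6665 (iv D5123) (iv F15740)
theorem F20930 : act 2 n6665 = n5659 := d17_1 D6665 F17746 (iv F15741)
theorem F20931 : act 4 n6665 = n6093 := d24_1 D6665 (iv F20918) F20917
theorem F20932 : act 6 n6665 = n5349 := d27_1 D6665 (iv D5349) (iv D3941) (iv F11444) D5084
theorem F20933 : act 3 n6507 = n6665 := d20_3 F20932 F16690 (iv F20385)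
def n6666 : Q := act 2 n5085
theorem D6666 : act 2 n5085 = n6666 := rfl
theorem F20934 : act 1 n6666 = n6666 := d7_1 D6666 (iv D6666) F15742 F11454 (iv F15742)
theorem F20935 : act 3 n6666 = n5667 := d13_2 D5085 D6666 (iv D5667) (iv D4193) (iv F11446)
theorem F20936 : act 7 n6666 = n6666 := d17_2 F15743 D6666 (iv D6666)
def n6667 : Q := act 5 n5085
theorem D6667 : act 5 n5085 = n6667 := rfl
theorem F20937 : act 1 n6667 = n6667 := d10_1 D6667 (iv D6667) F15742 F11455 (iv F15742)
theorem F20938 : act 3 n6667 = n5086 := d19_1 D6667 (iv D5086) D5085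
theorem F20939 : act 7 n6667 = n6667 := d26_2 F15743 D6667 (iv D6667)
def n6668 : Q := act 6 n5085
theorem D6668 : act 6 n5085 = n6668 := rfl
theorem F20940 : act 1 n6668 = n5091 := d11_1 D6668 (iv D5091) (iv F15742)
theorem F20941 : act 3 n6668 = n5087 := d20_1 D6668 (iv D5087) D5085
def n6669 : Q := act 6 n5086
theorem D6669 : act 6 n5086 = n6669 := rfl
theorem F20942 : act 1 n6669 = n6669 := d11_1 D6669 (iv D6669) F15744
theorem F20943 : act 2 n6669 = n5670 := d16_1 D6669 (iv D5670) (iv F15745)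
theorem F20944 : act 4 n6669 = n5088 := d23_1 D6669 (iv D5088) (iv F15746)
def n6670 : Q := act 5 n5087
theorem D6670 : act 5 n5087 = n6670 := rfl
theorem F20945 : act 2 n6670 = n5671 := d15_1 D6670 (iv D5671) (iv F15749)
theorem F20946 : act 4 n6670 = n5089 := d22_1 D6670 (iv D5089) (iv F15750)
theorem F20947 : act 7 n6670 = n6095 := d26_2 (iv F15751) D6670 (iv D6095)
def n6671 : Q := act 5 n5088
theorem D6671 : act 5 n5088 = n6671 := rfl
theorem F20948 : act 2 n6671 = n5672 := d15_1 D6671 (iv D5672) (iv F15753)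
theorem F20949 : act 6 n6671 = n5089 := d25_2 D5088 D6671 (iv D5089) (iv D3716) D3715
def n6672 : Q := act 7 n5088
theorem D6672 : act 7 n5088 = n6672 := rfl
theorem F20950 : act 1 n6672 = n6672 := d12_1 D6672 (iv D6672) F15752
theorem F20951 : act 2 n6672 = n5673 := d17_1 D6672 (iv D5673) (iv F15753)
theorem F20952 : act 6 n6672 = n5352 := d27_1 D6672 (iv D5352) (iv D3943) (iv F11450) D5088
def n6673 : Q := act 1 n5089
theorem D6673 : act 1 n5089 = n6673 := rfl
theorem F20953 : act 5 n6673 = n5093 := d10_2 D5089 D6673 (iv D5093) (iv D3719) (iv F11451)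
def n6674 : Q := act 7 n5089
theorem D6674 : act 7 n5089 = n6674 := rfl
theorem F20954 : act 2 n6674 = n5675 := d17_1 D6674 (iv D5675) (iv F15754)
theorem F20955 : act 4 n6674 = n6095 := d24_1 D6674 (iv F20947) F20946
theorem F20956 : act 5 n6674 = n5090 := d26_1 D6674 (iv D5090) D5089
def n6675 : Q := act 3 n5090
theorem D6675 : act 3 n5090 = n6675 := rfl
theorem F20957 : act 0 n6675 = n6507 := d2_1 D6675 F20933 F20928
theorem F20958 : act 1 n6675 = n5095 := d8_1 D6675 (iv D5095) (iv F15755)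
theorem F20959 : act 6 n6675 = n5354 := d20_2 (iv F15758) D6675 (iv D5354)
theorem F20960 : act 4 n6585 = n6675 := d23_3 F20959 F16707 D6585
def n6676 : Q := act 5 n5091
theorem D6676 : act 5 n5091 = n6676 := rfl
theorem F20961 : act 0 n6676 = n5132 := d4_1 D6676 (iv D5132) (iv F15759)
theorem F20962 : act 2 n6676 = n6676 := d15_1 D6676 (iv D6676) F15760
theorem F20963 : act 3 n6676 = n5092 := d19_1 D6676 (iv D5092) (iv F15761)
theorem F20964 : act 4 n6676 = n6638 := d22_1 D6676 (iv F20900) F20898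
theorem F20965 : act 6 n6676 = n6676 := d25_2 D5091 D6676 (iv D6676) (iv D5091) F11455
theorem F20966 : act 7 n6676 = n6636 := d31_1 D6676 F20840 F15684 (iv D5064) (iv D3701) F7992 (iv D2594) (iv D1771) F3808 (iv F3945) (iv D1242) F2725 D1102 F3516 (iv F2826) D1295 (iv F6005) F6006 F4140 (iv F4021) F4020 (iv D854) D853 F2769 (iv F3817) D1776 (iv F8013) D3718 (iv F15761)
def n6677 : Q := act 7 n5091
theorem D6677 : act 7 n5091 = n6677 := rfl
theorem F20967 : act 0 n6677 = n5133 := d6_1 D6677 (iv D5133) (iv F15759)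
theorem F20968 : act 2 n6677 = n6677 := d17_1 D6677 (iv D6677) F15760
theorem F20969 : act 3 n6677 = n6075 := d21_1 D6677 (iv D6075) F14225 (iv F11460) (iv F15761)
theorem F20970 : act 4 n6677 = n6637 := d24_1 D6677 F20899 F20898
theorem F20971 : act 5 n6677 = n6636 := d26_1 D6677 (iv F20966) (iv D6676)
theorem F20972 : act 6 n6677 = n6677 := d27_1 D6677 (iv D6677) (iv D5091) F11456 D5091
def n6678 : Q := act 1 n5092
theorem D6678 : act 1 n5092 = n6678 := rfl
theorem F20973 : act 4 n6678 = n5093 := d9_2 (iv F15764) D6678 (iv D5093)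
theorem F20974 : act 6 n6678 = n6678 := d11_2 F15765 D6678 (iv D6678)
theorem F20975 : act 7 n6678 = n6096 := d12_2 (iv F15766) D6678 (iv D6096)
def n6679 : Q := act 0 n5093
theorem D6679 : act 0 n5093 = n6679 := rfl
theorem F20976 : act 1 n6679 = n5135 := d0_2 D5093 D6679 (iv D5135) (iv D3755) (iv F11461)
theorem F20977 : act 6 n6679 = n6679 := d5_2 F15767 D6679 (iv D6679)
def n6680 : Q := act 2 n5093
theorem D6680 : act 2 n5093 = n6680 := rfl
theorem F20978 : act 1 n6680 = n5096 := d7_1 D6680 (iv D5096) (iv D3722) (iv F11462) D5093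
theorem F20979 : act 6 n6680 = n6680 := d16_2 F15767 D6680 (iv D6680)
def n6681 : Q := act 7 n5093
theorem D6681 : act 7 n5093 = n6681 := rfl
theorem F20980 : act 1 n6681 = n5094 := d12_1 D6681 (iv D5094) D5093
theorem F20981 : act 4 n6681 = n6096 := d24_1 D6681 (iv F20975) F20973
def n6682 : Q := act 3 n5094
theorem D6682 : act 3 n5094 = n6682 := rfl
theorem F20982 : act 0 n6682 = n5137 := d2_1 D6682 (iv D5137) (iv F15768)
theorem F20983 : act 4 n6682 = n6547 := d18_2 (iv F15770) D6682 F20547 (iv F19078) F19077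
theorem F20984 : act 5 n6682 = n5095 := d19_2 (iv F15771) D6682 (iv D5095)
theorem F20985 : act 7 n6682 = n6545 := d21_2 D5094 D6682 F20540 F16015 F15726
theorem F20986 : act 6 n6554 = n6682 := d27_5 F20985 (iv D6545) F15471 D4995 D6554
def n6683 : Q := act 6 n5094
theorem D6683 : act 6 n5094 = n6683 := rfl
theorem F20987 : act 0 n6683 = n5138 := d5_1 D6683 (iv D5138) (iv F15768)
theorem F20988 : act 2 n6683 = n5098 := d16_1 D6683 (iv D5098) (iv F15769)
theorem F20989 : act 3 n6683 = n6554 := d20_1 D6683 F20986 (iv D6682)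
theorem F20990 : act 4 n6683 = n6089 := d23_1 D6683 F19131 (iv F15770)
theorem F20991 : act 5 n6683 = n5355 := d25_1 D6683 (iv D5355) F12227 (iv F11467) (iv F15771)
theorem F20992 : act 7 n6683 = n6683 := d27_2 D5094 D6683 (iv D6683) (iv D5094) F11463
def n6684 : Q := act 7 n5096
theorem D6684 : act 7 n5096 = n6684 := rfl
theorem F20993 : act 2 n6684 = n5097 := d17_1 D6684 (iv D5097) D5096
theorem F20994 : act 4 n6684 = n6097 := d24_1 D6684 F19152 F18894
theorem F20995 : act 5 n6684 = n5681 := d26_1 D6684 (iv D5681) (iv F15775)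
def n6685 : Q := act 6 n5097
theorem D6685 : act 6 n5097 = n6685 := rfl
theorem F20996 : act 1 n6685 = n5098 := d11_1 D6685 (iv D5098) (iv F15777)
theorem F20997 : act 4 n6685 = n6090 := d23_1 D6685 F19134 (iv F15778)
theorem F20998 : act 7 n6685 = n6685 := d27_2 D5097 D6685 (iv D6685) (iv D5097) F11475
def n6686 : Q := act 1 n5100
theorem D6686 : act 1 n5100 = n6686 := rfl
theorem F20999 : act 3 n6686 = n5102 := d8_2 (iv F15788) D6686 (iv D5102)
theorem F21000 : act 6 n6686 = n6686 := d11_2 F15789 D6686 (iv D6686)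
def n6687 : Q := act 0 n5102
theorem D6687 : act 0 n5102 = n6687 := rfl
theorem F21001 : act 4 n6687 = n5105 := d3_2 (iv F15794) D6687 (iv D5105)
theorem F21002 : act 6 n6687 = n6687 := d5_2 F15795 D6687 (iv D6687)
theorem F21003 : act 7 n6687 = n6261 := d6_2 (iv F15796) D6687 (iv D6261)
def n6688 : Q := act 2 n5102
theorem D6688 : act 2 n5102 = n6688 := rfl
theorem F21004 : act 1 n6688 = n5359 := d7_1 D6688 (iv D5359) (iv D3951) (iv F11491) D5102
theorem F21005 : act 4 n6688 = n5106 := d14_2 (iv F15794) D6688 (iv D5106)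
theorem F21006 : act 6 n6688 = n6688 := d16_2 F15795 D6688 (iv D6688)
theorem F21007 : act 7 n6688 = n6262 := d17_2 (iv F15796) D6688 (iv D6262)
def n6689 : Q := act 6 n5103
theorem D6689 : act 6 n5103 = n6689 := rfl
theorem F21008 : act 0 n6689 = n5104 := d5_1 D6689 (iv D5104) D5103
theorem F21009 : act 2 n6689 = n5923 := d16_1 D6689 (iv D5923) (iv F15797)
theorem F21010 : act 3 n6689 = n5361 := d20_1 D6689 (iv D5361) (iv F15798)
theorem F21011 : act 5 n6689 = n6689 := d25_1 D6689 (iv D6689) F15799 F13736 (iv F15799)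
def n6690 : Q := act 2 n5105
theorem D6690 : act 2 n5105 = n6690 := rfl
theorem F21012 : act 0 n6690 = n5106 := d1_1 D6690 (iv D5106) D5105
theorem F21013 : act 3 n6690 = n6690 := d13_2 (iv F16083) D6690 (iv D6690) F16083 F16080
theorem F21014 : act 6 n6690 = n6690 := d16_2 F15804 D6690 (iv D6690)
def n6691 : Q := act 3 n5107
theorem D6691 : act 3 n5107 = n6691 := rfl
theorem F21015 : act 0 n6691 = n5110 := d2_1 D6691 (iv D5110) (iv F15808)
theorem F21016 : act 4 n6691 = n5117 := d18_2 D5107 D6691 (iv D5117) (iv D3744) (iv F11508)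
theorem F21017 : act 7 n6691 = n6691 := d21_2 F19777 D6691 (iv D6691) (iv F19777) F19774
def n6692 : Q := act 6 n5107
theorem D6692 : act 6 n5107 = n6692 := rfl
theorem F21018 : act 0 n6692 = n5111 := d5_1 D6692 (iv D5111) (iv F15808)
theorem F21019 : act 4 n6692 = n5109 := d23_1 D6692 (iv D5109) D5107
def n6693 : Q := act 6 n5108
theorem D6693 : act 6 n5108 = n6693 := rfl
theorem F21020 : act 0 n6693 = n5112 := d5_1 D6693 (iv D5112) (iv F15809)
theorem F21021 : act 1 n6693 = n5819 := d11_1 D6693 (iv D5819) F15813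
theorem F21022 : act 2 n6693 = n5836 := d16_1 D6693 (iv D5836) (iv F15810)
theorem F21023 : act 3 n6693 = n5121 := d20_1 D6693 (iv D5121) (iv F15811)
theorem F21024 : act 7 n6693 = n6693 := d27_2 (iv F15812) D6693 (iv D6693) F15812 F13736
def n6694 : Q := act 5 n5109
theorem D6694 : act 5 n5109 = n6694 := rfl
theorem F21025 : act 0 n6694 = n5113 := d4_1 D6694 (iv D5113) (iv F15814)
theorem F21026 : act 3 n6694 = n5122 := d19_1 D6694 (iv D5122) (iv F15815)
theorem F21027 : act 7 n6509 = n6694 := d21_0 F21026 (iv F15857) F15264 D4937 D6509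
def n6695 : Q := act 7 n5109
theorem D6695 : act 7 n5109 = n6695 := rfl
theorem F21028 : act 0 n6695 = n5114 := d6_1 D6695 (iv D5114) (iv F15814)
theorem F21029 : act 3 n6695 = n6508 := d21_1 D6695 (iv D6508) F15863 (iv D5123) (iv F15815)
theorem F21030 : act 5 n6695 = n6509 := d26_1 D6695 F21027 (iv D6694)
def n6696 : Q := act 6 n5110
theorem D6696 : act 6 n5110 = n6696 := rfl
theorem F21031 : act 1 n6696 = n5115 := d11_1 D6696 (iv D5115) (iv F15816)
theorem F21032 : act 3 n6696 = n5111 := d20_1 D6696 (iv D5111) D5110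
theorem F21033 : act 4 n6696 = n5126 := d23_1 D6696 (iv D5126) (iv F15817)
theorem F21034 : act 7 n6686 = n6696 := d21_0 F21032 (iv F19589) F19586 (iv F15796) (iv F20999)
def n6697 : Q := act 5 n5112
theorem D6697 : act 5 n5112 = n6697 := rfl
theorem F21035 : act 2 n6697 = n6522 := d15_1 D6697 (iv D6522) (iv F15822)
theorem F21036 : act 3 n6697 = n5129 := d19_1 D6697 (iv D5129) (iv F15823)
theorem F21037 : act 6 n6697 = n5113 := d25_2 D5112 D6697 (iv D5113) (iv D3738) D3737
theorem F21038 : act 7 n6697 = n6697 := d26_2 F15824 D6697 (iv D6697)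
def n6698 : Q := act 2 n5117
theorem D6698 : act 2 n5117 = n6698 := rfl
theorem F21039 : act 0 n6698 = n5124 := d1_1 D6698 (iv D5124) (iv F15839)
theorem F21040 : act 3 n6698 = n5144 := d13_2 D5117 D6698 (iv D5144) (iv D3764) (iv F11527)
theorem F21041 : act 7 n6698 = n6698 := d17_2 F15840 D6698 (iv D6698)
theorem F21042 : act 5 n6691 = n6698 := d19_0 F21040 (iv F15946) D6691
def n6699 : Q := act 5 n5117
theorem D6699 : act 5 n5117 = n6699 := rfl
theorem F21043 : act 0 n6699 = n5125 := d4_1 D6699 (iv D5125) (iv F15839)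
theorem F21044 : act 2 n6699 = n6691 := d15_1 D6699 F21042 (iv D6698)
theorem F21045 : act 3 n6699 = n5118 := d19_1 D6699 (iv D5118) D5117
theorem F21046 : act 4 n6699 = n6698 := d22_1 D6699 (iv F21042) F21016
theorem F21047 : act 7 n6699 = n6699 := d26_2 F15840 D6699 (iv D6699)
def n6700 : Q := act 6 n5117
theorem D6700 : act 6 n5117 = n6700 := rfl
theorem F21048 : act 0 n6700 = n5126 := d5_1 D6700 (iv D5126) (iv F15839)
theorem F21049 : act 3 n6700 = n5119 := d20_1 D6700 (iv D5119) D5117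
def n6701 : Q := act 1 n5118
theorem D6701 : act 1 n5118 = n6701 := rfl
theorem F21050 : act 0 n6701 = n6701 := d0_1 D6701 (iv D6701) F15841 F11536 (iv F15841)
theorem F21051 : act 4 n6701 = n5120 := d9_2 (iv F15843) D6701 (iv D5120)
theorem F21052 : act 7 n6701 = n5366 := d12_2 (iv F15844) D6701 (iv D5366)
theorem F21053 : act 2 n5806 = n6701 := d14_3 F21051 (iv F15852) D5806
def n6702 : Q := act 6 n5118
theorem D6702 : act 6 n5118 = n6702 := rfl
theorem F21054 : act 0 n6702 = n5127 := d5_1 D6702 (iv D5127) (iv F15841)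
theorem F21055 : act 2 n6702 = n5148 := d16_1 D6702 (iv D5148) (iv F15842)
theorem F21056 : act 4 n6702 = n5121 := d23_1 D6702 (iv D5121) (iv F15843)
def n6703 : Q := act 5 n5119
theorem D6703 : act 5 n5119 = n6703 := rfl
theorem F21057 : act 0 n6703 = n5128 := d4_1 D6703 (iv D5128) (iv F15845)
theorem F21058 : act 2 n6703 = n5149 := d15_1 D6703 (iv D5149) (iv F15846)
theorem F21059 : act 4 n6703 = n5122 := d22_1 D6703 (iv D5122) (iv F15847)
theorem F21060 : act 7 n6703 = n5169 := d26_2 (iv F15848) D6703 F16045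
def n6704 : Q := act 6 n5120
theorem D6704 : act 6 n5120 = n6704 := rfl
theorem F21061 : act 0 n6704 = n6704 := d5_1 D6704 (iv D6704) F15849
theorem F21062 : act 1 n6704 = n5121 := d11_1 D6704 (iv D5121) D5120
theorem F21063 : act 2 n6704 = n5807 := d16_1 D6704 (iv D5807) F15852
theorem F21064 : act 3 n6704 = n5819 := d20_1 D6704 (iv D5819) (iv F15850)
def n6705 : Q := act 5 n5121
theorem D6705 : act 5 n5121 = n6705 := rfl
theorem F21065 : act 0 n6705 = n5129 := d4_1 D6705 (iv D5129) (iv F15853)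
theorem F21066 : act 2 n6705 = n5152 := d15_1 D6705 (iv D5152) (iv F15854)
theorem F21067 : act 6 n6705 = n5122 := d25_2 D5121 D6705 (iv D5122) (iv D3746) D3745
theorem F21068 : act 7 n6500 = n6705 := d27_0 F21067 (iv F15857) (iv D4933) (iv F15250) D6500
def n6706 : Q := act 7 n5121
theorem D6706 : act 7 n5121 = n6706 := rfl
theorem F21069 : act 0 n6706 = n5130 := d6_1 D6706 (iv D5130) (iv F15853)
theorem F21070 : act 2 n6706 = n5153 := d17_1 D6706 (iv D5153) (iv F15854)
theorem F21071 : act 3 n6706 = n6706 := d21_1 D6706 (iv D6706) (iv F21023) F21024 F21023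
theorem F21072 : act 5 n6706 = n6500 := d26_1 D6706 F21068 (iv D6705)
theorem F21073 : act 6 n6706 = n5371 := d27_1 D6706 (iv D5371) (iv D3963) (iv F11531) D5121
def n6707 : Q := act 1 n5122
theorem D6707 : act 1 n5122 = n6707 := rfl
theorem F21074 : act 7 n6707 = n6503 := d12_2 F15857 D6707 F20374
def n6708 : Q := act 6 n5124
theorem D6708 : act 6 n5124 = n6708 := rfl
theorem F21075 : act 1 n6708 = n6708 := d11_1 D6708 (iv D6708) F15864
theorem F21076 : act 2 n6708 = n5126 := d16_1 D6708 (iv D5126) D5124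
theorem F21077 : act 3 n6708 = n5155 := d20_1 D6708 (iv D5155) (iv F15865)
def n6709 : Q := act 6 n5125
theorem D6709 : act 6 n5125 = n6709 := rfl
theorem F21078 : act 1 n6709 = n6709 := d11_1 D6709 (iv D6709) F15868
theorem F21079 : act 2 n6709 = n6696 := d16_1 D6709 (iv D6696) (iv F15869)
theorem F21080 : act 3 n6709 = n5127 := d20_1 D6709 (iv D5127) (iv F15870)
theorem F21081 : act 4 n6709 = n6708 := d23_1 D6709 (iv D6708) (iv F15871)
def n6710 : Q := act 5 n5126
theorem D6710 : act 5 n5126 = n6710 := rfl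
theorem F21082 : act 3 n6710 = n5128 := d19_1 D6710 (iv D5128) (iv F15874)
theorem F21083 : act 7 n5188 = n6710 := d21_0 F21082 F15880 F11727 D3805 D5188
def n6711 : Q := act 7 n5126
theorem D6711 : act 7 n5126 = n6711 := rfl
theorem F21084 : act 1 n6711 = n5133 := d12_1 D6711 (iv D5133) (iv F15873)
theorem F21085 : act 3 n6711 = n5187 := d21_1 D6711 (iv D5187) F11740 (iv F11543) (iv F15874)
theorem F21086 : act 4 n6711 = n6686 := d24_1 D6711 F21034 F21033
theorem F21087 : act 5 n6711 = n5188 := d26_1 D6711 F21083 (iv D6710)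
theorem F21088 : act 6 n6711 = n6711 := d27_1 D6711 (iv D6711) (iv D5126) F11535 D5126
def n6712 : Q := act 5 n5127
theorem D6712 : act 5 n5127 = n6712 := rfl
theorem F21089 : act 2 n6712 = n5158 := d15_1 D6712 (iv D5158) (iv F15876)
theorem F21090 : act 4 n6712 = n5129 := d22_1 D6712 (iv D5129) (iv F15877)
theorem F21091 : act 6 n6712 = n5128 := d25_2 D5127 D6712 (iv D5128) (iv D3749) D3748
theorem F21092 : act 7 n6712 = n5185 := d31_1 D6712 F16104 F15300 (iv D3590) (iv D2515) (iv F7711) (iv D2497) D2496 F7705 F7708 F7706 F7707 D2514 F7764 F5363 D2516 (iv F11046) (iv F11633) (iv D3777) (iv F11625) (iv F15876) (iv D5127) (iv F15870) (iv D5125) F11535 (iv F15817) (iv F15869) D6709 F21080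
theorem F21093 : act 1 n6264 = n6712 := d12_3 F21092 F16101 (iv F19602)
def n6713 : Q := act 7 n5127
theorem D6713 : act 7 n5127 = n6713 := rfl
theorem F21094 : act 1 n6713 = n6713 := d12_1 D6713 (iv D6713) F15875
theorem F21095 : act 2 n6713 = n5159 := d17_1 D6713 (iv D5159) (iv F15876)
theorem F21096 : act 4 n6713 = n5130 := d24_1 D6713 (iv D5130) (iv F15877)
theorem F21097 : act 5 n6713 = n5185 := d26_1 D6713 (iv F21092) (iv D6712)
theorem F21098 : act 6 n6713 = n5186 := d27_1 D6713 F16109 (iv D3966) (iv F11539) D5127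
theorem F21099 : act 3 n5417 = n6713 := d20_3 F21098 F16107 (iv F16942)
def n6714 : Q := act 1 n5128
theorem D6714 : act 1 n5128 = n6714 := rfl
theorem F21100 : act 2 n6714 = n6260 := d7_2 (iv F15878) D6714 (iv D6260) F14609 F11628
theorem F21101 : act 4 n6714 = n5131 := d9_2 (iv F15879) D6714 (iv D5131)
theorem F21102 : act 5 n6714 = n5134 := d10_2 D5128 D6714 (iv D5134) (iv D3754) (iv F11540)
theorem F21103 : act 6 n6714 = n6264 := d11_2 F21091 D6714 F21093
theorem F21104 : act 7 n6714 = n5156 := d12_2 (iv F15880) D6714 F15986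
def n6715 : Q := act 1 n5129
theorem D6715 : act 1 n5129 = n6715 := rfl
theorem F21105 : act 2 n6715 = n5304 := d7_2 (iv F15881) D6715 F16513 F14629 F11630
theorem F21106 : act 4 n6715 = n6264 := d9_2 F21090 D6715 F21093
theorem F21107 : act 5 n6715 = n6715 := d10_2 D5129 D6715 (iv D6715) (iv D5129) F11544
theorem F21108 : act 6 n6715 = n5131 := d11_2 (iv F15882) D6715 (iv D5131)
theorem F21109 : act 7 n6715 = n6322 := d12_2 F15883 D6715 F19795
def n6716 : Q := act 0 n5131
theorem D6716 : act 0 n5131 = n6716 := rfl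
theorem F21110 : act 2 n6716 = n6695 := d1_2 (iv F15889) D6716 F21028
theorem F21111 : act 5 n6716 = n5135 := d4_2 (iv F15890) D6716 (iv D5135)
theorem F21112 : act 7 n6716 = n6513 := d6_2 (iv F15891) D6716 F20407
def n6717 : Q := act 0 n5134
theorem D6717 : act 0 n5134 = n6717 := rfl
theorem F21113 : act 4 n6717 = n5135 := d3_2 (iv F15902) D6717 (iv D5135)
theorem F21114 : act 6 n6717 = n6717 := d5_2 F15903 D6717 (iv D6717)
theorem F21115 : act 7 n6717 = n6278 := d6_2 (iv F15904) D6717 (iv D6278)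
def n6718 : Q := act 7 n5135
theorem D6718 : act 7 n5135 = n6718 := rfl
theorem F21116 : act 0 n6718 = n5136 := d6_1 D6718 (iv D5136) D5135
theorem F21117 : act 2 n6718 = n6694 := d17_1 D6718 (iv F21027) F20392
theorem F21118 : act 3 n6718 = n6514 := d21_1 D6718 F20413 (iv D5163) D5164 (iv F16025)
theorem F21119 : act 4 n6718 = n6278 := d24_1 D6718 (iv F21115) F21113
theorem F21120 : act 5 n6718 = n6513 := d26_1 D6718 (iv F21112) F21111
def n6719 : Q := act 1 n5140
theorem D6719 : act 1 n5140 = n6719 := rfl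
theorem F21121 : act 6 n6719 = n6719 := d11_2 F15928 D6719 (iv D6719)
def n6720 : Q := act 7 n5140
theorem D6720 : act 7 n5140 = n6720 := rfl
theorem F21122 : act 0 n6720 = n5142 := d6_1 D6720 (iv D5142) (iv F15926)
theorem F21123 : act 2 n6720 = n5141 := d17_1 D6720 (iv D5141) D5140
theorem F21124 : act 3 n6720 = n6716 := d21_1 D6720 F21112 F20410 D6515 (iv F20418)
theorem F21125 : act 4 n6720 = n6280 := d24_1 D6720 F19655 F18935
theorem F21126 : act 5 n6720 = n5164 := d26_1 D6720 (iv D5164) (iv F15927)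
def n6721 : Q := act 6 n5141
theorem D6721 : act 6 n5141 = n6721 := rfl
theorem F21127 : act 0 n6721 = n5143 := d5_1 D6721 (iv D5143) (iv F15929)
theorem F21128 : act 3 n6721 = n6510 := d20_1 D6721 (iv D6510) (iv F15930)
theorem F21129 : act 4 n6721 = n6274 := d23_1 D6721 F19639 (iv F15931)
theorem F21130 : act 5 n6721 = n6721 := d25_1 D6721 (iv D6721) F15932 F11670 (iv F15932)
theorem F21131 : act 7 n6721 = n6721 := d27_2 D5141 D6721 (iv D6721) (iv D5141) F11574
def n6722 : Q := act 6 n5142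
theorem D6722 : act 6 n5142 = n6722 := rfl
theorem F21132 : act 1 n6722 = n6697 := d11_1 D6722 F21037 (iv F15933)
theorem F21133 : act 2 n6722 = n5143 := d16_1 D6722 (iv D5143) (iv F15934)
theorem F21134 : act 3 n6722 = n6715 := d20_1 D6722 F21108 (iv F15935)
theorem F21135 : act 4 n6722 = n6275 := d23_1 D6722 F19642 (iv F15936)
theorem F21136 : act 5 n6722 = n6722 := d25_1 D6722 (iv D6722) F15937 F11676 (iv F15937)
theorem F21137 : act 7 n6722 = n6722 := d27_2 D5142 D6722 (iv D6722) (iv D5142) F11576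
def n6723 : Q := act 6 n5144
theorem D6723 : act 6 n5144 = n6723 := rfl
theorem F21138 : act 0 n6723 = n5155 := d5_1 D6723 (iv D5155) (iv F15943)
theorem F21139 : act 2 n6723 = n5146 := d16_1 D6723 (iv D5146) D5144
theorem F21140 : act 4 n6723 = n6693 := d23_1 D6723 (iv D6693) (iv F15944)
theorem F21141 : act 7 n6723 = n6723 := d27_2 (iv F15945) D6723 (iv D6723) F15945 F14792
def n6724 : Q := act 6 n5145
theorem D6724 : act 6 n5145 = n6724 := rfl
theorem F21142 : act 0 n6724 = n5156 := d5_1 D6724 (iv D5156) (iv F15947)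
theorem F21143 : act 2 n6724 = n6692 := d16_1 D6724 (iv D6692) (iv F15948)
theorem F21144 : act 3 n6724 = n5148 := d20_1 D6724 (iv D5148) (iv F15949)
theorem F21145 : act 4 n6724 = n6513 := d23_1 D6724 (iv D6513) (iv F15950)
theorem F21146 : act 5 n6278 = n6724 := d22_0 F21145 (iv F21120) F21119
def n6725 : Q := act 5 n5146
theorem D6725 : act 5 n5146 = n6725 := rfl
theorem F21147 : act 0 n6725 = n5157 := d4_1 D6725 (iv D5157) (iv F15952)
theorem F21148 : act 3 n6725 = n5149 := d19_1 D6725 (iv D5149) (iv F15954)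
theorem F21149 : act 6 n6725 = n6278 := d25_2 D5146 D6725 F21146 (iv D6724) (iv D5145)
theorem F21150 : act 7 n6725 = n6725 := d26_2 F15955 D6725 (iv D6725)
def n6726 : Q := act 2 n5147
theorem D6726 : act 2 n5147 = n6726 := rfl
theorem F21151 : act 0 n6726 = n5172 := d1_1 D6726 (iv D5172) (iv F15956)
theorem F21152 : act 1 n6726 = n5806 := d7_1 D6726 F21053 (iv D6701) F15842 D5147
theorem F21153 : act 4 n6726 = n5150 := d14_2 (iv F15957) D6726 (iv D5150)
theorem F21154 : act 5 n6726 = n5688 := d15_2 (iv F15958) D6726 (iv D5688)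
theorem F21155 : act 7 n6726 = n5372 := d17_2 (iv F15959) D6726 (iv D5372)
theorem F21156 : act 3 n5603 = n6726 := d18_5 F21153 F15967 F12868 D4151 D5603
def n6727 : Q := act 6 n5147
theorem D6727 : act 6 n5147 = n6727 := rfl
theorem F21157 : act 0 n6727 = n5173 := d5_1 D6727 (iv D5173) (iv F15956)
theorem F21158 : act 1 n6727 = n5148 := d11_1 D6727 (iv D5148) D5147
theorem F21159 : act 4 n6727 = n5151 := d23_1 D6727 (iv D5151) (iv F15957)
def n6728 : Q := act 5 n5148
theorem D6728 : act 5 n5148 = n6728 := rfl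
theorem F21160 : act 0 n6728 = n5158 := d4_1 D6728 (iv D5158) (iv F15960)
theorem F21161 : act 3 n6728 = n6278 := d19_1 D6728 F21146 F21144
theorem F21162 : act 4 n6728 = n5152 := d22_1 D6728 (iv D5152) (iv F15961)
theorem F21163 : act 6 n6728 = n5149 := d25_2 D5148 D6728 (iv D5149) (iv D3766) D3765
theorem F21164 : act 7 n6728 = n6501 := d31_1 D6728 F20372 (iv F20369) (iv D6500) F15248 F15249 F14586 F11108 D3790 F11692 F10594 (iv D3449) F7403 (iv F5946) (iv F8600) (iv D2789) (iv F8581) D3958 (iv F16736) F16735 F16733 F16737 F16734 (iv F15799) F15800 D5107 (iv F15948) D6724 F21144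
def n6729 : Q := act 7 n5148
theorem D6729 : act 7 n5148 = n6729 := rfl
theorem F21165 : act 0 n6729 = n5159 := d6_1 D6729 (iv D5159) (iv F15960)
theorem F21166 : act 4 n6729 = n5153 := d24_1 D6729 (iv D5153) (iv F15961)
theorem F21167 : act 5 n6729 = n6501 := d26_1 D6729 (iv F21164) (iv D6728)
theorem F21168 : act 6 n6729 = n5374 := d27_1 D6729 (iv D5374) (iv D3971) (iv F11595) D5148
def n6730 : Q := act 1 n5149
theorem D6730 : act 1 n5149 = n6730 := rfl
theorem F21169 : act 0 n6730 = n6635 := d0_1 D6730 F20835 F15730 F11628 (iv F15962)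
theorem F21170 : act 4 n6730 = n5154 := d9_2 (iv F15963) D6730 (iv D5154)
theorem F21171 : act 5 n6730 = n5639 := d10_2 D5149 D6730 F17674 F12972 (iv F11597)
theorem F21172 : act 7 n6730 = n5638 := d12_2 (iv F15964) D6730 F17670
def n6731 : Q := act 6 n5150
theorem D6731 : act 6 n5150 = n6731 := rfl
theorem F21173 : act 0 n6731 = n5176 := d5_1 D6731 (iv D5176) (iv F15965)
theorem F21174 : act 1 n6731 = n5807 := d11_1 D6731 (iv D5807) (iv F15966)
theorem F21175 : act 2 n6731 = n5151 := d16_1 D6731 (iv D5151) D5150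
theorem F21176 : act 3 n6731 = n5595 := d20_1 D6731 (iv D5595) (iv F15967)
def n6732 : Q := act 5 n5151
theorem D6732 : act 5 n5151 = n6732 := rfl
theorem F21177 : act 0 n6732 = n5177 := d4_1 D6732 (iv D5177) (iv F15970)
theorem F21178 : act 6 n6732 = n5691 := d25_2 D5151 D6732 (iv D5691) (iv D4225) (iv F11601)
def n6733 : Q := act 7 n5151
theorem D6733 : act 7 n5151 = n6733 := rfl
theorem F21179 : act 0 n6733 = n5178 := d6_1 D6733 (iv D5178) (iv F15970)
theorem F21180 : act 1 n6733 = n5153 := d12_1 D6733 (iv D5153) (iv F15971)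
theorem F21181 : act 6 n6733 = n5378 := d27_1 D6733 (iv D5378) (iv D3973) (iv F11602) D5151
theorem F21182 : act 3 n6502 = n6733 := d8_0 F21180 (iv F15978) D6502
def n6734 : Q := act 1 n5152
theorem D6734 : act 1 n5152 = n6734 := rfl
theorem F21183 : act 0 n6734 = n6624 := d0_1 D6734 F20797 F15706 F11630 (iv F15972)
theorem F21184 : act 6 n6734 = n5154 := d11_2 (iv F15973) D6734 (iv D5154)
theorem F21185 : act 7 n6734 = n6492 := d12_2 F15974 D6734 F20342
def n6735 : Q := act 2 n5154
theorem D6735 : act 2 n5154 = n6735 := rfl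
theorem F21186 : act 0 n6735 = n6634 := d1_1 D6735 F20834 (iv F15979)
theorem F21187 : act 5 n6735 = n5637 := d15_2 (iv F15980) D6735 F17668
theorem F21188 : act 7 n6735 = n5636 := d17_2 (iv F15981) D6735 F17665
def n6736 : Q := act 5 n5155
theorem D6736 : act 5 n5155 = n6736 := rfl
theorem F21189 : act 2 n6736 = n5157 := d15_1 D6736 (iv D5157) (iv F15983)
theorem F21190 : act 4 n6736 = n6697 := d22_1 D6736 (iv D6697) (iv F15984)
theorem F21191 : act 6 n6736 = n6279 := d25_2 D5155 D6736 F19652 (iv D5111) F11615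
theorem F21192 : act 7 n6736 = n6736 := d26_2 F15985 D6736 (iv D6736)
theorem F21193 : act 1 n6736 = n6275 := d30_2 D5155 D6736 (iv D6275) F14674 (iv F12248) F12247 F12246 (iv D3951) (iv F11491) (iv F15788) F15833 (iv D5115) F11517 (iv F15816) (iv F15869) F15870 F11539 D3966 F12310 (iv F11767) F11768 F11769 F11772 (iv D2670) F5643 (iv F7450) D3471 F10671 (iv F11614)
def n6737 : Q := act 3 n5159
theorem D6737 : act 3 n5159 = n6737 := rfl
theorem F21194 : act 1 n6737 = n5188 := d8_1 D6737 (iv D5188) (iv F16000)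
theorem F21195 : act 4 n6737 = n6512 := d18_2 (iv F16001) D6737 F20405 F15298 F11635
theorem F21196 : act 5 n6737 = n6511 := d19_2 (iv F16002) D6737 F20401
theorem F21197 : act 6 n6737 = n5382 := d20_2 (iv F16003) D6737 (iv D5382)
def n6738 : Q := act 1 n5161
theorem D6738 : act 1 n5161 = n6738 := rfl
theorem F21198 : act 0 n6738 = n5162 := d0_1 D6738 (iv D5162) F11664 (iv F11654) (iv F16011)
theorem F21199 : act 2 n6738 = n5693 := d7_2 D5161 D6738 (iv D5693) (iv D4228) (iv F11649)
theorem F21200 : act 4 n6738 = n6068 := d9_2 (iv F16012) D6738 F19057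
theorem F21201 : act 6 n6738 = n5192 := d11_2 (iv F16014) D6738 (iv D5192)
theorem F21202 : act 7 n6738 = n6657 := d12_2 (iv F16015) D6738 (iv D6657)
def n6739 : Q := act 3 n5162
theorem D6739 : act 3 n5162 = n6739 := rfl
theorem F21203 : act 1 n6739 = n5163 := d8_1 D6739 (iv D5163) D5162
theorem F21204 : act 6 n6739 = n5193 := d20_2 (iv F16017) D6739 (iv D5193)
def n6740 : Q := act 5 n5162
theorem D6740 : act 5 n5162 = n6740 := rfl
theorem F21205 : act 2 n6740 = n5696 := d15_1 D6740 (iv D5696) (iv F16016)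
def n6741 : Q := act 7 n5162
theorem D6741 : act 7 n5162 = n6741 := rfl
theorem F21206 : act 0 n6741 = n6657 := d6_1 D6741 (iv F21202) F21198
theorem F21207 : act 1 n6741 = n5164 := d12_1 D6741 (iv D5164) D5162
theorem F21208 : act 2 n6741 = n5697 := d17_1 D6741 (iv D5697) (iv F16016)
theorem F21209 : act 4 n6741 = n6290 := d24_1 D6741 F19687 F17893
theorem F21210 : act 6 n6741 = n6741 := d27_1 D6741 (iv D6741) F16017 F11784 (iv F16017)
theorem F21211 : act 3 n6679 = n6741 := d8_0 F21207 (iv F16025) (iv F20976)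
def n6742 : Q := act 2 n5165
theorem D6742 : act 2 n5165 = n6742 := rfl
theorem F21212 : act 0 n6742 = n5991 := d1_1 D6742 F18782 (iv F16026)
theorem F21213 : act 3 n6742 = n5698 := d13_2 D5165 D6742 (iv D5698) (iv D4233) (iv F11679)
theorem F21214 : act 5 n6742 = n5507 := d15_2 (iv F16028) D6742 F17240
theorem F21215 : act 6 n6742 = n5195 := d16_2 (iv F16029) D6742 (iv D5195)
theorem F21216 : act 4 n5990 = n6742 := d23_3 F21215 (iv F16141) D5990
def n6743 : Q := act 4 n5165
theorem D6743 : act 4 n5165 = n6743 := rfl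
theorem F21217 : act 0 n6743 = n5975 := d3_1 D6743 F18727 (iv F16026)
theorem F21218 : act 1 n6743 = n5166 := d9_1 D6743 (iv D5166) (iv F16027)
theorem F21219 : act 2 n6743 = n5990 := d14_1 D6743 F21216 (iv D6742)
theorem F21220 : act 3 n6743 = n6743 := d18_1 D6743 (iv D6743) (iv D5165) F11680 D5165
theorem F21221 : act 5 n6743 = n5508 := d22_2 (iv F16028) D6743 F17243
theorem F21222 : act 6 n6743 = n5196 := d23_2 (iv F16029) D6743 (iv D5196)
def n6744 : Q := act 3 n5167
theorem D6744 : act 3 n5167 = n6744 := rfl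
theorem F21223 : act 0 n6744 = n5184 := d2_1 D6744 (iv D5184) (iv F16033)
theorem F21224 : act 2 n6744 = n5387 := d13_1 D6744 (iv D5387) F12373 (iv F11700) (iv F16034)
theorem F21225 : act 4 n6744 = n6477 := d18_2 (iv F16035) D6744 (iv D6477) F15196 D4912
theorem F21226 : act 5 n6744 = n6497 := d19_2 (iv F16036) D6744 F20357
theorem F21227 : act 6 n6744 = n6300 := d20_2 (iv F16037) D6744 (iv D6300)
theorem F21228 : act 7 n6744 = n6744 := d21_2 D5167 D6744 (iv D6744) (iv D5167) F11690
def n6745 : Q := act 2 n5168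
theorem D6745 : act 2 n5168 = n6745 := rfl
theorem F21229 : act 1 n6745 = n6495 := d7_1 D6745 F20351 F15239 (iv F11695) D5168
theorem F21230 : act 4 n6745 = n6494 := d14_2 (iv F16039) D6745 F20345
theorem F21231 : act 5 n6745 = n5700 := d15_2 (iv F16040) D6745 (iv D5700)
def n6746 : Q := act 6 n5168
theorem D6746 : act 6 n5168 = n6746 := rfl
theorem F21232 : act 1 n6746 = n5169 := d11_1 D6746 (iv D5169) D5168
theorem F21233 : act 3 n6746 = n5173 := d20_1 D6746 (iv D5173) (iv F16038)
theorem F21234 : act 4 n6746 = n6503 := d23_1 D6746 (iv D6503) (iv F16039)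
def n6747 : Q := act 6 n5170
theorem D6747 : act 6 n5170 = n6747 := rfl
theorem F21235 : act 0 n6747 = n5185 := d5_1 D6747 (iv D5185) (iv F16046)
theorem F21236 : act 2 n6747 = n6501 := d16_1 D6747 (iv D6501) (iv F16047)
theorem F21237 : act 3 n6747 = n5393 := d20_1 D6747 (iv D5393) (iv F16048)
theorem F21238 : act 4 n6747 = n6500 := d23_1 D6747 (iv D6500) (iv F16049)
def n6748 : Q := act 5 n5171
theorem D6748 : act 5 n5171 = n6748 := rfl
theorem F21239 : act 0 n6748 = n5186 := d4_1 D6748 (iv D5186) (iv F16051)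
theorem F21240 : act 2 n6748 = n5374 := d15_1 D6748 F16797 (iv F16053)
theorem F21241 : act 3 n6748 = n5394 := d19_1 D6748 (iv D5394) (iv F16054)
theorem F21242 : act 4 n6748 = n5371 := d22_1 D6748 (iv F19556) F19554
theorem F21243 : act 7 n6748 = n5367 := d26_2 (iv F16055) D6748 F16772
def n6749 : Q := act 3 n5172
theorem D6749 : act 3 n5172 = n6749 := rfl
theorem F21244 : act 0 n6749 = n5603 := d2_1 D6749 F21156 F21151
theorem F21245 : act 1 n6749 = n6749 := d8_1 D6749 (iv D6749) F16056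
theorem F21246 : act 4 n6749 = n5429 := d18_2 (iv F16057) D6749 (iv D5429) F16070 (iv D5175)
theorem F21247 : act 5 n6749 = n5702 := d19_2 (iv F16058) D6749 (iv D5702)
def n6750 : Q := act 6 n5172
theorem D6750 : act 6 n5172 = n6750 := rfl
theorem F21248 : act 1 n6750 = n6750 := d11_1 D6750 (iv D6750) F16056
theorem F21249 : act 2 n6750 = n5173 := d16_1 D6750 (iv D5173) D5172
theorem F21250 : act 4 n6750 = n5176 := d23_1 D6750 (iv D5176) (iv F16057)
def n6751 : Q := act 5 n5173
theorem D6751 : act 5 n5173 = n6751 := rfl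
theorem F21251 : act 4 n6751 = n5177 := d22_1 D6751 (iv D5177) (iv F16061)
theorem F21252 : act 6 n6751 = n5704 := d25_2 D5173 D6751 (iv D5704) (iv D4239) (iv F11702)
def n6752 : Q := act 7 n5173
theorem D6752 : act 7 n5173 = n6752 := rfl
theorem F21253 : act 1 n6752 = n5174 := d12_1 D6752 (iv D5174) (iv F16060)
theorem F21254 : act 4 n6752 = n5178 := d24_1 D6752 (iv D5178) (iv F16061)
theorem F21255 : act 6 n6752 = n5398 := d27_1 D6752 (iv D5398) (iv D3988) (iv F11703) D5173
def n6753 : Q := act 3 n5174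
theorem D6753 : act 3 n5174 = n6753 := rfl
theorem F21256 : act 0 n6753 = n5188 := d2_1 D6753 (iv D5188) (iv F16062)
theorem F21257 : act 6 n6753 = n5399 := d20_2 (iv F16065) D6753 (iv D5399)
def n6754 : Q := act 6 n5175
theorem D6754 : act 6 n5175 = n6754 := rfl
theorem F21258 : act 0 n6754 = n5595 := d5_1 D6754 (iv D5595) (iv F16066)
theorem F21259 : act 1 n6754 = n6754 := d11_1 D6754 (iv D6754) F16067
theorem F21260 : act 2 n6754 = n5433 := d16_1 D6754 (iv D5433) (iv F16068)
theorem F21261 : act 3 n6754 = n5176 := d20_1 D6754 (iv D5176) D5175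
theorem F21262 : act 4 n6754 = n5430 := d23_1 D6754 (iv D5430) F16070
def n6755 : Q := act 5 n5176
theorem D6755 : act 5 n5176 = n6755 := rfl
theorem F21263 : act 2 n6755 = n5177 := d15_1 D6755 (iv D5177) (iv F16073)
theorem F21264 : act 6 n6755 = n5708 := d25_2 D5176 D6755 (iv D5708) (iv D4242) (iv F11708)
def n6756 : Q := act 7 n5176
theorem D6756 : act 7 n5176 = n6756 := rfl
theorem F21265 : act 1 n6756 = n6756 := d12_1 D6756 (iv D6756) F16072
theorem F21266 : act 2 n6756 = n5178 := d17_1 D6756 (iv D5178) (iv F16073)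
theorem F21267 : act 6 n6756 = n5404 := d27_1 D6756 (iv D5404) (iv D3991) (iv F11709) D5176
def n6757 : Q := act 1 n5177
theorem D6757 : act 1 n5177 = n6757 := rfl
theorem F21268 : act 3 n6757 = n6588 := d8_2 F20454 D6757 F20699
theorem F21269 : act 5 n6757 = n5179 := d10_2 D5177 D6757 (iv D5179) (iv D3797) (iv F11710)
theorem F21270 : act 6 n6757 = n5710 := d11_2 (iv F16074) D6757 (iv D5710)
def n6758 : Q := act 7 n5177
theorem D6758 : act 7 n5177 = n6758 := rfl
theorem F21271 : act 5 n6758 = n5178 := d26_1 D6758 (iv D5178) D5177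
def n6759 : Q := act 3 n5178
theorem D6759 : act 3 n5178 = n6759 := rfl
theorem F21272 : act 0 n6759 = n6502 := d2_1 D6759 F21182 F21179
theorem F21273 : act 1 n6759 = n5181 := d8_1 D6759 (iv D5181) (iv F16075)
theorem F21274 : act 6 n6759 = n5406 := d20_2 (iv F16076) D6759 (iv D5406)
def n6760 : Q := act 0 n5179
theorem D6760 : act 0 n5179 = n6760 := rfl
theorem F21275 : act 1 n6760 = n5189 := d0_2 D5179 D6760 (iv D5189) (iv D3806) (iv F11711)
theorem F21276 : act 3 n6760 = n6585 := d2_2 (iv F16077) D6760 F20690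
theorem F21277 : act 4 n6760 = n6073 := d3_2 F17902 D6760 F19072
theorem F21278 : act 6 n6760 = n5182 := d5_2 (iv F16078) D6760 (iv D5182)
theorem F21279 : act 7 n6644 = n6760 := d12_0 F21275 F16121 D6644
def n6761 : Q := act 2 n5179
theorem D6761 : act 2 n5179 = n6761 := rfl
theorem F21280 : act 1 n6761 = n6761 := d7_1 D6761 (iv D6761) (iv D5179) F11712 D5179
theorem F21281 : act 6 n6761 = n5183 := d16_2 (iv F16078) D6761 (iv D5183)
def n6762 : Q := act 7 n5179
theorem D6762 : act 7 n5179 = n6762 := rfl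
theorem F21282 : act 0 n6762 = n6644 := d6_1 D6762 F21279 (iv D6760)
theorem F21283 : act 1 n6762 = n5180 := d12_1 D6762 (iv D5180) D5179
theorem F21284 : act 6 n6762 = n6762 := d27_1 D6762 (iv D6762) F16078 F11720 (iv F16078)
theorem F21285 : act 3 n6645 = n6762 := d8_0 F21283 (iv F16083) (iv F20869)
def n6763 : Q := act 2 n5181
theorem D6763 : act 2 n5181 = n6763 := rfl
theorem F21286 : act 0 n6763 = n5190 := d1_1 D6763 (iv D5190) (iv F16084)
theorem F21287 : act 3 n6763 = n6763 := d13_2 D5181 D6763 (iv D6763) (iv D5181) F11716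
theorem F21288 : act 5 n6763 = n6690 := d15_2 (iv F16085) D6763 (iv D6690)
theorem F21289 : act 6 n6763 = n5407 := d16_2 (iv F16086) D6763 (iv D5407)
theorem F21290 : act 7 n6763 = n6288 := d17_2 F20464 D6763 (iv F20462)
def n6764 : Q := act 4 n5181
theorem D6764 : act 4 n5181 = n6764 := rfl
theorem F21291 : act 0 n6764 = n5191 := d3_1 D6764 (iv D5191) (iv F16084)
theorem F21292 : act 5 n6764 = n6687 := d22_2 (iv F16085) D6764 F21001
theorem F21293 : act 6 n6764 = n5408 := d23_2 (iv F16086) D6764 (iv D5408)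
def n6765 : Q := act 2 n5188
theorem D6765 : act 2 n5188 = n6765 := rfl
theorem F21294 : act 3 n6765 = n6765 := d13_2 D5188 D6765 (iv D6765) (iv D5188) F11744
theorem F21295 : act 6 n6765 = n5418 := d16_2 (iv F16115) D6765 (iv D5418)
def n6766 : Q := act 4 n5188
theorem D6766 : act 4 n5188 = n6766 := rfl
theorem F21296 : act 1 n6766 = n6512 := d9_1 D6766 (iv F21195) F21194
theorem F21297 : act 3 n6766 = n5191 := d18_1 D6766 (iv D5191) (iv D3808) (iv F11745) D5188
theorem F21298 : act 5 n6766 = n6686 := d22_2 F21087 D6766 (iv F21086)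
theorem F21299 : act 6 n6766 = n5419 := d23_2 (iv F16115) D6766 (iv D5419)
def n6767 : Q := act 4 n5190
theorem D6767 : act 4 n5190 = n6767 := rfl
theorem F21300 : act 1 n6767 = n6767 := d9_1 D6767 (iv D6767) F16122
theorem F21301 : act 2 n6767 = n5191 := d14_1 D6767 (iv D5191) D5190
theorem F21302 : act 5 n6767 = n6688 := d22_2 (iv F16124) D6767 F21005
theorem F21303 : act 6 n6767 = n5420 := d23_2 (iv F16125) D6767 (iv D5420)
theorem F21304 : act 7 n6767 = n6289 := d24_2 (iv F16126) D6767 (iv D6289)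
def n6768 : Q := act 6 n5194
theorem D6768 : act 6 n5194 = n6768 := rfl
theorem F21305 : act 1 n6768 = n6768 := d11_1 D6768 (iv D6768) F16135
theorem F21306 : act 2 n6768 = n5715 := d16_1 D6768 (iv D5715) (iv F16136)
theorem F21307 : act 4 n6768 = n6761 := d23_1 D6768 F21281 (iv F16137)
def n6769 : Q := act 6 n5198
theorem D6769 : act 6 n5198 = n6769 := rfl
theorem F21308 : act 0 n6769 = n6540 := d5_1 D6769 (iv D6540) (iv F16155)
theorem F21309 : act 1 n6769 = n5199 := d11_1 D6769 (iv D5199) (iv F16156)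
theorem F21310 : act 3 n6769 = n5204 := d20_1 D6769 (iv D5204) (iv F16157)
theorem F21311 : act 4 n6769 = n6739 := d23_1 D6769 F21204 (iv F16158)
def n6770 : Q := act 6 n5200
theorem D6770 : act 6 n5200 = n6770 := rfl
theorem F21312 : act 0 n6770 = n6534 := d5_1 D6770 (iv D6534) (iv F16163)
theorem F21313 : act 2 n6770 = n5202 := d16_1 D6770 (iv D5202) (iv F16164)
theorem F21314 : act 3 n6770 = n5726 := d20_1 D6770 (iv D5726) (iv F16165)
theorem F21315 : act 5 n6770 = n5623 := d25_1 D6770 F17618 (iv D4917) (iv F11812) D5200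
def n6771 : Q := act 6 n5201
theorem D6771 : act 6 n5201 = n6771 := rfl
theorem F21316 : act 0 n6771 = n6537 := d5_1 D6771 (iv D6537) (iv F16166)
theorem F21317 : act 1 n6771 = n6771 := d11_1 D6771 (iv D6771) F16167
theorem F21318 : act 2 n6771 = n5204 := d16_1 D6771 (iv D5204) (iv F16168)
theorem F21319 : act 7 n6771 = n6485 := d27_2 D5201 D6771 (iv D6485) (iv D4918) (iv F11812)
def n6772 : Q := act 7 n5202
theorem D6772 : act 7 n5202 = n6772 := rfl
theorem F21320 : act 0 n6772 = n6538 := d6_1 D6772 (iv D6538) (iv F16169)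
theorem F21321 : act 1 n6772 = n6772 := d12_1 D6772 (iv D6772) F16170
theorem F21322 : act 3 n6772 = n5499 := d21_1 D6772 (iv D5499) F12640 (iv F11823) (iv F16171)
theorem F21323 : act 5 n6772 = n5610 := d26_1 D6772 F17589 (iv F16172)
def n6773 : Q := act 6 n5203
theorem D6773 : act 6 n5203 = n6773 := rfl
theorem F21324 : act 0 n6773 = n6539 := d5_1 D6773 (iv D6539) (iv F16173)
theorem F21325 : act 1 n6773 = n6773 := d11_1 D6773 (iv D6773) F16174
def n6774 : Q := act 5 n5204
theorem D6774 : act 5 n5204 = n6774 := rfl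
theorem F21326 : act 0 n6774 = n6541 := d4_1 D6774 (iv D6541) (iv F16176)
theorem F21327 : act 7 n6774 = n6493 := d26_2 (iv F16178) D6774 (iv D6493)
def n6775 : Q := act 1 n5205
theorem D6775 : act 1 n5205 = n6775 := rfl
theorem F21328 : act 6 n6775 = n6775 := d11_2 F16181 D6775 (iv D6775)
theorem F21329 : act 7 n6775 = n6502 := d12_2 (iv F16182) D6775 (iv D6502)
def n6776 : Q := act 2 n5206
theorem D6776 : act 2 n5206 = n6776 := rfl
theorem F21330 : act 0 n6776 = n6447 := d1_1 D6776 (iv D6447) (iv F16183)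
theorem F21331 : act 1 n6776 = n6776 := d7_1 D6776 (iv D6776) (iv D5206) F11831 D5206
theorem F21332 : act 4 n6776 = n6776 := d14_2 F16185 D6776 (iv D6776)
theorem F21333 : act 5 n6776 = n6776 := d15_2 F16186 D6776 (iv D6776)
theorem F21334 : act 7 n6776 = n6776 := d17_2 F16187 D6776 (iv D6776)
def n6777 : Q := act 6 n5206
theorem D6777 : act 6 n5206 = n6777 := rfl
theorem F21335 : act 0 n6777 = n6448 := d5_1 D6777 (iv D6448) (iv F16183)
theorem F21336 : act 1 n6777 = n5207 := d11_1 D6777 (iv D5207) D5206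
theorem F21337 : act 3 n6777 = n5231 := d20_1 D6777 (iv D5231) (iv F16184)
theorem F21338 : act 4 n6777 = n6777 := d23_1 D6777 (iv D6777) F16185
def n6778 : Q := act 4 n5208
theorem D6778 : act 4 n5208 = n6778 := rfl
theorem F21339 : act 0 n6778 = n5209 := d3_1 D6778 (iv D5209) D5208
theorem F21340 : act 1 n6778 = n5217 := d9_1 D6778 (iv D5217) (iv F16193)
theorem F21341 : act 2 n6778 = n6778 := d14_1 D6778 (iv D6778) F16194
theorem F21342 : act 7 n6778 = n6529 := d24_2 F20473 D6778 F20481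
def n6779 : Q := act 5 n5208
theorem D6779 : act 5 n5208 = n6779 := rfl
theorem F21343 : act 0 n6779 = n5210 := d4_1 D6779 (iv D5210) D5208
theorem F21344 : act 2 n6779 = n6779 := d15_1 D6779 (iv D6779) F16194
theorem F21345 : act 3 n6779 = n6248 := d19_1 D6779 (iv D6248) (iv F16195)
def n6780 : Q := act 6 n5208
theorem D6780 : act 6 n5208 = n6780 := rfl
theorem F21346 : act 0 n6780 = n5211 := d5_1 D6780 (iv D5211) D5208
theorem F21347 : act 1 n6780 = n5219 := d11_1 D6780 (iv D5219) (iv F16193)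
theorem F21348 : act 2 n6780 = n6780 := d16_1 D6780 (iv D6780) F16194
theorem F21349 : act 3 n6780 = n5254 := d20_1 D6780 (iv F16347) (iv F16195)
def n6781 : Q := act 3 n5209
theorem D6781 : act 3 n5209 = n6781 := rfl
theorem F21350 : act 1 n6781 = n5212 := d8_1 D6781 (iv D5212) (iv F16196)
theorem F21351 : act 4 n6781 = n5252 := d18_2 D5209 D6781 F16340 F11980 (iv F11841)
theorem F21352 : act 6 n5250 = n6781 := d23_0 F21351 (iv D5252) D5250
def n6782 : Q := act 5 n5209
theorem D6782 : act 5 n5209 = n6782 := rfl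
theorem F21353 : act 1 n6782 = n5257 := d10_1 D6782 (iv D5257) F11974 (iv F11844) (iv F16196)
theorem F21354 : act 2 n6782 = n6782 := d15_1 D6782 (iv D6782) F16197
theorem F21355 : act 4 n6782 = n5210 := d22_1 D6782 (iv D5210) D5209
theorem F21356 : act 7 n6782 = n6632 := d26_2 F20476 D6782 F20831
def n6783 : Q := act 6 n5209
theorem D6783 : act 6 n5209 = n6783 := rfl
theorem F21357 : act 1 n6783 = n5213 := d11_1 D6783 (iv D5213) (iv F16196)
theorem F21358 : act 2 n6783 = n6783 := d16_1 D6783 (iv D6783) F16197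
theorem F21359 : act 3 n6783 = n5250 := d20_1 D6783 F21352 (iv D6781)
theorem F21360 : act 4 n6783 = n5211 := d23_1 D6783 (iv D5211) D5209
theorem F21361 : act 7 n6783 = n6780 := d27_2 F20476 D6783 (iv D6780) (iv F20473) F20477
def n6784 : Q := act 6 n5210
theorem D6784 : act 6 n5210 = n6784 := rfl
theorem F21362 : act 1 n6784 = n5258 := d11_1 D6784 (iv D5258) (iv F16198)
theorem F21363 : act 2 n6784 = n6784 := d16_1 D6784 (iv D6784) F16199
theorem F21364 : act 3 n6784 = n6249 := d20_1 D6784 (iv D6249) (iv F16200)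
def n6785 : Q := act 5 n5211
theorem D6785 : act 5 n5211 = n6785 := rfl
theorem F21365 : act 2 n6785 = n6785 := d15_1 D6785 (iv D6785) F16202
theorem F21366 : act 3 n6785 = n5257 := d19_1 D6785 (iv D5257) (iv F16203)
def n6786 : Q := act 7 n5211
theorem D6786 : act 7 n5211 = n6786 := rfl
theorem F21367 : act 0 n6786 = n6783 := d6_1 D6786 F21361 F21346
theorem F21368 : act 1 n6786 = n5214 := d12_1 D6786 (iv D5214) (iv F16201)
theorem F21369 : act 2 n6786 = n6786 := d17_1 D6786 (iv D6786) F16202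
theorem F21370 : act 4 n6786 = n6780 := d24_1 D6786 (iv F21361) F21360
theorem F21371 : act 6 n6786 = n6778 := d27_1 D6786 F21342 (iv D6529) F15399 D5211
def n6787 : Q := act 7 n5212
theorem D6787 : act 7 n5212 = n6787 := rfl
theorem F21372 : act 0 n6787 = n5223 := d6_1 D6787 (iv D5223) (iv F16204)
theorem F21373 : act 2 n6787 = n5216 := d17_1 D6787 (iv D5216) (iv F16205)
theorem F21374 : act 4 n6787 = n5253 := d24_1 D6787 (iv D5253) (iv F16206)
theorem F21375 : act 5 n6787 = n5214 := d26_1 D6787 (iv D5214) (iv F16207)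
def n6788 : Q := act 7 n5215
theorem D6788 : act 7 n5215 = n6788 := rfl
theorem F21376 : act 0 n6788 = n6788 := d6_1 D6788 (iv D6788) F16216
theorem F21377 : act 1 n6788 = n5216 := d12_1 D6788 (iv D5216) D5215
theorem F21378 : act 3 n6788 = n6788 := d21_1 D6788 (iv D6788) F16217 F11865 (iv F16217)
theorem F21379 : act 4 n6788 = n5241 := d24_1 D6788 (iv D5241) (iv F16218)
theorem F21380 : act 5 n6788 = n6788 := d26_1 D6788 (iv D6788) F16219
def n6789 : Q := act 6 n5216
theorem D6789 : act 6 n5216 = n6789 := rfl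
theorem F21381 : act 0 n6789 = n5224 := d5_1 D6789 (iv D5224) (iv F16221)
theorem F21382 : act 3 n6789 = n6789 := d20_1 D6789 (iv D6789) F16222
theorem F21383 : act 4 n6789 = n5247 := d23_1 D6789 F16330 (iv F16223)
theorem F21384 : act 7 n6789 = n5245 := d27_2 D5216 D6789 (iv D5245) F11955 (iv F11856)
def n6790 : Q := act 3 n5217
theorem D6790 : act 3 n5217 = n6790 := rfl
theorem F21385 : act 0 n6790 = n5220 := d2_1 D6790 (iv D5220) (iv F16225)
theorem F21386 : act 2 n6790 = n6790 := d13_1 D6790 (iv D6790) F16226 F11896 (iv F16226)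
theorem F21387 : act 4 n6790 = n5272 := d18_2 D5217 D6790 F16407 F12031 (iv F11867)
theorem F21388 : act 6 n6790 = n5270 := d20_2 F16228 D6790 F16400
def n6791 : Q := act 5 n5217
theorem D6791 : act 5 n5217 = n6791 := rfl
theorem F21389 : act 0 n6791 = n5221 := d4_1 D6791 (iv D5221) (iv F16225)
theorem F21390 : act 2 n6791 = n5225 := d15_1 D6791 (iv D5225) (iv F16226)
theorem F21391 : act 4 n6791 = n5218 := d22_1 D6791 (iv D5218) D5217
theorem F21392 : act 7 n6791 = n6531 := d26_2 (iv F16227) D6791 (iv D6531)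
def n6792 : Q := act 1 n5218
theorem D6792 : act 1 n5218 = n6792 := rfl
theorem F21393 : act 0 n6792 = n5278 := d0_1 D6792 (iv D5278) F12027 (iv F11871) (iv F16229)
theorem F21394 : act 3 n6792 = n6442 := d8_2 (iv F16231) D6792 (iv D6442)
def n6793 : Q := act 6 n5218
theorem D6793 : act 6 n5218 = n6793 := rfl
theorem F21395 : act 0 n6793 = n5222 := d5_1 D6793 (iv D5222) (iv F16229)
theorem F21396 : act 2 n6793 = n5227 := d16_1 D6793 (iv D5227) (iv F16230)
theorem F21397 : act 3 n6793 = n6443 := d20_1 D6793 (iv D6443) (iv F16231)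
def n6794 : Q := act 6 n5221
theorem D6794 : act 6 n5221 = n6794 := rfl
theorem F21398 : act 1 n6794 = n5282 := d11_1 D6794 (iv D5282) (iv F16241)
theorem F21399 : act 2 n6794 = n5228 := d16_1 D6794 (iv D5228) (iv F16242)
theorem F21400 : act 4 n6794 = n5222 := d23_1 D6794 (iv D5222) (iv F16243)
theorem F21401 : act 7 n6794 = n6583 := d27_2 (iv F16244) D6794 (iv D6583) (iv D5028) (iv F15437)
def n6795 : Q := act 6 n5223
theorem D6795 : act 6 n5223 = n6795 := rfl
theorem F21402 : act 1 n6795 = n6582 := d11_1 D6795 F20680 F16416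
theorem F21403 : act 2 n6795 = n5224 := d16_1 D6795 (iv D5224) (iv F16248)
theorem F21404 : act 4 n6795 = n5267 := d23_1 D6795 F16388 (iv F16249)
theorem F21405 : act 5 n6795 = n6794 := d25_1 D6795 (iv D6794) (iv D5221) (iv F11889) (iv F16250)
theorem F21406 : act 7 n6795 = n5265 := d27_2 D5223 D6795 (iv D5265) F11992 F11880
def n6796 : Q := act 6 n5225
theorem D6796 : act 6 n5225 = n6796 := rfl
theorem F21407 : act 0 n6796 = n5228 := d5_1 D6796 (iv D5228) (iv F16255)
theorem F21408 : act 3 n6796 = n6796 := d20_1 D6796 (iv D6796) F16256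
theorem F21409 : act 4 n6796 = n5227 := d23_1 D6796 (iv D5227) (iv F16257)
theorem F21410 : act 5 n6796 = n6789 := d25_1 D6796 (iv D6789) F16224 F11898 D5225
theorem F21411 : act 7 n6796 = n6571 := d27_2 (iv F16258) D6796 (iv D6571) (iv D5008) (iv F15408)
def n6797 : Q := act 2 n5226
theorem D6797 : act 2 n5226 = n6797 := rfl
theorem F21412 : act 0 n6797 = n5230 := d1_1 D6797 (iv D5230) (iv F16259)
theorem F21413 : act 4 n6797 = n6023 := d14_2 F18855 D6797 F18905
theorem F21414 : act 5 n6797 = n6797 := d15_2 F16261 D6797 (iv D6797)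
theorem F21415 : act 7 n6797 = n6021 := d17_2 (iv F18851) D6797 F18897
def n6798 : Q := act 6 n5226
theorem D6798 : act 6 n5226 = n6798 := rfl
theorem F21416 : act 0 n6798 = n5231 := d5_1 D6798 (iv D5231) (iv F16259)
theorem F21417 : act 1 n6798 = n5227 := d11_1 D6798 (iv D5227) D5226
theorem F21418 : act 3 n6798 = n6448 := d20_1 D6798 (iv D6448) (iv F16260)
def n6799 : Q := act 3 n5230
theorem D6799 : act 3 n5230 = n6799 := rfl
theorem F21419 : act 1 n6799 = n5299 := d8_1 D6799 (iv D5299) (iv F16274)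
theorem F21420 : act 5 n6799 = n6799 := d19_2 F16275 D6799 (iv D6799)
def n6800 : Q := act 6 n5230
theorem D6800 : act 6 n5230 = n6800 := rfl
theorem F21421 : act 1 n6800 = n5300 := d11_1 D6800 (iv D5300) (iv F16274)
theorem F21422 : act 2 n6800 = n5231 := d16_1 D6800 (iv D5231) D5230
def n6801 : Q := act 5 n5231
theorem D6801 : act 5 n5231 = n6801 := rfl
theorem F21423 : act 1 n6801 = n6801 := d10_1 D6801 (iv D6801) F16276 F11919 (iv F16276)
theorem F21424 : act 6 n6801 = n6801 := d25_2 D5231 D6801 (iv D6801) (iv D5231) F11916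
def n6802 : Q := act 7 n5231
theorem D6802 : act 7 n5231 = n6802 := rfl
theorem F21425 : act 1 n6802 = n5232 := d12_1 D6802 (iv D5232) (iv F16276)
def n6803 : Q := act 4 n5233
theorem D6803 : act 4 n5233 = n6803 := rfl
theorem F21426 : act 0 n6803 = n6803 := d3_1 D6803 (iv D6803) F16280
theorem F21427 : act 3 n6803 = n5810 := d18_1 D6803 (iv D5810) (iv D4348) (iv F11928) D5233
theorem F21428 : act 5 n6803 = n5806 := d22_2 (iv F16281) D6803 (iv D5806)
theorem F21429 : act 7 n6803 = n5743 := d24_2 (iv F16282) D6803 (iv D5743)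
def n6804 : Q := act 6 n5233
theorem D6804 : act 6 n5233 = n6804 := rfl
theorem F21430 : act 0 n6804 = n6804 := d5_1 D6804 (iv D6804) F16280
theorem F21431 : act 3 n6804 = n5234 := d20_1 D6804 (iv D5234) D5233
def n6805 : Q := act 5 n5234
theorem D6805 : act 5 n5234 = n6805 := rfl
theorem F21432 : act 0 n6805 = n6805 := d4_1 D6805 (iv D6805) F16283
theorem F21433 : act 2 n6805 = n5238 := d15_1 D6805 (iv D5238) (iv F16284)
theorem F21434 : act 4 n6805 = n5812 := d22_1 D6805 (iv D5812) (iv F16285)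
theorem F21435 : act 6 n6805 = n5808 := d25_2 D5234 D6805 (iv D5808) (iv D4345) (iv F11929)
theorem F21436 : act 7 n6805 = n5318 := d26_2 (iv F16286) D6805 (iv D5318)
def n6806 : Q := act 4 n5235
theorem D6806 : act 4 n5235 = n6806 := rfl
theorem F21437 : act 0 n6806 = n6806 := d3_1 D6806 (iv D6806) F16287
theorem F21438 : act 2 n6806 = n5236 := d14_1 D6806 (iv D5236) D5235
theorem F21439 : act 5 n6806 = n5757 := d22_2 (iv F16288) D6806 F18035
theorem F21440 : act 7 n6806 = n5240 := d24_2 (iv F16289) D6806 (iv D5240)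
def n6807 : Q := act 6 n5235
theorem D6807 : act 6 n5235 = n6807 := rfl
theorem F21441 : act 0 n6807 = n6807 := d5_1 D6807 (iv D6807) F16287
theorem F21442 : act 2 n6807 = n5237 := d16_1 D6807 (iv D5237) D5235
def n6808 : Q := act 6 n5236
theorem D6808 : act 6 n5236 = n6808 := rfl
theorem F21443 : act 0 n6808 = n6808 := d5_1 D6808 (iv D6808) F16290
theorem F21444 : act 1 n6808 = n5245 := d11_1 D6808 (iv D5245) (iv F16291)
theorem F21445 : act 3 n6808 = n5357 := d20_1 D6808 (iv D5357) (iv F16292)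
theorem F21446 : act 4 n6808 = n5237 := d23_1 D6808 (iv D5237) D5236
def n6809 : Q := act 5 n5237
theorem D6809 : act 5 n5237 = n6809 := rfl
theorem F21447 : act 0 n6809 = n6809 := d4_1 D6809 (iv D6809) F16295
theorem F21448 : act 3 n6809 = n5238 := d19_1 D6809 (iv D5238) (iv F16297)
theorem F21449 : act 6 n6809 = n5820 := d25_2 D5237 D6809 (iv D5820) (iv D4355) (iv F11932)
def n6810 : Q := act 7 n5237
theorem D6810 : act 7 n5237 = n6810 := rfl
theorem F21450 : act 0 n6810 = n6810 := d6_1 D6810 (iv D6810) F16295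
theorem F21451 : act 1 n6810 = n5247 := d12_1 D6810 (iv D5247) (iv F16296)
theorem F21452 : act 3 n6810 = n5328 := d21_1 D6810 (iv D5328) F12154 (iv F11937) (iv F16297)
theorem F21453 : act 6 n6810 = n5241 := d27_1 D6810 (iv D5241) (iv D3858) (iv F11933) D5237
def n6811 : Q := act 1 n5238
theorem D6811 : act 1 n5238 = n6811 := rfl
theorem F21454 : act 4 n6811 = n5824 := d9_2 (iv F16299) D6811 (iv D5824)
theorem F21455 : act 5 n6811 = n5248 := d10_2 D5238 D6811 (iv D5248) (iv D3862) (iv F11935)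
theorem F21456 : act 6 n6811 = n5821 := d11_2 (iv F16300) D6811 (iv D5821)
theorem F21457 : act 7 n6811 = n5329 := d12_2 (iv F16301) D6811 (iv D5329)
def n6812 : Q := act 4 n5239
theorem D6812 : act 4 n5239 = n6812 := rfl
theorem F21458 : act 1 n6812 = n5240 := d9_1 D6812 (iv D5240) D5239
theorem F21459 : act 2 n6812 = n5250 := d14_1 D6812 (iv D5250) (iv F16302)
theorem F21460 : act 3 n6812 = n6812 := d18_1 D6812 (iv D6812) F16303 F13275 (iv F16303)
def n6813 : Q := act 4 n5242
theorem D6813 : act 4 n5242 = n6813 := rfl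
theorem F21461 : act 0 n6813 = n6558 := d3_1 D6813 (iv F20823) F20819
theorem F21462 : act 1 n6813 = n5243 := d9_1 D6813 (iv D5243) D5242
theorem F21463 : act 3 n6813 = n6555 := d18_1 D6813 (iv D6555) (iv F20555) F20556 F20533
theorem F21464 : act 7 n6813 = n5250 := d24_2 (iv F16312) D6813 (iv D5250)
def n6814 : Q := act 6 n5242
theorem D6814 : act 6 n5242 = n6814 := rfl
theorem F21465 : act 1 n6814 = n5244 := d11_1 D6814 (iv D5244) D5242
def n6815 : Q := act 6 n5243
theorem D6815 : act 6 n5243 = n6815 := rfl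
theorem F21466 : act 0 n6815 = n5265 := d5_1 D6815 (iv D5265) (iv F16313)
theorem F21467 : act 2 n6815 = n5245 := d16_1 D6815 (iv D5245) (iv F16314)
theorem F21468 : act 3 n6815 = n6578 := d20_1 D6815 (iv D6578) (iv F16315)
theorem F21469 : act 4 n6815 = n5244 := d23_1 D6815 (iv D5244) D5243
def n6816 : Q := act 5 n5244
theorem D6816 : act 5 n5244 = n6816 := rfl
theorem F21470 : act 0 n6816 = n5266 := d4_1 D6816 (iv D5266) (iv F16318)
theorem F21471 : act 2 n6816 = n5246 := d15_1 D6816 (iv D5246) (iv F16319)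
theorem F21472 : act 6 n6816 = n6085 := d25_2 D5244 D6816 (iv D6085) (iv D4595) (iv F11950)
theorem F21473 : act 7 n6793 = n6816 := d27_0 F21472 (iv F20610) F20609 F20496 D6793
def n6817 : Q := act 7 n5244
theorem D6817 : act 7 n5244 = n6817 := rfl
theorem F21474 : act 0 n6817 = n5267 := d6_1 D6817 (iv D5267) (iv F16318)
theorem F21475 : act 2 n6817 = n5247 := d17_1 D6817 (iv D5247) (iv F16319)
theorem F21476 : act 5 n6817 = n6793 := d26_1 D6817 F21473 (iv D6816)
theorem F21477 : act 6 n6817 = n5253 := d27_1 D6817 (iv D5253) (iv D3865) (iv F11951) D5244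
def n6818 : Q := act 1 n5246
theorem D6818 : act 1 n5246 = n6818 := rfl
theorem F21478 : act 0 n6818 = n6802 := d0_1 D6818 F21425 F16277 (iv F12000) (iv F16323)
theorem F21479 : act 3 n6818 = n5248 := d8_2 (iv F16324) D6818 (iv D5248)
theorem F21480 : act 6 n6818 = n6086 := d11_2 (iv F16325) D6818 (iv D6086)
theorem F21481 : act 7 n6818 = n6798 := d12_2 F16326 D6818 F21417
def n6819 : Q := act 0 n5248
theorem D6819 : act 0 n5248 = n6819 := rfl
theorem F21482 : act 1 n6819 = n5268 := d0_2 D5248 D6819 (iv D5268) (iv D3878) (iv F11958)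
theorem F21483 : act 3 n6819 = n6802 := d2_2 F21479 D6819 (iv F21478)
theorem F21484 : act 4 n6819 = n6091 := d3_2 (iv F16331) D6819 (iv D6091)
theorem F21485 : act 6 n6819 = n6087 := d5_2 (iv F16332) D6819 (iv D6087)
theorem F21486 : act 7 n6819 = n5340 := d6_2 (iv F16333) D6819 (iv D5340)
def n6820 : Q := act 2 n5248
theorem D6820 : act 2 n5248 = n6820 := rfl
theorem F21487 : act 4 n6820 = n6092 := d14_2 (iv F16331) D6820 (iv D6092)
theorem F21488 : act 6 n6820 = n6088 := d16_2 (iv F16332) D6820 (iv D6088)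
theorem F21489 : act 7 n6820 = n5341 := d17_2 (iv F16333) D6820 (iv D5341)
def n6821 : Q := act 4 n5249
theorem D6821 : act 4 n5249 = n6821 := rfl
theorem F21490 : act 0 n6821 = n5250 := d3_1 D6821 (iv D5250) D5249
theorem F21491 : act 1 n6821 = n5270 := d9_1 D6821 (iv D5270) (iv F16334)
theorem F21492 : act 3 n6821 = n6786 := d18_1 D6821 F21370 F21349 (iv D5254) (iv F16335)
theorem F21493 : act 7 n6821 = n6558 := d24_2 F20824 D6821 (iv F20823)
def n6822 : Q := act 6 n5249
theorem D6822 : act 6 n5249 = n6822 := rfl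
theorem F21494 : act 0 n6822 = n5252 := d5_1 D6822 (iv D5252) D5249
theorem F21495 : act 1 n6822 = n5272 := d11_1 D6822 (iv D5272) (iv F16334)
theorem F21496 : act 3 n6822 = n5256 := d20_1 D6822 (iv D5256) (iv F16335)
def n6823 : Q := act 5 n5250
theorem D6823 : act 5 n5250 = n6823 := rfl
theorem F21497 : act 1 n6823 = n5259 := d10_1 D6823 (iv D5259) F11978 (iv F11965) (iv F16336)
theorem F21498 : act 4 n6823 = n5251 := d22_1 D6823 (iv D5251) D5250
def n6824 : Q := act 6 n5251
theorem D6824 : act 6 n5251 = n6824 := rfl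
theorem F21499 : act 1 n6824 = n6249 := d11_1 D6824 (iv D6249) (iv F16337)
theorem F21500 : act 3 n6824 = n5258 := d20_1 D6824 (iv D5258) (iv F16338)
def n6825 : Q := act 5 n5252
theorem D6825 : act 5 n5252 = n6825 := rfl
theorem F21501 : act 3 n6825 = n5259 := d19_1 D6825 (iv D5259) (iv F16340)
def n6826 : Q := act 7 n5252
theorem D6826 : act 7 n5252 = n6826 := rfl
theorem F21502 : act 1 n6826 = n5253 := d12_1 D6826 (iv D5253) (iv F16339)
def n6827 : Q := act 5 n5254
theorem D6827 : act 5 n5254 = n6827 := rfl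
theorem F21503 : act 0 n6827 = n5257 := d4_1 D6827 (iv D5257) (iv F16344)
theorem F21504 : act 2 n6827 = n5750 := d15_1 D6827 (iv D5750) (iv F16346)
theorem F21505 : act 4 n6827 = n5255 := d22_1 D6827 (iv D5255) D5254
def n6828 : Q := act 6 n5255
theorem D6828 : act 6 n5255 = n6828 := rfl
theorem F21506 : act 0 n6828 = n5258 := d5_1 D6828 (iv D5258) (iv F16348)
theorem F21507 : act 2 n6828 = n5751 := d16_1 D6828 (iv D5751) (iv F16349)
def n6829 : Q := act 5 n5256
theorem D6829 : act 5 n5256 = n6829 := rfl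
theorem F21508 : act 0 n6829 = n5259 := d4_1 D6829 (iv D5259) (iv F16350)
theorem F21509 : act 2 n6829 = n5752 := d15_1 D6829 (iv D5752) (iv F16352)
theorem F21510 : act 4 n6829 = n6248 := d22_1 D6829 (iv D6248) (iv F16353)
theorem F21511 : act 7 n6829 = n6745 := d26_2 F17860 D6829 F21231
def n6830 : Q := act 6 n5257
theorem D6830 : act 6 n5257 = n6830 := rfl
theorem F21512 : act 2 n6830 = n5753 := d16_1 D6830 (iv D5753) (iv F16354)
theorem F21513 : act 4 n6830 = n5258 := d23_1 D6830 (iv D5258) (iv F16355)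
theorem F21514 : act 5 n6830 = n6249 := d25_1 D6830 (iv D6249) (iv D4719) F11976 D5257
def n6831 : Q := act 5 n5258
theorem D6831 : act 5 n5258 = n6831 := rfl
theorem F21515 : act 2 n6831 = n5754 := d15_1 D6831 (iv D5754) (iv F16356)
theorem F21516 : act 4 n6831 = n6249 := d22_1 D6831 (iv F21514) F21513
theorem F21517 : act 6 n6831 = n5259 := d25_2 D5258 D6831 (iv D5259) (iv D3870) D3869
def n6832 : Q := act 7 n5258
theorem D6832 : act 7 n5258 = n6832 := rfl
theorem F21518 : act 2 n6832 = n5755 := d17_1 D6832 (iv D5755) (iv F16356)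
def n6833 : Q := act 7 n5259
theorem D6833 : act 7 n5259 = n6833 := rfl
theorem F21519 : act 0 n6833 = n6745 := d6_1 D6833 (iv F21511) F21508
theorem F21520 : act 2 n6833 = n5756 := d17_1 D6833 (iv D5756) (iv F16357)
theorem F21521 : act 4 n6833 = n6083 := d24_1 D6833 F19114 (iv F16358)
theorem F21522 : act 5 n6833 = n5260 := d26_1 D6833 (iv D5260) D5259
def n6834 : Q := act 3 n5260
theorem D6834 : act 3 n5260 = n6834 := rfl
theorem F21523 : act 1 n6834 = n5261 := d8_1 D6834 (iv D5261) (iv F16359)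
theorem F21524 : act 4 n6834 = n6579 := d18_2 (iv F16361) D6834 F20664 F19034 F19032
def n6835 : Q := act 6 n5262
theorem D6835 : act 6 n5262 = n6835 := rfl
theorem F21525 : act 0 n6835 = n5264 := d5_1 D6835 (iv D5264) D5262
theorem F21526 : act 2 n6835 = n6835 := d16_1 D6835 (iv D6835) F16366
theorem F21527 : act 3 n6835 = n6551 := d20_1 D6835 (iv D6551) (iv F16367)
theorem F21528 : act 4 n6835 = n6564 := d23_1 D6835 (iv D6564) (iv F16368)
def n6836 : Q := act 7 n5264
theorem D6836 : act 7 n5264 = n6836 := rfl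
theorem F21529 : act 1 n6836 = n5267 := d12_1 D6836 (iv D5267) (iv F16375)
theorem F21530 : act 2 n6836 = n6836 := d17_1 D6836 (iv D6836) F16376
theorem F21531 : act 3 n6836 = n6794 := d21_1 D6836 F21401 F20682 (iv D6577) (iv F16377)
theorem F21532 : act 4 n6836 = n6582 := d24_1 D6836 (iv D6582) (iv F16378)
theorem F21533 : act 6 n6836 = n5276 := d27_1 D6836 (iv D5276) (iv D3882) (iv F11986) D5264
def n6837 : Q := act 2 n5268
theorem D6837 : act 2 n5268 = n6837 := rfl
theorem F21534 : act 0 n6837 = n5269 := d1_1 D6837 (iv D5269) D5268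
theorem F21535 : act 4 n6837 = n6276 := d14_2 (iv F16390) D6837 (iv D6276)
theorem F21536 : act 5 n6837 = n6837 := d15_2 F16391 D6837 (iv D6837)
theorem F21537 : act 6 n6837 = n6272 := d16_2 (iv F16392) D6837 (iv D6272)
theorem F21538 : act 7 n6837 = n5363 := d17_2 (iv F16393) D6837 (iv D5363)
def n6838 : Q := act 5 n5270
theorem D6838 : act 5 n5270 = n6838 := rfl
theorem F21539 : act 0 n6838 = n5273 := d4_1 D6838 (iv D5273) (iv F16398)
theorem F21540 : act 2 n6838 = n6838 := d15_1 D6838 (iv D6838) F16399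
theorem F21541 : act 3 n6838 = n6787 := d19_1 D6838 F21375 (iv F16400)
theorem F21542 : act 4 n6838 = n5271 := d22_1 D6838 (iv D5271) D5270
theorem F21543 : act 7 n6838 = n6530 := d26_2 (iv F16401) D6838 F20484
def n6839 : Q := act 6 n5271
theorem D6839 : act 6 n5271 = n6839 := rfl
theorem F21544 : act 0 n6839 = n5274 := d5_1 D6839 (iv D5274) (iv F16402)
theorem F21545 : act 2 n6839 = n6839 := d16_1 D6839 (iv D6839) F16403
theorem F21546 : act 3 n6839 = n5279 := d20_1 D6839 (iv D5279) (iv F16404)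
def n6840 : Q := act 5 n5272
theorem D6840 : act 5 n5272 = n6840 := rfl
theorem F21547 : act 0 n6840 = n5275 := d4_1 D6840 (iv D5275) (iv F16405)
theorem F21548 : act 2 n6840 = n6840 := d15_1 D6840 (iv D6840) F16406
theorem F21549 : act 3 n6840 = n5280 := d19_1 D6840 (iv D5280) (iv F16407)
theorem F21550 : act 7 n6840 = n6790 := d31_1 D6840 F21387 F16406 (iv D5272) F12011 D3885 (iv F15579) F16365 F16363 (iv F15773) (iv D5095) (iv F15771) (iv D5094) (iv F15764) F15763 F11471 F11469 (iv D3721) F8022 (iv F8028) (iv F11465) F11467 D3947 F12230 F11350 (iv D2733) (iv F8405) D3886 (iv F16407)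
def n6841 : Q := act 7 n5272
theorem D6841 : act 7 n5272 = n6841 := rfl
theorem F21551 : act 0 n6841 = n5276 := d6_1 D6841 (iv D5276) (iv F16405)
theorem F21552 : act 2 n6841 = n6841 := d17_1 D6841 (iv D6841) F16406
theorem F21553 : act 3 n6841 = n6791 := d21_1 D6841 F21392 F20487 (iv D5281) (iv F16407)
theorem F21554 : act 4 n6841 = n6840 := d24_1 D6841 F21550 F21387
theorem F21555 : act 5 n6841 = n6790 := d26_1 D6841 (iv F21550) (iv D6840)
def n6842 : Q := act 6 n5273
theorem D6842 : act 6 n5273 = n6842 := rfl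
theorem F21556 : act 1 n6842 = n5283 := d11_1 D6842 F16444 (iv F16408)
theorem F21557 : act 2 n6842 = n6842 := d16_1 D6842 (iv D6842) F16409
theorem F21558 : act 3 n6842 = n6795 := d20_1 D6842 (iv D6795) (iv F16410)
theorem F21559 : act 4 n6842 = n5274 := d23_1 D6842 (iv D5274) (iv F16411)
theorem F21560 : act 5 n6842 = n6836 := d25_1 D6842 F21533 F16424 F16240 D5273
theorem F21561 : act 7 n6842 = n6256 := d27_2 (iv F16412) D6842 (iv D6256) (iv F15412) (iv F15432)
def n6843 : Q := act 1 n5277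
theorem D6843 : act 1 n5277 = n6843 := rfl
theorem F21562 : act 3 n6843 = n6826 := d8_2 (iv F16427) D6843 F21502
theorem F21563 : act 4 n6843 = n5278 := d9_2 (iv F16428) D6843 (iv D5278)
theorem F21564 : act 7 n6843 = n6834 := d12_2 (iv F16429) D6843 F21523
def n6844 : Q := act 6 n5277
theorem D6844 : act 6 n5277 = n6844 := rfl
theorem F21565 : act 0 n6844 = n5282 := d5_1 D6844 (iv D5282) (iv F16425)
theorem F21566 : act 2 n6844 = n5286 := d16_1 D6844 (iv D5286) (iv F16426)
theorem F21567 : act 3 n6844 = n6817 := d20_1 D6844 F21477 (iv F16427)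
theorem F21568 : act 4 n6844 = n5279 := d23_1 D6844 (iv D5279) (iv F16428)
theorem F21569 : act 5 n6844 = n6443 := d25_1 D6844 (iv D6443) (iv D4877) F12026 D5277
def n6845 : Q := act 6 n5278
theorem D6845 : act 6 n5278 = n6845 := rfl
theorem F21570 : act 1 n6845 = n5279 := d11_1 D6845 (iv D5279) D5278
def n6846 : Q := act 5 n5279
theorem D6846 : act 5 n5279 = n6846 := rfl
theorem F21571 : act 0 n6846 = n5283 := d4_1 D6846 (iv D5283) (iv F16430)
theorem F21572 : act 2 n6846 = n5289 := d15_1 D6846 (iv D5289) (iv F16431)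
theorem F21573 : act 4 n6846 = n6443 := d22_1 D6846 (iv F21569) F21568
theorem F21574 : act 6 n6846 = n5280 := d25_2 D5279 D6846 (iv D5280) (iv D3886) D3885
theorem F21575 : act 7 n6064 = n6846 := d27_0 F21574 F20470 (iv D6526) F15391 D6064
def n6847 : Q := act 7 n5279
theorem D6847 : act 7 n5279 = n6847 := rfl
theorem F21576 : act 0 n6847 = n5284 := d6_1 D6847 (iv D5284) (iv F16430)
theorem F21577 : act 2 n6847 = n5290 := d17_1 D6847 (iv D5290) (iv F16431)
theorem F21578 : act 5 n6847 = n6064 := d26_1 D6847 F21575 (iv D6846)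
theorem F21579 : act 3 n6085 = n6847 := d19_3 F21578 F19044 D6085
def n6848 : Q := act 1 n5280
theorem D6848 : act 1 n5280 = n6848 := rfl
theorem F21580 : act 4 n6848 = n6442 := d9_2 (iv F16434) D6848 (iv D6442)
def n6849 : Q := act 7 n5282
theorem D6849 : act 7 n5282 = n6849 := rfl
theorem F21581 : act 1 n6849 = n6583 := d12_1 D6849 (iv F21401) F21398
theorem F21582 : act 2 n6849 = n5292 := d17_1 D6849 (iv D5292) (iv F16438)
theorem F21583 : act 3 n6849 = n6572 := d21_1 D6849 (iv D6572) F15534 D5267 (iv F16439)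
theorem F21584 : act 4 n6849 = n5284 := d24_1 D6849 (iv D5284) (iv F16440)
theorem F21585 : act 5 n6849 = n6257 := d26_1 D6849 F19576 (iv F16441)
theorem F21586 : act 6 n6849 = n6575 := d27_1 D6849 F20649 F15597 F12043 D5282
def n6850 : Q := act 2 n5285
theorem D6850 : act 2 n5285 = n6850 := rfl
theorem F21587 : act 0 n6850 = n5296 := d1_1 D6850 (iv D5296) (iv F16450)
theorem F21588 : act 4 n6850 = n5287 := d14_2 (iv F16452) D6850 (iv D5287)
theorem F21589 : act 5 n6850 = n5763 := d15_2 (iv F16453) D6850 (iv D5763)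
def n6851 : Q := act 6 n5285
theorem D6851 : act 6 n5285 = n6851 := rfl
theorem F21590 : act 0 n6851 = n5297 := d5_1 D6851 (iv D5297) (iv F16450)
theorem F21591 : act 1 n6851 = n5286 := d11_1 D6851 (iv D5286) D5285
theorem F21592 : act 3 n6851 = n6453 := d20_1 D6851 F20201 (iv F16451)
theorem F21593 : act 4 n6851 = n5288 := d23_1 D6851 (iv D5288) (iv F16452)
def n6852 : Q := act 7 n5286
theorem D6852 : act 7 n5286 = n6852 := rfl
theorem F21594 : act 0 n6852 = n5292 := d6_1 D6852 (iv D5292) (iv F16454)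
theorem F21595 : act 3 n6852 = n6076 := d21_1 D6852 (iv F19090) F15700 F15112 (iv F16455)
theorem F21596 : act 4 n6852 = n5290 := d24_1 D6852 (iv D5290) (iv F16456)
theorem F21597 : act 5 n6852 = n6065 := d26_1 D6852 F19049 (iv F16457)
theorem F21598 : act 6 n6852 = n6658 := d27_1 D6852 F20906 F15773 F12231 D5286
def n6853 : Q := act 6 n5287
theorem D6853 : act 6 n5287 = n6853 := rfl
theorem F21599 : act 0 n6853 = n5300 := d5_1 D6853 (iv D5300) (iv F16458)
theorem F21600 : act 2 n6853 = n5288 := d16_1 D6853 (iv D5288) D5287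
def n6854 : Q := act 5 n5288
theorem D6854 : act 5 n5288 = n6854 := rfl
theorem F21601 : act 0 n6854 = n5301 := d4_1 D6854 (iv D5301) (iv F16460)
theorem F21602 : act 3 n6854 = n6854 := d19_1 D6854 (iv D6854) F16462
theorem F21603 : act 6 n6854 = n5767 := d25_2 D5288 D6854 (iv D5767) (iv D4315) (iv F12050)
def n6855 : Q := act 7 n5288
theorem D6855 : act 7 n5288 = n6855 := rfl
theorem F21604 : act 0 n6855 = n5302 := d6_1 D6855 (iv D5302) (iv F16460)
theorem F21605 : act 1 n6855 = n5290 := d12_1 D6855 (iv D5290) (iv F16461)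
theorem F21606 : act 3 n6066 = n6855 := d8_0 F21605 (iv F16470) D6066
def n6856 : Q := act 1 n5289
theorem D6856 : act 1 n5289 = n6856 := rfl
theorem F21607 : act 0 n6856 = n6856 := d0_1 D6856 (iv D6856) F16463 F12064 (iv F16463)
theorem F21608 : act 3 n6856 = n6856 := d8_2 F16464 D6856 (iv D6856)
theorem F21609 : act 4 n6856 = n6444 := d9_2 (iv F16465) D6856 F20168
theorem F21610 : act 6 n6856 = n5291 := d11_2 (iv F16466) D6856 (iv D5291)
theorem F21611 : act 7 n6856 = n5926 := d12_2 F16467 D6856 F18562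
def n6857 : Q := act 2 n5293
theorem D6857 : act 2 n5293 = n6857 := rfl
theorem F21612 : act 0 n6857 = n6454 := d1_1 D6857 (iv D6454) (iv F16481)
theorem F21613 : act 1 n6857 = n6857 := d7_1 D6857 (iv D6857) (iv D5293) F12073 D5293
theorem F21614 : act 4 n6857 = n6857 := d14_2 F16483 D6857 (iv D6857)
theorem F21615 : act 5 n6857 = n5777 := d15_2 (iv F16484) D6857 (iv D5777)
def n6858 : Q := act 6 n5293
theorem D6858 : act 6 n5293 = n6858 := rfl
theorem F21616 : act 0 n6858 = n6453 := d5_1 D6858 F20201 (iv F16481)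
theorem F21617 : act 1 n6858 = n5294 := d11_1 D6858 (iv D5294) D5293
theorem F21618 : act 3 n6858 = n5297 := d20_1 D6858 (iv D5297) (iv F16482)
theorem F21619 : act 4 n6858 = n6858 := d23_1 D6858 (iv D6858) F16483
def n6859 : Q := act 3 n5296
theorem D6859 : act 3 n5296 = n6859 := rfl
theorem F21620 : act 1 n6859 = n6189 := d8_1 D6859 F19381 F18843
theorem F21621 : act 5 n6859 = n5783 := d19_2 (iv F16496) D6859 (iv D5783)
theorem F21622 : act 7 n6859 = n6175 := d21_2 (iv F18838) D6859 (iv D6175) F14436 D6006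
def n6860 : Q := act 6 n5296
theorem D6860 : act 6 n5296 = n6860 := rfl
theorem F21623 : act 2 n6860 = n5297 := d16_1 D6860 (iv D5297) D5296
theorem F21624 : act 4 n6860 = n5300 := d23_1 D6860 (iv D5300) (iv F16495)
def n6861 : Q := act 5 n5297
theorem D6861 : act 5 n5297 = n6861 := rfl
theorem F21625 : act 1 n6861 = n6861 := d10_1 D6861 (iv D6861) F16497 F12084 (iv F16497)
theorem F21626 : act 4 n6861 = n5301 := d22_1 D6861 (iv D5301) (iv F16498)
theorem F21627 : act 6 n6861 = n5785 := d25_2 D5297 D6861 (iv D5785) (iv D4327) (iv F12081)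
def n6862 : Q := act 7 n5297
theorem D6862 : act 7 n5297 = n6862 := rfl
theorem F21628 : act 1 n6862 = n5298 := d12_1 D6862 (iv D5298) (iv F16497)
theorem F21629 : act 4 n6862 = n5302 := d24_1 D6862 (iv D5302) (iv F16498)
def n6863 : Q := act 3 n5298
theorem D6863 : act 3 n5298 = n6863 := rfl
theorem F21630 : act 0 n6863 = n5304 := d2_1 D6863 (iv D5304) (iv F16499)
theorem F21631 : act 4 n6863 = n6263 := d18_2 (iv F16500) D6863 F19593 F16512 (iv D5303)
theorem F21632 : act 5 n6863 = n6863 := d19_2 F16501 D6863 (iv D6863)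
theorem F21633 : act 6 n6863 = n6695 := d20_2 F20390 D6863 F21029
theorem F21634 : act 7 n6863 = n6689 := d21_2 D5298 D6863 F21010 F16742 F16487
def n6864 : Q := act 4 n5299
theorem D6864 : act 4 n5299 = n6864 := rfl
theorem F21635 : act 2 n6864 = n6864 := d14_1 D6864 (iv D6864) F16502
theorem F21636 : act 5 n6864 = n5788 := d22_2 (iv F16503) D6864 (iv D5788)
def n6865 : Q := act 6 n5299
theorem D6865 : act 6 n5299 = n6865 := rfl
theorem F21637 : act 2 n6865 = n6865 := d16_1 D6865 (iv D6865) F16502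
theorem F21638 : act 3 n6865 = n5300 := d20_1 D6865 (iv D5300) D5299
def n6866 : Q := act 5 n5300
theorem D6866 : act 5 n5300 = n6866 := rfl
theorem F21639 : act 2 n6866 = n5301 := d15_1 D6866 (iv D5301) (iv F16504)
theorem F21640 : act 6 n6866 = n5790 := d25_2 D5300 D6866 (iv D5790) (iv D4330) (iv F12085)
def n6867 : Q := act 7 n5300
theorem D6867 : act 7 n5300 = n6867 := rfl
theorem F21641 : act 2 n6867 = n5302 := d17_1 D6867 (iv D5302) (iv F16504)
def n6868 : Q := act 7 n5301
theorem D6868 : act 7 n5301 = n6868 := rfl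
theorem F21642 : act 1 n6868 = n6868 := d12_1 D6868 (iv D6868) F16505
theorem F21643 : act 5 n6868 = n5302 := d26_1 D6868 (iv D5302) D5301
def n6869 : Q := act 3 n5302
theorem D6869 : act 3 n5302 = n6869 := rfl
theorem F21644 : act 0 n6869 = n6066 := d2_1 D6869 F21606 F21604
theorem F21645 : act 1 n6869 = n5303 := d8_1 D6869 (iv D5303) (iv F16508)
theorem F21646 : act 7 n6869 = n6869 := d21_2 D5302 D6869 (iv D6869) (iv D5302) F12087
theorem F21647 : act 4 n6080 = n6869 := d9_0 F21645 (iv F16512) (iv F19104)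
def n6870 : Q := act 2 n5303
theorem D6870 : act 2 n5303 = n6870 := rfl
theorem F21648 : act 0 n6870 = n5305 := d1_1 D6870 (iv D5305) (iv F16509)
theorem F21649 : act 3 n6870 = n6837 := d13_2 D5303 D6870 (iv D6837) F16389 F16278
theorem F21650 : act 4 n6870 = n6266 := d14_2 F16512 D6870 (iv D6266)
theorem F21651 : act 5 n6870 = n6870 := d15_2 F16510 D6870 (iv D6870)
theorem F21652 : act 7 n6870 = n6870 := d17_2 F16511 D6870 (iv D6870)
def n6871 : Q := act 3 n5306
theorem D6871 : act 3 n5306 = n6871 := rfl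
theorem F21653 : act 0 n6871 = n6871 := d2_1 D6871 (iv D6871) F16523
theorem F21654 : act 2 n6871 = n6871 := d13_1 D6871 (iv D6871) F16524 F12139 (iv F16524)
theorem F21655 : act 5 n6871 = n5740 := d19_2 (iv F16526) D6871 (iv D5740)
theorem F21656 : act 7 n6871 = n5309 := d21_2 D5306 D6871 (iv D5309) (iv D3913) D3911
def n6872 : Q := act 6 n5306
theorem D6872 : act 6 n5306 = n6872 := rfl
theorem F21657 : act 0 n6872 = n6872 := d5_1 D6872 (iv D6872) F16523
theorem F21658 : act 2 n6872 = n5321 := d16_1 D6872 (iv D5321) (iv F16524)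
theorem F21659 : act 4 n6872 = n5742 := d23_1 D6872 (iv D5742) (iv F16525)
theorem F21660 : act 7 n6872 = n5314 := d27_2 D5306 D6872 (iv D5314) (iv D3915) (iv F12108)
def n6873 : Q := act 7 n5307
theorem D6873 : act 7 n5307 = n6873 := rfl
theorem F21661 : act 0 n6873 = n5788 := d6_1 D6873 F18138 F17926
theorem F21662 : act 1 n6873 = n5308 := d12_1 D6873 (iv D5308) D5307
theorem F21663 : act 2 n6873 = n6873 := d17_1 D6873 (iv D6873) F16527
theorem F21664 : act 4 n6873 = n5312 := d24_1 D6873 (iv D5312) (iv F16529)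
def n6874 : Q := act 3 n5308
theorem D6874 : act 3 n5308 = n6874 := rfl
theorem F21665 : act 0 n6874 = n6874 := d2_1 D6874 (iv D6874) F16531
theorem F21666 : act 2 n6874 = n6874 := d13_1 D6874 (iv D6874) F16532 F12129 (iv F16532)
theorem F21667 : act 5 n6874 = n5309 := d19_2 (iv F16534) D6874 (iv D5309)
theorem F21668 : act 7 n6874 = n5740 := d21_2 D5308 D6874 (iv D5740) (iv D4280) (iv F12112)
def n6875 : Q := act 6 n5308
theorem D6875 : act 6 n5308 = n6875 := rfl
theorem F21669 : act 0 n6875 = n6875 := d5_1 D6875 (iv D6875) F16531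
theorem F21670 : act 2 n6875 = n5319 := d16_1 D6875 (iv D5319) (iv F16532)
theorem F21671 : act 4 n6875 = n5314 := d23_1 D6875 (iv D5314) (iv F16533)
theorem F21672 : act 7 n6875 = n5742 := d27_2 D5308 D6875 (iv D5742) (iv D4281) (iv F12114)
def n6876 : Q := act 4 n5309
theorem D6876 : act 4 n5309 = n6876 := rfl
theorem F21673 : act 0 n6876 = n6876 := d3_1 D6876 (iv D6876) F16535
theorem F21674 : act 2 n6876 = n6876 := d14_1 D6876 (iv D6876) F16536
theorem F21675 : act 3 n6876 = n5316 := d18_1 D6876 (iv D5316) (iv D3916) (iv F12117) D5309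
def n6877 : Q := act 6 n5309
theorem D6877 : act 6 n5309 = n6877 := rfl
theorem F21676 : act 0 n6877 = n6877 := d5_1 D6877 (iv D6877) F16535
theorem F21677 : act 2 n6877 = n6877 := d16_1 D6877 (iv D6877) F16536
theorem F21678 : act 3 n6877 = n5310 := d20_1 D6877 (iv D5310) D5309
def n6878 : Q := act 5 n5310
theorem D6878 : act 5 n5310 = n6878 := rfl
theorem F21679 : act 0 n6878 = n6878 := d4_1 D6878 (iv D6878) F16537
theorem F21680 : act 2 n6878 = n5320 := d15_1 D6878 (iv D5320) (iv F16538)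
theorem F21681 : act 4 n6878 = n5318 := d22_1 D6878 (iv D5318) (iv F16539)
theorem F21682 : act 7 n6878 = n5812 := d26_2 (iv F16540) D6878 (iv D5812)
def n6879 : Q := act 6 n5312
theorem D6879 : act 6 n5312 = n6879 := rfl
theorem F21683 : act 0 n6879 = n5789 := d5_1 D6879 (iv D5789) F16616
theorem F21684 : act 1 n6879 = n5314 := d11_1 D6879 (iv D5314) (iv F16544)
theorem F21685 : act 2 n6879 = n6879 := d16_1 D6879 (iv D6879) F16545
theorem F21686 : act 3 n6879 = n5766 := d20_1 D6879 (iv D5766) (iv F16615)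
def n6880 : Q := act 4 n5313
theorem D6880 : act 4 n5313 = n6880 := rfl
theorem F21687 : act 0 n6880 = n6880 := d3_1 D6880 (iv D6880) F16546
theorem F21688 : act 1 n6880 = n5763 := d9_1 D6880 F18056 F16614
theorem F21689 : act 2 n6880 = n5759 := d14_1 D6880 F18043 (iv F16613)
theorem F21690 : act 5 n6880 = n5316 := d22_2 (iv F16547) D6880 (iv D5316)
theorem F21691 : act 7 n6880 = n5810 := d24_2 (iv F16548) D6880 (iv D5810)
def n6881 : Q := act 6 n5313
theorem D6881 : act 6 n5313 = n6881 := rfl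
theorem F21692 : act 0 n6881 = n6881 := d5_1 D6881 (iv D6881) F16546
theorem F21693 : act 1 n6881 = n5766 := d11_1 D6881 (iv D5766) F16614
theorem F21694 : act 2 n6881 = n5761 := d16_1 D6881 (iv D5761) (iv F16613)
theorem F21695 : act 3 n6881 = n5314 := d20_1 D6881 (iv D5314) D5313
def n6882 : Q := act 5 n5314
theorem D6882 : act 5 n5314 = n6882 := rfl
theorem F21696 : act 0 n6882 = n6882 := d4_1 D6882 (iv D6882) F16549
theorem F21697 : act 2 n6882 = n5324 := d15_1 D6882 (iv D5324) (iv F16550)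
theorem F21698 : act 6 n6882 = n5318 := d25_2 D5314 D6882 (iv D5318) (iv D3917) (iv F12122)
def n6883 : Q := act 4 n5315
theorem D6883 : act 4 n5315 = n6883 := rfl
theorem F21699 : act 0 n6883 = n6883 := d3_1 D6883 (iv D6883) F16551
theorem F21700 : act 1 n6883 = n5750 := d9_1 D6883 F18013 (iv F16611)
theorem F21701 : act 2 n6883 = n5316 := d14_1 D6883 (iv D5316) D5315
theorem F21702 : act 3 n6883 = n6883 := d18_1 D6883 (iv D6883) F16552 F12150 (iv F16552)
theorem F21703 : act 5 n6883 = n5759 := d22_2 F16612 D6883 F18043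
theorem F21704 : act 7 n6883 = n5813 := d24_2 (iv F16553) D6883 (iv D5813)
def n6884 : Q := act 6 n5315
theorem D6884 : act 6 n5315 = n6884 := rfl
theorem F21705 : act 0 n6884 = n6884 := d5_1 D6884 (iv D6884) F16551
theorem F21706 : act 1 n6884 = n5751 := d11_1 D6884 (iv D5751) (iv F16611)
theorem F21707 : act 2 n6884 = n5317 := d16_1 D6884 (iv D5317) D5315
theorem F21708 : act 3 n6884 = n5326 := d20_1 D6884 (iv D5326) (iv F16552)
def n6885 : Q := act 6 n5316
theorem D6885 : act 6 n5316 = n6885 := rfl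
theorem F21709 : act 0 n6885 = n6885 := d5_1 D6885 (iv D6885) F16554
theorem F21710 : act 4 n6885 = n5317 := d23_1 D6885 (iv D5317) D5316
def n6886 : Q := act 5 n5317
theorem D6886 : act 5 n5317 = n6886 := rfl
theorem F21711 : act 0 n6886 = n6886 := d4_1 D6886 (iv D6886) F16556
theorem F21712 : act 3 n6886 = n5318 := d19_1 D6886 (iv D5318) (iv F16557)
def n6887 : Q := act 7 n5317
theorem D6887 : act 7 n5317 = n6887 := rfl
theorem F21713 : act 0 n6887 = n6887 := d6_1 D6887 (iv D6887) F16556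
theorem F21714 : act 6 n6887 = n5817 := d27_1 D6887 (iv D5817) (iv D4352) (iv F12124) D5317
def n6888 : Q := act 1 n5318
theorem D6888 : act 1 n5318 = n6888 := rfl
def n6889 : Q := act 5 n5319
theorem D6889 : act 5 n5319 = n6889 := rfl
theorem F21715 : act 0 n6889 = n6889 := d4_1 D6889 (iv D6889) F16560
theorem F21716 : act 3 n6889 = n6889 := d19_1 D6889 (iv D6889) F16562
theorem F21717 : act 4 n6889 = n5324 := d22_1 D6889 (iv D5324) (iv F16563)
theorem F21718 : act 6 n6889 = n5320 := d25_2 D5319 D6889 (iv D5320) (iv D3919) (iv F12131)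
theorem F21719 : act 7 n6889 = n5748 := d26_2 (iv F16564) D6889 (iv D5748)
def n6890 : Q := act 1 n5320
theorem D6890 : act 1 n5320 = n6890 := rfl
theorem F21720 : act 3 n6890 = n6890 := d8_2 F16566 D6890 (iv D6890)
theorem F21721 : act 4 n6890 = n5329 := d9_2 (iv F16567) D6890 (iv D5329)
theorem F21722 : act 5 n6890 = n5335 := d10_2 D5320 D6890 (iv D5335) (iv D3930) (iv F12133)
theorem F21723 : act 7 n6890 = n5824 := d12_2 (iv F16568) D6890 (iv D5824)
def n6891 : Q := act 5 n5321
theorem D6891 : act 5 n5321 = n6891 := rfl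
theorem F21724 : act 0 n6891 = n6891 := d4_1 D6891 (iv D6891) F16569
theorem F21725 : act 3 n6891 = n6891 := d19_1 D6891 (iv D6891) F16571
theorem F21726 : act 4 n6891 = n5748 := d22_1 D6891 (iv D5748) (iv F16572)
theorem F21727 : act 6 n6891 = n5746 := d25_2 D5321 D6891 (iv D5746) (iv D4284) (iv F12141)
theorem F21728 : act 7 n6891 = n5324 := d26_2 (iv F16573) D6891 (iv D5324)
def n6892 : Q := act 5 n5323
theorem D6892 : act 5 n5323 = n6892 := rfl
theorem F21729 : act 0 n6892 = n6892 := d4_1 D6892 (iv D6892) F16578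
theorem F21730 : act 3 n6892 = n5324 := d19_1 D6892 (iv D5324) (iv F16580)
theorem F21731 : act 4 n6892 = n6892 := d22_1 D6892 (iv D6892) F16581
theorem F21732 : act 6 n6892 = n5327 := d25_2 D5323 D6892 (iv D5327) (iv D3924) (iv F12145)
theorem F21733 : act 7 n6892 = n6892 := d26_2 F16582 D6892 (iv D6892)
def n6893 : Q := act 1 n5324
theorem D6893 : act 1 n5324 = n6893 := rfl
theorem F21734 : act 5 n6893 = n6893 := d10_2 D5324 D6893 (iv D6893) (iv D5324) F12148
theorem F21735 : act 6 n6893 = n5329 := d11_2 (iv F16584) D6893 (iv D5329)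
def n6894 : Q := act 6 n5325
theorem D6894 : act 6 n5325 = n6894 := rfl
theorem F21736 : act 0 n6894 = n5749 := d5_1 D6894 (iv D5749) F16609
theorem F21737 : act 1 n6894 = n5326 := d11_1 D6894 (iv D5326) D5325
theorem F21738 : act 2 n6894 = n5338 := d16_1 D6894 (iv D5338) (iv F16585)
theorem F21739 : act 3 n6894 = n5751 := d20_1 D6894 (iv D5751) F16610
theorem F21740 : act 4 n6894 = n6894 := d23_1 D6894 (iv D6894) F16586
def n6895 : Q := act 5 n5326
theorem D6895 : act 5 n5326 = n6895 := rfl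
theorem F21741 : act 0 n6895 = n6895 := d4_1 D6895 (iv D6895) F16588
theorem F21742 : act 2 n6895 = n5327 := d15_1 D6895 (iv D5327) (iv F16589)
theorem F21743 : act 4 n6895 = n6895 := d22_1 D6895 (iv D6895) F16590
def n6896 : Q := act 7 n5326
theorem D6896 : act 7 n5326 = n6896 := rfl
theorem F21744 : act 0 n6896 = n6896 := d6_1 D6896 (iv D6896) F16588
theorem F21745 : act 2 n6896 = n5328 := d17_1 D6896 (iv D5328) (iv F16589)
theorem F21746 : act 4 n6896 = n6896 := d24_1 D6896 (iv D6896) F16590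
theorem F21747 : act 6 n6896 = n5334 := d27_1 D6896 (iv D5334) (iv D3928) (iv F12151) D5326
def n6897 : Q := act 1 n5327
theorem D6897 : act 1 n5327 = n6897 := rfl
theorem F21748 : act 3 n6897 = n5329 := d8_2 (iv F16592) D6897 (iv D5329)
theorem F21749 : act 4 n6897 = n6897 := d9_2 F16593 D6897 (iv D6897)
theorem F21750 : act 5 n6897 = n5339 := d10_2 D5327 D6897 (iv D5339) (iv D3933) (iv F12153)
def n6898 : Q := act 7 n5327
theorem D6898 : act 7 n5327 = n6898 := rfl
theorem F21751 : act 0 n6898 = n6898 := d6_1 D6898 (iv D6898) F16591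
theorem F21752 : act 4 n6898 = n6898 := d24_1 D6898 (iv D6898) F16593
theorem F21753 : act 5 n6898 = n5328 := d26_1 D6898 (iv D5328) D5327
theorem F21754 : act 6 n6898 = n6898 := d27_1 D6898 (iv D6898) (iv F21732) F21733 F21732
def n6899 : Q := act 0 n5329
theorem D6899 : act 0 n5329 = n6899 := rfl
theorem F21755 : act 1 n6899 = n6899 := d0_2 D5329 D6899 (iv D6899) (iv D5329) F12156
theorem F21756 : act 5 n6899 = n5340 := d4_2 (iv F16598) D6899 (iv D5340)
def n6900 : Q := act 2 n5329
theorem D6900 : act 2 n5329 = n6900 := rfl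
theorem F21757 : act 5 n6900 = n5341 := d15_2 (iv F16598) D6900 (iv D5341)
def n6901 : Q := act 6 n5331
theorem D6901 : act 6 n5331 = n6901 := rfl
theorem F21758 : act 0 n6901 = n5333 := d5_1 D6901 (iv D5333) D5331
theorem F21759 : act 1 n6901 = n6901 := d11_1 D6901 (iv D6901) F16618
theorem F21760 : act 2 n6901 = n5343 := d16_1 D6901 (iv D5343) (iv F16619)
theorem F21761 : act 3 n6901 = n5832 := d20_1 D6901 (iv D5832) (iv F16620)
theorem F21762 : act 4 n6901 = n6901 := d23_1 D6901 (iv D6901) F16621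
theorem E64 : n6405 = n2466 := (c28_59 (iv F6515) F6517 D2107 D3069 D4291 F16623 D6901 F21758 F16633 F16632 F13505 F9668 F6694 (iv D1586) F3432 (iv D731) (iv F2390) (iv D729) F1622 F951 (iv F1468) (iv F1919) (iv D580) (iv D363) F664 (iv F1157) F1159 D578 (iv F2770) F2772 F1999 F1666 F1665 (iv F1505) D688 F2270 (iv F2168) (iv F3171) (iv F4640) (iv F6733) (iv F7259) D3380 (iv F14428) F14431 F14425 F10374 (iv F10410) D4680 F14468 F14464 F10449 F7315 (iv F7578) D3521 F10840 F10841 D4859 F15029 (iv F20065) F7600 (iv F7565) F7567 (iv D2116))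
theorem E65 : n4854 = n3529 := ((((iv F10859)).symm.trans (sb E64 (iv D6405)))).symm
theorem E66 : n4859 = n3532 := (((D3532).symm.trans (sb E64 F20065))).symm
theorem E67 : n4871 = n3518 := (((iv F15060)).symm.trans (sb E65 (iv D4854)))
theorem E69 : n4873 = n3521 := ((D4873).symm.trans (sb E65 F15018))
theorem E72 : n6370 = n4875 := ((((iv F15071)).symm.trans (sb E66 (iv F19952)))).symm
theorem E74 : n6432 = n4828 := ((((iv F14934)).symm.trans (sb E67 (iv F20128)))).symm
theorem F21763 : act 1 n3518 = n3529 := (sb E67 F15060)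
theorem E75 : n6429 = n4703 := ((((iv F14541)).symm.trans (sb E67 (iv F20123)))).symm
theorem E77 : n4850 = n3528 := (((iv F15008)).symm.trans (sb E67 (iv D4871)))
theorem E79 : n6241 = n4855 := (((D4855).symm.trans (sb E67 (iv F19528)))).symm
theorem F21764 : act 0 n3521 = n3532 := (sb E69 F15064)
theorem F21765 : act 3 n3521 = n3529 := (sb E69 (iv D4873))
theorem E80 : n6437 = n4860 := (((D4860).symm.trans (sb E69 D6437))).symm
theorem E81 : n6438 = n4831 := (((iv F20145)).symm.trans (sb E72 (iv D6370)))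
theorem E82 : n6365 = n4874 := ((D6365).symm.trans (sb E74 F20129))
theorem E83 : n6361 = n4870 := (((iv F19927)).symm.trans (sb E74 (iv D6432)))
theorem E84 : n6225 = n4869 := ((D6225).symm.trans (sb E75 F20122))
theorem E85 : n6221 = n4868 := (((iv F19482)).symm.trans (sb E75 (iv D6429)))
theorem F21766 : act 4 n3528 = n3518 := (sb E77 F15008)
theorem E86 : n4872 = n3516 := ((D4872).symm.trans (sb E77 (iv D4850)))
theorem E87 : n6399 = n4713 := ((((iv F14564)).symm.trans (sb E77 D6399))).symm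
theorem F21767 : act 1 n4855 = n4714 := (sb E79 F19526)
theorem E88 : n6409 = n6164 := ((D6409).symm.trans (sb E79 F19527))
theorem F21768 : act 0 n4860 = n4876 := (sb E80 F20141)
theorem F21769 : act 0 n4831 = n4875 := (sb E81 F20145)
theorem F21770 : act 1 n4874 = n4828 := (sb E82 (iv D6365))
theorem F21771 : act 3 n4874 = n4831 := (sb E82 F19939)
theorem F21772 : act 4 n4870 = n4828 := (sb E83 F19927)
theorem E89 : n6433 = n4826 := ((D6433).symm.trans (sb E83 (iv D6361)))
theorem F21773 : act 1 n4869 = n4703 := (sb E84 (iv D6225))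
theorem E90 : n6431 = n4706 := ((D6431).symm.trans (sb E84 F19489))
theorem F21774 : act 4 n4868 = n4703 := (sb E85 F19482)
theorem E91 : n6430 = n4701 := ((D6430).symm.trans (sb E85 (iv D6221)))
theorem F21775 : act 5 n3516 = n3528 := (sb E86 (iv D4872))
theorem E93 : n6242 = n4851 := (((D4851).symm.trans (sb E86 (iv F19530)))).symm
theorem F21776 : act 4 n4713 = n4855 := (sb E87 F20050)
theorem F21777 : act 6 n6164 = n4855 := (sb E88 (iv D6409))
theorem F21778 : act 5 n4826 = n4870 := (sb E89 (iv D6433))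
theorem F21779 : act 3 n4706 = n4869 := (sb E90 (iv D6431))
theorem F21780 : act 5 n4701 = n4868 := (sb E91 (iv D6430))
theorem F21781 : act 5 n4851 = n4713 := (sb E93 (iv D6242))
theorem F21782 : act 5 n6168 = n6362 := d4_2 F21781 (iv F19318) F19929
theorem F21783 : act 5 n6239 = n6222 := d15_2 F21781 (iv F19519) F19484
theorem F21784 : act 5 n5914 = n6400 := d19_2 F21781 (iv F18511) (iv D6400)
theorem F21785 : act 0 n6400 = n6169 := d4_1 F21784 (iv D6169) (iv F18510)
theorem F21786 : act 3 n6169 = n6362 := d2_2 D6400 F21785 F19929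
theorem F21787 : act 1 n6362 = n6337 := d8_1 F21786 F19849 (iv F19322)
theorem F21788 : act 4 n6337 = n6345 := d9_2 (iv F19930) F21787 F19878
theorem F21789 : act 7 n6337 = n6343 := d12_2 D6362 F21787 F19869
theorem F21790 : act 5 n6343 = n6338 := d26_1 F21789 (iv D6338) D6337
theorem F21791 : act 4 n6338 = n6344 := d22_1 F21790 (iv D6344) (iv F19872)
theorem F21792 : act 1 n6344 = n6340 := d9_1 F21791 F19856 (iv F19851)
theorem F21793 : act 7 n6344 = n6336 := d24_2 D6338 F21791 (iv D6336)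
theorem F21794 : act 5 n6336 = n6345 := d26_1 F21793 (iv D6345) D6344
theorem F21795 : act 1 n6366 = n6170 := d10_3 F21794 F19878 (iv F19942) F19326 (iv F19846)
theorem F21796 : act 4 n6168 = n6366 := d9_0 F21795 (iv D6170) (iv F19319)
theorem F21797 : act 3 n6340 = n6346 := d8_2 (iv F19875) F21792 (iv D6346)
theorem F21798 : act 0 n6346 = n6341 := d2_1 F21797 (iv D6341) (iv F19855)
theorem F21799 : act 4 n6226 = n6239 := d22_3 F21783 F19485 (iv F19492)
theorem F21800 : act 1 n6240 = n6226 := d9_3 F21799 (iv D6239) D6240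
theorem F21801 : act 5 n6428 = n6194 := d4_2 F21780 D6428 F19400
theorem F21802 : act 5 n6423 = n5902 := d10_4 F21780 (iv D4868) (iv F15046) D6423 F18483
theorem F21803 : act 5 n6421 = n6207 := d19_2 F21780 (iv F20104) F19446
theorem F21804 : act 4 n6209 = n6421 := d22_3 F21803 F19447 D6209
theorem F21805 : act 1 n6422 = n6209 := d9_3 F21804 (iv D6421) D6422
theorem F21806 : act 3 n6212 = n6422 := d8_0 F21805 F19452 D6212
theorem F21807 : act 4 n5904 = n6423 := d22_3 F21802 F18485 D5904
theorem F21808 : act 1 n6424 = n5904 := d9_3 F21807 (iv D6423) D6424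
theorem F21809 : act 3 n5907 = n6424 := d8_0 F21808 F18490 D5907
theorem F21810 : act 4 n6196 = n6428 := d22_3 F21801 F19402 D6196
theorem F21811 : act 3 n6384 = n6230 := d2_2 F21779 (iv F20001) (iv D6230)
theorem F21812 : act 0 n6439 = n6371 := d1_3 (iv D6371) F21769 D6439
theorem F21813 : act 0 n6440 = n6372 := d6_3 (iv D6372) F21769 D6440
theorem F21814 : act 0 n6247 = n6416 := d2_3 (iv D6416) F21768 (iv F19543)
theorem F21815 : act 0 n6441 = n6417 := d5_3 (iv D6417) F21768 D6441
theorem F21816 : act 7 n6416 = n6243 := d6_2 D6247 F21814 F19531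
theorem F21817 : act 1 n6243 = n6408 := d12_1 F21816 F20074 (iv F20091)
theorem F21818 : act 7 n6857 = n6901 := d17_0 F21760 (iv F16670) D6857
def n6902 : Q := act 0 n5335
theorem D6902 : act 0 n5335 = n6902 := rfl
theorem F21819 : act 1 n6902 = n5358 := d0_2 D5335 D6902 (iv D5358) (iv D3951) (iv F12174)
theorem F21820 : act 3 n6902 = n6902 := d2_2 F16638 D6902 (iv D6902)
theorem F21821 : act 4 n6902 = n5340 := d3_2 (iv F16639) D6902 (iv D5340)
theorem F21822 : act 6 n6902 = n6902 := d5_2 F16640 D6902 (iv D6902)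
theorem F21823 : act 7 n6902 = n6091 := d6_2 (iv F16641) D6902 (iv D6091)
def n6903 : Q := act 2 n5335
theorem D6903 : act 2 n5335 = n6903 := rfl
theorem F21824 : act 4 n6903 = n5341 := d14_2 (iv F16639) D6903 (iv D5341)
theorem F21825 : act 6 n6903 = n6903 := d16_2 F16640 D6903 (iv D6903)
theorem F21826 : act 7 n6903 = n6092 := d17_2 (iv F16641) D6903 (iv D6092)
def n6904 : Q := act 6 n5336
theorem D6904 : act 6 n5336 = n6904 := rfl
theorem F21827 : act 0 n6904 = n5338 := d5_1 D6904 (iv D5338) D5336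
theorem F21828 : act 1 n6904 = n5361 := d11_1 D6904 (iv D5361) (iv F16642)
theorem F21829 : act 2 n6904 = n5749 := d16_1 D6904 (iv D5749) (iv F16643)
theorem F21830 : act 4 n6904 = n6904 := d23_1 D6904 (iv D6904) F16644
theorem F21831 : act 7 n6904 = n6858 := d27_2 (iv F16645) D6904 (iv D6858) F16670 (iv D5343)
def n6905 : Q := act 5 n5338
theorem D6905 : act 5 n5338 = n6905 := rfl
theorem F21832 : act 4 n6905 = n6905 := d22_1 D6905 (iv D6905) F16653
def n6906 : Q := act 0 n5339
theorem D6906 : act 0 n5339 = n6906 := rfl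
theorem F21833 : act 1 n6906 = n5362 := d0_2 D5339 D6906 (iv D5362) (iv D3955) (iv F12184)
theorem F21834 : act 3 n6906 = n5340 := d2_2 (iv F16654) D6906 (iv D5340)
theorem F21835 : act 4 n6906 = n6906 := d3_2 F16655 D6906 (iv D6906)
theorem F21836 : act 6 n6906 = n6906 := d5_2 F16656 D6906 (iv D6906)
theorem F21837 : act 7 n6906 = n6777 := d6_2 (iv F20185) D6906 F21335
def n6907 : Q := act 2 n5339
theorem D6907 : act 2 n5339 = n6907 := rfl
theorem F21838 : act 4 n6907 = n6907 := d14_2 F16655 D6907 (iv D6907)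
theorem F21839 : act 6 n6907 = n6907 := d16_2 F16656 D6907 (iv D6907)
def n6908 : Q := act 2 n5340
theorem D6908 : act 2 n5340 = n6908 := rfl
theorem F21840 : act 0 n6908 = n5341 := d1_1 D6908 (iv D5341) D5340
theorem F21841 : act 6 n6908 = n6908 := d16_2 F16658 D6908 (iv D6908)
def n6909 : Q := act 3 n5341
theorem D6909 : act 3 n5341 = n6909 := rfl
theorem F21842 : act 6 n6909 = n6909 := d20_2 F16659 D6909 (iv D6909)
def n6910 : Q := act 1 n5345
theorem D6910 : act 1 n5345 = n6910 := rfl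
theorem F21843 : act 0 n6910 = n6910 := d0_1 D6910 (iv D6910) F16674 F12212 (iv F16674)
theorem F21844 : act 3 n6910 = n6910 := d8_2 F16676 D6910 (iv D6910)
theorem F21845 : act 4 n6910 = n5346 := d9_2 (iv F16677) D6910 (iv D5346)
theorem F21846 : act 5 n6910 = n5366 := d10_2 D5345 D6910 (iv D5366) (iv D3961) (iv F12202)
theorem F21847 : act 2 n5743 = n6910 := d14_3 F21845 (iv F16681) D5743
def n6911 : Q := act 6 n5345
theorem D6911 : act 6 n5345 = n6911 := rfl
theorem F21848 : act 0 n6911 = n5350 := d5_1 D6911 (iv D5350) (iv F16674)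
theorem F21849 : act 2 n6911 = n5852 := d16_1 D6911 (iv D5852) (iv F16675)
theorem F21850 : act 3 n6911 = n6911 := d20_1 D6911 (iv D6911) F16676
theorem F21851 : act 4 n6911 = n5347 := d23_1 D6911 (iv D5347) (iv F16677)
theorem F21852 : act 5 n6911 = n6101 := d25_1 D6911 (iv D6101) (iv D4609) F12205 D5345
def n6912 : Q := act 5 n5347
theorem D6912 : act 5 n5347 = n6912 := rfl
theorem F21853 : act 0 n6912 = n5351 := d4_1 D6912 (iv D5351) (iv F16682)
theorem F21854 : act 2 n6912 = n5854 := d15_1 D6912 (iv D5854) (iv F16683)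
theorem F21855 : act 4 n6912 = n6101 := d22_1 D6912 (iv F21852) F21851
theorem F21856 : act 6 n6912 = n5348 := d25_2 D5347 D6912 (iv D5348) (iv D3941) D3940
def n6913 : Q := act 7 n5347
theorem D6913 : act 7 n5347 = n6913 := rfl
theorem F21857 : act 0 n6913 = n5352 := d6_1 D6913 (iv D5352) (iv F16682)
theorem F21858 : act 2 n6913 = n5855 := d17_1 D6913 (iv D5855) (iv F16683)
def n6914 : Q := act 7 n5350
theorem D6914 : act 7 n5350 = n6914 := rfl
theorem F21859 : act 1 n6914 = n6914 := d12_1 D6914 (iv D6914) F16692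
theorem F21860 : act 2 n6914 = n5858 := d17_1 D6914 (iv D5858) (iv F16693)
theorem F21861 : act 4 n6914 = n5352 := d24_1 D6914 (iv D5352) (iv F16695)
theorem F21862 : act 5 n6914 = n6102 := d26_1 D6914 (iv D6102) (iv F16696)
def n6915 : Q := act 7 n5351
theorem D6915 : act 7 n5351 = n6915 := rfl
theorem F21863 : act 2 n6915 = n5859 := d17_1 D6915 (iv D5859) (iv F16697)
theorem F21864 : act 4 n6915 = n6102 := d24_1 D6915 (iv D6102) (iv F16698)
theorem F21865 : act 5 n6915 = n5352 := d26_1 D6915 (iv D5352) D5351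
def n6916 : Q := act 3 n5352
theorem D6916 : act 3 n5352 = n6916 := rfl
theorem F21866 : act 1 n6916 = n6916 := d8_1 D6916 (iv D6916) F16700
def n6917 : Q := act 6 n5353
theorem D6917 : act 6 n5353 = n6917 := rfl
theorem F21867 : act 2 n6917 = n5862 := d16_1 D6917 (iv D5862) (iv F16702)
theorem F21868 : act 4 n6917 = n6094 := d23_1 D6917 (iv D6094) (iv F16703)
def n6918 : Q := act 2 n5354
theorem D6918 : act 2 n5354 = n6918 := rfl
theorem F21869 : act 0 n6918 = n6006 := d1_1 D6918 F18835 (iv F16705)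
theorem F21870 : act 3 n6918 = n5863 := d13_2 D5354 D6918 (iv D5863) (iv D4395) (iv F12221)
theorem F21871 : act 4 n6918 = n6584 := d14_2 (iv F16707) D6918 (iv D6584)
theorem F21872 : act 7 n6918 = n6850 := d17_2 (iv F16708) D6918 (iv D6850)
def n6919 : Q := act 3 n5356
theorem D6919 : act 3 n5356 = n6919 := rfl
theorem F21873 : act 0 n6919 = n6919 := d2_1 D6919 (iv D6919) F16714
theorem F21874 : act 5 n6919 = n5827 := d19_2 (iv F16717) D6919 (iv D5827)
theorem F21875 : act 7 n6919 = n6919 := d21_2 D5356 D6919 (iv D6919) (iv D5356) F12233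
def n6920 : Q := act 6 n5356
theorem D6920 : act 6 n5356 = n6920 := rfl
theorem F21876 : act 0 n6920 = n6920 := d5_1 D6920 (iv D6920) F16714
theorem F21877 : act 2 n6920 = n5357 := d16_1 D6920 (iv D5357) (iv F16715)
theorem F21878 : act 4 n6920 = n5822 := d23_1 D6920 (iv D5822) (iv F16716)
theorem F21879 : act 7 n6920 = n6920 := d27_2 D5356 D6920 (iv D6920) (iv D5356) F12236
def n6921 : Q := act 5 n5357
theorem D6921 : act 5 n5357 = n6921 := rfl
theorem F21880 : act 0 n6921 = n6921 := d4_1 D6921 (iv D6921) F16718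
theorem F21881 : act 4 n6921 = n5823 := d22_1 D6921 (iv D5823) (iv F16720)
theorem F21882 : act 6 n6921 = n5830 := d25_2 D5357 D6921 (iv D5830) (iv D4363) (iv F12240)
theorem F21883 : act 7 n6921 = n6921 := d26_2 F16721 D6921 (iv D6921)
def n6922 : Q := act 2 n5358
theorem D6922 : act 2 n5358 = n6922 := rfl
theorem F21884 : act 0 n6922 = n5359 := d1_1 D6922 (iv D5359) D5358
theorem F21885 : act 4 n6922 = n5363 := d14_2 (iv F16723) D6922 (iv D5363)
theorem F21886 : act 5 n6922 = n6922 := d15_2 F16724 D6922 (iv D6922)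
theorem F21887 : act 6 n6922 = n6922 := d16_2 F16725 D6922 (iv D6922)
theorem F21888 : act 7 n6922 = n6276 := d17_2 (iv F16726) D6922 (iv D6276)
def n6923 : Q := act 3 n5359
theorem D6923 : act 3 n5359 = n6923 := rfl
theorem F21889 : act 2 n6923 = n6923 := d13_1 D6923 (iv D6923) (iv D5359) F12244 D5359
theorem F21890 : act 4 n6923 = n6923 := d18_2 (iv F16727) D6923 (iv D6923) F16727 F12270
theorem F21891 : act 5 n6923 = n6923 := d19_2 F16728 D6923 (iv D6923)
theorem F21892 : act 6 n6923 = n6923 := d20_2 F16729 D6923 (iv D6923)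
def n6924 : Q := act 1 n5363
theorem D6924 : act 1 n5363 = n6924 := rfl
theorem F21893 : act 3 n6924 = n6924 := d8_2 F16750 D6924 (iv D6924)
theorem F21894 : act 6 n6924 = n6924 := d11_2 F16752 D6924 (iv D6924)
def n6925 : Q := act 6 n5364
theorem D6925 : act 6 n5364 = n6925 := rfl
theorem F21895 : act 0 n6925 = n6925 := d5_1 D6925 (iv D6925) F16753
theorem F21896 : act 1 n6925 = n5365 := d11_1 D6925 (iv D5365) D5364
theorem F21897 : act 2 n6925 = n5747 := d16_1 D6925 (iv D5747) F16758
theorem F21898 : act 3 n6925 = n5369 := d20_1 D6925 (iv D5369) (iv F16754)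
theorem F21899 : act 4 n6925 = n6925 := d23_1 D6925 (iv D6925) F16755
theorem F21900 : act 7 n6925 = n6925 := d27_2 (iv F16757) D6925 (iv D6925) F16757 F13273
def n6926 : Q := act 2 n5366
theorem D6926 : act 2 n5366 = n6926 := rfl
theorem F21901 : act 0 n6926 = n6926 := d1_1 D6926 (iv D6926) F16765
theorem F21902 : act 1 n6926 = n5372 := d7_1 D6926 (iv D5372) (iv D3970) (iv F12290) D5366
theorem F21903 : act 4 n6926 = n5368 := d14_2 (iv F16767) D6926 (iv D5368)
theorem F21904 : act 5 n6926 = n5743 := d15_2 F21846 D6926 F21847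
theorem F21905 : act 7 n6926 = n5806 := d17_2 F21052 D6926 F21053
def n6927 : Q := act 6 n5366
theorem D6927 : act 6 n5366 = n6927 := rfl
theorem F21906 : act 0 n6927 = n6927 := d5_1 D6927 (iv D6927) F16765
theorem F21907 : act 1 n6927 = n5367 := d11_1 D6927 (iv D5367) D5366
theorem F21908 : act 3 n6927 = n6927 := d20_1 D6927 (iv D6927) F16766
theorem F21909 : act 4 n6927 = n5369 := d23_1 D6927 (iv D5369) (iv F16767)
def n6928 : Q := act 6 n5368
theorem D6928 : act 6 n5368 = n6928 := rfl
theorem F21910 : act 0 n6928 = n6928 := d5_1 D6928 (iv D6928) F16773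
theorem F21911 : act 1 n6928 = n5376 := d11_1 D6928 (iv D5376) (iv F16774)
theorem F21912 : act 2 n6928 = n5369 := d16_1 D6928 (iv D5369) D5368
theorem F21913 : act 3 n6928 = n5742 := d20_1 D6928 (iv D5742) (iv F16775)
def n6929 : Q := act 5 n5369
theorem D6929 : act 5 n5369 = n6929 := rfl
theorem F21914 : act 0 n6929 = n6929 := d4_1 D6929 (iv D6929) F16778
def n6930 : Q := act 7 n5369
theorem D6930 : act 7 n5369 = n6930 := rfl
theorem F21915 : act 0 n6930 = n6930 := d6_1 D6930 (iv D6930) F16778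
theorem F21916 : act 1 n6930 = n5371 := d12_1 D6930 (iv D5371) (iv F16779)
theorem F21917 : act 3 n6930 = n6930 := d21_1 D6930 (iv D6930) (iv F21898) F21900 F21898
def n6931 : Q := act 3 n5372
theorem D6931 : act 3 n5372 = n6931 := rfl
theorem F21918 : act 0 n6931 = n5395 := d2_1 D6931 (iv D5395) (iv F16788)
theorem F21919 : act 2 n6931 = n6313 := d13_1 D6931 (iv D6313) (iv D4782) (iv F12325) D5372
theorem F21920 : act 5 n6931 = n5873 := d19_2 (iv F16790) D6931 (iv D5873)
def n6932 : Q := act 6 n5372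
theorem D6932 : act 6 n5372 = n6932 := rfl
theorem F21921 : act 0 n6932 = n5396 := d5_1 D6932 (iv D5396) (iv F16788)
theorem F21922 : act 2 n6932 = n5373 := d16_1 D6932 (iv D5373) D5372
theorem F21923 : act 4 n6932 = n5376 := d23_1 D6932 (iv D5376) (iv F16789)
def n6933 : Q := act 5 n5373
theorem D6933 : act 5 n5373 = n6933 := rfl
theorem F21924 : act 0 n6933 = n5397 := d4_1 D6933 (iv D5397) (iv F16791)
theorem F21925 : act 1 n6933 = n6298 := d10_1 D6933 (iv D6298) F14747 (iv F12331) (iv F16792)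
theorem F21926 : act 3 n6933 = n6304 := d19_1 D6933 F19735 (iv F16793)
theorem F21927 : act 4 n6933 = n5377 := d22_1 D6933 (iv D5377) (iv F16794)
theorem F21928 : act 6 n6933 = n5875 := d25_2 D5373 D6933 (iv D5875) (iv D4409) (iv F12327)
def n6934 : Q := act 7 n5373
theorem D6934 : act 7 n5373 = n6934 := rfl
theorem F21929 : act 0 n6934 = n5398 := d6_1 D6934 (iv D5398) (iv F16791)
theorem F21930 : act 1 n6934 = n5374 := d12_1 D6934 (iv D5374) (iv F16792)
theorem F21931 : act 4 n6934 = n5378 := d24_1 D6934 (iv D5378) (iv F16794)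
def n6935 : Q := act 3 n5374
theorem D6935 : act 3 n5374 = n6935 := rfl
theorem F21932 : act 0 n6935 = n5382 := d2_1 D6935 (iv D5382) (iv F16795)
theorem F21933 : act 5 n6935 = n6300 := d19_2 (iv F16797) D6935 (iv D6300)
theorem F21934 : act 7 n6935 = n6309 := d21_2 D5374 D6935 (iv D6309) (iv D4780) (iv F12329)
def n6936 : Q := act 6 n5375
theorem D6936 : act 6 n5375 = n6936 := rfl
theorem F21935 : act 0 n6936 = n5401 := d5_1 D6936 (iv D5401) (iv F16798)
theorem F21936 : act 1 n6936 = n5742 := d11_1 D6936 (iv D5742) (iv F16799)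
theorem F21937 : act 2 n6936 = n6936 := d16_1 D6936 (iv D6936) F16800
theorem F21938 : act 3 n6936 = n5376 := d20_1 D6936 (iv D5376) D5375
def n6937 : Q := act 5 n5376
theorem D6937 : act 5 n5376 = n6937 := rfl
theorem F21939 : act 0 n6937 = n5403 := d4_1 D6937 (iv D5403) (iv F16803)
theorem F21940 : act 2 n6937 = n5377 := d15_1 D6937 (iv D5377) (iv F16804)
theorem F21941 : act 6 n6937 = n5880 := d25_2 D5376 D6937 (iv D5880) (iv D4412) (iv F12333)
def n6938 : Q := act 7 n5376
theorem D6938 : act 7 n5376 = n6938 := rfl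
theorem F21942 : act 0 n6938 = n5404 := d6_1 D6938 (iv D5404) (iv F16803)
theorem F21943 : act 2 n6938 = n5378 := d17_1 D6938 (iv D5378) (iv F16804)
def n6939 : Q := act 1 n5377
theorem D6939 : act 1 n5377 = n6939 := rfl
theorem F21944 : act 0 n6939 = n6939 := d0_1 D6939 (iv D6939) F16805 F12404 (iv F16805)
theorem F21945 : act 3 n6939 = n6939 := d8_2 F16806 D6939 (iv D6939)
theorem F21946 : act 4 n6939 = n6298 := d9_2 F21927 D6939 (iv F21925)
theorem F21947 : act 5 n6939 = n5379 := d10_2 D5377 D6939 (iv D5379) (iv D3974) (iv F12335)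
theorem F21948 : act 6 n6939 = n5882 := d11_2 (iv F16807) D6939 (iv D5882)
def n6940 : Q := act 7 n5377
theorem D6940 : act 7 n5377 = n6940 := rfl
theorem F21949 : act 0 n6940 = n5405 := d6_1 D6940 (iv D5405) (iv F16805)
theorem F21950 : act 5 n6940 = n5378 := d26_1 D6940 (iv D5378) D5377
def n6941 : Q := act 3 n5378
theorem D6941 : act 3 n5378 = n6941 := rfl
theorem F21951 : act 0 n6941 = n5406 := d2_1 D6941 (iv D5406) (iv F16808)
theorem F21952 : act 1 n6941 = n5381 := d8_1 D6941 (iv D5381) (iv F16809)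
theorem F21953 : act 6 n6941 = n6502 := d20_2 F21181 D6941 F21182
theorem F21954 : act 7 n6941 = n6941 := d21_2 D5378 D6941 (iv D6941) (iv D5378) F12336
def n6942 : Q := act 4 n5381
theorem D6942 : act 4 n5381 = n6942 := rfl
theorem F21955 : act 0 n6942 = n5383 := d3_1 D6942 (iv D5383) (iv F16819)
theorem F21956 : act 2 n6942 = n6942 := d14_1 D6942 (iv D6942) F16820
theorem F21957 : act 5 n6942 = n6478 := d22_2 (iv F16821) D6942 F20293
theorem F21958 : act 6 n6942 = n6499 := d23_2 (iv F16822) D6942 F20365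
theorem F21959 : act 7 n6942 = n6942 := d24_2 F16823 D6942 (iv D6942)
def n6943 : Q := act 2 n5382
theorem D6943 : act 2 n5382 = n6943 := rfl
theorem F21960 : act 3 n6943 = n5414 := d13_2 D5382 D6943 F16931 (iv F16107) F16106
theorem F21961 : act 5 n6943 = n5413 := d15_2 (iv F16825) D6943 F16928
theorem F21962 : act 7 n6943 = n6318 := d17_2 (iv F16826) D6943 (iv D6318)
def n6944 : Q := act 4 n5382
theorem D6944 : act 4 n5382 = n6944 := rfl
theorem F21963 : act 1 n6944 = n5419 := d9_1 D6944 (iv D5419) (iv F16824)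
theorem F21964 : act 3 n6944 = n5383 := d18_1 D6944 (iv D5383) (iv D3980) (iv F12355) D5382
theorem F21965 : act 5 n6944 = n6301 := d22_2 (iv F16825) D6944 (iv D6301)
theorem F21966 : act 6 n6944 = n6512 := d23_2 F21197 D6944 (iv F21195)
theorem F21967 : act 7 n6944 = n6319 := d24_2 (iv F16826) D6944 (iv D6319)
def n6945 : Q := act 2 n5384
theorem D6945 : act 2 n5384 = n6945 := rfl
theorem F21968 : act 0 n6945 = n6945 := d1_1 D6945 (iv D6945) F16832
theorem F21969 : act 1 n6945 = n5389 := d7_1 D6945 (iv D5389) (iv D3983) (iv F12368) D5384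
theorem F21970 : act 4 n6945 = n6945 := d14_2 F16834 D6945 (iv D6945)
theorem F21971 : act 5 n6945 = n6945 := d15_2 F16835 D6945 (iv D6945)
def n6946 : Q := act 6 n5384
theorem D6946 : act 6 n5384 = n6946 := rfl
theorem F21972 : act 0 n6946 = n6946 := d5_1 D6946 (iv D6946) F16832
theorem F21973 : act 1 n6946 = n5385 := d11_1 D6946 (iv D5385) D5384
theorem F21974 : act 3 n6946 = n6946 := d20_1 D6946 (iv D6946) F16833
theorem F21975 : act 4 n6946 = n6946 := d23_1 D6946 (iv D6946) F16834
def n6947 : Q := act 7 n5384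
theorem D6947 : act 7 n5384 = n6947 := rfl
theorem F21976 : act 0 n6947 = n6947 := d6_1 D6947 (iv D6947) F16832
theorem F21977 : act 1 n6947 = n5386 := d12_1 D6947 (iv D5386) D5384
theorem F21978 : act 4 n6947 = n6947 := d24_1 D6947 (iv D6947) F16834
theorem F21979 : act 5 n6947 = n6947 := d26_1 D6947 (iv D6947) F16835
def n6948 : Q := act 7 n5385
theorem D6948 : act 7 n5385 = n6948 := rfl
theorem F21980 : act 0 n6948 = n5409 := d6_1 D6948 (iv D5409) (iv F16836)
theorem F21981 : act 2 n6948 = n5392 := d17_1 D6948 (iv D5392) (iv F16837)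
theorem F21982 : act 4 n6948 = n6948 := d24_1 D6948 (iv D6948) F16839
theorem F21983 : act 5 n6948 = n6948 := d26_1 D6948 (iv D6948) F16840
def n6949 : Q := act 3 n5386
theorem D6949 : act 3 n5386 = n6949 := rfl
theorem F21984 : act 0 n6949 = n5410 := d2_1 D6949 (iv D5410) (iv F16841)
theorem F21985 : act 2 n6949 = n6497 := d13_1 D6949 F20357 (iv F16047) F16048 (iv F16842)
theorem F21986 : act 5 n6949 = n5387 := d19_2 (iv F16844) D6949 (iv D5387)
theorem F21987 : act 7 n6949 = n6949 := d21_2 D5386 D6949 (iv D6949) (iv D5386) F12369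
theorem F21988 : act 4 n6496 = n6949 := d14_0 F21985 (iv D6497) D6496
def n6950 : Q := act 6 n5386
theorem D6950 : act 6 n5386 = n6950 := rfl
theorem F21989 : act 0 n6950 = n5411 := d5_1 D6950 (iv D5411) (iv F16841)
theorem F21990 : act 2 n6950 = n5393 := d16_1 D6950 (iv D5393) (iv F16842)
theorem F21991 : act 4 n6950 = n6950 := d23_1 D6950 (iv D6950) F16843
def n6951 : Q := act 4 n5387
theorem D6951 : act 4 n5387 = n6951 := rfl
theorem F21992 : act 0 n6951 = n5412 := d3_1 D6951 (iv D5412) (iv F16845)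
theorem F21993 : act 1 n6951 = n6951 := d9_1 D6951 (iv D6951) F16846
theorem F21994 : act 2 n6951 = n6477 := d14_1 D6951 (iv F21225) F21224
theorem F21995 : act 3 n6951 = n6951 := d18_1 D6951 (iv D6951) (iv D5387) F12374 D5387
theorem F21996 : act 5 n6951 = n6496 := d22_2 F21986 D6951 F21988
theorem F21997 : act 7 n6951 = n6951 := d24_2 F16847 D6951 (iv D6951)
def n6952 : Q := act 6 n5387
theorem D6952 : act 6 n5387 = n6952 := rfl
theorem F21998 : act 0 n6952 = n5413 := d5_1 D6952 (iv D5413) (iv F16845)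
theorem F21999 : act 1 n6952 = n6952 := d11_1 D6952 (iv D6952) F16846
theorem F22000 : act 2 n6952 = n6300 := d16_1 D6952 (iv F21227) F21224
theorem F22001 : act 3 n6952 = n5388 := d20_1 D6952 (iv D5388) D5387
theorem F22002 : act 7 n6311 = n6952 := d17_0 F22000 F19718 D6311
def n6953 : Q := act 5 n5388
theorem D6953 : act 5 n5388 = n6953 := rfl
theorem F22003 : act 0 n6953 = n5414 := d4_1 D6953 (iv D5414) (iv F16848)
theorem F22004 : act 2 n6953 = n5394 := d15_1 D6953 (iv D5394) (iv F16850)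
theorem F22005 : act 4 n6953 = n6953 := d22_1 D6953 (iv D6953) F16851
theorem F22006 : act 7 n6953 = n6953 := d26_2 F16852 D6953 (iv D6953)
def n6954 : Q := act 3 n5389
theorem D6954 : act 3 n5389 = n6954 := rfl
theorem F22007 : act 0 n6954 = n6313 := d2_1 D6954 (iv D6313) (iv F16853)
theorem F22008 : act 2 n6954 = n5395 := d13_1 D6954 (iv D5395) (iv D3987) (iv F12376) D5389
theorem F22009 : act 5 n6954 = n5886 := d19_2 (iv F16855) D6954 (iv D5886)
def n6955 : Q := act 6 n5389
theorem D6955 : act 6 n5389 = n6955 := rfl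
theorem F22010 : act 0 n6955 = n6307 := d5_1 D6955 F19746 (iv F16853)
theorem F22011 : act 2 n6955 = n5390 := d16_1 D6955 (iv D5390) D5389
theorem F22012 : act 4 n6955 = n6955 := d23_1 D6955 (iv D6955) F16854
def n6956 : Q := act 7 n5389
theorem D6956 : act 7 n5389 = n6956 := rfl
theorem F22013 : act 0 n6956 = n6314 := d6_1 D6956 (iv D6314) (iv F16853)
theorem F22014 : act 2 n6956 = n5391 := d17_1 D6956 (iv D5391) D5389
theorem F22015 : act 4 n6956 = n6956 := d24_1 D6956 (iv D6956) F16854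
theorem F22016 : act 5 n6956 = n5888 := d26_1 D6956 (iv D5888) (iv F16855)
theorem F22017 : act 6 n6905 = n6956 := d25_0 F22016 (iv F18438) (iv D5337) D5338 D6905
def n6957 : Q := act 5 n5390
theorem D6957 : act 5 n5390 = n6957 := rfl
theorem F22018 : act 0 n6957 = n6304 := d4_1 D6957 F19735 (iv F16856)
theorem F22019 : act 1 n6957 = n6957 := d10_1 D6957 (iv D6957) F16857 F12382 (iv F16857)
theorem F22020 : act 3 n6957 = n5397 := d19_1 D6957 (iv D5397) (iv F16858)
theorem F22021 : act 4 n6957 = n6957 := d22_1 D6957 (iv D6957) F16859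
theorem F22022 : act 6 n6957 = n5889 := d25_2 D5390 D6957 (iv D5889) (iv D4419) (iv F12378)
theorem F22023 : act 2 n6957 = n6463 := d28_3 F16805 (iv F16878) (iv F22020) F20235 F15138 F10935 F10932 F7671 D3556 D4904 (iv F18540) F18544 (iv D5919) F13721 (iv D4441) (iv D3188) F6832 F4735 F3250 F2570 (iv F3667) F3669 F3668 (iv F5292) (iv F7642) F7645 (iv D1896) (iv F5858) F5860 F5859 (iv D1268) F2768 F2156 D724 F2377 (iv F2396) F2395 (iv F2179) F2178 (iv D662) (iv D434) (iv F1360) F1361 D452 (iv F1509) F897 (iv F1673) F2269 F2266 (iv F2180) (iv F3167) (iv F4636) (iv F5018) (iv F7010) D3261 (iv F13991) F13994 F13590 F9728 (iv F9760) D4413 (iv F16807)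
theorem F22024 : act 5 n6463 = n6955 := d15_2 D6957 F22023 F22011
theorem F22025 : act 7 n6462 = n6957 := d17_0 F22023 (iv D6463) D6462
theorem F22026 : act 1 n6955 = n6460 := d10_1 F22024 F20227 F15130 (iv F15138) (iv F20235)
theorem F22027 : act 7 n6955 = n6459 := d26_2 D6463 F22024 F20224
theorem F22028 : act 2 n6460 = n6946 := d7_2 (iv F22011) F22026 F21973 F16837 (iv F16857)
theorem F22029 : act 6 n6460 = n6945 := d11_2 D6955 F22026 F21969
theorem F22030 : act 5 n6946 = n6458 := d15_2 (iv F20227) F22028 F20219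
theorem F22031 : act 7 n6946 = n6457 := d17_2 D6460 F22028 F20215
theorem F22032 : act 1 n6457 = n6948 := d12_1 F22031 (iv D6948) (iv F21973)
def n6958 : Q := act 7 n5390
theorem D6958 : act 7 n5390 = n6958 := rfl
theorem F22033 : act 0 n6958 = n6308 := d6_1 D6958 (iv D6308) (iv F16856)
theorem F22034 : act 1 n6958 = n5392 := d12_1 D6958 (iv D5392) (iv F16857)
theorem F22035 : act 2 n6958 = n6459 := d17_1 D6958 (iv F22027) F22011
theorem F22036 : act 4 n6958 = n6958 := d24_1 D6958 (iv D6958) F16859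
theorem F22037 : act 5 n6958 = n6462 := d26_1 D6958 F22025 (iv D6957)
def n6959 : Q := act 6 n5391
theorem D6959 : act 6 n5391 = n6959 := rfl
theorem F22038 : act 0 n6959 = n6315 := d5_1 D6959 (iv D6315) (iv F16860)
theorem F22039 : act 1 n6959 = n5393 := d11_1 D6959 (iv D5393) (iv F16861)
theorem F22040 : act 2 n6959 = n6905 := d16_1 D6959 F22017 F22014
theorem F22041 : act 4 n6959 = n6959 := d23_1 D6959 (iv D6959) F16862
theorem F22042 : act 5 n6959 = n6894 := d25_1 D6959 (iv D6894) F16608 F13664 (iv F16863)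
def n6960 : Q := act 3 n5392
theorem D6960 : act 3 n5392 = n6960 := rfl
theorem F22043 : act 0 n6960 = n5415 := d2_1 D6960 (iv D5415) (iv F16864)
theorem F22044 : act 5 n6960 = n6960 := d19_2 F16866 D6960 (iv D6960)
theorem F22045 : act 7 n6960 = n5399 := d21_2 D5392 D6960 (iv D5399) (iv D3989) (iv F12380)
def n6961 : Q := act 6 n5392
theorem D6961 : act 6 n5392 = n6961 := rfl
theorem F22046 : act 0 n6961 = n5416 := d5_1 D6961 (iv D5416) (iv F16864)
theorem F22047 : act 4 n6961 = n6961 := d23_1 D6961 (iv D6961) F16865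
theorem F22048 : act 7 n6961 = n5393 := d27_2 D5392 D6961 (iv D5393) (iv D3985) D3984
def n6962 : Q := act 5 n5393
theorem D6962 : act 5 n5393 = n6962 := rfl
theorem F22049 : act 0 n6962 = n5417 := d4_1 D6962 (iv D5417) (iv F16867)
theorem F22050 : act 1 n6962 = n6895 := d10_1 D6962 (iv D6895) (iv F21737) (iv F22042) F22039
theorem F22051 : act 4 n6962 = n6962 := d22_1 D6962 (iv D6962) F16868
theorem F22052 : act 6 n6962 = n5394 := d25_2 D5393 D6962 (iv D5394) (iv D3986) (iv F12385)
def n6963 : Q := act 1 n5394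
theorem D6963 : act 1 n5394 = n6963 := rfl
theorem F22053 : act 0 n6963 = n6963 := d0_1 D6963 (iv D6963) F16869 F12431 (iv F16869)
theorem F22054 : act 4 n6963 = n6963 := d9_2 F16870 D6963 (iv D6963)
theorem F22055 : act 5 n6963 = n5892 := d10_2 D5394 D6963 (iv D5892) (iv D4422) (iv F12387)
theorem F22056 : act 6 n6963 = n6895 := d11_2 F22052 D6963 (iv F22050)
theorem F22057 : act 7 n6963 = n6963 := d12_2 F16871 D6963 (iv D6963)
theorem F22058 : act 2 n6892 = n6963 := d16_3 F22056 F21742 (iv F21732)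
def n6964 : Q := act 4 n5395
theorem D6964 : act 4 n5395 = n6964 := rfl
theorem F22059 : act 1 n6964 = n6964 := d9_1 D6964 (iv D6964) F16872
theorem F22060 : act 3 n6964 = n5400 := d18_1 D6964 (iv D5400) (iv D3990) (iv F12391) D5395
theorem F22061 : act 5 n6964 = n5893 := d22_2 (iv F16873) D6964 (iv D5893)
def n6965 : Q := act 6 n5395
theorem D6965 : act 6 n5395 = n6965 := rfl
theorem F22062 : act 1 n6965 = n6965 := d11_1 D6965 (iv D6965) F16872
theorem F22063 : act 3 n6965 = n5396 := d20_1 D6965 (iv D5396) D5395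
def n6966 : Q := act 7 n5395
theorem D6966 : act 7 n5395 = n6966 := rfl
theorem F22064 : act 1 n6966 = n6966 := d12_1 D6966 (iv D6966) F16872
theorem F22065 : act 5 n6966 = n5895 := d26_1 D6966 (iv D5895) (iv F16873)
def n6967 : Q := act 5 n5396
theorem D6967 : act 5 n5396 = n6967 := rfl
theorem F22066 : act 2 n6967 = n5397 := d15_1 D6967 (iv D5397) (iv F16875)
theorem F22067 : act 4 n6967 = n5403 := d22_1 D6967 (iv D5403) (iv F16876)
theorem F22068 : act 6 n6967 = n5896 := d25_2 D5396 D6967 (iv D5896) (iv D4424) (iv F12392)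
def n6968 : Q := act 7 n5396
theorem D6968 : act 7 n5396 = n6968 := rfl
theorem F22069 : act 1 n6968 = n6968 := d12_1 D6968 (iv D6968) F16874
theorem F22070 : act 2 n6968 = n5398 := d17_1 D6968 (iv D5398) (iv F16875)
theorem F22071 : act 4 n6968 = n5404 := d24_1 D6968 (iv D5404) (iv F16876)
def n6969 : Q := act 7 n5397
theorem D6969 : act 7 n5397 = n6969 := rfl
theorem F22072 : act 1 n6969 = n6969 := d12_1 D6969 (iv D6969) F16877
theorem F22073 : act 4 n6969 = n5405 := d24_1 D6969 (iv D5405) (iv F16878)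
theorem F22074 : act 5 n6969 = n5398 := d26_1 D6969 (iv D5398) D5397
def n6970 : Q := act 3 n5398
theorem D6970 : act 3 n5398 = n6970 := rfl
theorem F22075 : act 1 n6970 = n5399 := d8_1 D6970 (iv D5399) (iv F16880)
def n6971 : Q := act 2 n5399
theorem D6971 : act 2 n5399 = n6971 := rfl
theorem F22076 : act 0 n6971 = n5418 := d1_1 D6971 (iv D5418) (iv F16882)
theorem F22077 : act 3 n6971 = n6971 := d13_2 D5399 D6971 (iv D6971) (iv D5399) F12396
theorem F22078 : act 5 n6971 = n6971 := d15_2 F16883 D6971 (iv D6971)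
theorem F22079 : act 4 n6960 = n6971 := d31_2 F16883 (iv F22045) (iv D6971) (iv F21257) (iv D6753) (iv F18943) (iv D6036) F14109 F11712 F11714 F8164 (iv D2581) F5494 D1865 (iv F8321) F8323 F8322 D3848 F13961 (iv F13960) F11212 D3685 (iv F11713) (iv D3797) D3798 (iv F16064) F16063 F16065 D5399
def n6972 : Q := act 4 n5399
theorem D6972 : act 4 n5399 = n6972 := rfl
theorem F22080 : act 0 n6972 = n5419 := d3_1 D6972 (iv D5419) (iv F16882)
theorem F22081 : act 2 n6972 = n6960 := d14_1 D6972 F22079 (iv D6971)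
theorem F22082 : act 3 n6972 = n5408 := d18_1 D6972 (iv D5408) (iv D3994) (iv F12397) D5399
theorem F22083 : act 5 n6972 = n6972 := d22_2 F16883 D6972 (iv D6972)
theorem F22084 : act 7 n6972 = n6971 := d24_2 F22045 D6972 (iv F22079)
def n6973 : Q := act 6 n5400
theorem D6973 : act 6 n5400 = n6973 := rfl
theorem F22085 : act 1 n6973 = n6973 := d11_1 D6973 (iv D6973) F16884
theorem F22086 : act 2 n6973 = n6973 := d16_1 D6973 (iv D6973) F16885
theorem F22087 : act 4 n6973 = n5401 := d23_1 D6973 (iv D5401) D5400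
theorem F22088 : act 7 n6973 = n5789 := d27_2 (iv F20301) D6973 (iv D5789) (iv F16617) (iv F20299)
def n6974 : Q := act 5 n5401
theorem D6974 : act 5 n5401 = n6974 := rfl
theorem F22089 : act 2 n6974 = n6974 := d15_1 D6974 (iv D6974) F16888
theorem F22090 : act 3 n6974 = n5403 := d19_1 D6974 (iv D5403) (iv F16889)
theorem F22091 : act 6 n6974 = n5904 := d25_2 D5401 D6974 (iv D5904) (iv D4429) (iv F12401)
def n6975 : Q := act 7 n5401
theorem D6975 : act 7 n5401 = n6975 := rfl
theorem F22092 : act 1 n6975 = n6975 := d12_1 D6975 (iv D6975) F16887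
theorem F22093 : act 2 n6975 = n6975 := d17_1 D6975 (iv D6975) F16888
theorem F22094 : act 4 n6975 = n5789 := d24_1 D6975 (iv F22088) F22087
theorem F22095 : act 6 n6975 = n5788 := d27_1 D6975 F18138 F17930 (iv D5402) D5401
def n6976 : Q := act 1 n5403
theorem D6976 : act 1 n5403 = n6976 := rfl
theorem F22096 : act 2 n6976 = n6976 := d7_2 (iv F16895) D6976 (iv D6976) F16895 F12404
theorem F22097 : act 5 n6976 = n6976 := d10_2 D5403 D6976 (iv D6976) (iv D5403) F12402
theorem F22098 : act 6 n6976 = n5907 := d11_2 (iv F16896) D6976 (iv D5907)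
def n6977 : Q := act 7 n5403
theorem D6977 : act 7 n5403 = n6977 := rfl
theorem F22099 : act 2 n6977 = n5405 := d17_1 D6977 (iv D5405) (iv F16895)
theorem F22100 : act 5 n6977 = n5404 := d26_1 D6977 (iv D5404) D5403
def n6978 : Q := act 3 n5404
theorem D6978 : act 3 n5404 = n6978 := rfl
theorem F22101 : act 1 n6978 = n6978 := d8_1 D6978 (iv D6978) F16897
def n6979 : Q := act 3 n5405
theorem D6979 : act 3 n5405 = n6979 := rfl
theorem F22102 : act 1 n6979 = n6979 := d8_1 D6979 (iv D6979) F16899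
theorem F22103 : act 5 n6979 = n5406 := d19_2 (iv F16900) D6979 (iv D5406)
theorem F22104 : act 7 n6979 = n6979 := d21_2 D5405 D6979 (iv D6979) (iv D5405) F12405
def n6980 : Q := act 6 n5405
theorem D6980 : act 6 n5405 = n6980 := rfl
theorem F22105 : act 1 n6980 = n6980 := d11_1 D6980 (iv D6980) F16899
theorem F22106 : act 7 n6980 = n5911 := d27_2 D5405 D6980 (iv D5911) (iv D4433) (iv F12406)
def n6981 : Q := act 2 n5406
theorem D6981 : act 2 n5406 = n6981 := rfl
theorem F22107 : act 7 n6981 = n6981 := d17_2 F16902 D6981 (iv D6981)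
def n6982 : Q := act 4 n5406
theorem D6982 : act 4 n5406 = n6982 := rfl
theorem F22108 : act 1 n6982 = n5408 := d9_1 D6982 (iv D5408) (iv F16901)
theorem F22109 : act 7 n6982 = n6982 := d24_2 F16902 D6982 (iv D6982)
def n6983 : Q := act 1 n5407
theorem D6983 : act 1 n5407 = n6983 := rfl
theorem F22110 : act 0 n6983 = n6983 := d0_1 D6983 (iv D6983) F16903 F12435 (iv F16903)
theorem F22111 : act 3 n6983 = n6983 := d8_2 F16904 D6983 (iv D6983)
theorem F22112 : act 7 n6983 = n6983 := d12_2 F16906 D6983 (iv D6983)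
def n6984 : Q := act 4 n5407
theorem D6984 : act 4 n5407 = n6984 := rfl
theorem F22113 : act 0 n6984 = n5420 := d3_1 D6984 (iv D5420) (iv F16903)
theorem F22114 : act 2 n6984 = n5408 := d14_1 D6984 (iv D5408) D5407
theorem F22115 : act 5 n6984 = n6984 := d22_2 F16905 D6984 (iv D6984)
theorem F22116 : act 7 n6984 = n6984 := d24_2 F16906 D6984 (iv D6984)
theorem F22117 : act 3 n6948 = n6984 := d13_0 F22114 (iv F22082) F22081 (iv D6960) (iv F21981)
def n6985 : Q := act 6 n5409
theorem D6985 : act 6 n5409 = n6985 := rfl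
theorem F22118 : act 1 n6985 = n6985 := d11_1 D6985 (iv D6985) F16910
theorem F22119 : act 2 n6985 = n5416 := d16_1 D6985 (iv D5416) (iv F16911)
theorem F22120 : act 3 n6985 = n6767 := d20_1 D6985 F21303 (iv F16954)
theorem F22121 : act 4 n6985 = n6985 := d23_1 D6985 (iv D6985) F16912
theorem F22122 : act 7 n6985 = n5411 := d27_2 D5409 D6985 (iv D5411) (iv D3996) D3995
def n6986 : Q := act 5 n5411
theorem D6986 : act 5 n5411 = n6986 := rfl
theorem F22123 : act 2 n6986 = n5417 := d15_1 D6986 (iv D5417) (iv F16920)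
theorem F22124 : act 4 n6986 = n6986 := d22_1 D6986 (iv D6986) F16921
theorem F22125 : act 6 n6986 = n5414 := d25_2 D5411 D6986 (iv D5414) (iv D3998) (iv F12419)
def n6987 : Q := act 6 n5412
theorem D6987 : act 6 n5412 = n6987 := rfl
theorem F22126 : act 1 n6987 = n5421 := d11_1 D6987 (iv D5421) (iv F16922)
theorem F22127 : act 2 n6987 = n6301 := d16_1 D6987 F19721 (iv F16923)
theorem F22128 : act 3 n6987 = n6987 := d20_1 D6987 (iv D6987) F16924
theorem F22129 : act 4 n6987 = n5413 := d23_1 D6987 (iv D5413) D5412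
theorem F22130 : act 7 n6321 = n6987 := d30_29 (iv D6987) F16925 F15286 (iv D4940) (iv D3586) (iv D2514) F5361 F5080 (iv D1627) F3526 F2457 D757 F2463 F2462 F1699 F933 D294 F940 D517 (iv F2024) (iv F2904) D1313 F4188 D1932 D2824 D4007 D5424 F16971 F19793
def n6988 : Q := act 1 n5414
theorem D6988 : act 1 n5414 = n6988 := rfl
theorem F22131 : act 2 n6988 = n6988 := d7_2 (iv F16931) D6988 (iv D6988) F16931 F12431
theorem F22132 : act 4 n6988 = n6988 := d9_2 F16932 D6988 (iv D6988)
theorem F22133 : act 5 n6988 = n5424 := d10_2 D5414 D6988 (iv D5424) (iv D4007) (iv F12422)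
theorem F22134 : act 7 n6988 = n6988 := d12_2 F16933 D6988 (iv D6988)
def n6989 : Q := act 6 n5415
theorem D6989 : act 6 n5415 = n6989 := rfl
theorem F22135 : act 1 n6989 = n6320 := d11_1 D6989 (iv D6320) (iv F16934)
theorem F22136 : act 2 n6989 = n6766 := d16_1 D6989 F21299 F16946
theorem F22137 : act 3 n6989 = n5416 := d20_1 D6989 (iv D5416) D5415
theorem F22138 : act 4 n6989 = n6765 := d23_1 D6989 F21295 (iv F16945)
def n6990 : Q := act 5 n5416
theorem D6990 : act 5 n5416 = n6990 := rfl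
theorem F22139 : act 1 n6990 = n6990 := d10_1 D6990 (iv D6990) F16937 F14796 (iv F16937)
theorem F22140 : act 4 n6990 = n6990 := d22_1 D6990 (iv D6990) F16938
theorem F22141 : act 6 n6990 = n6990 := d25_2 D5416 D6990 (iv D6990) (iv D5416) F12428
theorem F22142 : act 7 n6990 = n5417 := d26_2 (iv F16939) D6990 (iv D5417)
def n6991 : Q := act 0 n5424
theorem D6991 : act 0 n5424 = n6991 := rfl
theorem F22143 : act 1 n6991 = n6991 := d0_2 D5424 D6991 (iv D6991) (iv D5424) F12449
theorem F22144 : act 2 n6991 = n6991 := d1_2 F16971 D6991 (iv D6991)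
theorem F22145 : act 4 n6991 = n6991 := d3_2 F16972 D6991 (iv D6991)
theorem F22146 : act 6 n6991 = n6991 := d5_2 F16973 D6991 (iv D6991)
theorem F22147 : act 7 n6991 = n6991 := d6_2 F16974 D6991 (iv D6991)
def n6992 : Q := act 6 n5425
theorem D6992 : act 6 n5425 = n6992 := rfl
theorem F22148 : act 0 n6992 = n5593 := d5_1 D6992 (iv D5593) (iv F16975)
theorem F22149 : act 1 n6992 = n6030 := d11_1 D6992 (iv D6030) F16980
theorem F22150 : act 2 n6992 = n5431 := d16_1 D6992 (iv D5431) (iv F16976)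
theorem F22151 : act 3 n6992 = n5906 := d20_1 D6992 (iv D5906) (iv F16977)
theorem F22152 : act 4 n6992 = n5427 := d23_1 D6992 (iv D5427) (iv F16978)
def n6993 : Q := act 0 n5426
theorem D6993 : act 0 n5426 = n6993 := rfl
theorem F22153 : act 1 n6993 = n5596 := d0_2 D5426 D6993 (iv D5596) (iv D4148) (iv F12457)
theorem F22154 : act 2 n6993 = n6993 := d1_2 F16981 D6993 (iv D6993)
theorem F22155 : act 4 n6993 = n6019 := d3_2 (iv F16982) D6993 F18887
theorem F22156 : act 5 n6993 = n6993 := d4_2 F16983 D6993 (iv D6993)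
theorem F22157 : act 7 n6993 = n6017 := d6_2 F16984 D6993 F18880
def n6994 : Q := act 6 n5426
theorem D6994 : act 6 n5426 = n6994 := rfl
theorem F22158 : act 1 n6994 = n5427 := d11_1 D6994 (iv D5427) D5426
theorem F22159 : act 2 n6994 = n6994 := d16_1 D6994 (iv D6994) F16981
theorem F22160 : act 4 n6994 = n6030 := d23_1 D6994 (iv D6030) (iv F16982)
def n6995 : Q := act 7 n5427
theorem D6995 : act 7 n5427 = n6995 := rfl
theorem F22161 : act 0 n6995 = n5599 := d6_1 D6995 (iv D5599) (iv F16985)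
theorem F22162 : act 2 n6995 = n5434 := d17_1 D6995 (iv D5434) (iv F16986)
def n6996 : Q := act 3 n5428
theorem D6996 : act 3 n5428 = n6996 := rfl
theorem F22163 : act 0 n6996 = n5600 := d2_1 D6996 (iv D5600) (iv F16987)
theorem F22164 : act 1 n6996 = n6021 := d8_1 D6996 F18898 (iv F16988)
theorem F22165 : act 4 n6996 = n5702 := d18_2 (iv F16990) D6996 (iv D5702) F13118 D4241
theorem F22166 : act 5 n6996 = n5429 := d19_2 (iv F16991) D6996 (iv D5429)
def n6997 : Q := act 6 n5428
theorem D6997 : act 6 n5428 = n6997 := rfl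
theorem F22167 : act 0 n6997 = n5601 := d5_1 D6997 (iv D5601) (iv F16987)
theorem F22168 : act 1 n6997 = n6027 := d11_1 D6997 (iv D6027) (iv F16988)
theorem F22169 : act 2 n6997 = n5436 := d16_1 D6997 (iv D5436) (iv F16989)
theorem F22170 : act 4 n6997 = n5707 := d23_1 D6997 (iv D5707) (iv F16990)
def n6998 : Q := act 2 n5429
theorem D6998 : act 2 n5429 = n6998 := rfl
theorem F22171 : act 0 n6998 = n5602 := d1_1 D6998 (iv D5602) (iv F16992)
theorem F22172 : act 3 n6998 = n5437 := d13_2 D5429 D6998 (iv D5437) (iv D4015) (iv F12461)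
def n6999 : Q := act 6 n5429
theorem D6999 : act 6 n5429 = n6999 := rfl
theorem F22173 : act 0 n6999 = n5604 := d5_1 D6999 (iv D5604) (iv F16992)
theorem F22174 : act 1 n6999 = n6999 := d11_1 D6999 (iv D6999) F16993
theorem F22175 : act 3 n6999 = n5430 := d20_1 D6999 (iv D5430) D5429
def n7000 : Q := act 5 n5430
theorem D7000 : act 5 n5430 = n7000 := rfl
theorem F22176 : act 0 n7000 = n5605 := d4_1 D7000 (iv D5605) (iv F16994)
theorem F22177 : act 2 n7000 = n5439 := d15_1 D7000 (iv D5439) (iv F16996)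
def n7001 : Q := act 7 n5431
theorem D7001 : act 7 n5431 = n7001 := rfl
theorem F22178 : act 0 n7001 = n5606 := d6_1 D7001 (iv D5606) (iv F16997)
theorem F22179 : act 1 n7001 = n7001 := d12_1 D7001 (iv D7001) F16998
theorem F22180 : act 4 n7001 = n5434 := d24_1 D7001 (iv D5434) (iv F17000)
def n7002 : Q := act 6 n5432
theorem D7002 : act 6 n5432 = n7002 := rfl
theorem F22181 : act 0 n7002 = n5607 := d5_1 D7002 (iv D5607) (iv F17001)
theorem F22182 : act 1 n7002 = n7002 := d11_1 D7002 (iv D7002) F17002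
theorem F22183 : act 2 n7002 = n5707 := d16_1 D7002 (iv D5707) (iv F17003)
theorem F22184 : act 3 n7002 = n5484 := d20_1 D7002 (iv D5484) F17006
theorem F22185 : act 4 n7002 = n5436 := d23_1 D7002 (iv D5436) (iv F17004)
def n7003 : Q := act 5 n5433
theorem D7003 : act 5 n5433 = n7003 := rfl
theorem F22186 : act 0 n7003 = n5609 := d4_1 D7003 (iv D5609) (iv F17007)
theorem F22187 : act 4 n7003 = n5439 := d22_1 D7003 (iv D5439) (iv F17009)
def n7004 : Q := act 6 n5434
theorem D7004 : act 6 n5434 = n7004 := rfl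
theorem F22188 : act 0 n7004 = n5611 := d5_1 D7004 (iv D5611) (iv F17010)
theorem F22189 : act 1 n7004 = n7004 := d11_1 D7004 (iv D7004) F17011
theorem F22190 : act 3 n7004 = n6614 := d20_1 D7004 (iv D6614) (iv F17012)
theorem F22191 : act 7 n7004 = n5436 := d27_2 D5434 D7004 (iv D5436) (iv D4014) D4013
def n7005 : Q := act 2 n5435
theorem D7005 : act 2 n5435 = n7005 := rfl
theorem F22192 : act 0 n7005 = n5612 := d1_1 D7005 (iv D5612) (iv F17013)
theorem F22193 : act 5 n7005 = n5437 := d15_2 (iv F17015) D7005 (iv D5437)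
theorem F22194 : act 7 n7005 = n5440 := d17_2 (iv F17016) D7005 (iv D5440)
def n7006 : Q := act 6 n5435
theorem D7006 : act 6 n5435 = n7006 := rfl
theorem F22195 : act 0 n7006 = n5614 := d5_1 D7006 (iv D5614) (iv F17013)
theorem F22196 : act 1 n7006 = n7006 := d11_1 D7006 (iv D7006) F17014
theorem F22197 : act 3 n7006 = n5436 := d20_1 D7006 (iv D5436) D5435
theorem F22198 : act 7 n7006 = n6617 := d27_2 (iv F17016) D7006 (iv D6617) F15657 (iv F12483)
def n7007 : Q := act 5 n5436
theorem D7007 : act 5 n5436 = n7007 := rfl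
theorem F22199 : act 0 n7007 = n5615 := d4_1 D7007 (iv D5615) (iv F17017)
theorem F22200 : act 6 n7007 = n5439 := d25_2 D5436 D7007 (iv D5439) (iv D4016) (iv F12474)
def n7008 : Q := act 6 n5437
theorem D7008 : act 6 n5437 = n7008 := rfl
theorem F22201 : act 0 n7008 = n5618 := d5_1 D7008 (iv D5618) (iv F17019)
theorem F22202 : act 2 n7008 = n5438 := d16_1 D7008 (iv D5438) D5437
def n7009 : Q := act 5 n5438
theorem D7009 : act 5 n5438 = n7009 := rfl
theorem F22203 : act 0 n7009 = n5620 := d4_1 D7009 (iv D5620) (iv F17021)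
theorem F22204 : act 3 n7009 = n5439 := d19_1 D7009 (iv D5439) (iv F17023)
def n7010 : Q := act 7 n5438
theorem D7010 : act 7 n5438 = n7010 := rfl
theorem F22205 : act 0 n7010 = n5621 := d6_1 D7010 (iv D5621) (iv F17021)
theorem F22206 : act 1 n7010 = n5448 := d12_1 D7010 (iv D5448) (iv F17022)
theorem F22207 : act 6 n7010 = n5446 := d27_1 D7010 (iv D5446) (iv D4020) (iv F12477) D5438
def n7011 : Q := act 1 n5439
theorem D7011 : act 1 n5439 = n7011 := rfl
theorem F22208 : act 5 n7011 = n5449 := d10_2 D5439 D7011 (iv D5449) (iv D4023) (iv F12479)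
def n7012 : Q := act 1 n5440
theorem D7012 : act 1 n5440 = n7012 := rfl
theorem F22209 : act 0 n7012 = n6255 := d0_1 D7012 F19563 F17624 (iv D5625) (iv F17025)
theorem F22210 : act 2 n7012 = n7012 := d7_2 D5440 D7012 (iv D7012) (iv D5440) F12481
theorem F22211 : act 3 n7012 = n6268 := d8_2 F17633 D7012 (iv F19611)
theorem F22212 : act 6 n7012 = n6626 := d11_2 (iv F17027) D7012 (iv D6626)
theorem F22213 : act 4 n6532 = n7012 := d23_3 F22212 F20805 (iv F20491)
theorem F22214 : act 5 n7012 = n6253 := d31_0 (iv F20492) F22213 F22210 F22212 F20802 (iv F17626) (iv F15554) F15553 (iv D4988) D4990 F15473 D4991 F15478 (iv F15688) F15687 F12177 F12175 (iv D3930) F8514 (iv F8353) (iv F11244) (iv D3643) D3642 F11241 (iv F11142) (iv F13862) (iv F17623) F19612 (iv F22211)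
def n7013 : Q := act 4 n5440
theorem D7013 : act 4 n5440 = n7013 := rfl
theorem F22215 : act 0 n7013 = n5626 := d3_1 D7013 (iv D5626) (iv F17025)
theorem F22216 : act 1 n7013 = n6532 := d9_1 D7013 F22213 (iv D7012)
theorem F22217 : act 2 n7013 = n5441 := d14_1 D7013 (iv D5441) D5440
theorem F22218 : act 5 n7013 = n5443 := d22_2 (iv F17026) D7013 (iv D5443)
theorem F22219 : act 6 n7013 = n6627 := d23_2 (iv F17027) D7013 (iv D6627)
theorem F22220 : act 3 n6527 = n7013 := d20_3 F22219 F20808 (iv F20477)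
def n7014 : Q := act 5 n5442
theorem D7014 : act 5 n5442 = n7014 := rfl
theorem F22221 : act 0 n7014 = n6062 := d4_1 D7014 (iv F19035) F17604
theorem F22222 : act 1 n7014 = n6253 := d10_1 D7014 (iv F22214) (iv D7012) F17026 D5442
theorem F22223 : act 2 n7014 = n5450 := d15_1 D7014 (iv D5450) (iv F17033)
theorem F22224 : act 3 n7014 = n6082 := d19_1 D7014 (iv F20347) F20346
theorem F22225 : act 4 n7014 = n7005 := d22_1 D7014 F22193 F17034
theorem F22226 : act 7 n7014 = n7013 := d26_2 F17038 D7014 F22218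
def n7015 : Q := act 6 n5442
theorem D7015 : act 6 n5442 = n7015 := rfl
theorem F22227 : act 1 n7015 = n5444 := d11_1 D7015 (iv D5444) D5442
theorem F22228 : act 2 n7015 = n5451 := d16_1 D7015 (iv D5451) (iv F17033)
theorem F22229 : act 4 n7015 = n7008 := d23_1 D7015 (iv D7008) F17034
def n7016 : Q := act 3 n5443
theorem D7016 : act 3 n5443 = n7016 := rfl
theorem F22230 : act 0 n7016 = n5634 := d2_1 D7016 (iv D5634) (iv F17035)
theorem F22231 : act 1 n7016 = n6998 := d8_1 D7016 F22172 (iv F17036)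
theorem F22232 : act 2 n7016 = n7016 := d13_1 D7016 (iv D7016) F17037 F12487 (iv F17037)
theorem F22233 : act 5 n7016 = n6527 := d19_2 F22218 D7016 F22220
theorem F22234 : act 7 n7016 = n6779 := d21_2 (iv F17038) D7016 F21345 (iv F20348) F20346
def n7017 : Q := act 6 n5443
theorem D7017 : act 6 n5443 = n7017 := rfl
theorem F22235 : act 0 n7017 = n5635 := d5_1 D7017 (iv D5635) (iv F17035)
theorem F22236 : act 1 n7017 = n7008 := d11_1 D7017 (iv D7008) (iv F17036)
theorem F22237 : act 2 n7017 = n5445 := d16_1 D7017 (iv D5445) (iv F17037)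
theorem F22238 : act 4 n7017 = n5444 := d23_1 D7017 (iv D5444) D5443
theorem F22239 : act 5 n7017 = n6633 := d25_1 D7017 (iv D6633) (iv F20809) (iv F22219) F22218
def n7018 : Q := act 7 n5444
theorem D7018 : act 7 n5444 = n7018 := rfl
theorem F22240 : act 0 n7018 = n5637 := d6_1 D7018 (iv D5637) (iv F17039)
theorem F22241 : act 2 n7018 = n5446 := d17_1 D7018 (iv D5446) (iv F17040)
theorem F22242 : act 5 n7018 = n6634 := d26_1 D7018 (iv D6634) (iv F17041)
def n7019 : Q := act 7 n5445
theorem D7019 : act 7 n5445 = n7019 := rfl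
theorem F22243 : act 0 n7019 = n5639 := d6_1 D7019 (iv D5639) (iv F17042)
theorem F22244 : act 1 n7019 = n5454 := d12_1 D7019 (iv D5454) (iv F17043)
theorem F22245 : act 4 n7019 = n5446 := d24_1 D7019 (iv D5446) (iv F17045)
theorem F22246 : act 5 n7019 = n6635 := d26_1 D7019 (iv D6635) (iv F17046)
def n7020 : Q := act 1 n5447
theorem D7020 : act 1 n5447 = n7020 := rfl
theorem F22247 : act 4 n7020 = n5449 := d9_2 (iv F17052) D7020 (iv D5449)
theorem F22248 : act 6 n7020 = n7020 := d11_2 F17053 D7020 (iv D7020)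
def n7021 : Q := act 2 n5449
theorem D7021 : act 2 n5449 = n7021 := rfl
theorem F22249 : act 1 n7021 = n7021 := d7_1 D7021 (iv D7021) (iv D5449) F12498 D5449
theorem F22250 : act 6 n7021 = n7021 := d16_2 F17057 D7021 (iv D7021)
def n7022 : Q := act 6 n5450
theorem D7022 : act 6 n5450 = n7022 := rfl
theorem F22251 : act 1 n7022 = n7022 := d11_1 D7022 (iv D7022) F17058
theorem F22252 : act 3 n7022 = n5458 := d20_1 D7022 (iv D5458) (iv F17059)
theorem F22253 : act 4 n7022 = n7006 := d23_1 D7022 (iv D7006) (iv F17060)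
def n7023 : Q := act 5 n5451
theorem D7023 : act 5 n5451 = n7023 := rfl
theorem F22254 : act 3 n7023 = n5459 := d19_1 D7023 (iv D5459) (iv F17063)
theorem F22255 : act 4 n7023 = n7009 := d22_1 D7023 (iv D7009) (iv F17064)
def n7024 : Q := act 7 n5451
theorem D7024 : act 7 n5451 = n7024 := rfl
theorem F22256 : act 1 n7024 = n5453 := d12_1 D7024 (iv D5453) (iv F17062)
theorem F22257 : act 4 n7024 = n7010 := d24_1 D7024 (iv D7010) (iv F17064)
theorem F22258 : act 6 n7024 = n7019 := d27_1 D7024 (iv D7019) (iv D5445) (iv F12502) D5451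
def n7025 : Q := act 1 n5452
theorem D7025 : act 1 n5452 = n7025 := rfl
theorem F22259 : act 0 n7025 = n5697 := d0_1 D7025 F17849 F13098 (iv F12559) (iv F17065)
theorem F22260 : act 2 n7025 = n6657 := d7_2 (iv F17066) D7025 (iv D6657) F15725 (iv F12513)
theorem F22261 : act 3 n7025 = n5462 := d8_2 (iv F17067) D7025 (iv D5462)
theorem F22262 : act 4 n7025 = n6331 := d9_2 (iv F17068) D7025 (iv D6331)
theorem F22263 : act 6 n7025 = n7025 := d11_2 F17069 D7025 (iv D7025)
theorem F22264 : act 7 n7025 = n5693 := d12_2 F17070 D7025 (iv D5693)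
def n7026 : Q := act 3 n5453
theorem D7026 : act 3 n5453 = n7026 := rfl
theorem F22265 : act 0 n7026 = n5468 := d2_1 D7026 (iv D5468) (iv F17071)
theorem F22266 : act 5 n7026 = n5694 := d19_2 (iv F17074) D7026 (iv D5694)
theorem F22267 : act 7 n7026 = n5464 := d21_2 D5453 D7026 (iv D5464) (iv D4035) (iv F12505)
theorem F22268 : act 4 n6160 = n7026 := d3_0 F22265 (iv F17116) D6160
def n7027 : Q := act 3 n5454
theorem D7027 : act 3 n5454 = n7027 := rfl
theorem F22269 : act 0 n7027 = n5469 := d2_1 D7027 (iv D5469) (iv F17075)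
theorem F22270 : act 5 n7027 = n5692 := d19_2 (iv F17078) D7027 F17838
theorem F22271 : act 6 n7027 = n7026 := d20_2 (iv F17079) D7027 (iv D7026)
theorem F22272 : act 7 n7027 = n7027 := d21_2 D5454 D7027 (iv D7027) (iv D5454) F12509
theorem F22273 : act 2 n6244 = n7027 := d1_0 F22269 F17121 D6244
def n7028 : Q := act 6 n5455
theorem D7028 : act 6 n5455 = n7028 := rfl
theorem F22274 : act 0 n7028 = n5458 := d5_1 D7028 (iv D5458) (iv F17080)
theorem F22275 : act 1 n7028 = n5947 := d11_1 D7028 (iv D5947) (iv F17081)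
theorem F22276 : act 2 n7028 = n5976 := d16_1 D7028 (iv D5976) (iv F17082)
def n7029 : Q := act 5 n5456
theorem D7029 : act 5 n5456 = n7029 := rfl
theorem F22277 : act 0 n7029 = n5459 := d4_1 D7029 (iv D5459) (iv F17084)
def n7030 : Q := act 7 n5456
theorem D7030 : act 7 n5456 = n7030 := rfl
theorem F22278 : act 0 n7030 = n5460 := d6_1 D7030 (iv D5460) (iv F17084)
theorem F22279 : act 1 n7030 = n5471 := d12_1 D7030 (iv D5471) (iv F17085)
theorem F22280 : act 6 n7030 = n7030 := d27_1 D7030 (iv D7030) (iv D5456) F12521 D5456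
theorem F22281 : act 3 n5531 = n7030 := d8_0 F22279 (iv F17129) D5531
def n7031 : Q := act 5 n5457
theorem D7031 : act 5 n5457 = n7031 := rfl
theorem F22282 : act 2 n7031 = n6523 := d15_1 D7031 (iv D6523) (iv F17087)
theorem F22283 : act 3 n7031 = n7003 := d19_1 D7031 (iv D7003) (iv F17088)
theorem F22284 : act 4 n7031 = n5459 := d22_1 D7031 (iv D5459) (iv F17089)
def n7032 : Q := act 5 n5458
theorem D7032 : act 5 n5458 = n7032 := rfl
theorem F22285 : act 6 n7032 = n5459 := d25_2 D5458 D7032 (iv D5459) (iv D4032) D4031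
def n7033 : Q := act 7 n5458
theorem D7033 : act 7 n5458 = n7033 := rfl
theorem F22286 : act 1 n7033 = n7033 := d12_1 D7033 (iv D7033) F17090
theorem F22287 : act 6 n7033 = n7033 := d27_1 D7033 (iv D7033) (iv D5458) F12527 D5458
def n7034 : Q := act 1 n5459
theorem D7034 : act 1 n5459 = n7034 := rfl
theorem F22288 : act 5 n7034 = n5462 := d10_2 D5459 D7034 (iv D5462) (iv D4034) (iv F12528)
def n7035 : Q := act 7 n5459
theorem D7035 : act 7 n5459 = n7035 := rfl
theorem F22289 : act 5 n7035 = n5460 := d26_1 D7035 (iv D5460) D5459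
def n7036 : Q := act 3 n5460
theorem D7036 : act 3 n5460 = n7036 := rfl
theorem F22290 : act 0 n7036 = n5531 := d2_1 D7036 F22281 F22278
theorem F22291 : act 1 n7036 = n5464 := d8_1 D7036 (iv D5464) (iv F17091)
theorem F22292 : act 6 n7036 = n7036 := d20_2 F17092 D7036 (iv D7036)
def n7037 : Q := act 1 n5461
theorem D7037 : act 1 n5461 = n7037 := rfl
theorem F22293 : act 3 n7037 = n7020 := d8_2 (iv F17095) D7037 (iv D7020)
theorem F22294 : act 4 n7037 = n5462 := d9_2 (iv F17096) D7037 (iv D5462)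
theorem F22295 : act 6 n7037 = n7037 := d11_2 F17097 D7037 (iv D7037)
def n7038 : Q := act 0 n5462
theorem D7038 : act 0 n5462 = n7038 := rfl
theorem F22296 : act 1 n7038 = n5473 := d0_2 D5462 D7038 (iv D5473) (iv D4048) (iv F12533)
theorem F22297 : act 3 n7038 = n5697 := d2_2 F22261 D7038 (iv F22259)
theorem F22298 : act 6 n7038 = n7038 := d5_2 F17098 D7038 (iv D7038)
def n7039 : Q := act 2 n5462
theorem D7039 : act 2 n5462 = n7039 := rfl
theorem F22299 : act 1 n7039 = n5466 := d7_1 D7039 (iv D5466) (iv D4037) (iv F12534) D5462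
theorem F22300 : act 3 n7039 = n6680 := d13_2 F22261 D7039 (iv D6680) (iv F20901) (iv F22260)
theorem F22301 : act 6 n7039 = n7039 := d16_2 F17098 D7039 (iv D7039)
def n7040 : Q := act 7 n5462
theorem D7040 : act 7 n5462 = n7040 := rfl
theorem F22302 : act 1 n7040 = n5463 := d12_1 D7040 (iv D5463) D5462
theorem F22303 : act 6 n6219 = n7040 := d11_0 F22302 (iv F17102) D6219
def n7041 : Q := act 3 n5463
theorem D7041 : act 3 n5463 = n7041 := rfl
theorem F22304 : act 0 n7041 = n5475 := d2_1 D7041 (iv D5475) (iv F17099)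
theorem F22305 : act 2 n7041 = n5706 := d13_1 D7041 (iv D5706) F13123 (iv F12546) (iv F17100)
theorem F22306 : act 5 n7041 = n5464 := d19_2 (iv F17101) D7041 (iv D5464)
theorem F22307 : act 6 n7041 = n5900 := d20_2 F17102 D7041 F18478
theorem F22308 : act 7 n7041 = n5694 := d21_2 D5463 D7041 (iv D5694) F17070 F17067
def n7042 : Q := act 4 n5464
theorem D7042 : act 4 n5464 = n7042 := rfl
theorem F22309 : act 0 n7042 = n5476 := d3_1 D7042 (iv D5476) (iv F17103)
theorem F22310 : act 6 n7042 = n7042 := d23_2 F17104 D7042 (iv D7042)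
theorem F22311 : act 7 n7042 = n6160 := d24_2 F22267 D7042 F22268
def n7043 : Q := act 2 n5465
theorem D7043 : act 2 n5465 = n7043 := rfl
theorem F22312 : act 4 n7043 = n5466 := d14_2 (iv F17106) D7043 (iv D5466)
theorem F22313 : act 6 n7043 = n7043 := d16_2 F17107 D7043 (iv D7043)
def n7044 : Q := act 7 n5466
theorem D7044 : act 7 n5466 = n7044 := rfl
theorem F22314 : act 2 n7044 = n5467 := d17_1 D7044 (iv D5467) D5466
theorem F22315 : act 6 n6217 = n7044 := d16_0 F22314 (iv F17112) D6217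
def n7045 : Q := act 1 n5470
theorem D7045 : act 1 n5470 = n7045 := rfl
theorem F22316 : act 7 n7045 = n5517 := d12_2 F17124 D7045 F17275
def n7046 : Q := act 0 n5472
theorem D7046 : act 0 n5472 = n7046 := rfl
theorem F22317 : act 2 n7046 = n7042 := d1_2 F17147 D7046 F22309
theorem F22318 : act 3 n7046 = n6334 := d2_2 (iv F17130) D7046 F19839
theorem F22319 : act 4 n7046 = n5473 := d3_2 (iv F17131) D7046 (iv D5473)
theorem F22320 : act 6 n7046 = n7046 := d5_2 F17132 D7046 (iv D7046)
def n7047 : Q := act 7 n5473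
theorem D7047 : act 7 n5473 = n7047 := rfl
theorem F22321 : act 0 n7047 = n5474 := d6_1 D7047 (iv D5474) D5473
theorem F22322 : act 2 n7047 = n7026 := d17_1 D7047 F22267 (iv F17133)
theorem F22323 : act 3 n7047 = n5551 := d21_1 D7047 F17384 (iv D4231) D4232 (iv F17134)
theorem F22324 : act 5 n7047 = n5541 := d26_1 D7047 (iv F17877) F17875
theorem F22325 : act 6 n6244 = n7047 := d16_0 F22322 (iv F22271) (iv F22273)
def n7048 : Q := act 4 n5475
theorem D7048 : act 4 n5475 = n7048 := rfl
theorem F22326 : act 1 n7048 = n5556 := d9_1 D7048 F17401 (iv F17141)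
theorem F22327 : act 2 n7048 = n5684 := d14_1 D7048 F17815 (iv F17142)
theorem F22328 : act 5 n7048 = n5476 := d22_2 (iv F17143) D7048 (iv D5476)
theorem F22329 : act 6 n7048 = n5917 := d23_2 (iv F17144) D7048 (iv D5917)
theorem F22330 : act 7 n7048 = n5573 := d24_2 (iv F17145) D7048 F17473
def n7049 : Q := act 1 n5477
theorem D7049 : act 1 n5477 = n7049 := rfl
theorem F22331 : act 4 n7049 = n5481 := d9_2 (iv F17151) D7049 (iv D5481)
theorem F22332 : act 7 n7049 = n5508 := d12_2 (iv F17152) D7049 F17241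
def n7050 : Q := act 6 n5478
theorem D7050 : act 6 n5478 = n7050 := rfl
theorem F22333 : act 0 n7050 = n5484 := d5_1 D7050 (iv D5484) (iv F17153)
theorem F22334 : act 1 n7050 = n5945 := d11_1 D7050 (iv D5945) (iv F17154)
theorem F22335 : act 2 n7050 = n5479 := d16_1 D7050 (iv D5479) D5478
theorem F22336 : act 3 n7050 = n5607 := d20_1 D7050 (iv D5607) F17158
theorem F22337 : act 4 n7050 = n7028 := d23_1 D7050 (iv D7028) (iv F17155)
def n7051 : Q := act 5 n5479
theorem D7051 : act 5 n5479 = n7051 := rfl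
theorem F22338 : act 0 n7051 = n5485 := d4_1 D7051 (iv D5485) (iv F17159)
theorem F22339 : act 3 n7051 = n5691 := d19_1 D7051 (iv D5691) (iv F17161)
def n7052 : Q := act 1 n5480
theorem D7052 : act 1 n5480 = n7052 := rfl
theorem F22340 : act 3 n7052 = n5621 := d8_2 (iv F17163) D7052 F17613
theorem F22341 : act 6 n7052 = n5481 := d11_2 (iv F17164) D7052 (iv D5481)
theorem F22342 : act 7 n7052 = n5504 := d12_2 (iv F17165) D7052 F17233
def n7053 : Q := act 2 n5481
theorem D7053 : act 2 n5481 = n7053 := rfl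
theorem F22343 : act 7 n7053 = n5507 := d17_2 (iv F17167) D7053 F17240
def n7054 : Q := act 5 n5482
theorem D7054 : act 5 n5482 = n7054 := rfl
theorem F22344 : act 2 n7054 = n7032 := d15_1 D7054 (iv D7032) (iv F17169)
theorem F22345 : act 4 n7054 = n5485 := d22_1 D7054 (iv D5485) (iv F17170)
theorem F22346 : act 6 n7054 = n6505 := d25_2 D5482 D7054 (iv D6505) (iv D4935) (iv F12610)
def n7055 : Q := act 7 n5482
theorem D7055 : act 7 n5482 = n7055 := rfl
theorem F22347 : act 1 n7055 = n5483 := d12_1 D7055 (iv D5483) (iv F17168)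
theorem F22348 : act 2 n7055 = n7033 := d17_1 D7055 (iv D7033) (iv F17169)
theorem F22349 : act 4 n7055 = n5486 := d24_1 D7055 (iv D5486) (iv F17170)
theorem F22350 : act 6 n7055 = n7055 := d27_1 D7055 (iv D7055) (iv D5482) F12611 D5482
def n7056 : Q := act 3 n5483
theorem D7056 : act 3 n5483 = n7056 := rfl
theorem F22351 : act 0 n7056 = n5487 := d2_1 D7056 (iv D5487) (iv F17171)
theorem F22352 : act 6 n7056 = n7056 := d20_2 F17174 D7056 (iv D7056)
def n7057 : Q := act 5 n5484
theorem D7057 : act 5 n5484 = n7057 := rfl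
theorem F22353 : act 2 n7057 = n5485 := d15_1 D7057 (iv D5485) (iv F17176)
theorem F22354 : act 4 n7057 = n7032 := d22_1 D7057 (iv D7032) (iv F17177)
theorem F22355 : act 6 n7057 = n7031 := d25_2 D5484 D7057 (iv D7031) (iv D5457) (iv F12618)
def n7058 : Q := act 7 n5484
theorem D7058 : act 7 n5484 = n7058 := rfl
theorem F22356 : act 1 n7058 = n7058 := d12_1 D7058 (iv D7058) F17175
theorem F22357 : act 2 n7058 = n5486 := d17_1 D7058 (iv D5486) (iv F17176)
theorem F22358 : act 4 n7058 = n7033 := d24_1 D7058 (iv D7033) (iv F17177)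
theorem F22359 : act 6 n7058 = n7058 := d27_1 D7058 (iv D7058) (iv D5484) F12619 D5484
def n7059 : Q := act 7 n5485
theorem D7059 : act 7 n5485 = n7059 := rfl
theorem F22360 : act 5 n7059 = n5486 := d26_1 D7059 (iv D5486) D5485
def n7060 : Q := act 2 n5487
theorem D7060 : act 2 n5487 = n7060 := rfl
theorem F22361 : act 1 n7060 = n7060 := d7_1 D7060 (iv D7060) (iv F17418) F17419 F17418
theorem F22362 : act 3 n7060 = n7060 := d13_2 D5487 D7060 (iv D7060) (iv D5487) F12625
theorem F22363 : act 6 n7060 = n7060 := d16_2 F17181 D7060 (iv D7060)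
def n7061 : Q := act 6 n5488
theorem D7061 : act 6 n5488 = n7061 := rfl
theorem F22364 : act 2 n7061 = n5495 := d16_1 D7061 (iv D5495) (iv F17182)
theorem F22365 : act 4 n7061 = n5491 := d23_1 D7061 (iv D5491) (iv F17183)
theorem F22366 : act 5 n7061 = n5593 := d25_1 D7061 (iv D5593) (iv D4146) (iv F12630) D5488
def n7062 : Q := act 7 n5488
theorem D7062 : act 7 n5488 = n7062 := rfl
theorem F22367 : act 0 n7062 = n6179 := d6_1 D7062 F19354 F17931
theorem F22368 : act 1 n7062 = n5878 := d12_1 D7062 F20708 F20704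
theorem F22369 : act 2 n7062 = n5496 := d17_1 D7062 (iv D5496) (iv F17182)
theorem F22370 : act 4 n7062 = n5492 := d24_1 D7062 (iv D5492) (iv F17183)
theorem F22371 : act 5 n7062 = n5489 := d26_1 D7062 (iv D5489) D5488
def n7063 : Q := act 3 n5489
theorem D7063 : act 3 n5489 = n7063 := rfl
theorem F22372 : act 1 n7063 = n5740 := d8_1 D7063 (iv D5740) (iv F17184)
def n7064 : Q := act 6 n5489
theorem D7064 : act 6 n5489 = n7064 := rfl
theorem F22373 : act 1 n7064 = n5741 := d11_1 D7064 (iv D5741) (iv F17184)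
theorem F22374 : act 2 n7064 = n5498 := d16_1 D7064 (iv D5498) (iv F17185)
theorem F22375 : act 4 n7064 = n5494 := d23_1 D7064 (iv D5494) (iv F17186)
theorem F22376 : act 7 n7064 = n5595 := d27_2 D5489 D7064 (iv D5595) (iv D4147) (iv F12630)
def n7065 : Q := act 6 n5490
theorem D7065 : act 6 n5490 = n7065 := rfl
theorem F22377 : act 0 n7065 = n5906 := d5_1 D7065 (iv D5906) (iv F17187)
theorem F22378 : act 1 n7065 = n5491 := d11_1 D7065 (iv D5491) D5490
theorem F22379 : act 2 n7065 = n7065 := d16_1 D7065 (iv D7065) F17188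
theorem F22380 : act 3 n7065 = n5593 := d20_1 D7065 (iv D5593) (iv F17189)
def n7066 : Q := act 7 n5491
theorem D7066 : act 7 n5491 = n7066 := rfl
theorem F22381 : act 2 n7066 = n5499 := d17_1 D7066 (iv D5499) (iv F17192)
theorem F22382 : act 5 n7066 = n5599 := d26_1 D7066 (iv D5599) (iv F17193)
def n7067 : Q := act 6 n5492
theorem D7067 : act 6 n5492 = n7067 := rfl
theorem F22383 : act 0 n7067 = n6180 := d5_1 D7067 (iv D6180) (iv F17194)
theorem F22384 : act 1 n7067 = n5879 := d11_1 D7067 (iv D5879) (iv F17195)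
theorem F22385 : act 2 n7067 = n5501 := d16_1 D7067 (iv D5501) (iv F17196)
theorem F22386 : act 3 n7067 = n5868 := d20_1 D7067 (iv D5868) F17198
def n7068 : Q := act 4 n5493
theorem D7068 : act 4 n5493 = n7068 := rfl
theorem F22387 : act 0 n7068 = n6132 := d3_1 D7068 F19228 (iv F17199)
theorem F22388 : act 1 n7068 = n5743 := d9_1 D7068 (iv D5743) (iv F17200)
theorem F22389 : act 2 n7068 = n5851 := d14_1 D7068 F18316 F17202
theorem F22390 : act 5 n7068 = n5865 := d22_2 (iv F17201) D7068 F18358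
def n7069 : Q := act 6 n5493
theorem D7069 : act 6 n5493 = n7069 := rfl
theorem F22391 : act 0 n7069 = n6135 := d5_1 D7069 (iv D6135) (iv F17199)
theorem F22392 : act 1 n7069 = n5744 := d11_1 D7069 (iv D5744) (iv F17200)
theorem F22393 : act 2 n7069 = n5853 := d16_1 D7069 (iv D5853) F17202
theorem F22394 : act 3 n7069 = n5494 := d20_1 D7069 (iv D5494) D5493
def n7070 : Q := act 5 n5494
theorem D7070 : act 5 n5494 = n7070 := rfl
theorem F22395 : act 2 n7070 = n5505 := d15_1 D7070 (iv D5505) (iv F17204)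
theorem F22396 : act 7 n7070 = n5605 := d26_2 (iv F17205) D7070 (iv D5605)
def n7071 : Q := act 7 n5495
theorem D7071 : act 7 n5495 = n7071 := rfl
theorem F22397 : act 1 n7071 = n7071 := d12_1 D7071 (iv D7071) F17206
theorem F22398 : act 4 n7071 = n5499 := d24_1 D7071 (iv D5499) (iv F17208)
theorem F22399 : act 5 n7071 = n5606 := d26_1 D7071 (iv D5606) (iv F17209)
def n7072 : Q := act 3 n5496
theorem D7072 : act 3 n5496 = n7072 := rfl
theorem F22400 : act 1 n7072 = n7072 := d8_1 D7072 (iv D7072) F17210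
theorem F22401 : act 5 n7072 = n5497 := d19_2 (iv F17212) D7072 (iv D5497)
theorem F22402 : act 7 n7072 = n7072 := d21_2 D5496 D7072 (iv D7072) (iv D5496) F12635
def n7073 : Q := act 6 n5496
theorem D7073 : act 6 n5496 = n7073 := rfl
theorem F22403 : act 1 n7073 = n7073 := d11_1 D7073 (iv D7073) F17210
theorem F22404 : act 4 n7073 = n5501 := d23_1 D7073 (iv D5501) (iv F17211)
def n7074 : Q := act 2 n5497
theorem D7074 : act 2 n5497 = n7074 := rfl
theorem F22405 : act 1 n7074 = n7074 := d7_1 D7074 (iv D7074) F17213 F12655 (iv F17213)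
theorem F22406 : act 7 n7074 = n7074 := d17_2 F17214 D7074 (iv D7074)
def n7075 : Q := act 4 n5497
theorem D7075 : act 4 n5497 = n7075 := rfl
theorem F22407 : act 1 n7075 = n5509 := d9_1 D7075 (iv D5509) (iv F17213)
theorem F22408 : act 3 n7075 = n5503 := d18_1 D7075 (iv D5503) (iv D4071) (iv F12638) D5497
theorem F22409 : act 7 n7075 = n7075 := d24_2 F17214 D7075 (iv D7075)
def n7076 : Q := act 6 n5497
theorem D7076 : act 6 n5497 = n7076 := rfl
theorem F22410 : act 1 n7076 = n5510 := d11_1 D7076 (iv D5510) (iv F17213)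
theorem F22411 : act 3 n7076 = n5498 := d20_1 D7076 (iv D5498) D5497
def n7077 : Q := act 5 n5498
theorem D7077 : act 5 n5498 = n7077 := rfl
theorem F22412 : act 4 n7077 = n5505 := d22_1 D7077 (iv D5505) (iv F17216)
theorem F22413 : act 7 n7077 = n5609 := d26_2 (iv F17217) D7077 (iv D5609)
def n7078 : Q := act 6 n5499
theorem D7078 : act 6 n5499 = n7078 := rfl
theorem F22414 : act 1 n7078 = n7078 := d11_1 D7078 (iv D7078) F17218
theorem F22415 : act 7 n7078 = n5501 := d27_2 D5499 D7078 (iv D5501) (iv D4070) D4069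
def n7079 : Q := act 6 n5500
theorem D7079 : act 6 n5500 = n7079 := rfl
theorem F22416 : act 0 n7079 = n6171 := d5_1 D7079 (iv D6171) (iv F17220)
theorem F22417 : act 1 n7079 = n7079 := d11_1 D7079 (iv D7079) F17221
theorem F22418 : act 2 n7079 = n5864 := d16_1 D7079 (iv D5864) (iv F17222)
theorem F22419 : act 3 n7079 = n5501 := d20_1 D7079 (iv D5501) D5500
def n7080 : Q := act 5 n5501
theorem D7080 : act 5 n5501 = n7080 := rfl
theorem F22420 : act 6 n7080 = n5505 := d25_2 D5501 D7080 (iv D5505) (iv D4072) (iv F12643)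
def n7081 : Q := act 6 n5502
theorem D7081 : act 6 n5502 = n7081 := rfl
theorem F22421 : act 0 n7081 = n6123 := d5_1 D7081 (iv D6123) (iv F17226)
theorem F22422 : act 1 n7081 = n5846 := d11_1 D7081 (iv D5846) F17230
theorem F22423 : act 2 n7081 = n5504 := d16_1 D7081 (iv D5504) D5502
theorem F22424 : act 3 n7081 = n5853 := d20_1 D7081 (iv D5853) (iv F17227)
def n7082 : Q := act 6 n5503
theorem D7082 : act 6 n5503 = n7082 := rfl
theorem F22425 : act 1 n7082 = n5513 := d11_1 D7082 (iv D5513) (iv F17231)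
theorem F22426 : act 4 n7082 = n5504 := d23_1 D7082 (iv D5504) D5503
def n7083 : Q := act 5 n5504
theorem D7083 : act 5 n5504 = n7083 := rfl
theorem F22427 : act 3 n7083 = n5505 := d19_1 D7083 (iv D5505) (iv F17234)
def n7084 : Q := act 6 n5506
theorem D7084 : act 6 n5506 = n7084 := rfl
theorem F22428 : act 0 n7084 = n5843 := d5_1 D7084 (iv D5843) (iv F17236)
theorem F22429 : act 1 n7084 = n5507 := d11_1 D7084 (iv D5507) D5506
theorem F22430 : act 2 n7084 = n5517 := d16_1 D7084 (iv D5517) (iv F17237)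
def n7085 : Q := act 6 n5509
theorem D7085 : act 6 n5509 = n7085 := rfl
theorem F22431 : act 0 n7085 = n5536 := d5_1 D7085 (iv D5536) (iv F17244)
theorem F22432 : act 2 n7085 = n7085 := d16_1 D7085 (iv D7085) F17245
theorem F22433 : act 3 n7085 = n5513 := d20_1 D7085 (iv D5513) (iv F17246)
theorem F22434 : act 4 n7085 = n5510 := d23_1 D7085 (iv D5510) D5509
def n7086 : Q := act 7 n5510
theorem D7086 : act 7 n5510 = n7086 := rfl
theorem F22435 : act 0 n7086 = n5537 := d6_1 D7086 (iv D5537) (iv F17249)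
theorem F22436 : act 2 n7086 = n7086 := d17_1 D7086 (iv D7086) F17250
theorem F22437 : act 3 n7086 = n5641 := d21_1 D7086 (iv D5641) F12925 (iv F12661) (iv F17251)
theorem F22438 : act 6 n7086 = n7086 := d27_1 D7086 (iv D7086) (iv D5510) F12657 D5510
def n7087 : Q := act 4 n5514
theorem D7087 : act 4 n5514 = n7087 := rfl
theorem F22439 : act 0 n7087 = n5515 := d3_1 D7087 (iv D5515) D5514
theorem F22440 : act 1 n7087 = n5539 := d9_1 D7087 (iv D5539) (iv F17264)
theorem F22441 : act 2 n7087 = n5841 := d14_1 D7087 F18291 (iv F17265)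
theorem F22442 : act 5 n7087 = n5825 := d22_2 F17268 D7087 (iv D5825)
theorem F22443 : act 7 n7087 = n5833 := d24_2 (iv F17267) D7087 F18263
def n7088 : Q := act 6 n5514
theorem D7088 : act 6 n5514 = n7088 := rfl
theorem F22444 : act 0 n7088 = n5517 := d5_1 D7088 (iv D5517) D5514
theorem F22445 : act 1 n7088 = n5541 := d11_1 D7088 (iv D5541) (iv F17264)
theorem F22446 : act 2 n7088 = n5843 := d16_1 D7088 (iv D5843) (iv F17265)
theorem F22447 : act 3 n7088 = n5522 := d20_1 D7088 (iv D5522) (iv F17266)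
def n7089 : Q := act 3 n5515
theorem D7089 : act 3 n5515 = n7089 := rfl
theorem F22448 : act 1 n7089 = n5518 := d8_1 D7089 (iv D5518) (iv F17269)
theorem F22449 : act 2 n7089 = n6667 := d13_1 D7089 F20938 F15745 (iv F17775) F17774
theorem F22450 : act 4 n7089 = n5523 := d18_2 D5515 D7089 (iv D5523) (iv D4087) (iv F12671)
theorem F22451 : act 5 n7089 = n6666 := d19_2 (iv F17772) D7089 F20935
theorem F22452 : act 7 n7089 = n7089 := d21_2 F19280 D7089 (iv D7089) (iv F19280) F19277
def n7090 : Q := act 6 n5515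
theorem D7090 : act 6 n5515 = n7090 := rfl
theorem F22453 : act 1 n7090 = n5519 := d11_1 D7090 (iv D5519) (iv F17269)
theorem F22454 : act 4 n7090 = n5517 := d23_1 D7090 (iv D5517) D5515
def n7091 : Q := act 6 n5516
theorem D7091 : act 6 n5516 = n7091 := rfl
theorem F22455 : act 0 n7091 = n5826 := d5_1 D7091 (iv D5826) (iv F17270)
theorem F22456 : act 1 n7091 = n7091 := d11_1 D7091 (iv D7091) F17271
theorem F22457 : act 2 n7091 = n5840 := d16_1 D7091 (iv D5840) (iv F17272)
theorem F22458 : act 3 n7091 = n5526 := d20_1 D7091 (iv D5526) (iv F17273)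
def n7092 : Q := act 5 n5517
theorem D7092 : act 5 n5517 = n7092 := rfl
theorem F22459 : act 3 n7092 = n5527 := d19_1 D7092 (iv D5527) (iv F17276)
def n7093 : Q := act 6 n5518
theorem D7093 : act 6 n5518 = n7093 := rfl
theorem F22460 : act 0 n7093 = n5545 := d5_1 D7093 (iv D5545) (iv F17277)
theorem F22461 : act 2 n7093 = n7093 := d16_1 D7093 (iv D7093) F17278
theorem F22462 : act 3 n7093 = n5519 := d20_1 D7093 (iv D5519) D5518
theorem F22463 : act 4 n7093 = n5529 := d23_1 D7093 (iv D5529) (iv F17279)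
theorem F22464 : act 7 n6391 = n7093 := d31_1 (iv F20024) F22463 F17307 (iv D5529) (iv D4090) F8945 F8946 (iv D2111) (iv D1424) D1426 F4506 D1427 F4512 F3155 F2267 (iv D505) (iv D279) (iv F801) (iv D246) (iv F762) D429 (iv F2118) D950 F3063 D1421 (iv F6517) (iv F8920) D4078 (iv F17251)
theorem F22465 : act 5 n7093 = n7086 := d26_1 F22464 (iv D7086) (iv F20024)
def n7094 : Q := act 3 n5520
theorem D7094 : act 3 n5520 = n7094 := rfl
theorem F22466 : act 0 n7094 = n5523 := d2_1 D7094 (iv D5523) (iv F17285)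
theorem F22467 : act 1 n7094 = n5546 := d8_1 D7094 (iv D5546) (iv F17286)
theorem F22468 : act 7 n7094 = n7094 := d21_2 (iv F17287) D7094 (iv D7094) F17287 F13286
def n7095 : Q := act 5 n5520
theorem D7095 : act 5 n5520 = n7095 := rfl
theorem F22469 : act 0 n7095 = n5524 := d4_1 D7095 (iv D5524) (iv F17285)
theorem F22470 : act 4 n7095 = n5521 := d22_1 D7095 (iv D5521) D5520
theorem F22471 : act 7 n7095 = n5750 := d26_2 (iv F17287) D7095 (iv D5750)
theorem F22472 : act 1 n5813 = n7095 := d12_3 F22471 (iv F21700) F21704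
def n7096 : Q := act 6 n5520
theorem D7096 : act 6 n5520 = n7096 := rfl
theorem F22473 : act 0 n7096 = n5525 := d5_1 D7096 (iv D5525) (iv F17285)
theorem F22474 : act 1 n7096 = n5548 := d11_1 D7096 (iv D5548) (iv F17286)
theorem F22475 : act 4 n7096 = n5522 := d23_1 D7096 (iv D5522) D5520
theorem F22476 : act 7 n7096 = n6103 := d27_2 (iv F17287) D7096 (iv D6103) F14289 F13287
def n7097 : Q := act 6 n5521
theorem D7097 : act 6 n5521 = n7097 := rfl
theorem F22477 : act 0 n7097 = n5526 := d5_1 D7097 (iv D5526) (iv F17288)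
theorem F22478 : act 1 n7097 = n5814 := d11_1 D7097 (iv D5814) F17291
theorem F22479 : act 3 n7097 = n5826 := d20_1 D7097 (iv D5826) (iv F17289)
def n7098 : Q := act 5 n5522
theorem D7098 : act 5 n5522 = n7098 := rfl
theorem F22480 : act 0 n7098 = n5527 := d4_1 D7098 (iv D5527) (iv F17292)
def n7099 : Q := act 2 n5523
theorem D7099 : act 2 n5523 = n7099 := rfl
theorem F22481 : act 1 n7099 = n7099 := d7_1 D7099 (iv D7099) F17294 F12689 (iv F17294)
theorem F22482 : act 3 n7099 = n6651 := d13_2 D5523 D7099 F20887 (iv D6558) F15502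
theorem F22483 : act 4 n7099 = n6667 := d14_2 F22450 D7099 (iv F22449)
theorem F22484 : act 7 n7099 = n7099 := d17_2 F17295 D7099 (iv D7099)
theorem F22485 : act 5 n6650 = n7099 := d22_0 F22483 (iv D6667) (iv F20884)
def n7100 : Q := act 5 n5523
theorem D7100 : act 5 n5523 = n7100 := rfl
theorem F22486 : act 1 n7100 = n7100 := d10_1 D7100 (iv D7100) F17294 F12690 (iv F17294)
theorem F22487 : act 2 n7100 = n6650 := d15_1 D7100 F22485 (iv D7099)
theorem F22488 : act 3 n7100 = n5524 := d19_1 D7100 (iv D5524) D5523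
theorem F22489 : act 4 n7100 = n6666 := d22_1 D7100 (iv F22451) F22450
theorem F22490 : act 7 n7100 = n7100 := d26_2 F17295 D7100 (iv D7100)
def n7101 : Q := act 6 n5523
theorem D7101 : act 6 n5523 = n7101 := rfl
theorem F22491 : act 1 n7101 = n5529 := d11_1 D7101 (iv D5529) (iv F17294)
theorem F22492 : act 3 n7101 = n5525 := d20_1 D7101 (iv D5525) D5523
def n7102 : Q := act 6 n5524
theorem D7102 : act 6 n5524 = n7102 := rfl
theorem F22493 : act 1 n7102 = n7102 := d11_1 D7102 (iv D7102) F17296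
theorem F22494 : act 4 n7102 = n5526 := d23_1 D7102 (iv D5526) (iv F17297)
def n7103 : Q := act 5 n5525
theorem D7103 : act 5 n5525 = n7103 := rfl
theorem F22495 : act 4 n7103 = n5527 := d22_1 D7103 (iv D5527) (iv F17300)
theorem F22496 : act 7 n7103 = n6105 := d26_2 (iv F17301) D7103 (iv D6105)
def n7104 : Q := act 5 n5526
theorem D7104 : act 5 n5526 = n7104 := rfl
theorem F22497 : act 6 n7104 = n5527 := d25_2 D5526 D7104 (iv D5527) (iv D4089) D4088
def n7105 : Q := act 7 n5526
theorem D7105 : act 7 n5526 = n7105 := rfl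
theorem F22498 : act 1 n7105 = n7105 := d12_1 D7105 (iv D7105) F17302
theorem F22499 : act 6 n7105 = n5755 := d27_1 D7105 (iv D5755) (iv D4298) (iv F12686) D5526
def n7106 : Q := act 1 n5527
theorem D7106 : act 1 n5527 = n7106 := rfl
theorem F22500 : act 5 n7106 = n5531 := d10_2 D5527 D7106 (iv D5531) (iv D4092) (iv F12687)
def n7107 : Q := act 7 n5527
theorem D7107 : act 7 n5527 = n7107 := rfl
theorem F22501 : act 4 n7107 = n6105 := d24_1 D7107 (iv F22496) F22495
theorem F22502 : act 5 n7107 = n5528 := d26_1 D7107 (iv D5528) D5527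
def n7108 : Q := act 5 n5529
theorem D7108 : act 5 n5529 = n7108 := rfl
theorem F22503 : act 0 n7108 = n5559 := d4_1 D7108 (iv D5559) (iv F17306)
theorem F22504 : act 2 n7108 = n7108 := d15_1 D7108 (iv D7108) F17307
theorem F22505 : act 3 n7108 = n5530 := d19_1 D7108 (iv D5530) (iv F17308)
theorem F22506 : act 4 n7108 = n7086 := d22_1 D7108 (iv F22465) F22463
theorem F22507 : act 6 n7108 = n7108 := d25_2 D5529 D7108 (iv D7108) (iv D5529) F12690
theorem F22508 : act 7 n7108 = n7085 := d31_1 D7108 F22434 F17250 (iv D5510) (iv D4077) F8922 (iv D2887) (iv D1974) F4262 F3064 (iv D651) F1359 D480 F1611 F892 D280 (iv F1680) (iv F2273) (iv F3231) (iv F4496) F4495 (iv D953) D952 F3070 (iv F4271) D1979 (iv F8944) D4091 (iv F17308)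
def n7109 : Q := act 7 n5529
theorem D7109 : act 7 n5529 = n7109 := rfl
theorem F22509 : act 0 n7109 = n5560 := d6_1 D7109 (iv D5560) (iv F17306)
theorem F22510 : act 2 n7109 = n7109 := d17_1 D7109 (iv D7109) F17307
theorem F22511 : act 3 n7109 = n5978 := d21_1 D7109 (iv D5978) F13899 (iv F12695) (iv F17308)
theorem F22512 : act 4 n7109 = n6391 := d24_1 D7109 F22464 F22463
theorem F22513 : act 5 n7109 = n7085 := d26_1 D7109 (iv F22508) (iv D7108)
theorem F22514 : act 6 n7109 = n7109 := d27_1 D7109 (iv D7109) (iv D5529) F12691 D5529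
def n7110 : Q := act 1 n5530
theorem D7110 : act 1 n5530 = n7110 := rfl
theorem F22515 : act 4 n7110 = n5531 := d9_2 (iv F17311) D7110 (iv D5531)
theorem F22516 : act 6 n7110 = n7110 := d11_2 F17312 D7110 (iv D7110)
theorem F22517 : act 7 n7110 = n6106 := d12_2 (iv F17313) D7110 (iv D6106)
def n7111 : Q := act 2 n5531
theorem D7111 : act 2 n5531 = n7111 := rfl
theorem F22518 : act 1 n7111 = n5534 := d7_1 D7111 (iv D5534) (iv D4095) (iv F12697) D5531
theorem F22519 : act 6 n7111 = n7111 := d16_2 F17314 D7111 (iv D7111)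
def n7112 : Q := act 7 n5531
theorem D7112 : act 7 n5531 = n7112 := rfl
theorem F22520 : act 1 n7112 = n5532 := d12_1 D7112 (iv D5532) D5531
theorem F22521 : act 4 n7112 = n6106 := d24_1 D7112 (iv F22517) F22515
def n7113 : Q := act 2 n5533
theorem D7113 : act 2 n5533 = n7113 := rfl
theorem F22522 : act 0 n7113 = n7043 := d1_1 D7113 (iv D7043) (iv F17319)
theorem F22523 : act 4 n7113 = n5534 := d14_2 (iv F17321) D7113 (iv D5534)
theorem F22524 : act 6 n7113 = n7113 := d16_2 F17322 D7113 (iv D7113)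
theorem F22525 : act 7 n7113 = n6108 := d17_2 (iv F17323) D7113 (iv D6108)
def n7114 : Q := act 7 n5534
theorem D7114 : act 7 n5534 = n7114 := rfl
theorem F22526 : act 0 n7114 = n7044 := d6_1 D7114 (iv D7044) (iv F17324)
theorem F22527 : act 2 n7114 = n5535 := d17_1 D7114 (iv D5535) D5534
theorem F22528 : act 4 n7114 = n6108 := d24_1 D7114 (iv F22525) F22523
def n7115 : Q := act 3 n5539
theorem D7115 : act 3 n5539 = n7115 := rfl
theorem F22529 : act 0 n7115 = n5542 := d2_1 D7115 (iv D5542) (iv F17342)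
theorem F22530 : act 4 n7115 = n5546 := d18_2 D5539 D7115 (iv D5546) (iv D4108) (iv F12728)
theorem F22531 : act 7 n7115 = n7115 := d21_2 F20263 D7115 (iv D7115) (iv F20263) F20260
def n7116 : Q := act 6 n5539
theorem D7116 : act 6 n5539 = n7116 := rfl
theorem F22532 : act 0 n7116 = n5543 := d5_1 D7116 (iv D5543) (iv F17342)
theorem F22533 : act 4 n7116 = n5541 := d23_1 D7116 (iv D5541) D5539
def n7117 : Q := act 6 n5540
theorem D7117 : act 6 n5540 = n7117 := rfl
theorem F22534 : act 0 n7117 = n5544 := d5_1 D7117 (iv D5544) (iv F17343)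
theorem F22535 : act 1 n7117 = n5822 := d11_1 D7117 (iv D5822) (iv F17344)
theorem F22536 : act 2 n7117 = n5692 := d16_1 D7117 F17840 (iv F17345)
theorem F22537 : act 3 n7117 = n5550 := d20_1 D7117 (iv D5550) (iv F17346)
theorem F22538 : act 5 n7117 = n6244 := d25_1 D7117 F22325 F22324 (iv D5541) D5540
theorem F22539 : act 7 n7117 = n7117 := d27_2 (iv F17347) D7117 (iv D7117) F17347 F13496
def n7118 : Q := act 6 n5542
theorem D7118 : act 6 n5542 = n7118 := rfl
theorem F22540 : act 1 n7118 = n5545 := d11_1 D7118 (iv D5545) (iv F17350)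
theorem F22541 : act 3 n7118 = n5543 := d20_1 D7118 (iv D5543) D5542
theorem F22542 : act 4 n7118 = n5554 := d23_1 D7118 (iv D5554) (iv F17351)
theorem F22543 : act 7 n6397 = n7118 := d24_0 F22542 (iv F17396) (iv F20044)
def n7119 : Q := act 2 n5546
theorem D7119 : act 2 n5546 = n7119 := rfl
theorem F22544 : act 0 n7119 = n5552 := d1_1 D7119 (iv D5552) (iv F17365)
theorem F22545 : act 3 n7119 = n5561 := d13_2 D5546 D7119 (iv D5561) (iv D4119) (iv F12742)
theorem F22546 : act 7 n7119 = n7119 := d17_2 F17366 D7119 (iv D7119)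
theorem F22547 : act 1 n6919 = n7119 := d8_3 F22545 F17425 D6919
theorem F22548 : act 5 n7115 = n7119 := d19_0 F22545 (iv F17428) D7115
def n7120 : Q := act 5 n5546
theorem D7120 : act 5 n5546 = n7120 := rfl
theorem F22549 : act 0 n7120 = n5553 := d4_1 D7120 (iv D5553) (iv F17365)
theorem F22550 : act 2 n7120 = n7115 := d15_1 D7120 F22548 (iv D7119)
theorem F22551 : act 3 n7120 = n5547 := d19_1 D7120 (iv D5547) D5546
theorem F22552 : act 4 n7120 = n7119 := d22_1 D7120 (iv F22548) F22530
theorem F22553 : act 7 n7120 = n7120 := d26_2 F17366 D7120 (iv D7120)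
def n7121 : Q := act 6 n5546
theorem D7121 : act 6 n5546 = n7121 := rfl
theorem F22554 : act 0 n7121 = n5554 := d5_1 D7121 (iv D5554) (iv F17365)
theorem F22555 : act 3 n7121 = n5548 := d20_1 D7121 (iv D5548) D5546
theorem F22556 : act 7 n7056 = n7121 := d21_0 F22555 F17374 F14383 D5483 D7056
def n7122 : Q := act 1 n5547
theorem D7122 : act 1 n5547 = n7122 := rfl
theorem F22557 : act 0 n7122 = n7122 := d0_1 D7122 (iv D7122) F17367 F12751 (iv F17367)
theorem F22558 : act 4 n7122 = n5549 := d9_2 (iv F17369) D7122 (iv D5549)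
theorem F22559 : act 5 n7122 = n5813 := d10_2 D5547 D7122 F22472 (iv D7095) F17286
theorem F22560 : act 7 n7122 = n5759 := d12_2 (iv F17370) D7122 (iv D5759)
theorem F22561 : act 2 n5810 = n7122 := d17_3 F22560 (iv F21689) F21691
def n7123 : Q := act 6 n5547
theorem D7123 : act 6 n5547 = n7123 := rfl
theorem F22562 : act 0 n7123 = n5555 := d5_1 D7123 (iv D5555) (iv F17367)
theorem F22563 : act 2 n7123 = n5565 := d16_1 D7123 (iv D5565) (iv F17368)
theorem F22564 : act 4 n7123 = n5550 := d23_1 D7123 (iv D5550) (iv F17369)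
def n7124 : Q := act 5 n5548
theorem D7124 : act 5 n5548 = n7124 := rfl
theorem F22565 : act 0 n7124 = n5556 := d4_1 D7124 (iv D5556) (iv F17371)
theorem F22566 : act 2 n7124 = n5566 := d15_1 D7124 (iv D5566) (iv F17372)
theorem F22567 : act 4 n7124 = n5551 := d22_1 D7124 (iv D5551) (iv F17373)
theorem F22568 : act 7 n7124 = n5578 := d26_2 (iv F17374) D7124 F17498
def n7125 : Q := act 6 n5549
theorem D7125 : act 6 n5549 = n7125 := rfl
theorem F22569 : act 0 n7125 = n7125 := d5_1 D7125 (iv D7125) F17375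
theorem F22570 : act 1 n7125 = n5550 := d11_1 D7125 (iv D5550) D5549
theorem F22571 : act 2 n7125 = n5811 := d16_1 D7125 (iv D5811) F17379
theorem F22572 : act 3 n7125 = n5822 := d20_1 D7125 (iv D5822) (iv F17376)
def n7126 : Q := act 5 n5550
theorem D7126 : act 5 n5550 = n7126 := rfl
theorem F22573 : act 0 n7126 = n5557 := d4_1 D7126 (iv D5557) (iv F17380)
theorem F22574 : act 2 n7126 = n5569 := d15_1 D7126 (iv D5569) (iv F17381)
theorem F22575 : act 3 n7126 = n6244 := d19_1 D7126 (iv F22538) F22537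
theorem F22576 : act 6 n7126 = n5551 := d25_2 D5550 D7126 (iv D5551) (iv D4110) D4109
theorem F22577 : act 7 n5716 = n7126 := d27_0 F22576 F17384 F13097 D4256 D5716
def n7127 : Q := act 7 n5550
theorem D7127 : act 7 n5550 = n7127 := rfl
theorem F22578 : act 0 n7127 = n5558 := d6_1 D7127 (iv D5558) (iv F17380)
theorem F22579 : act 2 n7127 = n5570 := d17_1 D7127 (iv D5570) (iv F17381)
theorem F22580 : act 3 n7127 = n7127 := d21_1 D7127 (iv D7127) (iv F22537) F22539 F22537
theorem F22581 : act 5 n7127 = n5716 := d26_1 D7127 F22577 (iv D7126)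
theorem F22582 : act 6 n7127 = n5762 := d27_1 D7127 (iv D5762) (iv D4309) (iv F12746) D5550
def n7128 : Q := act 1 n5551
theorem D7128 : act 1 n5551 = n7128 := rfl
theorem F22583 : act 7 n7128 = n5695 := d12_2 (iv F17384) D7128 F17847
def n7129 : Q := act 6 n5552
theorem D7129 : act 6 n5552 = n7129 := rfl
theorem F22584 : act 1 n7129 = n7129 := d11_1 D7129 (iv D7129) F17385
theorem F22585 : act 2 n7129 = n5554 := d16_1 D7129 (iv D5554) D5552
theorem F22586 : act 3 n7129 = n5572 := d20_1 D7129 (iv D5572) (iv F17386)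
theorem F22587 : act 7 n7060 = n7129 := d30_29 (iv D7129) (iv F17388) F17350 F12735 (iv D4106) (iv F12726) (iv F14022) F14021 F10031 (iv F14014) (iv F17420) (iv D5560) (iv D4116) F8994 (iv F12749) D5552 F17386 F12794 F10956 (iv F15170) F15167 F12723 (iv F12716) F12718 D5536 (iv F17422) F17418 D7060 F22362
def n7130 : Q := act 6 n5553
theorem D7130 : act 6 n5553 = n7130 := rfl
theorem F22588 : act 1 n7130 = n7130 := d11_1 D7130 (iv D7130) F17389
theorem F22589 : act 2 n7130 = n7118 := d16_1 D7130 (iv D7118) (iv F17390)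
theorem F22590 : act 3 n7130 = n5555 := d20_1 D7130 (iv D5555) (iv F17391)
theorem F22591 : act 4 n7130 = n7129 := d23_1 D7130 (iv D7129) (iv F17392)
def n7131 : Q := act 5 n5554
theorem D7131 : act 5 n5554 = n7131 := rfl
theorem F22592 : act 3 n7131 = n5556 := d19_1 D7131 (iv D5556) (iv F17395)
theorem F22593 : act 7 n7131 = n5591 := d26_2 F17396 D7131 F17545
def n7132 : Q := act 5 n5555
theorem D7132 : act 5 n5555 = n7132 := rfl
theorem F22594 : act 2 n7132 = n5575 := d15_1 D7132 (iv D5575) (iv F17398)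
theorem F22595 : act 4 n7132 = n5557 := d22_1 D7132 (iv D5557) (iv F17399)
theorem F22596 : act 6 n7132 = n5556 := d25_2 D5555 D7132 (iv D5556) (iv D4113) D4112
theorem F22597 : act 1 n7132 = n5917 := d30_2 D5555 D7132 F18523 F13715 F9831 (iv F13019) (iv F14861) F14859 F12549 (iv F12579) (iv F14391) (iv F14573) F14572 (iv F19535) F19536 F17476 F12808 F9311 F6465 F4900 F6235 (iv D2004) F4317 F3118 D1445 (iv F6589) (iv F9510) F9511 (iv F12754)
theorem F22598 : act 7 n7132 = n5589 := d31_1 D7132 F17539 F13172 (iv D3048) F6467 F4474 (iv D1059) D1058 F3400 F3402 F3401 (iv F4470) D2097 F6485 F4473 D2098 (iv F9394) (iv F12815) (iv D4132) (iv F12805) (iv F17398) (iv D5555) (iv F17391) (iv D5553) F12750 (iv F17351) (iv F17390) D7130 F22590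
def n7133 : Q := act 7 n5555
theorem D7133 : act 7 n5555 = n7133 := rfl
theorem F22599 : act 1 n7133 = n7133 := d12_1 D7133 (iv D7133) F17397
theorem F22600 : act 2 n7133 = n5576 := d17_1 D7133 (iv D5576) (iv F17398)
theorem F22601 : act 4 n7133 = n5558 := d24_1 D7133 (iv D5558) (iv F17399)
theorem F22602 : act 5 n7133 = n5589 := d26_1 D7133 (iv F22598) (iv D7132)
theorem F22603 : act 6 n7133 = n5590 := d27_1 D7133 F17544 (iv D4310) (iv F12754) D5555
theorem F22604 : act 3 n5802 = n7133 := d20_3 F22603 F17542 (iv F18181)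
def n7134 : Q := act 6 n5561
theorem D7134 : act 6 n5561 = n7134 := rfl
theorem F22605 : act 0 n7134 = n5572 := d5_1 D7134 (iv D5572) (iv F17424)
theorem F22606 : act 1 n7134 = n6920 := d11_1 D7134 (iv D6920) (iv F17425)
theorem F22607 : act 2 n7134 = n5563 := d16_1 D7134 (iv D5563) D5561
theorem F22608 : act 4 n7134 = n7117 := d23_1 D7134 (iv D7117) (iv F17426)
theorem F22609 : act 7 n7134 = n7134 := d27_2 (iv F17427) D7134 (iv D7134) F17427 F15159
def n7135 : Q := act 6 n5562
theorem D7135 : act 6 n5562 = n7135 := rfl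
theorem F22610 : act 0 n7135 = n5573 := d5_1 D7135 (iv D5573) (iv F17429)
theorem F22611 : act 1 n7135 = n6917 := d11_1 D7135 (iv D6917) (iv F17430)
theorem F22612 : act 2 n7135 = n7116 := d16_1 D7135 (iv D7116) (iv F17431)
theorem F22613 : act 3 n7135 = n5565 := d20_1 D7135 (iv D5565) (iv F17432)
theorem F22614 : act 4 n7135 = n5694 := d23_1 D7135 F17846 (iv F17433)
theorem F22615 : act 5 n6160 = n7135 := d22_0 F22614 (iv F22266) (iv F22268)
def n7136 : Q := act 5 n5563
theorem D7136 : act 5 n5563 = n7136 := rfl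
theorem F22616 : act 0 n7136 = n5574 := d4_1 D7136 (iv D5574) (iv F17435)
theorem F22617 : act 3 n7136 = n5566 := d19_1 D7136 (iv D5566) (iv F17437)
theorem F22618 : act 4 n7136 = n7027 := d22_1 D7136 F22270 F17839
theorem F22619 : act 6 n7136 = n6160 := d25_2 D5563 D7136 F22615 (iv D7135) (iv D5562)
theorem F22620 : act 7 n7136 = n7136 := d26_2 F17438 D7136 (iv D7136)
def n7137 : Q := act 2 n5564
theorem D7137 : act 2 n5564 = n7137 := rfl
theorem F22621 : act 0 n7137 = n5581 := d1_1 D7137 (iv D5581) (iv F17439)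
theorem F22622 : act 1 n7137 = n5810 := d7_1 D7137 F22561 (iv D7122) F17368 D5564
theorem F22623 : act 4 n7137 = n5567 := d14_2 (iv F17441) D7137 (iv D5567)
theorem F22624 : act 5 n7137 = n6918 := d15_2 (iv F17442) D7137 (iv D6918)
theorem F22625 : act 7 n7137 = n5763 := d17_2 (iv F17443) D7137 (iv D5763)
def n7138 : Q := act 6 n5564
theorem D7138 : act 6 n5564 = n7138 := rfl
theorem F22626 : act 0 n7138 = n5582 := d5_1 D7138 (iv D5582) (iv F17439)
theorem F22627 : act 1 n7138 = n5565 := d11_1 D7138 (iv D5565) D5564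
theorem F22628 : act 3 n7138 = n6917 := d20_1 D7138 (iv D6917) (iv F17440)
theorem F22629 : act 4 n7138 = n5568 := d23_1 D7138 (iv D5568) (iv F17441)
def n7139 : Q := act 5 n5565
theorem D7139 : act 5 n5565 = n7139 := rfl
theorem F22630 : act 0 n7139 = n5575 := d4_1 D7139 (iv D5575) (iv F17444)
theorem F22631 : act 3 n7139 = n6160 := d19_1 D7139 F22615 F22613
theorem F22632 : act 4 n7139 = n5569 := d22_1 D7139 (iv D5569) (iv F17445)
theorem F22633 : act 6 n7139 = n5566 := d25_2 D5565 D7139 (iv D5566) (iv D4121) D4120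
theorem F22634 : act 7 n7139 = n5720 := d31_1 D7139 F17917 (iv F17904) (iv D5716) F13170 F13171 (iv D3279) (iv F9046) (iv F9048) (iv F10094) F10092 F10093 F7457 (iv F6588) (iv F9505) (iv D3083) (iv F9492) D4306 (iv F16605) F16601 F16599 F16602 F16600 (iv F17340) F17341 D5539 (iv F17431) D7135 F22613
def n7140 : Q := act 7 n5565
theorem D7140 : act 7 n5565 = n7140 := rfl
theorem F22635 : act 0 n7140 = n5576 := d6_1 D7140 (iv D5576) (iv F17444)
theorem F22636 : act 4 n7140 = n5570 := d24_1 D7140 (iv D5570) (iv F17445)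
theorem F22637 : act 5 n7140 = n5720 := d26_1 D7140 (iv F22634) (iv D7139)
theorem F22638 : act 6 n7140 = n5765 := d27_1 D7140 (iv D5765) (iv D4313) (iv F12777) D5565
def n7141 : Q := act 1 n5566
theorem D7141 : act 1 n5566 = n7141 := rfl
theorem F22639 : act 0 n7141 = n7049 := d0_1 D7141 (iv D7049) F17150 (iv F12806) (iv F17446)
theorem F22640 : act 4 n7141 = n5571 := d9_2 (iv F17447) D7141 (iv D5571)
theorem F22641 : act 7 n7141 = n5699 := d12_2 (iv F17448) D7141 F17855
def n7142 : Q := act 6 n5567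
theorem D7142 : act 6 n5567 = n7142 := rfl
theorem F22642 : act 0 n7142 = n5585 := d5_1 D7142 (iv D5585) (iv F17449)
theorem F22643 : act 1 n7142 = n5811 := d11_1 D7142 (iv D5811) (iv F17450)
theorem F22644 : act 2 n7142 = n5568 := d16_1 D7142 (iv D5568) D5567
theorem F22645 : act 3 n7142 = n5809 := d20_1 D7142 (iv D5809) (iv F17451)
def n7143 : Q := act 5 n5568
theorem D7143 : act 5 n5568 = n7143 := rfl
theorem F22646 : act 0 n7143 = n5586 := d4_1 D7143 (iv D5586) (iv F17453)
def n7144 : Q := act 7 n5568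
theorem D7144 : act 7 n5568 = n7144 := rfl
theorem F22647 : act 0 n7144 = n5587 := d6_1 D7144 (iv D5587) (iv F17453)
theorem F22648 : act 1 n7144 = n5570 := d12_1 D7144 (iv D5570) (iv F17454)
theorem F22649 : act 3 n7144 = n5738 := d21_1 D7144 F17980 (iv F19831) F19833 F17889
theorem F22650 : act 6 n7144 = n5768 := d27_1 D7144 (iv D5768) (iv D4315) (iv F12782) D5568
def n7145 : Q := act 1 n5569
theorem D7145 : act 1 n5569 = n7145 := rfl
theorem F22651 : act 0 n7145 = n7052 := d0_1 D7145 (iv D7052) F17162 (iv F12809) (iv F17455)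
theorem F22652 : act 3 n7145 = n7010 := d8_2 (iv F17456) D7145 F22206
theorem F22653 : act 6 n7145 = n5571 := d11_2 (iv F17457) D7145 (iv D5571)
theorem F22654 : act 7 n7145 = n5718 := d12_2 F17458 D7145 F17910
def n7146 : Q := act 2 n5571
theorem D7146 : act 2 n5571 = n7146 := rfl
theorem F22655 : act 0 n7146 = n7053 := d1_1 D7146 (iv D7053) (iv F17463)
theorem F22656 : act 7 n7146 = n5698 := d17_2 (iv F17465) D7146 (iv D5698)
def n7147 : Q := act 3 n5576
theorem D7147 : act 3 n5576 = n7147 := rfl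
theorem F22657 : act 1 n7147 = n5591 := d8_1 D7147 (iv D5591) (iv F17485)
theorem F22658 : act 4 n7147 = n5739 := d18_2 (iv F17486) D7147 F17981 F13239 (iv F12814)
theorem F22659 : act 5 n7147 = n5722 := d19_2 (iv F17487) D7147 F17924
theorem F22660 : act 6 n7147 = n5771 := d20_2 (iv F17488) D7147 (iv D5771)
def n7148 : Q := act 6 n5577
theorem D7148 : act 6 n5577 = n7148 := rfl
theorem F22661 : act 0 n7148 = n6917 := d5_1 D7148 (iv D6917) (iv F17489)
theorem F22662 : act 1 n7148 = n5578 := d11_1 D7148 (iv D5578) D5577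
theorem F22663 : act 3 n7148 = n5582 := d20_1 D7148 (iv D5582) (iv F17490)
theorem F22664 : act 4 n7148 = n5695 := d23_1 D7148 F17848 (iv F17491)
def n7149 : Q := act 6 n5579
theorem D7149 : act 6 n5579 = n7149 := rfl
theorem F22665 : act 0 n7149 = n5589 := d5_1 D7149 (iv D5589) (iv F17499)
theorem F22666 : act 1 n7149 = n6912 := d11_1 D7149 F21856 (iv F17500)
theorem F22667 : act 2 n7149 = n5720 := d16_1 D7149 (iv D5720) (iv F17501)
theorem F22668 : act 3 n7149 = n5781 := d20_1 D7149 (iv D5781) (iv F17502)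
theorem F22669 : act 4 n7149 = n5716 := d23_1 D7149 (iv D5716) (iv F17503)
def n7150 : Q := act 5 n5580
theorem D7150 : act 5 n5580 = n7150 := rfl
theorem F22670 : act 0 n7150 = n5590 := d4_1 D7150 (iv D5590) (iv F17505)
theorem F22671 : act 1 n7150 = n6929 := d10_1 D7150 (iv D6929) F16779 D5370 (iv F17506)
theorem F22672 : act 2 n7150 = n5765 := d15_1 D7150 F18063 (iv F17507)
theorem F22673 : act 3 n7150 = n5782 := d19_1 D7150 (iv D5782) (iv F17508)
theorem F22674 : act 4 n7150 = n5762 := d22_1 D7150 F18054 (iv F17509)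
theorem F22675 : act 7 n7150 = n5760 := d26_2 (iv F17510) D7150 F18048
def n7151 : Q := act 6 n5581
theorem D7151 : act 6 n5581 = n7151 := rfl
theorem F22676 : act 1 n7151 = n7151 := d11_1 D7151 (iv D7151) F17511
theorem F22677 : act 2 n7151 = n5582 := d16_1 D7151 (iv D5582) D5581
theorem F22678 : act 4 n7151 = n5585 := d23_1 D7151 (iv D5585) (iv F17512)
def n7152 : Q := act 5 n5582
theorem D7152 : act 5 n5582 = n7152 := rfl
theorem F22679 : act 1 n7152 = n7054 := d10_1 D7152 (iv D7054) F17168 (iv F12831) (iv F17514)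
theorem F22680 : act 4 n7152 = n5586 := d22_1 D7152 (iv D5586) (iv F17515)
def n7153 : Q := act 7 n5582
theorem D7153 : act 7 n5582 = n7153 := rfl
theorem F22681 : act 1 n7153 = n5583 := d12_1 D7153 (iv D5583) (iv F17514)
theorem F22682 : act 4 n7153 = n5587 := d24_1 D7153 (iv D5587) (iv F17515)
theorem F22683 : act 6 n7153 = n5786 := d27_1 D7153 (iv D5786) (iv D4327) (iv F12827) D5582
def n7154 : Q := act 3 n5583
theorem D7154 : act 3 n5583 = n7154 := rfl
theorem F22684 : act 0 n7154 = n5591 := d2_1 D7154 (iv D5591) (iv F17516)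
theorem F22685 : act 5 n7154 = n7056 := d19_2 (iv F17519) D7154 (iv D7056)
theorem F22686 : act 6 n7154 = n5787 := d20_2 (iv F17520) D7154 (iv D5787)
def n7155 : Q := act 6 n5584
theorem D7155 : act 6 n5584 = n7155 := rfl
theorem F22687 : act 0 n7155 = n5809 := d5_1 D7155 (iv D5809) (iv F17521)
theorem F22688 : act 1 n7155 = n7155 := d11_1 D7155 (iv D7155) F17522
theorem F22689 : act 2 n7155 = n6067 := d16_1 D7155 (iv D6067) (iv F17523)
theorem F22690 : act 3 n7155 = n5585 := d20_1 D7155 (iv D5585) D5584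
theorem F22691 : act 4 n7155 = n6771 := d23_1 D7155 (iv D6771) F17525
def n7156 : Q := act 5 n5585
theorem D7156 : act 5 n5585 = n7156 := rfl
theorem F22692 : act 2 n7156 = n5586 := d15_1 D7156 (iv D5586) (iv F17527)
def n7157 : Q := act 7 n5585
theorem D7157 : act 7 n5585 = n7157 := rfl
theorem F22693 : act 1 n7157 = n7157 := d12_1 D7157 (iv D7157) F17526
theorem F22694 : act 2 n7157 = n5587 := d17_1 D7157 (iv D5587) (iv F17527)
theorem F22695 : act 6 n7157 = n5791 := d27_1 D7157 (iv D5791) (iv D4330) (iv F12833) D5585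
def n7158 : Q := act 7 n5586
theorem D7158 : act 7 n5586 = n7158 := rfl
theorem F22696 : act 1 n7158 = n7059 := d12_1 D7158 (iv D7059) (iv F17528)
theorem F22697 : act 5 n7158 = n5587 := d26_1 D7158 (iv D5587) D5586
def n7159 : Q := act 3 n5587
theorem D7159 : act 3 n5587 = n7159 := rfl
theorem F22698 : act 0 n7159 = n5738 := d2_1 D7159 (iv F22649) F22647
theorem F22699 : act 1 n7159 = n5588 := d8_1 D7159 (iv D5588) (iv F17529)
theorem F22700 : act 6 n7159 = n5793 := d20_2 (iv F17530) D7159 (iv D5793)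
theorem F22701 : act 7 n7159 = n6332 := d21_2 D5587 D7159 (iv D6332) F14854 F13132
def n7160 : Q := act 4 n5588
theorem D7160 : act 4 n5588 = n7160 := rfl
theorem F22702 : act 0 n7160 = n5592 := d3_1 D7160 (iv D5592) (iv F17531)
theorem F22703 : act 2 n7160 = n6340 := d14_1 D7160 F19856 F17535
theorem F22704 : act 5 n7160 = n6396 := d22_2 (iv F17532) D7160 (iv D6396)
theorem F22705 : act 6 n7160 = n5795 := d23_2 (iv F17533) D7160 (iv D5795)
theorem F22706 : act 7 n7160 = n6334 := d24_2 (iv F17534) D7160 (iv D6334)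
def n7161 : Q := act 2 n5591
theorem D7161 : act 2 n5591 = n7161 := rfl
theorem F22707 : act 3 n7161 = n7161 := d13_2 D5591 D7161 (iv D7161) (iv D5591) F12853
theorem F22708 : act 5 n7161 = n7060 := d15_2 (iv F17545) D7161 (iv D7060)
theorem F22709 : act 6 n7161 = n5803 := d16_2 (iv F17546) D7161 (iv D5803)
def n7162 : Q := act 4 n5591
theorem D7162 : act 4 n5591 = n7162 := rfl
theorem F22710 : act 1 n7162 = n5739 := d9_1 D7162 (iv F22658) F22657
theorem F22711 : act 3 n7162 = n5592 := d18_1 D7162 (iv D5592) (iv D4144) (iv F12854) D5591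
theorem F22712 : act 5 n7162 = n6397 := d22_2 (iv F17545) D7162 F20044
theorem F22713 : act 6 n7162 = n5804 := d23_2 (iv F17546) D7162 (iv D5804)
def n7163 : Q := act 7 n5593
theorem D7163 : act 7 n5593 = n7163 := rfl
theorem F22714 : act 2 n7163 = n5606 := d17_1 D7163 (iv D5606) (iv F17552)
theorem F22715 : act 4 n7163 = n5599 := d24_1 D7163 (iv D5599) (iv F17553)
def n7164 : Q := act 6 n5594
theorem D7164 : act 6 n5594 = n7164 := rfl
theorem F22716 : act 0 n7164 = n5707 := d5_1 D7164 (iv D5707) (iv F17554)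
theorem F22717 : act 2 n7164 = n5607 := d16_1 D7164 (iv D5607) (iv F17555)
theorem F22718 : act 3 n7164 = n5690 := d20_1 D7164 (iv D5690) (iv F17556)
theorem F22719 : act 4 n7164 = n5601 := d23_1 D7164 (iv D5601) (iv F17557)
def n7165 : Q := act 5 n5595
theorem D7165 : act 5 n5595 = n7165 := rfl
theorem F22720 : act 2 n7165 = n5609 := d15_1 D7165 (iv D5609) (iv F17560)
theorem F22721 : act 4 n7165 = n5605 := d22_1 D7165 (iv D5605) (iv F17561)
def n7166 : Q := act 6 n5596
theorem D7166 : act 6 n5596 = n7166 := rfl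
theorem F22722 : act 0 n7166 = n5597 := d5_1 D7166 (iv D5597) D5596
theorem F22723 : act 2 n7166 = n5928 := d16_1 D7166 (iv D5928) (iv F17562)
theorem F22724 : act 4 n7166 = n6770 := d23_1 D7166 (iv D6770) (iv F17563)
def n7167 : Q := act 7 n5597
theorem D7167 : act 7 n5597 = n7167 := rfl
theorem F22725 : act 1 n7167 = n5599 := d12_1 D7167 (iv D5599) (iv F17565)
theorem F22726 : act 2 n7167 = n5930 := d17_1 D7167 (iv D5930) (iv F17566)
def n7168 : Q := act 6 n5598
theorem D7168 : act 6 n5598 = n7168 := rfl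
theorem F22727 : act 1 n7168 = n5601 := d11_1 D7168 (iv D5601) (iv F17567)
theorem F22728 : act 2 n7168 = n5932 := d16_1 D7168 (iv D5932) (iv F17568)
def n7169 : Q := act 3 n5599
theorem D7169 : act 3 n5599 = n7169 := rfl
def n7170 : Q := act 6 n5599
theorem D7170 : act 6 n5599 = n7170 := rfl
theorem F22729 : act 2 n7170 = n5611 := d16_1 D7170 (iv D5611) (iv F17570)
theorem F22730 : act 7 n7170 = n5601 := d27_2 D5599 D7170 (iv D5601) (iv D4150) D4149
def n7171 : Q := act 4 n5600
theorem D7171 : act 4 n5600 = n7171 := rfl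
theorem F22731 : act 0 n7171 = n5702 := d3_1 D7171 (iv F22165) F22163
theorem F22732 : act 1 n7171 = n6918 := d9_1 D7171 F21871 F20686
theorem F22733 : act 2 n7171 = n6834 := d14_1 D7171 F21524 (iv F20667)
theorem F22734 : act 3 n7171 = n5688 := d18_1 D7171 F17828 (iv F17556) F17557 D5600
theorem F22735 : act 5 n7171 = n5603 := d22_2 (iv F17571) D7171 (iv D5603)
def n7172 : Q := act 6 n5600
theorem D7172 : act 6 n5600 = n7172 := rfl
theorem F22736 : act 3 n7172 = n5601 := d20_1 D7172 (iv D5601) D5600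
def n7173 : Q := act 5 n5601
theorem D7173 : act 5 n5601 = n7173 := rfl
theorem F22737 : act 2 n7173 = n5615 := d15_1 D7173 (iv D5615) (iv F17572)
theorem F22738 : act 6 n7173 = n5605 := d25_2 D5601 D7173 (iv D5605) (iv D4152) (iv F12873)
def n7174 : Q := act 4 n5602
theorem D7174 : act 4 n5602 = n7174 := rfl
theorem F22739 : act 2 n7174 = n5603 := d14_1 D7174 (iv D5603) D5602
theorem F22740 : act 3 n7174 = n6833 := d18_1 D7174 F21521 F19113 (iv D5617) (iv F17573)
theorem F22741 : act 5 n7174 = n6834 := d22_2 F20665 D7174 F21524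
def n7175 : Q := act 6 n5602
theorem D7175 : act 6 n5602 = n7175 := rfl
theorem F22742 : act 2 n7175 = n5604 := d16_1 D7175 (iv D5604) D5602
theorem F22743 : act 3 n7175 = n5618 := d20_1 D7175 (iv D5618) (iv F17573)
def n7176 : Q := act 6 n5603
theorem D7176 : act 6 n5603 = n7176 := rfl
theorem F22744 : act 1 n7176 = n5815 := d11_1 D7176 (iv D5815) (iv F17574)
theorem F22745 : act 4 n7176 = n5604 := d23_1 D7176 (iv D5604) D5603
def n7177 : Q := act 5 n5604
theorem D7177 : act 5 n5604 = n7177 := rfl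
theorem F22746 : act 3 n7177 = n5605 := d19_1 D7177 (iv D5605) (iv F17576)
def n7178 : Q := act 7 n5604
theorem D7178 : act 7 n5604 = n7178 := rfl
theorem F22747 : act 1 n7178 = n5817 := d12_1 D7178 (iv D5817) (iv F17575)
def n7179 : Q := act 1 n5605
theorem D7179 : act 1 n5605 = n7179 := rfl
theorem F22748 : act 5 n7179 = n5818 := d10_2 D5605 D7179 (iv D5818) (iv D4353) (iv F12875)
def n7180 : Q := act 3 n5606
theorem D7180 : act 3 n5606 = n7180 := rfl
theorem F22749 : act 1 n7180 = n5943 := d8_1 D7180 (iv D5943) (iv F17578)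
theorem F22750 : act 7 n7180 = n7180 := d21_2 D5606 D7180 (iv D7180) (iv D5606) F12878
def n7181 : Q := act 6 n5606
theorem D7181 : act 6 n5606 = n7181 := rfl
theorem F22751 : act 1 n7181 = n5944 := d11_1 D7181 (iv D5944) (iv F17578)
theorem F22752 : act 4 n7181 = n5611 := d23_1 D7181 (iv D5611) (iv F17579)
theorem F22753 : act 7 n7181 = n5607 := d27_2 D5606 D7181 (iv D5607) (iv D4154) D4153
def n7182 : Q := act 5 n5607
theorem D7182 : act 5 n5607 = n7182 := rfl
theorem F22754 : act 4 n7182 = n5615 := d22_1 D7182 (iv D5615) (iv F17581)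
theorem F22755 : act 6 n7182 = n5609 := d25_2 D5607 D7182 (iv D5609) (iv D4156) (iv F12882)
def n7183 : Q := act 5 n5608
theorem D7183 : act 5 n5608 = n7183 := rfl
theorem F22756 : act 0 n7183 = n7031 := d4_1 D7183 (iv D7031) (iv F17582)
theorem F22757 : act 3 n7183 = n5609 := d19_1 D7183 (iv D5609) (iv F17584)
theorem F22758 : act 4 n7183 = n7029 := d22_1 D7183 (iv D7029) (iv F17585)
def n7184 : Q := act 7 n5608
theorem D7184 : act 7 n5608 = n7184 := rfl
theorem F22759 : act 0 n7184 = n6323 := d6_1 D7184 F19802 (iv F17582)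
theorem F22760 : act 1 n7184 = n5641 := d12_1 D7184 (iv D5641) (iv F17583)
theorem F22761 : act 4 n7184 = n7030 := d24_1 D7184 (iv D7030) (iv F17585)
theorem F22762 : act 6 n7184 = n7184 := d27_1 D7184 (iv D7184) (iv D5608) F12885 D5608
def n7185 : Q := act 1 n5609
theorem D7185 : act 1 n5609 = n7185 := rfl
theorem F22763 : act 4 n7185 = n5622 := d9_2 (iv F17586) D7185 (iv D5622)
theorem F22764 : act 5 n7185 = n5642 := d10_2 D5609 D7185 (iv D5642) (iv D4175) (iv F12887)
def n7186 : Q := act 2 n5610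
theorem D7186 : act 2 n5610 = n7186 := rfl
theorem F22765 : act 0 n7186 = n6600 := d1_1 D7186 F20741 (iv F17587)
theorem F22766 : act 7 n7186 = n5623 := d17_2 (iv F17589) D7186 (iv D5623)
def n7187 : Q := act 4 n5610
theorem D7187 : act 4 n5610 = n7187 := rfl
theorem F22767 : act 0 n7187 = n6607 := d3_1 D7187 F20757 (iv F17587)
theorem F22768 : act 1 n7187 = n5953 := d9_1 D7187 (iv D5953) (iv F17588)
theorem F22769 : act 7 n7187 = n5624 := d24_2 (iv F17589) D7187 (iv D5624)
def n7188 : Q := act 6 n5610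
theorem D7188 : act 6 n5610 = n7188 := rfl
theorem F22770 : act 0 n7188 = n6614 := d5_1 D7188 (iv D6614) (iv F17587)
theorem F22771 : act 1 n7188 = n5954 := d11_1 D7188 (iv D5954) (iv F17588)
theorem F22772 : act 3 n7188 = n5611 := d20_1 D7188 (iv D5611) D5610
theorem F22773 : act 7 n7188 = n6489 := d27_2 (iv F17589) D7188 (iv D6489) (iv D4921) (iv F12903)
def n7189 : Q := act 5 n5611
theorem D7189 : act 5 n5611 = n7189 := rfl
theorem F22774 : act 7 n7189 = n5615 := d26_2 (iv F17591) D7189 (iv D5615)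
def n7190 : Q := act 6 n5612
theorem D7190 : act 6 n5612 = n7190 := rfl
theorem F22775 : act 2 n7190 = n5614 := d16_1 D7190 (iv D5614) D5612
def n7191 : Q := act 6 n5613
theorem D7191 : act 6 n5613 = n7191 := rfl
theorem F22776 : act 0 n7191 = n7022 := d5_1 D7191 (iv D7022) (iv F17594)
theorem F22777 : act 1 n7191 = n5957 := d11_1 D7191 (iv D5957) (iv F17595)
theorem F22778 : act 3 n7191 = n7028 := d20_1 D7191 (iv D7028) (iv F17596)
theorem F22779 : act 4 n7191 = n5614 := d23_1 D7191 (iv D5614) D5613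
def n7192 : Q := act 5 n5614
theorem D7192 : act 5 n5614 = n7192 := rfl
theorem F22780 : act 3 n7192 = n5615 := d19_1 D7192 (iv D5615) (iv F17600)
theorem F22781 : act 6 n7192 = n5620 := d25_2 D5614 D7192 (iv D5620) (iv D4162) (iv F12891)
def n7193 : Q := act 7 n5614
theorem D7193 : act 7 n5614 = n7193 := rfl
theorem F22782 : act 0 n7193 = n6617 := d6_1 D7193 (iv F22198) F22195
theorem F22783 : act 1 n7193 = n5959 := d12_1 D7193 (iv D5959) (iv F17599)
theorem F22784 : act 3 n7193 = n6489 := d21_1 D7193 (iv F22773) F22772 F17591 (iv F17600)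
theorem F22785 : act 6 n7193 = n5629 := d27_1 D7193 (iv D5629) (iv D4167) (iv F12892) D5614
def n7194 : Q := act 1 n5615
theorem D7194 : act 1 n5615 = n7194 := rfl
theorem F22786 : act 5 n7194 = n5960 := d10_2 D5615 D7194 (iv D5960) (iv D4472) (iv F12893)
theorem F22787 : act 6 n7194 = n5622 := d11_2 (iv F17601) D7194 (iv D5622)
def n7195 : Q := act 6 n5616
theorem D7195 : act 6 n5616 = n7195 := rfl
theorem F22788 : act 1 n7195 = n5618 := d11_1 D7195 (iv D5618) D5616
theorem F22789 : act 2 n7195 = n5644 := d16_1 D7195 (iv D5644) (iv F17602)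
def n7196 : Q := act 6 n5617
theorem D7196 : act 6 n5617 = n7196 := rfl
theorem F22790 : act 0 n7196 = n7015 := d5_1 D7196 (iv D7015) (iv F17604)
theorem F22791 : act 2 n7196 = n5619 := d16_1 D7196 (iv D5619) (iv F17605)
theorem F22792 : act 4 n7196 = n5618 := d23_1 D7196 (iv D5618) D5617
def n7197 : Q := act 5 n5618
theorem D7197 : act 5 n5618 = n7197 := rfl
theorem F22793 : act 2 n7197 = n5620 := d15_1 D7197 (iv D5620) (iv F17607)
def n7198 : Q := act 7 n5618
theorem D7198 : act 7 n5618 = n7198 := rfl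
theorem F22794 : act 2 n7198 = n5621 := d17_1 D7198 (iv D5621) (iv F17607)
theorem F22795 : act 6 n7198 = n5637 := d27_1 D7198 (iv D5637) (iv D4170) (iv F12894) D5618
def n7199 : Q := act 5 n5619
theorem D7199 : act 5 n5619 = n7199 := rfl
theorem F22796 : act 0 n7199 = n7023 := d4_1 D7199 (iv D7023) (iv F17608)
theorem F22797 : act 3 n7199 = n7029 := d19_1 D7199 (iv D7029) (iv F17610)
theorem F22798 : act 4 n7199 = n5620 := d22_1 D7199 (iv D5620) (iv F17611)
def n7200 : Q := act 7 n5619
theorem D7200 : act 7 n5619 = n7200 := rfl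
theorem F22799 : act 0 n7200 = n7024 := d6_1 D7200 (iv D7024) (iv F17608)
theorem F22800 : act 1 n7200 = n5647 := d12_1 D7200 (iv D5647) (iv F17609)
theorem F22801 : act 3 n7200 = n7112 := d21_1 D7200 (iv D7112) F22281 (iv D7030) (iv F17610)
theorem F22802 : act 4 n7200 = n5621 := d24_1 D7200 (iv D5621) (iv F17611)
theorem F22803 : act 6 n7200 = n5639 := d27_1 D7200 (iv D5639) (iv D4171) (iv F12898) D5619
def n7201 : Q := act 1 n5620
theorem D7201 : act 1 n5620 = n7201 := rfl
theorem F22804 : act 3 n7201 = n5622 := d8_2 (iv F17612) D7201 (iv D5622)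
theorem F22805 : act 5 n7201 = n5648 := d10_2 D5620 D7201 (iv D5648) (iv D4179) (iv F12899)
theorem F22806 : act 0 n5711 = n7201 := d4_3 F22805 F17708 (iv F17887)
theorem F22807 : act 7 n5691 = n7201 := d26_0 F22805 F17711 D5691
def n7202 : Q := act 7 n5620
theorem D7202 : act 7 n5620 = n7202 := rfl
theorem F22808 : act 1 n7202 = n5691 := d12_1 D7202 F22807 (iv D7201)
theorem F22809 : act 5 n7202 = n5621 := d26_1 D7202 (iv D5621) D5620
def n7203 : Q := act 0 n5622
theorem D7203 : act 0 n5622 = n7203 := rfl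
theorem F22810 : act 3 n7203 = n5711 := d2_2 F22804 D7203 F22806
theorem F22811 : act 5 n7203 = n5649 := d4_2 (iv F17615) D7203 (iv D5649)
def n7204 : Q := act 2 n5622
theorem D7204 : act 2 n5622 = n7204 := rfl
theorem F22812 : act 5 n7204 = n5650 := d15_2 (iv F17615) D7204 (iv D5650)
def n7205 : Q := act 1 n5623
theorem D7205 : act 1 n5623 = n7205 := rfl
theorem F22813 : act 2 n7205 = n5969 := d7_2 D5623 D7205 (iv D5969) (iv D4479) (iv F12902)
theorem F22814 : act 3 n7205 = n6994 := d8_2 (iv F17617) D7205 F22158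
theorem F22815 : act 6 n7205 = n6482 := d11_2 (iv F17618) D7205 (iv D6482)
def n7206 : Q := act 4 n5623
theorem D7206 : act 4 n5623 = n7206 := rfl
theorem F22816 : act 0 n7206 = n6593 := d3_1 D7206 F20719 (iv F17616)
theorem F22817 : act 2 n7206 = n5624 := d14_1 D7206 (iv D5624) D5623
theorem F22818 : act 5 n7206 = n7166 := d22_2 F21315 D7206 F22724
theorem F22819 : act 6 n7206 = n6480 := d23_2 (iv F17618) D7206 F20305
def n7207 : Q := act 6 n5626
theorem D7207 : act 6 n5626 = n7207 := rfl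
theorem F22820 : act 0 n7207 = n6627 := d5_1 D7207 (iv F22219) F22215
theorem F22821 : act 1 n7207 = n6526 := d11_1 D7207 (iv D6526) (iv F17627)
theorem F22822 : act 2 n7207 = n5628 := d16_1 D7207 (iv D5628) (iv F17628)
theorem F22823 : act 3 n7207 = n6529 := d20_1 D7207 (iv D6529) F17630
theorem F22824 : act 4 n7207 = n5627 := d23_1 D7207 (iv D5627) D5626
theorem F22825 : act 5 n7207 = n6495 := d29_5 F13523 (iv F17649) F17648 (iv F17629) D7207 (iv F21229) (iv D6745) F16038 F11703 (iv F12376) D5389 (iv F21969) F21971 (iv F22029) F20227 F15130 F10933 D4896 F18961 F18959 (iv F17507) F17506 (iv D5370) (iv D3963) (iv D2788) (iv F8537) F8538 (iv F9662) (iv F13524)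
theorem F22826 : act 7 n6848 = n7207 := d24_0 F22824 (iv F20164) (iv F21580)
def n7208 : Q := act 7 n5628
theorem D7208 : act 7 n5628 = n7208 := rfl
theorem F22827 : act 0 n7208 = n6616 := d6_1 D7208 F20782 (iv F17635)
theorem F22828 : act 1 n7208 = n5974 := d12_1 D7208 (iv D5974) (iv F17636)
theorem F22829 : act 2 n7208 = n6848 := d17_1 D7208 F22826 F22822
theorem F22830 : act 4 n7208 = n5629 := d24_1 D7208 (iv D5629) (iv F17638)
theorem F22831 : act 5 n7208 = n6491 := d26_1 D7208 F20340 F17639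
def n7209 : Q := act 6 n5630
theorem D7209 : act 6 n5630 = n7209 := rfl
theorem F22832 : act 0 n7209 = n5633 := d5_1 D7209 (iv D5633) D5630
theorem F22833 : act 1 n7209 = n7196 := d11_1 D7209 (iv D7196) (iv F17644)
theorem F22834 : act 2 n7209 = n5652 := d16_1 D7209 (iv D5652) (iv F17645)
theorem F22835 : act 4 n7209 = n7195 := d23_1 D7209 (iv D7195) F17646
def n7210 : Q := act 6 n5631
theorem D7210 : act 6 n5631 = n7210 := rfl
theorem F22836 : act 0 n7210 = n7195 := d5_1 D7210 (iv D7195) (iv F17647)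
theorem F22837 : act 1 n7210 = n5635 := d11_1 D7210 (iv D5635) (iv F17648)
theorem F22838 : act 2 n7210 = n5654 := d16_1 D7210 (iv D5654) (iv F17649)
theorem F22839 : act 3 n7210 = n6561 := d20_1 D7210 (iv D6561) F17651
theorem F22840 : act 4 n7210 = n5633 := d23_1 D7210 (iv D5633) D5631
def n7211 : Q := act 6 n5632
theorem D7211 : act 6 n5632 = n7211 := rfl
theorem F22841 : act 1 n7211 = n6551 := d11_1 D7211 (iv D6551) (iv F17653)
theorem F22842 : act 2 n7211 = n5655 := d16_1 D7211 (iv D5655) (iv F17654)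
theorem F22843 : act 4 n7211 = n6550 := d23_1 D7211 (iv D6550) (iv F17655)
def n7212 : Q := act 5 n5633
theorem D7212 : act 5 n5633 = n7212 := rfl
theorem F22844 : act 2 n7212 = n5656 := d15_1 D7212 (iv D5656) (iv F17657)
def n7213 : Q := act 7 n5633
theorem D7213 : act 7 n5633 = n7213 := rfl
theorem F22845 : act 1 n7213 = n5637 := d12_1 D7213 (iv D5637) (iv F17656)
theorem F22846 : act 2 n7213 = n5657 := d17_1 D7213 (iv D5657) (iv F17657)
def n7214 : Q := act 6 n5634
theorem D7214 : act 6 n5634 = n7214 := rfl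
theorem F22847 : act 1 n7214 = n6561 := d11_1 D7214 (iv D6561) (iv F17658)
theorem F22848 : act 2 n7214 = n7214 := d16_1 D7214 (iv D7214) F17659
theorem F22849 : act 3 n7214 = n5635 := d20_1 D7214 (iv D5635) D5634
def n7215 : Q := act 5 n5635
theorem D7215 : act 5 n5635 = n7215 := rfl
theorem F22850 : act 0 n7215 = n6633 := d4_1 D7215 (iv F22239) F22235
theorem F22851 : act 2 n7215 = n5638 := d15_1 D7215 (iv D5638) (iv F17662)
theorem F22852 : act 4 n7215 = n5636 := d22_1 D7215 (iv D5636) (iv F17663)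
theorem F22853 : act 6 n7215 = n6495 := d25_2 D5635 D7215 (iv F22825) (iv D7207) F17629
def n7216 : Q := act 7 n5635
theorem D7216 : act 7 n5635 = n7216 := rfl
theorem F22854 : act 2 n7216 = n5639 := d17_1 D7216 (iv D5639) (iv F17662)
theorem F22855 : act 4 n7216 = n5637 := d24_1 D7216 (iv D5637) (iv F17663)
def n7217 : Q := act 1 n5636
theorem D7217 : act 1 n5636 = n7217 := rfl
theorem F22856 : act 2 n7217 = n6503 := d7_2 (iv F17665) D7217 F20374 F15263 (iv F12919)
theorem F22857 : act 3 n7217 = n7015 := d8_2 (iv F17666) D7217 F22227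
theorem F22858 : act 6 n7217 = n6494 := d11_2 (iv F17667) D7217 (iv D6494)
def n7218 : Q := act 3 n5637
theorem D7218 : act 3 n5637 = n7218 := rfl
def n7219 : Q := act 3 n5639
theorem D7219 : act 3 n5639 = n7219 := rfl
theorem F22859 : act 1 n7219 = n5661 := d8_1 D7219 (iv D5661) (iv F17674)
theorem F22860 : act 6 n7219 = n7112 := d20_2 F22803 D7219 (iv F22801)
theorem F22861 : act 7 n7219 = n7219 := d21_2 D5639 D7219 (iv D7219) (iv D5639) F12916
def n7220 : Q := act 1 n5640
theorem D7220 : act 1 n5640 = n7220 := rfl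
theorem F22862 : act 3 n7220 = n5642 := d8_2 (iv F17678) D7220 (iv D5642)
theorem F22863 : act 4 n7220 = n7045 := d9_2 (iv F17679) D7220 (iv D7045)
theorem F22864 : act 6 n7220 = n5979 := d11_2 (iv F17680) D7220 (iv D5979)
theorem F22865 : act 7 n7220 = n7090 := d12_2 (iv F17681) D7220 F22453
def n7221 : Q := act 0 n5642
theorem D7221 : act 0 n5642 = n7221 := rfl
theorem F22866 : act 1 n7221 = n5685 := d0_2 D5642 D7221 (iv D5685) (iv D4208) (iv F12927)
theorem F22867 : act 4 n7221 = n5649 := d3_2 (iv F17687) D7221 (iv D5649)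
theorem F22868 : act 6 n7221 = n5913 := d5_2 (iv F17688) D7221 F18507
def n7222 : Q := act 2 n5642
theorem D7222 : act 2 n5642 = n7222 := rfl
theorem F22869 : act 1 n7222 = n5839 := d7_1 D7222 (iv D5839) (iv D4374) (iv F12928) D5642
theorem F22870 : act 4 n7222 = n5650 := d14_2 (iv F17687) D7222 (iv D5650)
theorem F22871 : act 6 n7222 = n5981 := d16_2 (iv F17688) D7222 (iv D5981)
def n7223 : Q := act 6 n5643
theorem D7223 : act 6 n5643 = n7223 := rfl
theorem F22872 : act 1 n7223 = n5986 := d11_1 D7223 (iv D5986) (iv F17689)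
theorem F22873 : act 3 n7223 = n5843 := d20_1 D7223 (iv D5843) (iv F17690)
def n7224 : Q := act 5 n5644
theorem D7224 : act 5 n5644 = n7224 := rfl
theorem F22874 : act 3 n7224 = n5844 := d19_1 D7224 (iv D5844) (iv F17693)
def n7225 : Q := act 7 n5644
theorem D7225 : act 7 n5644 = n7225 := rfl
theorem F22875 : act 1 n7225 = n5645 := d12_1 D7225 (iv D5645) (iv F17692)
theorem F22876 : act 6 n7225 = n5657 := d27_1 D7225 (iv D5657) (iv D4185) (iv F12932) D5644
def n7226 : Q := act 1 n5646
theorem D7226 : act 1 n5646 = n7226 := rfl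
theorem F22877 : act 0 n7226 = n5705 := d0_1 D7226 F17871 F13122 (iv F13023) (iv F17698)
theorem F22878 : act 3 n7226 = n7045 := d8_2 (iv F17699) D7226 (iv D7045)
theorem F22879 : act 4 n7226 = n5648 := d9_2 (iv F17700) D7226 (iv D5648)
theorem F22880 : act 6 n7226 = n5876 := d11_2 (iv F17701) D7226 F18394
theorem F22881 : act 7 n7226 = n5689 := d12_2 (iv F17702) D7226 F17831
def n7227 : Q := act 2 n5648
theorem D7227 : act 2 n5648 = n7227 := rfl
theorem F22882 : act 0 n7227 = n5709 := d1_1 D7227 F17882 (iv F17708)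
theorem F22883 : act 6 n7227 = n5881 := d16_2 (iv F17710) D7227 F18410
theorem F22884 : act 7 n7227 = n5690 := d17_2 (iv F17711) D7227 F17835
def n7228 : Q := act 2 n5649
theorem D7228 : act 2 n5649 = n7228 := rfl
theorem F22885 : act 0 n7228 = n5650 := d1_1 D7228 (iv D5650) D5649
theorem F22886 : act 6 n7228 = n5912 := d16_2 (iv F17714) D7228 (iv D5912)
def n7229 : Q := act 3 n5650
theorem D7229 : act 3 n5650 = n7229 := rfl
theorem F22887 : act 1 n7229 = n5845 := d8_1 D7229 (iv D5845) (iv F17715)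
theorem F22888 : act 6 n7229 = n5988 := d20_2 (iv F17716) D7229 (iv D5988)
def n7230 : Q := act 6 n5651
theorem D7230 : act 6 n5651 = n7230 := rfl
theorem F22889 : act 0 n7230 = n5655 := d5_1 D7230 (iv D5655) (iv F17717)
theorem F22890 : act 3 n7230 = n5665 := d20_1 D7230 (iv D5665) (iv F17718)
theorem F22891 : act 4 n7230 = n7223 := d23_1 D7230 (iv D7223) (iv F17719)
def n7231 : Q := act 5 n5652
theorem D7231 : act 5 n5652 = n7231 := rfl
theorem F22892 : act 0 n7231 = n5656 := d4_1 D7231 (iv D5656) (iv F17720)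
theorem F22893 : act 3 n7231 = n5666 := d19_1 D7231 (iv D5666) (iv F17722)
theorem F22894 : act 4 n7231 = n7224 := d22_1 D7231 (iv D7224) (iv F17723)
def n7232 : Q := act 7 n5652
theorem D7232 : act 7 n5652 = n7232 := rfl
theorem F22895 : act 0 n7232 = n5657 := d6_1 D7232 (iv D5657) (iv F17720)
theorem F22896 : act 1 n7232 = n5679 := d12_1 D7232 F17801 (iv F17721)
theorem F22897 : act 3 n7232 = n5678 := d21_1 D7232 (iv D5678) (iv F17743) F17746 (iv F17722)
theorem F22898 : act 4 n7232 = n7225 := d24_1 D7232 (iv D7225) (iv F17723)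
def n7233 : Q := act 6 n5653
theorem D7233 : act 6 n5653 = n7233 := rfl
theorem F22899 : act 0 n7233 = n7223 := d5_1 D7233 (iv D7223) (iv F17724)
theorem F22900 : act 1 n7233 = n5991 := d11_1 D7233 (iv D5991) (iv F17725)
theorem F22901 : act 2 n7233 = n6550 := d16_1 D7233 (iv D6550) (iv F17726)
theorem F22902 : act 3 n7233 = n7084 := d20_1 D7233 (iv D7084) (iv F17727)
theorem F22903 : act 4 n7233 = n5655 := d23_1 D7233 (iv D5655) (iv F17728)
def n7234 : Q := act 5 n5654
theorem D7234 : act 5 n5654 = n7234 := rfl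
theorem F22904 : act 0 n7234 = n7224 := d4_1 D7234 (iv D7224) (iv F17730)
theorem F22905 : act 1 n7234 = n6112 := d10_1 D7234 (iv D6112) F14305 (iv F12960) (iv F17731)
theorem F22906 : act 4 n7234 = n5656 := d22_1 D7234 (iv D5656) (iv F17732)
def n7235 : Q := act 7 n5654
theorem D7235 : act 7 n5654 = n7235 := rfl
theorem F22907 : act 0 n7235 = n7225 := d6_1 D7235 (iv D7225) (iv F17730)
theorem F22908 : act 1 n7235 = n5658 := d12_1 D7235 (iv D5658) (iv F17731)
theorem F22909 : act 3 n7235 = n6178 := d21_1 D7235 (iv D6178) (iv F19339) F19341 F18286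
theorem F22910 : act 4 n7235 = n5657 := d24_1 D7235 (iv D5657) (iv F17732)
theorem F22911 : act 6 n7235 = n7232 := d27_1 D7235 (iv D7232) (iv D5652) (iv F12952) D5654
def n7236 : Q := act 5 n5655
theorem D7236 : act 5 n5655 = n7236 := rfl
theorem F22912 : act 3 n7236 = n5672 := d19_1 D7236 (iv D5672) (iv F17734)
theorem F22913 : act 6 n7236 = n5656 := d25_2 D5655 D7236 (iv D5656) (iv D4185) D4184
def n7237 : Q := act 7 n5655
theorem D7237 : act 7 n5655 = n7237 := rfl
theorem F22914 : act 1 n7237 = n5993 := d12_1 D7237 (iv D5993) (iv F17733)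
def n7238 : Q := act 1 n5656
theorem D7238 : act 1 n5656 = n7238 := rfl
theorem F22915 : act 3 n7238 = n5674 := d8_2 (iv F17735) D7238 (iv D5674)
theorem F22916 : act 4 n7238 = n6112 := d9_2 F22906 D7238 (iv F22905)
theorem F22917 : act 5 n7238 = n5659 := d10_2 D5656 D7238 (iv D5659) (iv D4187) (iv F12955)
theorem F22918 : act 0 n5675 = n7238 := d4_3 F22917 F17742 (iv F17789)
theorem F22919 : act 7 n5666 = n7238 := d26_0 F22917 F17746 D5666
def n7239 : Q := act 7 n5656
theorem D7239 : act 7 n5656 = n7239 := rfl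
theorem F22920 : act 1 n7239 = n5666 := d12_1 D7239 F22919 (iv D7238)
theorem F22921 : act 5 n7239 = n5657 := d26_1 D7239 (iv D5657) D5656
def n7240 : Q := act 3 n5657
theorem D7240 : act 3 n5657 = n7240 := rfl
theorem F22922 : act 0 n7240 = n5678 := d2_1 D7240 (iv F22897) F22895
theorem F22923 : act 1 n7240 = n5660 := d8_1 D7240 (iv D5660) (iv F17736)
theorem F22924 : act 4 n7240 = n6116 := d18_2 F22910 D7240 F19189 (iv F19349) (iv F22909)
theorem F22925 : act 7 n7240 = n5676 := d21_2 D5657 D7240 (iv D5676) (iv D4198) (iv F12956)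
def n7241 : Q := act 6 n5662
theorem D7241 : act 6 n5662 = n7241 := rfl
theorem F22926 : act 0 n7241 = n5670 := d5_1 D7241 (iv D5670) (iv F17757)
theorem F22927 : act 4 n7241 = n5665 := d23_1 D7241 (iv D5665) (iv F17758)
def n7242 : Q := act 5 n5663
theorem D7242 : act 5 n5663 = n7242 := rfl
theorem F22928 : act 0 n7242 = n5671 := d4_1 D7242 (iv D5671) (iv F17760)
theorem F22929 : act 4 n7242 = n5666 := d22_1 D7242 (iv D5666) (iv F17762)
theorem F22930 : act 7 n7242 = n6112 := d26_2 (iv F17763) D7242 (iv D6112)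
def n7243 : Q := act 6 n5664
theorem D7243 : act 6 n5664 = n7243 := rfl
theorem F22931 : act 0 n7243 = n5995 := d5_1 D7243 (iv D5995) (iv F17764)
theorem F22932 : act 1 n7243 = n5665 := d11_1 D7243 (iv D5665) D5664
def n7244 : Q := act 5 n5665
theorem D7244 : act 5 n5665 = n7244 := rfl
theorem F22933 : act 0 n7244 = n5672 := d4_1 D7244 (iv D5672) (iv F17767)
theorem F22934 : act 6 n7244 = n5666 := d25_2 D5665 D7244 (iv D5666) (iv D4192) D4191
def n7245 : Q := act 7 n5665
theorem D7245 : act 7 n5665 = n7245 := rfl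
theorem F22935 : act 0 n7245 = n5673 := d6_1 D7245 (iv D5673) (iv F17767)
theorem F22936 : act 6 n7245 = n5855 := d27_1 D7245 (iv D5855) (iv D4388) (iv F12977) D5665
def n7246 : Q := act 6 n5667
theorem D7246 : act 6 n5667 = n7246 := rfl
theorem F22937 : act 1 n7246 = n7246 := d11_1 D7246 (iv D7246) F17769
theorem F22938 : act 2 n7246 = n5669 := d16_1 D7246 (iv D5669) D5667
theorem F22939 : act 4 n7246 = n7091 := d23_1 D7246 (iv D7091) (iv F17770)
def n7247 : Q := act 6 n5668
theorem D7247 : act 6 n5668 = n7247 := rfl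
theorem F22940 : act 1 n7247 = n5998 := d11_1 D7247 (iv D5998) (iv F17773)
theorem F22941 : act 2 n7247 = n7090 := d16_1 D7247 (iv D7090) (iv F17774)
theorem F22942 : act 3 n7247 = n5670 := d20_1 D7247 (iv D5670) (iv F17775)
theorem F22943 : act 4 n7247 = n7084 := d23_1 D7247 (iv D7084) (iv F17776)
def n7248 : Q := act 5 n5669
theorem D7248 : act 5 n5669 = n7248 := rfl
theorem F22944 : act 3 n7248 = n5671 := d19_1 D7248 (iv D5671) (iv F17779)
def n7249 : Q := act 5 n5670
theorem D7249 : act 5 n5670 = n7249 := rfl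
theorem F22945 : act 4 n7249 = n5672 := d22_1 D7249 (iv D5672) (iv F17781)
theorem F22946 : act 6 n7249 = n5671 := d25_2 D5670 D7249 (iv D5671) (iv D4195) D4194
def n7250 : Q := act 7 n5670
theorem D7250 : act 7 n5670 = n7250 := rfl
theorem F22947 : act 1 n7250 = n6001 := d12_1 D7250 (iv D6001) (iv F17780)
theorem F22948 : act 4 n7250 = n5673 := d24_1 D7250 (iv D5673) (iv F17781)
theorem F22949 : act 6 n7250 = n5858 := d27_1 D7250 (iv D5858) (iv D4391) (iv F12984) D5670
def n7251 : Q := act 1 n5672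
theorem D7251 : act 1 n5672 = n7251 := rfl
theorem F22950 : act 5 n7251 = n6002 := d10_2 D5672 D7251 (iv D6002) (iv D4518) (iv F12988)
theorem F22951 : act 6 n7251 = n5674 := d11_2 (iv F17784) D7251 (iv D5674)
def n7252 : Q := act 7 n5672
theorem D7252 : act 7 n5672 = n7252 := rfl
theorem F22952 : act 5 n7252 = n5673 := d26_1 D7252 (iv D5673) D5672
def n7253 : Q := act 3 n5673
theorem D7253 : act 3 n5673 = n7253 := rfl
theorem F22953 : act 1 n7253 = n6004 := d8_1 D7253 (iv D6004) (iv F17785)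
theorem F22954 : act 6 n7253 = n5860 := d20_2 (iv F17786) D7253 (iv D5860)
def n7254 : Q := act 0 n5674
theorem D7254 : act 0 n5674 = n7254 := rfl
theorem F22955 : act 3 n7254 = n5675 := d2_2 F22915 D7254 F22918
theorem F22956 : act 5 n7254 = n5676 := d4_2 (iv F17787) D7254 F17790
def n7255 : Q := act 2 n5674
theorem D7255 : act 2 n5674 = n7255 := rfl
theorem F22957 : act 5 n7255 = n5677 := d15_2 (iv F17787) D7255 (iv D5677)
def n7256 : Q := act 7 n5674
theorem D7256 : act 7 n5674 = n7256 := rfl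
theorem F22958 : act 1 n7256 = n5675 := d12_1 D7256 (iv D5675) D5674
theorem F22959 : act 4 n7256 = n6115 := d24_1 D7256 F19187 F18879
theorem F22960 : act 5 n7256 = n5678 := d26_1 D7256 (iv D5678) (iv F17787)
def n7257 : Q := act 6 n5675
theorem D7257 : act 6 n5675 = n7257 := rfl
theorem F22961 : act 4 n7257 = n6113 := d23_1 D7257 F19184 (iv F17788)
theorem F22962 : act 5 n7257 = n5862 := d25_1 D7257 (iv D5862) F13573 (iv F12991) (iv F17789)
def n7258 : Q := act 2 n5676
theorem D7258 : act 2 n5676 = n7258 := rfl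
theorem F22963 : act 0 n7258 = n5677 := d1_1 D7258 (iv D5677) (iv F17790)
theorem F22964 : act 6 n7258 = n5863 := d16_2 (iv F17792) D7258 (iv D5863)
def n7259 : Q := act 3 n5677
theorem D7259 : act 3 n5677 = n7259 := rfl
theorem F22965 : act 1 n7259 = n5680 := d8_1 D7259 (iv D5680) (iv F17793)
theorem F22966 : act 2 n7259 = n6507 := d13_1 D7259 F20933 F20930 F17743 D5677
theorem F22967 : act 6 n7259 = n6006 := d20_2 (iv F17794) D7259 (iv D6006)
theorem F22968 : act 4 n6587 = n7259 := d23_3 F22967 (iv F18837) D6587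
def n7260 : Q := act 7 n5677
theorem D7260 : act 7 n5677 = n7260 := rfl
theorem F22969 : act 1 n7260 = n5681 := d12_1 D7260 (iv D5681) (iv F17793)
theorem F22970 : act 2 n7260 = n5678 := d17_1 D7260 (iv D5678) D5677
theorem F22971 : act 4 n7260 = n6117 := d24_1 D7260 F19193 F18877
def n7261 : Q := act 4 n5680
theorem D7261 : act 4 n5680 = n7261 := rfl
theorem F22972 : act 1 n7261 = n6587 := d9_1 D7261 F22968 F22965
theorem F22973 : act 2 n7261 = n5682 := d14_1 D7261 (iv D5682) (iv F17803)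
theorem F22974 : act 5 n7261 = n7043 := d22_2 (iv F17804) D7261 F22312
theorem F22975 : act 6 n7261 = n6007 := d23_2 (iv F17805) D7261 (iv D6007)
def n7262 : Q := act 7 n5680
theorem D7262 : act 7 n5680 = n7262 := rfl
theorem F22976 : act 2 n7262 = n5683 := d17_1 D7262 (iv D5683) (iv F17803)
theorem F22977 : act 5 n7262 = n7044 := d26_1 D7262 (iv D7044) (iv F17804)
def n7263 : Q := act 3 n5681
theorem D7263 : act 3 n5681 = n7263 := rfl
def n7264 : Q := act 7 n5682
theorem D7264 : act 7 n5682 = n7264 := rfl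
theorem F22978 : act 0 n7264 = n6086 := d6_1 D7264 (iv F20623) F20618
theorem F22979 : act 1 n7264 = n6271 := d12_1 D7264 F19625 (iv F17808)
theorem F22980 : act 4 n7264 = n5683 := d24_1 D7264 (iv D5683) D5682
theorem F22981 : act 5 n7264 = n6107 := d26_1 D7264 F19176 (iv F17810)
theorem F22982 : act 6 n7264 = n6802 := d27_1 D7264 (iv D6802) (iv D5231) F14003 (iv F17811)
theorem F22983 : act 3 n6087 = n7264 := d20_3 F22982 (iv F21483) F21485
def n7265 : Q := act 6 n5683
theorem D7265 : act 6 n5683 = n7265 := rfl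
theorem F22984 : act 1 n7265 = n6510 := d11_1 D7265 (iv D6510) (iv F17812)
theorem F22985 : act 4 n7265 = n6802 := d23_1 D7265 (iv F22982) F22980
theorem F22986 : act 7 n7265 = n6011 := d27_2 D5683 D7265 (iv D6011) (iv D4526) (iv F13007)
def n7266 : Q := act 0 n5684
theorem D7266 : act 0 n5684 = n7266 := rfl
theorem F22987 : act 3 n7266 = n5685 := d2_2 (iv F17814) D7266 (iv D5685)
theorem F22988 : act 4 n7266 = n5706 := d3_2 (iv F17815) D7266 F17874
theorem F22989 : act 5 n7266 = n7046 := d4_2 (iv F17816) D7266 (iv D7046)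
theorem F22990 : act 6 n7266 = n5901 := d5_2 (iv F17817) D7266 F18480
theorem F22991 : act 7 n7266 = n7116 := d6_2 (iv F17818) D7266 F22532
def n7267 : Q := act 6 n5686
theorem D7267 : act 6 n5686 = n7267 := rfl
theorem F22992 : act 0 n7267 = n6015 := d5_1 D7267 (iv D6015) (iv F17821)
theorem F22993 : act 1 n7267 = n5690 := d11_1 D7267 (iv D5690) (iv F17822)
theorem F22994 : act 2 n7267 = n5687 := d16_1 D7267 (iv D5687) D5686
theorem F22995 : act 4 n7267 = n7258 := d23_1 D7267 F22964 F18352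
def n7268 : Q := act 5 n5687
theorem D7268 : act 5 n5687 = n7268 := rfl
theorem F22996 : act 0 n7268 = n6016 := d4_1 D7268 (iv D6016) (iv F17824)
theorem F22997 : act 4 n7268 = n7254 := d22_1 D7268 F22956 (iv F17826)
def n7269 : Q := act 6 n5688
theorem D7269 : act 6 n5688 = n7269 := rfl
theorem F22998 : act 0 n7269 = n5703 := d5_1 D7269 (iv D5703) (iv F17827)
theorem F22999 : act 1 n7269 = n7258 := d11_1 D7269 F22964 F18351
theorem F23000 : act 2 n7269 = n5689 := d16_1 D7269 (iv D5689) D5688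
theorem F23001 : act 4 n7269 = n5690 := d23_1 D7269 (iv D5690) (iv F17828)
def n7270 : Q := act 5 n5689
theorem D7270 : act 5 n5689 = n7270 := rfl
theorem F23002 : act 0 n7270 = n5704 := d4_1 D7270 (iv D5704) (iv F17830)
theorem F23003 : act 3 n7270 = n7107 := d19_1 D7270 F22502 (iv F17832)
theorem F23004 : act 4 n7270 = n5691 := d22_1 D7270 (iv D5691) (iv F17833)
def n7271 : Q := act 5 n5690
theorem D7271 : act 5 n5690 = n7271 := rfl
theorem F23005 : act 0 n7271 = n5708 := d4_1 D7271 (iv D5708) (iv F17834)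
theorem F23006 : act 2 n7271 = n5691 := d15_1 D7271 (iv D5691) (iv F17835)
def n7272 : Q := act 5 n5693
theorem D7272 : act 5 n5693 = n7272 := rfl
theorem F23007 : act 0 n7272 = n5696 := d4_1 D7272 (iv D5696) (iv F17842)
def n7273 : Q := act 5 n5695
theorem D7273 : act 5 n5695 = n7273 := rfl
theorem F23008 : act 3 n7273 = n5696 := d19_1 D7273 (iv D5696) D5695
def n7274 : Q := act 6 n5696
theorem D7274 : act 6 n5696 = n7274 := rfl
theorem F23009 : act 1 n7274 = n6751 := d11_1 D7274 F21252 F17869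
theorem F23010 : act 4 n7274 = n6757 := d23_1 D7274 F21270 F17885
theorem F23011 : act 5 n7274 = n5715 := d25_1 D7274 (iv D5715) (iv D4255) (iv F13094) D5696
def n7275 : Q := act 7 n5696
theorem D7275 : act 7 n5696 = n7275 := rfl
theorem F23012 : act 4 n7275 = n6333 := d24_1 D7275 F19838 F17885
theorem F23013 : act 5 n7275 = n5697 := d26_1 D7275 (iv D5697) D5696
def n7276 : Q := act 3 n5700
theorem D7276 : act 3 n5700 = n7276 := rfl
theorem F23014 : act 0 n7276 = n6834 := d2_1 D7276 (iv D6834) (iv F17858)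
theorem F23015 : act 1 n7276 = n6531 := d8_1 D7276 F20487 (iv F17859)
theorem F23016 : act 2 n7276 = n5702 := d13_1 D7276 (iv D5702) (iv D4238) (iv F13109) D5700
theorem F23017 : act 6 n6566 = n7276 := d11_0 F23015 F20488 D6566
def n7277 : Q := act 6 n5700
theorem D7277 : act 6 n5700 = n7277 := rfl
theorem F23018 : act 0 n7277 = n6563 := d5_1 D7277 F20602 (iv F17858)
theorem F23019 : act 1 n7277 = n6552 := d11_1 D7277 F20569 (iv F17859)
theorem F23020 : act 2 n7277 = n5701 := d16_1 D7277 (iv D5701) D5700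
theorem F23021 : act 3 n7277 = n6566 := d20_1 D7277 F23017 (iv D7276)
theorem F23022 : act 7 n7277 = n6557 := d27_2 (iv F17860) D7277 (iv D6557) F15500 D5256
def n7278 : Q := act 5 n5701
theorem D7278 : act 5 n5701 = n7278 := rfl
theorem F23023 : act 0 n7278 = n7107 := d4_1 D7278 F22502 (iv F17861)
theorem F23024 : act 1 n7278 = n7273 := d10_1 D7278 (iv D7273) F17847 (iv F13113) (iv F17862)
theorem F23025 : act 3 n7278 = n5704 := d19_1 D7278 (iv D5704) (iv F17863)
theorem F23026 : act 7 n7278 = n7098 := d26_2 (iv F17864) D7278 (iv D7098)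
def n7279 : Q := act 6 n5702
theorem D7279 : act 6 n5702 = n7279 := rfl
theorem F23027 : act 1 n7279 = n6022 := d11_1 D7279 (iv D6022) (iv F17865)
theorem F23028 : act 2 n7279 = n6566 := d16_1 D7279 F23017 F23016
theorem F23029 : act 3 n7279 = n5703 := d20_1 D7279 (iv D5703) D5702
def n7280 : Q := act 7 n5702
theorem D7280 : act 7 n5702 = n7280 := rfl
theorem F23030 : act 1 n7280 = n6023 := d12_1 D7280 (iv D6023) (iv F17865)
theorem F23031 : act 3 n7280 = n5895 := d21_1 D7280 (iv D5895) (iv D4423) (iv F13119) D5702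
def n7281 : Q := act 5 n5703
theorem D7281 : act 5 n5703 = n7281 := rfl
theorem F23032 : act 2 n7281 = n5704 := d15_1 D7281 (iv D5704) (iv F17867)
theorem F23033 : act 4 n7281 = n5708 := d22_1 D7281 (iv D5708) (iv F17868)
def n7282 : Q := act 7 n5703
theorem D7282 : act 7 n5703 = n7282 := rfl
theorem F23034 : act 1 n7282 = n6025 := d12_1 D7282 (iv D6025) (iv F17866)
theorem F23035 : act 2 n7282 = n5705 := d17_1 D7282 (iv D5705) (iv F17867)
theorem F23036 : act 4 n7282 = n5709 := d24_1 D7282 (iv D5709) (iv F17868)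
theorem F23037 : act 6 n7282 = n5897 := d27_1 D7282 (iv D5897) (iv D4424) (iv F13119) D5703
def n7283 : Q := act 7 n5704
theorem D7283 : act 7 n5704 = n7283 := rfl
theorem F23038 : act 1 n7283 = n7275 := d12_1 D7283 (iv D7275) (iv F17869)
theorem F23039 : act 4 n7283 = n5711 := d24_1 D7283 (iv D5711) (iv F17870)
theorem F23040 : act 5 n7283 = n5705 := d26_1 D7283 (iv D5705) D5704
def n7284 : Q := act 3 n5705
theorem D7284 : act 3 n5705 = n7284 := rfl
theorem F23041 : act 0 n7284 = n7045 := d2_1 D7284 (iv F22878) F22877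
theorem F23042 : act 1 n7284 = n5706 := d8_1 D7284 (iv D5706) (iv F17871)
theorem F23043 : act 6 n7284 = n5899 := d20_2 (iv F17873) D7284 (iv D5899)
theorem F23044 : act 7 n7284 = n7088 := d21_2 D5705 D7284 F22447 (iv F17864) F17863
def n7285 : Q := act 5 n5707
theorem D7285 : act 5 n5707 = n7285 := rfl
theorem F23045 : act 3 n7285 = n5708 := d19_1 D7285 (iv D5708) (iv F17879)
def n7286 : Q := act 7 n5707
theorem D7286 : act 7 n5707 = n7286 := rfl
theorem F23046 : act 1 n7286 = n6029 := d12_1 D7286 (iv D6029) (iv F17878)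
def n7287 : Q := act 1 n5708
theorem D7287 : act 1 n5708 = n7287 := rfl
theorem F23047 : act 5 n7287 = n6031 := d10_2 D5708 D7287 (iv D6031) (iv D4548) (iv F13128)
def n7288 : Q := act 7 n5708
theorem D7288 : act 7 n5708 = n7288 := rfl
theorem F23048 : act 2 n7288 = n5711 := d17_1 D7288 (iv D5711) (iv F17880)
theorem F23049 : act 5 n7288 = n5709 := d26_1 D7288 (iv D5709) D5708
def n7289 : Q := act 3 n5709
theorem D7289 : act 3 n5709 = n7289 := rfl
theorem F23050 : act 1 n7289 = n6033 := d8_1 D7289 (iv D6033) (iv F17881)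
theorem F23051 : act 6 n7289 = n5909 := d20_2 (iv F17883) D7289 (iv D5909)
def n7290 : Q := act 0 n5710
theorem D7290 : act 0 n5710 = n7290 := rfl
theorem F23052 : act 3 n7290 = n7143 := d2_2 (iv F17884) D7290 F22646
theorem F23053 : act 4 n7290 = n7272 := d3_2 (iv F17885) D7290 F23007
theorem F23054 : act 5 n7290 = n5712 := d4_2 (iv F17886) D7290 (iv D5712)
def n7291 : Q := act 2 n5710
theorem D7291 : act 2 n5710 = n7291 := rfl
theorem F23055 : act 4 n7291 = n6740 := d14_2 (iv F17885) D7291 F21205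
theorem F23056 : act 5 n7291 = n5713 := d15_2 (iv F17886) D7291 (iv D5713)
def n7292 : Q := act 6 n5711
theorem D7292 : act 6 n5711 = n7292 := rfl
theorem F23057 : act 5 n7292 = n5911 := d25_1 D7292 (iv D5911) F13697 (iv F13131) (iv F17887)
def n7293 : Q := act 7 n5715
theorem D7293 : act 7 n5715 = n7293 := rfl
theorem F23058 : act 1 n7293 = n6036 := d12_1 D7293 (iv D6036) (iv F17901)
theorem F23059 : act 4 n7293 = n6762 := d24_1 D7293 (iv D6762) (iv F17902)
theorem F23060 : act 6 n7293 = n7293 := d27_1 D7293 (iv D7293) (iv D5715) F13167 D5715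
def n7294 : Q := act 3 n5717
theorem D7294 : act 3 n5717 = n7294 := rfl
theorem F23061 : act 0 n7294 = n7075 := d2_1 D7294 F22408 (iv F17906)
theorem F23062 : act 1 n7294 = n5719 := d8_1 D7294 (iv D5719) (iv F17907)
theorem F23063 : act 4 n7294 = n5730 := d18_2 (iv F17908) D7294 (iv D5730) F13210 (iv F13183)
theorem F23064 : act 7 n7294 = n7294 := d21_2 D5717 D7294 (iv D7294) (iv D5717) F13177
def n7295 : Q := act 6 n5717
theorem D7295 : act 6 n5717 = n7295 := rfl
theorem F23065 : act 0 n7295 = n7082 := d5_1 D7295 (iv D7082) (iv F17906)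
theorem F23066 : act 1 n7295 = n5720 := d11_1 D7295 (iv D5720) (iv F17907)
theorem F23067 : act 4 n7295 = n5718 := d23_1 D7295 (iv D5718) (iv F17908)
def n7296 : Q := act 5 n5718
theorem D7296 : act 5 n5718 = n7296 := rfl
theorem F23068 : act 0 n7296 = n7083 := d4_1 D7296 (iv D7083) (iv F17909)
theorem F23069 : act 3 n7296 = n5734 := d19_1 D7296 (iv D5734) (iv F17911)
def n7297 : Q := act 2 n5719
theorem D7297 : act 2 n5719 = n7297 := rfl
theorem F23070 : act 0 n7297 = n5721 := d1_1 D7297 (iv D5721) (iv F17912)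
theorem F23071 : act 3 n7297 = n5774 := d13_2 D5719 D7297 F18094 (iv F17502) F17501
theorem F23072 : act 4 n7297 = n5735 := d14_2 (iv F17913) D7297 (iv D5735)
theorem F23073 : act 5 n7297 = n5775 := d15_2 (iv F17914) D7297 F18099
theorem F23074 : act 7 n7297 = n7297 := d17_2 F17915 D7297 (iv D7297)
def n7298 : Q := act 6 n5719
theorem D7298 : act 6 n5719 = n7298 := rfl
theorem F23075 : act 0 n7298 = n5722 := d5_1 D7298 (iv D5722) (iv F17912)
theorem F23076 : act 3 n7298 = n5720 := d20_1 D7298 (iv D5720) D5719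
theorem F23077 : act 4 n7298 = n5736 := d23_1 D7298 (iv D5736) (iv F17913)
def n7299 : Q := act 5 n5723
theorem D7299 : act 5 n5723 = n7299 := rfl
theorem F23078 : act 0 n7299 = n6592 := d4_1 D7299 F20717 (iv F17926)
theorem F23079 : act 2 n7299 = n7299 := d15_1 D7299 (iv D7299) F17928
theorem F23080 : act 3 n7299 = n5724 := d19_1 D7299 (iv D5724) D5723
theorem F23081 : act 4 n7299 = n6597 := d22_1 D7299 F20731 (iv F17929)
theorem F23082 : act 7 n7299 = n6864 := d26_2 F18138 D7299 F21636
def n7300 : Q := act 6 n5724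
theorem D7300 : act 6 n5724 = n7300 := rfl
theorem F23083 : act 0 n7300 = n7061 := d5_1 D7300 (iv D7061) (iv F17931)
theorem F23084 : act 2 n7300 = n5728 := d16_1 D7300 (iv D5728) (iv F17932)
theorem F23085 : act 4 n7300 = n5726 := d23_1 D7300 (iv D5726) (iv F17933)
theorem F23086 : act 5 n7300 = n6992 := d25_1 D7300 (iv D6992) (iv D5425) (iv F13198) D5724
def n7301 : Q := act 3 n5725
theorem D7301 : act 3 n5725 = n7301 := rfl
theorem F23087 : act 0 n7301 = n7063 := d2_1 D7301 (iv D7063) (iv F17934)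
theorem F23088 : act 1 n7301 = n7301 := d8_1 D7301 (iv D7301) F17935
def n7302 : Q := act 6 n5725
theorem D7302 : act 6 n5725 = n7302 := rfl
theorem F23089 : act 0 n7302 = n7064 := d5_1 D7302 (iv D7064) (iv F17934)
theorem F23090 : act 1 n7302 = n7302 := d11_1 D7302 (iv D7302) F17935
theorem F23091 : act 2 n7302 = n5731 := d16_1 D7302 (iv D5731) (iv F17936)
theorem F23092 : act 4 n7302 = n5727 := d23_1 D7302 (iv D5727) (iv F17937)
theorem F23093 : act 7 n7302 = n6754 := d27_2 D5725 D7302 (iv D6754) (iv F16071) (iv F13198)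
def n7303 : Q := act 7 n5726
theorem D7303 : act 7 n5726 = n7303 := rfl
theorem F23094 : act 0 n7303 = n7066 := d6_1 D7303 (iv D7066) (iv F17938)
theorem F23095 : act 2 n7303 = n5732 := d17_1 D7303 (iv D5732) (iv F17939)
theorem F23096 : act 5 n7303 = n6995 := d26_1 D7303 (iv D6995) (iv F17940)
def n7304 : Q := act 5 n5727
theorem D7304 : act 5 n5727 = n7304 := rfl
theorem F23097 : act 0 n7304 = n7070 := d4_1 D7304 (iv D7070) (iv F17941)
theorem F23098 : act 2 n7304 = n5734 := d15_1 D7304 (iv D5734) (iv F17943)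
theorem F23099 : act 7 n7304 = n7000 := d26_2 (iv F17944) D7304 (iv D7000)
def n7305 : Q := act 7 n5728
theorem D7305 : act 7 n5728 = n7305 := rfl
theorem F23100 : act 0 n7305 = n7071 := d6_1 D7305 (iv D7071) (iv F17945)
theorem F23101 : act 1 n7305 = n6046 := d12_1 D7305 (iv D6046) (iv F17946)
theorem F23102 : act 4 n7305 = n5732 := d24_1 D7305 (iv D5732) (iv F17948)
theorem F23103 : act 5 n7305 = n7001 := d26_1 D7305 (iv D7001) (iv F17949)
def n7306 : Q := act 3 n5729
theorem D7306 : act 3 n5729 = n7306 := rfl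
theorem F23104 : act 0 n7306 = n7072 := d2_1 D7306 (iv D7072) (iv F17950)
theorem F23105 : act 1 n7306 = n6047 := d8_1 D7306 (iv D6047) (iv F17951)
theorem F23106 : act 5 n7306 = n5730 := d19_2 (iv F17953) D7306 (iv D5730)
theorem F23107 : act 7 n7306 = n7306 := d21_2 D5729 D7306 (iv D7306) (iv D5729) F13206
def n7307 : Q := act 6 n5729
theorem D7307 : act 6 n5729 = n7307 := rfl
theorem F23108 : act 0 n7307 = n7073 := d5_1 D7307 (iv D7073) (iv F17950)
theorem F23109 : act 1 n7307 = n6048 := d11_1 D7307 (iv D6048) (iv F17951)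
theorem F23110 : act 4 n7307 = n5733 := d23_1 D7307 (iv D5733) (iv F17952)
def n7308 : Q := act 2 n5730
theorem D7308 : act 2 n5730 = n7308 := rfl
theorem F23111 : act 0 n7308 = n7074 := d1_1 D7308 (iv D7074) (iv F17954)
theorem F23112 : act 7 n7308 = n7308 := d17_2 F17956 D7308 (iv D7308)
def n7309 : Q := act 6 n5730
theorem D7309 : act 6 n5730 = n7309 := rfl
theorem F23113 : act 0 n7309 = n7076 := d5_1 D7309 (iv D7076) (iv F17954)
theorem F23114 : act 1 n7309 = n5736 := d11_1 D7309 (iv D5736) (iv F17955)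
theorem F23115 : act 3 n7309 = n5731 := d20_1 D7309 (iv D5731) D5730
def n7310 : Q := act 5 n5731
theorem D7310 : act 5 n5731 = n7310 := rfl
theorem F23116 : act 0 n7310 = n7077 := d4_1 D7310 (iv D7077) (iv F17957)
theorem F23117 : act 4 n7310 = n5734 := d22_1 D7310 (iv D5734) (iv F17959)
theorem F23118 : act 7 n7310 = n7003 := d26_2 (iv F17960) D7310 (iv D7003)
def n7311 : Q := act 6 n5732
theorem D7311 : act 6 n5732 = n7311 := rfl
theorem F23119 : act 0 n7311 = n7078 := d5_1 D7311 (iv D7078) (iv F17961)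
theorem F23120 : act 1 n7311 = n6051 := d11_1 D7311 (iv D6051) (iv F17962)
theorem F23121 : act 7 n7311 = n5733 := d27_2 D5732 D7311 (iv D5733) (iv D4272) D4271
def n7312 : Q := act 5 n5733
theorem D7312 : act 5 n5733 = n7312 := rfl
theorem F23122 : act 0 n7312 = n7080 := d4_1 D7312 (iv D7080) (iv F17964)
theorem F23123 : act 6 n7312 = n5734 := d25_2 D5733 D7312 (iv D5734) (iv D4273) (iv F13217)
def n7313 : Q := act 1 n5734
theorem D7313 : act 1 n5734 = n7313 := rfl
theorem F23124 : act 5 n7313 = n5738 := d10_2 D5734 D7313 (iv D5738) (iv D4276) (iv F13219)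
theorem F23125 : act 7 n7313 = n7011 := d12_2 (iv F17967) D7313 (iv D7011)
def n7314 : Q := act 1 n5735
theorem D7314 : act 1 n5735 = n7314 := rfl
theorem F23126 : act 0 n7314 = n7314 := d0_1 D7314 (iv D7314) F17968 F13232 (iv F17968)
theorem F23127 : act 3 n7314 = n7314 := d8_2 F17969 D7314 (iv D7314)
theorem F23128 : act 5 n7314 = n7314 := d10_2 (iv F17970) D7314 (iv D7314) F17970 F14176
theorem F23129 : act 7 n7314 = n7314 := d12_2 F17971 D7314 (iv D7314)
def n7315 : Q := act 5 n5736
theorem D7315 : act 5 n5736 = n7315 := rfl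
theorem F23130 : act 0 n7315 = n5739 := d4_1 D7315 (iv D5739) (iv F17972)
theorem F23131 : act 3 n7315 = n5737 := d19_1 D7315 (iv D5737) (iv F17973)
theorem F23132 : act 6 n7315 = n6055 := d25_2 D5736 D7315 (iv D6055) (iv D4573) (iv F13222)
def n7316 : Q := act 1 n5737
theorem D7316 : act 1 n5737 = n7316 := rfl
theorem F23133 : act 4 n7316 = n5738 := d9_2 (iv F17976) D7316 (iv D5738)
theorem F23134 : act 6 n7316 = n6057 := d11_2 (iv F17977) D7316 (iv D6057)
theorem F23135 : act 7 n7316 = n7020 := d12_2 (iv F17978) D7316 (iv D7020)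
def n7317 : Q := act 2 n5738
theorem D7317 : act 2 n5738 = n7317 := rfl
theorem F23136 : act 1 n7317 = n7317 := d7_1 D7317 (iv D7317) (iv D5738) F13229 D5738
theorem F23137 : act 6 n7317 = n6058 := d16_2 (iv F17979) D7317 (iv D6058)
theorem F23138 : act 7 n7317 = n7021 := d17_2 (iv F17980) D7317 (iv D7021)
def n7318 : Q := act 4 n5740
theorem D7318 : act 4 n5740 = n7318 := rfl
theorem F23139 : act 0 n7318 = n7318 := d3_1 D7318 (iv D7318) F17983
theorem F23140 : act 2 n7318 = n7318 := d14_1 D7318 (iv D7318) F17984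
theorem F23141 : act 3 n7318 = n5743 := d18_1 D7318 (iv D5743) (iv D4282) (iv F13244) D5740
def n7319 : Q := act 6 n5740
theorem D7319 : act 6 n5740 = n7319 := rfl
theorem F23142 : act 0 n7319 = n7319 := d5_1 D7319 (iv D7319) F17983
theorem F23143 : act 2 n7319 = n7319 := d16_1 D7319 (iv D7319) F17984
theorem F23144 : act 3 n7319 = n5741 := d20_1 D7319 (iv D5741) D5740
def n7320 : Q := act 5 n5741
theorem D7320 : act 5 n5741 = n7320 := rfl
theorem F23145 : act 0 n7320 = n7320 := d4_1 D7320 (iv D7320) F17985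
theorem F23146 : act 2 n7320 = n5746 := d15_1 D7320 (iv D5746) (iv F17986)
theorem F23147 : act 4 n7320 = n5745 := d22_1 D7320 (iv D5745) (iv F17987)
theorem F23148 : act 7 n7320 = n5808 := d26_2 (iv F17988) D7320 (iv D5808)
def n7321 : Q := act 5 n5742
theorem D7321 : act 5 n5742 = n7321 := rfl
theorem F23149 : act 0 n7321 = n7321 := d4_1 D7321 (iv D7321) F17989
theorem F23150 : act 2 n7321 = n5748 := d15_1 D7321 (iv D5748) (iv F17990)
theorem F23151 : act 6 n7321 = n5745 := d25_2 D5742 D7321 (iv D5745) (iv D4283) (iv F13247)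
def n7322 : Q := act 6 n5743
theorem D7322 : act 6 n5743 = n7322 := rfl
theorem F23152 : act 0 n7322 = n7322 := d5_1 D7322 (iv D7322) F17991
theorem F23153 : act 4 n7322 = n5744 := d23_1 D7322 (iv D5744) D5743
def n7323 : Q := act 5 n5744
theorem D7323 : act 5 n5744 = n7323 := rfl
theorem F23154 : act 0 n7323 = n7323 := d4_1 D7323 (iv D7323) F17992
theorem F23155 : act 3 n7323 = n5745 := d19_1 D7323 (iv D5745) (iv F17993)
def n7324 : Q := act 7 n5744
theorem D7324 : act 7 n5744 = n7324 := rfl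
theorem F23156 : act 0 n7324 = n7324 := d6_1 D7324 (iv D7324) F17992
theorem F23157 : act 3 n7324 = n5817 := d21_1 D7324 (iv D5817) F13461 (iv F13251) (iv F17993)
def n7325 : Q := act 1 n5745
theorem D7325 : act 1 n5745 = n7325 := rfl
theorem F23158 : act 7 n7325 = n5818 := d12_2 (iv F17996) D7325 (iv D5818)
def n7326 : Q := act 7 n5749
theorem D7326 : act 7 n5749 = n7326 := rfl
theorem F23159 : act 1 n7326 = n7326 := d12_1 D7326 (iv D7326) F18008
theorem F23160 : act 2 n7326 = n6858 := d17_1 D7326 (iv F21831) F21829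
theorem F23161 : act 4 n7326 = n7326 := d24_1 D7326 (iv D7326) F18010
theorem F23162 : act 6 n7326 = n6857 := d27_1 D7326 F21818 (iv D6901) F16622 D5749
def n7327 : Q := act 6 n5750
theorem D7327 : act 6 n5750 = n7327 := rfl
theorem F23163 : act 0 n7327 = n5753 := d5_1 D7327 (iv D5753) (iv F18011)
theorem F23164 : act 3 n7327 = n7327 := d20_1 D7327 (iv D7327) F18012
theorem F23165 : act 4 n7327 = n5751 := d23_1 D7327 (iv D5751) (iv F18013)
theorem F23166 : act 5 n7327 = n6250 := d25_1 D7327 (iv D6250) (iv D4720) F13287 D5750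
def n7328 : Q := act 5 n5751
theorem D7328 : act 5 n5751 = n7328 := rfl
theorem F23167 : act 0 n7328 = n5754 := d4_1 D7328 (iv D5754) (iv F18014)
theorem F23168 : act 3 n7328 = n6959 := d19_1 D7328 F22042 F21739
theorem F23169 : act 4 n7328 = n6250 := d22_1 D7328 (iv F23166) F23165
theorem F23170 : act 6 n7328 = n5752 := d25_2 D5751 D7328 (iv D5752) (iv D4296) D4295
theorem F23171 : act 1 n6747 = n7328 := d11_3 F23170 F18016 D6747
def n7329 : Q := act 7 n5751
theorem D7329 : act 7 n5751 = n7329 := rfl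
theorem F23172 : act 0 n7329 = n5755 := d6_1 D7329 (iv D5755) (iv F18014)
def n7330 : Q := act 7 n5753
theorem D7330 : act 7 n5753 = n7330 := rfl
theorem F23173 : act 1 n7330 = n7330 := d12_1 D7330 (iv D7330) F18020
theorem F23174 : act 4 n7330 = n5755 := d24_1 D7330 (iv D5755) (iv F18022)
theorem F23175 : act 5 n7330 = n6251 := d26_1 D7330 (iv D6251) (iv F18023)
def n7331 : Q := act 7 n5754
theorem D7331 : act 7 n5754 = n7331 := rfl
theorem F23176 : act 4 n7331 = n6251 := d24_1 D7331 (iv D6251) (iv F18024)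
theorem F23177 : act 5 n7331 = n5755 := d26_1 D7331 (iv D5755) D5754
def n7332 : Q := act 3 n5755
theorem D7332 : act 3 n5755 = n7332 := rfl
theorem F23178 : act 1 n7332 = n7332 := d8_1 D7332 (iv D7332) F18026
def n7333 : Q := act 6 n5756
theorem D7333 : act 6 n5756 = n7333 := rfl
theorem F23179 : act 0 n7333 = n6746 := d5_1 D7333 (iv D6746) (iv F18027)
theorem F23180 : act 1 n7333 = n6724 := d11_1 D7333 (iv D6724) (iv F18028)
theorem F23181 : act 3 n7333 = n6727 := d20_1 D7333 (iv D6727) (iv F18029)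
theorem F23182 : act 4 n7333 = n6104 := d23_1 D7333 (iv D6104) (iv F18030)
def n7334 : Q := act 3 n5757
theorem D7334 : act 3 n5757 = n7334 := rfl
theorem F23183 : act 0 n7334 = n7334 := d2_1 D7334 (iv D7334) F18032
theorem F23184 : act 1 n7334 = n6698 := d8_1 D7334 F21040 (iv F18033)
theorem F23185 : act 2 n7334 = n5827 := d13_1 D7334 (iv D5827) F13484 (iv F13308) (iv F18034)
theorem F23186 : act 7 n7334 = n7334 := d21_2 D5757 D7334 (iv D7334) (iv D5757) F13303
def n7335 : Q := act 6 n5757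
theorem D7335 : act 6 n5757 = n7335 := rfl
theorem F23187 : act 0 n7335 = n7335 := d5_1 D7335 (iv D7335) F18032
theorem F23188 : act 1 n7335 = n6723 := d11_1 D7335 (iv D6723) (iv F18033)
theorem F23189 : act 2 n7335 = n5758 := d16_1 D7335 (iv D5758) (iv F18034)
theorem F23190 : act 4 n7335 = n5819 := d23_1 D7335 (iv D5819) (iv F18035)
theorem F23191 : act 7 n7335 = n7335 := d27_2 D5757 D7335 (iv D7335) (iv D5757) F13305
def n7336 : Q := act 5 n5758
theorem D7336 : act 5 n5758 = n7336 := rfl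
theorem F23192 : act 0 n7336 = n7336 := d4_1 D7336 (iv D7336) F18036
theorem F23193 : act 3 n7336 = n5830 := d19_1 D7336 (iv D5830) (iv F18038)
theorem F23194 : act 4 n7336 = n5820 := d22_1 D7336 (iv D5820) (iv F18039)
theorem F23195 : act 7 n7336 = n7336 := d26_2 F18040 D7336 (iv D7336)
def n7337 : Q := act 6 n5759
theorem D7337 : act 6 n5759 = n7337 := rfl
theorem F23196 : act 0 n7337 = n7337 := d5_1 D7337 (iv D7337) F18041
theorem F23197 : act 1 n7337 = n5760 := d11_1 D7337 (iv D5760) D5759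
theorem F23198 : act 3 n7337 = n7337 := d20_1 D7337 (iv D7337) F18042
theorem F23199 : act 4 n7337 = n5761 := d23_1 D7337 (iv D5761) (iv F18043)
theorem F23200 : act 7 n6929 = n7337 := d31_1 D6929 F23199 (iv F21694) (iv D6881) (iv D5313) F12122 (iv D2752) D2750 F8468 F5823 F4575 (iv D971) D972 F3132 (iv F2881) D1310 F4175 F4176 (iv F6017) (iv F8346) F8345 (iv D2105) D2104 (iv F9453) (iv F13261) F13259 F16758 D6925 F21898
theorem F23201 : act 5 n7337 = n6930 := d26_1 F23200 (iv D6930) D6929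
def n7338 : Q := act 5 n5761
theorem D7338 : act 5 n5761 = n7338 := rfl
theorem F23202 : act 0 n7338 = n7338 := d4_1 D7338 (iv D7338) F18049
theorem F23203 : act 1 n7338 = n6748 := d10_1 D7338 (iv D6748) F16052 (iv F13334) (iv F18050)
theorem F23204 : act 3 n7338 = n6963 := d19_1 D7338 F22055 F18456
theorem F23205 : act 4 n7338 = n6930 := d22_1 D7338 (iv F23201) F23199
theorem F23206 : act 7 n7338 = n6927 := d31_1 D7338 F21909 (iv F21912) (iv D6928) F16775 F13247 (iv D3061) D3059 F9429 F6495 F4572 (iv F3940) D1842 F5739 F4133 D1499 F4721 F4722 F4723 (iv F4587) (iv F5846) (iv D1878) D1877 (iv F8501) (iv F12146) F12144 D5322 (iv F18458) F18456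
def n7339 : Q := act 7 n5761
theorem D7339 : act 7 n5761 = n7339 := rfl
theorem F23207 : act 0 n7339 = n7339 := d6_1 D7339 (iv D7339) F18049
theorem F23208 : act 1 n7339 = n5762 := d12_1 D7339 (iv D5762) (iv F18050)
theorem F23209 : act 3 n7339 = n7339 := d21_1 D7339 (iv D7339) (iv F18456) F18459 F18456
theorem F23210 : act 4 n7339 = n6929 := d24_1 D7339 F23200 F23199
theorem F23211 : act 5 n7339 = n6927 := d26_1 D7339 (iv F23206) (iv D7338)
def n7340 : Q := act 3 n5763
theorem D7340 : act 3 n5763 = n7340 := rfl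
theorem F23212 : act 0 n7340 = n5783 := d2_1 D7340 (iv D5783) (iv F18055)
theorem F23213 : act 2 n7340 = n6467 := d13_1 D7340 (iv D6467) (iv D4897) (iv F13345) D5763
def n7341 : Q := act 6 n5763
theorem D7341 : act 6 n5763 = n7341 := rfl
theorem F23214 : act 0 n7341 = n5784 := d5_1 D7341 (iv D5784) (iv F18055)
theorem F23215 : act 2 n7341 = n5764 := d16_1 D7341 (iv D5764) D5763
theorem F23216 : act 4 n7341 = n5766 := d23_1 D7341 (iv D5766) (iv F18056)
def n7342 : Q := act 5 n5764
theorem D7342 : act 5 n5764 = n7342 := rfl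
theorem F23217 : act 0 n7342 = n5785 := d4_1 D7342 (iv D5785) (iv F18057)
theorem F23218 : act 1 n7342 = n6446 := d10_1 D7342 (iv D6446) F15091 (iv F13350) (iv F18058)
theorem F23219 : act 3 n7342 = n6459 := d19_1 D7342 F20224 (iv F18059)
theorem F23220 : act 4 n7342 = n5767 := d22_1 D7342 (iv D5767) (iv F18060)
def n7343 : Q := act 7 n5764
theorem D7343 : act 7 n5764 = n7343 := rfl
theorem F23221 : act 0 n7343 = n5786 := d6_1 D7343 (iv D5786) (iv F18057)
theorem F23222 : act 1 n7343 = n5765 := d12_1 D7343 (iv D5765) (iv F18058)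
theorem F23223 : act 4 n7343 = n5768 := d24_1 D7343 (iv D5768) (iv F18060)
def n7344 : Q := act 3 n5765
theorem D7344 : act 3 n5765 = n7344 := rfl
theorem F23224 : act 0 n7344 = n5771 := d2_1 D7344 (iv D5771) (iv F18061)
theorem F23225 : act 4 n7344 = n6055 := d18_2 (iv F18062) D7344 F19011 F14183 F13363
theorem F23226 : act 5 n7344 = n6040 := d19_2 (iv F18063) D7344 F18959
theorem F23227 : act 7 n7344 = n6464 := d21_2 D5765 D7344 (iv D6464) (iv D4895) (iv F13348)
def n7345 : Q := act 5 n5766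
theorem D7345 : act 5 n5766 = n7345 := rfl
theorem F23228 : act 0 n7345 = n5790 := d4_1 D7345 (iv D5790) (iv F18064)
theorem F23229 : act 2 n7345 = n5767 := d15_1 D7345 (iv D5767) (iv F18065)
def n7346 : Q := act 7 n5766
theorem D7346 : act 7 n5766 = n7346 := rfl
theorem F23230 : act 0 n7346 = n5791 := d6_1 D7346 (iv D5791) (iv F18064)
theorem F23231 : act 2 n7346 = n5768 := d17_1 D7346 (iv D5768) (iv F18065)
def n7347 : Q := act 1 n5767
theorem D7347 : act 1 n5767 = n7347 := rfl
theorem F23232 : act 0 n7347 = n7347 := d0_1 D7347 (iv D7347) F18066 F13404 (iv F18066)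
theorem F23233 : act 3 n7347 = n7347 := d8_2 F18067 D7347 (iv D7347)
theorem F23234 : act 4 n7347 = n6446 := d9_2 F23220 D7347 (iv F23218)
theorem F23235 : act 5 n7347 = n5769 := d10_2 D5767 D7347 (iv D5769) (iv D4316) (iv F13353)
theorem F23236 : act 7 n6039 = n7347 := d26_0 F23235 F18075 D6039
def n7348 : Q := act 7 n5767
theorem D7348 : act 7 n5767 = n7348 := rfl
theorem F23237 : act 0 n7348 = n5792 := d6_1 D7348 (iv D5792) (iv F18066)
theorem F23238 : act 1 n7348 = n6039 := d12_1 D7348 F23236 (iv D7347)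
theorem F23239 : act 5 n7348 = n5768 := d26_1 D7348 (iv D5768) D5767
theorem F23240 : act 3 n6053 = n7348 := d19_3 F23239 (iv F18070) (iv F19004)
def n7349 : Q := act 3 n5770
theorem D7349 : act 3 n5770 = n7349 := rfl
theorem F23241 : act 0 n7349 = n7349 := d2_1 D7349 (iv D7349) F18076
theorem F23242 : act 1 n7349 = n6744 := d8_1 D7349 (iv D6744) (iv F18077)
theorem F23243 : act 2 n7349 = n7349 := d13_1 D7349 (iv D7349) (iv D5770) F13365 D5770
theorem F23244 : act 7 n7349 = n7349 := d21_2 (iv F18079) D7349 (iv D7349) F18079 F14056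
def n7350 : Q := act 2 n5771
theorem D7350 : act 2 n5771 = n7350 := rfl
theorem F23245 : act 3 n7350 = n5799 := d13_2 D5771 D7350 F18170 (iv F17542) F17541
theorem F23246 : act 4 n7350 = n6059 := d14_2 (iv F18081) D7350 F19020
theorem F23247 : act 5 n7350 = n5798 := d15_2 (iv F18082) D7350 F18166
theorem F23248 : act 7 n7350 = n6472 := d17_2 (iv F18083) D7350 (iv D6472)
def n7351 : Q := act 2 n5772
theorem D7351 : act 2 n5772 = n7351 := rfl
theorem F23249 : act 0 n7351 = n7351 := d1_1 D7351 (iv D7351) F18084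
theorem F23250 : act 1 n7351 = n5777 := d7_1 D7351 (iv D5777) (iv D4322) (iv F13372) D5772
theorem F23251 : act 4 n7351 = n7351 := d14_2 F18086 D7351 (iv D7351)
theorem F23252 : act 5 n7351 = n7351 := d15_2 F18087 D7351 (iv D7351)
theorem F23253 : act 6 n7351 = n6305 := d29_4 (iv F13380) D5777 (iv F23250) F23252 F19739 F14762 F10648 D4781 (iv F19718) (iv D6300) (iv F16053) F16052 (iv F13334) (iv D4309) (iv D3082) (iv F9467) (iv F11973) (iv F16335) (iv F20824) F20822 F17654 F12953 (iv D3234) D3235 D4510 (iv F18333) F18334 F17490 F12827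
theorem F23254 : act 7 n6352 = n7351 := d27_0 F23253 (iv D6305) F14760 D4818 D6352
def n7352 : Q := act 6 n5772
theorem D7352 : act 6 n5772 = n7352 := rfl
theorem F23255 : act 0 n7352 = n7352 := d5_1 D7352 (iv D7352) F18084
theorem F23256 : act 1 n7352 = n5773 := d11_1 D7352 (iv D5773) D5772
theorem F23257 : act 2 n7352 = n6305 := d16_1 D7352 (iv F23253) (iv D7351)
theorem F23258 : act 3 n7352 = n7352 := d20_1 D7352 (iv D7352) F18085
theorem F23259 : act 4 n7352 = n7352 := d23_1 D7352 (iv D7352) F18086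
theorem F23260 : act 5 n6303 = n7352 := d15_0 F23257 F19739 (iv F19730)
theorem F23261 : act 7 n6302 = n7352 := d17_0 F23257 (iv D6305) (iv F19724)
def n7353 : Q := act 7 n5772
theorem D7353 : act 7 n5772 = n7353 := rfl
theorem F23262 : act 0 n7353 = n7353 := d6_1 D7353 (iv D7353) F18084
theorem F23263 : act 1 n7353 = n5774 := d12_1 D7353 (iv D5774) D5772
theorem F23264 : act 2 n7353 = n6352 := d17_1 D7353 F23254 (iv D7351)
theorem F23265 : act 4 n7353 = n7353 := d24_1 D7353 (iv D7353) F18086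
theorem F23266 : act 5 n7353 = n7353 := d26_1 D7353 (iv D7353) F18087
theorem F23267 : act 6 n7353 = n6347 := d27_1 D7353 (iv D6347) (iv F19727) F23261 (iv D7352)
def n7354 : Q := act 7 n5773
theorem D7354 : act 7 n5773 = n7354 := rfl
theorem F23268 : act 0 n7354 = n5796 := d6_1 D7354 (iv D5796) (iv F18088)
theorem F23269 : act 1 n7354 = n6302 := d12_1 D7354 F23261 F23256
theorem F23270 : act 2 n7354 = n5780 := d17_1 D7354 (iv D5780) (iv F18089)
theorem F23271 : act 4 n7354 = n7354 := d24_1 D7354 (iv D7354) F18091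
theorem F23272 : act 5 n7354 = n7354 := d26_1 D7354 (iv D7354) F18092
theorem F23273 : act 6 n7354 = n6346 := d28_6 F21944 F21946 F19711 (iv F19724) (iv F23269) F23272 F21798 F19859 (iv D6341) (iv F17548) F17547 (iv D4279) (iv D3057) (iv F9411) F9413 (iv F9388) (iv F13169) (iv F14280) (iv D4609) F12205 F12201 (iv D2771) (iv F8524) (iv F12162) (iv D3927) (iv F12160) F12161 F12157 F12159 F12158 (iv D3123) F6656 F4942 F4028 F4024 (iv D860) (iv D577) (iv F1909) F1908 F1911 D858 (iv F4019) F4021 F2890 F2889 F1998 (iv F2268) (iv F2269) F1672 (iv F1629) (iv F2398) (iv F3468) (iv F5007) D2348 D3379 (iv F14423) (iv F14431) F14430 F13605 D4415 (iv F18414) (iv F21948)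
def n7355 : Q := act 6 n5774
theorem D7355 : act 6 n5774 = n7355 := rfl
theorem F23274 : act 0 n7355 = n5797 := d5_1 D7355 (iv D5797) (iv F18093)
theorem F23275 : act 1 n7355 = n6347 := d11_1 D7355 (iv F23267) F23263
theorem F23276 : act 2 n7355 = n5781 := d16_1 D7355 (iv D5781) (iv F18094)
theorem F23277 : act 4 n7355 = n7355 := d23_1 D7355 (iv D7355) F18095
theorem F23278 : act 7 n7355 = n6346 := d27_2 D5774 D7355 (iv F23273) (iv D7354) (iv D5773)
theorem F23279 : act 5 n6372 = n7355 := d26_3 F23278 F19882 D6372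
def n7356 : Q := act 6 n5775
theorem D7356 : act 6 n5775 = n7356 := rfl
theorem F23280 : act 0 n7356 = n5798 := d5_1 D7356 (iv D5798) (iv F18097)
theorem F23281 : act 1 n7356 = n7356 := d11_1 D7356 (iv D7356) F18098
theorem F23282 : act 2 n7356 = n6040 := d16_1 D7356 (iv D6040) (iv F18099)
theorem F23283 : act 3 n7356 = n5776 := d20_1 D7356 (iv D5776) D5775
theorem F23284 : act 4 n7356 = n6054 := d23_1 D7356 (iv D6054) F18101
theorem F23285 : act 7 n6466 = n7356 := d17_0 F23282 (iv F18961) D6466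
def n7357 : Q := act 5 n5776
theorem D7357 : act 5 n5776 = n7357 := rfl
theorem F23286 : act 0 n7357 = n5799 := d4_1 D7357 (iv D5799) (iv F18102)
theorem F23287 : act 2 n7357 = n5782 := d15_1 D7357 (iv D5782) (iv F18104)
theorem F23288 : act 4 n7357 = n7357 := d22_1 D7357 (iv D7357) F18105
theorem F23289 : act 6 n7357 = n6372 := d25_2 D5776 D7357 F23279 (iv D7355) F18096
theorem F23290 : act 7 n7357 = n7357 := d26_2 F18106 D7357 (iv D7357)
theorem F23291 : act 1 n6374 = n7357 := d11_3 F23289 F19958 D6374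
def n7358 : Q := act 3 n5777
theorem D7358 : act 3 n5777 = n7358 := rfl
theorem F23292 : act 0 n7358 = n6467 := d2_1 D7358 (iv D6467) (iv F18107)
theorem F23293 : act 2 n7358 = n5783 := d13_1 D7358 (iv D5783) (iv D4326) (iv F13380) D5777
def n7359 : Q := act 6 n5777
theorem D7359 : act 6 n5777 = n7359 := rfl
theorem F23294 : act 0 n7359 = n6462 := d5_1 D7359 F20234 (iv F18107)
theorem F23295 : act 1 n7359 = n6305 := d11_1 D7359 (iv F23253) F23250
theorem F23296 : act 2 n7359 = n5778 := d16_1 D7359 (iv D5778) D5777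
theorem F23297 : act 4 n7359 = n7359 := d23_1 D7359 (iv D7359) F18108
theorem F23298 : act 5 n7359 = n6308 := d29_5 (iv F16482) D6857 F21613 F21615 D7359 F19747 F14768 D6309 (iv F21934) (iv D6935) (iv F21240) (iv F23203) (iv D7338) (iv D5761) F16612 F16611 (iv F16349) (iv F20788) F20790 F15670 F12912 (iv D2962) F6269 D2234 (iv F9736) (iv F13562) (iv F16689) F16690 F15615
theorem F23299 : act 7 n6304 = n7359 := d26_0 F23298 (iv D6308) (iv F19735)
def n7360 : Q := act 7 n5777
theorem D7360 : act 7 n5777 = n7360 := rfl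
theorem F23300 : act 0 n7360 = n6468 := d6_1 D7360 (iv D6468) (iv F18107)
theorem F23301 : act 1 n7360 = n6352 := d12_1 D7360 F23254 F23250
theorem F23302 : act 2 n7360 = n5779 := d17_1 D7360 (iv D5779) D5777
theorem F23303 : act 4 n7360 = n7360 := d24_1 D7360 (iv D7360) F18108
theorem F23304 : act 5 n7360 = n6901 := d26_1 D7360 (iv F21818) F21615
theorem F23305 : act 6 n7360 = n6350 := d27_1 D7360 (iv D6350) (iv F19736) F23299 (iv D7359)
def n7361 : Q := act 5 n5778
theorem D7361 : act 5 n5778 = n7361 := rfl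
theorem F23306 : act 0 n7361 = n6459 := d4_1 D7361 F20224 (iv F18109)
theorem F23307 : act 1 n7361 = n7361 := d10_1 D7361 (iv D7361) F18110 F13385 (iv F18110)
theorem F23308 : act 2 n7361 = n6308 := d15_1 D7361 (iv F23298) F23296
theorem F23309 : act 3 n7361 = n5785 := d19_1 D7361 (iv D5785) (iv F18111)
theorem F23310 : act 4 n7361 = n7361 := d22_1 D7361 (iv D7361) F18112
theorem F23311 : act 7 n6307 = n7361 := d17_0 F23308 (iv D6308) D6307
def n7362 : Q := act 7 n5778
theorem D7362 : act 7 n5778 = n7362 := rfl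
theorem F23312 : act 0 n7362 = n6463 := d6_1 D7362 (iv D6463) (iv F18109)
theorem F23313 : act 1 n7362 = n5780 := d12_1 D7362 (iv D5780) (iv F18110)
theorem F23314 : act 2 n7362 = n6304 := d17_1 D7362 F23299 F23296
theorem F23315 : act 4 n7362 = n7362 := d24_1 D7362 (iv D7362) F18112
theorem F23316 : act 5 n7362 = n6307 := d26_1 D7362 F23311 (iv D7361)
theorem F23317 : act 6 n6349 = n7362 := d25_0 F23316 F19746 F14775 (iv F14909) (iv F19891)
def n7363 : Q := act 6 n5779
theorem D7363 : act 6 n5779 = n7363 := rfl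
theorem F23318 : act 0 n7363 = n6469 := d5_1 D7363 (iv D6469) (iv F18113)
theorem F23319 : act 1 n7363 = n5781 := d11_1 D7363 (iv D5781) (iv F18114)
theorem F23320 : act 2 n7363 = n6350 := d16_1 D7363 (iv F23305) F23302
theorem F23321 : act 3 n7363 = n6912 := d20_1 D7363 F21856 (iv F18115)
theorem F23322 : act 4 n7363 = n7363 := d23_1 D7363 (iv D7363) F18116
theorem F23323 : act 5 n7363 = n6355 := d25_1 D7363 F19909 (iv D5342) D5343 (iv F18117)
theorem F23324 : act 7 n7363 = n6349 := d27_2 D5779 D7363 F23317 (iv D7362) (iv D5778)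
def n7364 : Q := act 3 n5780
theorem D7364 : act 3 n5780 = n7364 := rfl
theorem F23325 : act 0 n7364 = n5800 := d2_1 D7364 (iv D5800) (iv F18118)
theorem F23326 : act 5 n7364 = n7364 := d19_2 F18120 D7364 (iv D7364)
theorem F23327 : act 7 n7364 = n5787 := d21_2 D5780 D7364 (iv D5787) (iv D4328) (iv F13383)
def n7365 : Q := act 6 n5780
theorem D7365 : act 6 n5780 = n7365 := rfl
theorem F23328 : act 0 n7365 = n5801 := d5_1 D7365 (iv D5801) (iv F18118)
theorem F23329 : act 1 n7365 = n6349 := d11_1 D7365 F23317 F23313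
theorem F23330 : act 2 n7365 = n6346 := d16_1 D7365 (iv F23273) F23270
theorem F23331 : act 4 n7365 = n7365 := d23_1 D7365 (iv D7365) F18119
theorem F23332 : act 7 n7365 = n5781 := d27_2 D5780 D7365 (iv D5781) (iv D4324) D4323
theorem F23333 : act 5 n6371 = n7365 := d28_5 F14378 (iv F14496) F14495 D4834 (iv F19955) (iv D7365) F18118 F13428 D5800 (iv F18186) F18185 (iv D4577) (iv D3303) (iv F10188) (iv F14124) (iv D4557) (iv F12823) F12822 (iv D3964) (iv D2789) (iv D1900) D1901 F5922 F5921 F4069 F2799 F1932 F1930 (iv D439) F774 (iv D236) F442 (iv F496) D273 F876 (iv F1643) F1642 F917 (iv F1684) (iv F2169) (iv D658) (iv F2151) F2153 D687 F2267 F1679 (iv F2273) (iv D688) F1503 (iv F1367) D657 D984 D1472 D2176 D3154 (iv F13588) (iv F13994) F13993 F10316 (iv F10321) D4653 F14380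
def n7366 : Q := act 5 n5781
theorem D7366 : act 5 n5781 = n7366 := rfl
theorem F23334 : act 0 n7366 = n5802 := d4_1 D7366 (iv D5802) (iv F18121)
theorem F23335 : act 1 n7366 = n6378 := d10_1 D7366 F19979 (iv F19906) (iv F23323) F23319
theorem F23336 : act 2 n7366 = n6372 := d15_1 D7366 F23279 F23276
theorem F23337 : act 4 n7366 = n7366 := d22_1 D7366 (iv D7366) F18122
theorem F23338 : act 6 n7366 = n5782 := d25_2 D5781 D7366 (iv D5782) (iv D4325) (iv F13388)
theorem F23339 : act 7 n7366 = n6371 := d26_2 F23332 D7366 F23333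
def n7367 : Q := act 1 n5782
theorem D7367 : act 1 n5782 = n7367 := rfl
theorem F23340 : act 0 n7367 = n7367 := d0_1 D7367 (iv D7367) F18123 F13432 (iv F18123)
theorem F23341 : act 2 n7367 = n6379 := d7_2 F23287 D7367 F19981 (iv F19963) F23291
theorem F23342 : act 3 n7367 = n6929 := d8_2 F22673 D7367 (iv F22671)
theorem F23343 : act 4 n7367 = n7367 := d9_2 F18124 D7367 (iv D7367)
theorem F23344 : act 5 n7367 = n6925 := d10_2 D5782 D7367 F21896 F16763 F16491
theorem F23345 : act 6 n7367 = n6378 := d11_2 F23338 D7367 (iv F23335)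
theorem F23346 : act 7 n7367 = n7367 := d12_2 F18125 D7367 (iv D7367)
def n7368 : Q := act 4 n5783
theorem D7368 : act 4 n5783 = n7368 := rfl
theorem F23347 : act 1 n7368 = n7368 := d9_1 D7368 (iv D7368) F18126
theorem F23348 : act 3 n7368 = n5788 := d18_1 D7368 (iv D5788) (iv D4329) (iv F13393) D5783
theorem F23349 : act 7 n7301 = n7368 := d21_0 F23348 F18138 (iv D5723) D5725 D7301
def n7369 : Q := act 6 n5783
theorem D7369 : act 6 n5783 = n7369 := rfl
theorem F23350 : act 1 n7369 = n7369 := d11_1 D7369 (iv D7369) F18126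
theorem F23351 : act 3 n7369 = n5784 := d20_1 D7369 (iv D5784) D5783
def n7370 : Q := act 7 n5783
theorem D7370 : act 7 n5783 = n7370 := rfl
theorem F23352 : act 1 n7370 = n7370 := d12_1 D7370 (iv D7370) F18126
theorem F23353 : act 3 n7370 = n6132 := d21_1 D7370 F19230 F18831 F17513 D5783
theorem F23354 : act 4 n7370 = n7301 := d24_1 D7370 F23349 (iv D7368)
theorem F23355 : act 5 n7370 = n6175 := d26_1 D7370 (iv F21622) F21621
def n7371 : Q := act 5 n5784
theorem D7371 : act 5 n5784 = n7371 := rfl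
theorem F23356 : act 2 n7371 = n5785 := d15_1 D7371 (iv D5785) (iv F18128)
theorem F23357 : act 4 n7371 = n5790 := d22_1 D7371 (iv D5790) (iv F18129)
def n7372 : Q := act 7 n5784
theorem D7372 : act 7 n5784 = n7372 := rfl
theorem F23358 : act 1 n7372 = n7372 := d12_1 D7372 (iv D7372) F18127
theorem F23359 : act 2 n7372 = n5786 := d17_1 D7372 (iv D5786) (iv F18128)
theorem F23360 : act 4 n7372 = n5791 := d24_1 D7372 (iv D5791) (iv F18129)
def n7373 : Q := act 7 n5785
theorem D7373 : act 7 n5785 = n7373 := rfl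
theorem F23361 : act 1 n7373 = n7373 := d12_1 D7373 (iv D7373) F18130
theorem F23362 : act 4 n7373 = n5792 := d24_1 D7373 (iv D5792) (iv F18131)
theorem F23363 : act 5 n7373 = n5786 := d26_1 D7373 (iv D5786) D5785
def n7374 : Q := act 3 n5786
theorem D7374 : act 3 n5786 = n7374 := rfl
theorem F23364 : act 1 n7374 = n5787 := d8_1 D7374 (iv D5787) (iv F18132)
def n7375 : Q := act 2 n5787
theorem D7375 : act 2 n5787 = n7375 := rfl
theorem F23365 : act 0 n7375 = n5803 := d1_1 D7375 (iv D5803) (iv F18134)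
theorem F23366 : act 3 n7375 = n7375 := d13_2 D5787 D7375 (iv D7375) (iv D5787) F13397
theorem F23367 : act 5 n7375 = n7375 := d15_2 F18135 D7375 (iv D7375)
theorem F23368 : act 4 n7364 = n7375 := d31_2 F18135 (iv F23327) (iv D7375) (iv F22686) (iv D7154) F17519 (iv D5483) F12615 F8891 (iv D2875) F6129 (iv D1399) F3021 D996 F3196 F2416 F2415 D1097 (iv F4869) F4868 (iv F4423) D2073 (iv F8892) (iv F9056) D4139 (iv F17518) F17517 F17520 D5787
def n7376 : Q := act 4 n5787
theorem D7376 : act 4 n5787 = n7376 := rfl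
theorem F23369 : act 0 n7376 = n5804 := d3_1 D7376 (iv D5804) (iv F18134)
theorem F23370 : act 2 n7376 = n7364 := d14_1 D7376 F23368 (iv D7375)
theorem F23371 : act 3 n7376 = n5795 := d18_1 D7376 (iv D5795) (iv D4333) (iv F13398) D5787
theorem F23372 : act 5 n7376 = n7376 := d22_2 F18135 D7376 (iv D7376)
theorem F23373 : act 7 n7376 = n7375 := d24_2 F23327 D7376 (iv F23368)
def n7377 : Q := act 5 n5789
theorem D7377 : act 5 n5789 = n7377 := rfl
theorem F23374 : act 2 n7377 = n7377 := d15_1 D7377 (iv D7377) F18140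
theorem F23375 : act 3 n7377 = n5790 := d19_1 D7377 (iv D5790) (iv F18141)
def n7378 : Q := act 1 n5790
theorem D7378 : act 1 n5790 = n7378 := rfl
theorem F23376 : act 2 n7378 = n7378 := d7_2 (iv F18142) D7378 (iv D7378) F18142 F13404
theorem F23377 : act 5 n7378 = n7378 := d10_2 D5790 D7378 (iv D7378) (iv D5790) F13402
def n7379 : Q := act 7 n5790
theorem D7379 : act 7 n5790 = n7379 := rfl
theorem F23378 : act 2 n7379 = n5792 := d17_1 D7379 (iv D5792) (iv F18142)
theorem F23379 : act 5 n7379 = n5791 := d26_1 D7379 (iv D5791) D5790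
def n7380 : Q := act 3 n5791
theorem D7380 : act 3 n5791 = n7380 := rfl
theorem F23380 : act 1 n7380 = n7380 := d8_1 D7380 (iv D7380) F18143
def n7381 : Q := act 3 n5792
theorem D7381 : act 3 n5792 = n7381 := rfl
theorem F23381 : act 0 n7381 = n6053 := d2_1 D7381 F23240 F23237
theorem F23382 : act 1 n7381 = n7381 := d8_1 D7381 (iv D7381) F18145
theorem F23383 : act 5 n7381 = n5793 := d19_2 (iv F18146) D7381 (iv D5793)
theorem F23384 : act 7 n7381 = n7381 := d21_2 D5792 D7381 (iv D7381) (iv D5792) F13405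
def n7382 : Q := act 6 n5792
theorem D7382 : act 6 n5792 = n7382 := rfl
theorem F23385 : act 1 n7382 = n7382 := d11_1 D7382 (iv D7382) F18145
def n7383 : Q := act 2 n5793
theorem D7383 : act 2 n5793 = n7383 := rfl
theorem F23386 : act 0 n7383 = n6058 := d1_1 D7383 (iv D6058) (iv F18147)
theorem F23387 : act 7 n7383 = n7383 := d17_2 F18149 D7383 (iv D7383)
def n7384 : Q := act 4 n5793
theorem D7384 : act 4 n5793 = n7384 := rfl
theorem F23388 : act 0 n7384 = n6057 := d3_1 D7384 F19016 (iv F18147)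
theorem F23389 : act 1 n7384 = n5795 := d9_1 D7384 (iv D5795) (iv F18148)
theorem F23390 : act 7 n7384 = n7384 := d24_2 F18149 D7384 (iv D7384)
def n7385 : Q := act 1 n5794
theorem D7385 : act 1 n5794 = n7385 := rfl
theorem F23391 : act 0 n7385 = n7385 := d0_1 D7385 (iv D7385) F18150 F13436 (iv F18150)
theorem F23392 : act 3 n7385 = n7385 := d8_2 F18151 D7385 (iv D7385)
theorem F23393 : act 6 n7385 = n6338 := d11_2 (iv F18153) D7385 F19851
theorem F23394 : act 7 n7385 = n7385 := d12_2 F18154 D7385 (iv D7385)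
theorem F23395 : act 5 n7385 = n6043 := d28_5 (iv F13396) F13398 D4333 D5794 D7385 (iv D6043) F14141 F14144 (iv F10636) (iv D3460) (iv D2413) (iv D1649) D1650 F5135 F3570 F4070 (iv F5921) F5920 F4057 (iv F4058) (iv F4944) (iv F5878) (iv F8528) F8527 (iv F8507) F8510 (iv D2761) F5841 F5843 (iv D1877) F4008 F3131 F2154 (iv F2277) F2274 (iv D458) (iv D249) (iv F806) F805 F807 (iv F1398) (iv F1506) D689 (iv F3147) (iv F4608) (iv F6696) D3142 D4391 (iv F18318) F18320 (iv F18301) (iv F19913) F19912 F14915 F10752 F10751 (iv F10033) F10032 (iv F14014) F14013 (iv F12855) F12856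
theorem F23396 : act 2 n6050 = n7385 := d15_3 F23395 F18973 D6050
theorem F23397 : act 4 n6045 = n7385 := d22_3 F23395 F18975 D6045
theorem F23398 : act 1 n7383 = n6050 := d7_5 F23396 (iv D7385) (iv D5794) (iv F18148) D7383
theorem F23399 : act 4 n6053 = n7383 := d9_0 F23398 F18998 D6053
theorem F23400 : act 5 n6057 = n7383 := d10_0 F23398 (iv D6050) F14167 D4574 D6057
theorem F23401 : act 5 n6058 = n7384 := d4_2 F23400 F23386 F23388
theorem F23402 : act 2 n7381 = n6057 := d15_3 F23400 (iv D7383) (iv F23383)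
theorem F23403 : act 2 n7384 = n6053 := d1_2 F23402 (iv F23388) (iv F23381)
theorem F23404 : act 4 n6058 = n7381 := d14_0 F23402 F19016 D6058
def n7386 : Q := act 4 n5794
theorem D7386 : act 4 n5794 = n7386 := rfl
theorem F23405 : act 0 n7386 = n5805 := d3_1 D7386 (iv D5805) (iv F18150)
theorem F23406 : act 1 n7386 = n6045 := d9_1 D7386 F23397 (iv D7385)
theorem F23407 : act 2 n7386 = n5795 := d14_1 D7386 (iv D5795) D5794
theorem F23408 : act 5 n7386 = n7386 := d22_2 F18152 D7386 (iv D7386)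
theorem F23409 : act 6 n7386 = n6340 := d23_2 (iv F18153) D7386 F19856
theorem F23410 : act 7 n7386 = n7386 := d24_2 F18154 D7386 (iv D7386)
theorem F23411 : act 3 n7354 = n7386 := d20_3 F23409 F21797 (iv F23273)
def n7387 : Q := act 6 n5800
theorem D7387 : act 6 n5800 = n7387 := rfl
theorem F23412 : act 1 n7387 = n6473 := d11_1 D7387 (iv D6473) (iv F18173)
theorem F23413 : act 2 n7387 = n7162 := d16_1 D7387 F22713 F18186
theorem F23414 : act 3 n7387 = n5801 := d20_1 D7387 (iv D5801) D5800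
theorem F23415 : act 4 n7387 = n7161 := d23_1 D7387 F22709 (iv F18184)
def n7388 : Q := act 6 n5806
theorem D7388 : act 6 n5806 = n7388 := rfl
theorem F23416 : act 0 n7388 = n7388 := d5_1 D7388 (iv D7388) F18196
theorem F23417 : act 3 n7388 = n5815 := d20_1 D7388 (iv D5815) (iv F18197)
theorem F23418 : act 4 n7388 = n5807 := d23_1 D7388 (iv D5807) D5806
theorem F23419 : act 7 n6886 = n7388 := d31_1 D6886 F23418 (iv F21063) (iv D6704) F15850 (iv F16288) F16289 D5240 F16305 (iv F16220) F16217 F11863 F11865 F11862 F8724 F8727 (iv D1928) F4134 (iv D1012) D1011 (iv F4480) (iv F6028) (iv F8477) (iv D2753) D2754 F8483 (iv F8474) D3917 (iv F16557)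
theorem F23420 : act 5 n7388 = n6887 := d26_1 F23419 (iv D6887) D6886
def n7389 : Q := act 5 n5807
theorem D7389 : act 5 n5807 = n7389 := rfl
theorem F23421 : act 0 n7389 = n7389 := d4_1 D7389 (iv D7389) F18198
theorem F23422 : act 3 n7389 = n5808 := d19_1 D7389 (iv D5808) (iv F18199)
theorem F23423 : act 4 n7389 = n6887 := d22_1 D7389 (iv F23420) F23418
theorem F23424 : act 7 n7389 = n6885 := d31_1 D7389 F21710 (iv F21707) (iv D6884) F16552 (iv F16576) F16577 F12159 (iv D3926) F8502 (iv D2759) F5839 (iv D1263) F2760 F1981 (iv F2206) D1002 F4155 F4154 (iv F5832) F5831 F4158 (iv F4575) (iv D1450) D1451 (iv F6646) (iv F9596) D4345 (iv F18199)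
def n7390 : Q := act 7 n5807
theorem D7390 : act 7 n5807 = n7390 := rfl
theorem F23425 : act 0 n7390 = n7390 := d6_1 D7390 (iv D7390) F18198
theorem F23426 : act 4 n7390 = n6886 := d24_1 D7390 F23419 F23418
theorem F23427 : act 5 n7390 = n6885 := d26_1 D7390 (iv F23424) (iv D7389)
def n7391 : Q := act 1 n5808
theorem D7391 : act 1 n5808 = n7391 := rfl
theorem F23428 : act 4 n7391 = n5818 := d9_2 (iv F18202) D7391 (iv D5818)
def n7392 : Q := act 5 n5809
theorem D7392 : act 5 n5809 = n7392 := rfl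
theorem F23429 : act 2 n7392 = n6069 := d15_1 D7392 (iv D6069) (iv F18204)
def n7393 : Q := act 6 n5810
theorem D7393 : act 6 n5810 = n7393 := rfl
theorem F23430 : act 0 n7393 = n7393 := d5_1 D7393 (iv D7393) F18205
theorem F23431 : act 4 n7393 = n5811 := d23_1 D7393 (iv D5811) D5810
theorem F23432 : act 7 n7323 = n7393 := d31_1 D7323 F23431 (iv F22571) (iv D7125) F17376 F13473 F9618 D3125 F9631 (iv F6663) F4974 F3448 F3449 F3447 F2436 F3263 (iv D1014) (iv F3258) (iv D1013) (iv F3129) (iv F4004) D1875 (iv F8486) F8488 D3062 F9439 (iv F9435) D4283 (iv F17993)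
theorem F23433 : act 5 n7393 = n7324 := d26_1 F23432 (iv D7324) D7323
def n7394 : Q := act 5 n5811
theorem D7394 : act 5 n5811 = n7394 := rfl
theorem F23434 : act 0 n7394 = n7394 := d4_1 D7394 (iv D7394) F18207
theorem F23435 : act 3 n7394 = n5812 := d19_1 D7394 (iv D5812) (iv F18208)
theorem F23436 : act 4 n7394 = n7324 := d22_1 D7394 (iv F23433) F23431
theorem F23437 : act 6 n7394 = n5816 := d25_2 D5811 D7394 (iv D5816) (iv D4352) (iv F13454)
theorem F23438 : act 7 n7394 = n7322 := d31_1 D7394 F23153 (iv F20011) F20012 F16679 (iv F16756) F16757 F13271 (iv D4289) F9454 (iv D3066) F6505 (iv D1419) F3060 (iv F2843) F2846 D884 D1308 F4165 (iv F6027) F6026 F4711 (iv F4572) (iv F5734) D2706 F8338 (iv F9600) D4349 (iv F18208)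
def n7395 : Q := act 7 n5811
theorem D7395 : act 7 n5811 = n7395 := rfl
theorem F23439 : act 0 n7395 = n7395 := d6_1 D7395 (iv D7395) F18207
theorem F23440 : act 4 n7395 = n7323 := d24_1 D7395 F23432 F23431
theorem F23441 : act 5 n7395 = n7322 := d26_1 D7395 (iv F23438) (iv D7394)
def n7396 : Q := act 1 n5812
theorem D7396 : act 1 n5812 = n7396 := rfl
theorem F23442 : act 6 n7396 = n5818 := d11_2 (iv F18211) D7396 (iv D5818)
def n7397 : Q := act 3 n5813
theorem D7397 : act 3 n5813 = n7397 := rfl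
theorem F23443 : act 0 n7397 = n7397 := d2_1 D7397 (iv D7397) F18212
theorem F23444 : act 4 n7397 = n5827 := d18_2 D5813 D7397 (iv D5827) (iv D4361) (iv F13458)
theorem F23445 : act 7 n7397 = n7397 := d21_2 F21704 D7397 (iv D7397) (iv F21704) F21702
def n7398 : Q := act 6 n5813
theorem D7398 : act 6 n5813 = n7398 := rfl
theorem F23446 : act 0 n7398 = n7398 := d5_1 D7398 (iv D7398) F18212
theorem F23447 : act 2 n7398 = n5815 := d16_1 D7398 (iv D5815) (iv F18213)
theorem F23448 : act 4 n7398 = n5814 := d23_1 D7398 (iv D5814) D5813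
def n7399 : Q := act 5 n5814
theorem D7399 : act 5 n5814 = n7399 := rfl
theorem F23449 : act 0 n7399 = n7399 := d4_1 D7399 (iv D7399) F18214
theorem F23450 : act 2 n7399 = n5816 := d15_1 D7399 (iv D5816) (iv F18215)
theorem F23451 : act 3 n7399 = n5829 := d19_1 D7399 (iv D5829) (iv F18216)
def n7400 : Q := act 7 n5814
theorem D7400 : act 7 n5814 = n7400 := rfl
theorem F23452 : act 0 n7400 = n7400 := d6_1 D7400 (iv D7400) F18214
theorem F23453 : act 2 n7400 = n5817 := d17_1 D7400 (iv D5817) (iv F18215)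
def n7401 : Q := act 5 n5815
theorem D7401 : act 5 n5815 = n7401 := rfl
theorem F23454 : act 0 n7401 = n7401 := d4_1 D7401 (iv D7401) F18217
theorem F23455 : act 3 n7401 = n6887 := d19_1 D7401 (iv F23420) F23417
theorem F23456 : act 4 n7401 = n5816 := d22_1 D7401 (iv D5816) (iv F18218)
theorem F23457 : act 6 n7401 = n7324 := d25_2 D5815 D7401 (iv F23433) (iv D7393) F18206
theorem F23458 : act 7 n6804 = n7401 := d27_0 F23457 (iv D7324) (iv D5744) (iv F16282) D6804
def n7402 : Q := act 7 n5815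
theorem D7402 : act 7 n5815 = n7402 := rfl
theorem F23459 : act 0 n7402 = n7402 := d6_1 D7402 (iv D7402) F18217
theorem F23460 : act 3 n7402 = n6805 := d21_1 D7402 F21436 (iv F21712) F23419 F23417
theorem F23461 : act 4 n7402 = n5817 := d24_1 D7402 (iv D5817) (iv F18218)
theorem F23462 : act 5 n7402 = n6804 := d26_1 D7402 F23458 (iv D7401)
theorem F23463 : act 6 n7402 = n7389 := d27_1 D7402 F23424 (iv D6885) F16555 D5815
def n7403 : Q := act 1 n5816
theorem D7403 : act 1 n5816 = n7403 := rfl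
theorem F23464 : act 3 n7403 = n5818 := d8_2 (iv F18220) D7403 (iv D5818)
def n7404 : Q := act 7 n5816
theorem D7404 : act 7 n5816 = n7404 := rfl
theorem F23465 : act 0 n7404 = n7404 := d6_1 D7404 (iv D7404) F18219
theorem F23466 : act 3 n7404 = n7393 := d21_1 D7404 (iv F23432) F23155 F17996 (iv F18220)
theorem F23467 : act 4 n7404 = n6804 := d24_1 D7404 F23458 F23456
theorem F23468 : act 5 n7404 = n5817 := d26_1 D7404 (iv D5817) D5816
theorem F23469 : act 6 n7404 = n6803 := d27_1 D7404 F21429 D7322 (iv F23438) F23437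
def n7405 : Q := act 0 n5818
theorem D7405 : act 0 n5818 = n7405 := rfl
theorem F23470 : act 1 n7405 = n7405 := d0_2 D5818 D7405 (iv D7405) (iv D5818) F13462
def n7406 : Q := act 2 n5818
theorem D7406 : act 2 n5818 = n7406 := rfl
theorem F23471 : act 1 n7406 = n5831 := d7_1 D7406 (iv D5831) (iv D4365) (iv F13463) D5818
def n7407 : Q := act 5 n5819
theorem D7407 : act 5 n5819 = n7407 := rfl
theorem F23472 : act 0 n7407 = n7407 := d4_1 D7407 (iv D7407) F18222
theorem F23473 : act 2 n7407 = n5820 := d15_1 D7407 (iv D5820) (iv F18223)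
theorem F23474 : act 7 n7407 = n7407 := d26_2 F18224 D7407 (iv D7407)
def n7408 : Q := act 1 n5820
theorem D7408 : act 1 n5820 = n7408 := rfl
theorem F23475 : act 3 n7408 = n5821 := d8_2 (iv F18226) D7408 (iv D5821)
theorem F23476 : act 5 n7408 = n5838 := d10_2 D5820 D7408 (iv D5838) (iv D4373) (iv F13467)
theorem F23477 : act 7 n7408 = n7408 := d12_2 F18227 D7408 (iv D7408)
def n7409 : Q := act 2 n5821
theorem D7409 : act 2 n5821 = n7409 := rfl
theorem F23478 : act 4 n7409 = n5831 := d14_2 (iv F18228) D7409 (iv D5831)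
theorem F23479 : act 5 n7409 = n5839 := d15_2 (iv F18229) D7409 (iv D5839)
def n7410 : Q := act 5 n5822
theorem D7410 : act 5 n5822 = n7410 := rfl
theorem F23480 : act 0 n7410 = n7410 := d4_1 D7410 (iv D7410) F18230
theorem F23481 : act 2 n7410 = n5823 := d15_1 D7410 (iv D5823) (iv F18231)
theorem F23482 : act 6 n7410 = n5829 := d25_2 D5822 D7410 (iv D5829) (iv D4362) (iv F13473)
theorem F23483 : act 7 n7410 = n7410 := d26_2 F18232 D7410 (iv D7410)
def n7411 : Q := act 2 n5824
theorem D7411 : act 2 n5824 = n7411 := rfl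
theorem F23484 : act 5 n7411 = n6092 := d15_2 (iv F18237) D7411 (iv D6092)
theorem F23485 : act 6 n7411 = n5831 := d16_2 (iv F18238) D7411 (iv D5831)
def n7412 : Q := act 3 n5825
theorem D7412 : act 3 n5825 = n7412 := rfl
theorem F23486 : act 0 n7412 = n6666 := d2_1 D7412 F20935 (iv F18239)
theorem F23487 : act 1 n7412 = n5827 := d8_1 D7412 (iv D5827) (iv F18240)
theorem F23488 : act 2 n7412 = n6659 := d13_1 D7412 (iv D6659) F15734 (iv F13528) (iv F18241)
theorem F23489 : act 7 n7412 = n7412 := d21_2 (iv F18242) D7412 (iv D7412) F18242 F13501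
def n7413 : Q := act 6 n5825
theorem D7413 : act 6 n5825 = n7413 := rfl
theorem F23490 : act 0 n7413 = n7246 := d5_1 D7413 (iv D7246) (iv F18239)
theorem F23491 : act 1 n7413 = n5828 := d11_1 D7413 (iv D5828) (iv F18240)
theorem F23492 : act 2 n7413 = n5842 := d16_1 D7413 (iv D5842) (iv F18241)
theorem F23493 : act 4 n7413 = n5826 := d23_1 D7413 (iv D5826) D5825
theorem F23494 : act 7 n7413 = n6145 := d27_2 (iv F18242) D7413 (iv D6145) (iv D4640) F13502
def n7414 : Q := act 5 n5826
theorem D7414 : act 5 n5826 = n7414 := rfl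
theorem F23495 : act 2 n7414 = n5844 := d15_1 D7414 (iv D5844) (iv F18244)
def n7415 : Q := act 6 n5827
theorem D7415 : act 6 n5827 = n7415 := rfl
theorem F23496 : act 0 n7415 = n7415 := d5_1 D7415 (iv D7415) F18245
theorem F23497 : act 3 n7415 = n5828 := d20_1 D7415 (iv D5828) D5827
def n7416 : Q := act 5 n5828
theorem D7416 : act 5 n5828 = n7416 := rfl
theorem F23498 : act 0 n7416 = n7416 := d4_1 D7416 (iv D7416) F18247
theorem F23499 : act 2 n7416 = n5830 := d15_1 D7416 (iv D5830) (iv F18248)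
theorem F23500 : act 4 n7416 = n5829 := d22_1 D7416 (iv D5829) (iv F18249)
theorem F23501 : act 7 n7416 = n6159 := d26_2 (iv F18250) D7416 (iv D6159)
def n7417 : Q := act 1 n5829
theorem D7417 : act 1 n5829 = n7417 := rfl
def n7418 : Q := act 3 n5831
theorem D7418 : act 3 n5831 = n7418 := rfl
theorem F23502 : act 5 n7418 = n5845 := d19_2 (iv F18256) D7418 (iv D5845)
def n7419 : Q := act 5 n5832
theorem D7419 : act 5 n5832 = n7419 := rfl
theorem F23503 : act 0 n7419 = n5835 := d4_1 D7419 (iv D5835) (iv F18257)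
theorem F23504 : act 2 n7419 = n5847 := d15_1 D7419 (iv D5847) (iv F18259)
theorem F23505 : act 3 n7419 = n7360 := d19_1 D7419 F23304 F21761
theorem F23506 : act 4 n7419 = n6126 := d22_1 D7419 (iv D6126) (iv F18260)
def n7420 : Q := act 6 n5833
theorem D7420 : act 6 n5833 = n7420 := rfl
theorem F23507 : act 2 n7420 = n5848 := d16_1 D7420 (iv D5848) (iv F18261)
theorem F23508 : act 3 n7420 = n7420 := d20_1 D7420 (iv D7420) F18262
theorem F23509 : act 4 n7420 = n5834 := d23_1 D7420 (iv D5834) (iv F18263)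
theorem F23510 : act 5 n7420 = n6142 := d25_1 D7420 (iv D6142) (iv D4639) F13502 D5833
def n7421 : Q := act 5 n5834
theorem D7421 : act 5 n5834 = n7421 := rfl
theorem F23511 : act 1 n7421 = n7421 := d10_1 D7421 (iv D7421) (iv F18451) F18452 F18451
theorem F23512 : act 2 n7421 = n5849 := d15_1 D7421 (iv D5849) (iv F18264)
theorem F23513 : act 4 n7421 = n6142 := d22_1 D7421 (iv F23510) F23509
theorem F23514 : act 6 n7421 = n5835 := d25_2 D5834 D7421 (iv D5835) (iv D4370) D4369
def n7422 : Q := act 5 n5836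
theorem D7422 : act 5 n5836 = n7422 := rfl
theorem F23515 : act 0 n7422 = n6522 := d4_1 D7422 (iv D6522) (iv F18268)
theorem F23516 : act 3 n7422 = n6517 := d19_1 D7422 (iv D6517) (iv F18270)
theorem F23517 : act 4 n7422 = n6725 := d22_1 D7422 (iv D6725) (iv F18271)
theorem F23518 : act 6 n7422 = n6718 := d25_2 D5836 D7422 F21120 (iv D6513) F15307
theorem F23519 : act 7 n7422 = n7422 := d26_2 F18272 D7422 (iv D7422)
def n7423 : Q := act 1 n5837
theorem D7423 : act 1 n5837 = n7423 := rfl
theorem F23520 : act 3 n7423 = n7049 := d8_2 (iv F18275) D7423 (iv D7049)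
theorem F23521 : act 4 n7423 = n7219 := d9_2 (iv F18276) D7423 F22859
theorem F23522 : act 6 n7423 = n6106 := d11_2 (iv F18277) D7423 (iv D6106)
theorem F23523 : act 7 n7423 = n7423 := d12_2 F18278 D7423 (iv D7423)
def n7424 : Q := act 2 n5838
theorem D7424 : act 2 n5838 = n7424 := rfl
theorem F23524 : act 6 n7424 = n6108 := d16_2 (iv F18280) D7424 (iv D6108)
theorem F23525 : act 7 n7424 = n7424 := d17_2 F18281 D7424 (iv D7424)
def n7425 : Q := act 3 n5839
theorem D7425 : act 3 n5839 = n7425 := rfl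
theorem F23526 : act 6 n7425 = n6110 := d20_2 (iv F18283) D7425 (iv D6110)
def n7426 : Q := act 5 n5840
theorem D7426 : act 5 n5840 = n7426 := rfl
theorem F23527 : act 0 n7426 = n5844 := d4_1 D7426 (iv D5844) (iv F18284)
theorem F23528 : act 3 n7426 = n7234 := d19_1 D7426 (iv D7234) (iv F18286)
theorem F23529 : act 4 n7426 = n7248 := d22_1 D7426 (iv D7248) (iv F18287)
def n7427 : Q := act 6 n5841
theorem D7427 : act 6 n5841 = n7427 := rfl
theorem F23530 : act 0 n7427 = n7247 := d5_1 D7427 (iv D7247) (iv F18288)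
theorem F23531 : act 1 n7427 = n5862 := d11_1 D7427 (iv D5862) (iv F18289)
theorem F23532 : act 3 n7427 = n7241 := d20_1 D7427 (iv D7241) (iv F18290)
theorem F23533 : act 4 n7427 = n5843 := d23_1 D7427 (iv D5843) (iv F18291)
def n7428 : Q := act 5 n5842
theorem D7428 : act 5 n5842 = n7428 := rfl
theorem F23534 : act 0 n7428 = n7248 := d4_1 D7428 (iv D7248) (iv F18293)
theorem F23535 : act 3 n7428 = n7242 := d19_1 D7428 (iv D7242) (iv F18295)
theorem F23536 : act 4 n7428 = n5844 := d22_1 D7428 (iv D5844) (iv F18296)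
theorem F23537 : act 7 n7428 = n6148 := d26_2 (iv F18297) D7428 (iv D6148)
def n7429 : Q := act 5 n5843
theorem D7429 : act 5 n5843 = n7429 := rfl
theorem F23538 : act 6 n7429 = n5844 := d25_2 D5843 D7429 (iv D5844) (iv D4378) D4377
def n7430 : Q := act 7 n5843
theorem D7430 : act 7 n5843 = n7430 := rfl
theorem F23539 : act 1 n7430 = n6114 := d12_1 D7430 (iv D6114) (iv F18298)
theorem F23540 : act 2 n7430 = n7284 := d17_1 D7430 F23044 F22446
theorem F23541 : act 6 n7430 = n5850 := d27_1 D7430 (iv D5850) (iv D4384) (iv F13531) D5843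
def n7431 : Q := act 4 n5845
theorem D7431 : act 4 n5845 = n7431 := rfl
theorem F23542 : act 6 n7431 = n6121 := d23_2 (iv F18299) D7431 (iv D6121)
def n7432 : Q := act 7 n5845
theorem D7432 : act 7 n5845 = n7432 := rfl
def n7433 : Q := act 5 n5846
theorem D7433 : act 5 n5846 = n7433 := rfl
theorem F23543 : act 0 n7433 = n5849 := d4_1 D7433 (iv D5849) (iv F18300)
theorem F23544 : act 3 n7433 = n5854 := d19_1 D7433 (iv D5854) (iv F18301)
theorem F23545 : act 4 n7433 = n6129 := d22_1 D7433 (iv F19284) F19283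
theorem F23546 : act 6 n7433 = n5847 := d25_2 D5846 D7433 (iv D5847) (iv D4382) D4381
def n7434 : Q := act 7 n5846
theorem D7434 : act 7 n5846 = n7434 := rfl
theorem F23547 : act 0 n7434 = n5850 := d6_1 D7434 (iv D5850) (iv F18300)
def n7435 : Q := act 7 n5848
theorem D7435 : act 7 n5848 = n7435 := rfl
theorem F23548 : act 1 n7435 = n5859 := d12_1 D7435 (iv D5859) (iv F18305)
theorem F23549 : act 4 n7435 = n5850 := d24_1 D7435 (iv D5850) (iv F18307)
theorem F23550 : act 5 n7435 = n6146 := d26_1 D7435 (iv D6146) (iv F18308)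
def n7436 : Q := act 7 n5849
theorem D7436 : act 7 n5849 = n7436 := rfl
theorem F23551 : act 1 n7436 = n6149 := d12_1 D7436 (iv D6149) (iv F18309)
theorem F23552 : act 4 n7436 = n6146 := d24_1 D7436 (iv D6146) (iv F18311)
theorem F23553 : act 5 n7436 = n5850 := d26_1 D7436 (iv D5850) D5849
def n7437 : Q := act 3 n5850
theorem D7437 : act 3 n5850 = n7437 := rfl
theorem F23554 : act 1 n7437 = n6125 := d8_1 D7437 (iv D6125) (iv F18313)
theorem F23555 : act 7 n7437 = n5860 := d21_2 D5850 D7437 (iv D5860) (iv D4393) (iv F13549)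
def n7438 : Q := act 6 n5851
theorem D7438 : act 6 n5851 = n7438 := rfl
theorem F23556 : act 0 n7438 = n6133 := d5_1 D7438 (iv D6133) (iv F18314)
theorem F23557 : act 1 n7438 = n5852 := d11_1 D7438 (iv D5852) D5851
theorem F23558 : act 3 n7438 = n6138 := d20_1 D7438 F19242 (iv F18315)
theorem F23559 : act 4 n7438 = n5853 := d23_1 D7438 (iv D5853) (iv F18316)
def n7439 : Q := act 7 n5852
theorem D7439 : act 7 n5852 = n7439 := rfl
theorem F23560 : act 0 n7439 = n5858 := d6_1 D7439 (iv D5858) (iv F18318)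
theorem F23561 : act 4 n7439 = n5855 := d24_1 D7439 (iv D5855) (iv F18320)
theorem F23562 : act 5 n7439 = n6124 := d26_1 D7439 (iv D6124) (iv F18321)
def n7440 : Q := act 5 n5853
theorem D7440 : act 5 n5853 = n7440 := rfl
theorem F23563 : act 0 n7440 = n6136 := d4_1 D7440 (iv D6136) (iv F18322)
theorem F23564 : act 6 n7440 = n5869 := d25_2 D5853 D7440 (iv D5869) (iv D4403) (iv F13557)
def n7441 : Q := act 7 n5853
theorem D7441 : act 7 n5853 = n7441 := rfl
theorem F23565 : act 0 n7441 = n6137 := d6_1 D7441 (iv D6137) (iv F18322)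
theorem F23566 : act 1 n7441 = n5855 := d12_1 D7441 (iv D5855) (iv F18323)
def n7442 : Q := act 1 n5854
theorem D7442 : act 1 n5854 = n7442 := rfl
theorem F23567 : act 2 n7442 = n7295 := d7_2 F21854 D7442 F23066 (iv F22667) F22666
theorem F23568 : act 4 n7442 = n6123 := d9_2 (iv F18325) D7442 F19201
theorem F23569 : act 6 n7442 = n5856 := d11_2 (iv F18326) D7442 (iv D5856)
def n7443 : Q := act 7 n5854
theorem D7443 : act 7 n5854 = n7443 := rfl
theorem F23570 : act 0 n7443 = n5859 := d6_1 D7443 (iv D5859) (iv F18324)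
theorem F23571 : act 4 n7443 = n6124 := d24_1 D7443 (iv D6124) (iv F18325)
theorem F23572 : act 5 n7443 = n5855 := d26_1 D7443 (iv D5855) D5854
def n7444 : Q := act 3 n5855
theorem D7444 : act 3 n5855 = n7444 := rfl
theorem F23573 : act 0 n7444 = n5860 := d2_1 D7444 (iv D5860) (iv F18327)
def n7445 : Q := act 6 n5857
theorem D7445 : act 6 n5857 = n7445 := rfl
theorem F23574 : act 0 n7445 = n5862 := d5_1 D7445 (iv D5862) (iv F18332)
theorem F23575 : act 1 n7445 = n5992 := d11_1 D7445 F18789 (iv F18333)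
theorem F23576 : act 2 n7445 = n7148 := d16_1 D7445 (iv D7148) (iv F18334)
theorem F23577 : act 3 n7445 = n6002 := d20_1 D7445 F18824 F18337
theorem F23578 : act 4 n7445 = n6111 := d23_1 D7445 (iv D6111) (iv F18335)
def n7446 : Q := act 3 n5858
theorem D7446 : act 3 n5858 = n7446 := rfl
theorem F23579 : act 1 n7446 = n6150 := d8_1 D7446 (iv D6150) (iv F18338)
theorem F23580 : act 5 n7446 = n6125 := d19_2 (iv F18340) D7446 (iv D6125)
theorem F23581 : act 7 n7446 = n6151 := d21_2 D5858 D7446 (iv D6151) (iv D4646) (iv F13566)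
def n7447 : Q := act 3 n5859
theorem D7447 : act 3 n5859 = n7447 := rfl
theorem F23582 : act 5 n7447 = n5860 := d19_2 (iv F18342) D7447 (iv D5860)
def n7448 : Q := act 6 n5859
theorem D7448 : act 6 n5859 = n7448 := rfl
theorem F23583 : act 4 n7448 = n6114 := d23_1 D7448 F19185 (iv F18341)
theorem F23584 : act 7 n7448 = n5862 := d27_2 D5859 D7448 (iv D5862) (iv D4394) (iv F13570)
def n7449 : Q := act 2 n5860
theorem D7449 : act 2 n5860 = n7449 := rfl
def n7450 : Q := act 4 n5860
theorem D7450 : act 4 n5860 = n7450 := rfl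
theorem F23585 : act 1 n7450 = n6154 := d9_1 D7450 (iv D6154) (iv F18343)
def n7451 : Q := act 2 n5861
theorem D7451 : act 2 n5861 = n7451 := rfl
theorem F23586 : act 0 n7451 = n6005 := d1_1 D7451 (iv D6005) (iv F18344)
theorem F23587 : act 3 n7451 = n7137 := d13_2 D5861 D7451 (iv D7137) F17440 F16702
theorem F23588 : act 4 n7451 = n6536 := d14_2 F18348 D7451 F20510
theorem F23589 : act 5 n7451 = n5863 := d15_2 (iv F18346) D7451 (iv D5863)
theorem F23590 : act 7 n7451 = n7068 := d17_2 (iv F18347) D7451 F22389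
theorem F23591 : act 1 n6803 = n7451 := d12_3 F23590 F22388 (iv F21429)
def n7452 : Q := act 6 n5861
theorem D7452 : act 6 n5861 = n7452 := rfl
theorem F23592 : act 0 n7452 = n6002 := d5_1 D7452 F18824 (iv F18344)
theorem F23593 : act 1 n7452 = n7241 := d11_1 D7452 (iv D7241) (iv F18345)
theorem F23594 : act 3 n7452 = n5862 := d20_1 D7452 (iv D5862) D5861
theorem F23595 : act 4 n7452 = n7243 := d23_1 D7452 (iv D7243) F18348
def n7453 : Q := act 5 n5864
theorem D7453 : act 5 n5864 = n7453 := rfl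
theorem F23596 : act 0 n7453 = n6172 := d4_1 D7453 (iv D6172) (iv F18353)
theorem F23597 : act 3 n7453 = n5869 := d19_1 D7453 (iv D5869) (iv F18355)
def n7454 : Q := act 3 n5865
theorem D7454 : act 3 n5865 = n7454 := rfl
theorem F23598 : act 0 n7454 = n6175 := d2_1 D7454 (iv D6175) (iv F18356)
theorem F23599 : act 1 n7454 = n5873 := d8_1 D7454 (iv D5873) (iv F18357)
theorem F23600 : act 2 n7454 = n6186 := d13_1 D7454 (iv D6186) (iv D4677) (iv F13592) D5865
def n7455 : Q := act 6 n5865
theorem D7455 : act 6 n5865 = n7455 := rfl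
theorem F23601 : act 0 n7455 = n6176 := d5_1 D7455 (iv D6176) (iv F18356)
theorem F23602 : act 1 n7455 = n5874 := d11_1 D7455 (iv D5874) (iv F18357)
theorem F23603 : act 2 n7455 = n5866 := d16_1 D7455 (iv D5866) D5865
theorem F23604 : act 4 n7455 = n5868 := d23_1 D7455 (iv D5868) (iv F18358)
def n7456 : Q := act 5 n5866
theorem D7456 : act 5 n5866 = n7456 := rfl
theorem F23605 : act 0 n7456 = n6177 := d4_1 D7456 (iv D6177) (iv F18360)
theorem F23606 : act 1 n7456 = n6172 := d10_1 D7456 (iv D6172) F14417 (iv F13599) (iv F18361)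
theorem F23607 : act 3 n7456 = n6183 := d19_1 D7456 F19363 (iv F18362)
theorem F23608 : act 4 n7456 = n5869 := d22_1 D7456 (iv D5869) (iv F18363)
def n7457 : Q := act 7 n5866
theorem D7457 : act 7 n5866 = n7457 := rfl
theorem F23609 : act 0 n7457 = n6178 := d6_1 D7457 (iv D6178) (iv F18360)
theorem F23610 : act 1 n7457 = n5867 := d12_1 D7457 (iv D5867) (iv F18361)
theorem F23611 : act 3 n7457 = n7225 := d21_1 D7457 (iv D7225) F17693 (iv F14454) (iv F18362)
theorem F23612 : act 4 n7457 = n5870 := d24_1 D7457 (iv D5870) (iv F18363)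
theorem F23613 : act 6 n7457 = n7240 := d27_1 D7457 F22925 F17792 (iv F13594) D5866
def n7458 : Q := act 5 n5868
theorem D7458 : act 5 n5868 = n7458 := rfl
theorem F23614 : act 0 n7458 = n6181 := d4_1 D7458 (iv D6181) (iv F18370)
theorem F23615 : act 2 n7458 = n5869 := d15_1 D7458 (iv D5869) (iv F18372)
def n7459 : Q := act 7 n5868
theorem D7459 : act 7 n5868 = n7459 := rfl
theorem F23616 : act 0 n7459 = n6182 := d6_1 D7459 (iv D6182) (iv F18370)
theorem F23617 : act 1 n7459 = n5881 := d12_1 D7459 (iv D5881) (iv F18371)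
theorem F23618 : act 2 n7459 = n5870 := d17_1 D7459 (iv D5870) (iv F18372)
def n7460 : Q := act 1 n5869
theorem D7460 : act 1 n5869 = n7460 := rfl
theorem F23619 : act 4 n7460 = n6172 := d9_2 F23608 D7460 (iv F23606)
theorem F23620 : act 5 n7460 = n5871 := d10_2 D5869 D7460 (iv D5871) (iv D4404) (iv F13603)
theorem F23621 : act 7 n5987 = n7460 := d26_0 F23620 F18379 D5987
def n7461 : Q := act 7 n5869
theorem D7461 : act 7 n5869 = n7461 := rfl
theorem F23622 : act 0 n7461 = n6184 := d6_1 D7461 (iv D6184) (iv F18373)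
theorem F23623 : act 1 n7461 = n5987 := d12_1 D7461 F23621 (iv D7460)
theorem F23624 : act 5 n7461 = n5870 := d26_1 D7461 (iv D5870) D5869
theorem F23625 : act 3 n6115 = n7461 := d19_3 F23624 (iv F18376) (iv F19186)
def n7462 : Q := act 2 n5871
theorem D7462 : act 2 n5871 = n7462 := rfl
theorem F23626 : act 1 n7462 = n5884 := d7_1 D7462 (iv D5884) (iv D4415) (iv F13605) D5871
theorem F23627 : act 4 n7462 = n6171 := d14_2 (iv F18377) D7462 F19330
theorem F23628 : act 6 n7462 = n5872 := d16_2 (iv F18378) D7462 (iv D5872)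
theorem F23629 : act 7 n7462 = n5964 := d17_2 (iv F18379) D7462 F18690
def n7463 : Q := act 3 n5872
theorem D7463 : act 3 n5872 = n7463 := rfl
theorem F23630 : act 1 n7463 = n5885 := d8_1 D7463 (iv D5885) (iv F18380)
theorem F23631 : act 4 n7463 = n7306 := d18_2 (iv F18381) D7463 (iv D7306) F17952 F14416
theorem F23632 : act 5 n7463 = n7294 := d19_2 (iv F18382) D7463 (iv D7294)
theorem F23633 : act 7 n7463 = n7463 := d21_2 (iv F18383) D7463 (iv D7463) F18383 F13890
def n7464 : Q := act 4 n5873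
theorem D7464 : act 4 n5873 = n7464 := rfl
theorem F23634 : act 0 n7464 = n5893 := d3_1 D7464 (iv D5893) (iv F18384)
theorem F23635 : act 2 n7464 = n6358 := d14_1 D7464 (iv D6358) (iv F18385)
theorem F23636 : act 3 n7464 = n5878 := d18_1 D7464 (iv D5878) (iv D4411) (iv F13622) D5873
def n7465 : Q := act 6 n5873
theorem D7465 : act 6 n5873 = n7465 := rfl
theorem F23637 : act 0 n7465 = n5894 := d5_1 D7465 (iv D5894) (iv F18384)
theorem F23638 : act 2 n7465 = n6354 := d16_1 D7465 F19904 (iv F18385)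
theorem F23639 : act 3 n7465 = n5874 := d20_1 D7465 (iv D5874) D5873
def n7466 : Q := act 7 n5873
theorem D7466 : act 7 n5873 = n7466 := rfl
theorem F23640 : act 0 n7466 = n5895 := d6_1 D7466 (iv D5895) (iv F18384)
theorem F23641 : act 2 n7466 = n6359 := d17_1 D7466 (iv D6359) (iv F18385)
def n7467 : Q := act 5 n5874
theorem D7467 : act 5 n5874 = n7467 := rfl
theorem F23642 : act 0 n7467 = n5896 := d4_1 D7467 (iv D5896) (iv F18386)
theorem F23643 : act 2 n7467 = n5875 := d15_1 D7467 (iv D5875) (iv F18387)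
theorem F23644 : act 4 n7467 = n5880 := d22_1 D7467 (iv D5880) (iv F18388)
def n7468 : Q := act 7 n5874
theorem D7468 : act 7 n5874 = n7468 := rfl
theorem F23645 : act 0 n7468 = n5897 := d6_1 D7468 (iv D5897) (iv F18386)
theorem F23646 : act 2 n7468 = n5876 := d17_1 D7468 (iv D5876) (iv F18387)
theorem F23647 : act 4 n7468 = n5881 := d24_1 D7468 (iv D5881) (iv F18388)
def n7469 : Q := act 7 n5875
theorem D7469 : act 7 n5875 = n7469 := rfl
theorem F23648 : act 0 n7469 = n5898 := d6_1 D7469 (iv D5898) (iv F18389)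
theorem F23649 : act 1 n7469 = n5967 := d12_1 D7469 F18700 (iv F18390)
theorem F23650 : act 4 n7469 = n5883 := d24_1 D7469 (iv D5883) (iv F18392)
theorem F23651 : act 5 n7469 = n5876 := d26_1 D7469 (iv D5876) D5875
def n7470 : Q := act 3 n5876
theorem D7470 : act 3 n5876 = n7470 := rfl
theorem F23652 : act 0 n7470 = n5899 := d2_1 D7470 (iv D5899) (iv F18393)
theorem F23653 : act 1 n7470 = n5877 := d8_1 D7470 (iv D5877) (iv F18394)
theorem F23654 : act 4 n7470 = n5979 := d18_2 (iv F18395) D7470 F18744 F13912 F13638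
theorem F23655 : act 6 n7470 = n7045 := d20_2 F22880 D7470 (iv F22878)
theorem F23656 : act 7 n7470 = n6356 := d21_2 D5876 D7470 (iv D6356) (iv D4821) (iv F13625)
theorem F23657 : act 2 n7434 = n7470 := d17_3 F23656 F19913 D7434
def n7471 : Q := act 6 n5878
theorem D7471 : act 6 n5878 = n7471 := rfl
theorem F23658 : act 0 n7471 = n5902 := d5_1 D7471 (iv D5902) (iv F18402)
theorem F23659 : act 2 n7471 = n7471 := d16_1 D7471 (iv D7471) F18403
theorem F23660 : act 4 n7471 = n5879 := d23_1 D7471 (iv D5879) D5878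
def n7472 : Q := act 5 n5879
theorem D7472 : act 5 n5879 = n7472 := rfl
theorem F23661 : act 0 n7472 = n5904 := d4_1 D7472 (iv D5904) (iv F18404)
theorem F23662 : act 2 n7472 = n7472 := d15_1 D7472 (iv D7472) F18405
theorem F23663 : act 3 n7472 = n5880 := d19_1 D7472 (iv D5880) (iv F18406)
def n7473 : Q := act 7 n5879
theorem D7473 : act 7 n5879 = n7473 := rfl
theorem F23664 : act 0 n7473 = n5905 := d6_1 D7473 (iv D5905) (iv F18404)
theorem F23665 : act 2 n7473 = n7473 := d17_1 D7473 (iv D7473) F18405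
def n7474 : Q := act 1 n5880
theorem D7474 : act 1 n5880 = n7474 := rfl
def n7475 : Q := act 7 n5880
theorem D7475 : act 7 n5880 = n7475 := rfl
theorem F23666 : act 0 n7475 = n5908 := d6_1 D7475 (iv D5908) (iv F18407)
theorem F23667 : act 2 n7475 = n5883 := d17_1 D7475 (iv D5883) (iv F18408)
theorem F23668 : act 5 n7475 = n5881 := d26_1 D7475 (iv D5881) D5880
def n7476 : Q := act 3 n5881
theorem D7476 : act 3 n5881 = n7476 := rfl
theorem F23669 : act 0 n7476 = n5909 := d2_1 D7476 (iv D5909) (iv F18409)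
theorem F23670 : act 2 n7476 = n5988 := d13_1 D7476 (iv D5988) (iv D4503) F13638 (iv F18410)
def n7477 : Q := act 2 n5882
theorem D7477 : act 2 n5882 = n7477 := rfl
theorem F23671 : act 0 n7477 = n7477 := d1_1 D7477 (iv D7477) F18411
theorem F23672 : act 4 n7477 = n6342 := d14_2 (iv F18413) D7477 F19865
theorem F23673 : act 5 n7477 = n5884 := d15_2 (iv F18414) D7477 (iv D5884)
theorem F23674 : act 7 n7477 = n5966 := d17_2 F18415 D7477 F18697
def n7478 : Q := act 6 n5883
theorem D7478 : act 6 n5883 = n7478 := rfl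
theorem F23675 : act 0 n7478 = n5911 := d5_1 D7478 (iv D5911) (iv F18416)
theorem F23676 : act 1 n7478 = n5958 := d11_1 D7478 F18669 (iv F18417)
theorem F23677 : act 3 n7478 = n5960 := d20_1 D7478 F18672 F18419
def n7479 : Q := act 3 n5884
theorem D7479 : act 3 n5884 = n7479 := rfl
theorem F23678 : act 0 n7479 = n7479 := d2_1 D7479 (iv D7479) F18420
theorem F23679 : act 2 n7479 = n7479 := d13_1 D7479 (iv D7479) (iv D5884) F13640 D5884
theorem F23680 : act 6 n7479 = n5885 := d20_2 (iv F18422) D7479 (iv D5885)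
def n7480 : Q := act 4 n5886
theorem D7480 : act 4 n5886 = n7480 := rfl
theorem F23681 : act 0 n7480 = n6358 := d3_1 D7480 (iv D6358) (iv F18427)
theorem F23682 : act 1 n7480 = n7480 := d9_1 D7480 (iv D7480) F18428
theorem F23683 : act 2 n7480 = n5893 := d14_1 D7480 (iv D5893) (iv F18429)
theorem F23684 : act 3 n7480 = n7480 := d18_1 D7480 (iv D7480) (iv D5886) F13655 D5886
def n7481 : Q := act 6 n5886
theorem D7481 : act 6 n5886 = n7481 := rfl
theorem F23685 : act 0 n7481 = n6354 := d5_1 D7481 F19904 (iv F18427)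
theorem F23686 : act 1 n7481 = n7481 := d11_1 D7481 (iv D7481) F18428
theorem F23687 : act 2 n7481 = n5894 := d16_1 D7481 (iv D5894) (iv F18429)
theorem F23688 : act 3 n7481 = n5887 := d20_1 D7481 (iv D5887) D5886
theorem F23689 : act 7 n6916 = n7481 := d21_0 F23688 F18439 F16672 D5352 D6916
def n7482 : Q := act 7 n5886
theorem D7482 : act 7 n5886 = n7482 := rfl
theorem F23690 : act 0 n7482 = n6359 := d6_1 D7482 (iv D6359) (iv F18427)
theorem F23691 : act 1 n7482 = n7482 := d12_1 D7482 (iv D7482) F18428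
theorem F23692 : act 2 n7482 = n5895 := d17_1 D7482 (iv D5895) (iv F18429)
def n7483 : Q := act 5 n5887
theorem D7483 : act 5 n5887 = n7483 := rfl
theorem F23693 : act 0 n7483 = n6349 := d4_1 D7483 F19891 (iv F18430)
theorem F23694 : act 2 n7483 = n5889 := d15_1 D7483 (iv D5889) (iv F18432)
theorem F23695 : act 4 n7483 = n7483 := d22_1 D7483 (iv D7483) F18433
theorem F23696 : act 6 n7483 = n6463 := d25_2 D5887 D7483 F22024 (iv D6955) F16855
theorem F23697 : act 7 n7483 = n6469 := d26_2 (iv F18439) D7483 F20257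
theorem F23698 : act 1 n6465 = n7483 := d12_3 F23697 F20254 (iv F20243)
def n7484 : Q := act 3 n5888
theorem D7484 : act 3 n5888 = n7484 := rfl
theorem F23699 : act 0 n7484 = n6360 := d2_1 D7484 (iv D6360) (iv F18434)
theorem F23700 : act 1 n7484 = n7484 := d8_1 D7484 (iv D7484) F18435
theorem F23701 : act 2 n7484 = n6822 := d13_1 D7484 F21496 F16352 (iv F13662) (iv F18436)
theorem F23702 : act 6 n7484 = n6642 := d20_2 F18438 D7484 F20863
def n7485 : Q := act 7 n5889
theorem D7485 : act 7 n5889 = n7485 := rfl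
theorem F23703 : act 0 n7485 = n6350 := d6_1 D7485 (iv D6350) (iv F18440)
theorem F23704 : act 1 n7485 = n7485 := d12_1 D7485 (iv D7485) F18441
theorem F23705 : act 2 n7485 = n6469 := d17_1 D7485 (iv F23697) F23694
theorem F23706 : act 4 n7485 = n7485 := d24_1 D7485 (iv D7485) F18443
theorem F23707 : act 5 n7485 = n5890 := d26_1 D7485 (iv D5890) D5889
theorem F23708 : act 6 n7485 = n6468 := d27_1 D7485 (iv D6468) (iv F20234) F22025 F22022
theorem F23709 : act 3 n7421 = n7485 := d20_3 F23708 (iv F20253) (iv F23514)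
def n7486 : Q := act 4 n5891
theorem D7486 : act 4 n5891 = n7486 := rfl
theorem F23710 : act 0 n7486 = n5916 := d3_1 D7486 (iv D5916) (iv F18450)
theorem F23711 : act 1 n7486 = n7420 := d9_1 D7486 F23509 (iv F18451)
theorem F23712 : act 2 n7486 = n6471 := d14_1 D7486 F20267 F19159
theorem F23713 : act 3 n7486 = n7486 := d18_1 D7486 (iv D7486) (iv D5891) F13667 D5891
theorem F23714 : act 5 n7486 = n7486 := d22_2 F18452 D7486 (iv D7486)
theorem F23715 : act 6 n7486 = n6470 := d23_2 (iv F18453) D7486 F20261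
theorem F23716 : act 7 n7486 = n5901 := d24_2 (iv F18454) D7486 (iv D5901)
def n7487 : Q := act 6 n5893
theorem D7487 : act 6 n5893 = n7487 := rfl
theorem F23717 : act 1 n7487 = n6207 := d11_1 D7487 (iv D6207) (iv F18461)
theorem F23718 : act 3 n7487 = n5902 := d20_1 D7487 (iv D5902) (iv F18462)
theorem F23719 : act 4 n7487 = n5894 := d23_1 D7487 (iv D5894) D5893
def n7488 : Q := act 7 n5893
theorem D7488 : act 7 n5893 = n7488 := rfl
theorem F23720 : act 1 n7488 = n6208 := d12_1 D7488 (iv D6208) (iv F18461)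
theorem F23721 : act 4 n7488 = n5895 := d24_1 D7488 (iv D5895) D5893
def n7489 : Q := act 5 n5894
theorem D7489 : act 5 n5894 = n7489 := rfl
theorem F23722 : act 3 n7489 = n5896 := d19_1 D7489 (iv D5896) (iv F18464)
def n7490 : Q := act 7 n5894
theorem D7490 : act 7 n5894 = n7490 := rfl
theorem F23723 : act 1 n7490 = n6210 := d12_1 D7490 (iv D6210) (iv F18463)
theorem F23724 : act 2 n7490 = n6916 := d17_1 D7490 F23689 F23687
theorem F23725 : act 3 n7449 = n7490 := d13_0 F23724 (iv D6916) F16701 D5860 D7449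
def n7491 : Q := act 6 n5895
theorem D7491 : act 6 n5895 = n7491 := rfl
theorem F23726 : act 1 n7491 = n6211 := d11_1 D7491 (iv D6211) (iv F18465)
def n7492 : Q := act 1 n5896
theorem D7492 : act 1 n5896 = n7492 := rfl
theorem F23727 : act 2 n7492 = n7492 := d7_2 (iv F18466) D7492 (iv D7492) F18466 F13680
theorem F23728 : act 4 n7492 = n5907 := d9_2 (iv F18467) D7492 (iv D5907)
theorem F23729 : act 5 n7492 = n6212 := d10_2 D5896 D7492 (iv D6212) (iv D4695) (iv F13677)
def n7493 : Q := act 7 n5896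
theorem D7493 : act 7 n5896 = n7493 := rfl
theorem F23730 : act 2 n7493 = n5898 := d17_1 D7493 (iv D5898) (iv F18466)
theorem F23731 : act 4 n7493 = n5908 := d24_1 D7493 (iv D5908) (iv F18467)
theorem F23732 : act 5 n7493 = n5897 := d26_1 D7493 (iv D5897) D5896
def n7494 : Q := act 3 n5897
theorem D7494 : act 3 n5897 = n7494 := rfl
theorem F23733 : act 1 n7494 = n6214 := d8_1 D7494 (iv D6214) (iv F18468)
theorem F23734 : act 2 n7494 = n7437 := d13_1 D7494 (iv D7437) F18476 (iv D5899) (iv F18469)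
theorem F23735 : act 7 n7494 = n7449 := d21_2 D5897 D7494 F23725 (iv D7490) F18464
def n7495 : Q := act 3 n5898
theorem D7495 : act 3 n5898 = n7495 := rfl
theorem F23736 : act 1 n7495 = n7495 := d8_1 D7495 (iv D7495) F18471
theorem F23737 : act 5 n7495 = n5899 := d19_2 (iv F18473) D7495 (iv D5899)
theorem F23738 : act 7 n7495 = n7421 := d21_2 D5898 D7495 F23709 (iv D7485) F18442
theorem F23739 : act 2 n7436 = n7495 := d17_3 F23738 F23512 D7436
def n7496 : Q := act 6 n5898
theorem D7496 : act 6 n5898 = n7496 := rfl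
theorem F23740 : act 1 n7496 = n7496 := d11_1 D7496 (iv D7496) F18471
theorem F23741 : act 4 n7496 = n5911 := d23_1 D7496 (iv D5911) (iv F18472)
def n7497 : Q := act 4 n5899
theorem D7497 : act 4 n5899 = n7497 := rfl
theorem F23742 : act 0 n7497 = n5979 := d3_1 D7497 (iv F23654) F23652
theorem F23743 : act 1 n7497 = n5901 := d9_1 D7497 (iv D5901) (iv F18474)
theorem F23744 : act 2 n7497 = n7435 := d14_1 D7497 F23549 F18476
theorem F23745 : act 3 n7497 = n5913 := d18_1 D7497 (iv D5913) (iv D4434) (iv F13683) D5899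
theorem F23746 : act 7 n7497 = n7420 := d24_2 (iv F18475) D7497 F23509
def n7498 : Q := act 4 n5900
theorem D7498 : act 4 n5900 = n7498 := rfl
theorem F23747 : act 0 n7498 = n5917 := d3_1 D7498 (iv D5917) (iv F18477)
theorem F23748 : act 1 n7498 = n6915 := d9_1 D7498 F21864 F19167
theorem F23749 : act 2 n7498 = n5901 := d14_1 D7498 (iv D5901) D5900
theorem F23750 : act 5 n7498 = n7498 := d22_2 F18479 D7498 (iv D7498)
theorem F23751 : act 7 n7498 = n6471 := d24_2 (iv F19162) D7498 F20267
def n7499 : Q := act 7 n5902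
theorem D7499 : act 7 n5902 = n7499 := rfl
theorem F23752 : act 1 n7499 = n6222 := d12_1 D7499 (iv D6222) (iv F18483)
theorem F23753 : act 2 n7499 = n7499 := d17_1 D7499 (iv D7499) F18484
theorem F23754 : act 4 n7499 = n5905 := d24_1 D7499 (iv D5905) (iv F18485)
def n7500 : Q := act 6 n5903
theorem D7500 : act 6 n5903 = n7500 := rfl
theorem F23755 : act 1 n7500 = n6224 := d11_1 D7500 (iv D6224) (iv F18486)
theorem F23756 : act 2 n7500 = n7500 := d16_1 D7500 (iv D7500) F18487
theorem F23757 : act 3 n7500 = n7206 := d20_1 D7500 F22819 F20304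
theorem F23758 : act 4 n7500 = n5906 := d23_1 D7500 (iv D5906) (iv F18488)
def n7501 : Q := act 7 n5904
theorem D7501 : act 7 n5904 = n7501 := rfl
theorem F23759 : act 2 n7501 = n7501 := d17_1 D7501 (iv D7501) F18489
theorem F23760 : act 5 n7501 = n5905 := d26_1 D7501 (iv D5905) D5904
def n7502 : Q := act 3 n5905
theorem D7502 : act 3 n5905 = n7502 := rfl
theorem F23761 : act 1 n7502 = n6227 := d8_1 D7502 (iv D6227) (iv F18491)
theorem F23762 : act 7 n7502 = n5909 := d21_2 D5905 D7502 (iv D5909) (iv D4432) (iv F13690)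
def n7503 : Q := act 6 n5905
theorem D7503 : act 6 n5905 = n7503 := rfl
theorem F23763 : act 1 n7503 = n6228 := d11_1 D7503 (iv D6228) (iv F18491)
theorem F23764 : act 2 n7503 = n7503 := d16_1 D7503 (iv D7503) F18492
theorem F23765 : act 7 n7503 = n5906 := d27_2 D5905 D7503 (iv D5906) (iv D4430) D4429
def n7504 : Q := act 5 n5906
theorem D7504 : act 5 n5906 = n7504 := rfl
theorem F23766 : act 2 n7504 = n7504 := d15_1 D7504 (iv D7504) F18494
theorem F23767 : act 3 n7504 = n7300 := d19_1 D7504 F23086 F22151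
theorem F23768 : act 6 n7504 = n7299 := d25_2 D5906 D7504 (iv D7299) F17930 F16894
def n7505 : Q := act 0 n5907
theorem D7505 : act 0 n5907 = n7505 := rfl
theorem F23769 : act 2 n7505 = n7505 := d1_2 F18495 D7505 (iv D7505)
theorem F23770 : act 5 n7505 = n6230 := d4_2 (iv F18496) D7505 (iv D6230)
def n7506 : Q := act 7 n5907
theorem D7506 : act 7 n5907 = n7506 := rfl
theorem F23771 : act 1 n7506 = n5908 := d12_1 D7506 (iv D5908) D5907
theorem F23772 : act 2 n7506 = n7506 := d17_1 D7506 (iv D7506) F18495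
theorem F23773 : act 5 n7506 = n6231 := d26_1 D7506 (iv D6231) (iv F18496)
def n7507 : Q := act 3 n5908
theorem D7507 : act 3 n5908 = n7507 := rfl
theorem F23774 : act 5 n7507 = n5909 := d19_2 (iv F18498) D7507 (iv D5909)
def n7508 : Q := act 6 n5908
theorem D7508 : act 6 n5908 = n7508 := rfl
theorem F23775 : act 2 n7508 = n5911 := d16_1 D7508 (iv D5911) (iv F18497)
def n7509 : Q := act 2 n5909
theorem D7509 : act 2 n5909 = n7509 := rfl
theorem F23776 : act 0 n7509 = n5988 := d1_1 D7509 (iv F23670) F23669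
theorem F23777 : act 3 n7509 = n5912 := d13_2 D5909 D7509 (iv D5912) (iv D4434) (iv F13695)
def n7510 : Q := act 4 n5909
theorem D7510 : act 4 n5909 = n7510 := rfl
theorem F23778 : act 1 n7510 = n6235 := d9_1 D7510 (iv D6235) (iv F18499)
def n7511 : Q := act 2 n5910
theorem D7511 : act 2 n5910 = n7511 := rfl
theorem F23779 : act 0 n7511 = n5968 := d1_1 D7511 (iv D5968) (iv F18500)
theorem F23780 : act 5 n7511 = n5912 := d15_2 (iv F18502) D7511 (iv D5912)
theorem F23781 : act 7 n7511 = n7511 := d17_2 F18503 D7511 (iv D7511)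
def n7512 : Q := act 4 n5910
theorem D7512 : act 4 n5910 = n7512 := rfl
theorem F23782 : act 0 n7512 = n5951 := d3_1 D7512 F18645 (iv F18500)
theorem F23783 : act 1 n7512 = n7512 := d9_1 D7512 (iv D7512) F18501
theorem F23784 : act 5 n7512 = n5913 := d22_2 (iv F18502) D7512 (iv D5913)
theorem F23785 : act 7 n7512 = n7512 := d24_2 F18503 D7512 (iv D7512)
def n7513 : Q := act 6 n5910
theorem D7513 : act 6 n5910 = n7513 := rfl
theorem F23786 : act 0 n7513 = n5960 := d5_1 D7513 F18672 (iv F18500)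
theorem F23787 : act 1 n7513 = n7513 := d11_1 D7513 (iv D7513) F18501
theorem F23788 : act 3 n7513 = n5911 := d20_1 D7513 (iv D5911) D5910
def n7514 : Q := act 1 n5912
theorem D7514 : act 1 n5912 = n7514 := rfl
theorem F23789 : act 0 n7514 = n6119 := d0_1 D7514 (iv D6119) F14309 (iv F13929) (iv F18505)
theorem F23790 : act 2 n7514 = n5914 := d7_2 D5912 D7514 (iv D5914) (iv D4435) (iv F13699)
theorem F23791 : act 7 n7514 = n7514 := d12_2 F18506 D7514 (iv D7514)
def n7515 : Q := act 4 n5912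
theorem D7515 : act 4 n5912 = n7515 := rfl
theorem F23792 : act 0 n7515 = n5981 := d3_1 D7515 F18752 (iv F18505)
theorem F23793 : act 2 n7515 = n5913 := d14_1 D7515 (iv D5913) D5912
theorem F23794 : act 7 n7515 = n7515 := d24_2 F18506 D7515 (iv D7515)
def n7516 : Q := act 4 n5914
theorem D7516 : act 4 n5914 = n7516 := rfl
theorem F23795 : act 0 n7516 = n6164 := d3_1 D7516 F19306 (iv F18510)
theorem F23796 : act 1 n7516 = n5915 := d9_1 D7516 (iv D5915) D5914
theorem F23797 : act 6 n7516 = n6366 := d23_2 F19320 D7516 (iv F21796)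
theorem F23798 : act 7 n7516 = n7516 := d24_2 F18512 D7516 (iv D7516)
def n7517 : Q := act 3 n5915
theorem D7517 : act 3 n5915 = n7517 := rfl
theorem F23799 : act 0 n7517 = n5918 := d2_1 D7517 (iv D5918) (iv F18513)
theorem F23800 : act 4 n7517 = n6243 := d18_2 D5915 D7517 (iv D6243) (iv D4714) (iv F13702)
theorem F23801 : act 5 n7517 = n7517 := d19_2 F18515 D7517 (iv D7517)
def n7518 : Q := act 3 n5917
theorem D7518 : act 3 n5917 = n7518 := rfl
theorem F23802 : act 2 n7518 = n5918 := d13_1 D7518 (iv D5918) F13718 (iv F13715) (iv F18523)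
theorem F23803 : act 4 n7518 = n6246 := d18_2 D5917 D7518 (iv D6246) (iv D4716) (iv F13712)
theorem F23804 : act 5 n7518 = n7518 := d19_2 F18524 D7518 (iv D7518)
theorem F23805 : act 7 n7518 = n6473 := d21_2 (iv F18525) D7518 F20272 F15164 (iv F15172)
def n7519 : Q := act 7 n5918
theorem D7519 : act 7 n5918 = n7519 := rfl
theorem F23806 : act 1 n7519 = n6167 := d12_1 D7519 (iv D6167) (iv F18526)
theorem F23807 : act 2 n7519 = n6473 := d17_1 D7519 (iv F23805) F23802
theorem F23808 : act 3 n7519 = n7519 := d21_1 D7519 (iv D7519) (iv D5918) F13720 D5918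
theorem F23809 : act 4 n7519 = n6247 := d24_1 D7519 (iv D6247) (iv F18527)
theorem F23810 : act 5 n7519 = n7519 := d26_1 D7519 (iv D7519) F18528
theorem F23811 : act 6 n7519 = n6472 := d30_6 D1528 D2249 (iv F9829) (iv F13718) D5918 D7519 F20271 (iv F18540) F18541 F18542 (iv D5921) (iv D4442) F9834 (iv F13419) F13420 (iv D3288) (iv D2283) (iv F7036) F7035 (iv D1655) (iv D1125) (iv D766) (iv D518) F948 F947 (iv F1618) (iv F2306) F2307 D1030
def n7520 : Q := act 0 n5922
theorem D7520 : act 0 n5922 = n7520 := rfl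
theorem F23812 : act 1 n7520 = n7520 := d0_2 D5922 D7520 (iv D7520) (iv D5922) F13730
theorem F23813 : act 2 n7520 = n7520 := d1_2 F18546 D7520 (iv D7520)
theorem F23814 : act 4 n7520 = n7520 := d3_2 F18547 D7520 (iv D7520)
theorem F23815 : act 5 n7520 = n6417 := d4_2 F20162 D7520 (iv F21815)
theorem F23816 : act 6 n7520 = n7520 := d5_2 F18548 D7520 (iv D7520)
theorem F23817 : act 7 n7520 = n7520 := d6_2 F18549 D7520 (iv D7520)
def n7521 : Q := act 7 n5923
theorem D7521 : act 7 n5923 = n7521 := rfl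
theorem F23818 : act 0 n7521 = n6715 := d6_1 D7521 F21109 F19794
theorem F23819 : act 1 n7521 = n6251 := d12_1 D7521 (iv D6251) (iv F18550)
theorem F23820 : act 2 n7521 = n6863 := d17_1 D7521 F21634 F21009
theorem F23821 : act 5 n7521 = n7521 := d26_1 D7521 (iv D7521) F18552
theorem F23822 : act 6 n7521 = n6716 := d27_1 D7521 F21112 (iv D6513) F15308 D5923
def n7522 : Q := act 6 n5924
theorem D7522 : act 6 n5924 = n7522 := rfl
theorem F23823 : act 0 n7522 = n7522 := d5_1 D7522 (iv D7522) F18553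
theorem F23824 : act 2 n7522 = n5944 := d16_1 D7522 (iv D5944) (iv F18554)
theorem F23825 : act 3 n7522 = n6051 := d20_1 D7522 (iv D6051) (iv F18555)
theorem F23826 : act 4 n7522 = n5934 := d23_1 D7522 (iv D5934) (iv F18556)
theorem F23827 : act 7 n7522 = n5925 := d27_2 D5924 D7522 (iv D5925) (iv D4447) D4446
def n7523 : Q := act 5 n5925
theorem D7523 : act 5 n5925 = n7523 := rfl
theorem F23828 : act 0 n7523 = n7523 := d4_1 D7523 (iv D7523) F18558
theorem F23829 : act 2 n7523 = n5946 := d15_1 D7523 (iv D5946) (iv F18559)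
theorem F23830 : act 4 n7523 = n5936 := d22_1 D7523 (iv D5936) (iv F18560)
theorem F23831 : act 6 n7523 = n5927 := d25_2 D5925 D7523 (iv D5927) (iv D4449) (iv F13747)
def n7524 : Q := act 5 n5926
theorem D7524 : act 5 n5926 = n7524 := rfl
theorem F23832 : act 0 n7524 = n7524 := d4_1 D7524 (iv D7524) F18561
theorem F23833 : act 3 n7524 = n5927 := d19_1 D7524 (iv D5927) (iv F18563)
def n7525 : Q := act 1 n5927
theorem D7525 : act 1 n5927 = n7525 := rfl
theorem F23834 : act 4 n7525 = n5942 := d9_2 (iv F18566) D7525 (iv D5942)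
theorem F23835 : act 5 n7525 = n6066 := d10_2 D5927 D7525 (iv D6066) (iv D4582) (iv F13751)
theorem F23836 : act 7 n7525 = n7525 := d12_2 F18567 D7525 (iv D7525)
def n7526 : Q := act 7 n5928
theorem D7526 : act 7 n5928 = n7526 := rfl
theorem F23837 : act 0 n7526 = n5930 := d6_1 D7526 (iv D5930) (iv F18568)
theorem F23838 : act 1 n7526 = n7526 := d12_1 D7526 (iv D7526) F18569
theorem F23839 : act 4 n7526 = n6772 := d24_1 D7526 (iv D6772) (iv F18571)
theorem F23840 : act 5 n7526 = n7187 := d26_1 D7526 F22769 (iv F18572)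
def n7527 : Q := act 6 n5929
theorem D7527 : act 6 n5929 = n7527 := rfl
theorem F23841 : act 0 n7527 = n5932 := d5_1 D7527 (iv D5932) (iv F18573)
theorem F23842 : act 1 n7527 = n7527 := d11_1 D7527 (iv D7527) F18574
theorem F23843 : act 3 n7527 = n6761 := d20_1 D7527 F21281 F18577
theorem F23844 : act 4 n7527 = n6773 := d23_1 D7527 (iv D6773) (iv F18575)
def n7528 : Q := act 3 n5930
theorem D7528 : act 3 n5930 = n7528 := rfl
theorem F23845 : act 1 n7528 = n5933 := d8_1 D7528 (iv D5933) (iv F18578)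
theorem F23846 : act 7 n7528 = n7528 := d21_2 D5930 D7528 (iv D7528) (iv D5930) F13760
def n7529 : Q := act 6 n5930
theorem D7529 : act 6 n5930 = n7529 := rfl
theorem F23847 : act 1 n7529 = n5934 := d11_1 D7529 (iv D5934) (iv F18578)
theorem F23848 : act 7 n7529 = n5932 := d27_2 D5930 D7529 (iv D5932) (iv D4452) D4451
def n7530 : Q := act 6 n5931
theorem D7530 : act 6 n5931 = n7530 := rfl
theorem F23849 : act 0 n7530 = n6761 := d5_1 D7530 F21281 (iv F18579)
theorem F23850 : act 1 n7530 = n5935 := d11_1 D7530 (iv D5935) (iv F18580)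
theorem F23851 : act 2 n7530 = n6760 := d16_1 D7530 F21278 F18583
theorem F23852 : act 3 n7530 = n5932 := d20_1 D7530 (iv D5932) D5931
def n7531 : Q := act 5 n5932
theorem D7531 : act 5 n5932 = n7531 := rfl
theorem F23853 : act 6 n7531 = n6069 := d25_2 D5932 D7531 (iv D6069) (iv D4585) (iv F13762)
def n7532 : Q := act 2 n5933
theorem D7532 : act 2 n5933 = n7532 := rfl
theorem F23854 : act 0 n7532 = n7532 := d1_1 D7532 (iv D7532) F18585
theorem F23855 : act 3 n7532 = n5952 := d13_2 D5933 D7532 (iv D5952) (iv D4467) (iv F13764)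
theorem F23856 : act 5 n7532 = n7532 := d15_2 F18586 D7532 (iv D7532)
theorem F23857 : act 7 n7532 = n7532 := d17_2 F18587 D7532 (iv D7532)
def n7533 : Q := act 4 n5933
theorem D7533 : act 4 n5933 = n7533 := rfl
theorem F23858 : act 0 n7533 = n7533 := d3_1 D7533 (iv D7533) F18585
theorem F23859 : act 3 n7533 = n6046 := d18_1 D7533 F18984 (iv F18555) F18556 D5933
theorem F23860 : act 5 n7533 = n7533 := d22_2 F18586 D7533 (iv D7533)
theorem F23861 : act 7 n7533 = n7533 := d24_2 F18587 D7533 (iv D7533)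
def n7534 : Q := act 6 n5933
theorem D7534 : act 6 n5933 = n7534 := rfl
theorem F23862 : act 0 n7534 = n7534 := d5_1 D7534 (iv D7534) F18585
theorem F23863 : act 3 n7534 = n5934 := d20_1 D7534 (iv D5934) D5933
def n7535 : Q := act 5 n5934
theorem D7535 : act 5 n5934 = n7535 := rfl
theorem F23864 : act 0 n7535 = n7535 := d4_1 D7535 (iv D7535) F18588
theorem F23865 : act 2 n7535 = n5955 := d15_1 D7535 (iv D5955) (iv F18589)
theorem F23866 : act 6 n7535 = n7535 := d25_2 D5934 D7535 (iv D7535) (iv D5934) F13765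
theorem F23867 : act 7 n7535 = n5936 := d26_2 (iv F18590) D7535 (iv D5936)
def n7536 : Q := act 5 n5935
theorem D7536 : act 5 n5935 = n7536 := rfl
theorem F23868 : act 0 n7536 = n7536 := d4_1 D7536 (iv D7536) F18591
theorem F23869 : act 3 n7536 = n5936 := d19_1 D7536 (iv D5936) (iv F18592)
theorem F23870 : act 6 n7536 = n5940 := d25_2 D5935 D7536 (iv D5940) (iv D4458) (iv F13767)
def n7537 : Q := act 7 n5935
theorem D7537 : act 7 n5935 = n7537 := rfl
theorem F23871 : act 0 n7537 = n7537 := d6_1 D7537 (iv D7537) F18591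
theorem F23872 : act 6 n7537 = n7537 := d27_1 D7537 (iv D7537) (iv D5935) F13768 D5935
def n7538 : Q := act 1 n5936
theorem D7538 : act 1 n5936 = n7538 := rfl
theorem F23873 : act 6 n7538 = n5942 := d11_2 (iv F18595) D7538 (iv D5942)
def n7539 : Q := act 6 n5937
theorem D7539 : act 6 n5937 = n7539 := rfl
theorem F23874 : act 0 n7539 = n6768 := d5_1 D7539 (iv D6768) F18601
theorem F23875 : act 1 n7539 = n5938 := d11_1 D7539 (iv D5938) D5937
theorem F23876 : act 2 n7539 = n6073 := d16_1 D7539 (iv D6073) (iv F18596)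
theorem F23877 : act 3 n7539 = n5964 := d20_1 D7539 (iv D5964) (iv F18597)
theorem F23878 : act 4 n7539 = n7530 := d23_1 D7539 (iv D7530) (iv F18598)
def n7540 : Q := act 5 n5938
theorem D7540 : act 5 n5938 = n7540 := rfl
theorem F23879 : act 0 n7540 = n7540 := d4_1 D7540 (iv D7540) F18602
theorem F23880 : act 2 n7540 = n5940 := d15_1 D7540 (iv D5940) (iv F18603)
theorem F23881 : act 3 n7540 = n5966 := d19_1 D7540 (iv D5966) (iv F18604)
theorem F23882 : act 4 n7540 = n7536 := d22_1 D7540 (iv D7536) (iv F18605)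
def n7541 : Q := act 7 n5938
theorem D7541 : act 7 n5938 = n7541 := rfl
theorem F23883 : act 0 n7541 = n7541 := d6_1 D7541 (iv D7541) F18602
theorem F23884 : act 2 n7541 = n5941 := d17_1 D7541 (iv D5941) (iv F18603)
theorem F23885 : act 4 n7541 = n7537 := d24_1 D7541 (iv D7537) (iv F18605)
theorem F23886 : act 6 n7541 = n7541 := d27_1 D7541 (iv D7541) (iv D5938) F13773 D5938
def n7542 : Q := act 5 n5939
theorem D7542 : act 5 n5939 = n7542 := rfl
theorem F23887 : act 0 n7542 = n7542 := d4_1 D7542 (iv D7542) F18606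
theorem F23888 : act 2 n7542 = n7536 := d15_1 D7542 (iv D7536) (iv F18608)
theorem F23889 : act 4 n7542 = n5940 := d22_1 D7542 (iv D5940) (iv F18609)
theorem F23890 : act 6 n7542 = n7540 := d25_2 D5939 D7542 (iv D7540) (iv D5938) (iv F13831)
def n7543 : Q := act 7 n5939
theorem D7543 : act 7 n5939 = n7543 := rfl
theorem F23891 : act 0 n7543 = n7543 := d6_1 D7543 (iv D7543) F18606
theorem F23892 : act 1 n7543 = n6077 := d12_1 D7543 (iv D6077) (iv F18607)
theorem F23893 : act 2 n7543 = n7537 := d17_1 D7543 (iv D7537) (iv F18608)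
theorem F23894 : act 3 n7543 = n6452 := d21_1 D7543 (iv D6452) (iv F20170) F20171 F18661
theorem F23895 : act 4 n7543 = n5941 := d24_1 D7543 (iv D5941) (iv F18609)
theorem F23896 : act 6 n7543 = n7543 := d27_1 D7543 (iv D7543) (iv D5939) F13776 D5939
def n7544 : Q := act 1 n5940
theorem D7544 : act 1 n5940 = n7544 := rfl
theorem F23897 : act 3 n7544 = n5942 := d8_2 (iv F18611) D7544 (iv D5942)
theorem F23898 : act 5 n7544 = n6078 := d10_2 D5940 D7544 (iv D6078) (iv D4591) (iv F13778)
def n7545 : Q := act 7 n5940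
theorem D7545 : act 7 n5940 = n7545 := rfl
theorem F23899 : act 0 n7545 = n7545 := d6_1 D7545 (iv D7545) F18610
theorem F23900 : act 3 n7545 = n7545 := d21_1 D7545 (iv D7545) F18611 F13782 (iv F18611)
theorem F23901 : act 5 n7545 = n5941 := d26_1 D7545 (iv D5941) D5940
def n7546 : Q := act 0 n5942
theorem D7546 : act 0 n5942 = n7546 := rfl
theorem F23902 : act 1 n7546 = n7546 := d0_2 D5942 D7546 (iv D7546) (iv D5942) F13780
theorem F23903 : act 5 n7546 = n6080 := d4_2 (iv F18616) D7546 (iv D6080)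
theorem F23904 : act 7 n7546 = n7546 := d6_2 F18617 D7546 (iv D7546)
def n7547 : Q := act 2 n5942
theorem D7547 : act 2 n5942 = n7547 := rfl
theorem F23905 : act 1 n7547 = n5968 := d7_1 D7547 (iv D5968) (iv D4478) (iv F13781) D5942
theorem F23906 : act 5 n7547 = n6081 := d15_2 (iv F18616) D7547 (iv D6081)
theorem F23907 : act 7 n7547 = n7547 := d17_2 F18617 D7547 (iv D7547)
def n7548 : Q := act 2 n5943
theorem D7548 : act 2 n5943 = n7548 := rfl
theorem F23908 : act 0 n7548 = n7548 := d1_1 D7548 (iv D7548) F18618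
theorem F23909 : act 3 n7548 = n6044 := d13_2 D5943 D7548 F18978 (iv F18555) F18554
theorem F23910 : act 5 n7548 = n7548 := d15_2 F18619 D7548 (iv D7548)
theorem F23911 : act 7 n7548 = n7548 := d17_2 F18620 D7548 (iv D7548)
def n7549 : Q := act 4 n5943
theorem D7549 : act 4 n5943 = n7549 := rfl
theorem F23912 : act 0 n7549 = n7549 := d3_1 D7549 (iv D7549) F18618
theorem F23913 : act 3 n7549 = n5953 := d18_1 D7549 (iv D5953) (iv D4467) (iv F13784) D5943
theorem F23914 : act 5 n7549 = n7549 := d22_2 F18619 D7549 (iv D7549)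
theorem F23915 : act 7 n7549 = n7549 := d24_2 F18620 D7549 (iv D7549)
def n7550 : Q := act 6 n5943
theorem D7550 : act 6 n5943 = n7550 := rfl
theorem F23916 : act 0 n7550 = n7550 := d5_1 D7550 (iv D7550) F18618
theorem F23917 : act 3 n7550 = n5944 := d20_1 D7550 (iv D5944) D5943
def n7551 : Q := act 5 n5944
theorem D7551 : act 5 n5944 = n7551 := rfl
theorem F23918 : act 0 n7551 = n7551 := d4_1 D7551 (iv D7551) F18621
theorem F23919 : act 4 n7551 = n5955 := d22_1 D7551 (iv D5955) (iv F18622)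
theorem F23920 : act 6 n7551 = n7551 := d25_2 D5944 D7551 (iv D7551) (iv D5944) F13785
theorem F23921 : act 7 n7551 = n5946 := d26_2 (iv F18623) D7551 (iv D5946)
def n7552 : Q := act 5 n5945
theorem D7552 : act 5 n5945 = n7552 := rfl
theorem F23922 : act 0 n7552 = n7552 := d4_1 D7552 (iv D7552) F18624
theorem F23923 : act 3 n7552 = n5946 := d19_1 D7552 (iv D5946) (iv F18625)
theorem F23924 : act 6 n7552 = n5949 := d25_2 D5945 D7552 (iv D5949) (iv D4465) (iv F13787)
def n7553 : Q := act 1 n5946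
theorem D7553 : act 1 n5946 = n7553 := rfl
theorem F23925 : act 4 n7553 = n5960 := d9_2 (iv F18627) D7553 (iv D5960)
theorem F23926 : act 6 n7553 = n5951 := d11_2 (iv F18628) D7553 (iv D5951)
def n7554 : Q := act 5 n5947
theorem D7554 : act 5 n5947 = n7554 := rfl
theorem F23927 : act 0 n7554 = n7554 := d4_1 D7554 (iv D7554) F18629
theorem F23928 : act 2 n7554 = n5949 := d15_1 D7554 (iv D5949) (iv F18630)
theorem F23929 : act 4 n7554 = n7552 := d22_1 D7554 (iv D7552) (iv F18631)
def n7555 : Q := act 7 n5947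
theorem D7555 : act 7 n5947 = n7555 := rfl
theorem F23930 : act 0 n7555 = n7555 := d6_1 D7555 (iv D7555) F18629
theorem F23931 : act 2 n7555 = n5950 := d17_1 D7555 (iv D5950) (iv F18630)
theorem F23932 : act 4 n7555 = n6353 := d24_1 D7555 F19902 (iv F18631)
theorem F23933 : act 6 n7555 = n7555 := d27_1 D7555 (iv D7555) (iv D5947) F13792 D5947
def n7556 : Q := act 5 n5948
theorem D7556 : act 5 n5948 = n7556 := rfl
theorem F23934 : act 0 n7556 = n7556 := d4_1 D7556 (iv D7556) F18632
theorem F23935 : act 2 n7556 = n7552 := d15_1 D7556 (iv D7552) (iv F18634)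
theorem F23936 : act 3 n7556 = n5967 := d19_1 D7556 (iv D5967) (iv F18635)
theorem F23937 : act 4 n7556 = n5949 := d22_1 D7556 (iv D5949) (iv F18636)
theorem F23938 : act 6 n7556 = n7554 := d25_2 D5948 D7556 (iv D7554) (iv D5947) F13834
theorem F23939 : act 7 n7556 = n6351 := d26_2 F18637 D7556 F19896
def n7557 : Q := act 1 n5949
theorem D7557 : act 1 n5949 = n7557 := rfl
theorem F23940 : act 3 n7557 = n5951 := d8_2 (iv F18639) D7557 (iv D5951)
theorem F23941 : act 5 n7557 = n5979 := d10_2 D5949 D7557 (iv D5979) (iv D4495) (iv F13798)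
def n7558 : Q := act 7 n5949
theorem D7558 : act 7 n5949 = n7558 := rfl
theorem F23942 : act 0 n7558 = n7558 := d6_1 D7558 (iv D7558) F18638
theorem F23943 : act 3 n7558 = n7558 := d21_1 D7558 (iv D7558) F18639 F13802 (iv F18639)
theorem F23944 : act 4 n7558 = n6351 := d24_1 D7558 (iv F23939) F23937
theorem F23945 : act 5 n7558 = n5950 := d26_1 D7558 (iv D5950) D5949
def n7559 : Q := act 2 n5951
theorem D7559 : act 2 n5951 = n7559 := rfl
theorem F23946 : act 4 n7559 = n5968 := d14_2 (iv F18645) D7559 (iv D5968)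
theorem F23947 : act 5 n7559 = n5981 := d15_2 (iv F18646) D7559 (iv D5981)
theorem F23948 : act 7 n7559 = n7559 := d17_2 F18647 D7559 (iv D7559)
def n7560 : Q := act 1 n5952
theorem D7560 : act 1 n5952 = n7560 := rfl
theorem F23949 : act 7 n7560 = n5969 := d12_2 (iv F18650) D7560 (iv D5969)
def n7561 : Q := act 4 n5952
theorem D7561 : act 4 n5952 = n7561 := rfl
theorem F23950 : act 0 n7561 = n7561 := d3_1 D7561 (iv D7561) F18648
theorem F23951 : act 2 n7561 = n5953 := d14_1 D7561 (iv D5953) D5952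
theorem F23952 : act 5 n7561 = n7561 := d22_2 F18649 D7561 (iv D7561)
theorem F23953 : act 7 n7561 = n5970 := d24_2 (iv F18650) D7561 (iv D5970)
def n7562 : Q := act 6 n5952
theorem D7562 : act 6 n5952 = n7562 := rfl
theorem F23954 : act 0 n7562 = n7562 := d5_1 D7562 (iv D7562) F18648
theorem F23955 : act 2 n7562 = n5954 := d16_1 D7562 (iv D5954) D5952
def n7563 : Q := act 6 n5953
theorem D7563 : act 6 n5953 = n7563 := rfl
theorem F23956 : act 0 n7563 = n7563 := d5_1 D7563 (iv D7563) F18651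
theorem F23957 : act 4 n7563 = n5954 := d23_1 D7563 (iv D5954) D5953
def n7564 : Q := act 5 n5954
theorem D7564 : act 5 n5954 = n7564 := rfl
theorem F23958 : act 0 n7564 = n7564 := d4_1 D7564 (iv D7564) F18654
theorem F23959 : act 3 n7564 = n5955 := d19_1 D7564 (iv D5955) (iv F18655)
theorem F23960 : act 6 n7564 = n7564 := d25_2 D5954 D7564 (iv D7564) (iv D5954) F13804
def n7565 : Q := act 7 n5954
theorem D7565 : act 7 n5954 = n7565 := rfl
theorem F23961 : act 0 n7565 = n7565 := d6_1 D7565 (iv D7565) F18654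
theorem F23962 : act 1 n7565 = n6489 := d12_1 D7565 (iv F22773) F22771
theorem F23963 : act 3 n7565 = n5959 := d21_1 D7565 (iv D5959) F13815 (iv F13807) (iv F18655)
theorem F23964 : act 6 n7565 = n5973 := d27_1 D7565 (iv D5973) (iv D4481) (iv F13805) D5954
def n7566 : Q := act 1 n5955
theorem D7566 : act 1 n5955 = n7566 := rfl
theorem F23965 : act 6 n7566 = n7566 := d11_2 F18657 D7566 (iv D7566)
theorem F23966 : act 7 n7566 = n5960 := d12_2 (iv F18658) D7566 (iv D5960)
def n7567 : Q := act 5 n5956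
theorem D7567 : act 5 n5956 = n7567 := rfl
theorem F23967 : act 0 n7567 = n7567 := d4_1 D7567 (iv D7567) F18659
theorem F23968 : act 2 n7567 = n5958 := d15_1 D7567 (iv D5958) (iv F18660)
theorem F23969 : act 3 n7567 = n7542 := d19_1 D7567 (iv D7542) (iv F18661)
theorem F23970 : act 4 n7567 = n7524 := d22_1 D7567 (iv D7524) (iv F18662)
theorem F23971 : act 6 n7567 = n5966 := d25_2 D5956 D7567 (iv D5966) (iv D4475) (iv F13809)
def n7568 : Q := act 5 n5957
theorem D7568 : act 5 n5957 = n7568 := rfl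
theorem F23972 : act 0 n7568 = n7568 := d4_1 D7568 (iv D7568) F18663
theorem F23973 : act 2 n7568 = n7524 := d15_1 D7568 (iv D7524) (iv F18664)
theorem F23974 : act 3 n7568 = n7554 := d19_1 D7568 (iv D7554) (iv F18665)
theorem F23975 : act 4 n7568 = n5958 := d22_1 D7568 (iv D5958) (iv F18666)
theorem F23976 : act 6 n7568 = n5967 := d25_2 D5957 D7568 (iv D5967) (iv D4476) (iv F13812)
def n7569 : Q := act 7 n5957
theorem D7569 : act 7 n5957 = n7569 := rfl
theorem F23977 : act 0 n7569 = n7569 := d6_1 D7569 (iv D7569) F18663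
theorem F23978 : act 2 n7569 = n6856 := d17_1 D7569 F21611 (iv F18664)
theorem F23979 : act 4 n7569 = n5959 := d24_1 D7569 (iv D5959) (iv F18666)
theorem F23980 : act 6 n7569 = n5974 := d27_1 D7569 (iv D5974) (iv D4485) (iv F13813) D5957
def n7570 : Q := act 7 n5958
theorem D7570 : act 7 n5958 = n7570 := rfl
theorem F23981 : act 0 n7570 = n7570 := d6_1 D7570 (iv D7570) F18667
theorem F23982 : act 5 n7570 = n5959 := d26_1 D7570 (iv D5959) D5958
def n7571 : Q := act 2 n5960
theorem D7571 : act 2 n5960 = n7571 := rfl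
theorem F23983 : act 6 n7571 = n5968 := d16_2 (iv F18672) D7571 (iv D5968)
def n7572 : Q := act 6 n5961
theorem D7572 : act 6 n5961 = n7572 := rfl
theorem F23984 : act 0 n7572 = n5964 := d5_1 D7572 (iv D5964) D5961
theorem F23985 : act 1 n7572 = n7572 := d11_1 D7572 (iv D7572) F18673
theorem F23986 : act 2 n7572 = n5983 := d16_1 D7572 (iv D5983) (iv F18674)
theorem F23987 : act 3 n7572 = n6768 := d20_1 D7572 (iv D6768) (iv F18675)
def n7573 : Q := act 6 n5962
theorem D7573 : act 6 n5962 = n7573 := rfl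
theorem F23988 : act 1 n7573 = n5965 := d11_1 D7573 (iv D5965) (iv F18678)
theorem F23989 : act 2 n7573 = n5985 := d16_1 D7573 (iv D5985) (iv F18679)
theorem F23990 : act 3 n7573 = n6539 := d20_1 D7573 (iv D6539) (iv F18680)
theorem F23991 : act 4 n7573 = n5964 := d23_1 D7573 (iv D5964) D5962
theorem F23992 : act 7 n7573 = n6171 := d27_2 (iv F18681) D7573 (iv D6171) F14415 F13883
def n7574 : Q := act 6 n5963
theorem D7574 : act 6 n5963 = n7574 := rfl
theorem F23993 : act 0 n7574 = n6739 := d5_1 D7574 F21204 (iv F18683)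
theorem F23994 : act 1 n7574 = n6545 := d11_1 D7574 (iv D6545) (iv F18684)
theorem F23995 : act 2 n7574 = n5986 := d16_1 D7574 (iv D5986) (iv F18685)
theorem F23996 : act 3 n7574 = n6738 := d20_1 D7574 F21201 (iv F18686)
theorem F23997 : act 4 n7574 = n6540 := d23_1 D7574 (iv D6540) (iv F18687)
def n7575 : Q := act 5 n5964
theorem D7575 : act 5 n5964 = n7575 := rfl
theorem F23998 : act 2 n7575 = n5987 := d15_1 D7575 (iv D5987) (iv F18690)
def n7576 : Q := act 5 n5965
theorem D7576 : act 5 n5965 = n7576 := rfl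
theorem F23999 : act 0 n7576 = n7576 := d4_1 D7576 (iv D7576) F18691
theorem F24000 : act 2 n7576 = n5967 := d15_1 D7576 (iv D5967) (iv F18692)
theorem F24001 : act 3 n7576 = n7523 := d19_1 D7576 (iv D7523) (iv F18693)
theorem F24002 : act 4 n7576 = n5966 := d22_1 D7576 (iv D5966) (iv F18694)
theorem F24003 : act 6 n7576 = n7524 := d25_2 D5965 D7576 (iv D7524) (iv D5926) (iv F13826)
theorem F24004 : act 7 n7576 = n6342 := d26_2 (iv F18695) D7576 (iv D6342)
def n7577 : Q := act 1 n5966
theorem D7577 : act 1 n5966 = n7577 := rfl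
def n7578 : Q := act 3 n5968
theorem D7578 : act 3 n5968 = n7578 := rfl
theorem F24005 : act 5 n7578 = n5988 := d19_2 (iv F18701) D7578 (iv D5988)
def n7579 : Q := act 0 n5969
theorem D7579 : act 0 n5969 = n7579 := rfl
theorem F24006 : act 1 n7579 = n7579 := d0_2 D5969 D7579 (iv D7579) (iv D5969) F13845
theorem F24007 : act 3 n7579 = n7579 := d2_2 F18703 D7579 (iv D7579)
def n7580 : Q := act 4 n5969
theorem D7580 : act 4 n5969 = n7580 := rfl
theorem F24008 : act 1 n7580 = n5970 := d9_1 D7580 (iv D5970) D5969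
def n7581 : Q := act 5 n5969
theorem D7581 : act 5 n5969 = n7581 := rfl
theorem F24009 : act 1 n7581 = n7581 := d10_1 D7581 (iv D7581) (iv D5969) F13847 D5969
theorem F24010 : act 3 n7581 = n7581 := d19_1 D7581 (iv D7581) F18703
theorem F24011 : act 6 n7581 = n7581 := d29_4 D3211 D4479 D5969 D7581 (iv D7581) (iv D5969) (iv D4479) (iv D3211) (iv D2219) (iv F6864) (iv F9860) (iv F13759) (iv F15645) (iv D5045) (iv D3691) F7972 F5510 F4011 F2887 (iv F4011) (iv F5510) (iv F7972) D3691 D5045 F15645 F13759 F9860 F6864 D2219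
def n7582 : Q := act 6 n5969
theorem D7582 : act 6 n5969 = n7582 := rfl
theorem F24012 : act 1 n7582 = n5971 := d11_1 D7582 (iv D5971) D5969
theorem F24013 : act 2 n7582 = n6482 := d16_1 D7582 (iv F22815) F22813
theorem F24014 : act 3 n7582 = n7582 := d20_1 D7582 (iv D7582) F18703
theorem F24015 : act 5 n7582 = n7582 := d25_1 D7582 (iv D7582) D7581 F24011 (iv D7581)
def n7583 : Q := act 3 n5970
theorem D7583 : act 3 n5970 = n7583 := rfl
theorem F24016 : act 0 n7583 = n7583 := d2_1 D7583 (iv D7583) F18704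
theorem F24017 : act 2 n7583 = n7583 := d13_1 D7583 (iv D7583) F18705 F13849 (iv F18705)
theorem F24018 : act 4 n7583 = n7583 := d18_2 D5970 D7583 (iv D7583) (iv D5970) F13846
theorem F24019 : act 5 n7583 = n7583 := d19_2 F18706 D7583 (iv D7583)
def n7584 : Q := act 6 n5970
theorem D7584 : act 6 n5970 = n7584 := rfl
theorem F24020 : act 0 n7584 = n7584 := d5_1 D7584 (iv D7584) F18704
theorem F24021 : act 2 n7584 = n5972 := d16_1 D7584 (iv D5972) (iv F18705)
theorem F24022 : act 4 n7584 = n5971 := d23_1 D7584 (iv D5971) D5970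
theorem F24023 : act 5 n6474 = n7584 := d22_0 F24022 (iv F18710) D6474
def n7585 : Q := act 7 n5972
theorem D7585 : act 7 n5972 = n7585 := rfl
theorem F24024 : act 0 n7585 = n7585 := d6_1 D7585 (iv D7585) F18711
theorem F24025 : act 1 n7585 = n6486 := d12_1 D7585 (iv D6486) (iv F18712)
theorem F24026 : act 4 n7585 = n5973 := d24_1 D7585 (iv D5973) (iv F18714)
theorem F24027 : act 5 n7585 = n6475 := d26_1 D7585 (iv D6475) F18715
def n7586 : Q := act 3 n5974
theorem D7586 : act 3 n5974 = n7586 := rfl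
theorem F24028 : act 0 n7586 = n7586 := d2_1 D7586 (iv D7586) F18720
theorem F24029 : act 2 n7586 = n7586 := d13_1 D7586 (iv D7586) F18721 F16472 (iv F18721)
theorem F24030 : act 5 n7586 = n7349 := d19_2 (iv F18723) D7586 (iv D7349)
theorem F24031 : act 7 n7586 = n7586 := d21_2 D5974 D7586 (iv D7586) (iv D5974) F13869
def n7587 : Q := act 7 n5975
theorem D7587 : act 7 n5975 = n7587 := rfl
theorem F24032 : act 1 n7587 = n6554 := d12_1 D7587 (iv D6554) (iv F18724)
theorem F24033 : act 2 n7587 = n5993 := d17_1 D7587 (iv D5993) (iv F18725)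
theorem F24034 : act 4 n7587 = n6542 := d24_1 D7587 (iv D6542) (iv F18727)
theorem F24035 : act 5 n7587 = n7141 := d26_1 D7587 F22641 (iv F18728)
def n7588 : Q := act 5 n5976
theorem D7588 : act 5 n5976 = n7588 := rfl
theorem F24036 : act 0 n7588 = n7054 := d4_1 D7588 (iv D7054) (iv F18729)
theorem F24037 : act 3 n7588 = n6105 := d19_1 D7588 (iv D6105) (iv F18731)
theorem F24038 : act 4 n7588 = n7051 := d22_1 D7588 (iv D7051) (iv F18732)
def n7589 : Q := act 7 n5976
theorem D7589 : act 7 n5976 = n7589 := rfl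
theorem F24039 : act 0 n7589 = n7055 := d6_1 D7589 (iv D7055) (iv F18729)
theorem F24040 : act 1 n7589 = n5978 := d12_1 D7589 (iv D5978) (iv F18730)
theorem F24041 : act 4 n7589 = n6357 := d24_1 D7589 F19918 (iv F18732)
theorem F24042 : act 6 n7589 = n7589 := d27_1 D7589 (iv D7589) (iv D5976) F13896 D5976
def n7590 : Q := act 1 n5977
theorem D7590 : act 1 n5977 = n7590 := rfl
theorem F24043 : act 3 n7590 = n6106 := d8_2 (iv F18735) D7590 (iv D6106)
theorem F24044 : act 4 n7590 = n7052 := d9_2 (iv F18736) D7590 (iv D7052)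
theorem F24045 : act 6 n7590 = n7049 := d11_2 (iv F18737) D7590 (iv D7049)
theorem F24046 : act 7 n7590 = n7082 := d12_2 (iv F18738) D7590 F22425
def n7591 : Q := act 2 n5979
theorem D7591 : act 2 n5979 = n7591 := rfl
theorem F24047 : act 0 n7591 = n7435 := d1_1 D7591 (iv F23744) F23742
theorem F24048 : act 4 n7591 = n7434 := d14_2 F23654 D7591 F23657
theorem F24049 : act 7 n6156 = n7591 := d24_0 F24048 (iv D7434) (iv F19283)
def n7592 : Q := act 7 n5979
theorem D7592 : act 7 n5979 = n7592 := rfl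
theorem F24050 : act 0 n7592 = n7420 := d6_1 D7592 (iv F23746) F23742
theorem F24051 : act 1 n7592 = n5980 := d12_1 D7592 (iv D5980) D5979
theorem F24052 : act 2 n7592 = n6156 := d17_1 D7592 F24049 (iv D7591)
theorem F24053 : act 3 n7592 = n7592 := d21_1 D7592 (iv D7592) F18744 F13913 (iv F18744)
theorem F24054 : act 4 n7592 = n6356 := d24_1 D7592 (iv F23656) F23654
theorem F24055 : act 6 n7592 = n6155 := d27_1 D7592 F19280 D7090 (iv F22865) F22864
def n7593 : Q := act 3 n5981
theorem D7593 : act 3 n5981 = n7593 := rfl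
theorem F24056 : act 1 n7593 = n6110 := d8_1 D7593 (iv D6110) (iv F18751)
def n7594 : Q := act 6 n5982
theorem D7594 : act 6 n5982 = n7594 := rfl
theorem F24057 : act 0 n7594 = n5986 := d5_1 D7594 (iv D5986) (iv F18754)
theorem F24058 : act 1 n7594 = n6742 := d11_1 D7594 F21215 (iv F18755)
theorem F24059 : act 2 n7594 = n6739 := d16_1 D7594 F21204 (iv F18756)
theorem F24060 : act 3 n7594 = n6111 := d20_1 D7594 (iv D6111) (iv F18757)
def n7595 : Q := act 5 n5983
theorem D7595 : act 5 n5983 = n7595 := rfl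
theorem F24061 : act 0 n7595 = n5987 := d4_1 D7595 (iv D5987) (iv F18759)
theorem F24062 : act 1 n7595 = n7426 := d10_1 D7595 (iv D7426) F18285 (iv F14026) (iv F18760)
theorem F24063 : act 3 n7595 = n6112 := d19_1 D7595 (iv D6112) (iv F18761)
def n7596 : Q := act 6 n5984
theorem D7596 : act 6 n5984 = n7596 := rfl
theorem F24064 : act 1 n7596 = n7230 := d11_1 D7596 (iv D7230) (iv F18762)
theorem F24065 : act 2 n7596 = n6540 := d16_1 D7596 (iv D6540) (iv F18763)
theorem F24066 : act 3 n7596 = n7243 := d20_1 D7596 (iv D7243) (iv F18764)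
theorem F24067 : act 4 n7596 = n5986 := d23_1 D7596 (iv D5986) (iv F18765)
def n7597 : Q := act 5 n5985
theorem D7597 : act 5 n5985 = n7597 := rfl
theorem F24068 : act 3 n7597 = n7268 := d19_1 D7597 (iv D7268) (iv F18768)
theorem F24069 : act 4 n7597 = n5987 := d22_1 D7597 (iv D5987) (iv F18769)
theorem F24070 : act 7 n7597 = n6172 := d26_2 (iv F18770) D7597 (iv D6172)
def n7598 : Q := act 5 n5986
theorem D7598 : act 5 n5986 = n7598 := rfl
theorem F24071 : act 3 n7598 = n6113 := d19_1 D7598 (iv D6113) (iv F18771)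
theorem F24072 : act 6 n7598 = n5987 := d25_2 D5986 D7598 (iv D5987) (iv D4501) D4500
def n7599 : Q := act 7 n5986
theorem D7599 : act 7 n5986 = n7599 := rfl
theorem F24073 : act 6 n7599 = n5993 := d27_1 D7599 (iv D5993) (iv D4509) (iv F13921) D5986
def n7600 : Q := act 4 n5988
theorem D7600 : act 4 n5988 = n7600 := rfl
theorem F24074 : act 1 n7600 = n6121 := d9_1 D7600 (iv D6121) (iv F18773)
def n7601 : Q := act 7 n5988
theorem D7601 : act 7 n5988 = n7601 := rfl
theorem F24075 : act 1 n7601 = n6122 := d12_1 D7601 (iv D6122) (iv F18773)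
theorem F24076 : act 3 n7601 = n7601 := d21_1 D7601 (iv D7601) (iv D5988) F13930 D5988
def n7602 : Q := act 6 n5989
theorem D7602 : act 6 n5989 = n7602 := rfl
theorem F24077 : act 0 n7602 = n7596 := d5_1 D7602 (iv D7596) (iv F18774)
theorem F24078 : act 1 n7602 = n5990 := d11_1 D7602 (iv D5990) D5989
theorem F24079 : act 2 n7602 = n6769 := d16_1 D7602 (iv D6769) (iv F18775)
theorem F24080 : act 3 n7602 = n5995 := d20_1 D7602 (iv D5995) (iv F18776)
theorem F24081 : act 4 n7602 = n7594 := d23_1 D7602 (iv D7594) (iv F18777)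
def n7603 : Q := act 7 n5990
theorem D7603 : act 7 n5990 = n7603 := rfl
theorem F24082 : act 0 n7603 = n5993 := d6_1 D7603 (iv D5993) (iv F18780)
def n7604 : Q := act 7 n5991
theorem D7604 : act 7 n5991 = n7604 := rfl
theorem F24083 : act 2 n7604 = n6542 := d17_1 D7604 (iv D6542) (iv F18782)
theorem F24084 : act 4 n7604 = n5993 := d24_1 D7604 (iv D5993) (iv F18784)
theorem F24085 : act 5 n7604 = n7146 := d26_1 D7604 F22656 (iv F18785)
def n7605 : Q := act 7 n5992
theorem D7605 : act 7 n5992 = n7605 := rfl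
theorem F24086 : act 2 n7605 = n7141 := d17_1 D7605 F22641 (iv F18786)
theorem F24087 : act 4 n7605 = n7146 := d24_1 D7605 F22656 (iv F18788)
theorem F24088 : act 5 n7605 = n5993 := d26_1 D7605 (iv D5993) D5992
def n7606 : Q := act 3 n5993
theorem D7606 : act 3 n5993 = n7606 := rfl
theorem F24089 : act 7 n7606 = n6004 := d21_2 D5993 D7606 (iv D6004) (iv D4519) (iv F13951)
def n7607 : Q := act 6 n5994
theorem D7607 : act 6 n5994 = n7607 := rfl
theorem F24090 : act 1 n7607 = n7607 := d11_1 D7607 (iv D7607) F18790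
theorem F24091 : act 2 n7607 = n5995 := d16_1 D7607 (iv D5995) D5994
theorem F24092 : act 3 n7607 = n6771 := d20_1 D7607 (iv D6771) (iv F18791)
def n7608 : Q := act 5 n5995
theorem D7608 : act 5 n5995 = n7608 := rfl
theorem F24093 : act 1 n7608 = n7249 := d10_1 D7608 (iv D7249) F17780 F13982 (iv F18794)
theorem F24094 : act 4 n7608 = n7251 := d22_1 D7608 F22950 F18823
theorem F24095 : act 6 n7608 = n6016 := d25_2 D5995 D7608 (iv D6016) (iv D4534) (iv F13962)
def n7609 : Q := act 7 n5995
theorem D7609 : act 7 n5995 = n7609 := rfl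
theorem F24096 : act 1 n7609 = n5996 := d12_1 D7609 (iv D5996) (iv F18794)
theorem F24097 : act 6 n7609 = n6137 := d27_1 D7609 (iv D6137) (iv D4635) (iv F13963) D5995
def n7610 : Q := act 3 n5996
theorem D7610 : act 3 n5996 = n7610 := rfl
theorem F24098 : act 0 n7610 = n6004 := d2_1 D7610 (iv D6004) (iv F18795)
theorem F24099 : act 6 n7610 = n6140 := d20_2 (iv F18797) D7610 (iv D6140)
def n7611 : Q := act 3 n5997
theorem D7611 : act 3 n5997 = n7611 := rfl
theorem F24100 : act 0 n7611 = n7463 := d2_1 D7611 (iv D7463) (iv F18798)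
theorem F24101 : act 1 n7611 = n7611 := d8_1 D7611 (iv D7611) F18799
theorem F24102 : act 2 n7611 = n6144 := d13_1 D7611 (iv D6144) F14346 (iv F13978) (iv F18800)
theorem F24103 : act 4 n7611 = n7072 := d18_2 (iv F18801) D7611 (iv D7072) F17211 D5500
theorem F24104 : act 5 n7611 = n7075 := d19_2 (iv F18802) D7611 F22408
theorem F24105 : act 7 n7611 = n7611 := d21_2 D5997 D7611 (iv D7611) (iv D5997) F13968
def n7612 : Q := act 6 n5997
theorem D7612 : act 6 n5997 = n7612 := rfl
theorem F24106 : act 0 n7612 = n7462 := d5_1 D7612 F23628 (iv F18798)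
theorem F24107 : act 1 n7612 = n7612 := d11_1 D7612 (iv D7612) F18799
theorem F24108 : act 2 n7612 = n6000 := d16_1 D7612 (iv D6000) (iv F18800)
theorem F24109 : act 4 n7612 = n7079 := d23_1 D7612 (iv D7079) (iv F18801)
theorem F24110 : act 7 n7612 = n7572 := d27_2 D5997 D7612 (iv D7572) F18676 (iv F13970)
def n7613 : Q := act 7 n5998
theorem D7613 : act 7 n5998 = n7613 := rfl
theorem F24111 : act 0 n7613 = n7605 := d6_1 D7613 (iv D7605) (iv F18803)
theorem F24112 : act 2 n7613 = n7049 := d17_1 D7613 F22332 (iv F18804)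
theorem F24113 : act 4 n7613 = n7053 := d24_1 D7613 F22343 (iv F18806)
theorem F24114 : act 5 n7613 = n7603 := d26_1 D7613 (iv D7603) (iv F18807)
def n7614 : Q := act 6 n5999
theorem D7614 : act 6 n5999 = n7614 := rfl
theorem F24115 : act 0 n7614 = n7442 := d5_1 D7614 F23569 (iv F18808)
theorem F24116 : act 1 n7614 = n6156 := d11_1 D7614 (iv D6156) (iv F18809)
theorem F24117 : act 2 n7614 = n7082 := d16_1 D7614 (iv D7082) (iv F18810)
theorem F24118 : act 3 n7614 = n6147 := d20_1 D7614 (iv D6147) (iv F18811)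
theorem F24119 : act 4 n7614 = n7081 := d23_1 D7614 (iv D7081) (iv F18812)
def n7615 : Q := act 5 n6000
theorem D7615 : act 5 n6000 = n7615 := rfl
theorem F24120 : act 0 n7615 = n7460 := d4_1 D7615 F23620 (iv F18814)
theorem F24121 : act 3 n7615 = n6148 := d19_1 D7615 (iv D6148) (iv F18816)
theorem F24122 : act 4 n7615 = n7453 := d22_1 D7615 (iv D7453) (iv F18817)
theorem F24123 : act 7 n7615 = n7595 := d26_2 (iv F18818) D7615 (iv D7595)
def n7616 : Q := act 3 n6001
theorem D7616 : act 3 n6001 = n7616 := rfl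
theorem F24124 : act 5 n7616 = n7610 := d19_2 (iv F18821) D7616 (iv D7610)
theorem F24125 : act 6 n7616 = n6150 := d20_2 (iv F18822) D7616 (iv D6150)
def n7617 : Q := act 2 n6002
theorem D7617 : act 2 n6002 = n7617 := rfl
theorem F24126 : act 1 n7617 = n7617 := d7_1 D7617 (iv D7617) (iv D6002) F13984 D6002
theorem F24127 : act 3 n7617 = n7151 := d13_2 F23577 D7617 F22677 (iv F22663) (iv F23576)
theorem F24128 : act 4 n7617 = n7607 := d14_2 (iv F18823) D7617 F24091
theorem F24129 : act 6 n7617 = n6005 := d16_2 (iv F18824) D7617 (iv D6005)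
def n7618 : Q := act 7 n6002
theorem D7618 : act 7 n6002 = n7618 := rfl
theorem F24130 : act 1 n7618 = n6003 := d12_1 D7618 (iv D6003) D6002
theorem F24131 : act 4 n7618 = n7609 := d24_1 D7618 (iv D7609) (iv F18823)
def n7619 : Q := act 3 n6003
theorem D7619 : act 3 n6003 = n7619 := rfl
theorem F24132 : act 0 n7619 = n7616 := d2_1 D7619 (iv D7616) (iv F18825)
theorem F24133 : act 5 n7619 = n6004 := d19_2 (iv F18828) D7619 (iv D6004)
def n7620 : Q := act 2 n6004
theorem D7620 : act 2 n6004 = n7620 := rfl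
theorem F24134 : act 3 n7620 = n7620 := d13_2 D6004 D7620 (iv D7620) (iv D6004) F13987
theorem F24135 : act 6 n7620 = n6153 := d16_2 (iv F18829) D7620 (iv D6153)
def n7621 : Q := act 4 n6004
theorem D7621 : act 4 n6004 = n7621 := rfl
theorem F24136 : act 6 n7621 = n6154 := d23_2 (iv F18829) D7621 (iv D6154)
def n7622 : Q := act 6 n6008
theorem D7622 : act 6 n6008 = n7622 := rfl
theorem F24137 : act 1 n7622 = n6860 := d11_1 D7622 (iv D6860) (iv F18843)
theorem F24138 : act 2 n7622 = n6011 := d16_1 D7622 (iv D6011) (iv F18844)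
theorem F24139 : act 4 n7622 = n6800 := d23_1 D7622 (iv D6800) (iv F18845)
def n7623 : Q := act 6 n6010
theorem D7623 : act 6 n6010 = n7623 := rfl
theorem F24140 : act 0 n7623 = n6011 := d5_1 D7623 (iv D6011) (iv F18852)
theorem F24141 : act 1 n7623 = n6796 := d11_1 D7623 (iv D6796) (iv F18853)
theorem F24142 : act 3 n7623 = n7623 := d20_1 D7623 (iv D7623) F18854
theorem F24143 : act 4 n7623 = n6798 := d23_1 D7623 (iv D6798) (iv F18855)
def n7624 : Q := act 5 n6011
theorem D7624 : act 5 n6011 = n7624 := rfl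
theorem F24144 : act 1 n7624 = n7624 := d10_1 D7624 (iv D7624) F18857 F16273 (iv F18857)
theorem F24145 : act 3 n7624 = n7624 := d19_1 D7624 (iv D7624) F18858
theorem F24146 : act 4 n7624 = n6801 := d22_1 D7624 (iv D6801) (iv F18859)
theorem F24147 : act 6 n7624 = n7624 := d25_2 D6011 D7624 (iv D7624) (iv D6011) F14007
def n7625 : Q := act 6 n6012
theorem D7625 : act 6 n6012 = n7625 := rfl
theorem F24148 : act 0 n7625 = n7573 := d5_1 D7625 (iv D7573) (iv F18860)
theorem F24149 : act 1 n7625 = n7625 := d11_1 D7625 (iv D7625) F18861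
theorem F24150 : act 2 n7625 = n6013 := d16_1 D7625 (iv D6013) D6012
theorem F24151 : act 3 n7625 = n6773 := d20_1 D7625 (iv D6773) F18865
theorem F24152 : act 4 n7625 = n7572 := d23_1 D7625 (iv D7572) (iv F18862)
theorem F24153 : act 7 n7625 = n7079 := d27_2 (iv F18864) D7625 (iv D7079) F17224 (iv F16154)
def n7626 : Q := act 5 n6013
theorem D7626 : act 5 n6013 = n7626 := rfl
theorem F24154 : act 0 n7626 = n7597 := d4_1 D7626 (iv D7597) (iv F18866)
theorem F24155 : act 1 n7626 = n7248 := d10_1 D7626 (iv D7248) F17778 (iv F14036) (iv F18867)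
theorem F24156 : act 3 n7626 = n6016 := d19_1 D7626 (iv D6016) (iv F18868)
theorem F24157 : act 4 n7626 = n7595 := d22_1 D7626 (iv D7595) (iv F18869)
theorem F24158 : act 7 n7626 = n7453 := d26_2 (iv F18870) D7626 (iv D7453)
def n7627 : Q := act 6 n6014
theorem D7627 : act 6 n6014 = n7627 := rfl
theorem F24159 : act 1 n7627 = n6018 := d11_1 D7627 (iv D6018) (iv F18871)
theorem F24160 : act 2 n7627 = n6773 := d16_1 D7627 (iv D6773) (iv F18872)
theorem F24161 : act 3 n7627 = n6015 := d20_1 D7627 (iv D6015) D6014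
def n7628 : Q := act 5 n6015
theorem D7628 : act 5 n6015 = n7628 := rfl
theorem F24162 : act 2 n7628 = n6016 := d15_1 D7628 (iv D6016) (iv F18876)
theorem F24163 : act 4 n7628 = n7255 := d22_1 D7628 F22957 (iv F18877)
def n7629 : Q := act 6 n6017
theorem D7629 : act 6 n6017 = n7629 := rfl
theorem F24164 : act 0 n7629 = n6027 := d5_1 D7629 (iv D6027) (iv F18880)
theorem F24165 : act 2 n7629 = n7629 := d16_1 D7629 (iv D7629) F18881
theorem F24166 : act 3 n7629 = n7261 := d20_1 D7629 F22975 (iv F18882)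
theorem F24167 : act 4 n7629 = n6018 := d23_1 D7629 (iv D6018) D6017
def n7630 : Q := act 5 n6018
theorem D7630 : act 5 n6018 = n7630 := rfl
theorem F24168 : act 0 n7630 = n6028 := d4_1 D7630 (iv D6028) (iv F18884)
theorem F24169 : act 2 n7630 = n7630 := d15_1 D7630 (iv D7630) F18885
theorem F24170 : act 3 n7630 = n6020 := d19_1 D7630 (iv D6020) (iv F18886)
theorem F24171 : act 6 n7630 = n7630 := d25_2 D6018 D7630 (iv D7630) (iv D6018) F14045
def n7631 : Q := act 7 n6018
theorem D7631 : act 7 n6018 = n7631 := rfl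
theorem F24172 : act 0 n7631 = n6029 := d6_1 D7631 (iv D6029) (iv F18884)
theorem F24173 : act 2 n7631 = n7631 := d17_1 D7631 (iv D7631) F18885
def n7632 : Q := act 6 n6019
theorem D7632 : act 6 n6019 = n7632 := rfl
theorem F24174 : act 0 n7632 = n6030 := d5_1 D7632 (iv D6030) (iv F18887)
theorem F24175 : act 1 n7632 = n6770 := d11_1 D7632 (iv D6770) (iv F18888)
theorem F24176 : act 2 n7632 = n7632 := d16_1 D7632 (iv D7632) F18889
theorem F24177 : act 3 n7632 = n6198 := d20_1 D7632 (iv D6198) (iv F18890)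
def n7633 : Q := act 1 n6020
theorem D7633 : act 1 n6020 = n7633 := rfl
theorem F24178 : act 2 n7633 = n6678 := d7_2 (iv F18893) D7633 (iv D6678) F15763 (iv F14050)
theorem F24179 : act 4 n7633 = n6680 := d9_2 (iv F18894) D7633 F20978
theorem F24180 : act 6 n7633 = n7633 := d11_2 F18895 D7633 (iv D7633)
def n7634 : Q := act 6 n6021
theorem D7634 : act 6 n6021 = n7634 := rfl
theorem F24181 : act 0 n7634 = n7261 := d5_1 D7634 F22975 (iv F18896)
theorem F24182 : act 2 n7634 = n6569 := d16_1 D7634 F20622 (iv F18897)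
theorem F24183 : act 3 n7634 = n6027 := d20_1 D7634 (iv D6027) (iv F18898)
theorem F24184 : act 4 n7634 = n6022 := d23_1 D7634 (iv D6022) D6021
theorem F24185 : act 5 n7113 = n7634 := d22_0 F24184 (iv F18903) (iv F22523)
def n7635 : Q := act 7 n6022
theorem D7635 : act 7 n6022 = n7635 := rfl
theorem F24186 : act 0 n7635 = n7262 := d6_1 D7635 (iv D7262) (iv F18900)
theorem F24187 : act 2 n7635 = n6570 := d17_1 D7635 (iv D6570) (iv F18901)
theorem F24188 : act 5 n7635 = n7114 := d26_1 D7635 (iv D7114) F18903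
def n7636 : Q := act 6 n6023
theorem D7636 : act 6 n6023 = n7636 := rfl
theorem F24189 : act 0 n7636 = n7622 := d5_1 D7636 (iv D7622) (iv F18904)
theorem F24190 : act 2 n7636 = n7623 := d16_1 D7636 (iv D7623) (iv F18905)
theorem F24191 : act 3 n7636 = n6211 := d20_1 D7636 (iv D6211) (iv F18906)
def n7637 : Q := act 1 n6024
theorem D7637 : act 1 n6024 = n7637 := rfl
theorem F24192 : act 2 n7637 = n6719 := d7_2 (iv F18909) D7637 (iv D6719) (iv D5140) (iv F14079)
theorem F24193 : act 3 n7637 = n7111 := d8_2 (iv F18910) D7637 F22518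
theorem F24194 : act 4 n7637 = n6031 := d9_2 (iv F18911) D7637 (iv D6031)
theorem F24195 : act 6 n7637 = n7637 := d11_2 F18912 D7637 (iv D7637)
def n7638 : Q := act 7 n6024
theorem D7638 : act 7 n6024 = n7638 := rfl
theorem F24196 : act 0 n7638 = n6684 := d6_1 D7638 (iv D6684) (iv F18908)
theorem F24197 : act 2 n7638 = n6026 := d17_1 D7638 (iv D6026) (iv F18909)
theorem F24198 : act 4 n7638 = n6032 := d24_1 D7638 (iv D6032) (iv F18911)
theorem F24199 : act 5 n7638 = n6025 := d26_1 D7638 (iv D6025) D6024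
def n7639 : Q := act 3 n6025
theorem D7639 : act 3 n6025 = n7639 := rfl
theorem F24200 : act 0 n7639 = n7263 := d2_1 D7639 (iv D7263) (iv F18913)
theorem F24201 : act 6 n7639 = n6214 := d20_2 (iv F18916) D7639 (iv D6214)
def n7640 : Q := act 6 n6026
theorem D7640 : act 6 n6026 = n7640 := rfl
theorem F24202 : act 0 n7640 = n6685 := d5_1 D7640 (iv D6685) (iv F18917)
theorem F24203 : act 1 n7640 = n6721 := d11_1 D7640 (iv D6721) (iv F18918)
theorem F24204 : act 3 n7640 = n7265 := d20_1 D7640 (iv D7265) (iv F18919)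
theorem F24205 : act 4 n7640 = n6035 := d23_1 D7640 (iv D6035) (iv F18920)
theorem F24206 : act 5 n7640 = n6216 := d25_1 D7640 (iv D6216) F14525 (iv F14086) (iv F18921)
theorem F24207 : act 7 n7640 = n7640 := d27_2 D6026 D7640 (iv D7640) (iv D6026) F14082
def n7641 : Q := act 5 n6027
theorem D7641 : act 5 n6027 = n7641 := rfl
theorem F24208 : act 2 n7641 = n7641 := d15_1 D7641 (iv D7641) F18922
theorem F24209 : act 3 n7641 = n7113 := d19_1 D7641 F24185 F24183
theorem F24210 : act 4 n7641 = n6028 := d22_1 D7641 (iv D6028) (iv F18923)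
theorem F24211 : act 6 n7641 = n7641 := d25_2 D6027 D7641 (iv D7641) (iv D6027) F14088
def n7642 : Q := act 7 n6027
theorem D7642 : act 7 n6027 = n7642 := rfl
theorem F24212 : act 2 n7642 = n7642 := d17_1 D7642 (iv D7642) F18922
theorem F24213 : act 4 n7642 = n6029 := d24_1 D7642 (iv D6029) (iv F18923)
def n7643 : Q := act 1 n6028
theorem D7643 : act 1 n6028 = n7643 := rfl
theorem F24214 : act 3 n7643 = n6031 := d8_2 (iv F18925) D7643 (iv D6031)
theorem F24215 : act 6 n7643 = n7643 := d11_2 F18926 D7643 (iv D7643)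
def n7644 : Q := act 7 n6028
theorem D7644 : act 7 n6028 = n7644 := rfl
theorem F24216 : act 2 n7644 = n7644 := d17_1 D7644 (iv D7644) F18924
theorem F24217 : act 5 n7644 = n6029 := d26_1 D7644 (iv D6029) D6028
def n7645 : Q := act 3 n6029
theorem D7645 : act 3 n6029 = n7645 := rfl
theorem F24218 : act 7 n7645 = n6033 := d21_2 D6029 D7645 (iv D6033) (iv D4549) (iv F14090)
def n7646 : Q := act 6 n6029
theorem D7646 : act 6 n6029 = n7646 := rfl
theorem F24219 : act 2 n7646 = n7646 := d16_1 D7646 (iv D7646) F18927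
theorem F24220 : act 7 n7646 = n6030 := d27_2 D6029 D7646 (iv D6030) (iv D4547) D4546
def n7647 : Q := act 5 n6030
theorem D7647 : act 5 n6030 = n7647 := rfl
theorem F24221 : act 2 n7647 = n7647 := d15_1 D7647 (iv D7647) F18928
theorem F24222 : act 3 n7647 = n6229 := d19_1 D7647 (iv D6229) (iv F18929)
theorem F24223 : act 6 n7647 = n7647 := d25_2 D6030 D7647 (iv D7647) (iv D6030) F14093
def n7648 : Q := act 0 n6031
theorem D7648 : act 0 n6031 = n7648 := rfl
theorem F24224 : act 6 n7648 = n7648 := d5_2 F18930 D7648 (iv D7648)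
def n7649 : Q := act 2 n6031
theorem D7649 : act 2 n6031 = n7649 := rfl
theorem F24225 : act 1 n7649 = n6034 := d7_1 D7649 (iv D6034) (iv D4550) (iv F14094) D6031
theorem F24226 : act 4 n7649 = n6719 := d14_2 F24194 D7649 (iv F24192)
theorem F24227 : act 6 n7649 = n7649 := d16_2 F18930 D7649 (iv D7649)
def n7650 : Q := act 7 n6031
theorem D7650 : act 7 n6031 = n7650 := rfl
theorem F24228 : act 1 n7650 = n6032 := d12_1 D7650 (iv D6032) D6031
def n7651 : Q := act 3 n6032
theorem D7651 : act 3 n6032 = n7651 := rfl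
theorem F24229 : act 5 n7651 = n6033 := d19_2 (iv F18932) D7651 (iv D6033)
def n7652 : Q := act 6 n6032
theorem D7652 : act 6 n6032 = n7652 := rfl
theorem F24230 : act 2 n7652 = n6035 := d16_1 D7652 (iv D6035) (iv F18931)
theorem F24231 : act 5 n7652 = n6233 := d25_1 D7652 (iv D6233) F14549 (iv F14097) (iv F18932)
theorem F24232 : act 7 n7652 = n7652 := d27_2 D6032 D7652 (iv D7652) (iv D6032) F14095
def n7653 : Q := act 4 n6033
theorem D7653 : act 4 n6033 = n7653 := rfl
theorem F24233 : act 6 n7653 = n6235 := d23_2 (iv F18933) D7653 (iv D6235)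
def n7654 : Q := act 3 n6036
theorem D7654 : act 3 n6036 = n7654 := rfl
theorem F24234 : act 0 n7654 = n6711 := d2_1 D7654 F21085 (iv F18940)
theorem F24235 : act 5 n7654 = n6753 := d19_2 (iv F18943) D7654 (iv D6753)
theorem F24236 : act 6 n7654 = n7654 := d20_2 F18944 D7654 (iv D7654)
theorem F24237 : act 7 n7654 = n6700 := d21_2 D6036 D7654 F21049 F15848 F14684
def n7655 : Q := act 6 n6037
theorem D7655 : act 6 n6037 = n7655 := rfl
theorem F24238 : act 0 n7655 = n7655 := d5_1 D7655 (iv D7655) F18945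
theorem F24239 : act 1 n7655 = n6040 := d11_1 D7655 (iv D6040) (iv F18946)
theorem F24240 : act 2 n7655 = n7655 := d16_1 D7655 (iv D7655) F18947
theorem F24241 : act 3 n7655 = n6038 := d20_1 D7655 (iv D6038) D6037
theorem F24242 : act 4 n7655 = n6049 := d23_1 D7655 (iv D6049) (iv F18948)
theorem F24243 : act 7 n6461 = n7655 := d21_0 F24241 F18955 F15092 D4893 D6461
def n7656 : Q := act 5 n6038
theorem D7656 : act 5 n6038 = n7656 := rfl
theorem F24244 : act 0 n7656 = n7656 := d4_1 D7656 (iv D7656) F18951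
theorem F24245 : act 2 n7656 = n6939 := d15_1 D7656 F21947 (iv F18953)
theorem F24246 : act 4 n7656 = n6039 := d22_1 D7656 (iv D6039) (iv F18954)
theorem F24247 : act 6 n7656 = n7477 := d25_2 D6038 D7656 F23673 F18422 (iv F14119)
theorem F24248 : act 7 n7656 = n6446 := d26_2 (iv F18955) D7656 (iv D6446)
def n7657 : Q := act 6 n6041
theorem D7657 : act 6 n6041 = n7657 := rfl
theorem F24249 : act 0 n7657 = n7657 := d5_1 D7657 (iv D7657) F18962
theorem F24250 : act 2 n7657 = n7657 := d16_1 D7657 (iv D7657) F18963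
theorem F24251 : act 3 n7657 = n6042 := d20_1 D7657 (iv D6042) (iv F18964)
theorem F24252 : act 4 n7657 = n7657 := d23_1 D7657 (iv D7657) F18965
theorem F24253 : act 5 n7657 = n7657 := d25_1 D7657 (iv D7657) (iv D6041) F14137 D6041
def n7658 : Q := act 7 n6042
theorem D7658 : act 7 n6042 = n7658 := rfl
theorem F24254 : act 0 n7658 = n7658 := d6_1 D7658 (iv D7658) F18967
theorem F24255 : act 2 n7658 = n6046 := d17_1 D7658 (iv D6046) (iv F18968)
theorem F24256 : act 4 n7658 = n6044 := d24_1 D7658 (iv D6044) (iv F18969)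
theorem F24257 : act 5 n7658 = n7658 := d26_1 D7658 (iv D7658) F18970
theorem F24258 : act 6 n7658 = n6337 := d27_1 D7658 F21789 (iv D6343) F14886 D6042
theorem F24259 : act 3 n6339 = n7658 := d20_3 F24258 F19849 D6339
def n7659 : Q := act 6 n6046
theorem D7659 : act 6 n6046 = n7659 := rfl
theorem F24260 : act 0 n7659 = n7659 := d5_1 D7659 (iv D7659) F18983
theorem F24261 : act 2 n7659 = n6337 := d16_1 D7659 (iv F24258) F24255
theorem F24262 : act 4 n7659 = n6051 := d23_1 D7659 (iv D6051) (iv F18984)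
theorem F24263 : act 7 n7659 = n6048 := d27_2 D6046 D7659 (iv D6048) (iv D4566) D4565
theorem F24264 : act 5 n6335 = n7659 := d15_0 F24261 (iv D6337) D6335
def n7660 : Q := act 6 n6047
theorem D7660 : act 6 n6047 = n7660 := rfl
theorem F24265 : act 0 n7660 = n7660 := d5_1 D7660 (iv D7660) F18986
theorem F24266 : act 2 n7660 = n7660 := d16_1 D7660 (iv D7660) F18987
theorem F24267 : act 3 n7660 = n6048 := d20_1 D7660 (iv D6048) D6047
theorem F24268 : act 4 n7660 = n7479 := d23_1 D7660 F23680 (iv F18988)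
def n7661 : Q := act 5 n6048
theorem D7661 : act 5 n6048 = n7661 := rfl
theorem F24269 : act 0 n7661 = n7661 := d4_1 D7661 (iv D7661) F18991
theorem F24270 : act 2 n7661 = n6338 := d15_1 D7661 (iv F21790) F19870
theorem F24271 : act 4 n7661 = n6052 := d22_1 D7661 (iv D6052) (iv F18992)
theorem F24272 : act 6 n7661 = n6050 := d25_2 D6048 D7661 (iv D6050) (iv D4568) (iv F14161)
theorem F24273 : act 7 n7661 = n6335 := d26_2 F24263 D7661 F24264
def n7662 : Q := act 5 n6049
theorem D7662 : act 5 n6049 = n7662 := rfl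
theorem F24274 : act 0 n7662 = n7662 := d4_1 D7662 (iv D7662) F18993
theorem F24275 : act 2 n7662 = n7662 := d15_1 D7662 (iv D7662) F18995
theorem F24276 : act 3 n7662 = n6050 := d19_1 D7662 (iv D6050) (iv F18996)
def n7663 : Q := act 7 n6049
theorem D7663 : act 7 n6049 = n7663 := rfl
theorem F24277 : act 0 n7663 = n7663 := d6_1 D7663 (iv D7663) F18993
theorem F24278 : act 1 n7663 = n6056 := d12_1 D7663 (iv D6056) (iv F18994)
theorem F24279 : act 2 n7663 = n7663 := d17_1 D7663 (iv D7663) F18995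
theorem F24280 : act 3 n7663 = n7663 := d21_1 D7663 (iv D7663) F18996 F14169 (iv F18996)
theorem F24281 : act 4 n7663 = n6461 := d24_1 D7663 F24243 F24242
theorem F24282 : act 6 n7663 = n7663 := d27_1 D7663 (iv D7663) (iv D6049) F14165 D6049
def n7664 : Q := act 5 n6051
theorem D7664 : act 5 n6051 = n7664 := rfl
theorem F24283 : act 0 n7664 = n7664 := d4_1 D7664 (iv D7664) F19000
theorem F24284 : act 2 n7664 = n6336 := d15_1 D7664 F21794 F19879
theorem F24285 : act 4 n7664 = n6335 := d22_1 D7664 F24264 F24262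
theorem F24286 : act 6 n7664 = n7664 := d25_2 D6051 D7664 (iv D7664) (iv D6051) F14171
theorem F24287 : act 7 n7664 = n6052 := d26_2 (iv F19001) D7664 (iv D6052)
def n7665 : Q := act 1 n6052
theorem D7665 : act 1 n6052 = n7665 := rfl
theorem F24288 : act 6 n7665 = n6053 := d11_2 (iv F19003) D7665 (iv D6053)
def n7666 : Q := act 5 n6054
theorem D7666 : act 5 n6054 = n7666 := rfl
theorem F24289 : act 0 n7666 = n6059 := d4_1 D7666 (iv D6059) (iv F19006)
theorem F24290 : act 2 n7666 = n6055 := d15_1 D7666 (iv D6055) (iv F19008)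
theorem F24291 : act 3 n7666 = n7666 := d19_1 D7666 (iv D7666) F19009
def n7667 : Q := act 7 n6054
theorem D7667 : act 7 n6054 = n7667 := rfl
theorem F24292 : act 0 n7667 = n6060 := d6_1 D7667 (iv D6060) (iv F19006)
theorem F24293 : act 1 n7667 = n7667 := d12_1 D7667 (iv D7667) F19007
theorem F24294 : act 2 n7667 = n6056 := d17_1 D7667 (iv D6056) (iv F19008)
theorem F24295 : act 4 n7667 = n6466 := d24_1 D7667 F23285 F23284
theorem F24296 : act 6 n7667 = n7667 := d27_1 D7667 (iv D7667) (iv D6054) F14178 D6054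
theorem F24297 : act 3 n7520 = n7667 := d2_0 F24292 F19026 D7520
def n7668 : Q := act 1 n6055
theorem D7668 : act 1 n6055 = n7668 := rfl
theorem F24298 : act 3 n7668 = n6057 := d8_2 (iv F19011) D7668 (iv D6057)
def n7669 : Q := act 7 n6055
theorem D7669 : act 7 n6055 = n7669 := rfl
theorem F24299 : act 0 n7669 = n6061 := d6_1 D7669 (iv D6061) (iv F19010)
theorem F24300 : act 3 n7669 = n7669 := d21_1 D7669 (iv D7669) F19011 F14184 (iv F19011)
theorem F24301 : act 4 n7669 = n6464 := d24_1 D7669 (iv F23227) F23225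
theorem F24302 : act 5 n7669 = n6056 := d26_1 D7669 (iv D6056) D6055
def n7670 : Q := act 3 n6058
theorem D7670 : act 3 n6058 = n7670 := rfl
theorem F24303 : act 1 n7670 = n7670 := d8_1 D7670 (iv D7670) F19018
def n7671 : Q := act 7 n6059
theorem D7671 : act 7 n6059 = n7671 := rfl
theorem F24304 : act 1 n7671 = n7350 := d12_1 D7671 F23248 F20269
theorem F24305 : act 2 n7671 = n6061 := d17_1 D7671 (iv D6061) (iv F19020)
theorem F24306 : act 4 n7671 = n6472 := d24_1 D7671 (iv F23248) F23246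
theorem F24307 : act 5 n7671 = n6060 := d26_1 D7671 (iv D6060) D6059
theorem F24308 : act 6 n7671 = n6247 := d27_1 D7671 (iv D6247) F14576 D6167 F19317
theorem F24309 : act 3 n7671 = n6441 := d29_10 D4849 F15004 (iv F20043) (iv F22712) F22713 F18188 F18185 (iv F19020) F19021 D7671 F20159 F20158 (iv D5799) (iv D4337) (iv F13418) F13415 F13416 (iv F12845) (iv D4141) F9058 F6236 (iv F9020) (iv D2924) D2925 D4130 F12806 (iv F13008) F13009 (iv F10826)
def n7672 : Q := act 6 n6061
theorem D7672 : act 6 n6061 = n7672 := rfl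
theorem F24310 : act 1 n7672 = n7161 := d11_1 D7672 F22709 (iv F19027)
theorem F24311 : act 2 n7672 = n6247 := d16_1 D7672 (iv F24308) F24305
theorem F24312 : act 3 n7672 = n7672 := d20_1 D7672 (iv D7672) F19028
theorem F24313 : act 4 n7672 = n6473 := d23_1 D7672 (iv D6473) (iv F19029)
theorem F24314 : act 5 n7672 = n7672 := d25_1 D7672 (iv D7672) F19030 F14192 (iv F19030)
theorem F24315 : act 7 n7672 = n6246 := d27_2 D6061 D7672 F19542 F19305 F17982
def n7673 : Q := act 6 n6062
theorem D7673 : act 6 n6062 = n7673 := rfl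
theorem F24316 : act 1 n7673 = n6064 := d11_1 D7673 (iv D6064) D6062
theorem F24317 : act 2 n7673 = n7191 := d16_1 D7673 (iv D7191) (iv F19031)
theorem F24318 : act 3 n7673 = n6084 := d20_1 D7673 (iv D6084) (iv F19032)
theorem F24319 : act 4 n7673 = n7190 := d23_1 D7673 (iv D7190) F19034
def n7674 : Q := act 6 n6063
theorem D7674 : act 6 n6063 = n7674 := rfl
theorem F24320 : act 0 n7674 = n6257 := d5_1 D7674 (iv D6257) (iv F19036)
theorem F24321 : act 1 n7674 = n7190 := d11_1 D7674 (iv D7190) (iv F19037)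
theorem F24322 : act 2 n7674 = n6065 := d16_1 D7674 (iv D6065) (iv F19038)
theorem F24323 : act 3 n7674 = n6580 := d20_1 D7674 (iv D6580) (iv F19039)
theorem F24324 : act 4 n7674 = n6064 := d23_1 D7674 (iv D6064) D6063
theorem F24325 : act 7 n7674 = n6443 := d27_2 (iv F19041) D7674 (iv D6443) (iv F19610) (iv F19612)
def n7675 : Q := act 2 n6066
theorem D7675 : act 2 n6066 = n7675 := rfl
theorem F24326 : act 1 n7675 = n6088 := d7_1 D7675 (iv D6088) (iv D4597) (iv F14202) D6066
theorem F24327 : act 4 n7675 = n6081 := d14_2 (iv F19050) D7675 (iv D6081)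
theorem F24328 : act 7 n7675 = n7675 := d17_2 F19051 D7675 (iv D7675)
def n7676 : Q := act 5 n6067
theorem D7676 : act 5 n6067 = n7676 := rfl
theorem F24329 : act 0 n7676 = n6069 := d4_1 D7676 (iv D6069) (iv F19052)
theorem F24330 : act 3 n7676 = n7291 := d19_1 D7676 F23056 (iv F19054)
theorem F24331 : act 4 n7676 = n6774 := d22_1 D7676 (iv D6774) (iv F19055)
def n7677 : Q := act 5 n6068
theorem D7677 : act 5 n6068 = n7677 := rfl
theorem F24332 : act 0 n7677 = n7291 := d4_1 D7677 F23056 (iv F19056)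
theorem F24333 : act 2 n7677 = n7290 := d15_1 D7677 F23054 (iv F19058)
theorem F24334 : act 3 n7677 = n6069 := d19_1 D7677 (iv D6069) (iv F19059)
def n7678 : Q := act 7 n6068
theorem D7678 : act 7 n6068 = n7678 := rfl
theorem F24335 : act 0 n7678 = n6290 := d6_1 D7678 F19687 (iv F19056)
theorem F24336 : act 1 n7678 = n6071 := d12_1 D7678 (iv D6071) (iv F19057)
theorem F24337 : act 2 n7678 = n6331 := d17_1 D7678 F19833 (iv F19058)
theorem F24338 : act 4 n7678 = n6657 := d24_1 D7678 (iv F21202) F21200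
theorem F24339 : act 6 n7678 = n7678 := d27_1 D7678 (iv D7678) (iv D6068) F14211 D6068
def n7679 : Q := act 1 n6069
theorem D7679 : act 1 n6069 = n7679 := rfl
theorem F24340 : act 5 n7679 = n6072 := d10_2 D6069 D7679 (iv D6072) (iv D4587) (iv F14213)
def n7680 : Q := act 1 n6070
theorem D7680 : act 1 n6070 = n7680 := rfl
theorem F24341 : act 3 n7680 = n6072 := d8_2 (iv F19062) D7680 (iv D6072)
theorem F24342 : act 4 n7680 = n6655 := d9_2 (iv F19063) D7680 F20894
theorem F24343 : act 6 n7680 = n6078 := d11_2 (iv F19064) D7680 (iv D6078)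
theorem F24344 : act 7 n7680 = n6652 := d12_2 (iv F19065) D7680 F20889
def n7681 : Q := act 0 n6072
theorem D7681 : act 0 n6072 = n7681 := rfl
theorem F24345 : act 1 n7681 = n6261 := d0_2 D6072 D7681 (iv D6261) (iv D4732) (iv F14216)
theorem F24346 : act 6 n7681 = n6080 := d5_2 (iv F19071) D7681 (iv D6080)
def n7682 : Q := act 2 n6072
theorem D7682 : act 2 n6072 = n7682 := rfl
theorem F24347 : act 1 n7682 = n6092 := d7_1 D7682 (iv D6092) (iv D4600) (iv F14217) D6072
theorem F24348 : act 6 n7682 = n6081 := d16_2 (iv F19071) D7682 (iv D6081)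
def n7683 : Q := act 5 n6073
theorem D7683 : act 5 n6073 = n7683 := rfl
theorem F24349 : act 0 n7683 = n7274 := d4_1 D7683 F23011 (iv F19072)
theorem F24350 : act 3 n7683 = n6095 := d19_1 D7683 (iv D6095) (iv F19074)
theorem F24351 : act 6 n7683 = n7272 := d25_2 D6073 D7683 (iv D7272) F17843 (iv F14221)
def n7684 : Q := act 7 n6073
theorem D7684 : act 7 n6073 = n7684 := rfl
theorem F24352 : act 0 n7684 = n7293 := d6_1 D7684 (iv D7293) (iv F19072)
theorem F24353 : act 1 n7684 = n6075 := d12_1 D7684 (iv D6075) (iv F19073)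
theorem F24354 : act 4 n7684 = n6644 := d24_1 D7684 F21279 F21277
theorem F24355 : act 6 n7684 = n7684 := d27_1 D7684 (iv D7684) (iv D6073) F14222 D6073
def n7685 : Q := act 1 n6074
theorem D7685 : act 1 n6074 = n7685 := rfl
theorem F24356 : act 3 n7685 = n6096 := d8_2 (iv F19077) D7685 (iv D6096)
theorem F24357 : act 4 n7685 = n6624 := d9_2 (iv F19078) D7685 F20797
theorem F24358 : act 6 n7685 = n6635 := d11_2 (iv F19079) D7685 F20835
theorem F24359 : act 7 n7685 = n6622 := d12_2 (iv F19080) D7685 F20794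
def n7686 : Q := act 1 n6076
theorem D7686 : act 1 n6076 = n7686 := rfl
theorem F24360 : act 4 n7686 = n6078 := d9_2 (iv F19088) D7686 (iv D6078)
theorem F24361 : act 6 n7686 = n6655 := d11_2 (iv F19089) D7686 F20894
theorem F24362 : act 7 n7686 = n6643 := d12_2 F19090 D7686 F20865
def n7687 : Q := act 0 n6078
theorem D7687 : act 0 n6078 = n7687 := rfl
theorem F24363 : act 1 n7687 = n6263 := d0_2 D6078 D7687 (iv D6263) (iv D4737) (iv F14228)
theorem F24364 : act 3 n7687 = n6080 := d2_2 (iv F19097) D7687 (iv D6080)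
def n7688 : Q := act 2 n6078
theorem D7688 : act 2 n6078 = n7688 := rfl
def n7689 : Q := act 7 n6078
theorem D7689 : act 7 n6078 = n7689 := rfl
theorem F24365 : act 1 n7689 = n6079 := d12_1 D7689 (iv D6079) D6078
theorem F24366 : act 3 n7689 = n7689 := d21_1 D7689 (iv D7689) F19097 F14233 (iv F19097)
theorem F24367 : act 4 n7689 = n6643 := d24_1 D7689 (iv F24362) F24360
theorem F24368 : act 6 n7689 = n6641 := d27_1 D7689 F20859 D6652 (iv F24344) F24343
def n7690 : Q := act 2 n6080
theorem D7690 : act 2 n6080 = n7690 := rfl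
theorem F24369 : act 0 n7690 = n6081 := d1_1 D7690 (iv D6081) D6080
theorem F24370 : act 7 n7690 = n7690 := d17_2 F19105 D7690 (iv D7690)
def n7691 : Q := act 3 n6081
theorem D7691 : act 3 n6081 = n7691 := rfl
theorem F24371 : act 1 n7691 = n6099 := d8_1 D7691 (iv D6099) (iv F19106)
def n7692 : Q := act 6 n6082
theorem D7692 : act 6 n6082 = n7692 := rfl
theorem F24372 : act 0 n7692 = n6084 := d5_1 D7692 (iv D6084) D6082
theorem F24373 : act 1 n7692 = n6269 := d11_1 D7692 (iv D6269) (iv F19108)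
theorem F24374 : act 2 n7692 = n6103 := d16_1 D7692 (iv D6103) (iv F19109)
theorem F24375 : act 4 n7692 = n7277 := d23_1 D7692 (iv D7277) (iv F19110)
def n7693 : Q := act 6 n6083
theorem D7693 : act 6 n6083 = n7693 := rfl
theorem F24376 : act 0 n7693 = n7217 := d5_1 D7693 F22858 (iv F20349)
theorem F24377 : act 2 n7693 = n6104 := d16_1 D7693 (iv D6104) (iv F19112)
theorem F24378 : act 3 n7693 = n7196 := d20_1 D7693 (iv D7196) (iv F19113)
def n7694 : Q := act 5 n6084
theorem D7694 : act 5 n6084 = n7694 := rfl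
theorem F24379 : act 2 n7694 = n6105 := d15_1 D7694 (iv D6105) (iv F19116)
def n7695 : Q := act 1 n6085
theorem D7695 : act 1 n6085 = n7695 := rfl
def n7696 : Q := act 2 n6086
theorem D7696 : act 2 n6086 = n7696 := rfl
theorem F24380 : act 4 n7696 = n7635 := d14_2 F20627 D7696 F24187
theorem F24381 : act 5 n7696 = n6108 := d15_2 (iv F19120) D7696 (iv D6108)
theorem F24382 : act 7 n7696 = n7634 := d17_2 F20623 D7696 F24182
def n7697 : Q := act 2 n6087
theorem D7697 : act 2 n6087 = n7697 := rfl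
theorem F24383 : act 0 n7697 = n6088 := d1_1 D7697 (iv D6088) D6087
theorem F24384 : act 4 n7697 = n6098 := d14_2 (iv F19122) D7697 (iv D6098)
theorem F24385 : act 5 n7697 = n6109 := d15_2 (iv F19123) D7697 (iv D6109)
theorem F24386 : act 7 n7697 = n7697 := d17_2 F19124 D7697 (iv D7697)
def n7698 : Q := act 3 n6088
theorem D7698 : act 3 n6088 = n7698 := rfl
theorem F24387 : act 5 n7698 = n6110 := d19_2 (iv F19126) D7698 (iv D6110)
def n7699 : Q := act 1 n6089
theorem D7699 : act 1 n6089 = n7699 := rfl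
theorem F24388 : act 3 n7699 = n6635 := d8_2 (iv F19130) D7699 F20835
theorem F24389 : act 6 n7699 = n6096 := d11_2 (iv F19131) D7699 (iv D6096)
theorem F24390 : act 7 n7699 = n7699 := d12_2 F19132 D7699 (iv D7699)
def n7700 : Q := act 2 n6090
theorem D7700 : act 2 n6090 = n7700 := rfl
theorem F24391 : act 0 n7700 = n7652 := d1_1 D7700 F24230 F19136
theorem F24392 : act 6 n7700 = n6097 := d16_2 (iv F19134) D7700 (iv D6097)
theorem F24393 : act 7 n7700 = n7700 := d17_2 F19135 D7700 (iv D7700)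
def n7701 : Q := act 2 n6091
theorem D7701 : act 2 n6091 = n7701 := rfl
theorem F24394 : act 0 n7701 = n6092 := d1_1 D7701 (iv D6092) D6091
theorem F24395 : act 6 n7701 = n6098 := d16_2 (iv F19139) D7701 (iv D6098)
def n7702 : Q := act 3 n6092
theorem D7702 : act 3 n6092 = n7702 := rfl
theorem F24396 : act 6 n7702 = n6099 := d20_2 (iv F19140) D7702 (iv D6099)
def n7703 : Q := act 5 n6093
theorem D7703 : act 5 n6093 = n7703 := rfl
theorem F24397 : act 0 n7703 = n6095 := d4_1 D7703 (iv D6095) (iv F19141)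
theorem F24398 : act 2 n7703 = n6112 := d15_1 D7703 (iv D6112) (iv F19143)
theorem F24399 : act 3 n7703 = n7274 := d19_1 D7703 F23011 (iv F19144)
theorem F24400 : act 6 n7703 = n7273 := d25_2 D6093 D7703 (iv D7273) F17848 F14255
def n7704 : Q := act 5 n6094
theorem D7704 : act 5 n6094 = n7704 := rfl
theorem F24401 : act 0 n7704 = n7273 := d4_1 D7704 (iv D7273) (iv F19145)
theorem F24402 : act 2 n7704 = n6113 := d15_1 D7704 (iv D6113) (iv F19147)
theorem F24403 : act 3 n7704 = n7272 := d19_1 D7704 (iv D7272) (iv F19148)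
theorem F24404 : act 6 n7704 = n6095 := d25_2 D6094 D7704 (iv D6095) (iv D4603) D4602
def n7705 : Q := act 7 n6094
theorem D7705 : act 7 n6094 = n7705 := rfl
theorem F24405 : act 0 n7705 = n7128 := d6_1 D7705 F22583 (iv F19145)
theorem F24406 : act 1 n7705 = n7041 := d12_1 D7705 F22308 (iv F19146)
theorem F24407 : act 2 n7705 = n6114 := d17_1 D7705 (iv D6114) (iv F19147)
theorem F24408 : act 3 n7705 = n7040 := d21_1 D7705 (iv D7040) (iv F22261) F22264 (iv F19148)
theorem F24409 : act 6 n7705 = n6102 := d27_1 D7705 (iv D6102) (iv D4610) (iv F14260) D6094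
def n7706 : Q := act 1 n6095
theorem D7706 : act 1 n6095 = n7706 := rfl
theorem F24410 : act 5 n7706 = n6096 := d10_2 D6095 D7706 (iv D6096) (iv D4604) (iv F14261)
def n7707 : Q := act 0 n6096
theorem D7707 : act 0 n6096 = n7707 := rfl
theorem F24411 : act 1 n7707 = n6278 := d0_2 D6096 D7707 (iv D6278) (iv D4753) (iv F14263)
def n7708 : Q := act 2 n6096
theorem D7708 : act 2 n6096 = n7708 := rfl
theorem F24412 : act 1 n7708 = n6097 := d7_1 D7708 (iv D6097) (iv D4605) (iv F14264) D6096
theorem F24413 : act 7 n7708 = n7633 := d17_2 F20975 D7708 F24178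
def n7709 : Q := act 3 n6097
theorem D7709 : act 3 n6097 = n7709 := rfl
theorem F24414 : act 0 n7709 = n7651 := d2_1 D7709 (iv D7651) (iv F19150)
theorem F24415 : act 2 n7709 = n6099 := d13_1 D7709 (iv D6099) (iv D4607) (iv F14265) D6097
theorem F24416 : act 5 n7709 = n6118 := d19_2 (iv F19151) D7709 (iv D6118)
def n7710 : Q := act 1 n6098
theorem D7710 : act 1 n6098 = n7710 := rfl
theorem F24417 : act 2 n7710 = n6282 := d7_2 D6098 D7710 (iv D6282) (iv D4756) (iv F14269)
theorem F24418 : act 7 n7710 = n7710 := d12_2 F19155 D7710 (iv D7710)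
def n7711 : Q := act 3 n6098
theorem D7711 : act 3 n6098 = n7711 := rfl
theorem F24419 : act 0 n7711 = n6099 := d2_1 D7711 (iv D6099) (iv F19153)
theorem F24420 : act 2 n7711 = n7651 := d13_1 D7711 (iv D7651) F18931 (iv F14270) D6098
theorem F24421 : act 5 n7711 = n6120 := d19_2 (iv F19154) D7711 (iv D6120)
def n7712 : Q := act 4 n6099
theorem D7712 : act 4 n6099 = n7712 := rfl
theorem F24422 : act 5 n7712 = n6121 := d22_2 (iv F19156) D7712 (iv D6121)
def n7713 : Q := act 7 n6099
theorem D7713 : act 7 n6099 = n7713 := rfl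
theorem F24423 : act 3 n7713 = n7713 := d21_1 D7713 (iv D7713) (iv D6099) F14274 D6099
theorem F24424 : act 5 n7713 = n6122 := d26_1 D7713 (iv D6122) (iv F19156)
def n7714 : Q := act 7 n6101
theorem D7714 : act 7 n6101 = n7714 := rfl
theorem F24425 : act 0 n7714 = n6102 := d6_1 D7714 (iv D6102) (iv F19163)
theorem F24426 : act 1 n7714 = n7126 := d12_1 D7714 (iv F22577) (iv F19164)
theorem F24427 : act 2 n7714 = n6124 := d17_1 D7714 (iv D6124) (iv F19165)
theorem F24428 : act 6 n7714 = n7128 := d27_1 D7714 F22583 F17848 (iv F14283) D6101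
def n7715 : Q := act 5 n6103
theorem D7715 : act 5 n6103 = n7715 := rfl
theorem F24429 : act 0 n7715 = n6105 := d4_1 D7715 (iv D6105) (iv F19169)
theorem F24430 : act 3 n7715 = n7054 := d19_1 D7715 (iv D7054) (iv F19171)
theorem F24431 : act 4 n7715 = n7278 := d22_1 D7715 (iv D7278) (iv F19172)
def n7716 : Q := act 5 n6104
theorem D7716 : act 5 n6104 = n7716 := rfl
theorem F24432 : act 6 n7716 = n6105 := d25_2 D6104 D7716 (iv D6105) (iv D4613) D4612
def n7717 : Q := act 7 n6104
theorem D7717 : act 7 n6104 = n7717 := rfl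
theorem F24433 : act 0 n7717 = n6707 := d6_1 D7717 F21074 F20373
theorem F24434 : act 1 n7717 = n6716 := d12_1 D7717 F21112 F20408
theorem F24435 : act 6 n7717 = n6251 := d27_1 D7717 (iv D6251) (iv D4721) (iv F14290) D6104
def n7718 : Q := act 1 n6105
theorem D7718 : act 1 n6105 = n7718 := rfl
theorem F24436 : act 5 n7718 = n6106 := d10_2 D6105 D7718 (iv D6106) (iv D4614) (iv F14291)
def n7719 : Q := act 0 n6106
theorem D7719 : act 0 n6106 = n7719 := rfl
theorem F24437 : act 1 n7719 = n6160 := d0_2 D6106 D7719 (iv D6160) (iv D4655) (iv F14292)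
def n7720 : Q := act 2 n6106
theorem D7720 : act 2 n6106 = n7720 := rfl
theorem F24438 : act 1 n7720 = n6108 := d7_1 D7720 (iv D6108) (iv D4615) (iv F14293) D6106
def n7721 : Q := act 2 n6107
theorem D7721 : act 2 n6107 = n7721 := rfl
theorem F24439 : act 0 n7721 = n6108 := d1_1 D7721 (iv D6108) D6107
theorem F24440 : act 4 n7721 = n7044 := d14_2 (iv F19175) D7721 F22314
theorem F24441 : act 7 n7721 = n7043 := d17_2 (iv F19176) D7721 (iv D7043)
def n7722 : Q := act 3 n6108
theorem D7722 : act 3 n6108 = n7722 := rfl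
theorem F24442 : act 2 n7722 = n6110 := d13_1 D7722 (iv D6110) (iv D4617) (iv F14294) D6108
def n7723 : Q := act 1 n6109
theorem D7723 : act 1 n6109 = n7723 := rfl
theorem F24443 : act 2 n7723 = n6164 := d7_2 D6109 D7723 (iv D6164) (iv D4658) (iv F14295)
theorem F24444 : act 4 n7723 = n6119 := d9_2 (iv F19178) D7723 (iv D6119)
theorem F24445 : act 6 n7723 = n6226 := d11_2 F19524 D7723 (iv F21800)
theorem F24446 : act 7 n7723 = n7723 := d12_2 F19179 D7723 (iv D7723)
def n7724 : Q := act 3 n6109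
theorem D7724 : act 3 n6109 = n7724 := rfl
theorem F24447 : act 0 n7724 = n6110 := d2_1 D7724 (iv D6110) (iv F19177)
def n7725 : Q := act 4 n6110
theorem D7725 : act 4 n6110 = n7725 := rfl
theorem F24448 : act 3 n7725 = n6121 := d18_1 D7725 (iv D6121) (iv D4625) (iv F14298) D6110
def n7726 : Q := act 7 n6110
theorem D7726 : act 7 n6110 = n7726 := rfl
theorem F24449 : act 3 n7726 = n7726 := d21_1 D7726 (iv D7726) (iv D6110) F14299 D6110
def n7727 : Q := act 5 n6111
theorem D7727 : act 5 n6111 = n7727 := rfl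
theorem F24450 : act 0 n7727 = n6113 := d4_1 D7727 (iv D6113) (iv F19180)
theorem F24451 : act 2 n7727 = n7273 := d15_1 D7727 (iv D7273) (iv F19182)
theorem F24452 : act 6 n7727 = n6112 := d25_2 D6111 D7727 (iv D6112) (iv D4619) D4618
def n7728 : Q := act 7 n6111
theorem D7728 : act 7 n6111 = n7728 := rfl
theorem F24453 : act 0 n7728 = n6114 := d6_1 D7728 (iv D6114) (iv F19180)
theorem F24454 : act 1 n7728 = n7146 := d12_1 D7728 F22656 (iv F19181)
theorem F24455 : act 2 n7728 = n7128 := d17_1 D7728 F22583 (iv F19182)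
theorem F24456 : act 6 n7728 = n6124 := d27_1 D7728 (iv D6124) (iv D4627) (iv F14303) D6111
def n7729 : Q := act 1 n6113
theorem D7729 : act 1 n6113 = n7729 := rfl
theorem F24457 : act 6 n7729 = n6115 := d11_2 (iv F19184) D7729 (iv D6115)
def n7730 : Q := act 7 n6113
theorem D7730 : act 7 n6113 = n7730 := rfl
theorem F24458 : act 5 n7730 = n6114 := d26_1 D7730 (iv D6114) D6113
def n7731 : Q := act 3 n6114
theorem D7731 : act 3 n6114 = n7731 := rfl
theorem F24459 : act 6 n7731 = n6125 := d20_2 (iv F19185) D7731 (iv D6125)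
def n7732 : Q := act 0 n6115
theorem D7732 : act 0 n6115 = n7732 := rfl
theorem F24460 : act 1 n7732 = n7224 := d0_2 D6115 D7732 (iv F22904) F22905 F19183
theorem F24461 : act 3 n7732 = n6184 := d2_2 (iv F23625) D7732 (iv F23622)
theorem F24462 : act 5 n7732 = n6116 := d4_2 (iv F19186) D7732 (iv D6116)
theorem F24463 : act 7 n7732 = n7268 := d6_2 (iv F19187) D7732 F22996
def n7733 : Q := act 2 n6115
theorem D7733 : act 2 n6115 = n7733 := rfl
theorem F24464 : act 5 n7733 = n6117 := d15_2 (iv F19186) D7733 (iv D6117)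
theorem F24465 : act 7 n7733 = n7628 := d17_2 (iv F19187) D7733 F24162
def n7734 : Q := act 2 n6116
theorem D7734 : act 2 n6116 = n7734 := rfl
theorem F24466 : act 0 n7734 = n6117 := d1_1 D7734 (iv D6117) D6116
theorem F24467 : act 1 n7734 = n7227 := d7_1 D7734 (iv D7227) (iv D5648) (iv F14397) (iv F19188)
theorem F24468 : act 6 n7734 = n7459 := d16_2 (iv F19190) D7734 F23618
theorem F24469 : act 7 n7734 = n7267 := d17_2 (iv F19191) D7734 F22994
def n7735 : Q := act 3 n6117
theorem D7735 : act 3 n6117 = n7735 := rfl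
theorem F24470 : act 1 n7735 = n6118 := d8_1 D7735 (iv D6118) (iv F19192)
def n7736 : Q := act 4 n6118
theorem D7736 : act 4 n6118 = n7736 := rfl
theorem F24471 : act 0 n7736 = n7653 := d3_1 D7736 (iv D7653) (iv F19194)
theorem F24472 : act 2 n7736 = n6121 := d14_1 D7736 (iv D6121) (iv F19195)
def n7737 : Q := act 7 n6118
theorem D7737 : act 7 n6118 = n7737 := rfl
theorem F24473 : act 0 n7737 = n7645 := d6_1 D7737 F24218 (iv F19194)
theorem F24474 : act 2 n7737 = n6122 := d17_1 D7737 (iv D6122) (iv F19195)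
theorem F24475 : act 3 n7737 = n7631 := d21_1 D7737 (iv D7631) F18886 (iv F14308) D6118
def n7738 : Q := act 3 n6119
theorem D7738 : act 3 n6119 = n7738 := rfl
theorem F24476 : act 1 n7738 = n6120 := d8_1 D7738 (iv D6120) D6119
def n7739 : Q := act 5 n6119
theorem D7739 : act 5 n6119 = n7739 := rfl
theorem F24477 : act 2 n7739 = n6169 := d15_1 D7739 (iv D6169) (iv F19196)
theorem F24478 : act 7 n7739 = n7739 := d26_2 F19197 D7739 (iv D7739)
def n7740 : Q := act 4 n6120
theorem D7740 : act 4 n6120 = n7740 := rfl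
theorem F24479 : act 0 n7740 = n6121 := d3_1 D7740 (iv D6121) (iv F19198)
theorem F24480 : act 2 n7740 = n7653 := d14_1 D7740 (iv D7653) (iv F19199)
def n7741 : Q := act 7 n6120
theorem D7741 : act 7 n6120 = n7741 := rfl
theorem F24481 : act 0 n7741 = n6122 := d6_1 D7741 (iv D6122) (iv F19198)
theorem F24482 : act 2 n7741 = n7645 := d17_1 D7741 F24218 (iv F19199)
theorem F24483 : act 3 n7741 = n7741 := d21_1 D7741 (iv D7741) (iv D6120) F14310 D6120
def n7742 : Q := act 7 n6121
theorem D7742 : act 7 n6121 = n7742 := rfl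
theorem F24484 : act 4 n7742 = n6122 := d24_1 D7742 (iv D6122) D6121
def n7743 : Q := act 6 n6122
theorem D7743 : act 6 n6122 = n7743 := rfl
theorem F24485 : act 3 n7743 = n7743 := d20_1 D7743 (iv D7743) F19200
def n7744 : Q := act 5 n6123
theorem D7744 : act 5 n6123 = n7744 := rfl
theorem F24486 : act 2 n7744 = n7296 := d15_1 D7744 (iv D7296) (iv F19202)
theorem F24487 : act 3 n7744 = n6136 := d19_1 D7744 (iv D6136) (iv F19203)
theorem F24488 : act 6 n7744 = n6172 := d25_2 D6123 D7744 (iv D6172) (iv D4665) (iv F14313)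
def n7745 : Q := act 7 n6123
theorem D7745 : act 7 n6123 = n7745 := rfl
theorem F24489 : act 1 n7745 = n6124 := d12_1 D7745 (iv D6124) (iv F19201)
theorem F24490 : act 2 n7745 = n7145 := d17_1 D7745 F22654 (iv F19202)
theorem F24491 : act 6 n7745 = n7146 := d27_1 D7745 F22656 F17853 (iv F14314) D6123
def n7746 : Q := act 3 n6124
theorem D7746 : act 3 n6124 = n7746 := rfl
theorem F24492 : act 0 n7746 = n6125 := d2_1 D7746 (iv D6125) (iv F19204)
theorem F24493 : act 7 n7746 = n6140 := d21_2 D6124 D7746 (iv D6140) (iv D4637) (iv F14316)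
def n7747 : Q := act 2 n6125
theorem D7747 : act 2 n6125 = n7747 := rfl
theorem F24494 : act 7 n7747 = n6153 := d17_2 (iv F19205) D7747 (iv D6153)
def n7748 : Q := act 4 n6125
theorem D7748 : act 4 n6125 = n7748 := rfl
theorem F24495 : act 7 n7748 = n6154 := d24_2 (iv F19205) D7748 (iv D6154)
def n7749 : Q := act 1 n6126
theorem D7749 : act 1 n6126 = n7749 := rfl
theorem F24496 : act 0 n7749 = n7749 := d0_1 D7749 (iv D7749) F19206 F14342 (iv F19206)
theorem F24497 : act 3 n7749 = n7749 := d8_2 F19208 D7749 (iv D7749)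
theorem F24498 : act 5 n7749 = n7749 := d10_2 D6126 D7749 (iv D7749) (iv D6126) F14318
theorem F24499 : act 6 n7749 = n7558 := d29_4 (iv F14321) (iv F19207) D7749 F24498 F23945 F18641 (iv F18740) (iv F22511) (iv D7109) F17308 F12693 (iv F11267) D5006 F15523 (iv D4980) F11202 (iv F15422) (iv F20490) F20492 F19558 F14651 F10566 (iv F10093) F10094 (iv F9386) (iv F13176) (iv F13952) F13953 (iv F10288)
def n7750 : Q := act 6 n6126
theorem D7750 : act 6 n6126 = n7750 := rfl
theorem F24500 : act 0 n7750 = n6142 := d5_1 D7750 (iv D6142) (iv F19206)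
theorem F24501 : act 1 n7750 = n7558 := d11_1 D7750 (iv F24499) (iv D7749)
theorem F24502 : act 2 n7750 = n6129 := d16_1 D7750 (iv D6129) (iv F19207)
theorem F24503 : act 3 n7750 = n7750 := d20_1 D7750 (iv D7750) F19208
theorem F24504 : act 5 n7750 = n7592 := d25_1 D7750 F24055 F19279 F14371 D6126
theorem F24505 : act 7 n7557 = n7750 := d26_0 F24504 (iv D7592) (iv F23941)
def n7751 : Q := act 7 n6126
theorem D7751 : act 7 n6126 = n7751 := rfl
theorem F24506 : act 0 n7751 = n6143 := d6_1 D7751 (iv D6143) (iv F19206)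
theorem F24507 : act 2 n7751 = n6130 := d17_1 D7751 (iv D6130) (iv F19207)
theorem F24508 : act 5 n7751 = n6127 := d26_1 D7751 (iv D6127) D6126
def n7752 : Q := act 3 n6127
theorem D7752 : act 3 n6127 = n7752 := rfl
theorem F24509 : act 0 n7752 = n6144 := d2_1 D7752 (iv D6144) (iv F19209)
theorem F24510 : act 1 n7752 = n7752 := d8_1 D7752 (iv D7752) F19210
theorem F24511 : act 2 n7752 = n7463 := d13_1 D7752 (iv D7463) (iv D5872) (iv F14324) (iv F19211)
theorem F24512 : act 7 n7752 = n7752 := d21_2 D6127 D7752 (iv D7752) (iv D6127) F14319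
def n7753 : Q := act 6 n6127
theorem D7753 : act 6 n6127 = n7753 := rfl
theorem F24513 : act 0 n7753 = n6145 := d5_1 D7753 (iv D6145) (iv F19209)
theorem F24514 : act 1 n7753 = n7753 := d11_1 D7753 (iv D7753) F19210
theorem F24515 : act 2 n7753 = n6131 := d16_1 D7753 (iv D6131) (iv F19211)
theorem F24516 : act 7 n7753 = n7246 := d27_2 D6127 D7753 (iv D7246) F17771 F14371
def n7754 : Q := act 2 n6128
theorem D7754 : act 2 n6128 = n7754 := rfl
theorem F24517 : act 0 n7754 = n6141 := d1_1 D7754 (iv D6141) (iv F19212)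
theorem F24518 : act 4 n7754 = n7751 := d14_2 F19221 D7754 F24507
theorem F24519 : act 5 n7754 = n6173 := d15_2 (iv F19214) D7754 (iv D6173)
theorem F24520 : act 7 n7754 = n7419 := d17_2 F19215 D7754 F23504
def n7755 : Q := act 6 n6128
theorem D7755 : act 6 n6128 = n7755 := rfl
theorem F24521 : act 0 n7755 = n6138 := d5_1 D7755 F19242 (iv F19212)
theorem F24522 : act 1 n7755 = n6129 := d11_1 D7755 (iv D6129) D6128
theorem F24523 : act 3 n7755 = n6133 := d20_1 D7755 (iv D6133) (iv F19213)
def n7756 : Q := act 7 n6129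
theorem D7756 : act 7 n6129 = n7756 := rfl
theorem F24524 : act 0 n7756 = n6146 := d6_1 D7756 (iv D6146) (iv F19216)
theorem F24525 : act 2 n7756 = n7557 := d17_1 D7756 F24505 F24502
theorem F24526 : act 5 n7756 = n7591 := d26_1 D7756 (iv F24049) F19284
def n7757 : Q := act 6 n6130
theorem D7757 : act 6 n6130 = n7757 := rfl
theorem F24527 : act 0 n7757 = n6147 := d5_1 D7757 (iv D6147) (iv F19218)
theorem F24528 : act 1 n7757 = n7433 := d11_1 D7757 F23546 (iv F19219)
theorem F24529 : act 3 n7757 = n7442 := d20_1 D7757 F23569 (iv F19220)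
theorem F24530 : act 4 n7757 = n7755 := d23_1 D7757 (iv D7755) (iv F19221)
def n7758 : Q := act 5 n6131
theorem D7758 : act 5 n6131 = n7758 := rfl
theorem F24531 : act 0 n7758 = n6148 := d4_1 D7758 (iv D6148) (iv F19223)
theorem F24532 : act 1 n7758 = n7453 := d10_1 D7758 (iv D7453) F18354 (iv F14432) (iv F19224)
theorem F24533 : act 3 n7758 = n7460 := d19_1 D7758 F23620 (iv F19225)
theorem F24534 : act 7 n7758 = n7248 := d26_2 (iv F19226) D7758 (iv D7248)
def n7759 : Q := act 6 n6132
theorem D7759 : act 6 n6132 = n7759 := rfl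
theorem F24535 : act 1 n7759 = n7759 := d11_1 D7759 (iv D7759) F19227
theorem F24536 : act 2 n7759 = n6133 := d16_1 D7759 (iv D6133) D6132
theorem F24537 : act 4 n7759 = n6135 := d23_1 D7759 (iv D6135) (iv F19228)
def n7760 : Q := act 5 n6133
theorem D7760 : act 5 n6133 = n7760 := rfl
theorem F24538 : act 4 n7760 = n6136 := d22_1 D7760 (iv D6136) (iv F19232)
theorem F24539 : act 6 n7760 = n6177 := d25_2 D6133 D7760 (iv D6177) (iv D4670) (iv F14326)
def n7761 : Q := act 7 n6133
theorem D7761 : act 7 n6133 = n7761 := rfl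
theorem F24540 : act 1 n7761 = n6134 := d12_1 D7761 (iv D6134) (iv F19231)
theorem F24541 : act 4 n7761 = n6137 := d24_1 D7761 (iv D6137) (iv F19232)
theorem F24542 : act 6 n7761 = n7618 := d27_1 D7761 (iv D7618) F18824 (iv F14327) D6133
def n7762 : Q := act 3 n6134
theorem D7762 : act 3 n6134 = n7762 := rfl
theorem F24543 : act 0 n7762 = n6150 := d2_1 D7762 (iv D6150) (iv F19233)
theorem F24544 : act 6 n7762 = n7619 := d20_2 (iv F19236) D7762 (iv D7619)
def n7763 : Q := act 5 n6135
theorem D7763 : act 5 n6135 = n7763 := rfl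
theorem F24545 : act 2 n7763 = n6136 := d15_1 D7763 (iv D6136) (iv F19238)
theorem F24546 : act 3 n7763 = n7304 := d19_1 D7763 (iv D7304) (iv F19239)
theorem F24547 : act 6 n7763 = n6181 := d25_2 D6135 D7763 (iv D6181) (iv D4673) (iv F14333)
def n7764 : Q := act 7 n6135
theorem D7764 : act 7 n6135 = n7764 := rfl
theorem F24548 : act 1 n7764 = n7764 := d12_1 D7764 (iv D7764) F19237
theorem F24549 : act 2 n7764 = n6137 := d17_1 D7764 (iv D6137) (iv F19238)
def n7765 : Q := act 1 n6136
theorem D7765 : act 1 n6136 = n7765 := rfl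
theorem F24550 : act 5 n7765 = n6138 := d10_2 D6136 D7765 (iv D6138) (iv D4636) (iv F14334)
theorem F24551 : act 6 n7765 = n6183 := d11_2 (iv F19240) D7765 (iv D6183)
def n7766 : Q := act 7 n6136
theorem D7766 : act 7 n6136 = n7766 := rfl
theorem F24552 : act 5 n7766 = n6137 := d26_1 D7766 (iv D6137) D6136
def n7767 : Q := act 3 n6137
theorem D7767 : act 3 n6137 = n7767 := rfl
theorem F24553 : act 1 n7767 = n6140 := d8_1 D7767 (iv D6140) (iv F19241)
def n7768 : Q := act 2 n6138
theorem D7768 : act 2 n6138 = n7768 := rfl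
theorem F24554 : act 1 n7768 = n7768 := d7_1 D7768 (iv D7768) (iv D6138) F14336 D6138
theorem F24555 : act 6 n7768 = n6141 := d16_2 (iv F19242) D7768 (iv D6141)
def n7769 : Q := act 7 n6138
theorem D7769 : act 7 n6138 = n7769 := rfl
theorem F24556 : act 1 n7769 = n6139 := d12_1 D7769 (iv D6139) D6138
theorem F24557 : act 6 n7769 = n7436 := d27_1 D7769 (iv D7436) F18312 (iv F14341) (iv F19242)
def n7770 : Q := act 3 n6139
theorem D7770 : act 3 n6139 = n7770 := rfl
theorem F24558 : act 0 n7770 = n6151 := d2_1 D7770 (iv D6151) (iv F19243)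
theorem F24559 : act 5 n7770 = n6140 := d19_2 (iv F19245) D7770 (iv D6140)
def n7771 : Q := act 2 n6140
theorem D7771 : act 2 n6140 = n7771 := rfl
theorem F24560 : act 0 n7771 = n6153 := d1_1 D7771 (iv D6153) (iv F19246)
theorem F24561 : act 3 n7771 = n7771 := d13_2 D6140 D7771 (iv D7771) (iv D6140) F14339
def n7772 : Q := act 4 n6140
theorem D7772 : act 4 n6140 = n7772 := rfl
theorem F24562 : act 0 n7772 = n6154 := d3_1 D7772 (iv D6154) (iv F19246)
def n7773 : Q := act 3 n6141
theorem D7773 : act 3 n6141 = n7773 := rfl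
theorem F24563 : act 1 n7773 = n7773 := d8_1 D7773 (iv D7773) F19247
theorem F24564 : act 5 n7773 = n6186 := d19_2 (iv F19248) D7773 (iv D6186)
theorem F24565 : act 7 n7773 = n6467 := d21_2 (iv F19249) D7773 (iv D6467) D6468 (iv F20253)
def n7774 : Q := act 7 n6142
theorem D7774 : act 7 n6142 = n7774 := rfl
theorem F24566 : act 0 n7774 = n7557 := d6_1 D7774 F24505 F24500
theorem F24567 : act 1 n7774 = n7774 := d12_1 D7774 (iv D7774) F19250
theorem F24568 : act 2 n7774 = n6146 := d17_1 D7774 (iv D6146) (iv F19251)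
theorem F24569 : act 4 n7774 = n7495 := d24_1 D7774 F23738 F23513
theorem F24570 : act 5 n7774 = n7497 := d26_1 D7774 F23746 F23510
theorem F24571 : act 3 n7512 = n7774 := d19_3 F24570 F23745 (iv F23784)
def n7775 : Q := act 3 n6143
theorem D7775 : act 3 n6143 = n7775 := rfl
theorem F24572 : act 1 n7775 = n7775 := d8_1 D7775 (iv D7775) F19253
theorem F24573 : act 2 n7775 = n7075 := d13_1 D7775 F22408 (iv F18810) F18811 (iv F19254)
theorem F24574 : act 5 n7775 = n6144 := d19_2 (iv F19256) D7775 (iv D6144)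
theorem F24575 : act 7 n7775 = n7775 := d21_2 D6143 D7775 (iv D7775) (iv D6143) F14344
theorem F24576 : act 4 n7074 = n7775 := d14_0 F24573 (iv D7075) D7074
def n7776 : Q := act 6 n6143
theorem D7776 : act 6 n6143 = n7776 := rfl
theorem F24577 : act 1 n7776 = n7776 := d11_1 D7776 (iv D7776) F19253
theorem F24578 : act 2 n7776 = n6147 := d16_1 D7776 (iv D6147) (iv F19254)
theorem F24579 : act 4 n7776 = n7768 := d23_1 D7776 F24555 (iv F19255)
def n7777 : Q := act 4 n6144
theorem D7777 : act 4 n6144 = n7777 := rfl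
theorem F24580 : act 1 n7777 = n6157 := d9_1 D7777 (iv D6157) (iv F19257)
theorem F24581 : act 2 n7777 = n7072 := d14_1 D7777 (iv F24103) F24102
theorem F24582 : act 5 n7777 = n7074 := d22_2 F24574 D7777 F24576
theorem F24583 : act 7 n7777 = n7777 := d24_2 F19258 D7777 (iv D7777)
def n7778 : Q := act 6 n6144
theorem D7778 : act 6 n6144 = n7778 := rfl
theorem F24584 : act 1 n7778 = n6158 := d11_1 D7778 (iv D6158) (iv F19257)
theorem F24585 : act 3 n7778 = n6145 := d20_1 D7778 (iv D6145) D6144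
def n7779 : Q := act 5 n6145
theorem D7779 : act 5 n6145 = n7779 := rfl
theorem F24586 : act 2 n7779 = n6148 := d15_1 D7779 (iv D6148) (iv F19260)
def n7780 : Q := act 3 n6146
theorem D7780 : act 3 n6146 = n7780 := rfl
theorem F24587 : act 1 n7780 = n6151 := d8_1 D7780 (iv D6151) (iv F19261)
theorem F24588 : act 7 n7780 = n6150 := d21_2 D6146 D7780 (iv D6150) (iv D4645) (iv F14348)
def n7781 : Q := act 6 n6146
theorem D7781 : act 6 n6146 = n7781 := rfl
theorem F24589 : act 1 n7781 = n6152 := d11_1 D7781 (iv D6152) (iv F19261)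
theorem F24590 : act 4 n7781 = n7769 := d23_1 D7781 F24557 F23552
theorem F24591 : act 7 n7781 = n6147 := d27_2 D6146 D7781 (iv D6147) (iv D4642) D4641
def n7782 : Q := act 5 n6147
theorem D7782 : act 5 n6147 = n7782 := rfl
theorem F24592 : act 1 n7782 = n7760 := d10_1 D7782 (iv D7760) F19231 (iv F14366) (iv F19262)
theorem F24593 : act 4 n7782 = n7765 := d22_1 D7782 F24550 (iv F19263)
theorem F24594 : act 6 n7782 = n6148 := d25_2 D6147 D7782 (iv D6148) (iv D4643) (iv F14351)
def n7783 : Q := act 3 n6149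
theorem D7783 : act 3 n6149 = n7783 := rfl
theorem F24595 : act 5 n7783 = n6150 := d19_2 (iv F19266) D7783 (iv D6150)
theorem F24596 : act 6 n7783 = n7770 := d20_2 (iv F19267) D7783 (iv D7770)
def n7784 : Q := act 2 n6150
theorem D7784 : act 2 n6150 = n7784 := rfl
theorem F24597 : act 3 n7784 = n7784 := d13_2 D6150 D7784 (iv D7784) (iv D6150) F14356
def n7785 : Q := act 4 n6150
theorem D7785 : act 4 n6150 = n7785 := rfl
theorem F24598 : act 3 n7785 = n6154 := d18_1 D7785 (iv D6154) (iv D4647) (iv F14357) D6150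
def n7786 : Q := act 2 n6151
theorem D7786 : act 2 n6151 = n7786 := rfl
theorem F24599 : act 3 n7786 = n7786 := d13_2 D6151 D7786 (iv D7786) (iv D6151) F14358
theorem F24600 : act 5 n7786 = n6153 := d15_2 (iv F19268) D7786 (iv D6153)
def n7787 : Q := act 4 n6151
theorem D7787 : act 4 n6151 = n7787 := rfl
theorem F24601 : act 5 n7787 = n6154 := d22_2 (iv F19268) D7787 (iv D6154)
def n7788 : Q := act 6 n6151
theorem D7788 : act 6 n6151 = n7788 := rfl
theorem F24602 : act 0 n7788 = n7783 := d5_1 D7788 F24596 F24558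
theorem F24603 : act 3 n7788 = n6152 := d20_1 D7788 (iv D6152) D6151
theorem F24604 : act 5 n7788 = n7762 := d25_1 D7788 F24544 F24133 F18829 (iv F19268)
def n7789 : Q := act 1 n6153
theorem D7789 : act 1 n6153 = n7789 := rfl
theorem F24605 : act 3 n7789 = n7789 := d8_2 F19274 D7789 (iv D7789)
def n7790 : Q := act 4 n6153
theorem D7790 : act 4 n6153 = n7790 := rfl
theorem F24606 : act 2 n7790 = n6154 := d14_1 D7790 (iv D6154) D6153
def n7791 : Q := act 6 n6157
theorem D7791 : act 6 n6157 = n7791 := rfl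
theorem F24607 : act 0 n7791 = n7791 := d5_1 D7791 (iv D7791) F19285
theorem F24608 : act 2 n7791 = n7791 := d16_1 D7791 (iv D7791) F19286
theorem F24609 : act 4 n7791 = n6158 := d23_1 D7791 (iv D6158) D6157
def n7792 : Q := act 5 n6158
theorem D7792 : act 5 n6158 = n7792 := rfl
theorem F24610 : act 0 n7792 = n7792 := d4_1 D7792 (iv D7792) F19289
theorem F24611 : act 2 n7792 = n7792 := d15_1 D7792 (iv D7792) F19290
theorem F24612 : act 3 n7792 = n6159 := d19_1 D7792 (iv D6159) (iv F19291)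
theorem F24613 : act 6 n7792 = n7792 := d25_2 D6158 D7792 (iv D7792) (iv D6158) F14374
def n7793 : Q := act 7 n6158
theorem D7793 : act 7 n6158 = n7793 := rfl
theorem F24614 : act 0 n7793 = n7793 := d6_1 D7793 (iv D7793) F19289
theorem F24615 : act 2 n7793 = n7793 := d17_1 D7793 (iv D7793) F19290
theorem F24616 : act 6 n7793 = n7793 := d27_1 D7793 (iv D7793) (iv D6158) F14375 D6158
def n7794 : Q := act 1 n6159
theorem D7794 : act 1 n6159 = n7794 := rfl
theorem F24617 : act 6 n7794 = n7794 := d11_2 F19294 D7794 (iv D7794)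
def n7795 : Q := act 2 n6160
theorem D7795 : act 2 n6160 = n7795 := rfl
theorem F24618 : act 0 n7795 = n6161 := d1_1 D7795 (iv D6161) D6160
theorem F24619 : act 4 n7795 = n7047 := d14_2 (iv F22268) D7795 F22322
theorem F24620 : act 5 n7795 = n7116 := d15_2 (iv F22615) D7795 (iv F22612)
theorem F24621 : act 7 n7795 = n7046 := d17_2 F22311 D7795 F22317
def n7796 : Q := act 3 n6161
theorem D7796 : act 3 n6161 = n7796 := rfl
theorem F24622 : act 1 n7796 = n6163 := d8_1 D7796 (iv D6163) (iv F19295)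
theorem F24623 : act 4 n7796 = n7131 := d18_2 (iv F19296) D7796 F22592 F17401 (iv F17138)
theorem F24624 : act 5 n7796 = n7118 := d19_2 (iv F19297) D7796 F22541
theorem F24625 : act 7 n7796 = n7162 := d21_2 (iv F19298) D7796 F22711 F17551 (iv F17130)
def n7797 : Q := act 1 n6162
theorem D7797 : act 1 n6162 = n7797 := rfl
theorem F24626 : act 4 n7797 = n7040 := d9_2 (iv F19300) D7797 F22302
theorem F24627 : act 7 n7797 = n7037 := d12_2 (iv F19302) D7797 (iv D7037)
def n7798 : Q := act 3 n6162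
theorem D7798 : act 3 n6162 = n7798 := rfl
theorem F24628 : act 0 n7798 = n6163 := d2_1 D7798 (iv D6163) (iv F19299)
theorem F24629 : act 2 n7798 = n6165 := d13_1 D7798 (iv D6165) (iv D4658) (iv F14385) D6162
theorem F24630 : act 5 n7798 = n6324 := d19_2 (iv F19301) D7798 (iv D6324)
theorem F24631 : act 7 n7798 = n7315 := d21_2 (iv F19302) D7798 F23131 F17978 (iv F17095)
def n7799 : Q := act 4 n6163
theorem D7799 : act 4 n6163 = n7799 := rfl
theorem F24632 : act 1 n7799 = n7131 := d9_1 D7799 (iv F24623) F24622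
theorem F24633 : act 2 n7799 = n6166 := d14_1 D7799 (iv D6166) (iv F19303)
theorem F24634 : act 3 n7799 = n7048 := d18_1 D7799 (iv D7048) (iv D5475) (iv F14389) D6163
theorem F24635 : act 5 n7799 = n6325 := d22_2 (iv F19304) D7799 (iv D6325)
theorem F24636 : act 6 n7799 = n7518 := d23_2 F19542 D7799 F23803
theorem F24637 : act 7 n7799 = n7147 := d24_2 (iv F19305) D7799 F22658
def n7800 : Q := act 3 n6164
theorem D7800 : act 3 n6164 = n7800 := rfl
theorem F24638 : act 1 n7800 = n6165 := d8_1 D7800 (iv D6165) D6164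
theorem F24639 : act 6 n7800 = n6408 := d20_2 (iv F21777) D7800 (iv D6408)
def n7801 : Q := act 5 n6164
theorem D7801 : act 5 n6164 = n7801 := rfl
theorem F24640 : act 1 n7801 = n6327 := d10_1 D7801 (iv D6327) (iv D4798) (iv F14394) D6164
theorem F24641 : act 4 n7801 = n6169 := d22_1 D7801 (iv D6169) (iv F19306)
theorem F24642 : act 6 n7801 = n6413 := d25_2 (iv F21777) D7801 (iv D6413) (iv D4857) (iv F15021)
theorem F24643 : act 7 n7801 = n7801 := d26_2 F19307 D7801 (iv D7801)
def n7802 : Q := act 4 n6165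
theorem D7802 : act 4 n6165 = n7802 := rfl
theorem F24644 : act 0 n7802 = n6166 := d3_1 D7802 (iv D6166) (iv F19308)
theorem F24645 : act 3 n7802 = n6170 := d18_1 D7802 (iv D6170) (iv D4662) (iv F14393) D6165
theorem F24646 : act 5 n7802 = n6328 := d22_2 (iv F19309) D7802 (iv D6328)
theorem F24647 : act 6 n7802 = n7517 := d23_2 F19533 D7802 F23800
def n7803 : Q := act 7 n6165
theorem D7803 : act 7 n6165 = n7803 := rfl
theorem F24648 : act 0 n7803 = n6167 := d6_1 D7803 (iv D6167) (iv F19308)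
theorem F24649 : act 2 n7803 = n7315 := d17_1 D7803 (iv F24631) F24629
theorem F24650 : act 3 n7803 = n7803 := d21_1 D7803 (iv D7803) (iv D6165) F14395 D6165
theorem F24651 : act 5 n7803 = n6329 := d26_1 D7803 (iv D6329) (iv F19309)
theorem F24652 : act 6 n7666 = n7803 := d25_0 F24651 (iv F19824) F17970 D6054 D7666
def n7804 : Q := act 7 n6166
theorem D7804 : act 7 n6166 = n7804 := rfl
theorem F24653 : act 1 n7804 = n6247 := d12_1 D7804 (iv D6247) (iv F19310)
theorem F24654 : act 2 n7804 = n7147 := d17_1 D7804 (iv F24637) F24633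
theorem F24655 : act 3 n7804 = n6440 := d21_1 D7804 (iv D6440) (iv D4875) (iv F14412) (iv F19311)
theorem F24656 : act 4 n7804 = n6167 := d24_1 D7804 (iv D6167) D6166
theorem F24657 : act 5 n7804 = n6330 := d26_1 D7804 (iv D6330) (iv F19312)
theorem F24658 : act 6 n7804 = n7350 := d27_1 D7804 F23248 (iv F23811) (iv D7519) (iv F19313)
def n7805 : Q := act 2 n6168
theorem D7805 : act 2 n6168 = n7805 := rfl
theorem F24659 : act 0 n7805 = n6239 := d1_1 D7805 F19519 (iv F19318)
theorem F24660 : act 1 n7805 = n7228 := d7_1 D7805 (iv D7228) F17712 (iv F14404) (iv F19319)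
theorem F24661 : act 6 n7805 = n7514 := d16_2 (iv F19320) D7805 F23790
theorem F24662 : act 7 n7805 = n6428 := d17_2 F19321 D7805 F20120
def n7806 : Q := act 6 n6169
theorem D7806 : act 6 n6169 = n7806 := rfl
theorem F24663 : act 1 n7806 = n6339 := d11_1 D7806 (iv D6339) (iv F19322)
theorem F24664 : act 4 n7806 = n6413 := d23_1 D7806 (iv F24642) F24641
theorem F24665 : act 5 n7806 = n6401 := d25_1 D7806 (iv D6401) F21781 F14563 D6169
theorem F24666 : act 7 n6404 = n7806 := d26_0 F24665 F20056 D6404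
def n7807 : Q := act 5 n6171
theorem D7807 : act 5 n6171 = n7807 := rfl
theorem F24667 : act 2 n7807 = n6172 := d15_1 D7807 (iv D6172) (iv F19330)
theorem F24668 : act 3 n7807 = n7312 := d19_1 D7807 (iv D7312) (iv F19331)
theorem F24669 : act 6 n7807 = n7296 := d25_2 D6171 D7807 (iv D7296) (iv D5718) (iv F14414)
def n7808 : Q := act 3 n6173
theorem D7808 : act 3 n6173 = n7808 := rfl
theorem F24670 : act 0 n7808 = n6186 := d2_1 D7808 (iv D6186) (iv F19333)
theorem F24671 : act 1 n7808 = n7808 := d8_1 D7808 (iv D7808) F19334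
theorem F24672 : act 2 n7808 = n6175 := d13_1 D7808 (iv D6175) (iv D4669) (iv F14420) D6173
def n7809 : Q := act 6 n6173
theorem D7809 : act 6 n6173 = n7809 := rfl
theorem F24673 : act 0 n7809 = n6185 := d5_1 D7809 F19369 (iv F19333)
theorem F24674 : act 1 n7809 = n7809 := d11_1 D7809 (iv D7809) F19334
theorem F24675 : act 2 n7809 = n6174 := d16_1 D7809 (iv D6174) D6173
theorem F24676 : act 4 n7809 = n7753 := d23_1 D7809 (iv D7753) (iv F19335)
theorem F24677 : act 7 n7809 = n7091 := d27_2 (iv F19336) D7809 (iv D7091) F17274 D5832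
def n7810 : Q := act 5 n6174
theorem D7810 : act 5 n6174 = n7810 := rfl
theorem F24678 : act 0 n7810 = n6183 := d4_1 D7810 F19363 (iv F19337)
theorem F24679 : act 1 n7810 = n7615 := d10_1 D7810 (iv D7615) F18815 (iv F14426) (iv F19338)
theorem F24680 : act 3 n7810 = n6177 := d19_1 D7810 (iv D6177) (iv F19339)
theorem F24681 : act 4 n7810 = n7758 := d22_1 D7810 (iv D7758) (iv F19340)
theorem F24682 : act 7 n7810 = n7426 := d26_2 (iv F19341) D7810 (iv D7426)
def n7811 : Q := act 4 n6175
theorem D7811 : act 4 n6175 = n7811 := rfl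
theorem F24683 : act 1 n7811 = n6187 := d9_1 D7811 (iv D6187) (iv F19342)
theorem F24684 : act 3 n7811 = n6179 := d18_1 D7811 (iv D6179) (iv D4672) (iv F14435) D6175
theorem F24685 : act 5 n7811 = n7301 := d22_2 F23355 D7811 (iv F23354)
def n7812 : Q := act 6 n6175
theorem D7812 : act 6 n6175 = n7812 := rfl
theorem F24686 : act 1 n7812 = n6188 := d11_1 D7812 (iv D6188) (iv F19342)
theorem F24687 : act 3 n7812 = n6176 := d20_1 D7812 (iv D6176) D6175
def n7813 : Q := act 5 n6176
theorem D7813 : act 5 n6176 = n7813 := rfl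
theorem F24688 : act 2 n7813 = n6177 := d15_1 D7813 (iv D6177) (iv F19344)
theorem F24689 : act 4 n7813 = n6181 := d22_1 D7813 (iv D6181) (iv F19345)
def n7814 : Q := act 7 n6176
theorem D7814 : act 7 n6176 = n7814 := rfl
theorem F24690 : act 1 n7814 = n6191 := d12_1 D7814 (iv D6191) (iv F19343)
theorem F24691 : act 2 n7814 = n6178 := d17_1 D7814 (iv D6178) (iv F19344)
theorem F24692 : act 4 n7814 = n6182 := d24_1 D7814 (iv D6182) (iv F19345)
theorem F24693 : act 6 n7814 = n7260 := d27_1 D7814 (iv D7260) F17794 (iv F14436) D6176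
def n7815 : Q := act 7 n6177
theorem D7815 : act 7 n6177 = n7815 := rfl
theorem F24694 : act 1 n7815 = n7428 := d12_1 D7815 F23537 (iv F19346)
theorem F24695 : act 4 n7815 = n6184 := d24_1 D7815 (iv D6184) (iv F19347)
theorem F24696 : act 5 n7815 = n6178 := d26_1 D7815 (iv D6178) D6177
def n7816 : Q := act 6 n6179
theorem D7816 : act 6 n6179 = n7816 := rfl
theorem F24697 : act 1 n7816 = n6194 := d11_1 D7816 (iv D6194) (iv F19351)
theorem F24698 : act 2 n7816 = n7307 := d16_1 D7816 (iv D7307) (iv F19352)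
theorem F24699 : act 4 n7816 = n6180 := d23_1 D7816 (iv D6180) D6179
def n7817 : Q := act 5 n6180
theorem D7817 : act 5 n6180 = n7817 := rfl
theorem F24700 : act 2 n7817 = n7312 := d15_1 D7817 (iv D7312) (iv F19356)
theorem F24701 : act 3 n7817 = n6181 := d19_1 D7817 (iv D6181) (iv F19357)
theorem F24702 : act 6 n7817 = n7304 := d25_2 D6180 D7817 (iv D7304) (iv D5727) (iv F14446)
def n7818 : Q := act 7 n6180
theorem D7818 : act 7 n6180 = n7818 := rfl
theorem F24703 : act 1 n7818 = n6197 := d12_1 D7818 (iv D6197) (iv F19355)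
theorem F24704 : act 2 n7818 = n7311 := d17_1 D7818 F23121 (iv F19356)
theorem F24705 : act 6 n7818 = n7303 := d27_1 D7818 (iv D7303) (iv D5726) F14447 D6180
def n7819 : Q := act 1 n6181
theorem D7819 : act 1 n6181 = n7819 := rfl
theorem F24706 : act 5 n7819 = n6199 := d10_2 D6181 D7819 (iv D6199) (iv D4686) (iv F14448)
def n7820 : Q := act 7 n6181
theorem D7820 : act 7 n6181 = n7820 := rfl
theorem F24707 : act 2 n7820 = n6184 := d17_1 D7820 (iv D6184) (iv F19358)
theorem F24708 : act 5 n7820 = n6182 := d26_1 D7820 (iv D6182) D6181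
def n7821 : Q := act 3 n6182
theorem D7821 : act 3 n6182 = n7821 := rfl
theorem F24709 : act 1 n7821 = n6201 := d8_1 D7821 (iv D6201) (iv F19359)
theorem F24710 : act 6 n7821 = n7735 := d20_2 (iv F19361) D7821 (iv D7735)
def n7822 : Q := act 2 n6183
theorem D7822 : act 2 n6183 = n7822 := rfl
theorem F24711 : act 4 n7822 = n7779 := d14_2 (iv F19362) D7822 F24586
theorem F24712 : act 5 n7822 = n6185 := d15_2 (iv F19363) D7822 (iv D6185)
theorem F24713 : act 7 n7822 = n7414 := d17_2 F19364 D7822 F23495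
def n7823 : Q := act 6 n6184
theorem D7823 : act 6 n6184 = n7823 := rfl
theorem F24714 : act 1 n7823 = n7429 := d11_1 D7823 F23538 (iv F19365)
theorem F24715 : act 5 n7823 = n7729 := d25_1 D7823 F24457 F19186 (iv F14451) (iv F19366)
def n7824 : Q := act 3 n6185
theorem D7824 : act 3 n6185 = n7824 := rfl
theorem F24716 : act 1 n7824 = n6204 := d8_1 D7824 (iv D6204) (iv F19367)
theorem F24717 : act 6 n7824 = n6186 := d20_2 (iv F19369) D7824 (iv D6186)
def n7825 : Q := act 4 n6186
theorem D7825 : act 4 n6186 = n7825 := rfl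
theorem F24718 : act 1 n7825 = n6205 := d9_1 D7825 (iv D6205) (iv F19371)
theorem F24719 : act 3 n7825 = n7777 := d18_1 D7825 (iv D7777) (iv D6144) (iv F14456) D6186
def n7826 : Q := act 7 n6186
theorem D7826 : act 7 n6186 = n7826 := rfl
theorem F24720 : act 1 n7826 = n6206 := d12_1 D7826 (iv D6206) (iv F19371)
theorem F24721 : act 3 n7826 = n6454 := d21_1 D7826 F20206 F16632 (iv F14457) D6186
theorem F24722 : act 5 n7826 = n6467 := d26_1 D7826 (iv F24565) F24564
def n7827 : Q := act 6 n6187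
theorem D7827 : act 6 n6187 = n7827 := rfl
theorem F24723 : act 0 n7827 = n6207 := d5_1 D7827 (iv D6207) (iv F19372)
theorem F24724 : act 2 n7827 = n7827 := d16_1 D7827 (iv D7827) F19373
theorem F24725 : act 3 n7827 = n6194 := d20_1 D7827 (iv D6194) (iv F19374)
theorem F24726 : act 4 n7827 = n6188 := d23_1 D7827 (iv D6188) D6187
def n7828 : Q := act 7 n6187
theorem D7828 : act 7 n6187 = n7828 := rfl
theorem F24727 : act 0 n7828 = n6208 := d6_1 D7828 (iv D6208) (iv F19372)
theorem F24728 : act 2 n7828 = n7828 := d17_1 D7828 (iv D7828) F19373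
theorem F24729 : act 4 n7828 = n6189 := d24_1 D7828 (iv D6189) D6187
theorem F24730 : act 5 n7828 = n7828 := d26_1 D7828 (iv D7828) F19375
def n7829 : Q := act 5 n6188
theorem D7829 : act 5 n6188 = n7829 := rfl
theorem F24731 : act 0 n7829 = n6209 := d4_1 D7829 (iv D6209) (iv F19376)
theorem F24732 : act 2 n7829 = n7829 := d15_1 D7829 (iv D7829) F19377
theorem F24733 : act 3 n7829 = n6190 := d19_1 D7829 (iv D6190) (iv F19378)
theorem F24734 : act 6 n7829 = n7829 := d25_2 D6188 D7829 (iv D7829) (iv D6188) F14460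
def n7830 : Q := act 7 n6188
theorem D7830 : act 7 n6188 = n7830 := rfl
theorem F24735 : act 0 n7830 = n6210 := d6_1 D7830 (iv D6210) (iv F19376)
theorem F24736 : act 2 n7830 = n7830 := d17_1 D7830 (iv D7830) F19377
def n7831 : Q := act 6 n6189
theorem D7831 : act 6 n6189 = n7831 := rfl
theorem F24737 : act 0 n7831 = n6211 := d5_1 D7831 (iv D6211) (iv F19379)
theorem F24738 : act 2 n7831 = n7831 := d16_1 D7831 (iv D7831) F19380
theorem F24739 : act 3 n7831 = n7622 := d20_1 D7831 (iv D7622) (iv F19381)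
def n7832 : Q := act 1 n6190
theorem D7832 : act 1 n6190 = n7832 := rfl
theorem F24740 : act 2 n7832 = n7794 := d7_2 (iv F19384) D7832 (iv D7794) F19293 (iv F14465)
theorem F24741 : act 4 n7832 = n6199 := d9_2 (iv F19385) D7832 (iv D6199)
theorem F24742 : act 6 n7832 = n7832 := d11_2 F19386 D7832 (iv D7832)
def n7833 : Q := act 7 n6190
theorem D7833 : act 7 n6190 = n7833 := rfl
theorem F24743 : act 0 n7833 = n6213 := d6_1 D7833 (iv D6213) (iv F19383)
theorem F24744 : act 2 n7833 = n6192 := d17_1 D7833 (iv D6192) (iv F19384)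
theorem F24745 : act 4 n7833 = n6200 := d24_1 D7833 (iv D6200) (iv F19385)
theorem F24746 : act 5 n7833 = n6191 := d26_1 D7833 (iv D6191) D6190
def n7834 : Q := act 3 n6191
theorem D7834 : act 3 n6191 = n7834 := rfl
theorem F24747 : act 0 n7834 = n6214 := d2_1 D7834 (iv D6214) (iv F19387)
theorem F24748 : act 6 n7834 = n7263 := d20_2 (iv F19390) D7834 (iv D7263)
def n7835 : Q := act 3 n6192
theorem D7835 : act 3 n6192 = n7835 := rfl
theorem F24749 : act 0 n7835 = n6215 := d2_1 D7835 (iv D6215) (iv F19391)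
theorem F24750 : act 1 n7835 = n7336 := d8_1 D7835 F23193 (iv F19392)
theorem F24751 : act 4 n7835 = n7408 := d18_2 (iv F19393) D7835 F23475 F18228 F14503
theorem F24752 : act 5 n7835 = n6193 := d19_2 (iv F19394) D7835 (iv D6193)
theorem F24753 : act 7 n7835 = n7835 := d21_2 D6192 D7835 (iv D7835) (iv D6192) F14466
def n7836 : Q := act 6 n6192
theorem D7836 : act 6 n6192 = n7836 := rfl
theorem F24754 : act 0 n7836 = n6216 := d5_1 D7836 (iv D6216) (iv F19391)
theorem F24755 : act 1 n7836 = n6921 := d11_1 D7836 F21882 (iv F19392)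
theorem F24756 : act 4 n7836 = n6203 := d23_1 D7836 (iv D6203) (iv F19393)
theorem F24757 : act 5 n7836 = n6685 := d25_1 D7836 (iv D6685) F15779 (iv F14472) (iv F19394)
theorem F24758 : act 7 n7836 = n7836 := d27_2 D6192 D7836 (iv D7836) (iv D6192) F14468
def n7837 : Q := act 2 n6193
theorem D7837 : act 2 n6193 = n7837 := rfl
theorem F24759 : act 0 n7837 = n6217 := d1_1 D7837 (iv D6217) (iv F19395)
theorem F24760 : act 4 n7837 = n7424 := d14_2 (iv F19397) D7837 (iv D7424)
theorem F24761 : act 6 n7837 = n7114 := d16_2 (iv F19398) D7837 F22527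
theorem F24762 : act 7 n7837 = n7837 := d17_2 F19399 D7837 (iv D7837)
def n7838 : Q := act 7 n6194
theorem D7838 : act 7 n6194 = n7838 := rfl
theorem F24763 : act 0 n7838 = n6222 := d6_1 D7838 (iv D6222) (iv F19400)
theorem F24764 : act 2 n7838 = n6362 := d17_1 D7838 (iv D6362) (iv F19401)
theorem F24765 : act 4 n7838 = n6197 := d24_1 D7838 (iv D6197) (iv F19402)
theorem F24766 : act 5 n7838 = n7805 := d26_1 D7838 F24662 F21801
def n7839 : Q := act 3 n6195
theorem D7839 : act 3 n6195 = n7839 := rfl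
theorem F24767 : act 0 n7839 = n6223 := d2_1 D7839 (iv D6223) (iv F19403)
theorem F24768 : act 1 n7839 = n7299 := d8_1 D7839 F23080 (iv F19404)
theorem F24769 : act 5 n7839 = n7839 := d19_2 F19407 D7839 (iv D7839)
def n7840 : Q := act 6 n6195
theorem D7840 : act 6 n6195 = n7840 := rfl
theorem F24770 : act 0 n7840 = n6224 := d5_1 D7840 (iv D6224) (iv F19403)
theorem F24771 : act 1 n7840 = n7300 := d11_1 D7840 (iv D7300) (iv F19404)
theorem F24772 : act 2 n7840 = n6364 := d16_1 D7840 (iv D6364) (iv F19405)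
theorem F24773 : act 4 n7840 = n6198 := d23_1 D7840 (iv D6198) (iv F19406)
def n7841 : Q := act 1 n6196
theorem D7841 : act 1 n6196 = n7841 := rfl
theorem F24774 : act 3 n7841 = n6199 := d8_2 (iv F19410) D7841 (iv D6199)
theorem F24775 : act 6 n7841 = n7841 := d11_2 F19411 D7841 (iv D7841)
def n7842 : Q := act 7 n6196
theorem D7842 : act 7 n6196 = n7842 := rfl
theorem F24776 : act 0 n7842 = n6226 := d6_1 D7842 (iv D6226) (iv F19408)
theorem F24777 : act 2 n7842 = n6366 := d17_1 D7842 (iv D6366) (iv F19409)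
theorem F24778 : act 4 n7842 = n7805 := d24_1 D7842 F24662 (iv F21810)
theorem F24779 : act 5 n7842 = n6197 := d26_1 D7842 (iv D6197) D6196
def n7843 : Q := act 3 n6197
theorem D7843 : act 3 n6197 = n7843 := rfl
theorem F24780 : act 0 n7843 = n6227 := d2_1 D7843 (iv D6227) (iv F19412)
theorem F24781 : act 7 n7843 = n6201 := d21_2 D6197 D7843 (iv D6201) (iv D4687) (iv F14483)
theorem F24782 : act 2 n7432 = n7843 := d17_3 F24781 F19422 D7432
def n7844 : Q := act 6 n6197
theorem D7844 : act 6 n6197 = n7844 := rfl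
theorem F24783 : act 0 n7844 = n6228 := d5_1 D7844 (iv D6228) (iv F19412)
theorem F24784 : act 1 n7844 = n7303 := d11_1 D7844 (iv F24705) F24703
theorem F24785 : act 2 n7844 = n6368 := d16_1 D7844 (iv D6368) (iv F19413)
theorem F24786 : act 7 n7844 = n6198 := d27_2 D6197 D7844 (iv D6198) (iv D4685) D4684
def n7845 : Q := act 5 n6198
theorem D7845 : act 5 n6198 = n7845 := rfl
theorem F24787 : act 0 n7845 = n6229 := d4_1 D7845 (iv D6229) (iv F19414)
theorem F24788 : act 2 n7845 = n6369 := d15_1 D7845 (iv D6369) (iv F19416)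
theorem F24789 : act 6 n7845 = n7845 := d25_2 D6198 D7845 (iv D7845) (iv D6198) F14487
def n7846 : Q := act 0 n6199
theorem D7846 : act 0 n6199 = n7846 := rfl
theorem F24790 : act 1 n7846 = n6230 := d0_2 D6199 D7846 (iv D6230) (iv D4706) (iv F14488)
theorem F24791 : act 6 n7846 = n7846 := d5_2 F19417 D7846 (iv D7846)
def n7847 : Q := act 2 n6199
theorem D7847 : act 2 n6199 = n7847 := rfl
theorem F24792 : act 1 n7847 = n6202 := d7_1 D7847 (iv D6202) (iv D4688) (iv F14489) D6199
theorem F24793 : act 4 n7847 = n7794 := d14_2 F24741 D7847 (iv F24740)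
theorem F24794 : act 6 n7847 = n7847 := d16_2 F19417 D7847 (iv D7847)
theorem F24795 : act 7 n7417 = n7847 := d12_0 F24792 F19428 D7417
def n7848 : Q := act 7 n6199
theorem D7848 : act 7 n6199 = n7848 := rfl
theorem F24796 : act 1 n7848 = n6200 := d12_1 D7848 (iv D6200) D6199
theorem F24797 : act 2 n7848 = n7417 := d17_1 D7848 F24795 (iv D7847)
def n7849 : Q := act 3 n6200
theorem D7849 : act 3 n6200 = n7849 := rfl
theorem F24798 : act 0 n7849 = n6232 := d2_1 D7849 (iv D6232) (iv F19418)
theorem F24799 : act 2 n7849 = n7418 := d13_1 D7849 (iv D7418) (iv D5831) F14503 (iv F19419)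
theorem F24800 : act 5 n7849 = n6201 := d19_2 (iv F19420) D7849 (iv D6201)
def n7850 : Q := act 6 n6200
theorem D7850 : act 6 n6200 = n7850 := rfl
theorem F24801 : act 0 n7850 = n6233 := d5_1 D7850 (iv D6233) (iv F19418)
theorem F24802 : act 2 n7850 = n6203 := d16_1 D7850 (iv D6203) (iv F19419)
theorem F24803 : act 5 n7850 = n7700 := d25_1 D7850 F24392 F19151 (iv F14493) (iv F19420)
theorem F24804 : act 7 n7850 = n7850 := d27_2 D6200 D7850 (iv D7850) (iv D6200) F14490
def n7851 : Q := act 4 n6201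
theorem D7851 : act 4 n6201 = n7851 := rfl
theorem F24805 : act 0 n7851 = n6235 := d3_1 D7851 (iv D6235) (iv F19421)
theorem F24806 : act 2 n7851 = n7431 := d14_1 D7851 (iv D7431) (iv F19422)
theorem F24807 : act 6 n7851 = n7736 := d23_2 (iv F19423) D7851 (iv D7736)
def n7852 : Q := act 3 n6202
theorem D7852 : act 3 n6202 = n7852 := rfl
theorem F24808 : act 0 n7852 = n7852 := d2_1 D7852 (iv D7852) F19424
theorem F24809 : act 2 n7852 = n6377 := d13_1 D7852 (iv D6377) (iv D4834) (iv F14495) D6202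
theorem F24810 : act 5 n7852 = n6204 := d19_2 (iv F19426) D7852 (iv D6204)
theorem F24811 : act 6 n7852 = n7852 := d20_2 F19427 D7852 (iv D7852)
def n7853 : Q := act 4 n6204
theorem D7853 : act 4 n6204 = n7853 := rfl
theorem F24812 : act 0 n7853 = n7853 := d3_1 D7853 (iv D7853) F19434
theorem F24813 : act 2 n7853 = n6385 := d14_1 D7853 (iv D6385) (iv F19435)
theorem F24814 : act 3 n7853 = n7791 := d18_1 D7853 F24609 F19291 (iv F14505) D6204
theorem F24815 : act 6 n7853 = n6205 := d23_2 (iv F19436) D7853 (iv D6205)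
def n7854 : Q := act 7 n6204
theorem D7854 : act 7 n6204 = n7854 := rfl
theorem F24816 : act 0 n7854 = n7854 := d6_1 D7854 (iv D7854) F19434
theorem F24817 : act 2 n7854 = n6386 := d17_1 D7854 (iv D6386) (iv F19435)
theorem F24818 : act 3 n7854 = n7400 := d21_1 D7854 (iv D7400) F18216 (iv F14507) D6204
def n7855 : Q := act 7 n6205
theorem D7855 : act 7 n6205 = n7855 := rfl
theorem F24819 : act 0 n7855 = n7855 := d6_1 D7855 (iv D7855) F19437
theorem F24820 : act 2 n7855 = n6392 := d17_1 D7855 (iv D6392) (iv F19438)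
theorem F24821 : act 3 n7855 = n7855 := d21_1 D7855 (iv D7855) F19439 F19288 (iv F19439)
theorem F24822 : act 4 n7855 = n6206 := d24_1 D7855 (iv D6206) D6205
theorem F24823 : act 5 n7855 = n7855 := d26_1 D7855 (iv D7855) F19440
def n7856 : Q := act 6 n6206
theorem D7856 : act 6 n6206 = n7856 := rfl
theorem F24824 : act 0 n7856 = n7856 := d5_1 D7856 (iv D7856) F19441
theorem F24825 : act 2 n7856 = n6394 := d16_1 D7856 (iv D6394) (iv F19442)
theorem F24826 : act 3 n7856 = n6896 := d20_1 D7856 F21747 (iv F19443)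
def n7857 : Q := act 7 n6207
theorem D7857 : act 7 n6207 = n7857 := rfl
theorem F24827 : act 2 n7857 = n7857 := d17_1 D7857 (iv D7857) F19445
theorem F24828 : act 4 n7857 = n6210 := d24_1 D7857 (iv D6210) (iv F19447)
def n7858 : Q := act 3 n6208
theorem D7858 : act 3 n6208 = n7858 := rfl
theorem F24829 : act 5 n7858 = n7858 := d19_2 F19450 D7858 (iv D7858)
theorem F24830 : act 7 n7858 = n6223 := d21_2 D6208 D7858 (iv D6223) (iv D4702) (iv F14512)
def n7859 : Q := act 6 n6208
theorem D7859 : act 6 n6208 = n7859 := rfl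
theorem F24831 : act 2 n7859 = n7859 := d16_1 D7859 (iv D7859) F19448
theorem F24832 : act 4 n7859 = n6211 := d23_1 D7859 (iv D6211) (iv F19449)
def n7860 : Q := act 7 n6209
theorem D7860 : act 7 n6209 = n7860 := rfl
theorem F24833 : act 2 n7860 = n7860 := d17_1 D7860 (iv D7860) F19451
theorem F24834 : act 5 n7860 = n6210 := d26_1 D7860 (iv D6210) D6209
def n7861 : Q := act 3 n6210
theorem D7861 : act 3 n6210 = n7861 := rfl
theorem F24835 : act 1 n7861 = n7449 := d8_1 D7861 F23725 F23723
theorem F24836 : act 7 n7861 = n6214 := d21_2 D6210 D7861 (iv D6214) (iv D4696) (iv F14515)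
theorem F24837 : act 2 n7789 = n7861 := d7_0 F24835 (iv D7449) F18343 D6153 D7789
def n7862 : Q := act 6 n6210
theorem D7862 : act 6 n6210 = n7862 := rfl
theorem F24838 : act 2 n7862 = n7862 := d16_1 D7862 (iv D7862) F19454
theorem F24839 : act 7 n7862 = n6211 := d27_2 D6210 D7862 (iv D6211) (iv D4694) D4693
def n7863 : Q := act 5 n6211
theorem D7863 : act 5 n6211 = n7863 := rfl
theorem F24840 : act 2 n7863 = n7863 := d15_1 D7863 (iv D7863) F19455
theorem F24841 : act 6 n7863 = n7863 := d25_2 D6211 D7863 (iv D7863) (iv D6211) F14517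
def n7864 : Q := act 0 n6212
theorem D7864 : act 0 n6212 = n7864 := rfl
theorem F24842 : act 2 n7864 = n7864 := d1_2 F19456 D7864 (iv D7864)
theorem F24843 : act 4 n7864 = n6230 := d3_2 (iv F19457) D7864 (iv D6230)
theorem F24844 : act 6 n7864 = n7864 := d5_2 F19458 D7864 (iv D7864)
def n7865 : Q := act 7 n6212
theorem D7865 : act 7 n6212 = n7865 := rfl
theorem F24845 : act 1 n7865 = n6213 := d12_1 D7865 (iv D6213) D6212
theorem F24846 : act 2 n7865 = n7865 := d17_1 D7865 (iv D7865) F19456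
theorem F24847 : act 4 n7865 = n6231 := d24_1 D7865 (iv D6231) (iv F19457)
def n7866 : Q := act 3 n6213
theorem D7866 : act 3 n6213 = n7866 := rfl
theorem F24848 : act 5 n7866 = n6214 := d19_2 (iv F19461) D7866 (iv D6214)
def n7867 : Q := act 6 n6213
theorem D7867 : act 6 n6213 = n7867 := rfl
theorem F24849 : act 2 n7867 = n6216 := d16_1 D7867 (iv D6216) (iv F19459)
theorem F24850 : act 4 n7867 = n6233 := d23_1 D7867 (iv D6233) (iv F19460)
theorem F24851 : act 7 n7867 = n7867 := d27_2 D6213 D7867 (iv D7867) (iv D6213) F14520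
def n7868 : Q := act 2 n6214
theorem D7868 : act 2 n6214 = n7868 := rfl
theorem F24852 : act 1 n7868 = n7747 := d7_1 D7868 (iv D7747) (iv F23554) (iv F23734) F23733
theorem F24853 : act 3 n7868 = n6217 := d13_2 D6214 D7868 (iv D6217) (iv D4698) (iv F14521)
theorem F24854 : act 7 n7868 = n7789 := d17_2 F24836 D7868 F24837
def n7869 : Q := act 4 n6214
theorem D7869 : act 4 n6214 = n7869 := rfl
theorem F24855 : act 3 n7869 = n6235 := d18_1 D7869 (iv D6235) (iv D4708) (iv F14522) D6214
def n7870 : Q := act 2 n6215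
theorem D7870 : act 2 n6215 = n7870 := rfl
theorem F24856 : act 5 n7870 = n6217 := d15_2 (iv F19463) D7870 (iv D6217)
theorem F24857 : act 7 n7870 = n7870 := d17_2 F19464 D7870 (iv D7870)
def n7871 : Q := act 4 n6215
theorem D7871 : act 4 n6215 = n7871 := rfl
theorem F24858 : act 0 n7871 = n7408 := d3_1 D7871 (iv F24751) F24749
theorem F24859 : act 1 n7871 = n7871 := d9_1 D7871 (iv D7871) F19462
theorem F24860 : act 3 n7871 = n6237 := d18_1 D7871 (iv D6237) (iv D4709) (iv F14524) D6215
theorem F24861 : act 5 n7871 = n6218 := d22_2 (iv F19463) D7871 (iv D6218)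
theorem F24862 : act 7 n7871 = n7871 := d24_2 F19464 D7871 (iv D7871)
def n7872 : Q := act 6 n6215
theorem D7872 : act 6 n6215 = n7872 := rfl
theorem F24863 : act 1 n7872 = n7872 := d11_1 D7872 (iv D7872) F19462
theorem F24864 : act 3 n7872 = n6216 := d20_1 D7872 (iv D6216) D6215
theorem F24865 : act 5 n7872 = n7265 := d25_1 D7872 (iv D7265) F17813 (iv F17112) (iv F19463)
theorem F24866 : act 7 n7624 = n7872 := d26_0 F24865 F22986 D7624
def n7873 : Q := act 1 n6217
theorem D7873 : act 1 n6217 = n7873 := rfl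
theorem F24867 : act 2 n7873 = n6219 := d7_2 D6217 D7873 (iv D6219) (iv D4699) (iv F14526)
theorem F24868 : act 3 n7873 = n7747 := d8_2 F24853 D7873 (iv F24852)
theorem F24869 : act 7 n7873 = n7873 := d12_2 F19468 D7873 (iv D7873)
def n7874 : Q := act 4 n6217
theorem D7874 : act 4 n6217 = n7874 := rfl
theorem F24870 : act 0 n7874 = n7424 := d3_1 D7874 (iv F24760) F24759
theorem F24871 : act 2 n7874 = n6218 := d14_1 D7874 (iv D6218) D6217
theorem F24872 : act 6 n7874 = n7721 := d23_2 (iv F22315) D7874 F24440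
theorem F24873 : act 7 n7874 = n7874 := d24_2 F19468 D7874 (iv D7874)
def n7875 : Q := act 0 n6219
theorem D7875 : act 0 n6219 = n7875 := rfl
theorem F24874 : act 1 n7875 = n6244 := d0_2 D6219 D7875 (iv D6244) (iv D4715) (iv F14528)
theorem F24875 : act 3 n7875 = n7714 := d2_2 (iv F19474) D7875 F24425
theorem F24876 : act 7 n7875 = n7875 := d6_2 F19475 D7875 (iv D7875)
def n7876 : Q := act 4 n6219
theorem D7876 : act 4 n6219 = n7876 := rfl
theorem F24877 : act 1 n7876 = n6220 := d9_1 D7876 (iv D6220) D6219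
theorem F24878 : act 6 n7876 = n7797 := d23_2 (iv F22303) D7876 F24626
theorem F24879 : act 7 n7876 = n7876 := d24_2 F19475 D7876 (iv D7876)
def n7877 : Q := act 5 n6219
theorem D7877 : act 5 n6219 = n7877 := rfl
theorem F24880 : act 1 n7877 = n7877 := d10_1 D7877 (iv D7877) (iv D6219) F14529 D6219
theorem F24881 : act 3 n7877 = n6914 := d19_1 D7877 F21862 (iv F19474)
theorem F24882 : act 7 n7877 = n7877 := d26_2 F19475 D7877 (iv D7877)
def n7878 : Q := act 3 n6220
theorem D7878 : act 3 n6220 = n7878 := rfl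
theorem F24883 : act 0 n7878 = n6246 := d2_1 D7878 (iv D6246) (iv F19476)
theorem F24884 : act 2 n7878 = n6243 := d13_1 D7878 (iv D6243) F14566 (iv F14532) (iv F19477)
theorem F24885 : act 5 n7878 = n7878 := d19_2 F19478 D7878 (iv D7878)
theorem F24886 : act 6 n7878 = n7798 := d20_2 (iv F19479) D7878 (iv D7798)
def n7879 : Q := act 3 n6222
theorem D7879 : act 3 n6222 = n7879 := rfl
def n7880 : Q := act 6 n6222
theorem D7880 : act 6 n6222 = n7880 := rfl
theorem F24887 : act 2 n7880 = n6401 := d16_1 D7880 (iv D6401) (iv F19484)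
theorem F24888 : act 4 n7880 = n6228 := d23_1 D7880 (iv D6228) (iv F19485)
theorem F24889 : act 7 n7880 = n6224 := d27_2 D6222 D7880 (iv D6224) (iv D4702) D4701
def n7881 : Q := act 2 n6223
theorem D7881 : act 2 n6223 = n7881 := rfl
theorem F24890 : act 1 n7881 = n7584 := d7_1 D7881 F24021 F18712 (iv F20303) (iv F20306)
theorem F24891 : act 3 n7881 = n6402 := d13_2 D6223 D7881 (iv D6402) (iv D4852) (iv F14538)
theorem F24892 : act 4 n7881 = n7582 := d14_2 F20312 D7881 F24013
theorem F24893 : act 5 n7881 = n7881 := d15_2 F19486 D7881 (iv D7881)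
theorem F24894 : act 6 n7580 = n7881 := d23_0 F24892 (iv D7582) D7580
def n7882 : Q := act 6 n6223
theorem D7882 : act 6 n6223 = n7882 := rfl
theorem F24895 : act 1 n7882 = n7206 := d11_1 D7882 F22819 (iv F20306)
theorem F24896 : act 2 n7882 = n7580 := d16_1 D7882 F24894 (iv D7881)
theorem F24897 : act 3 n7882 = n6224 := d20_1 D7882 (iv D6224) D6223
theorem F24898 : act 4 n7882 = n7205 := d23_1 D7882 F22815 F20312
def n7883 : Q := act 5 n6224
theorem D7883 : act 5 n6224 = n7883 := rfl
theorem F24899 : act 2 n7883 = n6404 := d15_1 D7883 (iv D6404) (iv F19487)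
theorem F24900 : act 4 n7883 = n6229 := d22_1 D7883 (iv D6229) (iv F19488)
theorem F24901 : act 6 n7883 = n7883 := d25_2 D6224 D7883 (iv D7883) (iv D6224) F14540
def n7884 : Q := act 3 n6226
theorem D7884 : act 3 n6226 = n7884 := rfl
theorem F24902 : act 5 n7884 = n6227 := d19_2 (iv F19492) D7884 (iv D6227)
theorem F24903 : act 7 n7884 = n6232 := d21_2 D6226 D7884 (iv D6232) (iv D4707) (iv F14542)
def n7885 : Q := act 2 n6227
theorem D7885 : act 2 n6227 = n7885 := rfl
theorem F24904 : act 0 n7885 = n7432 := d1_1 D7885 F24782 F24780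
theorem F24905 : act 3 n7885 = n6410 := d13_2 D6227 D7885 (iv D6410) (iv D4856) (iv F14544)
theorem F24906 : act 7 n7885 = n6234 := d17_2 (iv F19493) D7885 (iv D6234)
def n7886 : Q := act 4 n6227
theorem D7886 : act 4 n6227 = n7886 := rfl
theorem F24907 : act 7 n7886 = n6235 := d24_2 (iv F19493) D7886 (iv D6235)
def n7887 : Q := act 6 n6227
theorem D7887 : act 6 n6227 = n7887 := rfl
theorem F24908 : act 3 n7887 = n6228 := d20_1 D7887 (iv D6228) D6227
def n7888 : Q := act 5 n6228
theorem D7888 : act 5 n6228 = n7888 := rfl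
theorem F24909 : act 2 n7888 = n6413 := d15_1 D7888 (iv D6413) (iv F19494)
theorem F24910 : act 7 n7888 = n6229 := d26_2 (iv F19495) D7888 (iv D6229)
def n7889 : Q := act 1 n6229
theorem D7889 : act 1 n6229 = n7889 := rfl
theorem F24911 : act 6 n7889 = n7889 := d11_2 F19497 D7889 (iv D7889)
def n7890 : Q := act 7 n6230
theorem D7890 : act 7 n6230 = n7890 := rfl
theorem F24912 : act 0 n7890 = n6231 := d6_1 D7890 (iv D6231) D6230
theorem F24913 : act 2 n7890 = n7890 := d17_1 D7890 (iv D7890) F19498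
def n7891 : Q := act 3 n6231
theorem D7891 : act 3 n6231 = n7891 := rfl
theorem F24914 : act 1 n7891 = n6232 := d8_1 D7891 (iv D6232) (iv F19500)
def n7892 : Q := act 6 n6231
theorem D7892 : act 6 n6231 = n7892 := rfl
theorem F24915 : act 1 n7892 = n6233 := d11_1 D7892 (iv D6233) (iv F19500)
theorem F24916 : act 2 n7892 = n7892 := d16_1 D7892 (iv D7892) F19501
theorem F24917 : act 7 n7892 = n7892 := d27_2 D6231 D7892 (iv D7892) (iv D6231) F14547
def n7893 : Q := act 2 n6232
theorem D7893 : act 2 n6232 = n7893 := rfl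
theorem F24918 : act 0 n7893 = n7418 := d1_1 D7893 (iv F24799) F24798
theorem F24919 : act 3 n7893 = n6236 := d13_2 D6232 D7893 (iv D6236) (iv D4709) (iv F14548)
theorem F24920 : act 5 n7893 = n6234 := d15_2 (iv F19502) D7893 (iv D6234)
def n7894 : Q := act 4 n6232
theorem D7894 : act 4 n6232 = n7894 := rfl
theorem F24921 : act 5 n7894 = n6235 := d22_2 (iv F19502) D7894 (iv D6235)
def n7895 : Q := act 6 n6232
theorem D7895 : act 6 n6232 = n7895 := rfl
theorem F24922 : act 3 n7895 = n6233 := d20_1 D7895 (iv D6233) D6232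
def n7896 : Q := act 1 n6234
theorem D7896 : act 1 n6234 = n7896 := rfl
theorem F24923 : act 3 n7896 = n6239 := d8_2 (iv F19506) D7896 (iv D6239)
theorem F24924 : act 6 n7896 = n7738 := d11_2 (iv F19507) D7896 F24476
theorem F24925 : act 5 n7879 = n7896 := d19_0 F24923 F21783 D7879
def n7897 : Q := act 4 n6234
theorem D7897 : act 4 n6234 = n7897 := rfl
theorem F24926 : act 0 n7897 = n7431 := d3_1 D7897 (iv D7431) (iv F19505)
theorem F24927 : act 2 n7897 = n6235 := d14_1 D7897 (iv D6235) D6234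
theorem F24928 : act 6 n7897 = n7740 := d23_2 (iv F19507) D7897 (iv D7740)
def n7898 : Q := act 1 n6236
theorem D7898 : act 1 n6236 = n7898 := rfl
theorem F24929 : act 2 n7898 = n7898 := d7_2 D6236 D7898 (iv D7898) (iv D6236) F14551
theorem F24930 : act 5 n7898 = n7499 := d10_2 (iv F19509) D7898 F23752 (iv F21783) (iv D6239)
theorem F24931 : act 7 n7898 = n6423 := d12_2 (iv F19510) D7898 (iv D6423)
theorem F24932 : act 4 n7501 = n7898 := d24_3 F24931 (iv F21807) D7501
def n7899 : Q := act 4 n6236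
theorem D7899 : act 4 n6236 = n7899 := rfl
theorem F24933 : act 0 n7899 = n7409 := d3_1 D7899 F23478 (iv F19508)
theorem F24934 : act 1 n7899 = n7501 := d9_1 D7899 F24932 (iv D7898)
theorem F24935 : act 2 n7899 = n6237 := d14_1 D7899 (iv D6237) D6236
theorem F24936 : act 5 n7899 = n6240 := d22_2 (iv F19509) D7899 (iv D6240)
theorem F24937 : act 7 n7899 = n6424 := d24_2 (iv F19510) D7899 (iv D6424)
def n7900 : Q := act 6 n6236
theorem D7900 : act 6 n6236 = n7900 := rfl
theorem F24938 : act 0 n7900 = n7411 := d5_1 D7900 F23485 (iv F19508)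
theorem F24939 : act 2 n7900 = n6238 := d16_1 D7900 (iv D6238) D6236
theorem F24940 : act 5 n7900 = n7701 := d25_1 D7900 F24395 F19154 (iv F14557) (iv F19509)
def n7901 : Q := act 6 n6237
theorem D7901 : act 6 n6237 = n7901 := rfl
theorem F24941 : act 0 n7901 = n6811 := d5_1 D7901 F21456 (iv F19511)
theorem F24942 : act 1 n7901 = n7901 := d11_1 D7901 (iv D7901) F19512
theorem F24943 : act 4 n7901 = n6238 := d23_1 D7901 (iv D6238) D6237
theorem F24944 : act 5 n7901 = n6819 := d25_1 D7901 F21485 F19123 (iv F14561) (iv F19513)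
theorem F24945 : act 7 n6899 = n7901 := d26_0 F24944 F21486 (iv F21756)
def n7902 : Q := act 7 n6238
theorem D7902 : act 7 n6238 = n7902 := rfl
theorem F24946 : act 0 n7902 = n6890 := d6_1 D7902 F21723 (iv F19515)
theorem F24947 : act 1 n7902 = n7902 := d12_1 D7902 (iv D7902) F19516
theorem F24948 : act 3 n7902 = n7902 := d21_1 D7902 (iv D7902) F19517 F14555 (iv F19517)
theorem F24949 : act 4 n7902 = n6899 := d24_1 D7902 F24945 F24943
theorem F24950 : act 5 n7902 = n6902 := d26_1 D7902 F21823 (iv F19518)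
theorem F24951 : act 6 n7902 = n6427 := d27_1 D7902 (iv D6427) (iv D4867) (iv F14553) D6238
def n7903 : Q := act 3 n6240
theorem D7903 : act 3 n6240 = n7903 := rfl
theorem F24952 : act 0 n7903 = n7425 := d2_1 D7903 (iv D7425) (iv F19522)
theorem F24953 : act 1 n7903 = n7884 := d8_1 D7903 (iv D7884) (iv F21800)
theorem F24954 : act 6 n7903 = n7724 := d20_2 (iv F19524) D7903 (iv D7724)
theorem F24955 : act 7 n7903 = n7891 := d21_2 (iv F19525) D7903 (iv D7891) (iv D6231) F21779
def n7904 : Q := act 4 n6244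
theorem D7904 : act 4 n6244 = n7904 := rfl
theorem F24956 : act 0 n7904 = n6245 := d3_1 D7904 (iv D6245) D6244
theorem F24957 : act 2 n7904 = n7136 := d14_1 D7904 F22618 (iv F22273)
theorem F24958 : act 5 n7904 = n7134 := d22_2 F22538 D7904 F22608
theorem F24959 : act 6 n7904 = n7795 := d23_2 (iv F22325) D7904 F24619
theorem F24960 : act 7 n7904 = n7904 := d24_2 F19534 D7904 (iv D7904)
def n7905 : Q := act 3 n6245
theorem D7905 : act 3 n6245 = n7905 := rfl
theorem F24961 : act 1 n7905 = n6246 := d8_1 D7905 (iv D6246) (iv F19535)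
theorem F24962 : act 2 n7905 = n7131 := d13_1 D7905 F22592 F17400 (iv F17476) (iv F19536)
theorem F24963 : act 5 n7905 = n7129 := d19_2 (iv F19537) D7905 F22586
theorem F24964 : act 6 n7905 = n7796 := d20_2 (iv F19538) D7905 (iv D7796)
theorem F24965 : act 7 n7905 = n7161 := d29_9 F5151 (iv F7212) (iv D2332) (iv F6707) D3147 D4396 (iv F17475) (iv F19536) D7905 F22707 (iv D7161) (iv F22657) F22659 (iv D5722) F13191 F10154 (iv F13420) (iv D4336) (iv D3104) F6621 (iv D2137) F4558 F3123 (iv D792) F1787 D791 F2562 (iv F3653) (iv F5152)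
def n7906 : Q := act 6 n6248
theorem D7906 : act 6 n6248 = n7906 := rfl
theorem F24966 : act 0 n7906 = n6249 := d5_1 D7906 (iv D6249) (iv F19545)
theorem F24967 : act 2 n7906 = n6250 := d16_1 D7906 (iv D6250) (iv F19546)
def n7907 : Q := act 7 n6249
theorem D7907 : act 7 n6249 = n7907 := rfl
theorem F24968 : act 2 n7907 = n6251 := d17_1 D7907 (iv D6251) (iv F19547)
def n7908 : Q := act 7 n6250
theorem D7908 : act 7 n6250 = n7908 := rfl
theorem F24969 : act 0 n7908 = n6251 := d6_1 D7908 (iv D6251) (iv F19548)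
theorem F24970 : act 1 n7908 = n6705 := d12_1 D7908 (iv F21068) F20368
theorem F24971 : act 6 n7908 = n6707 := d27_1 D7908 F21074 (iv D6503) F15260 D6250
def n7909 : Q := act 3 n6251
theorem D7909 : act 3 n6251 = n7909 := rfl
theorem F24972 : act 7 n7909 = n7909 := d21_2 D6251 D7909 (iv D7909) (iv D6251) F14582
def n7910 : Q := act 4 n6253
theorem D7910 : act 4 n6253 = n7910 := rfl
theorem F24973 : act 0 n7910 = n6254 := d3_1 D7910 (iv D6254) D6253
theorem F24974 : act 1 n7910 = n7005 := d9_1 D7910 (iv F22225) F22222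
theorem F24975 : act 2 n7910 = n7910 := d14_1 D7910 (iv D7910) F19557
theorem F24976 : act 3 n7910 = n6533 := d18_1 D7910 F20495 F20487 F16437 (iv F19558)
theorem F24977 : act 5 n7910 = n6532 := d22_2 F22214 D7910 F22213
theorem F24978 : act 7 n7910 = n7012 := d24_2 F20492 D7910 (iv F22213)
def n7911 : Q := act 6 n6253
theorem D7911 : act 6 n6253 = n7911 := rfl
theorem F24979 : act 0 n7911 = n6256 := d5_1 D7911 (iv D6256) D6253
theorem F24980 : act 2 n7911 = n7911 := d16_1 D7911 (iv D7911) F19557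
theorem F24981 : act 3 n7911 = n6269 := d20_1 D7911 (iv D6269) (iv F19558)
theorem F24982 : act 5 n7911 = n6835 := d25_1 D7911 (iv D6835) F20804 (iv F22212) F22214
def n7912 : Q := act 1 n6258
theorem D7912 : act 1 n6258 = n7912 := rfl
theorem F24983 : act 3 n7912 = n7649 := d8_2 (iv F19579) D7912 F24225
theorem F24984 : act 4 n7912 = n6775 := d9_2 (iv F19580) D7912 (iv D6775)
theorem F24985 : act 6 n7912 = n7912 := d11_2 F19581 D7912 (iv D7912)
def n7913 : Q := act 0 n6259
theorem D7913 : act 0 n6259 = n7913 := rfl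
theorem F24986 : act 4 n7913 = n6525 := d3_2 (iv F19582) D7913 F20461
theorem F24987 : act 5 n7913 = n6261 := d4_2 (iv F19583) D7913 (iv D6261)
theorem F24988 : act 6 n7913 = n7913 := d5_2 F19584 D7913 (iv D7913)
theorem F24989 : act 7 n7913 = n6764 := d6_2 (iv F19585) D7913 F21291
def n7914 : Q := act 0 n6260
theorem D7914 : act 0 n6260 = n7914 := rfl
theorem F24990 : act 3 n7914 = n6261 := d2_2 (iv F19586) D7914 (iv D6261)
theorem F24991 : act 4 n7914 = n6695 := d3_2 (iv F19587) D7914 F21028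
theorem F24992 : act 6 n7914 = n6263 := d5_2 (iv F19588) D7914 (iv D6263)
theorem F24993 : act 7 n7914 = n6692 := d6_2 (iv F19589) D7914 F21018
def n7915 : Q := act 2 n6261
theorem D7915 : act 2 n6261 = n7915 := rfl
theorem F24994 : act 0 n7915 = n6262 := d1_1 D7915 (iv D6262) D6261
theorem F24995 : act 6 n7915 = n6266 := d16_2 (iv F19590) D7915 (iv D6266)
def n7916 : Q := act 2 n6263
theorem D7916 : act 2 n6263 = n7916 := rfl
theorem F24996 : act 0 n7916 = n6264 := d1_1 D7916 (iv D6264) D6263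
theorem F24997 : act 4 n7916 = n7521 := d14_2 F21631 D7916 F23820
theorem F24998 : act 5 n7916 = n7916 := d15_2 F19594 D7916 (iv D7916)
theorem F24999 : act 1 n7331 = n7916 := d9_3 F24997 F23819 (iv F23176)
theorem F25000 : act 7 n6317 = n7916 := d24_0 F24997 (iv D7521) (iv F19781)
def n7917 : Q := act 7 n6263
theorem D7917 : act 7 n6263 = n7917 := rfl
theorem F25001 : act 0 n7917 = n6265 := d6_1 D7917 (iv D6265) D6263
theorem F25002 : act 2 n7917 = n6317 := d17_1 D7917 F25000 (iv D7916)
theorem F25003 : act 3 n7917 = n7917 := d21_1 D7917 (iv D7917) F19593 F14647 (iv F19593)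
theorem F25004 : act 4 n7917 = n6689 := d24_1 D7917 (iv F21634) F21631
theorem F25005 : act 5 n7917 = n7917 := d26_1 D7917 (iv D7917) F19594
theorem F25006 : act 6 n7917 = n6316 := d27_1 D7917 F19777 D6692 (iv F24993) F24992
def n7918 : Q := act 3 n6264
theorem D7918 : act 3 n6264 = n7918 := rfl
theorem F25007 : act 2 n7918 = n6267 := d13_1 D7918 (iv D6267) (iv D4740) (iv F14639) D6264
theorem F25008 : act 5 n7918 = n7918 := d19_2 F19595 D7918 (iv D7918)
theorem F25009 : act 7 n7918 = n6320 := d21_2 (iv F19602) D7918 F19788 F14797 (iv F14814)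
def n7919 : Q := act 1 n6266
theorem D7919 : act 1 n6266 = n7919 := rfl
theorem F25010 : act 0 n7919 = n6282 := d0_1 D7919 (iv D6282) F14690 (iv F14648) (iv F19603)
theorem F25011 : act 7 n7919 = n7919 := d12_2 F19605 D7919 (iv D7919)
def n7920 : Q := act 3 n6266
theorem D7920 : act 3 n6266 = n7920 := rfl
theorem F25012 : act 0 n7920 = n6267 := d2_1 D7920 (iv D6267) (iv F19603)
theorem F25013 : act 5 n7920 = n7920 := d19_2 F19604 D7920 (iv D7920)
def n7921 : Q := act 7 n6267
theorem D7921 : act 7 n6267 = n7921 := rfl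
theorem F25014 : act 1 n7921 = n6285 := d12_1 D7921 (iv D6285) (iv F19606)
theorem F25015 : act 2 n7921 = n6320 := d17_1 D7921 (iv F25009) F25007
theorem F25016 : act 3 n7921 = n7921 := d21_1 D7921 (iv D7921) (iv D6267) F14650 D6267
theorem F25017 : act 5 n7921 = n7921 := d26_1 D7921 (iv D7921) F19607
theorem F25018 : act 6 n7921 = n6318 := d30_6 D1630 D2386 D3426 D4740 D6267 D7921 F19784 (iv F16965) F16966 F16967 (iv D5423) (iv D4006) F8731 (iv F12420) (iv F16096) (iv D5184) (iv D3800) F8204 (iv D2405) (iv D1643) (iv D1117) (iv D760) (iv D514) F931 F930 (iv F1694) D753 F2451 D1108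
def n7922 : Q := act 0 n6270
theorem D7922 : act 0 n6270 = n7922 := rfl
theorem F25019 : act 2 n7922 = n6546 := d1_2 (iv F19615) D7922 F20542
theorem F25020 : act 3 n7922 = n6816 := d2_2 (iv F19616) D7922 F21470
theorem F25021 : act 5 n7922 = n6544 := d4_2 (iv F19617) D7922 F20536
theorem F25022 : act 6 n7922 = n6847 := d5_2 (iv F19618) D7922 F21576
theorem F25023 : act 7 n7922 = n6580 := d6_2 (iv F19619) D7922 F20668
def n7923 : Q := act 1 n6272
theorem D7923 : act 1 n6272 = n7923 := rfl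
theorem F25024 : act 4 n7923 = n6282 := d9_2 (iv F19627) D7923 (iv D6282)
theorem F25025 : act 7 n7923 = n7923 := d12_2 F19629 D7923 (iv D7923)
def n7924 : Q := act 3 n6272
theorem D7924 : act 3 n6272 = n7924 := rfl
theorem F25026 : act 0 n7924 = n6273 := d2_1 D7924 (iv D6273) (iv F19626)
theorem F25027 : act 2 n7924 = n6573 := d13_1 D7924 F20636 (iv F19620) F19621 D6272
theorem F25028 : act 5 n7924 = n6288 := d19_2 (iv F19628) D7924 (iv D6288)
theorem F25029 : act 6 n7924 = n6870 := d20_2 F21537 D7924 F21649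
theorem F25030 : act 4 n7915 = n7924 := d23_3 F25029 F21650 (iv F24995)
theorem F25031 : act 7 n6690 = n7924 := d26_0 F25028 (iv F21290) F21288
def n7925 : Q := act 2 n6274
theorem D7925 : act 2 n6274 = n7925 := rfl
theorem F25032 : act 0 n7925 = n6275 := d1_1 D7925 (iv D6275) D6274
theorem F25033 : act 5 n7925 = n7925 := d15_2 F19638 D7925 (iv D7925)
theorem F25034 : act 6 n7925 = n6280 := d16_2 (iv F19639) D7925 (iv D6280)
theorem F25035 : act 7 n7925 = n7925 := d17_2 F19640 D7925 (iv D7925)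
def n7926 : Q := act 3 n6275
theorem D7926 : act 3 n6275 = n7926 := rfl
theorem F25036 : act 2 n7926 = n6277 := d13_1 D7926 (iv D6277) (iv D4751) (iv F14674) D6275
theorem F25037 : act 4 n7926 = n7918 := d18_2 F21135 D7926 (iv D7918) (iv F21106) (iv F21134)
theorem F25038 : act 5 n7926 = n7926 := d19_2 F19641 D7926 (iv D7926)
theorem F25039 : act 6 n7926 = n6281 := d20_2 (iv F19642) D7926 (iv D6281)
def n7927 : Q := act 1 n6276
theorem D7927 : act 1 n6276 = n7927 := rfl
theorem F25040 : act 6 n7927 = n6282 := d11_2 (iv F19646) D7927 (iv D6282)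
def n7928 : Q := act 3 n6276
theorem D7928 : act 3 n6276 = n7928 := rfl
theorem F25041 : act 0 n7928 = n6277 := d2_1 D7928 (iv D6277) (iv F19644)
theorem F25042 : act 4 n7928 = n7920 := d18_2 F21535 D7928 (iv D7920) (iv F21650) F21649
theorem F25043 : act 5 n7928 = n7928 := d19_2 F19645 D7928 (iv D7928)
theorem F25044 : act 6 n7928 = n6283 := d20_2 (iv F19646) D7928 (iv D6283)
def n7929 : Q := act 7 n6277
theorem D7929 : act 7 n6277 = n7929 := rfl
theorem F25045 : act 4 n7929 = n7921 := d24_1 D7929 (iv D7921) (iv F19647)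
theorem F25046 : act 5 n7929 = n7929 := d26_1 D7929 (iv D7929) F19648
def n7930 : Q := act 2 n6278
theorem D7930 : act 2 n6278 = n7930 := rfl
theorem F25047 : act 0 n7930 = n6279 := d1_1 D7930 (iv D6279) D6278
theorem F25048 : act 4 n7930 = n6694 := d14_2 F21119 D7930 (iv F21117)
theorem F25049 : act 5 n7930 = n6692 := d15_2 (iv F21146) D7930 (iv F21143)
def n7931 : Q := act 3 n6279
theorem D7931 : act 3 n6279 = n7931 := rfl
theorem F25050 : act 1 n7931 = n6281 := d8_1 D7931 (iv D6281) (iv F19650)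
theorem F25051 : act 4 n7931 = n6710 := d18_2 (iv F19651) D7931 F21082 F15879 (iv F15825)
theorem F25052 : act 5 n7931 = n6696 := d19_2 (iv F19652) D7931 F21032
theorem F25053 : act 7 n7931 = n6766 := d21_2 F20424 D7931 F21297 (iv F19585) (iv F20421)
def n7932 : Q := act 1 n6280
theorem D7932 : act 1 n6280 = n7932 := rfl
theorem F25054 : act 2 n7932 = n7650 := d7_2 D6280 D7932 F24228 F18931 (iv F14685)
theorem F25055 : act 7 n7932 = n7649 := d12_2 (iv F19655) D7932 F24225
def n7933 : Q := act 3 n6280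
theorem D7933 : act 3 n6280 = n7933 := rfl
theorem F25056 : act 0 n7933 = n6281 := d2_1 D7933 (iv D6281) (iv F19653)
theorem F25057 : act 2 n7933 = n6283 := d13_1 D7933 (iv D6283) (iv D4756) (iv F14686) D6280
theorem F25058 : act 5 n7933 = n6291 := d19_2 (iv F19654) D7933 (iv D6291)
def n7934 : Q := act 4 n6281
theorem D7934 : act 4 n6281 = n7934 := rfl
theorem F25059 : act 1 n7934 = n6710 := d9_1 D7934 (iv F25051) F25050
theorem F25060 : act 2 n7934 = n6284 := d14_1 D7934 (iv D6284) (iv F19656)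
theorem F25061 : act 3 n7934 = n6714 := d18_1 D7934 F21101 (iv F15935) F15936 D6281
theorem F25062 : act 5 n7934 = n6292 := d22_2 (iv F19657) D7934 (iv D6292)
theorem F25063 : act 6 n7934 = n7918 := d23_2 F25039 D7934 (iv F25037)
theorem F25064 : act 7 n7934 = n6737 := d24_2 F20406 D7934 F21195
def n7935 : Q := act 3 n6282
theorem D7935 : act 3 n6282 = n7935 := rfl
theorem F25065 : act 1 n7935 = n6283 := d8_1 D7935 (iv D6283) D6282
def n7936 : Q := act 5 n6282
theorem D7936 : act 5 n6282 = n7936 := rfl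
theorem F25066 : act 1 n7936 = n6294 := d10_1 D7936 (iv D6294) (iv D4769) (iv F14691) D6282
theorem F25067 : act 7 n7936 = n7936 := d26_2 F19658 D7936 (iv D7936)
def n7937 : Q := act 4 n6283
theorem D7937 : act 4 n6283 = n7937 := rfl
theorem F25068 : act 0 n7937 = n6284 := d3_1 D7937 (iv D6284) (iv F19659)
theorem F25069 : act 3 n7937 = n7915 := d18_1 D7937 F25030 (iv D7924) F19627 D6283
theorem F25070 : act 5 n7937 = n6295 := d22_2 (iv F19660) D7937 (iv D6295)
theorem F25071 : act 6 n7937 = n7920 := d23_2 F25044 D7937 (iv F25042)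
def n7938 : Q := act 7 n6283
theorem D7938 : act 7 n6283 = n7938 := rfl
theorem F25072 : act 0 n7938 = n6285 := d6_1 D7938 (iv D6285) (iv F19659)
theorem F25073 : act 3 n7938 = n7938 := d21_1 D7938 (iv D7938) (iv D6283) F14692 D6283
theorem F25074 : act 5 n7938 = n6296 := d26_1 D7938 (iv D6296) (iv F19660)
def n7939 : Q := act 7 n6284
theorem D7939 : act 7 n6284 = n7939 := rfl
theorem F25075 : act 1 n7939 = n7929 := d12_1 D7939 (iv D7929) (iv F19661)
theorem F25076 : act 2 n7939 = n6737 := d17_1 D7939 (iv F25064) F25060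
theorem F25077 : act 4 n7939 = n6285 := d24_1 D7939 (iv D6285) D6284
theorem F25078 : act 5 n7939 = n6297 := d26_1 D7939 (iv D6297) (iv F19663)
theorem F25079 : act 6 n7939 = n6943 := d27_1 D7939 F21962 (iv F25018) (iv D7921) (iv F19664)
theorem F25080 : act 3 n7939 = n6986 := d29_10 (iv D1111) (iv F3529) F3528 (iv F5082) D2382 D3421 D4732 D6262 (iv F19662) D7939 F22123 F16940 (iv D5417) (iv D4000) F8714 F5981 F4097 F2909 (iv D893) (iv D606) F1253 F709 (iv F1242) F1469 F935 (iv F1699) F1700 D758 (iv F3535)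
def n7940 : Q := act 6 n6285
theorem D7940 : act 6 n6285 = n7940 := rfl
theorem F25081 : act 1 n7940 = n6318 := d11_1 D7940 (iv F25018) F25014
theorem F25082 : act 2 n7940 = n6944 := d16_1 D7940 F21966 F20404
theorem F25083 : act 3 n7940 = n7940 := d20_1 D7940 (iv D7940) F19665
theorem F25084 : act 4 n7940 = n6943 := d23_1 D7940 (iv F25079) F25077
theorem F25085 : act 5 n7940 = n6987 := d25_1 D7940 (iv D6987) F16925 (iv F15296) (iv F19666)
def n7941 : Q := act 3 n6287
theorem D7941 : act 3 n6287 = n7941 := rfl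
theorem F25086 : act 0 n7941 = n7941 := d2_1 D7941 (iv D7941) F19673
theorem F25087 : act 1 n7941 = n6288 := d8_1 D7941 (iv D6288) D6287
theorem F25088 : act 6 n7941 = n7941 := d20_2 F19676 D7941 (iv D7941)
def n7942 : Q := act 5 n6287
theorem D7942 : act 5 n6287 = n7942 := rfl
theorem F25089 : act 0 n7942 = n7942 := d4_1 D7942 (iv D7942) F19673
theorem F25090 : act 2 n7942 = n6327 := d15_1 D7942 (iv D6327) (iv F19674)
theorem F25091 : act 4 n7942 = n6294 := d22_1 D7942 (iv D6294) (iv F19675)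
theorem F25092 : act 7 n7942 = n7942 := d26_2 F19677 D7942 (iv D7942)
def n7943 : Q := act 4 n6288
theorem D7943 : act 4 n6288 = n7943 := rfl
theorem F25093 : act 0 n7943 = n6289 := d3_1 D7943 (iv D6289) (iv F19678)
theorem F25094 : act 2 n7943 = n7913 := d14_1 D7943 F24986 F20462
theorem F25095 : act 3 n7943 = n6295 := d18_1 D7943 (iv D6295) (iv D4770) (iv F14717) D6288
theorem F25096 : act 5 n7943 = n7915 := d22_2 F25028 D7943 F25030
theorem F25097 : act 6 n7943 = n7943 := d23_2 F19679 D7943 (iv D7943)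
def n7944 : Q := act 3 n6290
theorem D7944 : act 3 n6290 = n7944 := rfl
theorem F25098 : act 1 n7944 = n6291 := d8_1 D7944 (iv D6291) D6290
theorem F25099 : act 6 n7944 = n7944 := d20_2 F19686 D7944 (iv D7944)
def n7945 : Q := act 5 n6290
theorem D7945 : act 5 n6290 = n7945 := rfl
theorem F25100 : act 2 n7945 = n6333 := d15_1 D7945 (iv D6333) (iv F19685)
theorem F25101 : act 7 n7945 = n7291 := d26_2 (iv F19687) D7945 F23056
def n7946 : Q := act 4 n6291
theorem D7946 : act 4 n6291 = n7946 := rfl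
theorem F25102 : act 0 n7946 = n6292 := d3_1 D7946 (iv D6292) (iv F19688)
theorem F25103 : act 2 n7946 = n6295 := d14_1 D7946 (iv D6295) (iv F19689)
theorem F25104 : act 3 n7946 = n6717 := d18_1 D7946 F21113 F16025 F16023 D6291
theorem F25105 : act 6 n7946 = n7946 := d23_2 F19690 D7946 (iv D7946)
def n7947 : Q := act 2 n6293
theorem D7947 : act 2 n6293 = n7947 := rfl
theorem F25106 : act 0 n7947 = n7947 := d1_1 D7947 (iv D7947) F19695
theorem F25107 : act 3 n7947 = n6335 := d13_2 D6293 D7947 (iv D6335) (iv D4806) (iv F14737)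
theorem F25108 : act 6 n7947 = n7947 := d16_2 F19697 D7947 (iv D7947)
def n7948 : Q := act 4 n6293
theorem D7948 : act 4 n6293 = n7948 := rfl
theorem F25109 : act 0 n7948 = n7948 := d3_1 D7948 (iv D7948) F19695
theorem F25110 : act 1 n7948 = n6295 := d9_1 D7948 (iv D6295) (iv F19696)
theorem F25111 : act 6 n7948 = n7948 := d23_2 F19697 D7948 (iv D7948)
def n7949 : Q := act 5 n6293
theorem D7949 : act 5 n6293 = n7949 := rfl
theorem F25112 : act 0 n7949 = n7949 := d4_1 D7949 (iv D7949) F19695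
theorem F25113 : act 3 n7949 = n6294 := d19_1 D7949 (iv D6294) D6293
def n7950 : Q := act 7 n6293
theorem D7950 : act 7 n6293 = n7950 := rfl
theorem F25114 : act 0 n7950 = n7950 := d6_1 D7950 (iv D7950) F19695
theorem F25115 : act 1 n7950 = n6296 := d12_1 D7950 (iv D6296) (iv F19696)
theorem F25116 : act 3 n7950 = n7950 := d21_1 D7950 (iv D7950) (iv D6293) F14739 D6293
def n7951 : Q := act 6 n6294
theorem D7951 : act 6 n6294 = n7951 := rfl
theorem F25117 : act 0 n7951 = n7951 := d5_1 D7951 (iv D7951) F19698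
theorem F25118 : act 2 n7951 = n6339 := d16_1 D7951 (iv D6339) (iv F19699)
theorem F25119 : act 5 n7951 = n7951 := d25_1 D7951 (iv D7951) (iv D6294) F14738 D6294
def n7952 : Q := act 7 n6295
theorem D7952 : act 7 n6295 = n7952 := rfl
theorem F25120 : act 0 n7952 = n6297 := d6_1 D7952 (iv D6297) (iv F19701)
theorem F25121 : act 4 n7952 = n6296 := d24_1 D7952 (iv D6296) D6295
theorem F25122 : act 6 n6949 = n7952 := d23_0 F25121 F20355 F21988
theorem F25123 : act 3 n7952 = n6950 := d20_1 F25122 (iv D6950) D6949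
def n7953 : Q := act 7 n6298
theorem D7953 : act 7 n6298 = n7953 := rfl
theorem F25124 : act 0 n7953 = n7953 := d6_1 D7953 (iv D7953) F19709
theorem F25125 : act 2 n7953 = n7347 := d17_1 D7953 (iv F23236) (iv F19710)
theorem F25126 : act 5 n7953 = n6299 := d26_1 D7953 (iv D6299) D6298
def n7954 : Q := act 3 n6299
theorem D7954 : act 3 n6299 = n7954 := rfl
theorem F25127 : act 0 n7954 = n7954 := d2_1 D7954 (iv D7954) F19713
theorem F25128 : act 1 n7954 = n6300 := d8_1 D7954 (iv D6300) (iv F19714)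
theorem F25129 : act 2 n7954 = n7954 := d13_1 D7954 (iv D7954) F19715 F18072 (iv F19715)
theorem F25130 : act 6 n7954 = n7349 := d20_2 (iv F19716) D7954 (iv D7349)
theorem F25131 : act 7 n7954 = n6306 := d21_2 D6299 D7954 (iv D6306) (iv D4778) (iv F14749)
def n7955 : Q := act 4 n6300
theorem D7955 : act 4 n6300 = n7955 := rfl
theorem F25132 : act 0 n7955 = n6301 := d3_1 D7955 (iv D6301) (iv F19717)
theorem F25133 : act 3 n7955 = n6478 := d18_1 D7955 F20293 F16818 F16815 D6300
theorem F25134 : act 6 n7955 = n6477 := d23_2 F21227 D7955 (iv F21225)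
theorem F25135 : act 7 n7955 = n6312 := d24_2 (iv F19718) D7955 (iv D6312)
def n7956 : Q := act 3 n6305
theorem D7956 : act 3 n6305 = n7956 := rfl
theorem F25136 : act 0 n7956 = n7956 := d2_1 D7956 (iv D7956) F19737
theorem F25137 : act 2 n7956 = n7956 := d13_1 D7956 (iv D7956) (iv F23257) F23258 F23257
theorem F25138 : act 5 n7956 = n6306 := d19_2 (iv F19739) D7956 (iv D6306)
def n7957 : Q := act 4 n6306
theorem D7957 : act 4 n6306 = n7957 := rfl
theorem F25139 : act 0 n7957 = n7957 := d3_1 D7957 (iv D7957) F19740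
theorem F25140 : act 1 n7957 = n6312 := d9_1 D7957 (iv D6312) (iv F19741)
theorem F25141 : act 2 n7957 = n7957 := d14_1 D7957 (iv D7957) F19742
theorem F25142 : act 3 n7957 = n7957 := d18_1 D7957 (iv D7957) (iv D6306) F14763 D6306
theorem F25143 : act 6 n7957 = n7957 := d23_2 F19743 D7957 (iv D7957)
def n7958 : Q := act 3 n6307
theorem D7958 : act 3 n6307 = n7958 := rfl
theorem F25144 : act 1 n7958 = n7958 := d8_1 D7958 (iv D7958) F19744
theorem F25145 : act 6 n7958 = n6313 := d20_2 (iv F19746) D7958 (iv D6313)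
def n7959 : Q := act 3 n6308
theorem D7959 : act 3 n6308 = n7959 := rfl
theorem F25146 : act 1 n7959 = n6309 := d8_1 D7959 (iv D6309) (iv F19747)
def n7960 : Q := act 6 n6308
theorem D7960 : act 6 n6308 = n7960 := rfl
theorem F25147 : act 1 n7960 = n6310 := d11_1 D7960 (iv D6310) (iv F19747)
theorem F25148 : act 4 n7960 = n7960 := d23_1 D7960 (iv D7960) F19748
theorem F25149 : act 5 n7960 = n7326 := d25_1 D7960 F23162 F21615 D7359 F23298
theorem F25150 : act 7 n7960 = n6315 := d27_2 D6308 D7960 (iv D6315) (iv D4783) (iv F14766)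
def n7961 : Q := act 2 n6309
theorem D7961 : act 2 n6309 = n7961 := rfl
theorem F25151 : act 0 n7961 = n6318 := d1_1 D7961 (iv D6318) (iv F19749)
theorem F25152 : act 3 n7961 = n7961 := d13_2 D6309 D7961 (iv D7961) (iv D6309) F14768
theorem F25153 : act 5 n7961 = n6311 := d15_2 (iv F19750) D7961 (iv D6311)
def n7962 : Q := act 4 n6309
theorem D7962 : act 4 n6309 = n7962 := rfl
theorem F25154 : act 0 n7962 = n6319 := d3_1 D7962 (iv D6319) (iv F19749)
theorem F25155 : act 3 n7962 = n7962 := d18_1 D7962 (iv D7962) (iv D6309) F14769 D6309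
theorem F25156 : act 5 n7962 = n6312 := d22_2 (iv F19750) D7962 (iv D6312)
def n7963 : Q := act 6 n6309
theorem D7963 : act 6 n6309 = n7963 := rfl
theorem F25157 : act 0 n7963 = n6320 := d5_1 D7963 (iv D6320) (iv F19749)
theorem F25158 : act 3 n7963 = n6310 := d20_1 D7963 (iv D6310) D6309
theorem F25159 : act 5 n7963 = n7963 := d25_1 D7963 (iv D7963) F19750 F14772 (iv F19750)
def n7964 : Q := act 4 n6311
theorem D7964 : act 4 n6311 = n7964 := rfl
theorem F25160 : act 0 n7964 = n6321 := d3_1 D7964 (iv D6321) (iv F19756)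
theorem F25161 : act 1 n7964 = n7964 := d9_1 D7964 (iv D7964) F19757
theorem F25162 : act 2 n7964 = n6312 := d14_1 D7964 (iv D6312) D6311
theorem F25163 : act 6 n7964 = n7964 := d23_2 F19759 D7964 (iv D7964)
theorem F25164 : act 3 n6991 = n7964 := d2_0 F25160 (iv F19793) D6991
def n7965 : Q := act 4 n6313
theorem D7965 : act 4 n6313 = n7965 := rfl
theorem F25165 : act 1 n7965 = n7965 := d9_1 D7965 (iv D7965) F19763
theorem F25166 : act 3 n7965 = n7965 := d18_1 D7965 (iv D7965) (iv D6313) F14774 D6313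
theorem F25167 : act 5 n7965 = n6358 := d22_2 (iv F19764) D7965 (iv D6358)
def n7966 : Q := act 7 n6313
theorem D7966 : act 7 n6313 = n7966 := rfl
theorem F25168 : act 1 n7966 = n7966 := d12_1 D7966 (iv D7966) F19763
theorem F25169 : act 5 n7966 = n6359 := d26_1 D7966 (iv D6359) (iv F19764)
def n7967 : Q := act 3 n6314
theorem D7967 : act 3 n6314 = n7967 := rfl
theorem F25170 : act 1 n7967 = n7967 := d8_1 D7967 (iv D7967) F19765
theorem F25171 : act 2 n7967 = n6825 := d13_1 D7967 F21501 F16357 F14779 (iv F19766)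
theorem F25172 : act 5 n7967 = n6360 := d19_2 (iv F19768) D7967 (iv D6360)
def n7968 : Q := act 6 n6314
theorem D7968 : act 6 n6314 = n7968 := rfl
theorem F25173 : act 0 n7968 = n6905 := d5_1 D7968 F22017 F22013
theorem F25174 : act 1 n7968 = n7968 := d11_1 D7968 (iv D7968) F19765
theorem F25175 : act 2 n7968 = n6315 := d16_1 D7968 (iv D6315) (iv F19766)
theorem F25176 : act 4 n7968 = n7968 := d23_1 D7968 (iv D7968) F19767
theorem F25177 : act 5 n7968 = n6904 := d25_1 D7968 (iv D6904) (iv F16646) F14926 (iv F19768)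
def n7969 : Q := act 1 n6316
theorem D7969 : act 1 n6316 = n7969 := rfl
theorem F25178 : act 0 n7969 = n6641 := d0_1 D7969 F20857 F15693 (iv F14803) (iv F19773)
theorem F25179 : act 2 n7969 = n6823 := d7_2 D6316 D7969 F21497 F16357 (iv F14781)
theorem F25180 : act 3 n7969 = n7969 := d8_2 F19774 D7969 (iv D7969)
theorem F25181 : act 4 n7969 = n6640 := d9_2 (iv F19775) D7969 F20852
theorem F25182 : act 5 n7969 = n6812 := d10_2 (iv F19776) D7969 F21458 F16307 (iv F14789)
theorem F25183 : act 7 n7969 = n6647 := d12_2 (iv F19777) D7969 F20874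
def n7970 : Q := act 4 n6318
theorem D7970 : act 4 n6318 = n7970 := rfl
theorem F25184 : act 1 n7970 = n6943 := d9_1 D7970 (iv F25084) F25081
theorem F25185 : act 2 n7970 = n6319 := d14_1 D7970 (iv D6319) D6318
theorem F25186 : act 5 n7970 = n6321 := d22_2 (iv F19784) D7970 (iv D6321)
theorem F25187 : act 6 n7970 = n7929 := d23_2 F25018 D7970 F25045
theorem F25188 : act 7 n7970 = n7940 := d24_2 F21962 D7970 F25084
theorem F25189 : act 3 n6988 = n7970 := d29_8 F11732 (iv F12417) F12416 F12419 D3998 D5414 D6988 F22131 F25188 F25083 F25082 F21963 F16948 (iv F21299) F21298 (iv D6686) F15787 F15788 F11494 (iv F14610) F14609 F11628 (iv D3775) (iv D2639) D2638 F8105 F5625 (iv F8171) D3802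
def n7971 : Q := act 6 n6319
theorem D7971 : act 6 n6319 = n7971 := rfl
theorem F25190 : act 1 n7971 = n6765 := d11_1 D7971 F21295 (iv F19785)
theorem F25191 : act 2 n7971 = n7929 := d16_1 D7971 (iv F25187) F25185
theorem F25192 : act 3 n7971 = n7971 := d20_1 D7971 (iv D7971) F19786
theorem F25193 : act 4 n7971 = n6320 := d23_1 D7971 (iv D6320) D6319
theorem F25194 : act 5 n7971 = n7971 := d25_1 D7971 (iv D7971) F19787 F14802 (iv F19787)
theorem F25195 : act 7 n7971 = n7926 := d27_2 F21967 D7971 F25039 (iv F20406) (iv F21966)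
def n7972 : Q := act 3 n6323
theorem D7972 : act 3 n6323 = n7972 := rfl
theorem F25196 : act 1 n7972 = n6324 := d8_1 D7972 (iv D6324) D6323
theorem F25197 : act 6 n7972 = n7972 := d20_2 F19801 D7972 (iv D7972)
theorem F25198 : act 7 n7972 = n7309 := d21_2 (iv F19802) D7972 F23115 F17960 (iv F17088)
def n7973 : Q := act 5 n6323
theorem D7973 : act 5 n6323 = n7973 := rfl
theorem F25199 : act 4 n7973 = n7035 := d22_1 D7973 F22289 (iv F19800)
theorem F25200 : act 7 n7973 = n7031 := d26_2 (iv F19802) D7973 (iv D7031)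
def n7974 : Q := act 4 n6324
theorem D7974 : act 4 n6324 = n7974 := rfl
theorem F25201 : act 0 n7974 = n6325 := d3_1 D7974 (iv D6325) (iv F19803)
theorem F25202 : act 2 n7974 = n6328 := d14_1 D7974 (iv D6328) (iv F19804)
theorem F25203 : act 3 n7974 = n7042 := d18_1 D7974 (iv D7042) (iv D5464) (iv F14829) D6324
theorem F25204 : act 6 n7974 = n7974 := d23_2 F19805 D7974 (iv D7974)
theorem F25205 : act 7 n7974 = n7298 := d24_2 (iv F19806) D7974 F23077
def n7975 : Q := act 2 n6326
theorem D7975 : act 2 n6326 = n7975 := rfl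
theorem F25206 : act 0 n7975 = n7975 := d1_1 D7975 (iv D7975) F19812
theorem F25207 : act 6 n7975 = n7975 := d16_2 F19814 D7975 (iv D7975)
def n7976 : Q := act 4 n6326
theorem D7976 : act 4 n6326 = n7976 := rfl
theorem F25208 : act 0 n7976 = n7976 := d3_1 D7976 (iv D7976) F19812
theorem F25209 : act 1 n7976 = n6328 := d9_1 D7976 (iv D6328) (iv F19813)
theorem F25210 : act 3 n7976 = n6336 := d18_1 D7976 (iv D6336) (iv D4806) (iv F14836) D6326
theorem F25211 : act 6 n7976 = n7976 := d23_2 F19814 D7976 (iv D7976)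
def n7977 : Q := act 5 n6326
theorem D7977 : act 5 n6326 = n7977 := rfl
theorem F25212 : act 0 n7977 = n7977 := d4_1 D7977 (iv D7977) F19812
theorem F25213 : act 3 n7977 = n6327 := d19_1 D7977 (iv D6327) D6326
def n7978 : Q := act 7 n6326
theorem D7978 : act 7 n6326 = n7978 := rfl
theorem F25214 : act 0 n7978 = n7978 := d6_1 D7978 (iv D7978) F19812
theorem F25215 : act 1 n7978 = n6329 := d12_1 D7978 (iv D6329) (iv F19813)
theorem F25216 : act 3 n7978 = n7978 := d21_1 D7978 (iv D7978) (iv D6326) F14838 D6326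
theorem F25217 : act 6 n7314 = n7978 := d11_0 F25215 (iv F19824) D7314
def n7979 : Q := act 6 n6327
theorem D7979 : act 6 n6327 = n7979 := rfl
theorem F25218 : act 0 n7979 = n7979 := d5_1 D7979 (iv D7979) F19815
theorem F25219 : act 1 n7979 = n6413 := d11_1 D7979 (iv F24642) F24640
theorem F25220 : act 4 n7979 = n6339 := d23_1 D7979 (iv D6339) (iv F19816)
theorem F25221 : act 5 n7979 = n7979 := d25_1 D7979 (iv D7979) (iv D6327) F14837 D6327
theorem F25222 : act 7 n6414 = n7979 := d12_0 F25219 F20082 D6414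
def n7980 : Q := act 7 n6328
theorem D7980 : act 7 n6328 = n7980 := rfl
theorem F25223 : act 0 n7980 = n6330 := d6_1 D7980 (iv D6330) (iv F19818)
theorem F25224 : act 2 n7980 = n7298 := d17_1 D7980 (iv F25205) F25202
theorem F25225 : act 3 n7980 = n7355 := d21_1 D7980 F23278 (iv F21797) (iv D6340) (iv F19819)
theorem F25226 : act 4 n7980 = n6329 := d24_1 D7980 (iv D6329) D6328
theorem F25227 : act 6 n7297 = n7980 := d23_0 F25226 (iv F19824) (iv F23072)
def n7981 : Q := act 5 n6331
theorem D7981 : act 5 n6331 = n7981 := rfl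
theorem F25228 : act 0 n7981 = n6333 := d4_1 D7981 (iv D6333) (iv F19830)
theorem F25229 : act 1 n7981 = n7009 := d10_1 D7981 (iv D7009) F17022 (iv F14849) D6331
theorem F25230 : act 3 n7981 = n7011 := d19_1 D7981 F22208 (iv F19831)
theorem F25231 : act 7 n7981 = n7290 := d26_2 (iv F19833) D7981 F23054
def n7982 : Q := act 2 n6332
theorem D7982 : act 2 n6332 = n7982 := rfl
theorem F25232 : act 0 n7982 = n7021 := d1_1 D7982 (iv D7021) (iv F19834)
theorem F25233 : act 1 n7982 = n6335 := d7_1 D7982 (iv D6335) F14864 (iv F14856) (iv F19835)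
theorem F25234 : act 6 n7982 = n7982 := d16_2 F19836 D7982 (iv D7982)
def n7983 : Q := act 4 n6332
theorem D7983 : act 4 n6332 = n7983 := rfl
theorem F25235 : act 0 n7983 = n7020 := d3_1 D7983 F22247 (iv F19834)
theorem F25236 : act 1 n7983 = n6334 := d9_1 D7983 (iv D6334) (iv F19835)
theorem F25237 : act 6 n7983 = n7983 := d23_2 F19836 D7983 (iv D7983)
def n7984 : Q := act 5 n6332
theorem D7984 : act 5 n6332 = n7984 := rfl
theorem F25238 : act 0 n7984 = n7011 := d4_1 D7984 F22208 (iv F19834)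
theorem F25239 : act 1 n7984 = n7203 := d10_1 D7984 F22811 F17712 (iv F14857) (iv F19835)
theorem F25240 : act 3 n7984 = n6333 := d19_1 D7984 (iv D6333) D6332
def n7985 : Q := act 6 n6333
theorem D7985 : act 6 n6333 = n7985 := rfl
theorem F25241 : act 1 n7985 = n7292 := d11_1 D7985 (iv D7292) (iv F19837)
theorem F25242 : act 5 n7985 = n7985 := d25_1 D7985 (iv D7985) (iv D6333) F14853 D6333
def n7986 : Q := act 7 n6339
theorem D7986 : act 7 n6339 = n7986 := rfl
theorem F25243 : act 0 n7986 = n7986 := d6_1 D7986 (iv D7986) F19853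
theorem F25244 : act 1 n7986 = n6404 := d12_1 D7986 F24666 F24663
theorem F25245 : act 4 n7986 = n6414 := d24_1 D7986 F25222 F25220
theorem F25246 : act 5 n7986 = n7986 := d26_1 D7986 (iv D7986) F19854
theorem F25247 : act 6 n7986 = n7986 := d27_1 D7986 (iv D7986) (iv D6339) F14867 D6339
def n7987 : Q := act 1 n6342
theorem D7987 : act 1 n6342 = n7987 := rfl
theorem F25248 : act 3 n7987 = n7665 := d8_2 (iv F19866) D7987 (iv D7665)
theorem F25249 : act 6 n7987 = n7348 := d11_2 (iv F19867) D7987 F23238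
theorem F25250 : act 0 n7382 = n7987 := d5_3 F25249 F23237 D7382
def n7988 : Q := act 3 n6345
theorem D7988 : act 3 n6345 = n7988 := rfl
theorem F25251 : act 0 n7988 = n7988 := d2_1 D7988 (iv D7988) F19877
theorem F25252 : act 1 n7988 = n6367 := d8_1 D7988 (iv D6367) (iv F19878)
theorem F25253 : act 2 n7988 = n7550 := d13_1 D7988 F23917 (iv F23824) F23825 (iv F19879)
theorem F25254 : act 4 n7988 = n7977 := d18_2 F21788 D7988 F25213 F19816 (iv F19849)
theorem F25255 : act 5 n7988 = n7976 := d19_2 F21794 D7988 F25210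
theorem F25256 : act 6 n7988 = n7548 := d20_2 (iv F19880) D7988 F23909
theorem F25257 : act 7 n7988 = n6348 := d21_2 D6345 D7988 (iv D6348) (iv D4816) (iv F14890)
def n7989 : Q := act 3 n6347
theorem D7989 : act 3 n6347 = n7989 := rfl
theorem F25258 : act 0 n7989 = n7989 := d2_1 D7989 (iv D7989) F19883
theorem F25259 : act 1 n7989 = n7980 := d8_1 D7989 F25225 F23275
theorem F25260 : act 5 n7989 = n6348 := d19_2 (iv F19886) D7989 (iv D6348)
theorem F25261 : act 7 n7989 = n7976 := d21_2 D6347 D7989 F25210 (iv F21793) F19875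
theorem F25262 : act 4 n7978 = n7989 := d28_1 F25214 (iv D7989) F19884 (iv F19892) F19894 F14912 (iv F16624) F16628 F16627 F13503 F9666 (iv D2317) F6698 (iv F9671) (iv D3139) (iv F9662) (iv F13498) F13497 F17256 (iv F19914) F19911 (iv F23509) F23508 F23507 F18305 (iv D4392) (iv D3143) (iv F9675) (iv F13555) F13554 F10293 D4638 F14340 (iv F14453) (iv F19337) F19340 F19225 D7462 F23626 (iv F23673) (iv F24247) F24244 F24246 F18957 (iv F18981) (iv F23406) F23408 F23409 F19855 F14874 F10720 F12861 F12857 (iv D3058) (iv D2098) (iv F6480) (iv F9413) D4274 D5735 D7314 F23128 F25217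
def n7990 : Q := act 2 n6348
theorem D7990 : act 2 n6348 = n7990 := rfl
theorem F25263 : act 0 n7990 = n7990 := d1_1 D7990 (iv D7990) F19887
theorem F25264 : act 3 n7990 = n6353 := d13_2 D6348 D7990 (iv D6353) (iv D4819) (iv F14896)
theorem F25265 : act 6 n7990 = n7990 := d16_2 F19889 D7990 (iv D7990)
theorem F25266 : act 7 n7990 = n7550 := d17_2 F25257 D7990 (iv F25253)
def n7991 : Q := act 4 n6348
theorem D7991 : act 4 n6348 = n7991 := rfl
theorem F25267 : act 0 n7991 = n7991 := d3_1 D7991 (iv D7991) F19887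
theorem F25268 : act 1 n7991 = n6376 := d9_1 D7991 (iv D6376) (iv F19888)
theorem F25269 : act 3 n7991 = n7991 := d18_1 D7991 (iv D7991) (iv D6348) F14897 D6348
theorem F25270 : act 5 n7991 = n7978 := d22_2 F25260 D7991 F25262
theorem F25271 : act 6 n7991 = n7991 := d23_2 F19889 D7991 (iv D7991)
theorem F25272 : act 7 n7991 = n7977 := d24_2 F25257 D7991 (iv F25254)
def n7992 : Q := act 3 n6349
theorem D7992 : act 3 n6349 = n7992 := rfl
theorem F25273 : act 5 n7992 = n6354 := d19_2 (iv F19891) D7992 (iv D6354)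
def n7993 : Q := act 3 n6350
theorem D7993 : act 3 n6350 = n7993 := rfl
theorem F25274 : act 0 n7993 = n7421 := d2_1 D7993 F23709 F23703
theorem F25275 : act 1 n7993 = n6351 := d8_1 D7993 (iv D6351) (iv F19892)
theorem F25276 : act 2 n7993 = n7433 := d13_1 D7993 F23544 (iv F21854) (iv F23321) F23320
theorem F25277 : act 5 n7993 = n6356 := d19_2 (iv F19894) D7993 (iv D6356)
theorem F25278 : act 6 n7993 = n7419 := d20_2 F23305 D7993 F23505
theorem F25279 : act 4 n7750 = n7993 := d28_1 (iv F24500) (iv D7993) (iv F23320) F23319 D7366 F23338 F18123 F13433 (iv F17542) F17541 F13368 F9591 (iv F12856) (iv F17516) F17518 D5588 (iv F17535) (iv F19851) (iv F21790) (iv D6343) F14881 (iv D4813) (iv D3489) (iv D2436) (iv D1667) (iv D1134) D1135 F3598 F2511 F3185 (iv F4646) F4645 F3176 D1088 (iv F4968) F4970 F4610 F4608 (iv F4025) F4027 (iv F4028) F3421 (iv F2792) F2791 (iv F2783) F2782 D1277 F4053 (iv F5865) F5868 F4180 F4179 D1312 F4185 (iv F3263) F2435 (iv F3447) (iv F4974) D2329 (iv F10294)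 D4639 D6142
def n7994 : Q := act 2 n6351
theorem D7994 : act 2 n6351 = n7994 := rfl
theorem F25280 : act 0 n7994 = n7994 := d1_1 D7994 (iv D7994) F19895
theorem F25281 : act 5 n7994 = n6353 := d15_2 (iv F19896) D7994 (iv D6353)
theorem F25282 : act 7 n7994 = n7552 := d17_2 F23939 D7994 (iv F23935)
def n7995 : Q := act 6 n6351
theorem D7995 : act 6 n6351 = n7995 := rfl
theorem F25283 : act 0 n7995 = n7995 := d5_1 D7995 (iv D7995) F19895
theorem F25284 : act 1 n7995 = n7419 := d11_1 D7995 (iv F25278) F25275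
theorem F25285 : act 3 n7995 = n6352 := d20_1 D7995 (iv D6352) D6351
theorem F25286 : act 4 n7995 = n7749 := d23_1 D7995 F24499 F23944
theorem F25287 : act 5 n7995 = n7995 := d25_1 D7995 (iv D7995) F19896 F14906 (iv F19896)
def n7996 : Q := act 1 n6353
theorem D7996 : act 1 n6353 = n7996 := rfl
theorem F25288 : act 2 n7996 = n6357 := d7_2 D6353 D7996 (iv D6357) (iv D4823) (iv F14905)
theorem F25289 : act 6 n7996 = n7996 := d11_2 F19901 D7996 (iv D7996)
theorem F25290 : act 7 n7996 = n7050 := d12_2 (iv F19902) D7996 F22334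
theorem F25291 : act 0 n7058 = n7996 := d6_3 F25290 F22333 D7058
def n7997 : Q := act 4 n6354
theorem D7997 : act 4 n6354 = n7997 := rfl
theorem F25292 : act 1 n7997 = n6385 := d9_1 D7997 (iv D6385) (iv F19903)
theorem F25293 : act 3 n7997 = n7997 := d18_1 D7997 (iv D7997) (iv D6354) F14908 D6354
theorem F25294 : act 6 n7997 = n6358 := d23_2 (iv F19904) D7997 (iv D6358)
def n7998 : Q := act 7 n6354
theorem D7998 : act 7 n6354 = n7998 := rfl
theorem F25295 : act 0 n7998 = n6916 := d6_1 D7998 F23689 F23685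
theorem F25296 : act 1 n7998 = n6386 := d12_1 D7998 (iv D6386) (iv F19903)
theorem F25297 : act 3 n7998 = n6913 := d21_1 D7998 (iv D6913) F19910 (iv D6355) D6354
def n7999 : Q := act 5 n6357
theorem D7999 : act 5 n6357 = n7999 := rfl
theorem F25298 : act 0 n7999 = n7059 := d4_1 D7999 F22360 (iv F19915)
theorem F25299 : act 1 n7999 = n7083 := d10_1 D7999 (iv D7083) F17233 (iv F14919) D6357
theorem F25300 : act 3 n7999 = n6390 := d19_1 D7999 (iv D6390) (iv F19916)
theorem F25301 : act 7 n7999 = n7051 := d26_2 (iv F19918) D7999 (iv D7051)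
def n8000 : Q := act 7 n6358
theorem D8000 : act 7 n6358 = n8000 := rfl
theorem F25302 : act 1 n8000 = n6392 := d12_1 D8000 (iv D6392) (iv F19919)
theorem F25303 : act 4 n8000 = n6359 := d24_1 D8000 (iv D6359) D6358
def n8001 : Q := act 3 n6359
theorem D8001 : act 3 n6359 = n8001 := rfl
theorem F25304 : act 1 n8001 = n6393 := d8_1 D8001 (iv D6393) (iv F19921)
theorem F25305 : act 7 n8001 = n6360 := d21_2 D6359 D8001 (iv D6360) (iv D4825) D4824
theorem F25306 : act 2 n6826 = n8001 := d17_3 F25305 F19923 D6826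
def n8002 : Q := act 6 n6359
theorem D8002 : act 6 n6359 = n8002 := rfl
theorem F25307 : act 1 n8002 = n6394 := d11_1 D8002 (iv D6394) (iv F19921)
def n8003 : Q := act 4 n6360
theorem D8003 : act 4 n6360 = n8003 := rfl
theorem F25308 : act 1 n8003 = n6395 := d9_1 D8003 (iv D6395) (iv F19922)
theorem F25309 : act 2 n8003 = n6781 := d14_1 D8003 F21351 (iv F19923)
theorem F25310 : act 3 n8003 = n8003 := d18_1 D8003 (iv D8003) (iv D6360) F14925 D6360
theorem F25311 : act 6 n8003 = n6812 := d23_2 (iv F19924) D8003 (iv D6812)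
def n8004 : Q := act 6 n6362
theorem D8004 : act 6 n6362 = n8004 := rfl
theorem F25312 : act 0 n8004 = n6401 := d5_1 D8004 (iv D6401) (iv F19929)
theorem F25313 : act 1 n8004 = n7658 := d11_1 D8004 F24258 (iv F21787)
theorem F25314 : act 3 n8004 = n7806 := d20_1 D8004 (iv D7806) F21786
theorem F25315 : act 4 n8004 = n6368 := d23_1 D8004 (iv D6368) (iv F19930)
theorem F25316 : act 7 n8004 = n6364 := d27_2 D6362 D8004 (iv D6364) (iv D4827) D4826
def n8005 : Q := act 2 n6363
theorem D8005 : act 2 n6363 = n8005 := rfl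
theorem F25317 : act 0 n8005 = n6402 := d1_1 D8005 (iv D6402) (iv F19931)
theorem F25318 : act 1 n8005 = n8005 := d7_1 D8005 (iv D8005) F19932 F18963 (iv F19932)
theorem F25319 : act 4 n8005 = n8005 := d14_2 F19933 D8005 (iv D8005)
theorem F25320 : act 5 n8005 = n8005 := d15_2 F19934 D8005 (iv D8005)
theorem F25321 : act 7 n8005 = n8005 := d17_2 F19935 D8005 (iv D8005)
def n8006 : Q := act 6 n6363
theorem D8006 : act 6 n6363 = n8006 := rfl
theorem F25322 : act 0 n8006 = n6403 := d5_1 D8006 (iv D6403) (iv F19931)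
theorem F25323 : act 1 n8006 = n7657 := d11_1 D8006 (iv D7657) (iv F19932)
theorem F25324 : act 3 n8006 = n6364 := d20_1 D8006 (iv D6364) D6363
theorem F25325 : act 4 n8006 = n8006 := d23_1 D8006 (iv D8006) F19933
def n8007 : Q := act 5 n6364
theorem D8007 : act 5 n6364 = n8007 := rfl
theorem F25326 : act 0 n8007 = n6404 := d4_1 D8007 (iv D6404) (iv F19936)
theorem F25327 : act 1 n8007 = n8007 := d10_1 D8007 (iv D8007) F19937 F18970 (iv F19937)
theorem F25328 : act 4 n8007 = n6369 := d22_1 D8007 (iv D6369) (iv F19938)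
theorem F25329 : act 6 n8007 = n8007 := d25_2 D6364 D8007 (iv D8007) (iv D6364) F14933
def n8008 : Q := act 3 n6366
theorem D8008 : act 3 n6366 = n8008 := rfl
theorem F25330 : act 0 n8008 = n6408 := d2_1 D8008 (iv D6408) (iv F19941)
theorem F25331 : act 1 n8008 = n7802 := d8_1 D8008 F24645 (iv F21795)
theorem F25332 : act 4 n8008 = n7800 := d18_2 F21796 D8008 (iv D7800) F19306 D6168
theorem F25333 : act 5 n8008 = n6367 := d19_2 (iv F19942) D8008 (iv D6367)
theorem F25334 : act 7 n8008 = n6373 := d21_2 D6366 D8008 (iv D6373) (iv D4832) (iv F14935)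
def n8009 : Q := act 2 n6367
theorem D8009 : act 2 n6367 = n8009 := rfl
theorem F25335 : act 0 n8009 = n6410 := d1_1 D8009 (iv D6410) (iv F19943)
theorem F25336 : act 3 n8009 = n7432 := d13_2 D6367 D8009 F24782 (iv D7843) F19413
theorem F25337 : act 7 n8009 = n6375 := d17_2 (iv F19944) D8009 (iv D6375)
def n8010 : Q := act 4 n6367
theorem D8010 : act 4 n6367 = n8010 := rfl
theorem F25338 : act 0 n8010 = n6411 := d3_1 D8010 (iv D6411) (iv F19943)
theorem F25339 : act 1 n8010 = n7977 := d9_1 D8010 (iv F25254) F25252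
theorem F25340 : act 3 n8010 = n7801 := d18_1 D8010 F24641 F21786 F19930 D6367
theorem F25341 : act 5 n8010 = n7800 := d22_2 F25333 D8010 (iv F25332)
theorem F25342 : act 7 n8010 = n6376 := d24_2 (iv F19944) D8010 (iv D6376)
def n8011 : Q := act 6 n6367
theorem D8011 : act 6 n6367 = n8011 := rfl
theorem F25343 : act 0 n8011 = n6412 := d5_1 D8011 (iv D6412) (iv F19943)
theorem F25344 : act 1 n8011 = n7548 := d11_1 D8011 (iv F25256) F25252
theorem F25345 : act 3 n8011 = n6368 := d20_1 D8011 (iv D6368) D6367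
theorem F25346 : act 7 n8011 = n8011 := d27_2 (iv F19944) D8011 (iv D8011) F19944 F14948
def n8012 : Q := act 5 n6368
theorem D8012 : act 5 n6368 = n8012 := rfl
theorem F25347 : act 0 n8012 = n6413 := d4_1 D8012 (iv D6413) (iv F19945)
theorem F25348 : act 1 n8012 = n8012 := d10_1 D8012 (iv D8012) F19946 F18979 (iv F19946)
theorem F25349 : act 7 n8012 = n6369 := d26_2 (iv F19947) D8012 (iv D6369)
def n8013 : Q := act 3 n6371
theorem D8013 : act 3 n6371 = n8013 := rfl
theorem F25350 : act 1 n8013 = n6377 := d8_1 D8013 (iv D6377) (iv F19955)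
theorem F25351 : act 6 n8013 = n8013 := d20_2 F19957 D8013 (iv D8013)
def n8014 : Q := act 3 n6372
theorem D8014 : act 3 n6372 = n8014 := rfl
theorem F25352 : act 0 n8014 = n7804 := d2_1 D8014 F24655 F21813
theorem F25353 : act 1 n8014 = n6373 := d8_1 D8014 (iv D6373) (iv F19958)
theorem F25354 : act 5 n8014 = n7980 := d19_2 (iv F23279) D8014 F25225
theorem F25355 : act 7 n8014 = n7802 := d21_2 D6372 D8014 F24645 F19328 F21771
theorem F25356 : act 4 n7803 = n8014 := d24_3 F25355 (iv D7802) D7803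
def n8015 : Q := act 2 n6373
theorem D8015 : act 2 n6373 = n8015 := rfl
theorem F25357 : act 0 n8015 = n6418 := d1_1 D8015 (iv D6418) (iv F19960)
theorem F25358 : act 3 n8015 = n6380 := d13_2 D6373 D8015 (iv D6380) (iv D4836) (iv F14944)
theorem F25359 : act 5 n8015 = n6375 := d15_2 (iv F19961) D8015 (iv D6375)
def n8016 : Q := act 4 n6373
theorem D8016 : act 4 n6373 = n8016 := rfl
theorem F25360 : act 0 n8016 = n6419 := d3_1 D8016 (iv D6419) (iv F19960)
theorem F25361 : act 1 n8016 = n7803 := d9_1 D8016 F25356 F25353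
theorem F25362 : act 3 n8016 = n8016 := d18_1 D8016 (iv D8016) (iv D6373) F14945 D6373
theorem F25363 : act 5 n8016 = n6376 := d22_2 (iv F19961) D8016 (iv D6376)
theorem F25364 : act 7 n8016 = n7800 := d24_2 F25334 D8016 (iv F25332)
def n8017 : Q := act 6 n6373
theorem D8017 : act 6 n6373 = n8017 := rfl
theorem F25365 : act 0 n8017 = n6420 := d5_1 D8017 (iv D6420) (iv F19960)
theorem F25366 : act 3 n8017 = n6374 := d20_1 D8017 (iv D6374) D6373
theorem F25367 : act 5 n8017 = n8017 := d25_1 D8017 (iv D8017) F19961 F14948 (iv F19961)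
def n8018 : Q := act 1 n6375
theorem D8018 : act 1 n6375 = n8018 := rfl
theorem F25368 : act 3 n8018 = n6383 := d8_2 (iv F19968) D8018 (iv D6383)
theorem F25369 : act 6 n8018 = n8018 := d11_2 F19969 D8018 (iv D8018)
def n8019 : Q := act 4 n6375
theorem D8019 : act 4 n6375 = n8019 := rfl
theorem F25370 : act 0 n8019 = n6422 := d3_1 D8019 (iv D6422) (iv F19967)
theorem F25371 : act 2 n8019 = n6376 := d14_1 D8019 (iv D6376) D6375
theorem F25372 : act 3 n8019 = n7864 := d18_1 D8019 F24843 (iv F21811) (iv D6384) (iv F19968)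
theorem F25373 : act 6 n8019 = n8019 := d23_2 F19969 D8019 (iv D8019)
def n8020 : Q := act 4 n6377
theorem D8020 : act 4 n6377 = n8020 := rfl
theorem F25374 : act 0 n8020 = n8020 := d3_1 D8020 (iv D8020) F19973
theorem F25375 : act 3 n8020 = n8020 := d18_1 D8020 (iv D8020) (iv D6377) F14950 D6377
theorem F25376 : act 5 n8020 = n6385 := d22_2 (iv F19974) D8020 (iv D6385)
theorem F25377 : act 6 n8020 = n8020 := d23_2 F19975 D8020 (iv D8020)
def n8021 : Q := act 7 n6377
theorem D8021 : act 7 n6377 = n8021 := rfl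
theorem F25378 : act 0 n8021 = n8021 := d6_1 D8021 (iv D8021) F19973
theorem F25379 : act 5 n8021 = n6386 := d26_1 D8021 (iv D6386) (iv F19974)
def n8022 : Q := act 3 n6378
theorem D8022 : act 3 n6378 = n8022 := rfl
theorem F25380 : act 0 n8022 = n8022 := d2_1 D8022 (iv D8022) F19976
theorem F25381 : act 2 n8022 = n7323 := d13_1 D8022 F23155 F17995 (iv F14955) (iv F19977)
theorem F25382 : act 5 n8022 = n6387 := d19_2 (iv F19979) D8022 (iv D6387)
theorem F25383 : act 6 n8022 = n6929 := d20_2 F23345 D8022 (iv F23342)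
def n8023 : Q := act 1 n6380
theorem D8023 : act 1 n6380 = n8023 := rfl
theorem F25384 : act 2 n8023 = n7325 := d7_2 D6380 D8023 (iv D7325) F17995 (iv F14959)
theorem F25385 : act 7 n8023 = n7406 := d12_2 (iv F19988) D8023 F23471
def n8024 : Q := act 4 n6380
theorem D8024 : act 4 n6380 = n8024 := rfl
theorem F25386 : act 0 n8024 = n6424 := d3_1 D8024 (iv D6424) (iv F19986)
theorem F25387 : act 2 n8024 = n6381 := d14_1 D8024 (iv D6381) D6380
theorem F25388 : act 5 n8024 = n6384 := d22_2 (iv F19987) D8024 (iv D6384)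
theorem F25389 : act 7 n8024 = n7409 := d24_2 (iv F19988) D8024 F23478
theorem F25390 : act 3 n7505 = n8024 := d19_3 F25388 F21811 (iv F23770)
def n8025 : Q := act 6 n6380
theorem D8025 : act 6 n6380 = n8025 := rfl
theorem F25391 : act 0 n8025 = n6425 := d5_1 D8025 (iv D6425) (iv F19986)
theorem F25392 : act 2 n8025 = n6382 := d16_1 D8025 (iv D6382) D6380
theorem F25393 : act 5 n8025 = n8025 := d25_1 D8025 (iv D8025) F19987 F14967 (iv F19987)
def n8026 : Q := act 6 n6381
theorem D8026 : act 6 n6381 = n8026 := rfl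
theorem F25394 : act 0 n8026 = n6426 := d5_1 D8026 (iv D6426) (iv F19989)
theorem F25395 : act 1 n8026 = n6891 := d11_1 D8026 F21727 (iv F19990)
theorem F25396 : act 3 n8026 = n8026 := d20_1 D8026 (iv D8026) F19991
theorem F25397 : act 4 n8026 = n6382 := d23_1 D8026 (iv D6382) D6381
theorem F25398 : act 5 n8026 = n8026 := d25_1 D8026 (iv D8026) F19992 F14972 (iv F19992)
theorem F25399 : act 7 n8026 = n6893 := d27_2 (iv F19993) D8026 F21735 (iv F21457) F21456
def n8027 : Q := act 7 n6382
theorem D8027 : act 7 n6382 = n8027 := rfl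
theorem F25400 : act 0 n8027 = n6427 := d6_1 D8027 (iv D6427) (iv F19994)
theorem F25401 : act 1 n8027 = n6889 := d12_1 D8027 F21719 (iv F19995)
theorem F25402 : act 3 n8027 = n8027 := d21_1 D8027 (iv D8027) F19996 F14965 (iv F19996)
theorem F25403 : act 4 n8027 = n6893 := d24_1 D8027 (iv F25399) F25397
theorem F25404 : act 5 n8027 = n8027 := d26_1 D8027 (iv D8027) F19997
theorem F25405 : act 6 n8027 = n6890 := d27_1 D8027 F21723 F18238 (iv F14961) D6382
def n8028 : Q := act 0 n6383
theorem D8028 : act 0 n6383 = n8028 := rfl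
theorem F25406 : act 1 n8028 = n6428 := d0_2 D6383 D8028 (iv D6428) (iv D4868) (iv F14966)
theorem F25407 : act 2 n8028 = n6388 := d1_2 (iv F19998) D8028 (iv D6388)
theorem F25408 : act 6 n8028 = n8028 := d5_2 F19999 D8028 (iv D8028)
theorem F25409 : act 7 n8028 = n7228 := d6_2 (iv F20000) D8028 F22885
theorem F25410 : act 4 n7841 = n8028 := d9_0 F25406 (iv F21810) D7841
def n8029 : Q := act 4 n6383
theorem D8029 : act 4 n6383 = n8029 := rfl
theorem F25411 : act 0 n8029 = n7841 := d3_1 D8029 F25410 (iv D8028)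
theorem F25412 : act 1 n8029 = n6384 := d9_1 D8029 (iv D6384) D6383
theorem F25413 : act 2 n8029 = n6389 := d14_1 D8029 (iv D6389) (iv F19998)
theorem F25414 : act 6 n8029 = n8029 := d23_2 F19999 D8029 (iv D8029)
theorem F25415 : act 7 n8029 = n7222 := d24_2 (iv F20000) D8029 F22870
theorem F25416 : act 3 n7846 = n8029 := d8_0 F25412 F21811 (iv F24790)
def n8030 : Q := act 5 n6383
theorem D8030 : act 5 n6383 = n8030 := rfl
theorem F25417 : act 2 n8030 = n6390 := d15_1 D8030 (iv D6390) (iv F19998)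
theorem F25418 : act 7 n8030 = n7204 := d26_2 (iv F20000) D8030 F22812
def n8031 : Q := act 7 n6385
theorem D8031 : act 7 n6385 = n8031 := rfl
theorem F25419 : act 0 n8031 = n8031 := d6_1 D8031 (iv D8031) F20005
theorem F25420 : act 4 n8031 = n6386 := d24_1 D8031 (iv D6386) D6385
def n8032 : Q := act 3 n6386
theorem D8032 : act 3 n6386 = n8032 := rfl
theorem F25421 : act 0 n8032 = n8032 := d2_1 D8032 (iv D8032) F20008
theorem F25422 : act 1 n8032 = n6913 := d8_1 D8032 (iv F25297) F25296
theorem F25423 : act 2 n8032 = n7324 := d13_1 D8032 F23157 (iv F23453) (iv F24818) F24817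
theorem F25424 : act 7 n8032 = n6387 := d21_2 D6386 D8032 (iv D6387) (iv D4841) D4840
def n8033 : Q := act 6 n6386
theorem D8033 : act 6 n6386 = n8033 := rfl
theorem F25425 : act 0 n8033 = n8033 := d5_1 D8033 (iv D8033) F20008
theorem F25426 : act 7 n8033 = n6394 := d27_2 D6386 D8033 (iv D6394) (iv D4845) (iv F14975)
def n8034 : Q := act 4 n6387
theorem D8034 : act 4 n6387 = n8034 := rfl
theorem F25427 : act 0 n8034 = n8034 := d3_1 D8034 (iv D8034) F20009
theorem F25428 : act 1 n8034 = n6911 := d9_1 D8034 F21851 (iv F20010)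
theorem F25429 : act 2 n8034 = n7322 := d14_1 D8034 F23153 (iv F20011)
theorem F25430 : act 3 n8034 = n8034 := d18_1 D8034 (iv D8034) (iv D6387) F14978 D6387
theorem F25431 : act 6 n8034 = n6910 := d23_2 (iv F20012) D8034 F21845
def n8035 : Q := act 4 n6388
theorem D8035 : act 4 n6388 = n8035 := rfl
theorem F25432 : act 0 n8035 = n6389 := d3_1 D8035 (iv D6389) D6388
theorem F25433 : act 1 n8035 = n6396 := d9_1 D8035 (iv D6396) (iv F20013)
theorem F25434 : act 2 n8035 = n7841 := d14_1 D8035 F25410 F25407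
theorem F25435 : act 6 n8035 = n8035 := d23_2 F20015 D8035 (iv D8035)
theorem F25436 : act 7 n8035 = n7221 := d24_2 (iv F20016) D8035 F22867
def n8036 : Q := act 5 n6388
theorem D8036 : act 5 n6388 = n8036 := rfl
theorem F25437 : act 0 n8036 = n6390 := d4_1 D8036 (iv D6390) D6388
theorem F25438 : act 3 n8036 = n7059 := d19_1 D8036 F22360 (iv F20014)
theorem F25439 : act 7 n8036 = n7203 := d26_2 (iv F20016) D8036 F22811
def n8037 : Q := act 3 n6389
theorem D8037 : act 3 n6389 = n8037 := rfl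
theorem F25440 : act 1 n8037 = n6391 := d8_1 D8037 (iv D6391) (iv F20017)
theorem F25441 : act 6 n8037 = n8037 := d20_2 F20018 D8037 (iv D8037)
def n8038 : Q := act 5 n6389
theorem D8038 : act 5 n6389 = n8038 := rfl
theorem F25442 : act 1 n8038 = n7077 := d10_1 D8038 (iv D7077) F17215 (iv F14984) (iv F20017)
theorem F25443 : act 4 n8038 = n6390 := d22_1 D8038 (iv D6390) D6389
theorem F25444 : act 7 n8038 = n7185 := d26_2 (iv F20019) D8038 F22764
def n8039 : Q := act 6 n6390
theorem D8039 : act 6 n6390 = n8039 := rfl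
theorem F25445 : act 1 n8039 = n7080 := d11_1 D8039 F22420 (iv F20020)
theorem F25446 : act 5 n8039 = n8039 := d25_1 D8039 (iv D8039) (iv D6390) F14980 D6390
def n8040 : Q := act 3 n6392
theorem D8040 : act 3 n6392 = n8040 := rfl
theorem F25447 : act 0 n8040 = n8040 := d2_1 D8040 (iv D8040) F20026
theorem F25448 : act 2 n8040 = n8040 := d13_1 D8040 (iv D8040) (iv F24820) F24821 F24820
theorem F25449 : act 5 n8040 = n8040 := d19_2 F20028 D8040 (iv D8040)
theorem F25450 : act 7 n8040 = n8040 := d21_2 D6392 D8040 (iv D8040) (iv D6392) F14988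
def n8041 : Q := act 6 n6392
theorem D8041 : act 6 n6392 = n8041 := rfl
theorem F25451 : act 0 n8041 = n8041 := d5_1 D8041 (iv D8041) F20026
theorem F25452 : act 4 n8041 = n6394 := d23_1 D8041 (iv D6394) (iv F20027)
def n8042 : Q := act 4 n6393
theorem D8042 : act 4 n6393 = n8042 := rfl
theorem F25453 : act 0 n8042 = n8042 := d3_1 D8042 (iv D8042) F20029
theorem F25454 : act 2 n8042 = n6788 := d14_1 D8042 F21379 (iv F20030)
theorem F25455 : act 5 n8042 = n8042 := d22_2 F20031 D8042 (iv D8042)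
theorem F25456 : act 7 n8042 = n6395 := d24_2 (iv F20032) D8042 (iv D6395)
def n8043 : Q := act 6 n6393
theorem D8043 : act 6 n6393 = n8043 := rfl
theorem F25457 : act 0 n8043 = n8043 := d5_1 D8043 (iv D8043) F20029
theorem F25458 : act 2 n8043 = n6810 := d16_1 D8043 F21453 (iv F20030)
theorem F25459 : act 3 n8043 = n6394 := d20_1 D8043 (iv D6394) D6393
theorem F25460 : act 7 n8043 = n6807 := d27_2 (iv F20032) D8043 (iv D6807) F16289 (iv F14995)
def n8044 : Q := act 5 n6394
theorem D8044 : act 5 n6394 = n8044 := rfl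
theorem F25461 : act 0 n8044 = n8044 := d4_1 D8044 (iv D8044) F20033
theorem F25462 : act 6 n8044 = n8044 := d25_2 D6394 D8044 (iv D8044) (iv D6394) F14991
def n8045 : Q := act 3 n6396
theorem D8045 : act 3 n6396 = n8045 := rfl
theorem F25463 : act 0 n8045 = n6397 := d2_1 D8045 (iv D6397) (iv F20039)
theorem F25464 : act 2 n8045 = n8013 := d13_1 D8045 (iv D8013) (iv D6371) (iv F21771) (iv F20040)
theorem F25465 : act 4 n8045 = n7056 := d18_2 D6396 D8045 (iv D7056) F17173 (iv F14997)
theorem F25466 : act 6 n8045 = n8045 := d20_2 F20041 D8045 (iv D8045)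
def n8046 : Q := act 2 n6397
theorem D8046 : act 2 n6397 = n8046 := rfl
theorem F25467 : act 0 n8046 = n8013 := d1_1 D8046 (iv F25464) F25463
theorem F25468 : act 1 n8046 = n8046 := d7_1 D8046 (iv D8046) F20043 F15004 (iv F20043)
theorem F25469 : act 3 n8046 = n6439 := d13_2 D6397 D8046 (iv D6439) (iv D4875) (iv F15001)
theorem F25470 : act 4 n8046 = n7060 := d14_2 (iv F20044) D8046 (iv D7060)
theorem F25471 : act 5 n8046 = n7387 := d15_2 F22712 D8046 F23413
theorem F25472 : act 6 n8046 = n8046 := d16_2 F20045 D8046 (iv D8046)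
theorem F25473 : act 7 n8046 = n7130 := d17_2 (iv F22543) D8046 F22589
def n8047 : Q := act 2 n6400
theorem D8047 : act 2 n6400 = n8047 := rfl
theorem F25474 : act 0 n8047 = n7739 := d1_1 D8047 F24477 (iv F21785)
theorem F25475 : act 5 n8047 = n7514 := d15_2 F21784 D8047 F23790
theorem F25476 : act 7 n8047 = n8047 := d17_2 F20053 D8047 (iv D8047)
def n8048 : Q := act 4 n6400
theorem D8048 : act 4 n6400 = n8048 := rfl
theorem F25477 : act 0 n8048 = n7801 := d3_1 D8048 F24641 (iv F21785)
theorem F25478 : act 1 n8048 = n8048 := d9_1 D8048 (iv D8048) F20052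
theorem F25479 : act 3 n8048 = n6411 := d18_1 D8048 (iv D6411) (iv D4856) (iv F15011) D6400
theorem F25480 : act 5 n8048 = n7516 := d22_2 F21784 D8048 (iv D7516)
theorem F25481 : act 7 n8048 = n8048 := d24_2 F20053 D8048 (iv D8048)
theorem F25482 : act 6 n8012 = n8048 := d25_0 F25480 F23797 F19942 D6368 D8012
def n8049 : Q := act 6 n6400
theorem D8049 : act 6 n6400 = n8049 := rfl
theorem F25483 : act 0 n8049 = n7806 := d5_1 D8049 (iv D7806) (iv F21785)
theorem F25484 : act 1 n8049 = n8049 := d11_1 D8049 (iv D8049) F20052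
theorem F25485 : act 3 n8049 = n6401 := d20_1 D8049 (iv D6401) D6400
theorem F25486 : act 4 n8049 = n8012 := d23_1 D8049 F25482 (iv D8048)
theorem F25487 : act 5 n8049 = n8004 := d25_1 D8049 (iv D8004) (iv F21782) F19320 F21784
theorem F25488 : act 7 n8007 = n8049 := d26_0 F25487 F25316 D8007
def n8050 : Q := act 1 n6402
theorem D8050 : act 1 n6402 = n8050 := rfl
theorem F25489 : act 0 n8050 = n8050 := d0_1 D8050 (iv D8050) (iv F25317) F25318 F25317
theorem F25490 : act 2 n8050 = n8050 := d7_2 D6402 D8050 (iv D8050) (iv D6402) F15012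
theorem F25491 : act 3 n8050 = n7584 := d8_2 F24891 D8050 (iv F24890)
theorem F25492 : act 4 n8050 = n8050 := d9_2 F20057 D8050 (iv D8050)
theorem F25493 : act 7 n8050 = n8050 := d12_2 F20059 D8050 (iv D8050)
theorem F25494 : act 6 n7583 = n8050 := d20_0 F25491 (iv D7584) D7583
def n8051 : Q := act 6 n6402
theorem D8051 : act 6 n6402 = n8051 := rfl
theorem F25495 : act 1 n8051 = n7583 := d11_1 D8051 F25494 (iv D8050)
theorem F25496 : act 2 n8051 = n6403 := d16_1 D8051 (iv D6403) D6402
theorem F25497 : act 3 n8051 = n7580 := d20_1 D8051 F24894 F24891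
theorem F25498 : act 4 n8051 = n8051 := d23_1 D8051 (iv D8051) F20057
def n8052 : Q := act 5 n6403
theorem D8052 : act 5 n6403 = n8052 := rfl
theorem F25499 : act 3 n8052 = n6404 := d19_1 D8052 (iv D6404) (iv F20061)
theorem F25500 : act 4 n8052 = n8052 := d22_1 D8052 (iv D8052) F20062
theorem F25501 : act 6 n8052 = n8052 := d25_2 D6403 D8052 (iv D8052) (iv D6403) F15014
theorem F25502 : act 7 n8006 = n8052 := d21_0 F25499 F24666 (iv F25314) F25316 (iv F25324)
def n8053 : Q := act 7 n6403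
theorem D8053 : act 7 n6403 = n8053 := rfl
theorem F25503 : act 0 n8053 = n8052 := d6_1 D8053 (iv F25502) F25322
theorem F25504 : act 1 n8053 = n8053 := d12_1 D8053 (iv D8053) F20060
theorem F25505 : act 3 n8053 = n8007 := d21_1 D8053 F25488 F25485 F20056 (iv F20061)
theorem F25506 : act 4 n8053 = n8053 := d24_1 D8053 (iv D8053) F20062
theorem F25507 : act 5 n8053 = n8006 := d26_1 D8053 F25502 (iv D8052)
theorem F25508 : act 6 n8053 = n8053 := d27_1 D8053 (iv D8053) (iv D6403) F15015 D6403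
def n8054 : Q := act 2 n6408
theorem D8054 : act 2 n6408 = n8054 := rfl
theorem F25509 : act 5 n8054 = n6410 := d15_2 (iv F20073) D8054 (iv D6410)
theorem F25510 : act 7 n8054 = n6418 := d17_2 (iv F20074) D8054 (iv D6418)
def n8055 : Q := act 4 n6408
theorem D8055 : act 4 n6408 = n8055 := rfl
theorem F25511 : act 0 n8055 = n7800 := d3_1 D8055 (iv F25332) F25330
theorem F25512 : act 1 n8055 = n7517 := d9_1 D8055 F23800 F21817
theorem F25513 : act 3 n8055 = n7516 := d18_1 D8055 (iv D7516) F18511 F21776 D6408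
theorem F25514 : act 5 n8055 = n6411 := d22_2 (iv F20073) D8055 (iv D6411)
theorem F25515 : act 6 n8055 = n8008 := d23_2 F24639 D8055 F25332
theorem F25516 : act 7 n8055 = n6419 := d24_2 (iv F20074) D8055 (iv D6419)
def n8056 : Q := act 1 n6410
theorem D8056 : act 1 n6410 = n8056 := rfl
theorem F25517 : act 2 n8056 = n8056 := d7_2 D6410 D8056 (iv D8056) (iv D6410) F15022
theorem F25518 : act 7 n8056 = n6421 := d12_2 (iv F20076) D8056 (iv D6421)
theorem F25519 : act 4 n7860 = n8056 := d24_3 F25518 (iv F21804) D7860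
theorem F25520 : act 5 n7857 = n8056 := d26_3 F25518 F21803 D7857
def n8057 : Q := act 4 n6410
theorem D8057 : act 4 n6410 = n8057 := rfl
theorem F25521 : act 1 n8057 = n7860 := d9_1 D8057 F25519 (iv D8056)
theorem F25522 : act 2 n8057 = n6411 := d14_1 D8057 (iv D6411) D6410
theorem F25523 : act 7 n8057 = n6422 := d24_2 (iv F20076) D8057 (iv D6422)
def n8058 : Q := act 6 n6410
theorem D8058 : act 6 n6410 = n8058 := rfl
theorem F25524 : act 2 n8058 = n6412 := d16_1 D8058 (iv D6412) D6410
theorem F25525 : act 7 n8058 = n8058 := d27_2 (iv F20076) D8058 (iv D8058) F20076 F15042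
def n8059 : Q := act 6 n6411
theorem D8059 : act 6 n6411 = n8059 := rfl
theorem F25526 : act 1 n8059 = n8059 := d11_1 D8059 (iv D8059) F20077
theorem F25527 : act 3 n8059 = n8012 := d20_1 D8059 F25482 F25479
theorem F25528 : act 4 n8059 = n6412 := d23_1 D8059 (iv D6412) D6411
theorem F25529 : act 5 n8059 = n8011 := d25_1 D8059 (iv D8011) (iv F25333) (iv F25515) F25514
theorem F25530 : act 7 n8059 = n8059 := d27_2 (iv F20078) D8059 (iv D8059) F20078 F15045
def n8060 : Q := act 5 n6412
theorem D8060 : act 5 n6412 = n8060 := rfl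
theorem F25531 : act 0 n8060 = n8059 := d4_1 D8060 F25529 F25343
theorem F25532 : act 3 n8060 = n6413 := d19_1 D8060 (iv D6413) (iv F20080)
theorem F25533 : act 4 n8060 = n8011 := d22_1 D8060 (iv F25529) F25528
theorem F25534 : act 6 n8060 = n8010 := d25_2 D6412 D8060 F25341 F24639 F20073
theorem F25535 : act 7 n8060 = n8060 := d26_2 F20081 D8060 (iv D8060)
def n8061 : Q := act 2 n6414
theorem D8061 : act 2 n6414 = n8061 := rfl
theorem F25536 : act 0 n8061 = n8061 := d1_1 D8061 (iv D8061) F20083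
theorem F25537 : act 5 n8061 = n8061 := d15_2 F20085 D8061 (iv D8061)
theorem F25538 : act 6 n8061 = n8061 := d16_2 F20086 D8061 (iv D8061)
def n8062 : Q := act 2 n6416
theorem D8062 : act 2 n6416 = n8062 := rfl
theorem F25539 : act 0 n8062 = n7672 := d1_1 D8062 F24311 F21814
theorem F25540 : act 3 n8062 = n8062 := d13_2 D6416 D8062 (iv D8062) (iv D6416) F15033
theorem F25541 : act 5 n8062 = n8062 := d15_2 F20092 D8062 (iv D8062)
theorem F25542 : act 7 n8062 = n7878 := d17_2 (iv F21816) D8062 F24884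
theorem F25543 : act 6 n7669 = n8062 := d27_5 F25542 F24886 F24631 F23132 D7669
def n8063 : Q := act 4 n6416
theorem D8063 : act 4 n6416 = n8063 := rfl
theorem F25544 : act 0 n8063 = n7519 := d3_1 D8063 F23809 F21814
theorem F25545 : act 1 n8063 = n6419 := d9_1 D8063 (iv D6419) (iv F20091)
theorem F25546 : act 3 n8063 = n8063 := d18_1 D8063 (iv D8063) (iv D6416) F15034 D6416
theorem F25547 : act 5 n8063 = n8063 := d22_2 F20092 D8063 (iv D8063)
theorem F25548 : act 7 n8063 = n7517 := d24_2 (iv F21816) D8063 F23800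
def n8064 : Q := act 6 n6416
theorem D8064 : act 6 n6416 = n8064 := rfl
theorem F25549 : act 0 n8064 = n7671 := d5_1 D8064 F24308 F21814
theorem F25550 : act 1 n8064 = n6420 := d11_1 D8064 (iv D6420) (iv F20091)
theorem F25551 : act 2 n8064 = n7669 := d16_1 D8064 F25543 (iv D8062)
theorem F25552 : act 3 n8064 = n6417 := d20_1 D8064 (iv D6417) D6416
theorem F25553 : act 7 n8064 = n7666 := d27_2 (iv F21816) D8064 F24652 (iv D7803) (iv F19533)
theorem F25554 : act 5 n7667 = n8064 := d26_3 F25553 (iv D7666) D7667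
def n8065 : Q := act 1 n6418
theorem D8065 : act 1 n6418 = n8065 := rfl
theorem F25555 : act 3 n8065 = n6423 := d8_2 (iv F20097) D8065 (iv D6423)
theorem F25556 : act 5 n8065 = n7487 := d10_2 (iv F20098) D8065 F23717 (iv F21803) (iv D6421)
theorem F25557 : act 4 n7489 = n8065 := d22_3 F25556 F23719 D7489
def n8066 : Q := act 4 n6418
theorem D8066 : act 4 n6418 = n8066 := rfl
theorem F25558 : act 1 n8066 = n7489 := d9_1 D8066 F25557 (iv D8065)
theorem F25559 : act 2 n8066 = n6419 := d14_1 D8066 (iv D6419) D6418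
theorem F25560 : act 3 n8066 = n7492 := d18_1 D8066 F23728 F21809 (iv D6424) (iv F20097)
theorem F25561 : act 5 n8066 = n6422 := d22_2 (iv F20098) D8066 (iv D6422)
def n8067 : Q := act 6 n6418
theorem D8067 : act 6 n6418 = n8067 := rfl
theorem F25562 : act 2 n8067 = n6420 := d16_1 D8067 (iv D6420) D6418
theorem F25563 : act 3 n8067 = n6425 := d20_1 D8067 (iv D6425) (iv F20097)
theorem F25564 : act 5 n8067 = n8067 := d25_1 D8067 (iv D8067) F20098 F15042 (iv F20098)
def n8068 : Q := act 6 n6419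
theorem D8068 : act 6 n6419 = n8068 := rfl
theorem F25565 : act 3 n8068 = n8068 := d20_1 D8068 (iv D8068) F20099
theorem F25566 : act 4 n8068 = n6420 := d23_1 D8068 (iv D6420) D6419
theorem F25567 : act 5 n8068 = n8068 := d25_1 D8068 (iv D8068) F20100 F15045 (iv F20100)
theorem F25568 : act 7 n8068 = n8017 := d27_2 F25516 D8068 (iv D8017) (iv F25334) (iv F25515)
def n8069 : Q := act 7 n6420
theorem D8069 : act 7 n6420 = n8069 := rfl
theorem F25569 : act 0 n8069 = n8068 := d6_1 D8069 F25568 F25365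
theorem F25570 : act 1 n8069 = n7666 := d12_1 D8069 (iv F25553) F25550
theorem F25571 : act 3 n8069 = n8069 := d21_1 D8069 (iv D8069) F20101 F15040 (iv F20101)
theorem F25572 : act 4 n8069 = n8017 := d24_1 D8069 (iv F25568) F25566
theorem F25573 : act 5 n8069 = n8069 := d26_1 D8069 (iv D8069) F20102
theorem F25574 : act 6 n8069 = n8016 := d27_1 D8069 F25364 F24639 F20074 D6420
def n8070 : Q := act 0 n6421
theorem D8070 : act 0 n6421 = n8070 := rfl
theorem F25575 : act 2 n8070 = n8070 := d1_2 F20103 D8070 (iv D8070)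
theorem F25576 : act 3 n8070 = n6428 := d2_2 (iv F20104) D8070 (iv D6428)
theorem F25577 : act 4 n8070 = n7829 := d3_2 F21804 D8070 F24731
theorem F25578 : act 5 n8070 = n7827 := d4_2 (iv F21803) D8070 F24723
theorem F25579 : act 6 n8070 = n8070 := d5_2 F20105 D8070 (iv D8070)
def n8071 : Q := act 0 n6423
theorem D8071 : act 0 n6423 = n8071 := rfl
theorem F25580 : act 2 n8071 = n8071 := d1_2 F20108 D8071 (iv D8071)
theorem F25581 : act 4 n8071 = n7472 := d3_2 F21807 D8071 F23661
theorem F25582 : act 5 n8071 = n7471 := d4_2 (iv F21802) D8071 F23658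
def n8072 : Q := act 6 n6423
theorem D8072 : act 6 n6423 = n8072 := rfl
theorem F25583 : act 1 n8072 = n6425 := d11_1 D8072 (iv D6425) D6423
theorem F25584 : act 2 n8072 = n8072 := d16_1 D8072 (iv D8072) F20108
theorem F25585 : act 4 n8072 = n6974 := d23_1 D8072 F22091 F21807
theorem F25586 : act 5 n8072 = n6973 := d25_1 D8072 (iv D6973) F16886 D5902 (iv F21802)
theorem F25587 : act 7 n7377 = n8072 := d26_0 F25586 F22088 D7377
def n8073 : Q := act 6 n6424
theorem D8073 : act 6 n6424 = n8073 := rfl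
theorem F25588 : act 1 n8073 = n6974 := d11_1 D8073 F22091 (iv F21808)
theorem F25589 : act 2 n8073 = n6426 := d16_1 D8073 (iv D6426) (iv F20109)
theorem F25590 : act 3 n8073 = n6976 := d20_1 D8073 F22098 F21809
theorem F25591 : act 4 n8073 = n6425 := d23_1 D8073 (iv D6425) D6424
theorem F25592 : act 5 n8073 = n8073 := d25_1 D8073 (iv D8073) F20110 F15056 (iv F20110)
def n8074 : Q := act 7 n6425
theorem D8074 : act 7 n6425 = n8074 := rfl
theorem F25593 : act 1 n8074 = n7377 := d12_1 D8074 F25587 F25583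
theorem F25594 : act 2 n8074 = n6427 := d17_1 D8074 (iv D6427) (iv F20111)
theorem F25595 : act 5 n8074 = n8074 := d26_1 D8074 (iv D8074) F20112
theorem F25596 : act 3 n7378 = n8074 := d8_0 F25593 F23375 D7378
def n8075 : Q := act 7 n6426
theorem D8075 : act 7 n6426 = n8075 := rfl
theorem F25597 : act 0 n8075 = n6893 := d6_1 D8075 (iv F25399) F25394
theorem F25598 : act 1 n8075 = n8075 := d12_1 D8075 (iv D8075) F20113
theorem F25599 : act 4 n8075 = n6427 := d24_1 D8075 (iv D6427) (iv F20115)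
theorem F25600 : act 5 n8075 = n8075 := d26_1 D8075 (iv D8075) F20116
theorem F25601 : act 6 n8075 = n6899 := d27_1 D8075 F24945 (iv D7901) F19514 D6426
def n8076 : Q := act 6 n6442
theorem D8076 : act 6 n6442 = n8076 := rfl
theorem F25602 : act 1 n8076 = n6443 := d11_1 D8076 (iv D6443) D6442
theorem F25603 : act 2 n8076 = n7193 := d16_1 D8076 F22785 (iv F20163)
theorem F25604 : act 7 n8076 = n7190 := d27_2 (iv F20164) D8076 (iv D7190) F17593 D5627
def n8077 : Q := act 5 n6444
theorem D8077 : act 5 n6444 = n8077 := rfl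
theorem F25605 : act 0 n8077 = n8077 := d4_1 D8077 (iv D8077) F20167
theorem F25606 : act 2 n8077 = n7570 := d15_1 D8077 F23982 (iv F20169)
theorem F25607 : act 3 n8077 = n6451 := d19_1 D8077 (iv D6451) (iv F20170)
theorem F25608 : act 6 n8077 = n6446 := d25_2 D6444 D8077 (iv D6446) (iv D4882) (iv F15082)
theorem F25609 : act 7 n8077 = n7567 := d26_2 (iv F20171) D8077 (iv D7567)
def n8078 : Q := act 5 n6445
theorem D8078 : act 5 n6445 = n8078 := rfl
theorem F25610 : act 0 n8078 = n8078 := d4_1 D8078 (iv D8078) F20172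
theorem F25611 : act 1 n8078 = n6940 := d10_1 D8078 F21950 F16809 (iv F16816) (iv F20173)
theorem F25612 : act 2 n8078 = n6446 := d15_1 D8078 (iv D6446) (iv F20174)
theorem F25613 : act 4 n8078 = n7953 := d22_1 D8078 F25126 (iv F20175)
theorem F25614 : act 6 n8078 = n7570 := d25_2 D6445 D8078 F23982 F18671 (iv F15088)
theorem F25615 : act 7 n8078 = n6939 := d26_2 (iv F20176) D8078 F21947
def n8079 : Q := act 3 n6447
theorem D8079 : act 3 n6447 = n8079 := rfl
theorem F25616 : act 1 n8079 = n6449 := d8_1 D8079 (iv D6449) (iv F20179)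
theorem F25617 : act 5 n8079 = n8079 := d19_2 F20181 D8079 (iv D8079)
theorem F25618 : act 7 n8079 = n7582 := d29_9 F19443 F16635 F12171 F10889 (iv D3540) D3539 D4883 D6447 D8079 F24014 F24013 (iv D6482) (iv D4917) (iv F11812) D5200 (iv F18888) F18889 F18890 (iv D4685) (iv D3385) (iv D2356) (iv D1610) (iv D1092) D1093 D1612 D2360 D3390 D4691 D6206
def n8080 : Q := act 6 n6447
theorem D8080 : act 6 n6447 = n8080 := rfl
theorem F25619 : act 1 n8080 = n6450 := d11_1 D8080 (iv D6450) (iv F20179)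
theorem F25620 : act 2 n8080 = n6448 := d16_1 D8080 (iv D6448) D6447
theorem F25621 : act 4 n8080 = n8080 := d23_1 D8080 (iv D8080) F20180
theorem F25622 : act 7 n6907 = n8080 := d17_0 F25620 (iv F20185) D6907
def n8081 : Q := act 5 n6448
theorem D8081 : act 5 n6448 = n8081 := rfl
theorem F25623 : act 1 n8081 = n6898 := d10_1 D8081 F21753 F16595 (iv F15099) (iv F20183)
theorem F25624 : act 4 n8081 = n8081 := d22_1 D8081 (iv D8081) F20184
theorem F25625 : act 6 n8081 = n8081 := d25_2 D6448 D8081 (iv D8081) (iv D6448) F15094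
theorem F25626 : act 7 n8081 = n6897 := d26_2 F20185 D8081 F21750
def n8082 : Q := act 4 n6449
theorem D8082 : act 4 n6449 = n8082 := rfl
theorem F25627 : act 0 n8082 = n8082 := d3_1 D8082 (iv D8082) F20186
theorem F25628 : act 2 n8082 = n7585 := d14_1 D8082 F24026 (iv F20187)
theorem F25629 : act 3 n8082 = n8082 := d18_1 D8082 (iv D8082) (iv D6449) F15102 D6449
theorem F25630 : act 5 n8082 = n6455 := d22_2 (iv F20188) D8082 (iv D6455)
theorem F25631 : act 7 n8082 = n7584 := d24_2 F20189 D8082 F24022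
def n8083 : Q := act 6 n6449
theorem D8083 : act 6 n6449 = n8083 := rfl
theorem F25632 : act 0 n8083 = n8083 := d5_1 D8083 (iv D8083) F20186
theorem F25633 : act 2 n8083 = n7565 := d16_1 D8083 F23964 (iv F20187)
theorem F25634 : act 3 n8083 = n6450 := d20_1 D8083 (iv D6450) D6449
theorem F25635 : act 7 n8083 = n7562 := d27_2 F20189 D8083 (iv D7562) F18650 D5971
def n8084 : Q := act 5 n6450
theorem D8084 : act 5 n6450 = n8084 := rfl
theorem F25636 : act 0 n8084 = n8084 := d4_1 D8084 (iv D8084) F20190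
theorem F25637 : act 2 n8084 = n6451 := d15_1 D8084 (iv D6451) (iv F20191)
theorem F25638 : act 4 n8084 = n8084 := d22_1 D8084 (iv D8084) F20192
theorem F25639 : act 6 n8084 = n6457 := d25_2 D6450 D8084 (iv D6457) (iv D4891) (iv F15103)
def n8085 : Q := act 7 n6450
theorem D8085 : act 7 n6450 = n8085 := rfl
theorem F25640 : act 0 n8085 = n8085 := d6_1 D8085 (iv D8085) F20190
theorem F25641 : act 1 n8085 = n6907 := d12_1 D8085 F25622 F25619
theorem F25642 : act 2 n8085 = n6452 := d17_1 D8085 (iv D6452) (iv F20191)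
theorem F25643 : act 4 n8085 = n8085 := d24_1 D8085 (iv D8085) F20192
theorem F25644 : act 6 n8085 = n8085 := d27_1 D8085 (iv D8085) (iv D6450) F15104 D6450
def n8086 : Q := act 1 n6451
theorem D8086 : act 1 n6451 = n8086 := rfl
theorem F25645 : act 4 n8086 = n8086 := d9_2 F20194 D8086 (iv D8086)
theorem F25646 : act 5 n8086 = n6453 := d10_2 D6451 D8086 (iv D6453) (iv D4887) (iv F15106)
theorem F25647 : act 6 n8086 = n6459 := d11_2 (iv F20195) D8086 (iv D6459)
theorem F25648 : act 7 n6905 = n8086 := d27_0 F25647 (iv F22027) (iv D6955) D6956 (iv F22017)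
def n8087 : Q := act 7 n6451
theorem D8087 : act 7 n6451 = n8087 := rfl
theorem F25649 : act 0 n8087 = n8087 := d6_1 D8087 (iv D8087) F20193
theorem F25650 : act 1 n8087 = n6905 := d12_1 D8087 F25648 (iv D8086)
theorem F25651 : act 4 n8087 = n8087 := d24_1 D8087 (iv D8087) F20194
theorem F25652 : act 5 n8087 = n6452 := d26_1 D8087 (iv D6452) D6451
def n8088 : Q := act 2 n6453
theorem D8088 : act 2 n6453 = n8088 := rfl
theorem F25653 : act 0 n8088 = n7326 := d1_1 D8088 F23160 F21616
theorem F25654 : act 1 n8088 = n6896 := d7_1 D8088 F21745 F16595 (iv F15109) D6453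
theorem F25655 : act 4 n8088 = n8088 := d14_2 F20200 D8088 (iv D8088)
theorem F25656 : act 6 n8088 = n6454 := d16_2 (iv F20201) D8088 (iv D6454)
theorem F25657 : act 7 n8088 = n6894 := d17_2 (iv F20202) D8088 F21738
def n8089 : Q := act 6 n6455
theorem D8089 : act 6 n6455 = n8089 := rfl
theorem F25658 : act 0 n8089 = n8089 := d5_1 D8089 (iv D8089) F20207
theorem F25659 : act 1 n8089 = n8089 := d11_1 D8089 (iv D8089) F20208
theorem F25660 : act 3 n8089 = n8089 := d20_1 D8089 (iv D8089) F20209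
theorem F25661 : act 4 n8089 = n6456 := d23_1 D8089 (iv D6456) D6455
theorem F25662 : act 7 n8089 = n8089 := d27_2 F20278 D8089 (iv D8089) (iv F20278) F20277
def n8090 : Q := act 5 n6456
theorem D8090 : act 5 n6456 = n8090 := rfl
theorem F25663 : act 0 n8090 = n8090 := d4_1 D8090 (iv D8090) F20210
theorem F25664 : act 3 n8090 = n6457 := d19_1 D8090 (iv D6457) (iv F20212)
theorem F25665 : act 7 n8090 = n8090 := d26_2 F20213 D8090 (iv D8090)
theorem F25666 : act 1 n6984 = n8090 := d8_3 F25664 F22032 F22117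
theorem F25667 : act 4 n8090 = n6983 := d9_2 D6984 F25666 (iv D6983)
theorem F25668 : act 5 n6983 = n8089 := d22_2 D8090 F25667 F25661
def n8091 : Q := act 3 n6460
theorem D8091 : act 3 n6460 = n8091 := rfl
theorem F25669 : act 0 n8091 = n8091 := d2_1 D8091 (iv D8091) F20225
theorem F25670 : act 2 n8091 = n8091 := d13_1 D8091 (iv D8091) F22028 F21974 (iv F22028)
theorem F25671 : act 5 n8091 = n6461 := d19_2 (iv F20227) D8091 (iv D6461)
def n8092 : Q := act 3 n6462
theorem D8092 : act 3 n6462 = n8092 := rfl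
theorem F25672 : act 1 n8092 = n8092 := d8_1 D8092 (iv D8092) F20232
theorem F25673 : act 6 n8092 = n6467 := d20_2 (iv F20234) D8092 (iv D6467)
def n8093 : Q := act 3 n6463
theorem D8093 : act 3 n6463 = n8093 := rfl
theorem F25674 : act 1 n8093 = n6464 := d8_1 D8093 (iv D6464) (iv F20235)
def n8094 : Q := act 2 n6464
theorem D8094 : act 2 n6464 = n8094 := rfl
theorem F25675 : act 0 n8094 = n6472 := d1_1 D8094 (iv D6472) (iv F20237)
theorem F25676 : act 3 n8094 = n8094 := d13_2 D6464 D8094 (iv D8094) (iv D6464) F15136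
theorem F25677 : act 4 n8094 = n8064 := d14_2 F24301 D8094 F25551
theorem F25678 : act 5 n8094 = n6466 := d15_2 (iv F20238) D8094 (iv D6466)
theorem F25679 : act 6 n8094 = n8063 := d31_4 D6055 D7669 F24301 D8094 F25546 F25547 F25548 F23800 (iv F24884) F24886 (iv D7798) F19301 F14831 F12532 F8796 (iv D1943) (iv D1319) F2917 (iv D895) F2027 D894 (iv F3054) D1414 F4465 D1563 (iv F7109) F7108 D3300 (iv F14180)
theorem F25680 : act 1 n8068 = n8094 := d11_3 F25679 F25545 D8068
def n8095 : Q := act 6 n6464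
theorem D8095 : act 6 n6464 = n8095 := rfl
theorem F25681 : act 0 n8095 = n6473 := d5_1 D8095 (iv D6473) (iv F20237)
theorem F25682 : act 2 n8095 = n8063 := d16_1 D8095 (iv F25679) (iv D8094)
theorem F25683 : act 3 n8095 = n6465 := d20_1 D8095 (iv D6465) D6464
theorem F25684 : act 4 n8095 = n8062 := d23_1 D8095 (iv F25543) F24301
theorem F25685 : act 5 n8095 = n8095 := d25_1 D8095 (iv D8095) F20238 F15140 (iv F20238)
def n8096 : Q := act 4 n6467
theorem D8096 : act 4 n6467 = n8096 := rfl
theorem F25686 : act 1 n8096 = n8096 := d9_1 D8096 (iv D8096) F20248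
theorem F25687 : act 3 n8096 = n8096 := d18_1 D8096 (iv D8096) (iv D6467) F15142 D6467
def n8097 : Q := act 3 n6474
theorem D8097 : act 3 n6474 = n8097 := rfl
theorem F25688 : act 0 n8097 = n8097 := d2_1 D8097 (iv D8097) F20274
theorem F25689 : act 1 n8097 = n8097 := d8_1 D8097 (iv D8097) F20275
theorem F25690 : act 2 n8097 = n8097 := d13_1 D8097 (iv D8097) F20276 F15187 (iv F20276)
theorem F25691 : act 4 n8097 = n8097 := d18_2 D6474 D8097 (iv D8097) (iv D6474) F15183
theorem F25692 : act 5 n8097 = n8050 := d19_2 (iv F24023) D8097 F25491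
theorem F25693 : act 6 n8097 = n8097 := d20_2 F20277 D8097 (iv D8097)
theorem F25694 : act 7 n8097 = n8097 := d21_2 (iv F20278) D8097 (iv D8097) F20278 F20209
def n8098 : Q := act 3 n6475
theorem D8098 : act 3 n6475 = n8098 := rfl
theorem F25695 : act 0 n8098 = n8098 := d2_1 D8098 (iv D8098) F20279
theorem F25696 : act 1 n8098 = n6477 := d8_1 D8098 (iv D6477) (iv F20280)
theorem F25697 : act 2 n8098 = n8098 := d13_1 D8098 (iv D8098) F20281 F20209 (iv F20281)
theorem F25698 : act 4 n8098 = n7349 := d18_2 (iv F20282) D8098 (iv D7349) F18078 (iv F15191)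
theorem F25699 : act 7 n8098 = n8098 := d21_2 D6475 D8098 (iv D8098) (iv D6475) F15187
def n8099 : Q := act 6 n6475
theorem D8099 : act 6 n6475 = n8099 := rfl
theorem F25700 : act 0 n8099 = n8099 := d5_1 D8099 (iv D8099) F20279
theorem F25701 : act 1 n8099 = n6478 := d11_1 D8099 (iv D6478) (iv F20280)
theorem F25702 : act 2 n8099 = n8089 := d16_1 D8099 (iv D8089) (iv F20281)
theorem F25703 : act 4 n8099 = n6476 := d23_1 D8099 (iv D6476) (iv F20282)
theorem F25704 : act 7 n8099 = n8099 := d27_2 D6475 D8099 (iv D8099) (iv D6475) F15188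
def n8100 : Q := act 5 n6476
theorem D8100 : act 5 n6476 = n8100 := rfl
theorem F25705 : act 0 n8100 = n8100 := d4_1 D8100 (iv D8100) F20283
theorem F25706 : act 2 n8100 = n8090 := d15_1 D8100 (iv D8090) (iv F20285)
theorem F25707 : act 3 n8100 = n8078 := d19_1 D8100 (iv D8078) (iv F20286)
theorem F25708 : act 7 n8100 = n8100 := d26_2 F20287 D8100 (iv D8100)
def n8101 : Q := act 7 n6480
theorem D8101 : act 7 n6480 = n8101 := rfl
theorem F25709 : act 0 n8101 = n6594 := d6_1 D8101 (iv D6594) (iv F20302)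
theorem F25710 : act 1 n8101 = n7858 := d12_1 D8101 F24830 F20306
theorem F25711 : act 2 n8101 = n6486 := d17_1 D8101 (iv D6486) (iv F20303)
theorem F25712 : act 3 n8101 = n7488 := d21_1 D8101 (iv D7488) F18462 D5903 (iv F20304)
theorem F25713 : act 4 n8101 = n6483 := d24_1 D8101 (iv D6483) (iv F20305)
theorem F25714 : act 5 n8101 = n6481 := d26_1 D8101 (iv D6481) D6480
def n8102 : Q := act 3 n6481
theorem D8102 : act 3 n6481 = n8102 := rfl
theorem F25715 : act 0 n8102 = n6595 := d2_1 D8102 (iv D6595) (iv F20307)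
theorem F25716 : act 1 n8102 = n8102 := d8_1 D8102 (iv D8102) F20308
theorem F25717 : act 5 n8102 = n7488 := d19_2 F25714 D8102 (iv F25712)
theorem F25718 : act 7 n8102 = n6964 := d21_2 D6481 D8102 F22060 F20301 (iv D6479)
theorem F25719 : act 4 n6966 = n8102 := d24_3 F25718 (iv D6964) D6966
def n8103 : Q := act 6 n6481
theorem D8103 : act 6 n6481 = n8103 := rfl
theorem F25720 : act 0 n8103 = n6596 := d5_1 D8103 (iv D6596) (iv F20307)
theorem F25721 : act 1 n8103 = n8103 := d11_1 D8103 (iv D8103) F20308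
theorem F25722 : act 2 n8103 = n6488 := d16_1 D8103 (iv D6488) (iv F20309)
theorem F25723 : act 4 n8103 = n6485 := d23_1 D8103 (iv D6485) (iv F20310)
theorem F25724 : act 7 n8103 = n7155 := d27_2 D6481 D8103 (iv D7155) F17524 (iv F15216)
def n8104 : Q := act 0 n6482
theorem D8104 : act 0 n6482 = n8104 := rfl
theorem F25725 : act 1 n8104 = n6597 := d0_2 D6482 D8104 (iv D6597) (iv D5040) (iv F15217)
theorem F25726 : act 3 n8104 = n6993 := d2_2 (iv F20311) D8104 (iv D6993)
theorem F25727 : act 4 n8104 = n7839 := d3_2 (iv F20312) D8104 F24767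
theorem F25728 : act 5 n8104 = n8104 := d4_2 F20313 D8104 (iv D8104)
theorem F25729 : act 7 n6799 = n8104 := d21_0 F25726 F22157 F18882 (iv F18842) D6799
def n8105 : Q := act 7 n6482
theorem D8105 : act 7 n6482 = n8105 := rfl
theorem F25730 : act 0 n8105 = n6799 := d6_1 D8105 F25729 (iv D8104)
theorem F25731 : act 1 n8105 = n6483 := d12_1 D8105 (iv D6483) D6482
theorem F25732 : act 2 n8105 = n8079 := d17_1 D8105 F25618 F24013
theorem F25733 : act 3 n8105 = n6797 := d21_1 D8105 F21415 F18898 F16984 (iv F20311)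
theorem F25734 : act 4 n8105 = n7858 := d24_1 D8105 F24830 (iv F20312)
theorem F25735 : act 5 n8105 = n8105 := d26_1 D8105 (iv D8105) F20313
def n8106 : Q := act 3 n6483
theorem D8106 : act 3 n6483 = n8106 := rfl
theorem F25736 : act 0 n8106 = n6601 := d2_1 D8106 (iv D6601) (iv F20314)
theorem F25737 : act 1 n8106 = n6797 := d8_1 D8106 (iv F25733) F25731
theorem F25738 : act 2 n8106 = n6792 := d13_1 D8106 F21394 F20163 F17642 (iv F20315)
theorem F25739 : act 4 n8106 = n7280 := d18_2 F25713 D8106 F23031 (iv F23721) (iv F25712)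
theorem F25740 : act 5 n8106 = n6484 := d19_2 (iv F20316) D8106 (iv D6484)
theorem F25741 : act 7 n8106 = n6996 := d21_2 D6483 D8106 (iv D6996) (iv D5428) (iv F15219)
def n8107 : Q := act 6 n6483
theorem D8107 : act 6 n6483 = n8107 := rfl
theorem F25742 : act 0 n8107 = n6602 := d5_1 D8107 (iv D6602) (iv F20314)
theorem F25743 : act 2 n8107 = n6489 := d16_1 D8107 (iv D6489) (iv F20315)
def n8108 : Q := act 2 n6484
theorem D8108 : act 2 n6484 = n8108 := rfl
theorem F25744 : act 0 n8108 = n6603 := d1_1 D8108 (iv D6603) (iv F20317)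
theorem F25745 : act 3 n8108 = n6490 := d13_2 D6484 D8108 (iv D6490) (iv D4922) (iv F15222)
theorem F25746 : act 5 n8108 = n6792 := d15_2 F25740 D8108 (iv F25738)
theorem F25747 : act 7 n8108 = n6998 := d17_2 (iv F20319) D8108 (iv D6998)
theorem F25748 : act 1 n6779 = n8108 := d12_3 F25747 (iv F22231) F22234
def n8109 : Q := act 4 n6484
theorem D8109 : act 4 n6484 = n8109 := rfl
theorem F25749 : act 0 n8109 = n6604 := d3_1 D8109 (iv D6604) (iv F20317)
theorem F25750 : act 1 n8109 = n8109 := d9_1 D8109 (iv D8109) F20318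
theorem F25751 : act 3 n8109 = n6966 := d18_1 D8109 F25719 (iv D8102) F20310 D6484
theorem F25752 : act 5 n8109 = n7280 := d22_2 F25740 D8109 (iv F25739)
theorem F25753 : act 7 n8109 = n6749 := d24_2 (iv F20319) D8109 F21246
def n8110 : Q := act 6 n6484
theorem D8110 : act 6 n6484 = n8110 := rfl
theorem F25754 : act 0 n8110 = n6605 := d5_1 D8110 (iv D6605) (iv F20317)
theorem F25755 : act 1 n8110 = n8110 := d11_1 D8110 (iv D8110) F20318
theorem F25756 : act 3 n8110 = n6485 := d20_1 D8110 (iv D6485) D6484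
def n8111 : Q := act 5 n6485
theorem D8111 : act 5 n6485 = n8111 := rfl
theorem F25757 : act 0 n8111 = n6606 := d4_1 D8111 (iv D6606) (iv F20320)
theorem F25758 : act 2 n8111 = n6493 := d15_1 D8111 (iv D6493) (iv F20322)
def n8112 : Q := act 3 n6486
theorem D8112 : act 3 n6486 = n8112 := rfl
theorem F25759 : act 0 n8112 = n6608 := d2_1 D8112 (iv D6608) (iv F20323)
theorem F25760 : act 5 n8112 = n6487 := d19_2 (iv F20325) D8112 (iv D6487)
theorem F25761 : act 7 n8112 = n8112 := d21_2 D6486 D8112 (iv D8112) (iv D6486) F15224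
def n8113 : Q := act 6 n6486
theorem D8113 : act 6 n6486 = n8113 := rfl
theorem F25762 : act 0 n8113 = n6609 := d5_1 D8113 (iv D6609) (iv F20323)
theorem F25763 : act 4 n8113 = n6489 := d23_1 D8113 (iv D6489) (iv F20324)
def n8114 : Q := act 2 n6487
theorem D8114 : act 2 n6487 = n8114 := rfl
theorem F25764 : act 0 n8114 = n6610 := d1_1 D8114 (iv D6610) (iv F20326)
theorem F25765 : act 7 n8114 = n8114 := d17_2 F20328 D8114 (iv D8114)
def n8115 : Q := act 4 n6487
theorem D8115 : act 4 n6487 = n8115 := rfl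
theorem F25766 : act 0 n8115 = n6611 := d3_1 D8115 (iv D6611) (iv F20326)
theorem F25767 : act 1 n8115 = n6497 := d9_1 D8115 (iv D6497) (iv F20327)
theorem F25768 : act 3 n8115 = n6491 := d18_1 D8115 (iv D6491) (iv D4922) (iv F15228) D6487
theorem F25769 : act 7 n8115 = n8115 := d24_2 F20328 D8115 (iv D8115)
def n8116 : Q := act 6 n6487
theorem D8116 : act 6 n6487 = n8116 := rfl
theorem F25770 : act 0 n8116 = n6612 := d5_1 D8116 (iv D6612) (iv F20326)
theorem F25771 : act 1 n8116 = n6498 := d11_1 D8116 (iv D6498) (iv F20327)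
theorem F25772 : act 3 n8116 = n6488 := d20_1 D8116 (iv D6488) D6487
theorem F25773 : act 7 n7944 = n8116 := d21_0 F25772 F20332 F19054 (iv F19687) D7944
def n8117 : Q := act 5 n6488
theorem D8117 : act 5 n6488 = n8117 := rfl
theorem F25774 : act 0 n8117 = n6613 := d4_1 D8117 (iv D6613) (iv F20329)
theorem F25775 : act 4 n8117 = n6493 := d22_1 D8117 (iv D6493) (iv F20331)
theorem F25776 : act 7 n8117 = n7676 := d26_2 (iv F20332) D8117 (iv D7676)
def n8118 : Q := act 5 n6489
theorem D8118 : act 5 n6489 = n8118 := rfl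
theorem F25777 : act 0 n8118 = n6618 := d4_1 D8118 (iv D6618) (iv F20333)
theorem F25778 : act 6 n8118 = n6493 := d25_2 D6489 D8118 (iv D6493) (iv D4923) (iv F15230)
def n8119 : Q := act 4 n6490
theorem D8119 : act 4 n6490 = n8119 := rfl
theorem F25779 : act 0 n8119 = n6620 := d3_1 D8119 (iv D6620) (iv F20334)
theorem F25780 : act 1 n8119 = n6829 := d9_1 D8119 F21510 (iv F20335)
theorem F25781 : act 2 n8119 = n6491 := d14_1 D8119 (iv D6491) D6490
theorem F25782 : act 5 n8119 = n6848 := d22_2 (iv F20336) D8119 F21580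
theorem F25783 : act 7 n8119 = n6495 := d24_2 (iv F20337) D8119 (iv D6495)
def n8120 : Q := act 6 n6490
theorem D8120 : act 6 n6490 = n8120 := rfl
theorem F25784 : act 0 n8120 = n6621 := d5_1 D8120 (iv D6621) (iv F20334)
theorem F25785 : act 1 n8120 = n7906 := d11_1 D8120 (iv D7906) (iv F20335)
theorem F25786 : act 2 n8120 = n6492 := d16_1 D8120 (iv D6492) D6490
def n8121 : Q := act 6 n6491
theorem D8121 : act 6 n6491 = n8121 := rfl
theorem F25787 : act 0 n8121 = n6622 := d5_1 D8121 (iv D6622) (iv F20338)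
theorem F25788 : act 1 n8121 = n6501 := d11_1 D8121 (iv D6501) (iv F20339)
theorem F25789 : act 4 n8121 = n6492 := d23_1 D8121 (iv D6492) D6491
def n8122 : Q := act 5 n6492
theorem D8122 : act 5 n6492 = n8122 := rfl
theorem F25790 : act 0 n8122 = n6623 := d4_1 D8122 (iv D6623) (iv F20341)
theorem F25791 : act 3 n8122 = n6493 := d19_1 D8122 (iv D6493) (iv F20343)
def n8123 : Q := act 1 n6493
theorem D8123 : act 1 n6493 = n8123 := rfl
theorem F25792 : act 5 n8123 = n6502 := d10_2 D6493 D8123 (iv D6502) (iv D4931) (iv F15235)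
def n8124 : Q := act 3 n6495
theorem D8124 : act 3 n6495 = n8124 := rfl
theorem F25793 : act 0 n8124 = n6632 := d2_1 D8124 (iv D6632) (iv F20350)
theorem F25794 : act 2 n8124 = n8124 := d13_1 D8124 (iv D8124) F20351 F15240 (iv F20351)
theorem F25795 : act 4 n8124 = n7016 := d18_2 D6495 D8124 (iv D7016) (iv D5443) (iv F15237)
theorem F25796 : act 5 n8124 = n6529 := d19_2 F22825 D8124 (iv F22823)
def n8125 : Q := act 1 n6496
theorem D8125 : act 1 n6496 = n8125 := rfl
theorem F25797 : act 0 n8125 = n8125 := d0_1 D8125 (iv D8125) F20352 F15286 (iv F20352)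
theorem F25798 : act 3 n8125 = n8125 := d8_2 F20353 D8125 (iv D8125)
theorem F25799 : act 5 n8125 = n8125 := d10_2 F21996 D8125 (iv D8125) (iv F21996) F21993
theorem F25800 : act 6 n8125 = n7950 := d11_2 F20355 D8125 F25115
theorem F25801 : act 7 n8125 = n8125 := d12_2 F20354 D8125 (iv D8125)
def n8126 : Q := act 6 n6497
theorem D8126 : act 6 n6497 = n8126 := rfl
theorem F25802 : act 0 n8126 = n6511 := d5_1 D8126 (iv D6511) (iv F20356)
theorem F25803 : act 2 n8126 = n7952 := d16_1 D8126 (iv F25122) F21985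
theorem F25804 : act 3 n8126 = n6501 := d20_1 D8126 (iv D6501) (iv F20357)
theorem F25805 : act 4 n8126 = n6498 := d23_1 D8126 (iv D6498) D6497
theorem F25806 : act 7 n7946 = n8126 := d24_0 F25805 (iv F20362) D7946
def n8127 : Q := act 5 n6498
theorem D8127 : act 5 n6498 = n8127 := rfl
theorem F25807 : act 0 n8127 = n6512 := d4_1 D8127 (iv D6512) (iv F20359)
theorem F25808 : act 2 n8127 = n7938 := d15_1 D8127 F25074 (iv F20360)
theorem F25809 : act 3 n8127 = n6499 := d19_1 D8127 (iv D6499) (iv F20361)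
theorem F25810 : act 7 n8127 = n7933 := d26_2 F20362 D8127 F25058
def n8128 : Q := act 1 n6499
theorem D8128 : act 1 n6499 = n8128 := rfl
theorem F25811 : act 4 n8128 = n6502 := d9_2 (iv F20365) D8128 (iv D6502)
theorem F25812 : act 7 n8128 = n7912 := d12_2 (iv F20366) D8128 (iv D7912)
def n8129 : Q := act 2 n6502
theorem D8129 : act 2 n6502 = n8129 := rfl
theorem F25813 : act 1 n8129 = n8129 := d7_1 D8129 (iv D8129) (iv D6502) F15257 D6502
def n8130 : Q := act 5 n6503
theorem D8130 : act 5 n6503 = n8130 := rfl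
theorem F25814 : act 0 n8130 = n7716 := d4_1 D8130 (iv D7716) (iv F20373)
theorem F25815 : act 3 n8130 = n6505 := d19_1 D8130 (iv D6505) (iv F20375)
theorem F25816 : act 6 n8130 = n7715 := d25_2 D6503 D8130 (iv D7715) (iv D6103) (iv F15259)
def n8131 : Q := act 5 n6504
theorem D8131 : act 5 n6504 = n8131 := rfl
theorem F25817 : act 0 n8131 = n6505 := d4_1 D8131 (iv D6505) (iv F20376)
theorem F25818 : act 2 n8131 = n7029 := d15_1 D8131 (iv D7029) (iv F20378)
theorem F25819 : act 3 n8131 = n7716 := d19_1 D8131 (iv D7716) (iv F20379)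
theorem F25820 : act 6 n8131 = n7588 := d25_2 D6504 D8131 (iv D7588) (iv D5976) (iv F15268)
def n8132 : Q := act 7 n6504
theorem D8132 : act 7 n6504 = n8132 := rfl
theorem F25821 : act 0 n8132 = n6506 := d6_1 D8132 (iv D6506) (iv F20376)
theorem F25822 : act 1 n8132 = n6515 := d12_1 D8132 (iv D6515) (iv F20377)
theorem F25823 : act 2 n8132 = n7030 := d17_1 D8132 (iv D7030) (iv F20378)
theorem F25824 : act 6 n8132 = n8132 := d27_1 D8132 (iv D8132) (iv D6504) F15269 D6504
theorem F25825 : act 3 n6719 = n8132 := d13_0 F25823 (iv F22281) D7111 (iv F24193) F24192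
def n8133 : Q := act 1 n6505
theorem D8133 : act 1 n6505 = n8133 := rfl
theorem F25826 : act 4 n8133 = n6588 := d9_2 F20455 D8133 F20699
theorem F25827 : act 5 n8133 = n6507 := d10_2 D6505 D8133 (iv D6507) (iv D4936) (iv F15270)
theorem F25828 : act 6 n8133 = n7152 := d11_2 F22346 D8133 F22679
def n8134 : Q := act 7 n6505
theorem D8134 : act 7 n6505 = n8134 := rfl
theorem F25829 : act 2 n8134 = n7035 := d17_1 D8134 (iv D7035) (iv F20380)
theorem F25830 : act 5 n8134 = n6506 := d26_1 D8134 (iv D6506) D6505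
def n8135 : Q := act 3 n6506
theorem D8135 : act 3 n6506 = n8135 := rfl
theorem F25831 : act 0 n8135 = n6719 := d2_1 D8135 F25825 F25821
theorem F25832 : act 1 n8135 = n6509 := d8_1 D8135 (iv D6509) (iv F20381)
theorem F25833 : act 6 n8135 = n8135 := d20_2 F20383 D8135 (iv D8135)
def n8136 : Q := act 7 n6507
theorem D8136 : act 7 n6507 = n8136 := rfl
theorem F25834 : act 1 n8136 = n6508 := d12_1 D8136 (iv D6508) D6507
theorem F25835 : act 4 n8136 = n6589 := d24_1 D8136 (iv D6589) (iv F20384)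
theorem F25836 : act 6 n8136 = n6862 := d27_1 D8136 (iv D6862) (iv D5297) (iv F15615) (iv F20385)
def n8137 : Q := act 4 n6509
theorem D8137 : act 4 n6509 = n8137 := rfl
theorem F25837 : act 0 n8137 = n6516 := d3_1 D8137 (iv D6516) (iv F20391)
theorem F25838 : act 2 n8137 = n6717 := d14_1 D8137 F21113 (iv F20392)
theorem F25839 : act 3 n8137 = n7913 := d18_1 D8137 F24986 (iv D6525) F15376 D6509
theorem F25840 : act 5 n8137 = n7914 := d22_2 F21030 D8137 F24991
theorem F25841 : act 6 n8137 = n8137 := d23_2 F20393 D8137 (iv D8137)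
theorem F25842 : act 7 n8137 = n7930 := d24_2 (iv F21027) D8137 F25048
def n8138 : Q := act 1 n6514
theorem D8138 : act 1 n6514 = n8138 := rfl
theorem F25843 : act 7 n8138 = n6739 := d12_2 (iv F20413) D8138 F21203
def n8139 : Q := act 1 n6517
theorem D8139 : act 1 n6517 = n8139 := rfl
theorem F25844 : act 0 n8139 = n7587 := d0_1 D8139 F24032 F20574 F15571 (iv F20425)
theorem F25845 : act 4 n8139 = n6521 := d9_2 (iv F20426) D8139 (iv D6521)
theorem F25846 : act 5 n8139 = n7049 := d10_2 D6517 D8139 (iv D7049) (iv D5477) (iv F15333)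
theorem F25847 : act 6 n8139 = n8138 := d11_2 (iv F20427) D8139 (iv D8138)
theorem F25848 : act 7 n8139 = n6743 := d12_2 (iv F20428) D8139 F21218
theorem F25849 : act 2 n7603 = n8139 := d17_3 F25848 F21219 D7603
def n8140 : Q := act 5 n6518
theorem D8140 : act 5 n6518 = n8140 := rfl
theorem F25850 : act 0 n8140 = n6523 := d4_1 D8140 (iv D6523) (iv F20429)
theorem F25851 : act 2 n8140 = n7183 := d15_1 D8140 (iv D7183) (iv F20431)
theorem F25852 : act 3 n8140 = n6732 := d19_1 D8140 (iv D6732) (iv F20432)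
theorem F25853 : act 4 n8140 = n8131 := d22_1 D8140 (iv D8131) (iv F20433)
theorem F25854 : act 6 n8140 = n7051 := d25_2 D6518 D8140 (iv D7051) (iv D5479) (iv F15339)
def n8141 : Q := act 7 n6518
theorem D8141 : act 7 n6518 = n8141 := rfl
theorem F25855 : act 0 n8141 = n6524 := d6_1 D8141 (iv D6524) (iv F20429)
theorem F25856 : act 1 n8141 = n6520 := d12_1 D8141 (iv D6520) (iv F20430)
theorem F25857 : act 2 n8141 = n7184 := d17_1 D8141 (iv D7184) (iv F20431)
theorem F25858 : act 3 n8141 = n6775 := d21_1 D8141 F21329 F21182 (iv D6733) (iv F20432)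
theorem F25859 : act 4 n8141 = n8132 := d24_1 D8141 (iv D8132) (iv F20433)
theorem F25860 : act 6 n8141 = n8141 := d27_1 D8141 (iv D8141) (iv D6518) F15340 D6518
def n8142 : Q := act 1 n6519
theorem D8142 : act 1 n6519 = n8142 := rfl
theorem F25861 : act 3 n8142 = n6734 := d8_2 (iv F20436) D8142 (iv D6734)
theorem F25862 : act 4 n8142 = n8138 := d9_2 (iv F20437) D8142 (iv D8138)
theorem F25863 : act 6 n8142 = n6521 := d11_2 (iv F20438) D8142 (iv D6521)
theorem F25864 : act 7 n8142 = n6769 := d12_2 (iv F20439) D8142 F21309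
def n8143 : Q := act 2 n6521
theorem D8143 : act 2 n6521 = n8143 := rfl
theorem F25865 : act 0 n8143 = n7604 := d1_1 D8143 F24083 F20527
theorem F25866 : act 4 n8143 = n7603 := d14_2 F25845 D8143 F25849
theorem F25867 : act 5 n8143 = n7053 := d15_2 (iv F20447) D8143 (iv D7053)
theorem F25868 : act 7 n8143 = n6742 := d17_2 (iv F20448) D8143 (iv D6742)
def n8144 : Q := act 7 n6523
theorem D8144 : act 7 n6523 = n8144 := rfl
theorem F25869 : act 2 n8144 = n7973 := d17_1 D8144 F25200 F22282
theorem F25870 : act 4 n8144 = n8134 := d24_1 D8144 (iv D8134) (iv F20455)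
theorem F25871 : act 5 n8144 = n6524 := d26_1 D8144 (iv D6524) D6523
def n8145 : Q := act 3 n6524
theorem D8145 : act 3 n6524 = n8145 := rfl
theorem F25872 : act 0 n8145 = n6775 := d2_1 D8145 (iv F25858) F25855
theorem F25873 : act 1 n8145 = n6525 := d8_1 D8145 (iv D6525) (iv F20457)
theorem F25874 : act 6 n8145 = n8145 := d20_2 F20460 D8145 (iv D8145)
theorem F25875 : act 7 n8145 = n6759 := d21_2 D6524 D8145 (iv D6759) (iv D5178) (iv F15372)
def n8146 : Q := act 1 n6533
theorem D8146 : act 1 n6533 = n8146 := rfl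
theorem F25876 : act 0 n8146 = n6579 := d0_1 D8146 (iv D6579) F15577 (iv F15426) (iv F20493)
theorem F25877 : act 2 n8146 = n6996 := d7_2 (iv F20494) D8146 F22164 F18897 F18848
theorem F25878 : act 3 n8146 = n7005 := d8_2 F24976 D8146 (iv F24974)
theorem F25879 : act 4 n8146 = n7276 := d9_2 (iv F20495) D8146 F23015
theorem F25880 : act 5 n8146 = n6998 := d10_2 D6533 D8146 (iv F22231) F22233 F20471
theorem F25881 : act 7 n8146 = n6792 := d12_2 (iv F20496) D8146 (iv D6792)
def n8147 : Q := act 7 n6534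
theorem D8147 : act 7 n6534 = n8147 := rfl
theorem F25882 : act 1 n8147 = n7163 := d12_1 D8147 (iv D7163) (iv F20497)
theorem F25883 : act 2 n8147 = n6538 := d17_1 D8147 (iv D6538) (iv F20498)
theorem F25884 : act 4 n8147 = n7167 := d24_1 D8147 (iv D7167) (iv F20500)
theorem F25885 : act 5 n8147 = n6600 := d26_1 D8147 (iv D6600) (iv F20501)
def n8148 : Q := act 6 n6535
theorem D8148 : act 6 n6535 = n8148 := rfl
theorem F25886 : act 0 n8148 = n7627 := d5_1 D8148 (iv D7627) (iv F20502)
theorem F25887 : act 1 n8148 = n7164 := d11_1 D8148 (iv D7164) (iv F20503)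
theorem F25888 : act 2 n8148 = n6539 := d16_1 D8148 (iv D6539) (iv F20504)
theorem F25889 : act 3 n8148 = n7267 := d20_1 D8148 (iv D7267) (iv F20505)
theorem F25890 : act 4 n8148 = n7168 := d23_1 D8148 (iv D7168) (iv F20506)
def n8149 : Q := act 6 n6536
theorem D8149 : act 6 n6536 = n8149 := rfl
theorem F25891 : act 0 n8149 = n7607 := d5_1 D8149 (iv D7607) (iv F20508)
theorem F25892 : act 1 n8149 = n6804 := d11_1 D8149 (iv D6804) (iv F20509)
theorem F25893 : act 2 n8149 = n7243 := d16_1 D8149 (iv D7243) (iv F20510)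
theorem F25894 : act 3 n8149 = n6537 := d20_1 D8149 (iv D6537) D6536
def n8150 : Q := act 5 n6537
theorem D8150 : act 5 n6537 = n8150 := rfl
theorem F25895 : act 2 n8150 = n6541 := d15_1 D8150 (iv D6541) (iv F20514)
theorem F25896 : act 4 n8150 = n7392 := d22_1 D8150 (iv D7392) (iv F20515)
theorem F25897 : act 7 n8150 = n6606 := d26_2 (iv F20516) D8150 (iv D6606)
def n8151 : Q := act 6 n6538
theorem D8151 : act 6 n6538 = n8151 := rfl
theorem F25898 : act 1 n8151 = n7522 := d11_1 D8151 (iv D7522) (iv F20517)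
theorem F25899 : act 3 n8151 = n7311 := d20_1 D8151 (iv D7311) (iv F20518)
theorem F25900 : act 4 n8151 = n7529 := d23_1 D8151 (iv D7529) (iv F20519)
theorem F25901 : act 7 n8151 = n6539 := d27_2 D6538 D8151 (iv D6539) (iv D4984) D4983
def n8152 : Q := act 5 n6539
theorem D8152 : act 5 n6539 = n8152 := rfl
theorem F25902 : act 4 n8152 = n7531 := d22_1 D8152 (iv D7531) (iv F20522)
theorem F25903 : act 6 n8152 = n6541 := d25_2 D6539 D8152 (iv D6541) (iv D4986) (iv F15455)
def n8153 : Q := act 5 n6540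
theorem D8153 : act 5 n6540 = n8153 := rfl
theorem F25904 : act 3 n8153 = n6541 := d19_1 D8153 (iv D6541) (iv F20524)
def n8154 : Q := act 7 n6540
theorem D8154 : act 7 n6540 = n8154 := rfl
theorem F25905 : act 0 n8154 = n8142 := d6_1 D8154 F25864 F21308
theorem F25906 : act 1 n8154 = n6547 := d12_1 D8154 (iv D6547) (iv F20523)
theorem F25907 : act 3 n8154 = n6624 := d21_1 D8154 (iv D6624) F15663 (iv F15460) (iv F20524)
theorem F25908 : act 6 n8154 = n6542 := d27_1 D8154 (iv D6542) (iv D4987) (iv F15457) D6540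
def n8155 : Q := act 1 n6541
theorem D8155 : act 1 n6541 = n8155 := rfl
theorem F25909 : act 4 n8155 = n7679 := d9_2 (iv F20525) D8155 (iv D7679)
theorem F25910 : act 5 n8155 = n6548 := d10_2 D6541 D8155 (iv D6548) (iv D4991) (iv F15458)
theorem F25911 : act 7 n8155 = n6625 := d12_2 (iv F20526) D8155 (iv D6625)
def n8156 : Q := act 6 n6543
theorem D8156 : act 6 n6543 = n8156 := rfl
theorem F25912 : act 0 n8156 = n7211 := d5_1 D8156 (iv D7211) (iv F20531)
theorem F25913 : act 1 n8156 = n6544 := d11_1 D8156 (iv D6544) D6543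
theorem F25914 : act 2 n8156 = n7230 := d16_1 D8156 (iv D7230) (iv F20532)
theorem F25915 : act 3 n8156 = n6814 := d20_1 D8156 (iv D6814) (iv F20533)
def n8157 : Q := act 7 n6544
theorem D8157 : act 7 n6544 = n8157 := rfl
theorem F25916 : act 0 n8157 = n6572 := d6_1 D8157 (iv D6572) (iv F20536)
theorem F25917 : act 2 n8157 = n6547 := d17_1 D8157 (iv D6547) (iv F20537)
theorem F25918 : act 5 n8157 = n6580 := d26_1 D8157 (iv F25023) F25021
theorem F25919 : act 6 n8157 = n6553 := d27_1 D8157 (iv D6553) (iv D4994) (iv F15467) D6544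
def n8158 : Q := act 1 n6546
theorem D8158 : act 1 n6546 = n8158 := rfl
theorem F25920 : act 0 n8158 = n6589 := d0_1 D8158 F20701 F15619 (iv F15538) (iv F20542)
theorem F25921 : act 3 n8158 = n6548 := d8_2 (iv F20543) D8158 (iv D6548)
theorem F25922 : act 6 n8158 = n6855 := d11_2 (iv F20544) D8158 F21605
theorem F25923 : act 7 n8158 = n6585 := d12_2 F20545 D8158 F20691
def n8159 : Q := act 0 n6548
theorem D8159 : act 0 n6548 = n8159 := rfl
theorem F25924 : act 1 n8159 = n6573 := d0_2 D6548 D8159 (iv D6573) (iv D5013) (iv F15474)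
theorem F25925 : act 3 n8159 = n6589 := d2_2 F25921 D8159 (iv F25920)
theorem F25926 : act 4 n8159 = n7681 := d3_2 (iv F20550) D8159 (iv D7681)
theorem F25927 : act 6 n8159 = n6869 := d5_2 (iv F20551) D8159 F21644
theorem F25928 : act 7 n8159 = n6645 := d6_2 (iv F20552) D8159 (iv D6645)
def n8160 : Q := act 2 n6548
theorem D8160 : act 2 n6548 = n8160 := rfl
theorem F25929 : act 1 n8160 = n6820 := d7_1 D8160 (iv D6820) (iv D5248) (iv F15475) D6548
theorem F25930 : act 4 n8160 = n7682 := d14_2 (iv F20550) D8160 (iv D7682)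
theorem F25931 : act 6 n8160 = n7675 := d16_2 (iv F20551) D8160 (iv D7675)
theorem F25932 : act 7 n8160 = n6646 := d17_2 (iv F20552) D8160 (iv D6646)
def n8161 : Q := act 6 n6549
theorem D8161 : act 6 n6549 = n8161 := rfl
theorem F25933 : act 0 n8161 = n6550 := d5_1 D8161 (iv D6550) D6549
theorem F25934 : act 1 n8161 = n6574 := d11_1 D8161 (iv D6574) (iv F20553)
theorem F25935 : act 2 n8161 = n7223 := d16_1 D8161 (iv D7223) (iv F20554)
theorem F25936 : act 3 n8161 = n6557 := d20_1 D8161 (iv D6557) (iv F20555)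
theorem F25937 : act 4 n8161 = n8156 := d23_1 D8161 (iv D8156) (iv F20556)
def n8162 : Q := act 5 n6550
theorem D8162 : act 5 n6550 = n8162 := rfl
theorem F25938 : act 3 n8162 = n6562 := d19_1 D8162 (iv D6562) (iv F20560)
def n8163 : Q := act 7 n6550
theorem D8163 : act 7 n6550 = n8163 := rfl
theorem F25939 : act 1 n8163 = n6553 := d12_1 D8163 (iv D6553) (iv F20559)
def n8164 : Q := act 7 n6551
theorem D8164 : act 7 n6551 = n8164 := rfl
theorem F25940 : act 0 n8164 = n6577 := d6_1 D8164 (iv D6577) (iv F20561)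
theorem F25941 : act 2 n8164 = n6554 := d17_1 D8164 (iv D6554) (iv F20562)
theorem F25942 : act 4 n8164 = n6553 := d24_1 D8164 (iv D6553) (iv F20563)
theorem F25943 : act 5 n8164 = n6578 := d26_1 D8164 F20663 (iv F20564)
def n8165 : Q := act 3 n6553
theorem D8165 : act 3 n6553 = n8165 := rfl
theorem F25944 : act 0 n8165 = n6575 := d2_1 D8165 F20647 (iv F20571)
theorem F25945 : act 2 n8165 = n6658 := d13_1 D8165 (iv D6658) F15729 (iv F15496) (iv F20572)
theorem F25946 : act 5 n8165 = n6574 := d19_2 (iv F20573) D8165 F20643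
theorem F25947 : act 7 n8165 = n6568 := d21_2 D6553 D8165 (iv D6568) (iv D5005) (iv F15484)
theorem F25948 : act 4 n7922 = n8165 := d24_3 F25947 (iv F20670) (iv F25023)
def n8166 : Q := act 5 n6555
theorem D8166 : act 5 n6555 = n8166 := rfl
theorem F25949 : act 0 n8166 = n6559 := d4_1 D8166 (iv D6559) (iv F20577)
theorem F25950 : act 1 n8166 = n7174 := d10_1 D8166 F22741 F21523 F16364 (iv F20578)
theorem F25951 : act 2 n8166 = n7095 := d15_1 D8166 (iv D7095) (iv F20579)
theorem F25952 : act 4 n8166 = n6556 := d22_1 D8166 (iv D6556) D6555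
theorem F25953 : act 7 n8166 = n6827 := d26_2 (iv F20580) D8166 (iv D6827)
def n8167 : Q := act 6 n6555
theorem D8167 : act 6 n6555 = n8167 := rfl
theorem F25954 : act 0 n8167 = n6560 := d5_1 D8167 (iv D6560) (iv F20577)
theorem F25955 : act 1 n8167 = n6578 := d11_1 D8167 (iv D6578) (iv F20578)
theorem F25956 : act 2 n8167 = n7096 := d16_1 D8167 (iv D7096) (iv F20579)
theorem F25957 : act 4 n8167 = n6557 := d23_1 D8167 (iv D6557) D6555
theorem F25958 : act 7 n8167 = n7692 := d27_2 (iv F20580) D8167 (iv D7692) F19111 F16347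
def n8168 : Q := act 6 n6556
theorem D8168 : act 6 n6556 = n8168 := rfl
theorem F25959 : act 0 n8168 = n6561 := d5_1 D8168 (iv D6561) (iv F20581)
theorem F25960 : act 1 n8168 = n7175 := d11_1 D8168 (iv D7175) F20585
theorem F25961 : act 2 n8168 = n7097 := d16_1 D8168 (iv D7097) (iv F20582)
theorem F25962 : act 3 n8168 = n7195 := d20_1 D8168 (iv D7195) (iv F20583)
def n8169 : Q := act 5 n6557
theorem D8169 : act 5 n6557 = n8169 := rfl
theorem F25963 : act 0 n8169 = n6562 := d4_1 D8169 (iv D6562) (iv F20586)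
theorem F25964 : act 2 n8169 = n7098 := d15_1 D8169 (iv D7098) (iv F20588)
def n8170 : Q := act 6 n6558
theorem D8170 : act 6 n6558 = n8170 := rfl
theorem F25965 : act 1 n8170 = n6564 := d11_1 D8170 (iv D6564) (iv F20589)
theorem F25966 : act 3 n8170 = n6560 := d20_1 D8170 (iv D6560) D6558
def n8171 : Q := act 6 n6559
theorem D8171 : act 6 n6559 = n8171 := rfl
theorem F25967 : act 2 n8171 = n7102 := d16_1 D8171 (iv D7102) (iv F20590)
theorem F25968 : act 4 n8171 = n6561 := d23_1 D8171 (iv D6561) (iv F20591)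
def n8172 : Q := act 5 n6560
theorem D8172 : act 5 n6560 = n8172 := rfl
theorem F25969 : act 2 n8172 = n7103 := d15_1 D8172 (iv D7103) (iv F20594)
theorem F25970 : act 4 n8172 = n6562 := d22_1 D8172 (iv D6562) (iv F20595)
theorem F25971 : act 7 n8172 = n7694 := d26_2 (iv F20596) D8172 (iv D7694)
def n8173 : Q := act 5 n6561
theorem D8173 : act 5 n6561 = n8173 := rfl
theorem F25972 : act 2 n8173 = n7104 := d15_1 D8173 (iv D7104) (iv F20597)
theorem F25973 : act 6 n8173 = n6562 := d25_2 D6561 D8173 (iv D6562) (iv D5001) D5000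
def n8174 : Q := act 7 n6561
theorem D8174 : act 7 n6561 = n8174 := rfl
theorem F25974 : act 2 n8174 = n7105 := d17_1 D8174 (iv D7105) (iv F20597)
theorem F25975 : act 6 n8174 = n6832 := d27_1 D8174 (iv D6832) (iv D5258) (iv F15505) D6561
def n8175 : Q := act 1 n6562
theorem D8175 : act 1 n6562 = n8175 := rfl
theorem F25976 : act 5 n8175 = n6566 := d10_2 D6562 D8175 (iv D6566) (iv D5004) (iv F15506)
def n8176 : Q := act 7 n6562
theorem D8176 : act 7 n6562 = n8176 := rfl
theorem F25977 : act 2 n8176 = n7107 := d17_1 D8176 (iv D7107) (iv F20598)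
theorem F25978 : act 4 n8176 = n7694 := d24_1 D8176 (iv F25971) F25970
theorem F25979 : act 5 n8176 = n6563 := d26_1 D8176 (iv D6563) D6562
def n8177 : Q := act 3 n6563
theorem D8177 : act 3 n6563 = n8177 := rfl
theorem F25980 : act 0 n8177 = n6566 := d2_1 D8177 (iv F23021) F23018
theorem F25981 : act 1 n8177 = n6568 := d8_1 D8177 (iv D6568) (iv F20599)
theorem F25982 : act 6 n8177 = n6834 := d20_2 (iv F20602) D8177 (iv D6834)
def n8178 : Q := act 5 n6564
theorem D8178 : act 5 n6564 = n8178 := rfl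
theorem F25983 : act 0 n8178 = n6581 := d4_1 D8178 (iv D6581) (iv F20603)
theorem F25984 : act 2 n8178 = n8178 := d15_1 D8178 (iv D8178) F20604
theorem F25985 : act 3 n8178 = n6565 := d19_1 D8178 (iv D6565) (iv F20605)
theorem F25986 : act 4 n8178 = n7911 := d22_1 D8178 F24982 F21528
theorem F25987 : act 6 n8178 = n7910 := d25_2 D6564 D8178 F24977 F20491 F20484
theorem F25988 : act 7 n6839 = n8178 := d27_0 F25987 F24978 F22212 F20803 D6839
def n8179 : Q := act 7 n6564
theorem D8179 : act 7 n6564 = n8179 := rfl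
theorem F25989 : act 0 n8179 = n6582 := d6_1 D8179 (iv D6582) (iv F20603)
theorem F25990 : act 2 n8179 = n8179 := d17_1 D8179 (iv D8179) F20604
theorem F25991 : act 3 n8179 = n6846 := d21_1 D8179 (iv F21575) F19044 (iv F15513) (iv F20605)
theorem F25992 : act 5 n8179 = n6839 := d26_1 D8179 F25988 (iv D8178)
theorem F25993 : act 6 n8179 = n6840 := d27_1 D8179 F21550 F21388 F16401 D6564
def n8180 : Q := act 1 n6565
theorem D8180 : act 1 n6565 = n8180 := rfl
theorem F25994 : act 4 n8180 = n6566 := d9_2 (iv F20608) D8180 (iv D6566)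
theorem F25995 : act 6 n8180 = n8146 := d11_2 (iv F20609) D8180 (iv D8146)
theorem F25996 : act 7 n8180 = n7695 := d12_2 (iv F20610) D8180 (iv D7695)
def n8181 : Q := act 7 n6566
theorem D8181 : act 7 n6566 = n8181 := rfl
theorem F25997 : act 1 n8181 = n6567 := d12_1 D8181 (iv D6567) D6566
theorem F25998 : act 4 n8181 = n7695 := d24_1 D8181 (iv F25996) F25994
def n8182 : Q := act 3 n6567
theorem D8182 : act 3 n6567 = n8182 := rfl
theorem F25999 : act 0 n8182 = n6576 := d2_1 D8182 F20652 (iv F20611)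
theorem F26000 : act 2 n8182 = n6682 := d13_1 D8182 (iv D6682) F15769 (iv F15530) (iv F20612)
theorem F26001 : act 5 n8182 = n6568 := d19_2 (iv F20614) D8182 (iv D6568)
theorem F26002 : act 7 n8182 = n6574 := d21_2 D6567 D8182 F20643 F20570 F20567
theorem F26003 : act 6 n8164 = n8182 := d31_4 (iv D4996) D4997 (iv F20575) (iv F25941) (iv D8182) F20614 (iv D5005) (iv F15512) F15511 (iv D3651) F7900 (iv F11153) F11154 (iv D2688) D2687 D3830 F11847 (iv F11844) (iv F15403) (iv D4970) (iv D3620) D3622 F11157 D3623 F11161 F11159 F11163 (iv F11257) (iv F15491)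
theorem F26004 : act 4 n8182 = n8157 := d23_1 F26003 F25919 (iv F25942)
def n8183 : Q := act 6 n6567
theorem D8183 : act 6 n6567 = n8183 := rfl
theorem F26005 : act 0 n8183 = n6583 := d5_1 D8183 (iv D6583) (iv F20611)
theorem F26006 : act 2 n8183 = n6571 := d16_1 D8183 (iv D6571) (iv F20612)
theorem F26007 : act 3 n8183 = n8164 := d20_1 D8183 F26003 (iv D8182)
theorem F26008 : act 4 n8183 = n6816 := d23_1 D8183 F21472 (iv F20613)
theorem F26009 : act 5 n8183 = n6815 := d25_1 D8183 (iv D6815) F16316 (iv F15519) (iv F20614)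
def n8184 : Q := act 6 n6570
theorem D8184 : act 6 n6570 = n8184 := rfl
theorem F26010 : act 0 n8184 = n7265 := d5_1 D8184 (iv D7265) (iv F20624)
theorem F26011 : act 1 n8184 = n6571 := d11_1 D8184 (iv D6571) (iv F20625)
theorem F26012 : act 3 n8184 = n6685 := d20_1 D8184 (iv D6685) (iv F20626)
theorem F26013 : act 4 n8184 = n6818 := d23_1 D8184 F21480 (iv F20627)
theorem F26014 : act 7 n8184 = n7623 := d27_2 D6570 D8184 (iv D7623) (iv D6010) (iv F15528)
def n8185 : Q := act 6 n6579
theorem D8185 : act 6 n6579 = n8185 := rfl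
theorem F26015 : act 0 n8185 = n8180 := d5_1 D8185 F25995 F25876
theorem F26016 : act 1 n8185 = n6580 := d11_1 D8185 (iv D6580) D6579
theorem F26017 : act 2 n8185 = n7172 := d16_1 D8185 (iv D7172) F20667
theorem F26018 : act 3 n8185 = n7190 := d20_1 D8185 (iv D7190) (iv F20664)
theorem F26019 : act 4 n8185 = n8177 := d23_1 D8185 F25982 F21524
def n8186 : Q := act 6 n6584
theorem D8186 : act 6 n6584 = n8186 := rfl
theorem F26020 : act 0 n8186 = n6587 := d5_1 D8186 (iv D6587) (iv F20685)
theorem F26021 : act 1 n8186 = n7172 := d11_1 D8186 (iv D7172) (iv F20686)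
theorem F26022 : act 2 n8186 = n6585 := d16_1 D8186 (iv D6585) D6584
theorem F26023 : act 3 n8186 = n7168 := d20_1 D8186 (iv D7168) (iv F20687)
def n8187 : Q := act 5 n6585
theorem D8187 : act 5 n6585 = n8187 := rfl
theorem F26024 : act 0 n8187 = n6588 := d4_1 D8187 (iv D6588) (iv F20690)
theorem F26025 : act 6 n8187 = n7143 := d25_2 D6585 D8187 (iv D7143) (iv D5568) (iv F15610)
def n8188 : Q := act 6 n6586
theorem D8188 : act 6 n6586 = n8188 := rfl
theorem F26026 : act 0 n8188 = n7168 := d5_1 D8188 (iv D7168) (iv F20692)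
theorem F26027 : act 1 n8188 = n7629 := d11_1 D8188 (iv D7629) (iv F20693)
theorem F26028 : act 2 n8188 = n7527 := d16_1 D8188 (iv D7527) (iv F20694)
theorem F26029 : act 3 n8188 = n6587 := d20_1 D8188 (iv D6587) D6586
theorem F26030 : act 4 n8188 = n7627 := d23_1 D8188 (iv D7627) (iv F20695)
def n8189 : Q := act 5 n6587
theorem D8189 : act 5 n6587 = n8189 := rfl
theorem F26031 : act 2 n8189 = n6588 := d15_1 D8189 (iv D6588) (iv F20698)
theorem F26032 : act 6 n8189 = n7156 := d25_2 D6587 D8189 (iv D7156) (iv D5585) (iv F15616)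
def n8190 : Q := act 7 n6587
theorem D8190 : act 7 n6587 = n8190 := rfl
theorem F26033 : act 2 n8190 = n6589 := d17_1 D8190 (iv D6589) (iv F20698)
theorem F26034 : act 6 n8190 = n6867 := d27_1 D8190 (iv D6867) (iv D5300) (iv F15617) D6587
def n8191 : Q := act 7 n6588
theorem D8191 : act 7 n6588 = n8191 := rfl
theorem F26035 : act 1 n8191 = n8144 := d12_1 D8191 (iv D8144) (iv F20699)
theorem F26036 : act 5 n8191 = n6589 := d26_1 D8191 (iv D6589) D6588
def n8192 : Q := act 6 n6590
theorem D8192 : act 6 n6590 = n8192 := rfl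
theorem F26037 : act 0 n8192 = n7500 := d5_1 D8192 (iv D7500) (iv F20703)
theorem F26038 : act 1 n8192 = n7061 := d11_1 D8192 (iv D7061) (iv F20704)
theorem F26039 : act 2 n8192 = n8192 := d16_1 D8192 (iv D8192) F20705
theorem F26040 : act 3 n8192 = n6593 := d20_1 D8192 (iv D6593) (iv F20706)
theorem F26041 : act 4 n8192 = n7065 := d23_1 D8192 (iv D7065) (iv F20707)
theorem F26042 : act 5 n8192 = n6598 := d25_1 D8192 (iv D6598) F15633 (iv F15625) D6590
def n8193 : Q := act 3 n6591
theorem D8193 : act 3 n6591 = n8193 := rfl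
theorem F26043 : act 0 n8193 = n6964 := d2_1 D8193 F22060 (iv F20709)
theorem F26044 : act 1 n8193 = n6871 := d8_1 D8193 (iv D6871) (iv F20710)
theorem F26045 : act 4 n8193 = n6931 := d18_2 (iv F20712) D8193 (iv D6931) F16789 D5375
theorem F26046 : act 5 n8193 = n7464 := d19_2 (iv F20713) D8193 F23636
theorem F26047 : act 7 n8193 = n6595 := d21_2 D6591 D8193 (iv D6595) (iv D5039) D5037
theorem F26048 : act 2 n7965 = n8193 := d15_3 F26046 F23635 (iv F25167)
def n8194 : Q := act 6 n6591
theorem D8194 : act 6 n6591 = n8194 := rfl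
theorem F26049 : act 0 n8194 = n6973 := d5_1 D8194 (iv D6973) (iv F20709)
theorem F26050 : act 1 n8194 = n6872 := d11_1 D8194 (iv D6872) (iv F20710)
theorem F26051 : act 2 n8194 = n8194 := d16_1 D8194 (iv D8194) F20711
theorem F26052 : act 4 n8194 = n6936 := d23_1 D8194 (iv D6936) (iv F20712)
theorem F26053 : act 7 n8194 = n6879 := d27_2 D6591 D8194 (iv D6879) (iv D5312) (iv F15625)
def n8195 : Q := act 6 n6592
theorem D8195 : act 6 n6592 = n8195 := rfl
theorem F26054 : act 0 n8195 = n7504 := d5_1 D8195 F23768 F23078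
theorem F26055 : act 1 n8195 = n6593 := d11_1 D8195 (iv D6593) D6592
theorem F26056 : act 2 n8195 = n8195 := d16_1 D8195 (iv D8195) F20714
theorem F26057 : act 3 n8195 = n7061 := d20_1 D8195 (iv D7061) (iv F20715)
theorem F26058 : act 4 n8195 = n6598 := d23_1 D8195 (iv D6598) (iv F20716)
theorem F26059 : act 5 n8195 = n7065 := d25_1 D8195 (iv D7065) F17190 (iv F16530) (iv F20717)
def n8196 : Q := act 7 n6592
theorem D8196 : act 7 n6592 = n8196 := rfl
theorem F26060 : act 0 n8196 = n6864 := d6_1 D8196 (iv F23082) F23078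
theorem F26061 : act 1 n8196 = n6594 := d12_1 D8196 (iv D6594) D6592
theorem F26062 : act 2 n8196 = n8196 := d17_1 D8196 (iv D8196) F20714
theorem F26063 : act 4 n8196 = n6599 := d24_1 D8196 (iv D6599) (iv F20716)
theorem F26064 : act 5 n8196 = n6873 := d26_1 D8196 (iv D6873) (iv F20717)
def n8197 : Q := act 7 n6593
theorem D8197 : act 7 n6593 = n8197 := rfl
theorem F26065 : act 2 n8197 = n6607 := d17_1 D8197 (iv D6607) (iv F20718)
theorem F26066 : act 4 n8197 = n6600 := d24_1 D8197 (iv D6600) (iv F20719)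
theorem F26067 : act 5 n8197 = n7167 := d26_1 D8197 (iv D7167) (iv F20720)
def n8198 : Q := act 3 n6594
theorem D8198 : act 3 n6594 = n8198 := rfl
theorem F26068 : act 0 n8198 = n7488 := d2_1 D8198 (iv F25712) F25709
theorem F26069 : act 5 n8198 = n6595 := d19_2 (iv F20723) D8198 (iv D6595)
theorem F26070 : act 7 n8198 = n7464 := d21_2 D6594 D8198 F23636 F20708 F20706
theorem F26071 : act 2 n8000 = n8198 := d17_3 F26070 F23635 D8000
theorem F26072 : act 4 n7466 = n8198 := d24_3 F26070 (iv D7464) D7466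
def n8199 : Q := act 6 n6594
theorem D8199 : act 6 n6594 = n8199 := rfl
theorem F26073 : act 2 n8199 = n6609 := d16_1 D8199 (iv D6609) (iv F20721)
theorem F26074 : act 4 n8199 = n6602 := d23_1 D8199 (iv D6602) (iv F20722)
def n8200 : Q := act 2 n6595
theorem D8200 : act 2 n6595 = n8200 := rfl
theorem F26075 : act 1 n8200 = n8200 := d7_1 D8200 (iv D8200) F20724 F16536 (iv F20724)
theorem F26076 : act 3 n8200 = n6610 := d13_2 D6595 D8200 (iv D6610) (iv D5047) (iv F15629)
theorem F26077 : act 5 n8200 = n8000 := d15_2 F26069 D8200 F26071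
theorem F26078 : act 7 n8200 = n7965 := d17_2 F26047 D8200 F26048
theorem F26079 : act 4 n7966 = n8200 := d24_3 F26078 (iv D7965) D7966
def n8201 : Q := act 4 n6595
theorem D8201 : act 4 n6595 = n8201 := rfl
theorem F26080 : act 0 n8201 = n6966 := d3_1 D8201 F25719 F25715
theorem F26081 : act 1 n8201 = n6876 := d9_1 D8201 (iv D6876) (iv F20724)
theorem F26082 : act 2 n8201 = n7966 := d14_1 D8201 F26079 (iv D8200)
theorem F26083 : act 3 n8201 = n6604 := d18_1 D8201 (iv D6604) (iv D5043) (iv F15630) D6595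
theorem F26084 : act 5 n8201 = n7466 := d22_2 F26069 D8201 F26072
theorem F26085 : act 7 n8201 = n6931 := d24_2 F26047 D8201 (iv F26045)
def n8202 : Q := act 6 n6595
theorem D8202 : act 6 n6595 = n8202 := rfl
theorem F26086 : act 1 n8202 = n6877 := d11_1 D8202 (iv D6877) (iv F20724)
theorem F26087 : act 3 n8202 = n6596 := d20_1 D8202 (iv D6596) D6595
def n8203 : Q := act 5 n6596
theorem D8203 : act 5 n6596 = n8203 := rfl
theorem F26088 : act 2 n8203 = n6613 := d15_1 D8203 (iv D6613) (iv F20726)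
theorem F26089 : act 4 n8203 = n6606 := d22_1 D8203 (iv D6606) (iv F20727)
theorem F26090 : act 7 n8203 = n7392 := d26_2 (iv F20728) D8203 (iv D7392)
def n8204 : Q := act 6 n6597
theorem D8204 : act 6 n6597 = n8204 := rfl
theorem F26091 : act 0 n8204 = n6598 := d5_1 D8204 (iv D6598) D6597
theorem F26092 : act 2 n8204 = n8204 := d16_1 D8204 (iv D8204) F20729
theorem F26093 : act 3 n8204 = n7166 := d20_1 D8204 (iv D7166) (iv F20730)
theorem F26094 : act 4 n8204 = n7504 := d23_1 D8204 F23768 F23081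
theorem F26095 : act 5 n8204 = n7500 := d25_1 D8204 (iv D7500) F20300 F20299 (iv F20731)
def n8205 : Q := act 7 n6598
theorem D8205 : act 7 n6598 = n8205 := rfl
theorem F26096 : act 1 n8205 = n6600 := d12_1 D8205 (iv D6600) (iv F20733)
theorem F26097 : act 2 n8205 = n8205 := d17_1 D8205 (iv D8205) F20734
def n8206 : Q := act 6 n6599
theorem D8206 : act 6 n6599 = n8206 := rfl
theorem F26098 : act 0 n8206 = n6865 := d5_1 D8206 (iv D6865) (iv F20736)
theorem F26099 : act 1 n8206 = n6602 := d11_1 D8206 (iv D6602) (iv F20737)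
theorem F26100 : act 2 n8206 = n8206 := d16_1 D8206 (iv D8206) F20738
theorem F26101 : act 3 n8206 = n6853 := d20_1 D8206 (iv D6853) (iv F20739)
def n8207 : Q := act 3 n6600
theorem D8207 : act 3 n6600 = n8207 := rfl
theorem F26102 : act 7 n8207 = n7169 := d21_2 D6600 D8207 (iv D7169) (iv D5599) (iv F15635)
def n8208 : Q := act 6 n6600
theorem D8208 : act 6 n6600 = n8208 := rfl
theorem F26103 : act 2 n8208 = n6614 := d16_1 D8208 (iv D6614) (iv F20741)
theorem F26104 : act 7 n8208 = n6602 := d27_2 D6600 D8208 (iv D6602) (iv D5042) D5041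
def n8209 : Q := act 4 n6601
theorem D8209 : act 4 n6601 = n8209 := rfl
theorem F26105 : act 0 n8209 = n7280 := d3_1 D8209 (iv F25739) F25736
theorem F26106 : act 1 n8209 = n6850 := d9_1 D8209 F21588 (iv F20742)
theorem F26107 : act 2 n8209 = n6843 := d14_1 D8209 F21563 F20745
theorem F26108 : act 3 n8209 = n7466 := d18_1 D8209 F26072 (iv D8198) F20722 D6601
theorem F26109 : act 5 n8209 = n6604 := d22_2 (iv F20743) D8209 (iv D6604)
theorem F26110 : act 7 n8209 = n7171 := d24_2 (iv F20744) D8209 (iv D7171)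
def n8210 : Q := act 6 n6601
theorem D8210 : act 6 n6601 = n8210 := rfl
theorem F26111 : act 1 n8210 = n6853 := d11_1 D8210 (iv D6853) (iv F20742)
theorem F26112 : act 2 n8210 = n6845 := d16_1 D8210 (iv D6845) F20745
theorem F26113 : act 3 n8210 = n6602 := d20_1 D8210 (iv D6602) D6601
def n8211 : Q := act 5 n6602
theorem D8211 : act 5 n6602 = n8211 := rfl
theorem F26114 : act 2 n8211 = n6618 := d15_1 D8211 (iv D6618) (iv F20746)
theorem F26115 : act 6 n8211 = n6606 := d25_2 D6602 D8211 (iv D6606) (iv D5044) (iv F15637)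
def n8212 : Q := act 4 n6603
theorem D8212 : act 4 n6603 = n8212 := rfl
theorem F26116 : act 1 n8212 = n6827 := d9_1 D8212 F21505 (iv F20747)
theorem F26117 : act 2 n8212 = n6604 := d14_1 D8212 (iv D6604) D6603
theorem F26118 : act 5 n8212 = n6843 := d22_2 (iv F20749) D8212 F21563
theorem F26119 : act 7 n8212 = n7174 := d24_2 (iv F20750) D8212 (iv D7174)
def n8213 : Q := act 6 n6603
theorem D8213 : act 6 n6603 = n8213 := rfl
theorem F26120 : act 1 n8213 = n6828 := d11_1 D8213 (iv D6828) (iv F20747)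
theorem F26121 : act 2 n8213 = n6605 := d16_1 D8213 (iv D6605) D6603
theorem F26122 : act 3 n8213 = n6621 := d20_1 D8213 (iv D6621) (iv F20748)
def n8214 : Q := act 6 n6604
theorem D8214 : act 6 n6604 = n8214 := rfl
theorem F26123 : act 1 n8214 = n6885 := d11_1 D8214 (iv D6885) (iv F20751)
theorem F26124 : act 4 n8214 = n6605 := d23_1 D8214 (iv D6605) D6604
def n8215 : Q := act 5 n6605
theorem D8215 : act 5 n6605 = n8215 := rfl
theorem F26125 : act 3 n8215 = n6606 := d19_1 D8215 (iv D6606) (iv F20754)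
def n8216 : Q := act 7 n6605
theorem D8216 : act 7 n6605 = n8216 := rfl
theorem F26126 : act 1 n8216 = n6887 := d12_1 D8216 (iv D6887) (iv F20753)
theorem F26127 : act 6 n8216 = n7178 := d27_1 D8216 (iv D7178) (iv D5604) (iv F15639) D6605
def n8217 : Q := act 1 n6606
theorem D8217 : act 1 n6606 = n8217 := rfl
theorem F26128 : act 5 n8217 = n6888 := d10_2 D6606 D8217 (iv D6888) (iv D5318) (iv F15640)
def n8218 : Q := act 3 n6607
theorem D8218 : act 3 n6607 = n8218 := rfl
theorem F26129 : act 1 n8218 = n8218 := d8_1 D8218 (iv D8218) F20756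
theorem F26130 : act 5 n8218 = n7528 := d19_2 (iv F20758) D8218 (iv D7528)
theorem F26131 : act 7 n8218 = n8218 := d21_2 D6607 D8218 (iv D8218) (iv D6607) F15643
def n8219 : Q := act 6 n6607
theorem D8219 : act 6 n6607 = n8219 := rfl
theorem F26132 : act 1 n8219 = n8219 := d11_1 D8219 (iv D8219) F20756
theorem F26133 : act 4 n8219 = n6614 := d23_1 D8219 (iv D6614) (iv F20757)
theorem F26134 : act 7 n8219 = n6609 := d27_2 D6607 D8219 (iv D6609) (iv D5046) D5045
def n8220 : Q := act 2 n6608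
theorem D8220 : act 2 n6608 = n8220 := rfl
theorem F26135 : act 3 n8220 = n8000 := d13_2 D6608 D8220 F26071 (iv D8198) F20721
theorem F26136 : act 5 n8220 = n6610 := d15_2 (iv F20760) D8220 (iv D6610)
theorem F26137 : act 7 n8220 = n8220 := d17_2 F20761 D8220 (iv D8220)
theorem F26138 : act 1 n8040 = n8220 := d8_3 F26135 F25302 D8040
def n8221 : Q := act 4 n6608
theorem D8221 : act 4 n6608 = n8221 := rfl
theorem F26139 : act 1 n8221 = n8221 := d9_1 D8221 (iv D8221) F20759
theorem F26140 : act 3 n8221 = n6616 := d18_1 D8221 (iv D6616) (iv D5050) (iv F15647) D6608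
theorem F26141 : act 5 n8221 = n6611 := d22_2 (iv F20760) D8221 (iv D6611)
theorem F26142 : act 7 n8221 = n8221 := d24_2 F20761 D8221 (iv D8221)
def n8222 : Q := act 6 n6608
theorem D8222 : act 6 n6608 = n8222 := rfl
theorem F26143 : act 1 n8222 = n8222 := d11_1 D8222 (iv D8222) F20759
theorem F26144 : act 3 n8222 = n6609 := d20_1 D8222 (iv D6609) D6608
def n8223 : Q := act 5 n6609
theorem D8223 : act 5 n6609 = n8223 := rfl
theorem F26145 : act 4 n8223 = n6618 := d22_1 D8223 (iv D6618) (iv F20763)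
theorem F26146 : act 6 n8223 = n6613 := d25_2 D6609 D8223 (iv D6613) (iv D5048) (iv F15648)
def n8224 : Q := act 4 n6610
theorem D8224 : act 4 n6610 = n8224 := rfl
theorem F26147 : act 1 n8224 = n8224 := d9_1 D8224 (iv D8224) F20764
theorem F26148 : act 2 n8224 = n6611 := d14_1 D8224 (iv D6611) D6610
theorem F26149 : act 7 n8224 = n8224 := d24_2 F20765 D8224 (iv D8224)
def n8225 : Q := act 6 n6610
theorem D8225 : act 6 n6610 = n8225 := rfl
theorem F26150 : act 1 n8225 = n8225 := d11_1 D8225 (iv D8225) F20764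
theorem F26151 : act 2 n8225 = n6612 := d16_1 D8225 (iv D6612) D6610
def n8226 : Q := act 6 n6611
theorem D8226 : act 6 n6611 = n8226 := rfl
theorem F26152 : act 1 n8226 = n6636 := d11_1 D8226 (iv D6636) (iv F20766)
theorem F26153 : act 3 n8226 = n6622 := d20_1 D8226 (iv D6622) (iv F20767)
theorem F26154 : act 4 n8226 = n6612 := d23_1 D8226 (iv D6612) D6611
def n8227 : Q := act 5 n6612
theorem D8227 : act 5 n6612 = n8227 := rfl
theorem F26155 : act 3 n8227 = n6613 := d19_1 D8227 (iv D6613) (iv F20770)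
def n8228 : Q := act 7 n6612
theorem D8228 : act 7 n6612 = n8228 := rfl
theorem F26156 : act 0 n8228 = n7944 := d6_1 D8228 F25773 F25770
theorem F26157 : act 1 n8228 = n6638 := d12_1 D8228 (iv D6638) (iv F20769)
theorem F26158 : act 3 n8228 = n7678 := d21_1 D8228 (iv D7678) F19059 (iv F15653) (iv F20770)
theorem F26159 : act 6 n8228 = n8228 := d27_1 D8228 (iv D8228) (iv D6612) F15650 D6612
def n8229 : Q := act 1 n6613
theorem D8229 : act 1 n6613 = n8229 := rfl
theorem F26160 : act 4 n8229 = n6625 := d9_2 (iv F20771) D8229 (iv D6625)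
theorem F26161 : act 5 n8229 = n6639 := d10_2 D6613 D8229 (iv D6639) (iv D5065) (iv F15651)
theorem F26162 : act 7 n8229 = n7679 := d12_2 (iv F20772) D8229 (iv D7679)
def n8230 : Q := act 5 n6614
theorem D8230 : act 5 n6614 = n8230 := rfl
theorem F26163 : act 7 n8230 = n6618 := d26_2 (iv F20774) D8230 (iv D6618)
def n8231 : Q := act 4 n6615
theorem D8231 : act 4 n6615 = n8231 := rfl
theorem F26164 : act 0 n8231 = n6848 := d3_1 D8231 F21580 (iv F20775)
theorem F26165 : act 1 n8231 = n6838 := d9_1 D8231 F21542 F20779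
theorem F26166 : act 2 n8231 = n6616 := d14_1 D8231 (iv D6616) D6615
theorem F26167 : act 5 n8231 = n6620 := d22_2 (iv F20777) D8231 (iv D6620)
theorem F26168 : act 7 n8231 = n6627 := d24_2 (iv F20778) D8231 (iv D6627)
def n8232 : Q := act 6 n6615
theorem D8232 : act 6 n6615 = n8232 := rfl
theorem F26169 : act 0 n8232 = n8076 := d5_1 D8232 (iv D8076) (iv F20775)
theorem F26170 : act 1 n8232 = n6839 := d11_1 D8232 (iv D6839) F20779
theorem F26171 : act 2 n8232 = n6617 := d16_1 D8232 (iv D6617) D6615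
theorem F26172 : act 3 n8232 = n6845 := d20_1 D8232 (iv D6845) (iv F20776)
def n8233 : Q := act 6 n6616
theorem D8233 : act 6 n6616 = n8233 := rfl
theorem F26173 : act 1 n8233 = n8233 := d11_1 D8233 (iv D8233) F20780
theorem F26174 : act 4 n8233 = n6617 := d23_1 D8233 (iv D6617) D6616
theorem F26175 : act 7 n8233 = n7022 := d27_2 (iv F20782) D8233 (iv D7022) F17061 F17032
def n8234 : Q := act 5 n6617
theorem D8234 : act 5 n6617 = n8234 := rfl
theorem F26176 : act 3 n8234 = n6618 := d19_1 D8234 (iv D6618) (iv F20784)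
theorem F26177 : act 6 n8234 = n6623 := d25_2 D6617 D8234 (iv D6623) (iv D5054) (iv F15656)
def n8235 : Q := act 1 n6618
theorem D8235 : act 1 n6618 = n8235 := rfl
theorem F26178 : act 5 n8235 = n8235 := d10_2 D6618 D8235 (iv D8235) (iv D6618) F15658
theorem F26179 : act 6 n8235 = n6625 := d11_2 (iv F20785) D8235 (iv D6625)
def n8236 : Q := act 4 n6619
theorem D8236 : act 4 n6619 = n8236 := rfl
theorem F26180 : act 0 n8236 = n6823 := d3_1 D8236 F21498 (iv F20786)
theorem F26181 : act 1 n8236 = n6620 := d9_1 D8236 (iv D6620) D6619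
theorem F26182 : act 2 n8236 = n6641 := d14_1 D8236 (iv D6641) (iv F20787)
theorem F26183 : act 5 n8236 = n6821 := d22_2 (iv F20789) D8236 (iv D6821)
theorem F26184 : act 7 n8236 = n6629 := d24_2 (iv F20790) D8236 (iv D6629)
def n8237 : Q := act 6 n6619
theorem D8237 : act 6 n6619 = n8237 := rfl
theorem F26185 : act 0 n8237 = n6824 := d5_1 D8237 (iv D6824) (iv F20786)
theorem F26186 : act 1 n8237 = n6621 := d11_1 D8237 (iv D6621) D6619
theorem F26187 : act 2 n8237 = n6643 := d16_1 D8237 (iv D6643) (iv F20787)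
theorem F26188 : act 3 n8237 = n6828 := d20_1 D8237 (iv D6828) (iv F20788)
def n8238 : Q := act 3 n6620
theorem D8238 : act 3 n6620 = n8238 := rfl
def n8239 : Q := act 6 n6620
theorem D8239 : act 6 n6620 = n8239 := rfl
theorem F26189 : act 2 n8239 = n6622 := d16_1 D8239 (iv D6622) (iv F20791)
theorem F26190 : act 4 n8239 = n6621 := d23_1 D8239 (iv D6621) D6620
def n8240 : Q := act 5 n6621
theorem D8240 : act 5 n6621 = n8240 := rfl
theorem F26191 : act 2 n8240 = n6623 := d15_1 D8240 (iv D6623) (iv F20793)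
def n8241 : Q := act 7 n6621
theorem D8241 : act 7 n6621 = n8241 := rfl
theorem F26192 : act 2 n8241 = n6624 := d17_1 D8241 (iv D6624) (iv F20793)
theorem F26193 : act 6 n8241 = n6634 := d27_1 D8241 (iv D6634) (iv D5060) (iv F15659) D6621
def n8242 : Q := act 5 n6622
theorem D8242 : act 5 n6622 = n8242 := rfl
theorem F26194 : act 4 n8242 = n6623 := d22_1 D8242 (iv D6623) (iv F20795)
def n8243 : Q := act 1 n6623
theorem D8243 : act 1 n6623 = n8243 := rfl
theorem F26195 : act 3 n8243 = n6625 := d8_2 (iv F20796) D8243 (iv D6625)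
theorem F26196 : act 5 n8243 = n6644 := d10_2 D6623 D8243 (iv D6644) (iv D5070) (iv F15662)
def n8244 : Q := act 7 n6623
theorem D8244 : act 7 n6623 = n8244 := rfl
theorem F26197 : act 5 n8244 = n6624 := d26_1 D8244 (iv D6624) D6623
def n8245 : Q := act 0 n6625
theorem D8245 : act 0 n6625 = n8245 := rfl
theorem F26198 : act 5 n8245 = n6645 := d4_2 (iv F20799) D8245 (iv D6645)
def n8246 : Q := act 2 n6625
theorem D8246 : act 2 n6625 = n8246 := rfl
theorem F26199 : act 5 n8246 = n6646 := d15_2 (iv F20799) D8246 (iv D6646)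
def n8247 : Q := act 4 n6628
theorem D8247 : act 4 n6628 = n8247 := rfl
theorem F26200 : act 0 n8247 = n6629 := d3_1 D8247 (iv D6629) D6628
theorem F26201 : act 1 n8247 = n6833 := d9_1 D8247 F21521 (iv F20810)
theorem F26202 : act 2 n8247 = n6647 := d14_1 D8247 (iv D6647) (iv F20811)
theorem F26203 : act 3 n8247 = n8166 := d18_1 D8247 F25952 F20583 F17646 (iv F20812)
theorem F26204 : act 5 n8247 = n6813 := d22_2 F20814 D8247 (iv D6813)
theorem F26205 : act 7 n8247 = n6823 := d24_2 (iv F20813) D8247 F21498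
def n8248 : Q := act 6 n6628
theorem D8248 : act 6 n6628 = n8248 := rfl
theorem F26206 : act 0 n8248 = n6631 := d5_1 D8248 (iv D6631) D6628
theorem F26207 : act 1 n8248 = n7693 := d11_1 D8248 (iv D7693) (iv F20810)
theorem F26208 : act 2 n8248 = n6649 := d16_1 D8248 (iv D6649) (iv F20811)
theorem F26209 : act 3 n8248 = n7209 := d20_1 D8248 (iv D7209) (iv F20812)
def n8249 : Q := act 6 n6629
theorem D8249 : act 6 n6629 = n8249 := rfl
theorem F26210 : act 1 n8249 = n6633 := d11_1 D8249 (iv D6633) (iv F20815)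
theorem F26211 : act 2 n8249 = n6652 := d16_1 D8249 (iv D6652) (iv F20816)
theorem F26212 : act 3 n8249 = n8171 := d20_1 D8249 (iv D8171) (iv F20817)
theorem F26213 : act 4 n8249 = n6631 := d23_1 D8249 (iv D6631) D6629
def n8250 : Q := act 6 n6630
theorem D8250 : act 6 n6630 = n8250 := rfl
theorem F26214 : act 0 n8250 = n6814 := d5_1 D8250 (iv D6814) (iv F20819)
theorem F26215 : act 1 n8250 = n6835 := d11_1 D8250 (iv D6835) (iv F20820)
theorem F26216 : act 2 n8250 = n6653 := d16_1 D8250 (iv D6653) (iv F20821)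
theorem F26217 : act 3 n8250 = n7211 := d20_1 D8250 (iv D7211) (iv F20822)
theorem F26218 : act 4 n8250 = n8170 := d23_1 D8250 (iv D8170) (iv F20823)
def n8251 : Q := act 5 n6631
theorem D8251 : act 5 n6631 = n8251 := rfl
theorem F26219 : act 2 n8251 = n6654 := d15_1 D8251 (iv D6654) (iv F20826)
theorem F26220 : act 3 n8251 = n7212 := d19_1 D8251 (iv D7212) (iv F20827)
def n8252 : Q := act 7 n6631
theorem D8252 : act 7 n6631 = n8252 := rfl
theorem F26221 : act 1 n8252 = n6634 := d12_1 D8252 (iv D6634) (iv F20825)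
theorem F26222 : act 2 n8252 = n6655 := d17_1 D8252 (iv D6655) (iv F20826)
def n8253 : Q := act 6 n6632
theorem D8253 : act 6 n6632 = n8253 := rfl
theorem F26223 : act 1 n8253 = n8171 := d11_1 D8253 (iv D8171) (iv F20828)
theorem F26224 : act 2 n8253 = n8253 := d16_1 D8253 (iv D8253) F20829
theorem F26225 : act 3 n8253 = n6633 := d20_1 D8253 (iv D6633) D6632
theorem F26226 : act 4 n8253 = n7214 := d23_1 D8253 (iv D7214) (iv F20830)
def n8254 : Q := act 7 n6633
theorem D8254 : act 7 n6633 = n8254 := rfl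
theorem F26227 : act 2 n8254 = n6635 := d17_1 D8254 (iv D6635) (iv F20832)
theorem F26228 : act 4 n8254 = n6634 := d24_1 D8254 (iv D6634) (iv F20833)
def n8255 : Q := act 3 n6634
theorem D8255 : act 3 n6634 = n8255 := rfl
theorem F26229 : act 7 n8255 = n7218 := d21_2 D6634 D8255 (iv D7218) (iv D5637) (iv F15673)
def n8256 : Q := act 1 n6637
theorem D8256 : act 1 n6637 = n8256 := rfl
theorem F26230 : act 3 n8256 = n6639 := d8_2 (iv F20843) D8256 (iv D6639)
theorem F26231 : act 6 n8256 = n8256 := d11_2 F20844 D8256 (iv D8256)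
def n8257 : Q := act 0 n6639
theorem D8257 : act 0 n6639 = n8257 := rfl
theorem F26232 : act 1 n8257 = n6687 := d0_2 D6639 D8257 (iv D6687) (iv D5102) (iv F15686)
theorem F26233 : act 4 n8257 = n6645 := d3_2 (iv F20849) D8257 (iv D6645)
theorem F26234 : act 6 n8257 = n8257 := d5_2 F20850 D8257 (iv D8257)
theorem F26235 : act 7 n8257 = n7681 := d6_2 (iv F20851) D8257 (iv D7681)
def n8258 : Q := act 2 n6639
theorem D8258 : act 2 n6639 = n8258 := rfl
theorem F26236 : act 1 n8258 = n6903 := d7_1 D8258 (iv D6903) (iv D5335) (iv F15687) D6639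
theorem F26237 : act 4 n8258 = n6646 := d14_2 (iv F20849) D8258 (iv D6646)
theorem F26238 : act 6 n8258 = n8258 := d16_2 F20850 D8258 (iv D8258)
theorem F26239 : act 7 n8258 = n7682 := d17_2 (iv F20851) D8258 (iv D7682)
def n8259 : Q := act 6 n6640
theorem D8259 : act 6 n6640 = n8259 := rfl
theorem F26240 : act 0 n8259 = n6643 := d5_1 D8259 (iv D6643) D6640
theorem F26241 : act 1 n8259 = n6689 := d11_1 D8259 (iv D6689) (iv F20852)
theorem F26242 : act 2 n8259 = n6824 := d16_1 D8259 (iv D6824) (iv F20853)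
theorem F26243 : act 3 n8259 = n6904 := d20_1 D8259 (iv D6904) (iv F20854)
def n8260 : Q := act 5 n6641
theorem D8260 : act 5 n6641 = n8260 := rfl
theorem F26244 : act 0 n8260 = n6812 := d4_1 D8260 (iv F25182) F25178
theorem F26245 : act 1 n8260 = n8260 := d10_1 D8260 (iv D8260) F20857 F15696 (iv F20857)
theorem F26246 : act 2 n8260 = n6821 := d15_1 D8260 (iv F26183) F26182
theorem F26247 : act 3 n8260 = n8260 := d19_1 D8260 (iv D8260) F20858
theorem F26248 : act 4 n8260 = n6642 := d22_1 D8260 (iv D6642) D6641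
theorem F26249 : act 7 n8260 = n6651 := d26_2 (iv F20859) D8260 (iv D6651)
def n8261 : Q := act 5 n6643
theorem D8261 : act 5 n6643 = n8261 := rfl
theorem F26250 : act 3 n8261 = n6905 := d19_1 D8261 (iv D6905) (iv F20866)
def n8262 : Q := act 2 n6644
theorem D8262 : act 2 n6644 = n8262 := rfl
theorem F26251 : act 1 n8262 = n7537 := d7_1 D8262 (iv F23893) F23892 F19092 D6644
theorem F26252 : act 6 n8262 = n8262 := d16_2 F20868 D8262 (iv D8262)
theorem F26253 : act 7 n8262 = n7530 := d17_2 (iv F21279) D8262 F23851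
def n8263 : Q := act 2 n6645
theorem D8263 : act 2 n6645 = n8263 := rfl
theorem F26254 : act 0 n8263 = n6646 := d1_1 D8263 (iv D6646) D6645
theorem F26255 : act 6 n8263 = n8263 := d16_2 F20870 D8263 (iv D8263)
def n8264 : Q := act 3 n6646
theorem D8264 : act 3 n6646 = n8264 := rfl
theorem F26256 : act 1 n8264 = n6909 := d8_1 D8264 (iv D6909) (iv F20871)
theorem F26257 : act 6 n8264 = n8264 := d20_2 F20872 D8264 (iv D8264)
def n8265 : Q := act 3 n6647
theorem D8265 : act 3 n6647 = n8265 := rfl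
theorem F26258 : act 0 n8265 = n6650 := d2_1 D8265 (iv D6650) (iv F20873)
theorem F26259 : act 1 n8265 = n6691 := d8_1 D8265 (iv D6691) (iv F20874)
theorem F26260 : act 4 n8265 = n6659 := d18_2 D6647 D8265 (iv D6659) (iv D5082) (iv F15710)
theorem F26261 : act 7 n8265 = n8265 := d21_2 F25183 D8265 (iv D8265) (iv F25183) F25180
def n8266 : Q := act 5 n6647
theorem D8266 : act 5 n6647 = n8266 := rfl
theorem F26262 : act 0 n8266 = n6651 := d4_1 D8266 (iv D6651) (iv F20873)
theorem F26263 : act 1 n8266 = n6806 := d10_1 D8266 F21439 F18033 (iv F15946) (iv F20874)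
theorem F26264 : act 2 n8266 = n6813 := d15_1 D8266 (iv F26204) F26202
theorem F26265 : act 4 n8266 = n6648 := d22_1 D8266 (iv D6648) D6647
theorem F26266 : act 7 n8266 = n6812 := d26_2 F25183 D8266 (iv F25182)
def n8267 : Q := act 6 n6647
theorem D8267 : act 6 n6647 = n8267 := rfl
theorem F26267 : act 0 n8267 = n6652 := d5_1 D8267 (iv D6652) (iv F20873)
theorem F26268 : act 1 n8267 = n6692 := d11_1 D8267 (iv D6692) (iv F20874)
theorem F26269 : act 4 n8267 = n6649 := d23_1 D8267 (iv D6649) D6647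
def n8268 : Q := act 6 n6648
theorem D8268 : act 6 n6648 = n8268 := rfl
theorem F26270 : act 0 n8268 = n6653 := d5_1 D8268 (iv D6653) (iv F20875)
theorem F26271 : act 1 n8268 = n6807 := d11_1 D8268 (iv D6807) (iv F20876)
theorem F26272 : act 2 n8268 = n6814 := d16_1 D8268 (iv D6814) (iv F20877)
theorem F26273 : act 3 n8268 = n6663 := d20_1 D8268 (iv D6663) (iv F20878)
def n8269 : Q := act 5 n6649
theorem D8269 : act 5 n6649 = n8269 := rfl
theorem F26274 : act 0 n8269 = n6654 := d4_1 D8269 (iv D6654) (iv F20880)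
theorem F26275 : act 3 n8269 = n6664 := d19_1 D8269 (iv D6664) (iv F20882)
def n8270 : Q := act 7 n6649
theorem D8270 : act 7 n6649 = n8270 := rfl
theorem F26276 : act 0 n8270 = n6655 := d6_1 D8270 (iv D6655) (iv F20880)
theorem F26277 : act 1 n8270 = n6695 := d12_1 D8270 (iv D6695) (iv F20881)
theorem F26278 : act 3 n8270 = n8136 := d21_1 D8270 (iv D8136) F20933 (iv D6665) (iv F20882)
def n8271 : Q := act 6 n6650
theorem D8271 : act 6 n6650 = n8271 := rfl
theorem F26279 : act 1 n8271 = n6656 := d11_1 D8271 (iv D6656) (iv F20883)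
theorem F26280 : act 3 n8271 = n6652 := d20_1 D8271 (iv D6652) D6650
theorem F26281 : act 4 n8271 = n6668 := d23_1 D8271 (iv D6668) (iv F20884)
theorem F26282 : act 7 n8256 = n8271 := d21_0 F26280 (iv F24344) F24341 (iv F20851) (iv F26230)
def n8272 : Q := act 6 n6651
theorem D8272 : act 6 n6651 = n8272 := rfl
theorem F26283 : act 1 n8272 = n8272 := d11_1 D8272 (iv D8272) F20886
theorem F26284 : act 2 n8272 = n8170 := d16_1 D8272 (iv D8170) (iv F20887)
theorem F26285 : act 4 n8272 = n6653 := d23_1 D8272 (iv D6653) (iv F20888)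
def n8273 : Q := act 5 n6652
theorem D8273 : act 5 n6652 = n8273 := rfl
theorem F26286 : act 4 n8273 = n6654 := d22_1 D8273 (iv D6654) (iv F20890)
def n8274 : Q := act 5 n6653
theorem D8274 : act 5 n6653 = n8274 := rfl
theorem F26287 : act 3 n8274 = n6671 := d19_1 D8274 (iv D6671) (iv F20892)
theorem F26288 : act 6 n8274 = n6654 := d25_2 D6653 D8274 (iv D6654) (iv D5076) D5075
def n8275 : Q := act 7 n6653
theorem D8275 : act 7 n6653 = n8275 := rfl
theorem F26289 : act 1 n8275 = n8275 := d12_1 D8275 (iv D8275) F20891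
def n8276 : Q := act 1 n6654
theorem D8276 : act 1 n6654 = n8276 := rfl
theorem F26290 : act 3 n8276 = n6673 := d8_2 (iv F20893) D8276 (iv D6673)
theorem F26291 : act 5 n8276 = n6657 := d10_2 D6654 D8276 (iv D6657) (iv D5079) (iv F15714)
def n8277 : Q := act 7 n6654
theorem D8277 : act 7 n6654 = n8277 := rfl
theorem F26292 : act 5 n8277 = n6655 := d26_1 D8277 (iv D6655) D6654
def n8278 : Q := act 3 n6655
theorem D8278 : act 3 n6655 = n8278 := rfl
theorem F26293 : act 0 n8278 = n8136 := d2_1 D8278 (iv F26278) F26276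
theorem F26294 : act 1 n8278 = n6658 := d8_1 D8278 (iv D6658) (iv F20894)
theorem F26295 : act 4 n8278 = n8158 := d18_2 F24342 D8278 F25921 F20550 (iv F24341)
theorem F26296 : act 7 n8278 = n6675 := d21_2 D6655 D8278 (iv D6675) (iv D5090) (iv F15715)
def n8279 : Q := act 5 n6659
theorem D8279 : act 5 n6659 = n8279 := rfl
theorem F26297 : act 0 n8279 = n6667 := d4_1 D8279 (iv D6667) (iv F20907)
theorem F26298 : act 3 n8279 = n6660 := d19_1 D8279 (iv D6660) D6659
theorem F26299 : act 7 n8279 = n8279 := d26_2 F20909 D8279 (iv D8279)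
def n8280 : Q := act 6 n6659
theorem D8280 : act 6 n6659 = n8280 := rfl
theorem F26300 : act 0 n8280 = n6668 := d5_1 D8280 (iv D6668) (iv F20907)
theorem F26301 : act 1 n8280 = n6700 := d11_1 D8280 (iv D6700) (iv F20908)
theorem F26302 : act 3 n8280 = n6661 := d20_1 D8280 (iv D6661) D6659
def n8281 : Q := act 1 n6660
theorem D8281 : act 1 n6660 = n8281 := rfl
theorem F26303 : act 0 n8281 = n8281 := d0_1 D8281 (iv D8281) F20910 F15744 (iv F20910)
theorem F26304 : act 2 n8281 = n6803 := d7_2 (iv F20911) D8281 F23591 (iv D7451) F18345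
theorem F26305 : act 4 n8281 = n6662 := d9_2 (iv F20912) D8281 (iv D6662)
theorem F26306 : act 5 n8281 = n6701 := d10_2 D6660 D8281 (iv D6701) (iv D5118) (iv F15733)
theorem F26307 : act 7 n8281 = n6910 := d12_2 (iv F20913) D8281 (iv D6910)
def n8282 : Q := act 6 n6660
theorem D8282 : act 6 n6660 = n8282 := rfl
theorem F26308 : act 0 n8282 = n6669 := d5_1 D8282 (iv D6669) (iv F20910)
theorem F26309 : act 2 n8282 = n7241 := d16_1 D8282 (iv D7241) (iv F20911)
theorem F26310 : act 4 n8282 = n6663 := d23_1 D8282 (iv D6663) (iv F20912)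
def n8283 : Q := act 5 n6661
theorem D8283 : act 5 n6661 = n8283 := rfl
theorem F26311 : act 0 n8283 = n6670 := d4_1 D8283 (iv D6670) (iv F20914)
theorem F26312 : act 2 n8283 = n7242 := d15_1 D8283 (iv D7242) (iv F20916)
theorem F26313 : act 4 n8283 = n6664 := d22_1 D8283 (iv D6664) (iv F20917)
theorem F26314 : act 7 n8283 = n7703 := d26_2 (iv F20918) D8283 (iv D7703)
def n8284 : Q := act 6 n6662
theorem D8284 : act 6 n6662 = n8284 := rfl
theorem F26315 : act 0 n8284 = n8284 := d5_1 D8284 (iv D8284) F20919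
theorem F26316 : act 1 n8284 = n6663 := d11_1 D8284 (iv D6663) D6662
theorem F26317 : act 2 n8284 = n6804 := d16_1 D8284 (iv D6804) (iv F20920)
theorem F26318 : act 3 n8284 = n6807 := d20_1 D8284 (iv D6807) (iv F20921)
def n8285 : Q := act 5 n6663
theorem D8285 : act 5 n6663 = n8285 := rfl
theorem F26319 : act 0 n8285 = n6671 := d4_1 D8285 (iv D6671) (iv F20924)
theorem F26320 : act 2 n8285 = n7244 := d15_1 D8285 (iv D7244) (iv F20925)
theorem F26321 : act 6 n8285 = n6664 := d25_2 D6663 D8285 (iv D6664) (iv D5084) D5083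
def n8286 : Q := act 7 n6663
theorem D8286 : act 7 n6663 = n8286 := rfl
theorem F26322 : act 0 n8286 = n6672 := d6_1 D8286 (iv D6672) (iv F20924)
theorem F26323 : act 2 n8286 = n7245 := d17_1 D8286 (iv D7245) (iv F20925)
theorem F26324 : act 6 n8286 = n6913 := d27_1 D8286 (iv D6913) (iv D5347) (iv F15738) D6663
def n8287 : Q := act 1 n6664
theorem D8287 : act 1 n6664 = n8287 := rfl
theorem F26325 : act 5 n8287 = n6707 := d10_2 D6664 D8287 (iv D6707) (iv D5122) (iv F15740)
theorem F26326 : act 7 n8130 = n8287 := d26_0 F26325 F21074 D8130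
def n8288 : Q := act 7 n6664
theorem D8288 : act 7 n6664 = n8288 := rfl
theorem F26327 : act 0 n8288 = n6674 := d6_1 D8288 (iv D6674) (iv F20926)
theorem F26328 : act 1 n8288 = n8130 := d12_1 D8288 F26326 (iv D8287)
theorem F26329 : act 2 n8288 = n7238 := d17_1 D8288 (iv F22919) (iv F20927)
theorem F26330 : act 4 n8288 = n7703 := d24_1 D8288 (iv F26314) F26313
theorem F26331 : act 5 n8288 = n6665 := d26_1 D8288 (iv D6665) D6664
theorem F26332 : act 3 n8133 = n8288 := d19_3 F26331 (iv F20933) (iv F25827)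
def n8289 : Q := act 6 n6666
theorem D8289 : act 6 n6666 = n8289 := rfl
theorem F26333 : act 1 n8289 = n8289 := d11_1 D8289 (iv D8289) F20934
theorem F26334 : act 2 n8289 = n6668 := d16_1 D8289 (iv D6668) D6666
theorem F26335 : act 3 n8289 = n7246 := d20_1 D8289 (iv D7246) (iv F20935)
def n8290 : Q := act 6 n6667
theorem D8290 : act 6 n6667 = n8290 := rfl
theorem F26336 : act 1 n8290 = n8290 := d11_1 D8290 (iv D8290) F20937
theorem F26337 : act 3 n8290 = n6669 := d20_1 D8290 (iv D6669) (iv F20938)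
def n8291 : Q := act 5 n6668
theorem D8291 : act 5 n6668 = n8291 := rfl
theorem F26338 : act 3 n8291 = n6670 := d19_1 D8291 (iv D6670) (iv F20941)
def n8292 : Q := act 7 n6668
theorem D8292 : act 7 n6668 = n8292 := rfl
theorem F26339 : act 1 n8292 = n6677 := d12_1 D8292 (iv D6677) (iv F20940)
theorem F26340 : act 3 n8292 = n7684 := d21_1 D8292 (iv D7684) F19074 (iv F15751) (iv F20941)
theorem F26341 : act 4 n8292 = n8256 := d24_1 D8292 F26282 F26281
theorem F26342 : act 6 n8292 = n8292 := d27_1 D8292 (iv D8292) (iv D6668) F15743 D6668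
def n8293 : Q := act 5 n6669
theorem D8293 : act 5 n6669 = n8293 := rfl
theorem F26343 : act 2 n8293 = n7249 := d15_1 D8293 (iv D7249) (iv F20943)
theorem F26344 : act 4 n8293 = n6671 := d22_1 D8293 (iv D6671) (iv F20944)
theorem F26345 : act 6 n8293 = n6670 := d25_2 D6669 D8293 (iv D6670) (iv D5087) D5086
def n8294 : Q := act 7 n6669
theorem D8294 : act 7 n6669 = n8294 := rfl
theorem F26346 : act 1 n8294 = n8294 := d12_1 D8294 (iv D8294) F20942
theorem F26347 : act 2 n8294 = n7250 := d17_1 D8294 (iv D7250) (iv F20943)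
theorem F26348 : act 4 n8294 = n6672 := d24_1 D8294 (iv D6672) (iv F20944)
theorem F26349 : act 6 n8294 = n6914 := d27_1 D8294 (iv D6914) (iv D5350) (iv F15747) D6669
def n8295 : Q := act 1 n6670
theorem D8295 : act 1 n6670 = n8295 := rfl
theorem F26350 : act 4 n8295 = n6673 := d9_2 (iv F20946) D8295 (iv D6673)
theorem F26351 : act 5 n8295 = n6678 := d10_2 D6670 D8295 (iv D6678) (iv D5092) (iv F15748)
theorem F26352 : act 7 n8295 = n7706 := d12_2 (iv F20947) D8295 (iv D7706)
def n8296 : Q := act 1 n6671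
theorem D8296 : act 1 n6671 = n8296 := rfl
theorem F26353 : act 5 n8296 = n8296 := d10_2 D6671 D8296 (iv D8296) (iv D6671) F15752
theorem F26354 : act 6 n8296 = n6673 := d11_2 (iv F20949) D8296 (iv D6673)
def n8297 : Q := act 7 n6671
theorem D8297 : act 7 n6671 = n8297 := rfl
theorem F26355 : act 2 n8297 = n7252 := d17_1 D8297 (iv D7252) (iv F20948)
theorem F26356 : act 5 n8297 = n6672 := d26_1 D8297 (iv D6672) D6671
def n8298 : Q := act 3 n6672
theorem D8298 : act 3 n6672 = n8298 := rfl
theorem F26357 : act 1 n8298 = n8298 := d8_1 D8298 (iv D8298) F20950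
theorem F26358 : act 6 n8298 = n6916 := d20_2 (iv F20952) D8298 (iv D6916)
def n8299 : Q := act 0 n6673
theorem D8299 : act 0 n6673 = n8299 := rfl
theorem F26359 : act 5 n8299 = n6679 := d4_2 (iv F20953) D8299 (iv D6679)
def n8300 : Q := act 2 n6673
theorem D8300 : act 2 n6673 = n8300 := rfl
theorem F26360 : act 1 n8300 = n7255 := d7_1 D8300 (iv D7255) (iv D5674) (iv F15754) D6673
theorem F26361 : act 5 n8300 = n6680 := d15_2 (iv F20953) D8300 (iv D6680)
def n8301 : Q := act 7 n6673
theorem D8301 : act 7 n6673 = n8301 := rfl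
theorem F26362 : act 1 n8301 = n6674 := d12_1 D8301 (iv D6674) D6673
theorem F26363 : act 4 n8301 = n7706 := d24_1 D8301 (iv F26352) F26350
theorem F26364 : act 5 n8301 = n6681 := d26_1 D8301 (iv D6681) (iv F20953)
def n8302 : Q := act 3 n6674
theorem D8302 : act 3 n6674 = n8302 := rfl
theorem F26365 : act 0 n8302 = n8133 := d2_1 D8302 F26332 F26327
theorem F26366 : act 5 n8302 = n6675 := d19_2 (iv F20956) D8302 (iv D6675)
theorem F26367 : act 4 n8187 = n8302 := d22_3 F26366 (iv F20960) D8187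
def n8303 : Q := act 6 n6674
theorem D8303 : act 6 n6674 = n8303 := rfl
theorem F26368 : act 2 n8303 = n7257 := d16_1 D8303 (iv D7257) (iv F20954)
theorem F26369 : act 4 n8303 = n7704 := d23_1 D8303 F24404 (iv F20955)
theorem F26370 : act 5 n8303 = n6917 := d25_1 D8303 (iv D6917) F16704 (iv F15758) (iv F20956)
def n8304 : Q := act 2 n6675
theorem D8304 : act 2 n6675 = n8304 := rfl
theorem F26371 : act 0 n8304 = n7259 := d1_1 D8304 F22966 (iv F20957)
theorem F26372 : act 3 n8304 = n7258 := d13_2 D6675 D8304 (iv D7258) (iv D5676) (iv F15756)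
theorem F26373 : act 4 n8304 = n8186 := d14_2 F20960 D8304 F26022
theorem F26374 : act 6 n8304 = n6918 := d16_2 (iv F20959) D8304 (iv D6918)
def n8305 : Q := act 1 n6676
theorem D8305 : act 1 n6676 = n8305 := rfl
theorem F26375 : act 3 n8305 = n6678 := d8_2 (iv F20963) D8305 (iv D6678)
theorem F26376 : act 4 n8305 = n8228 := d9_2 (iv F20964) D8305 F26157
theorem F26377 : act 6 n8305 = n8305 := d11_2 F20965 D8305 (iv D8305)
theorem F26378 : act 7 n8305 = n8226 := d12_2 (iv F20966) D8305 F26152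
def n8306 : Q := act 0 n6678
theorem D8306 : act 0 n6678 = n8306 := rfl
theorem F26379 : act 1 n8306 = n6717 := d0_2 D6678 D8306 (iv D6717) (iv D5134) (iv F15762)
theorem F26380 : act 4 n8306 = n6679 := d3_2 (iv F20973) D8306 (iv D6679)
theorem F26381 : act 6 n8306 = n8306 := d5_2 F20974 D8306 (iv D8306)
theorem F26382 : act 7 n8306 = n7707 := d6_2 (iv F20975) D8306 (iv D7707)
def n8307 : Q := act 2 n6679
theorem D8307 : act 2 n6679 = n8307 := rfl
theorem F26383 : act 0 n8307 = n6680 := d1_1 D8307 (iv D6680) D6679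
theorem F26384 : act 6 n8307 = n8307 := d16_2 F20977 D8307 (iv D8307)
def n8308 : Q := act 7 n6679
theorem D8308 : act 7 n6679 = n8308 := rfl
theorem F26385 : act 0 n8308 = n6681 := d6_1 D8308 (iv D6681) D6679
theorem F26386 : act 1 n8308 = n6718 := d12_1 D8308 (iv D6718) (iv F20976)
theorem F26387 : act 3 n8308 = n8138 := d21_1 D8308 F25843 (iv D6739) D6741 (iv F21211)
theorem F26388 : act 4 n8308 = n7707 := d24_1 D8308 (iv F26382) F26380
def n8309 : Q := act 7 n6680
theorem D8309 : act 7 n6680 = n8309 := rfl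
theorem F26389 : act 1 n8309 = n6684 := d12_1 D8309 (iv D6684) (iv F20978)
theorem F26390 : act 2 n8309 = n6681 := d17_1 D8309 (iv D6681) D6680
theorem F26391 : act 4 n8309 = n7708 := d24_1 D8309 F24413 F24179
def n8310 : Q := act 3 n6681
theorem D8310 : act 3 n6681 = n8310 := rfl
theorem F26392 : act 0 n8310 = n8138 := d2_1 D8310 (iv F26387) F26385
theorem F26393 : act 1 n8310 = n6682 := d8_1 D8310 (iv D6682) (iv F20980)
theorem F26394 : act 4 n8310 = n8154 := d18_2 (iv F20981) D8310 F25907 (iv F24357) F24356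
theorem F26395 : act 7 n8310 = n7574 := d21_2 D6681 D8310 F23996 F21202 F20901
theorem F26396 : act 2 n7599 = n8310 := d17_3 F26395 F23995 D7599
theorem F26397 : act 6 n7587 = n8310 := d27_5 F26395 (iv D7574) F18688 D5975 D7587
def n8311 : Q := act 6 n6681
theorem D8311 : act 6 n6681 = n8311 := rfl
theorem F26398 : act 1 n8311 = n6683 := d11_1 D8311 (iv D6683) (iv F20980)
theorem F26399 : act 3 n8311 = n7587 := d20_1 D8311 F26397 (iv D8310)
theorem F26400 : act 4 n8311 = n7699 := d23_1 D8311 F24389 (iv F20981)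
theorem F26401 : act 7 n8311 = n8311 := d27_2 D6681 D8311 (iv D8311) (iv D6681) F15767
def n8312 : Q := act 3 n6684
theorem D8312 : act 3 n6684 = n8312 := rfl
theorem F26402 : act 5 n8312 = n7263 := d19_2 (iv F20995) D8312 (iv D7263)
def n8313 : Q := act 6 n6684
theorem D8313 : act 6 n6684 = n8313 := rfl
theorem F26403 : act 2 n8313 = n6685 := d16_1 D8313 (iv D6685) (iv F20993)
theorem F26404 : act 4 n8313 = n7700 := d23_1 D8313 F24392 (iv F20994)
theorem F26405 : act 7 n8313 = n8313 := d27_2 D6684 D8313 (iv D8313) (iv D6684) F15776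
def n8314 : Q := act 0 n6686
theorem D8314 : act 0 n6686 = n8314 := rfl
theorem F26406 : act 3 n8314 = n6687 := d2_2 (iv F20999) D8314 (iv D6687)
theorem F26407 : act 4 n8314 = n7654 := d3_2 F21086 D8314 F24234
theorem F26408 : act 6 n8314 = n8314 := d5_2 F21000 D8314 (iv D8314)
def n8315 : Q := act 2 n6686
theorem D8315 : act 2 n6686 = n8315 := rfl
theorem F26409 : act 1 n8315 = n8315 := d7_1 D8315 (iv D8315) (iv D6686) F15787 D6686
theorem F26410 : act 5 n8315 = n6989 := d15_2 F21298 D8315 F22136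
theorem F26411 : act 6 n8315 = n8315 := d16_2 F21000 D8315 (iv D8315)
theorem F26412 : act 7 n8315 = n6709 := d17_2 (iv F21034) D8315 F21079
theorem F26413 : act 3 n8315 = n6990 := d30_4 D3726 D5100 D6686 D8315 F22142 F16942 (iv D4001) F8715 F5989 F4198 F4201 (iv D1315) F2911 F2485 (iv F3572) D1654 (iv F5579) D2643 D3778 (iv F11642) F10539 F7372 (iv F5894) (iv D1891) F4039 F4036 (iv F5536) D2608 F8035
def n8316 : Q := act 2 n6687
theorem D8316 : act 2 n6687 = n8316 := rfl
theorem F26414 : act 0 n8316 = n6688 := d1_1 D8316 (iv D6688) D6687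
theorem F26415 : act 4 n8316 = n6690 := d14_2 (iv F21001) D8316 (iv D6690)
theorem F26416 : act 6 n8316 = n8316 := d16_2 F21002 D8316 (iv D8316)
theorem F26417 : act 7 n8316 = n7915 := d17_2 (iv F21003) D8316 (iv D7915)
def n8317 : Q := act 3 n6688
theorem D8317 : act 3 n6688 = n8317 := rfl
theorem F26418 : act 1 n8317 = n6923 := d8_1 D8317 (iv D6923) (iv F21004)
theorem F26419 : act 2 n8317 = n6990 := d13_1 D8317 (iv F26413) (iv D8315) F20999 D6688
theorem F26420 : act 4 n8317 = n8317 := d18_2 (iv F21005) D8317 (iv D8317) F21005 F15806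
theorem F26421 : act 5 n8317 = n6985 := d19_2 F21302 D8317 F22120
theorem F26422 : act 6 n8317 = n8317 := d20_2 F21006 D8317 (iv D8317)
theorem F26423 : act 7 n8317 = n6986 := d21_2 (iv F21007) D8317 (iv F25080) (iv D7939) F19662
def n8318 : Q := act 1 n6690
theorem D8318 : act 1 n6690 = n8318 := rfl
theorem F26424 : act 0 n8318 = n6924 := d0_1 D8318 (iv D6924) F16749 (iv F15805) (iv F21012)
theorem F26425 : act 3 n8318 = n8318 := d8_2 F21013 D8318 (iv D8318)
theorem F26426 : act 6 n8318 = n8318 := d11_2 F21014 D8318 (iv D8318)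
def n8319 : Q := act 6 n6691
theorem D8319 : act 6 n6691 = n8319 := rfl
theorem F26427 : act 0 n8319 = n6696 := d5_1 D8319 (iv D6696) (iv F21015)
theorem F26428 : act 3 n8319 = n6692 := d20_1 D8319 (iv D6692) D6691
theorem F26429 : act 4 n8319 = n6700 := d23_1 D8319 (iv D6700) (iv F21016)
theorem F26430 : act 7 n8314 = n8319 := d24_0 F26429 (iv F24237) (iv F26407)
def n8320 : Q := act 5 n6693
theorem D8320 : act 5 n6693 = n8320 := rfl
theorem F26431 : act 0 n8320 = n6697 := d4_1 D8320 (iv D6697) (iv F21020)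
theorem F26432 : act 2 n8320 = n7422 := d15_1 D8320 (iv D7422) (iv F21022)
theorem F26433 : act 3 n8320 = n6705 := d19_1 D8320 (iv D6705) (iv F21023)
theorem F26434 : act 6 n8320 = n6694 := d25_2 D6693 D8320 (iv D6694) (iv D5109) D5108
theorem F26435 : act 7 n8320 = n8320 := d26_2 F21024 D8320 (iv D8320)
def n8321 : Q := act 1 n6694
theorem D8321 : act 1 n6694 = n8321 := rfl
theorem F26436 : act 3 n8321 = n6707 := d8_2 (iv F21026) D8321 (iv D6707)
theorem F26437 : act 7 n8321 = n8135 := d12_2 F21027 D8321 F25832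
def n8322 : Q := act 6 n6698
theorem D8322 : act 6 n6698 = n8322 := rfl
theorem F26438 : act 0 n8322 = n6708 := d5_1 D8322 (iv D6708) (iv F21039)
theorem F26439 : act 2 n8322 = n6700 := d16_1 D8322 (iv D6700) D6698
theorem F26440 : act 3 n8322 = n6723 := d20_1 D8322 (iv D6723) (iv F21040)
def n8323 : Q := act 1 n6699
theorem D8323 : act 1 n6699 = n8323 := rfl
theorem F26441 : act 0 n8323 = n8323 := d0_1 D8323 (iv D8323) F21043 F15868 (iv F21043)
theorem F26442 : act 3 n8323 = n6701 := d8_2 (iv F21045) D8323 (iv D6701)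
theorem F26443 : act 4 n8323 = n7334 := d9_2 (iv F21046) D8323 F23184
theorem F26444 : act 7 n8323 = n8323 := d12_2 F21047 D8323 (iv D8323)
theorem F26445 : act 2 n7397 = n8323 := d14_3 F26443 F23185 (iv F23444)
def n8324 : Q := act 6 n6699
theorem D8324 : act 6 n6699 = n8324 := rfl
theorem F26446 : act 0 n8324 = n6709 := d5_1 D8324 (iv D6709) (iv F21043)
theorem F26447 : act 2 n8324 = n8319 := d16_1 D8324 (iv D8319) (iv F21044)
theorem F26448 : act 3 n8324 = n6702 := d20_1 D8324 (iv D6702) (iv F21045)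
theorem F26449 : act 4 n8324 = n8322 := d23_1 D8324 (iv D8322) (iv F21046)
def n8325 : Q := act 5 n6700
theorem D8325 : act 5 n6700 = n8325 := rfl
theorem F26450 : act 0 n8325 = n6710 := d4_1 D8325 (iv D6710) (iv F21048)
theorem F26451 : act 3 n8325 = n6703 := d19_1 D8325 (iv D6703) (iv F21049)
theorem F26452 : act 7 n8325 = n6753 := d26_2 F24237 D8325 (iv F24235)
def n8326 : Q := act 6 n6701
theorem D8326 : act 6 n6701 = n8326 := rfl
theorem F26453 : act 0 n8326 = n8326 := d5_1 D8326 (iv D8326) F21050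
theorem F26454 : act 1 n8326 = n6702 := d11_1 D8326 (iv D6702) D6701
theorem F26455 : act 2 n8326 = n7388 := d16_1 D8326 (iv D7388) F21053
theorem F26456 : act 4 n8326 = n6704 := d23_1 D8326 (iv D6704) (iv F21051)
def n8327 : Q := act 5 n6702
theorem D8327 : act 5 n6702 = n8327 := rfl
theorem F26457 : act 0 n8327 = n6712 := d4_1 D8327 (iv D6712) (iv F21054)
theorem F26458 : act 2 n8327 = n6728 := d15_1 D8327 (iv D6728) (iv F21055)
theorem F26459 : act 4 n8327 = n6705 := d22_1 D8327 (iv D6705) (iv F21056)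
theorem F26460 : act 6 n8327 = n6703 := d25_2 D6702 D8327 (iv D6703) (iv D5119) D5118
theorem F26461 : act 7 n8327 = n6747 := d31_1 D8327 F21238 F20369 (iv D4930) (iv D3576) (iv F10972) (iv D3563) D3562 F10966 F10969 F10967 F10968 D3575 F11011 F7745 D3577 (iv F15255) (iv F15976) (iv D5153) (iv F15961) (iv F21055) (iv D6702) (iv F21045) (iv D6699) F15840 (iv F21016) (iv F21044) D8324 F26448
def n8328 : Q := act 7 n6702
theorem D8328 : act 7 n6702 = n8328 := rfl
theorem F26462 : act 0 n8328 = n6713 := d6_1 D8328 (iv D6713) (iv F21054)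
theorem F26463 : act 2 n8328 = n6729 := d17_1 D8328 (iv D6729) (iv F21055)
theorem F26464 : act 4 n8328 = n6706 := d24_1 D8328 (iv D6706) (iv F21056)
theorem F26465 : act 5 n8328 = n6747 := d26_1 D8328 (iv F26461) (iv D8327)
theorem F26466 : act 6 n8328 = n6748 := d27_1 D8328 F21243 (iv D5367) (iv F15844) D6702
theorem F26467 : act 3 n6962 = n8328 := d20_3 F26466 F21241 (iv F22052)
def n8329 : Q := act 1 n6703
theorem D8329 : act 1 n6703 = n8329 := rfl
theorem F26468 : act 4 n8329 = n6707 := d9_2 (iv F21059) D8329 (iv D6707)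
theorem F26469 : act 7 n8329 = n6746 := d12_2 (iv F21060) D8329 F21232
def n8330 : Q := act 5 n6704
theorem D8330 : act 5 n6704 = n8330 := rfl
theorem F26470 : act 0 n8330 = n8330 := d4_1 D8330 (iv D8330) F21061
theorem F26471 : act 2 n8330 = n7389 := d15_1 D8330 (iv D7389) (iv F21063)
theorem F26472 : act 3 n8330 = n7407 := d19_1 D8330 (iv D7407) (iv F21064)
def n8331 : Q := act 7 n6704
theorem D8331 : act 7 n6704 = n8331 := rfl
theorem F26473 : act 0 n8331 = n8331 := d6_1 D8331 (iv D8331) F21061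
theorem F26474 : act 1 n8331 = n6706 := d12_1 D8331 (iv D6706) (iv F21062)
theorem F26475 : act 2 n8331 = n7390 := d17_1 D8331 (iv D7390) (iv F21063)
theorem F26476 : act 3 n8331 = n8331 := d21_1 D8331 (iv D8331) F21064 F18224 (iv F21064)
theorem F26477 : act 6 n8331 = n6930 := d27_1 D8331 (iv D6930) (iv D5369) (iv F15851) D6704
def n8332 : Q := act 2 n6707
theorem D8332 : act 2 n6707 = n8332 := rfl
theorem F26478 : act 1 n8332 = n6735 := d7_1 D8332 (iv D6735) (iv D5154) (iv F15856) D6707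
theorem F26479 : act 7 n8332 = n7217 := d17_2 (iv F21074) D8332 F22856
def n8333 : Q := act 5 n6708
theorem D8333 : act 5 n6708 = n8333 := rfl
theorem F26480 : act 2 n8333 = n6710 := d15_1 D8333 (iv D6710) (iv F21076)
theorem F26481 : act 3 n8333 = n6736 := d19_1 D8333 (iv D6736) (iv F21077)
theorem F26482 : act 6 n8333 = n7931 := d25_2 D6708 D8333 F25052 (iv D6696) F15867
theorem F26483 : act 1 n8333 = n7926 := d29_6 D3739 F11515 (iv F15816) F15867 D6708 D8333 F25036 (iv D6277) (iv F16730) D6923 F21889 (iv F26418) F26421 (iv D6985) F16913 F16910 F16911 D5415 F16936 (iv D4002) F8718 (iv F12354) F12356 (iv F11725) F11724 F11043 (iv F11497) F11498 F11500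
theorem F26484 : act 7 n8333 = n6765 := d31_1 D8333 (iv F22138) F22136 F21299 F16947 F12439 F12440 (iv D4004) D4003 (iv F16125) F16123 F16124 (iv F19634) (iv F19635) (iv D6262) F14619 (iv F14639) F14640 D6265 F19598 (iv F19796) (iv D6322) F14811 F14812 F11081 F11079 D3771 D5155 (iv F21077)
def n8334 : Q := act 7 n6708
theorem D8334 : act 7 n6708 = n8334 := rfl
theorem F26485 : act 1 n8334 = n8334 := d12_1 D8334 (iv D8334) F21075
theorem F26486 : act 2 n8334 = n6711 := d17_1 D8334 (iv D6711) (iv F21076)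
theorem F26487 : act 3 n8334 = n8334 := d21_1 D8334 (iv D8334) F21077 F15985 (iv F21077)
theorem F26488 : act 4 n8334 = n8315 := d24_1 D8334 F26412 F21081
theorem F26489 : act 5 n8334 = n6765 := d26_1 D8334 (iv F26484) (iv D8333)
theorem F26490 : act 6 n8334 = n8334 := d27_1 D8334 (iv D8334) (iv D6708) F15866 D6708
def n8335 : Q := act 5 n6709
theorem D8335 : act 5 n6709 = n8335 := rfl
theorem F26491 : act 2 n8335 = n7931 := d15_1 D8335 F25052 (iv F21079)
theorem F26492 : act 3 n8335 = n6712 := d19_1 D8335 (iv D6712) (iv F21080)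
theorem F26493 : act 4 n8335 = n8333 := d22_1 D8335 (iv D8333) (iv F21081)
theorem F26494 : act 6 n8335 = n6710 := d25_2 D6709 D8335 (iv D6710) (iv D5126) D5125
theorem F26495 : act 7 n8335 = n6989 := d26_2 F26412 D8335 (iv F26410)
theorem F26496 : act 1 n8335 = n7918 := d30_2 D6709 D8335 F25007 (iv D6267) F14650 (iv F19592) (iv F19683) F19680 F19681 (iv F20421) F20424 (iv F21191) (iv D6736) F15982 F15983 F11622 F8110 (iv D2406) D2405 F7404 F8198 F8174 F5631 (iv D1811) D1810 (iv F8105) (iv F11537) (iv F15870) F15872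
def n8336 : Q := act 0 n6714
theorem D8336 : act 0 n6714 = n8336 := rfl
theorem F26497 : act 2 n8336 = n7914 := d1_2 (iv F21100) D8336 (iv D7914)
theorem F26498 : act 4 n8336 = n6716 := d3_2 (iv F21101) D8336 (iv D6716)
theorem F26499 : act 5 n8336 = n6717 := d4_2 (iv F21102) D8336 (iv D6717)
theorem F26500 : act 6 n8336 = n7916 := d5_2 (iv F21103) D8336 F24996
theorem F26501 : act 7 n8336 = n6724 := d6_2 (iv F21104) D8336 F21142
def n8337 : Q := act 5 n6719
theorem D8337 : act 5 n6719 = n8337 := rfl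
theorem F26502 : act 1 n8337 = n6740 := d10_1 D8337 (iv D6740) (iv D5162) (iv F15927) D6719
def n8338 : Q := act 7 n6719
theorem D8338 : act 7 n6719 = n8338 := rfl
theorem F26503 : act 0 n8338 = n8321 := d6_1 D8338 F26437 F25831
theorem F26504 : act 1 n8338 = n6720 := d12_1 D8338 (iv D6720) D6719
theorem F26505 : act 3 n8338 = n7717 := d21_1 D8338 (iv D7717) (iv F20379) D8132 (iv F25825)
theorem F26506 : act 4 n8338 = n7932 := d24_1 D8338 F25055 F24226
theorem F26507 : act 6 n7909 = n8338 := d20_0 F26505 F24435 D7909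
def n8339 : Q := act 6 n6720
theorem D8339 : act 6 n6720 = n8339 := rfl
theorem F26508 : act 0 n8339 = n6722 := d5_1 D8339 (iv D6722) (iv F21122)
theorem F26509 : act 1 n8339 = n7909 := d11_1 D8339 F26507 F26504
theorem F26510 : act 2 n8339 = n6721 := d16_1 D8339 (iv D6721) (iv F21123)
theorem F26511 : act 3 n8339 = n7521 := d20_1 D8339 F23822 (iv F21124)
theorem F26512 : act 4 n8339 = n7925 := d23_1 D8339 F25034 (iv F21125)
theorem F26513 : act 5 n8339 = n8339 := d25_1 D8339 (iv D8339) F21126 F16024 (iv F21126)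
theorem F26514 : act 7 n8339 = n8339 := d27_2 D6720 D8339 (iv D8339) (iv D6720) F15928
def n8340 : Q := act 5 n6723
theorem D8340 : act 5 n6723 = n8340 := rfl
theorem F26515 : act 0 n8340 = n6736 := d4_1 D8340 (iv D6736) (iv F21138)
theorem F26516 : act 2 n8340 = n6725 := d15_1 D8340 (iv D6725) (iv F21139)
theorem F26517 : act 4 n8340 = n8320 := d22_1 D8340 (iv D8320) (iv F21140)
theorem F26518 : act 6 n8340 = n7930 := d25_2 D6723 D8340 F25049 (iv D6692) F15946
theorem F26519 : act 7 n8340 = n8340 := d26_2 F21141 D8340 (iv D8340)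
def n8341 : Q := act 1 n6725
theorem D8341 : act 1 n6725 = n8341 := rfl
theorem F26520 : act 0 n8341 = n7699 := d0_1 D8341 (iv D7699) F19128 (iv F15991) (iv F21147)
theorem F26521 : act 3 n8341 = n6730 := d8_2 (iv F21148) D8341 (iv D6730)
theorem F26522 : act 5 n8341 = n7219 := d10_2 D6725 D8341 F22859 F17754 (iv F15953)
theorem F26523 : act 6 n8341 = n7707 := d11_2 (iv F21149) D8341 F24411
theorem F26524 : act 7 n8341 = n8341 := d12_2 F21150 D8341 (iv D8341)
def n8342 : Q := act 6 n6726
theorem D8342 : act 6 n6726 = n8342 := rfl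
theorem F26525 : act 0 n8342 = n6750 := d5_1 D8342 (iv D6750) (iv F21151)
theorem F26526 : act 1 n8342 = n7388 := d11_1 D8342 (iv D7388) (iv F21152)
theorem F26527 : act 2 n8342 = n6727 := d16_1 D8342 (iv D6727) D6726
theorem F26528 : act 3 n8342 = n7176 := d20_1 D8342 (iv D7176) F21156
theorem F26529 : act 4 n8342 = n6731 := d23_1 D8342 (iv D6731) (iv F21153)
def n8343 : Q := act 5 n6727
theorem D8343 : act 5 n6727 = n8343 := rfl
theorem F26530 : act 0 n8343 = n6751 := d4_1 D8343 (iv D6751) (iv F21157)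
theorem F26531 : act 4 n8343 = n6732 := d22_1 D8343 (iv D6732) (iv F21159)
theorem F26532 : act 6 n8343 = n7270 := d25_2 D6727 D8343 (iv D7270) (iv D5689) (iv F15958)
def n8344 : Q := act 7 n6727
theorem D8344 : act 7 n6727 = n8344 := rfl
theorem F26533 : act 0 n8344 = n6752 := d6_1 D8344 (iv D6752) (iv F21157)
theorem F26534 : act 1 n8344 = n6729 := d12_1 D8344 (iv D6729) (iv F21158)
theorem F26535 : act 4 n8344 = n6733 := d24_1 D8344 (iv D6733) (iv F21159)
theorem F26536 : act 6 n8344 = n6934 := d27_1 D8344 (iv D6934) (iv D5373) (iv F15959) D6727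
def n8345 : Q := act 1 n6728
theorem D8345 : act 1 n6728 = n8345 := rfl
theorem F26537 : act 0 n8345 = n7685 := d0_1 D8345 (iv D7685) F19075 (iv F15995) (iv F21160)
theorem F26538 : act 3 n8345 = n7707 := d8_2 (iv F21161) D8345 F24411
theorem F26539 : act 4 n8345 = n6734 := d9_2 (iv F21162) D8345 (iv D6734)
theorem F26540 : act 6 n8345 = n6730 := d11_2 (iv F21163) D8345 (iv D6730)
theorem F26541 : act 7 n8345 = n8121 := d12_2 (iv F21164) D8345 F25788
def n8346 : Q := act 3 n6729
theorem D8346 : act 3 n6729 = n8346 := rfl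
theorem F26542 : act 0 n8346 = n6737 := d2_1 D8346 (iv D6737) (iv F21165)
theorem F26543 : act 4 n8346 = n8127 := d18_2 (iv F21166) D8346 F25809 F20365 F15978
theorem F26544 : act 5 n8346 = n8126 := d19_2 (iv F21167) D8346 F25804
theorem F26545 : act 6 n8346 = n6935 := d20_2 (iv F21168) D8346 (iv D6935)
def n8347 : Q := act 2 n6730
theorem D8347 : act 2 n6730 = n8347 := rfl
theorem F26546 : act 0 n8347 = n8254 := d1_1 D8347 F26227 (iv F21169)
theorem F26547 : act 4 n8347 = n6735 := d14_2 (iv F21170) D8347 (iv D6735)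
theorem F26548 : act 5 n8347 = n7216 := d15_2 (iv F21171) D8347 F22854
theorem F26549 : act 7 n8347 = n7215 := d17_2 (iv F21172) D8347 F22851
def n8348 : Q := act 5 n6731
theorem D8348 : act 5 n6731 = n8348 := rfl
theorem F26550 : act 0 n8348 = n6755 := d4_1 D8348 (iv D6755) (iv F21173)
theorem F26551 : act 2 n8348 = n6732 := d15_1 D8348 (iv D6732) (iv F21175)
theorem F26552 : act 3 n8348 = n7165 := d19_1 D8348 (iv D7165) (iv F21176)
theorem F26553 : act 6 n8348 = n7271 := d25_2 D6731 D8348 (iv D7271) (iv D5690) (iv F15968)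
def n8349 : Q := act 7 n6731
theorem D8349 : act 7 n6731 = n8349 := rfl
theorem F26554 : act 0 n8349 = n6756 := d6_1 D8349 (iv D6756) (iv F21173)
theorem F26555 : act 1 n8349 = n7390 := d12_1 D8349 (iv D7390) (iv F21174)
theorem F26556 : act 2 n8349 = n6733 := d17_1 D8349 (iv D6733) (iv F21175)
theorem F26557 : act 6 n8349 = n6938 := d27_1 D8349 (iv D6938) (iv D5376) (iv F15969) D6731
def n8350 : Q := act 1 n6732
theorem D8350 : act 1 n6732 = n8350 := rfl
theorem F26558 : act 5 n8350 = n6734 := d10_2 D6732 D8350 (iv D6734) (iv D5152) (iv F15971)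
theorem F26559 : act 6 n8350 = n7202 := d11_2 (iv F21178) D8350 F22808
theorem F26560 : act 0 n8244 = n8350 := d4_3 F26558 F21183 (iv F26197)
theorem F26561 : act 7 n8122 = n8350 := d26_0 F26558 F21185 D8122
def n8351 : Q := act 7 n6732
theorem D8351 : act 7 n6732 = n8351 := rfl
theorem F26562 : act 0 n8351 = n6758 := d6_1 D8351 (iv D6758) (iv F21177)
theorem F26563 : act 1 n8351 = n8122 := d12_1 D8351 F26561 (iv D8350)
theorem F26564 : act 5 n8351 = n6733 := d26_1 D8351 (iv D6733) D6732
theorem F26565 : act 3 n8123 = n8351 := d19_3 F26564 (iv F21182) (iv F25792)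
def n8352 : Q := act 2 n6734
theorem D8352 : act 2 n6734 = n8352 := rfl
theorem F26566 : act 0 n8352 = n8241 := d1_1 D8352 F26192 (iv F21183)
theorem F26567 : act 6 n8352 = n6735 := d16_2 (iv F21184) D8352 (iv D6735)
theorem F26568 : act 7 n8352 = n8120 := d17_2 (iv F21185) D8352 F25786
def n8353 : Q := act 3 n6735
theorem D8353 : act 3 n6735 = n8353 := rfl
theorem F26569 : act 0 n8353 = n8255 := d2_1 D8353 (iv D8255) (iv F21186)
theorem F26570 : act 5 n8353 = n7218 := d19_2 (iv F21187) D8353 (iv D7218)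
def n8354 : Q := act 5 n6738
theorem D8354 : act 5 n6738 = n8354 := rfl
theorem F26571 : act 0 n8354 = n6740 := d4_1 D8354 (iv D6740) (iv F21198)
theorem F26572 : act 1 n8354 = n8277 := d10_1 D8354 F26292 F20894 (iv F16013) D6738
theorem F26573 : act 2 n8354 = n7272 := d15_1 D8354 (iv D7272) (iv F21199)
theorem F26574 : act 4 n8354 = n7677 := d22_1 D8354 (iv D7677) (iv F21200)
theorem F26575 : act 7 n8354 = n8276 := d26_2 (iv F21202) D8354 F26291
def n8355 : Q := act 5 n6739
theorem D8355 : act 5 n6739 = n8355 := rfl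
theorem F26576 : act 3 n8355 = n6740 := d19_1 D8355 (iv D6740) D6739
def n8356 : Q := act 6 n6740
theorem D8356 : act 6 n6740 = n8356 := rfl
theorem F26577 : act 2 n8356 = n7274 := d16_1 D8356 (iv D7274) (iv F21205)
theorem F26578 : act 5 n8356 = n6768 := d25_1 D8356 (iv D6768) (iv D5194) (iv F16017) D6740
def n8357 : Q := act 7 n6740
theorem D8357 : act 7 n6740 = n8357 := rfl
theorem F26579 : act 0 n8357 = n8276 := d6_1 D8357 (iv F26575) F26571
theorem F26580 : act 2 n8357 = n7275 := d17_1 D8357 (iv D7275) (iv F21205)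
theorem F26581 : act 4 n8357 = n7945 := d24_1 D8357 F25101 F23055
theorem F26582 : act 5 n8357 = n6741 := d26_1 D8357 (iv D6741) D6740
theorem F26583 : act 3 n8299 = n8357 := d19_3 F26582 (iv F21211) (iv F26359)
def n8358 : Q := act 3 n6745
theorem D8358 : act 3 n6745 = n8358 := rfl
theorem F26584 : act 0 n8358 = n7174 := d2_1 D8358 F22740 F21519
theorem F26585 : act 1 n8358 = n8124 := d8_1 D8358 (iv D8124) (iv F21229)
theorem F26586 : act 2 n8358 = n6749 := d13_1 D8358 (iv D6749) (iv D5172) (iv F16038) D6745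
theorem F26587 : act 4 n8358 = n6998 := d18_2 (iv F21230) D8358 F22172 F17034 (iv F20346)
theorem F26588 : act 5 n8358 = n7276 := d19_2 (iv F21231) D8358 (iv D7276)
def n8359 : Q := act 6 n6745
theorem D8359 : act 6 n6745 = n8359 := rfl
theorem F26589 : act 1 n8359 = n7215 := d11_1 D8359 F22853 (iv F21229)
theorem F26590 : act 2 n8359 = n6746 := d16_1 D8359 (iv D6746) D6745
theorem F26591 : act 4 n8359 = n7217 := d23_1 D8359 F22858 (iv F21230)
def n8360 : Q := act 5 n6746
theorem D8360 : act 5 n6746 = n8360 := rfl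
theorem F26592 : act 1 n8360 = n7703 := d10_1 D8360 (iv D7703) F19142 (iv F16045) (iv F21232)
theorem F26593 : act 3 n8360 = n6751 := d19_1 D8360 (iv D6751) (iv F21233)
theorem F26594 : act 4 n8360 = n8130 := d22_1 D8360 (iv D8130) (iv F21234)
theorem F26595 : act 6 n8360 = n7278 := d25_2 D6746 D8360 (iv D7278) (iv D5701) (iv F16040)
def n8361 : Q := act 6 n6749
theorem D8361 : act 6 n6749 = n8361 := rfl
theorem F26596 : act 0 n8361 = n7176 := d5_1 D8361 (iv D7176) (iv F21244)
theorem F26597 : act 1 n8361 = n8361 := d11_1 D8361 (iv D8361) F21245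
theorem F26598 : act 3 n8361 = n6750 := d20_1 D8361 (iv D6750) D6749
theorem F26599 : act 4 n8361 = n6999 := d23_1 D8361 (iv D6999) (iv F21246)
def n8362 : Q := act 5 n6750
theorem D8362 : act 5 n6750 = n8362 := rfl
theorem F26600 : act 2 n8362 = n6751 := d15_1 D8362 (iv D6751) (iv F21249)
theorem F26601 : act 4 n8362 = n6755 := d22_1 D8362 (iv D6755) (iv F21250)
theorem F26602 : act 6 n8362 = n7281 := d25_2 D6750 D8362 (iv D7281) (iv D5703) (iv F16058)
def n8363 : Q := act 7 n6750
theorem D8363 : act 7 n6750 = n8363 := rfl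
theorem F26603 : act 1 n8363 = n8363 := d12_1 D8363 (iv D8363) F21248
theorem F26604 : act 2 n8363 = n6752 := d17_1 D8363 (iv D6752) (iv F21249)
theorem F26605 : act 4 n8363 = n6756 := d24_1 D8363 (iv D6756) (iv F21250)
theorem F26606 : act 6 n8363 = n6968 := d27_1 D8363 (iv D6968) (iv D5396) (iv F16059) D6750
def n8364 : Q := act 7 n6751
theorem D8364 : act 7 n6751 = n8364 := rfl
theorem F26607 : act 4 n8364 = n6758 := d24_1 D8364 (iv D6758) (iv F21251)
theorem F26608 : act 5 n8364 = n6752 := d26_1 D8364 (iv D6752) D6751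
def n8365 : Q := act 3 n6752
theorem D8365 : act 3 n6752 = n8365 := rfl
theorem F26609 : act 1 n8365 = n6753 := d8_1 D8365 (iv D6753) (iv F21253)
theorem F26610 : act 6 n8365 = n6970 := d20_2 (iv F21255) D8365 (iv D6970)
def n8366 : Q := act 2 n6753
theorem D8366 : act 2 n6753 = n8366 := rfl
theorem F26611 : act 0 n8366 = n6765 := d1_1 D8366 (iv D6765) (iv F21256)
theorem F26612 : act 3 n8366 = n8366 := d13_2 D6753 D8366 (iv D8366) (iv D6753) F16063
theorem F26613 : act 6 n8366 = n6971 := d16_2 (iv F21257) D8366 (iv D6971)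
def n8367 : Q := act 4 n6753
theorem D8367 : act 4 n6753 = n8367 := rfl
theorem F26614 : act 0 n8367 = n6766 := d3_1 D8367 (iv D6766) (iv F21256)
theorem F26615 : act 3 n8367 = n6764 := d18_1 D8367 (iv D6764) (iv D5181) (iv F16064) D6753
theorem F26616 : act 5 n8367 = n8314 := d22_2 F24235 D8367 F26407
theorem F26617 : act 6 n8367 = n6972 := d23_2 (iv F21257) D8367 (iv D6972)
def n8368 : Q := act 5 n6754
theorem D8368 : act 5 n6754 = n8368 := rfl
theorem F26618 : act 0 n8368 = n7165 := d4_1 D8368 (iv D7165) (iv F21258)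
theorem F26619 : act 2 n8368 = n7003 := d15_1 D8368 (iv D7003) (iv F21260)
theorem F26620 : act 3 n8368 = n6755 := d19_1 D8368 (iv D6755) (iv F21261)
theorem F26621 : act 4 n8368 = n7000 := d22_1 D8368 (iv D7000) (iv F21262)
theorem F26622 : act 6 n8368 = n7285 := d25_2 D6754 D8368 (iv D7285) (iv D5707) (iv F16069)
def n8369 : Q := act 1 n6755
theorem D8369 : act 1 n6755 = n8369 := rfl
theorem F26623 : act 5 n8369 = n8369 := d10_2 D6755 D8369 (iv D8369) (iv D6755) F16072
theorem F26624 : act 6 n8369 = n7287 := d11_2 (iv F21264) D8369 (iv D7287)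
def n8370 : Q := act 7 n6755
theorem D8370 : act 7 n6755 = n8370 := rfl
theorem F26625 : act 2 n8370 = n6758 := d17_1 D8370 (iv D6758) (iv F21263)
theorem F26626 : act 5 n8370 = n6756 := d26_1 D8370 (iv D6756) D6755
def n8371 : Q := act 3 n6756
theorem D8371 : act 3 n6756 = n8371 := rfl
theorem F26627 : act 1 n8371 = n8371 := d8_1 D8371 (iv D8371) F21265
theorem F26628 : act 6 n8371 = n6978 := d20_2 (iv F21267) D8371 (iv D6978)
def n8372 : Q := act 0 n6757
theorem D8372 : act 0 n6757 = n8372 := rfl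
theorem F26629 : act 1 n8372 = n8244 := d0_2 D6757 D8372 F26560 (iv D8350) F21177
theorem F26630 : act 3 n8372 = n8187 := d2_2 (iv F21268) D8372 F26024
theorem F26631 : act 4 n8372 = n7683 := d3_2 F23010 D8372 F24349
theorem F26632 : act 5 n8372 = n6760 := d4_2 (iv F21269) D8372 (iv D6760)
theorem F26633 : act 6 n8372 = n7290 := d5_2 (iv F21270) D8372 (iv D7290)
theorem F26634 : act 7 n8243 = n8372 := d26_0 F26632 (iv F21279) (iv F26196)
def n8373 : Q := act 2 n6757
theorem D8373 : act 2 n6757 = n8373 := rfl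
theorem F26635 : act 4 n8373 = n8356 := d14_2 F23010 D8373 F26577
theorem F26636 : act 5 n8373 = n6761 := d15_2 (iv F21269) D8373 (iv D6761)
theorem F26637 : act 6 n8373 = n7291 := d16_2 (iv F21270) D8373 (iv D7291)
def n8374 : Q := act 7 n6757
theorem D8374 : act 7 n6757 = n8374 := rfl
theorem F26638 : act 0 n8374 = n8243 := d6_1 D8374 F26634 (iv D8372)
theorem F26639 : act 1 n8374 = n6758 := d12_1 D8374 (iv D6758) D6757
theorem F26640 : act 5 n8374 = n6762 := d26_1 D8374 (iv D6762) (iv F21269)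
theorem F26641 : act 3 n8245 = n8374 := d19_3 F26640 (iv F21285) (iv F26198)
def n8375 : Q := act 3 n6758
theorem D8375 : act 3 n6758 = n8375 := rfl
theorem F26642 : act 0 n8375 = n8123 := d2_1 D8375 F26565 F26562
theorem F26643 : act 1 n8375 = n8245 := d8_1 D8375 F26641 F26639
theorem F26644 : act 5 n8375 = n6759 := d19_2 (iv F21271) D8375 (iv D6759)
def n8376 : Q := act 6 n6758
theorem D8376 : act 6 n6758 = n8376 := rfl
theorem F26645 : act 5 n8376 = n6980 := d25_1 D8376 (iv D6980) F16900 (iv F16076) (iv F21271)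
theorem F26646 : act 7 n8376 = n7292 := d27_2 D6758 D8376 (iv D7292) (iv D5711) (iv F16074)
def n8377 : Q := act 2 n6759
theorem D8377 : act 2 n6759 = n8377 := rfl
theorem F26647 : act 0 n8377 = n8129 := d1_1 D8377 (iv D8129) (iv F21272)
theorem F26648 : act 6 n8377 = n6981 := d16_2 (iv F21274) D8377 (iv D6981)
def n8378 : Q := act 4 n6759
theorem D8378 : act 4 n6759 = n8378 := rfl
theorem F26649 : act 0 n8378 = n8128 := d3_1 D8378 F25811 (iv F21272)
theorem F26650 : act 1 n8378 = n6764 := d9_1 D8378 (iv D6764) (iv F21273)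
theorem F26651 : act 6 n8378 = n6982 := d23_2 (iv F21274) D8378 (iv D6982)
def n8379 : Q := act 7 n6761
theorem D8379 : act 7 n6761 = n8379 := rfl
theorem F26652 : act 0 n8379 = n8262 := d6_1 D8379 F26253 F23849
theorem F26653 : act 1 n8379 = n8379 := d12_1 D8379 (iv D8379) F21280
theorem F26654 : act 2 n8379 = n6762 := d17_1 D8379 (iv D6762) D6761
theorem F26655 : act 6 n8379 = n8379 := d27_1 D8379 (iv D8379) F21281 F16094 (iv F21281)
def n8380 : Q := act 1 n6763
theorem D8380 : act 1 n6763 = n8380 := rfl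
theorem F26656 : act 0 n8380 = n8380 := d0_1 D8380 (iv D8380) F21286 F16122 (iv F21286)
theorem F26657 : act 3 n8380 = n8380 := d8_2 F21287 D8380 (iv D8380)
theorem F26658 : act 6 n8380 = n6983 := d11_2 (iv F21289) D8380 (iv D6983)
theorem F26659 : act 7 n8380 = n7941 := d12_2 (iv F21290) D8380 F25087
def n8381 : Q := act 4 n6763
theorem D8381 : act 4 n6763 = n8381 := rfl
theorem F26660 : act 0 n8381 = n6767 := d3_1 D8381 (iv D6767) (iv F21286)
theorem F26661 : act 2 n8381 = n6764 := d14_1 D8381 (iv D6764) D6763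
theorem F26662 : act 5 n8381 = n8316 := d22_2 (iv F21288) D8381 F26415
theorem F26663 : act 6 n8381 = n6984 := d23_2 (iv F21289) D8381 (iv D6984)
theorem F26664 : act 7 n8381 = n7943 := d24_2 (iv F21290) D8381 (iv D7943)
def n8382 : Q := act 7 n6768
theorem D8382 : act 7 n6768 = n8382 := rfl
theorem F26665 : act 1 n8382 = n8382 := d12_1 D8382 (iv D8382) F21305
theorem F26666 : act 2 n8382 = n7293 := d17_1 D8382 (iv D7293) (iv F21306)
theorem F26667 : act 4 n8382 = n8379 := d24_1 D8382 (iv D8379) (iv F21307)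
theorem F26668 : act 6 n8382 = n8382 := d27_1 D8382 (iv D8382) (iv D6768) F16138 D6768
def n8383 : Q := act 5 n6769
theorem D8383 : act 5 n6769 = n8383 := rfl
theorem F26669 : act 0 n8383 = n8153 := d4_1 D8383 (iv D8153) (iv F21308)
theorem F26670 : act 3 n8383 = n6774 := d19_1 D8383 (iv D6774) (iv F21310)
theorem F26671 : act 4 n8383 = n8355 := d22_1 D8383 (iv D8355) (iv F21311)
def n8384 : Q := act 7 n6770
theorem D8384 : act 7 n6770 = n8384 := rfl
theorem F26672 : act 0 n8384 = n8147 := d6_1 D8384 (iv D8147) (iv F21312)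
theorem F26673 : act 2 n8384 = n6772 := d17_1 D8384 (iv D6772) (iv F21313)
theorem F26674 : act 5 n8384 = n7186 := d26_1 D8384 F22766 (iv F21315)
def n8385 : Q := act 5 n6771
theorem D8385 : act 5 n6771 = n8385 := rfl
theorem F26675 : act 0 n8385 = n8150 := d4_1 D8385 (iv D8150) (iv F21316)
theorem F26676 : act 2 n8385 = n6774 := d15_1 D8385 (iv D6774) (iv F21318)
theorem F26677 : act 7 n8385 = n8111 := d26_2 (iv F21319) D8385 (iv D8111)
def n8386 : Q := act 6 n6772
theorem D8386 : act 6 n6772 = n8386 := rfl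
theorem F26678 : act 0 n8386 = n8151 := d5_1 D8386 (iv D8151) (iv F21320)
theorem F26679 : act 1 n8386 = n8386 := d11_1 D8386 (iv D8386) F21321
theorem F26680 : act 3 n8386 = n7078 := d20_1 D8386 (iv D7078) (iv F21322)
theorem F26681 : act 7 n8386 = n6773 := d27_2 D6772 D8386 (iv D6773) (iv D5203) D5202
def n8387 : Q := act 5 n6773
theorem D8387 : act 5 n6773 = n8387 := rfl
theorem F26682 : act 0 n8387 = n8152 := d4_1 D8387 (iv D8152) (iv F21324)
theorem F26683 : act 6 n8387 = n6774 := d25_2 D6773 D8387 (iv D6774) (iv D5204) (iv F16175)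
def n8388 : Q := act 1 n6774
theorem D8388 : act 1 n6774 = n8388 := rfl
theorem F26684 : act 5 n8388 = n6775 := d10_2 D6774 D8388 (iv D6775) (iv D5205) (iv F16177)
theorem F26685 : act 7 n8388 = n8123 := d12_2 (iv F21327) D8388 (iv D8123)
def n8389 : Q := act 2 n6775
theorem D8389 : act 2 n6775 = n8389 := rfl
theorem F26686 : act 1 n8389 = n8389 := d7_1 D8389 (iv D8389) (iv D6775) F16180 D6775
theorem F26687 : act 6 n8389 = n8389 := d16_2 F21328 D8389 (iv D8389)
theorem F26688 : act 7 n8389 = n8129 := d17_2 (iv F21329) D8389 (iv D8129)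
def n8390 : Q := act 3 n6776
theorem D8390 : act 3 n6776 = n8390 := rfl
theorem F26689 : act 0 n8390 = n8079 := d2_1 D8390 (iv D8079) (iv F21330)
theorem F26690 : act 1 n8390 = n8390 := d8_1 D8390 (iv D8390) F21331
theorem F26691 : act 2 n8390 = n6799 := d13_1 D8390 (iv D6799) (iv D5230) (iv F16184) D6776
theorem F26692 : act 5 n8390 = n8390 := d19_2 F21333 D8390 (iv D8390)
def n8391 : Q := act 6 n6776
theorem D8391 : act 6 n6776 = n8391 := rfl
theorem F26693 : act 0 n8391 = n8080 := d5_1 D8391 (iv D8080) (iv F21330)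
theorem F26694 : act 1 n8391 = n8391 := d11_1 D8391 (iv D8391) F21331
theorem F26695 : act 2 n8391 = n6777 := d16_1 D8391 (iv D6777) D6776
theorem F26696 : act 4 n8391 = n8391 := d23_1 D8391 (iv D8391) F21332
def n8392 : Q := act 5 n6777
theorem D8392 : act 5 n6777 = n8392 := rfl
theorem F26697 : act 0 n8392 = n8081 := d4_1 D8392 (iv D8081) (iv F21335)
theorem F26698 : act 1 n8392 = n8392 := d10_1 D8392 (iv D8392) F21336 F16192 (iv F21336)
theorem F26699 : act 3 n8392 = n6801 := d19_1 D8392 (iv D6801) (iv F21337)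
theorem F26700 : act 4 n8392 = n8392 := d22_1 D8392 (iv D8392) F21338
theorem F26701 : act 6 n8392 = n8392 := d25_2 D6777 D8392 (iv D8392) (iv D6777) F16186
def n8393 : Q := act 3 n6778
theorem D8393 : act 3 n6778 = n8393 := rfl
theorem F26702 : act 0 n8393 = n6781 := d2_1 D8393 (iv D6781) (iv F21339)
theorem F26703 : act 1 n8393 = n6790 := d8_1 D8393 (iv D6790) (iv F21340)
theorem F26704 : act 4 n8393 = n6822 := d18_2 D6778 D8393 F21496 F16353 (iv F16195)
theorem F26705 : act 6 n8393 = n6821 := d20_2 F21371 D8393 F21492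
def n8394 : Q := act 5 n6778
theorem D8394 : act 5 n6778 = n8394 := rfl
theorem F26706 : act 0 n8394 = n6782 := d4_1 D8394 (iv D6782) (iv F21339)
theorem F26707 : act 2 n8394 = n8394 := d15_1 D8394 (iv D8394) F21341
theorem F26708 : act 4 n8394 = n6779 := d22_1 D8394 (iv D6779) D6778
theorem F26709 : act 7 n8394 = n8124 := d26_2 (iv F21342) D8394 F25796
def n8395 : Q := act 6 n6779
theorem D8395 : act 6 n6779 = n8395 := rfl
theorem F26710 : act 0 n8395 = n6784 := d5_1 D8395 (iv D6784) (iv F21343)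
theorem F26711 : act 2 n8395 = n8395 := d16_1 D8395 (iv D8395) F21344
theorem F26712 : act 3 n8395 = n7906 := d20_1 D8395 (iv D7906) (iv F21345)
def n8396 : Q := act 5 n6780
theorem D8396 : act 5 n6780 = n8396 := rfl
theorem F26713 : act 0 n8396 = n6785 := d4_1 D8396 (iv D6785) (iv F21346)
theorem F26714 : act 2 n8396 = n8396 := d15_1 D8396 (iv D8396) F21348
theorem F26715 : act 3 n8396 = n6827 := d19_1 D8396 (iv D6827) (iv F21349)
def n8397 : Q := act 5 n6781
theorem D8397 : act 5 n6781 = n8397 := rfl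
theorem F26716 : act 1 n8397 = n6785 := d10_1 D8397 (iv D6785) F16201 (iv F16207) (iv F21350)
theorem F26717 : act 3 n8397 = n6782 := d19_1 D8397 (iv D6782) D6781
theorem F26718 : act 4 n8397 = n6825 := d22_1 D8397 (iv D6825) (iv F21351)
theorem F26719 : act 7 n8238 = n8397 := d21_0 F26717 F21356 (iv D6632) (iv F20792) D8238
def n8398 : Q := act 7 n6781
theorem D8398 : act 7 n6781 = n8398 := rfl
theorem F26720 : act 1 n8398 = n6787 := d12_1 D8398 (iv D6787) (iv F21350)
theorem F26721 : act 3 n8398 = n8231 := d21_1 D8398 F26168 F20808 F20476 D6781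
theorem F26722 : act 4 n8398 = n6826 := d24_1 D8398 (iv D6826) (iv F21351)
theorem F26723 : act 5 n8398 = n8238 := d26_1 D8398 F26719 (iv D8397)
def n8399 : Q := act 6 n6782
theorem D8399 : act 6 n6782 = n8399 := rfl
theorem F26724 : act 1 n8399 = n6830 := d11_1 D8399 (iv D6830) (iv F21353)
theorem F26725 : act 2 n8399 = n8399 := d16_1 D8399 (iv D8399) F21354
theorem F26726 : act 4 n8399 = n6784 := d23_1 D8399 (iv D6784) (iv F21355)
def n8400 : Q := act 5 n6783
theorem D8400 : act 5 n6783 = n8400 := rfl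
theorem F26727 : act 1 n8400 = n6825 := d10_1 D8400 (iv D6825) F16339 (iv F16213) (iv F21357)
theorem F26728 : act 2 n8400 = n8400 := d15_1 D8400 (iv D8400) F21358
theorem F26729 : act 3 n8400 = n6823 := d19_1 D8400 (iv D6823) (iv F21359)
theorem F26730 : act 4 n8400 = n6785 := d22_1 D8400 (iv D6785) (iv F21360)
theorem F26731 : act 7 n8400 = n8396 := d26_2 (iv F21361) D8400 (iv D8396)
def n8401 : Q := act 5 n6784
theorem D8401 : act 5 n6784 = n8401 := rfl
theorem F26732 : act 2 n8401 = n8401 := d15_1 D8401 (iv D8401) F21363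
theorem F26733 : act 3 n8401 = n6830 := d19_1 D8401 F21514 (iv F21364)
theorem F26734 : act 6 n8401 = n6785 := d25_2 D6784 D8401 (iv D6785) (iv D5211) D5210
def n8402 : Q := act 7 n6784
theorem D8402 : act 7 n6784 = n8402 := rfl
theorem F26735 : act 1 n8402 = n6832 := d12_1 D8402 (iv D6832) (iv F21362)
theorem F26736 : act 2 n8402 = n8402 := d17_1 D8402 (iv D8402) F21363
def n8403 : Q := act 7 n6785
theorem D8403 : act 7 n6785 = n8403 := rfl
theorem F26737 : act 0 n8403 = n8400 := d6_1 D8403 F26731 F26713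
theorem F26738 : act 1 n8403 = n8238 := d12_1 D8403 F26719 F26716
theorem F26739 : act 2 n8403 = n8403 := d17_1 D8403 (iv D8403) F21365
theorem F26740 : act 3 n8403 = n8236 := d21_1 D8403 F26184 F20817 F20592 (iv F21366)
theorem F26741 : act 4 n8403 = n8396 := d24_1 D8403 (iv F26731) F26730
theorem F26742 : act 5 n8403 = n6786 := d26_1 D8403 (iv D6786) D6785
def n8404 : Q := act 6 n6787
theorem D8404 : act 6 n6787 = n8404 := rfl
theorem F26743 : act 0 n8404 = n6795 := d5_1 D8404 (iv D6795) (iv F21372)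
theorem F26744 : act 2 n8404 = n6789 := d16_1 D8404 (iv D6789) (iv F21373)
theorem F26745 : act 4 n8404 = n6817 := d23_1 D8404 F21477 (iv F21374)
theorem F26746 : act 7 n8404 = n6815 := d27_2 D6787 D8404 (iv D6815) F16317 F16208
def n8405 : Q := act 6 n6788
theorem D8405 : act 6 n6788 = n8405 := rfl
theorem F26747 : act 0 n8405 = n8405 := d5_1 D8405 (iv D8405) F21376
theorem F26748 : act 1 n8405 = n6789 := d11_1 D8405 (iv D6789) (iv F21377)
theorem F26749 : act 3 n8405 = n8405 := d20_1 D8405 (iv D8405) F21378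
theorem F26750 : act 4 n8405 = n6810 := d23_1 D8405 F21453 (iv F21379)
theorem F26751 : act 7 n8405 = n6808 := d27_2 D6788 D8405 (iv D6808) F16294 (iv F16220)
def n8406 : Q := act 1 n6791
theorem D8406 : act 1 n6791 = n8406 := rfl
theorem F26752 : act 0 n8406 = n6843 := d0_1 D8406 (iv D6843) F16425 (iv F16241) (iv F21389)
theorem F26753 : act 2 n8406 = n7280 := d7_2 (iv F21390) D8406 F23030 F18905 F18853
theorem F26754 : act 4 n8406 = n6792 := d9_2 (iv F21391) D8406 (iv D6792)
theorem F26755 : act 7 n8406 = n7276 := d12_2 (iv F21392) D8406 F23015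
def n8407 : Q := act 6 n6791
theorem D8407 : act 6 n6791 = n8407 := rfl
theorem F26756 : act 0 n8407 = n6794 := d5_1 D8407 (iv D6794) (iv F21389)
theorem F26757 : act 2 n8407 = n6796 := d16_1 D8407 (iv D6796) (iv F21390)
theorem F26758 : act 4 n8407 = n6793 := d23_1 D8407 (iv D6793) (iv F21391)
theorem F26759 : act 5 n8407 = n8404 := d25_1 D8407 (iv D8404) F21375 F16228 D6791
theorem F26760 : act 7 n8407 = n8183 := d27_2 (iv F21392) D8407 (iv D8183) (iv D6567) (iv F20488)
def n8408 : Q := act 6 n6792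
theorem D8408 : act 6 n6792 = n8408 := rfl
theorem F26761 : act 0 n8408 = n6845 := d5_1 D8408 (iv D6845) (iv F21393)
theorem F26762 : act 1 n8408 = n6793 := d11_1 D8408 (iv D6793) D6792
theorem F26763 : act 3 n8408 = n8076 := d20_1 D8408 (iv D8076) (iv F21394)
def n8409 : Q := act 6 n6797
theorem D8409 : act 6 n6797 = n8409 := rfl
theorem F26764 : act 0 n8409 = n6800 := d5_1 D8409 (iv D6800) (iv F21412)
theorem F26765 : act 2 n8409 = n6798 := d16_1 D8409 (iv D6798) D6797
theorem F26766 : act 4 n8409 = n7636 := d23_1 D8409 (iv D7636) (iv F21413)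
def n8410 : Q := act 5 n6798
theorem D8410 : act 5 n6798 = n8410 := rfl
theorem F26767 : act 0 n8410 = n6801 := d4_1 D8410 (iv D6801) (iv F21416)
theorem F26768 : act 3 n8410 = n8081 := d19_1 D8410 (iv D8081) (iv F21418)
theorem F26769 : act 6 n8410 = n8410 := d25_2 D6798 D8410 (iv D8410) (iv D6798) F16261
def n8411 : Q := act 4 n6799
theorem D8411 : act 4 n6799 = n8411 := rfl
theorem F26770 : act 0 n8411 = n7858 := d3_1 D8411 (iv F25734) F25730
theorem F26771 : act 1 n8411 = n6864 := d9_1 D8411 (iv D6864) (iv F21419)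
theorem F26772 : act 3 n8411 = n7828 := d18_1 D8411 F24729 F19381 F18845 D6799
theorem F26773 : act 5 n8411 = n8411 := d22_2 F21420 D8411 (iv D8411)
theorem F26774 : act 7 n8411 = n7839 := d24_2 (iv F25729) D8411 (iv F25727)
def n8412 : Q := act 6 n6799
theorem D8412 : act 6 n6799 = n8412 := rfl
theorem F26775 : act 1 n8412 = n6865 := d11_1 D8412 (iv D6865) (iv F21419)
theorem F26776 : act 3 n8412 = n6800 := d20_1 D8412 (iv D6800) D6799
def n8413 : Q := act 5 n6800
theorem D8413 : act 5 n6800 = n8413 := rfl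
theorem F26777 : act 2 n8413 = n6801 := d15_1 D8413 (iv D6801) (iv F21422)
theorem F26778 : act 6 n8413 = n8413 := d25_2 D6800 D8413 (iv D8413) (iv D6800) F16275
def n8414 : Q := act 7 n6800
theorem D8414 : act 7 n6800 = n8414 := rfl
theorem F26779 : act 1 n8414 = n6867 := d12_1 D8414 (iv D6867) (iv F21421)
theorem F26780 : act 2 n8414 = n6802 := d17_1 D8414 (iv D6802) (iv F21422)
def n8415 : Q := act 7 n6801
theorem D8415 : act 7 n6801 = n8415 := rfl
theorem F26781 : act 1 n8415 = n8415 := d12_1 D8415 (iv D8415) F21423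
theorem F26782 : act 4 n8415 = n7872 := d24_1 D8415 (iv F24866) F24146
theorem F26783 : act 5 n8415 = n6802 := d26_1 D8415 (iv D6802) D6801
theorem F26784 : act 3 n7901 = n8415 := d19_3 F26783 (iv F21483) (iv F24944)
theorem F26785 : act 6 n7871 = n8415 := d25_0 F26783 (iv F22982) F22981 (iv F19472) (iv F24861)
def n8416 : Q := act 1 n6805
theorem D8416 : act 1 n6805 = n8416 := rfl
theorem F26786 : act 4 n8416 = n7396 := d9_2 (iv F21434) D8416 (iv D7396)
theorem F26787 : act 6 n8416 = n7391 := d11_2 (iv F21435) D8416 (iv D7391)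
theorem F26788 : act 7 n8416 = n6888 := d12_2 (iv F21436) D8416 (iv D6888)
def n8417 : Q := act 3 n6806
theorem D8417 : act 3 n6806 = n8417 := rfl
theorem F26789 : act 0 n8417 = n8417 := d2_1 D8417 (iv D8417) F21437
theorem F26790 : act 2 n8417 = n6919 := d13_1 D8417 (iv D6919) F16715 (iv F16292) (iv F21438)
theorem F26791 : act 5 n8417 = n7334 := d19_2 (iv F21439) D8417 (iv D7334)
theorem F26792 : act 7 n8417 = n8417 := d21_2 (iv F21440) D8417 (iv D8417) F21440 F16306
def n8418 : Q := act 6 n6806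
theorem D8418 : act 6 n6806 = n8418 := rfl
theorem F26793 : act 0 n8418 = n8418 := d5_1 D8418 (iv D8418) F21437
theorem F26794 : act 2 n8418 = n6808 := d16_1 D8418 (iv D6808) (iv F21438)
theorem F26795 : act 4 n8418 = n6807 := d23_1 D8418 (iv D6807) D6806
def n8419 : Q := act 5 n6807
theorem D8419 : act 5 n6807 = n8419 := rfl
theorem F26796 : act 0 n8419 = n8419 := d4_1 D8419 (iv D8419) F21441
theorem F26797 : act 2 n8419 = n6809 := d15_1 D8419 (iv D6809) (iv F21442)
theorem F26798 : act 6 n8419 = n7407 := d25_2 D6807 D8419 (iv D7407) (iv D5819) (iv F16288)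
def n8420 : Q := act 5 n6808
theorem D8420 : act 5 n6808 = n8420 := rfl
theorem F26799 : act 0 n8420 = n8420 := d4_1 D8420 (iv D8420) F21443
theorem F26800 : act 3 n8420 = n6921 := d19_1 D8420 (iv D6921) (iv F21445)
theorem F26801 : act 4 n8420 = n6809 := d22_1 D8420 (iv D6809) (iv F21446)
theorem F26802 : act 6 n8420 = n7336 := d25_2 D6808 D8420 (iv D7336) (iv D5758) (iv F16293)
def n8421 : Q := act 1 n6809
theorem D8421 : act 1 n6809 = n8421 := rfl
theorem F26803 : act 3 n8421 = n6811 := d8_2 (iv F21448) D8421 (iv D6811)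
theorem F26804 : act 5 n8421 = n6818 := d10_2 D6809 D8421 (iv D6818) (iv D5246) (iv F16296)
theorem F26805 : act 6 n8421 = n7408 := d11_2 (iv F21449) D8421 (iv D7408)
theorem F26806 : act 0 n8415 = n8421 := d5_3 F26805 (iv F24858) F26785
theorem F26807 : act 7 n8421 = n8410 := d6_2 D8415 F26806 F26767
def n8422 : Q := act 7 n6809
theorem D8422 : act 7 n6809 = n8422 := rfl
theorem F26808 : act 0 n8422 = n8422 := d6_1 D8422 (iv D8422) F21447
theorem F26809 : act 1 n8422 = n8410 := d12_1 D8422 (iv F26807) (iv D8421)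
theorem F26810 : act 3 n8422 = n6898 := d21_1 D8422 (iv D6898) F16592 (iv F16301) (iv F21448)
theorem F26811 : act 5 n8422 = n6810 := d26_1 D8422 (iv D6810) D6809
theorem F26812 : act 6 n8422 = n8422 := d27_1 D8422 (iv D8422) F21449 F18227 (iv F21449)
def n8423 : Q := act 2 n6811
theorem D8423 : act 2 n6811 = n8423 := rfl
theorem F26813 : act 4 n8423 = n7411 := d14_2 (iv F21454) D8423 (iv D7411)
theorem F26814 : act 5 n8423 = n6820 := d15_2 (iv F21455) D8423 (iv D6820)
theorem F26815 : act 6 n8423 = n7409 := d16_2 (iv F21456) D8423 (iv D7409)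
theorem F26816 : act 7 n8423 = n6900 := d17_2 (iv F21457) D8423 (iv D6900)
def n8424 : Q := act 6 n6813
theorem D8424 : act 6 n6813 = n8424 := rfl
theorem F26817 : act 0 n8424 = n8170 := d5_1 D8424 (iv D8170) (iv F21461)
theorem F26818 : act 1 n8424 = n6815 := d11_1 D8424 (iv D6815) (iv F21462)
theorem F26819 : act 3 n8424 = n8167 := d20_1 D8424 (iv D8167) (iv F21463)
theorem F26820 : act 4 n8424 = n6814 := d23_1 D8424 (iv D6814) D6813
def n8425 : Q := act 5 n6814
theorem D8425 : act 5 n6814 = n8425 := rfl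
def n8426 : Q := act 7 n6814
theorem D8426 : act 7 n6814 = n8426 := rfl
theorem F26821 : act 1 n8426 = n6817 := d12_1 D8426 (iv D6817) (iv F21465)
theorem F26822 : act 6 n8426 = n6826 := d27_1 D8426 (iv D6826) (iv D5252) (iv F16312) D6814
def n8427 : Q := act 1 n6816
theorem D8427 : act 1 n6816 = n8427 := rfl
theorem F26823 : act 6 n8427 = n7695 := d11_2 (iv F21472) D8427 (iv D7695)
theorem F26824 : act 7 n8427 = n8408 := d12_2 F21473 D8427 F26762
def n8428 : Q := act 2 n6818
theorem D8428 : act 2 n6818 = n8428 := rfl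
theorem F26825 : act 0 n8428 = n8414 := d1_1 D8428 F26780 (iv F21478)
theorem F26826 : act 6 n8428 = n7696 := d16_2 (iv F21480) D8428 (iv D7696)
theorem F26827 : act 7 n8428 = n8409 := d17_2 (iv F21481) D8428 F26765
def n8429 : Q := act 2 n6819
theorem D8429 : act 2 n6819 = n8429 := rfl
theorem F26828 : act 0 n8429 = n6820 := d1_1 D8429 (iv D6820) D6819
theorem F26829 : act 4 n8429 = n7701 := d14_2 (iv F21484) D8429 (iv D7701)
theorem F26830 : act 6 n8429 = n7697 := d16_2 (iv F21485) D8429 (iv D7697)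
theorem F26831 : act 7 n8429 = n6908 := d17_2 (iv F21486) D8429 (iv D6908)
def n8430 : Q := act 3 n6820
theorem D8430 : act 3 n6820 = n8430 := rfl
theorem F26832 : act 6 n8430 = n7698 := d20_2 (iv F21488) D8430 (iv D7698)
def n8431 : Q := act 5 n6822
theorem D8431 : act 5 n6822 = n8431 := rfl
theorem F26833 : act 0 n8431 = n6825 := d4_1 D8431 (iv D6825) (iv F21494)
theorem F26834 : act 3 n8431 = n6829 := d19_1 D8431 (iv D6829) (iv F21496)
def n8432 : Q := act 7 n6822
theorem D8432 : act 7 n6822 = n8432 := rfl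
theorem F26835 : act 0 n8432 = n6826 := d6_1 D8432 (iv D6826) (iv F21494)
theorem F26836 : act 1 n8432 = n6841 := d12_1 D8432 (iv D6841) (iv F21495)
theorem F26837 : act 3 n8432 = n8406 := d21_1 D8432 F26755 (iv D7276) F17860 (iv F21496)
def n8433 : Q := act 6 n6823
theorem D8433 : act 6 n6823 = n8433 := rfl
theorem F26838 : act 1 n8433 = n6831 := d11_1 D8433 F21517 (iv F21497)
theorem F26839 : act 4 n8433 = n6824 := d23_1 D8433 (iv D6824) (iv F21498)
def n8434 : Q := act 5 n6824
theorem D8434 : act 5 n6824 = n8434 := rfl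
theorem F26840 : act 3 n8434 = n6831 := d19_1 D8434 (iv D6831) (iv F21500)
theorem F26841 : act 6 n8434 = n6825 := d25_2 D6824 D8434 (iv D6825) (iv D5252) D5251
def n8435 : Q := act 7 n6824
theorem D8435 : act 7 n6824 = n8435 := rfl
theorem F26842 : act 1 n8435 = n7907 := d12_1 D8435 (iv D7907) (iv F21499)
def n8436 : Q := act 7 n6825
theorem D8436 : act 7 n6825 = n8436 := rfl
theorem F26843 : act 1 n8436 = n8396 := d12_1 D8436 (iv F26731) F26727
theorem F26844 : act 3 n8436 = n8212 := d21_1 D8436 F26119 F22740 (iv D6833) (iv F21501)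
theorem F26845 : act 4 n8436 = n8238 := d24_1 D8436 F26719 F26718
theorem F26846 : act 5 n8436 = n6826 := d26_1 D8436 (iv D6826) D6825
def n8437 : Q := act 6 n6827
theorem D8437 : act 6 n6827 = n8437 := rfl
theorem F26847 : act 0 n8437 = n6830 := d5_1 D8437 (iv D6830) (iv F21503)
theorem F26848 : act 2 n8437 = n7327 := d16_1 D8437 (iv D7327) (iv F21504)
theorem F26849 : act 4 n8437 = n6828 := d23_1 D8437 (iv D6828) (iv F21505)
theorem F26850 : act 5 n8437 = n7906 := d25_1 D8437 (iv D7906) (iv D6248) F16347 D6827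
def n8438 : Q := act 5 n6828
theorem D8438 : act 5 n6828 = n8438 := rfl
theorem F26851 : act 0 n8438 = n6831 := d4_1 D8438 (iv D6831) (iv F21506)
theorem F26852 : act 2 n8438 = n7328 := d15_1 D8438 (iv D7328) (iv F21507)
theorem F26853 : act 4 n8438 = n7906 := d22_1 D8438 (iv F26850) F26849
theorem F26854 : act 6 n8438 = n6829 := d25_2 D6828 D8438 (iv D6829) (iv D5256) D5255
def n8439 : Q := act 7 n6828
theorem D8439 : act 7 n6828 = n8439 := rfl
theorem F26855 : act 0 n8439 = n6832 := d6_1 D8439 (iv D6832) (iv F21506)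
theorem F26856 : act 2 n8439 = n7329 := d17_1 D8439 (iv D7329) (iv F21507)
def n8440 : Q := act 7 n6830
theorem D8440 : act 7 n6830 = n8440 := rfl
theorem F26857 : act 2 n8440 = n7330 := d17_1 D8440 (iv D7330) (iv F21512)
theorem F26858 : act 4 n8440 = n6832 := d24_1 D8440 (iv D6832) (iv F21513)
theorem F26859 : act 5 n8440 = n7907 := d26_1 D8440 (iv D7907) (iv F21514)
def n8441 : Q := act 7 n6831
theorem D8441 : act 7 n6831 = n8441 := rfl
theorem F26860 : act 2 n8441 = n7331 := d17_1 D8441 (iv D7331) (iv F21515)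
theorem F26861 : act 4 n8441 = n7907 := d24_1 D8441 (iv D7907) (iv F21516)
theorem F26862 : act 5 n8441 = n6832 := d26_1 D8441 (iv D6832) D6831
def n8442 : Q := act 3 n6832
theorem D8442 : act 3 n6832 = n8442 := rfl
def n8443 : Q := act 6 n6833
theorem D8443 : act 6 n6833 = n8443 := rfl
theorem F26863 : act 0 n8443 = n8359 := d5_1 D8443 (iv D8359) (iv F21519)
theorem F26864 : act 2 n8443 = n7333 := d16_1 D8443 (iv D7333) (iv F21520)
theorem F26865 : act 4 n8443 = n7693 := d23_1 D8443 (iv D7693) (iv F21521)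
def n8444 : Q := act 7 n6835
theorem D8444 : act 7 n6835 = n8444 := rfl
theorem F26866 : act 0 n8444 = n6836 := d6_1 D8444 (iv D6836) (iv F21525)
theorem F26867 : act 2 n8444 = n8444 := d17_1 D8444 (iv D8444) F21526
theorem F26868 : act 3 n8444 = n8407 := d21_1 D8444 F26760 F26007 (iv D8164) (iv F21527)
theorem F26869 : act 4 n8444 = n8179 := d24_1 D8444 (iv D8179) (iv F21528)
theorem F26870 : act 6 n8444 = n6841 := d27_1 D8444 (iv D6841) (iv D5272) (iv F16369) D6835
def n8445 : Q := act 1 n6837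
theorem D8445 : act 1 n6837 = n8445 := rfl
theorem F26871 : act 4 n8445 = n7927 := d9_2 (iv F21535) D8445 (iv D7927)
theorem F26872 : act 6 n8445 = n7923 := d11_2 (iv F21537) D8445 (iv D7923)
theorem F26873 : act 7 n8445 = n6924 := d12_2 (iv F21538) D8445 (iv D6924)
def n8446 : Q := act 6 n6838
theorem D8446 : act 6 n6838 = n8446 := rfl
theorem F26874 : act 0 n8446 = n6842 := d5_1 D8446 (iv D6842) (iv F21539)
theorem F26875 : act 2 n8446 = n8446 := d16_1 D8446 (iv D8446) F21540
theorem F26876 : act 3 n8446 = n8404 := d20_1 D8446 (iv D8404) (iv F21541)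
theorem F26877 : act 4 n8446 = n6839 := d23_1 D8446 (iv D6839) (iv F21542)
theorem F26878 : act 5 n8446 = n8444 := d25_1 D8446 F26870 F21555 F21388 D6838
theorem F26879 : act 7 n8446 = n7911 := d27_2 (iv F21543) D8446 (iv D7911) (iv F20492) F20491
def n8447 : Q := act 1 n6840
theorem D8447 : act 1 n6840 = n8447 := rfl
theorem F26880 : act 0 n8447 = n8398 := d0_1 D8447 F26720 F21372 (iv F16416) (iv F21547)
theorem F26881 : act 3 n8447 = n6848 := d8_2 (iv F21549) D8447 (iv D6848)
theorem F26882 : act 4 n8447 = n8432 := d9_2 F21554 D8447 F26836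
theorem F26883 : act 7 n8447 = n8393 := d12_2 (iv F21550) D8447 F26703
def n8448 : Q := act 6 n6843
theorem D8448 : act 6 n6843 = n8448 := rfl
theorem F26884 : act 1 n8448 = n6844 := d11_1 D8448 (iv D6844) D6843
theorem F26885 : act 3 n8448 = n8426 := d20_1 D8448 F26822 (iv F21562)
theorem F26886 : act 4 n8448 = n6845 := d23_1 D8448 (iv D6845) (iv F21563)
def n8449 : Q := act 7 n6844
theorem D8449 : act 7 n6844 = n8449 := rfl
theorem F26887 : act 0 n8449 = n6849 := d6_1 D8449 (iv D6849) (iv F21565)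
theorem F26888 : act 2 n8449 = n6852 := d17_1 D8449 (iv D6852) (iv F21566)
theorem F26889 : act 3 n8449 = n8157 := d21_1 D8449 (iv D8157) F20538 D6817 (iv F21567)
theorem F26890 : act 4 n8449 = n6847 := d24_1 D8449 (iv D6847) (iv F21568)
theorem F26891 : act 5 n8449 = n7674 := d26_1 D8449 F24325 (iv F21569)
theorem F26892 : act 6 n8449 = n8165 := d27_1 D8449 F25947 F20617 (iv F16429) D6844
def n8450 : Q := act 5 n6845
theorem D8450 : act 5 n6845 = n8450 := rfl
def n8451 : Q := act 7 n6845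
theorem D8451 : act 7 n6845 = n8451 := rfl
theorem F26893 : act 0 n8451 = n8427 := d6_1 D8451 F26824 F26761
theorem F26894 : act 1 n8451 = n6847 := d12_1 D8451 (iv D6847) (iv F21570)
theorem F26895 : act 3 n7695 = n8451 := d8_0 F26894 (iv F21579) D7695
def n8452 : Q := act 1 n6846
theorem D8452 : act 1 n6846 = n8452 := rfl
theorem F26896 : act 4 n8452 = n8076 := d9_2 (iv F21573) D8452 F25602
theorem F26897 : act 6 n8452 = n6848 := d11_2 (iv F21574) D8452 (iv D6848)
theorem F26898 : act 7 n8452 = n7673 := d12_2 F21575 D8452 F24316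
def n8453 : Q := act 3 n6850
theorem D8453 : act 3 n6850 = n8453 := rfl
theorem F26899 : act 0 n8453 = n6859 := d2_1 D8453 (iv D6859) (iv F21587)
theorem F26900 : act 1 n8453 = n7466 := d8_1 D8453 (iv F26108) F26106
theorem F26901 : act 2 n8453 = n7826 := d13_1 D8453 F24721 (iv D6454) (iv F16451) D6850
theorem F26902 : act 5 n8453 = n7340 := d19_2 (iv F21589) D8453 (iv D7340)
theorem F26903 : act 7 n8453 = n7454 := d21_2 F21872 D8453 (iv D7454) F18359 (iv F21870)
def n8454 : Q := act 6 n6850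
theorem D8454 : act 6 n6850 = n8454 := rfl
theorem F26904 : act 0 n8454 = n6860 := d5_1 D8454 (iv D6860) (iv F21587)
theorem F26905 : act 2 n8454 = n6851 := d16_1 D8454 (iv D6851) D6850
theorem F26906 : act 4 n8454 = n6853 := d23_1 D8454 (iv D6853) (iv F21588)
def n8455 : Q := act 5 n6851
theorem D8455 : act 5 n6851 = n8455 := rfl
theorem F26907 : act 0 n8455 = n6861 := d4_1 D8455 (iv D6861) (iv F21590)
theorem F26908 : act 1 n8455 = n8077 := d10_1 D8455 (iv D8077) F20168 (iv F16457) (iv F21591)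
theorem F26909 : act 3 n8455 = n8086 := d19_1 D8455 F25646 (iv F21592)
theorem F26910 : act 4 n8455 = n6854 := d22_1 D8455 (iv D6854) (iv F21593)
theorem F26911 : act 6 n8455 = n7342 := d25_2 D6851 D8455 (iv D7342) (iv D5764) (iv F16453)
def n8456 : Q := act 7 n6851
theorem D8456 : act 7 n6851 = n8456 := rfl
theorem F26912 : act 0 n8456 = n6862 := d6_1 D8456 (iv D6862) (iv F21590)
theorem F26913 : act 1 n8456 = n6852 := d12_1 D8456 (iv D6852) (iv F21591)
theorem F26914 : act 3 n8456 = n7686 := d21_1 D8456 F24362 F20866 (iv F20202) (iv F21592)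
theorem F26915 : act 4 n8456 = n6855 := d24_1 D8456 (iv D6855) (iv F21593)
theorem F26916 : act 6 n8456 = n8278 := d27_1 D8456 F26296 F20959 F16708 D6851
def n8457 : Q := act 5 n6853
theorem D8457 : act 5 n6853 = n8457 := rfl
theorem F26917 : act 0 n8457 = n6866 := d4_1 D8457 (iv D6866) (iv F21599)
theorem F26918 : act 2 n8457 = n6854 := d15_1 D8457 (iv D6854) (iv F21600)
theorem F26919 : act 6 n8457 = n7345 := d25_2 D6853 D8457 (iv D7345) (iv D5766) (iv F16459)
def n8458 : Q := act 7 n6853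
theorem D8458 : act 7 n6853 = n8458 := rfl
theorem F26920 : act 0 n8458 = n6867 := d6_1 D8458 (iv D6867) (iv F21599)
theorem F26921 : act 2 n8458 = n6855 := d17_1 D8458 (iv D6855) (iv F21600)
def n8459 : Q := act 1 n6854
theorem D8459 : act 1 n6854 = n8459 := rfl
theorem F26922 : act 0 n8459 = n8459 := d0_1 D8459 (iv D8459) F21601 F16505 (iv F21601)
theorem F26923 : act 3 n8459 = n8459 := d8_2 F21602 D8459 (iv D8459)
theorem F26924 : act 4 n8459 = n8077 := d9_2 F26910 D8459 (iv F26908)
theorem F26925 : act 5 n8459 = n6856 := d10_2 D6854 D8459 (iv D6856) (iv D5289) (iv F16461)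
theorem F26926 : act 6 n8459 = n7347 := d11_2 (iv F21603) D8459 (iv D7347)
theorem F26927 : act 7 n7524 = n8459 := d27_0 F26926 (iv F23236) (iv F19867) (iv F24004) F24003
def n8460 : Q := act 7 n6854
theorem D8460 : act 7 n6854 = n8460 := rfl
theorem F26928 : act 0 n8460 = n6868 := d6_1 D8460 (iv D6868) (iv F21601)
theorem F26929 : act 1 n8460 = n7524 := d12_1 D8460 F26927 (iv D8459)
theorem F26930 : act 5 n8460 = n6855 := d26_1 D8460 (iv D6855) D6854
theorem F26931 : act 3 n7525 = n8460 := d19_3 F26930 (iv F21606) (iv F23835)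
def n8461 : Q := act 3 n6857
theorem D8461 : act 3 n6857 = n8461 := rfl
theorem F26932 : act 0 n8461 = n7826 := d2_1 D8461 F24721 (iv F21612)
theorem F26933 : act 1 n8461 = n8461 := d8_1 D8461 (iv D8461) F21613
theorem F26934 : act 2 n8461 = n6859 := d13_1 D8461 (iv D6859) (iv D5296) (iv F16482) D6857
theorem F26935 : act 5 n8461 = n7358 := d19_2 (iv F21615) D8461 (iv D7358)
theorem F26936 : act 7 n8461 = n7808 := d21_2 (iv F21818) D8461 (iv D7808) F19336 (iv F21761)
def n8462 : Q := act 5 n6858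
theorem D8462 : act 5 n6858 = n8462 := rfl
theorem F26937 : act 0 n8462 = n8086 := d4_1 D8462 F25646 (iv F21616)
theorem F26938 : act 1 n8462 = n8462 := d10_1 D8462 (iv D8462) F21617 F16489 (iv F21617)
theorem F26939 : act 2 n8462 = n7960 := d15_1 D8462 F25149 F23160
theorem F26940 : act 3 n8462 = n6861 := d19_1 D8462 (iv D6861) (iv F21618)
theorem F26941 : act 4 n8462 = n8462 := d22_1 D8462 (iv D8462) F21619
theorem F26942 : act 6 n8462 = n7361 := d25_2 D6858 D8462 (iv D7361) (iv D5778) (iv F16484)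
theorem F26943 : act 7 n8462 = n7968 := d26_2 F21831 D8462 F25177
def n8463 : Q := act 4 n6859
theorem D8463 : act 4 n6859 = n8463 := rfl
theorem F26944 : act 1 n8463 = n7828 := d9_1 D8463 F24729 (iv F21620)
theorem F26945 : act 3 n8463 = n6864 := d18_1 D8463 (iv D6864) (iv D5299) (iv F16495) D6859
theorem F26946 : act 5 n8463 = n7368 := d22_2 (iv F21621) D8463 (iv D7368)
theorem F26947 : act 7 n8463 = n7811 := d24_2 (iv F21622) D8463 (iv D7811)
def n8464 : Q := act 6 n6859
theorem D8464 : act 6 n6859 = n8464 := rfl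
theorem F26948 : act 1 n8464 = n7831 := d11_1 D8464 (iv D7831) (iv F21620)
theorem F26949 : act 3 n8464 = n6860 := d20_1 D8464 (iv D6860) D6859
def n8465 : Q := act 5 n6860
theorem D8465 : act 5 n6860 = n8465 := rfl
theorem F26950 : act 2 n8465 = n6861 := d15_1 D8465 (iv D6861) (iv F21623)
theorem F26951 : act 4 n8465 = n6866 := d22_1 D8465 (iv D6866) (iv F21624)
theorem F26952 : act 6 n8465 = n7371 := d25_2 D6860 D8465 (iv D7371) (iv D5784) (iv F16496)
def n8466 : Q := act 7 n6860
theorem D8466 : act 7 n6860 = n8466 := rfl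
theorem F26953 : act 2 n8466 = n6862 := d17_1 D8466 (iv D6862) (iv F21623)
theorem F26954 : act 4 n8466 = n6867 := d24_1 D8466 (iv D6867) (iv F21624)
def n8467 : Q := act 7 n6861
theorem D8467 : act 7 n6861 = n8467 := rfl
theorem F26955 : act 1 n8467 = n8467 := d12_1 D8467 (iv D8467) F21625
theorem F26956 : act 4 n8467 = n6868 := d24_1 D8467 (iv D6868) (iv F21626)
theorem F26957 : act 5 n8467 = n6862 := d26_1 D8467 (iv D6862) D6861
def n8468 : Q := act 3 n6862
theorem D8468 : act 3 n6862 = n8468 := rfl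
theorem F26958 : act 0 n8468 = n7686 := d2_1 D8468 (iv F26914) F26912
theorem F26959 : act 1 n8468 = n6863 := d8_1 D8468 (iv D6863) (iv F21628)
theorem F26960 : act 4 n8468 = n7687 := d18_2 (iv F21629) D8468 F24364 F21647 (iv D6869)
theorem F26961 : act 6 n8468 = n8270 := d20_2 F25836 D8468 F26278
theorem F26962 : act 7 n8468 = n8259 := d21_2 D6862 D8468 F26243 F21831 F21618
theorem F26963 : act 2 n8435 = n8468 := d17_3 F26962 F26242 D8435
def n8469 : Q := act 6 n6864
theorem D8469 : act 6 n6864 = n8469 := rfl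
theorem F26964 : act 2 n8469 = n8469 := d16_1 D8469 (iv D8469) F21635
theorem F26965 : act 4 n8469 = n6865 := d23_1 D8469 (iv D6865) D6864
def n8470 : Q := act 5 n6865
theorem D8470 : act 5 n6865 = n8470 := rfl
theorem F26966 : act 2 n8470 = n8470 := d15_1 D8470 (iv D8470) F21637
theorem F26967 : act 3 n8470 = n6866 := d19_1 D8470 (iv D6866) (iv F21638)
theorem F26968 : act 6 n8470 = n7377 := d25_2 D6865 D8470 (iv D7377) (iv D5789) (iv F16503)
def n8471 : Q := act 7 n6865
theorem D8471 : act 7 n6865 = n8471 := rfl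
theorem F26969 : act 2 n8471 = n8471 := d17_1 D8471 (iv D8471) F21637
def n8472 : Q := act 1 n6866
theorem D8472 : act 1 n6866 = n8472 := rfl
theorem F26970 : act 2 n8472 = n8472 := d7_2 (iv F21639) D8472 (iv D8472) F21639 F16505
theorem F26971 : act 6 n8472 = n7378 := d11_2 (iv F21640) D8472 (iv D7378)
def n8473 : Q := act 7 n6866
theorem D8473 : act 7 n6866 = n8473 := rfl
theorem F26972 : act 2 n8473 = n6868 := d17_1 D8473 (iv D6868) (iv F21639)
theorem F26973 : act 5 n8473 = n6867 := d26_1 D8473 (iv D6867) D6866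
def n8474 : Q := act 3 n6867
theorem D8474 : act 3 n6867 = n8474 := rfl
def n8475 : Q := act 3 n6868
theorem D8475 : act 3 n6868 = n8475 := rfl
theorem F26974 : act 0 n8475 = n7525 := d2_1 D8475 F26931 F26928
theorem F26975 : act 1 n8475 = n8475 := d8_1 D8475 (iv D8475) F21642
theorem F26976 : act 5 n8475 = n6869 := d19_2 (iv F21643) D8475 (iv D6869)
theorem F26977 : act 7 n8475 = n8475 := d21_2 D6868 D8475 (iv D8475) (iv D6868) F16506
theorem F26978 : act 4 n7546 = n8475 := d22_3 F26976 (iv F21647) (iv F23903)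
def n8476 : Q := act 6 n6868
theorem D8476 : act 6 n6868 = n8476 := rfl
theorem F26979 : act 1 n8476 = n8476 := d11_1 D8476 (iv D8476) F21642
theorem F26980 : act 7 n8476 = n7382 := d27_2 D6868 D8476 (iv D7382) (iv D5792) (iv F16507)
def n8477 : Q := act 2 n6869
theorem D8477 : act 2 n6869 = n8477 := rfl
theorem F26981 : act 0 n8477 = n7675 := d1_1 D8477 (iv D7675) (iv F21644)
theorem F26982 : act 4 n8477 = n7690 := d14_2 F21647 D8477 (iv D7690)
theorem F26983 : act 7 n8477 = n8477 := d17_2 F21646 D8477 (iv D8477)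
def n8478 : Q := act 1 n6870
theorem D8478 : act 1 n6870 = n8478 := rfl
theorem F26984 : act 0 n8478 = n7923 := d0_1 D8478 (iv D7923) F19626 (iv F16518) (iv F21648)
theorem F26985 : act 3 n8478 = n8445 := d8_2 (iv F21649) D8478 (iv D8445)
theorem F26986 : act 4 n8478 = n7919 := d9_2 (iv F21650) D8478 (iv D7919)
theorem F26987 : act 7 n8478 = n8478 := d12_2 F21652 D8478 (iv D8478)
def n8479 : Q := act 4 n6871
theorem D8479 : act 4 n6871 = n8479 := rfl
theorem F26988 : act 0 n8479 = n8479 := d3_1 D8479 (iv D8479) F21653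
theorem F26989 : act 1 n8479 = n6931 := d9_1 D8479 (iv F26045) F26044
theorem F26990 : act 2 n8479 = n8479 := d14_1 D8479 (iv D8479) F21654
theorem F26991 : act 3 n8479 = n6926 := d18_1 D8479 F21903 F16775 (iv F16525) D6871
theorem F26992 : act 5 n8479 = n7318 := d22_2 (iv F21655) D8479 (iv D7318)
theorem F26993 : act 7 n8479 = n6876 := d24_2 (iv F21656) D8479 (iv D6876)
def n8480 : Q := act 6 n6871
theorem D8480 : act 6 n6871 = n8480 := rfl
theorem F26994 : act 0 n8480 = n8480 := d5_1 D8480 (iv D8480) F21653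
theorem F26995 : act 2 n8480 = n8480 := d16_1 D8480 (iv D8480) F21654
theorem F26996 : act 3 n8480 = n6872 := d20_1 D8480 (iv D6872) D6871
def n8481 : Q := act 5 n6872
theorem D8481 : act 5 n6872 = n8481 := rfl
theorem F26997 : act 0 n8481 = n8481 := d4_1 D8481 (iv D8481) F21657
theorem F26998 : act 2 n8481 = n6891 := d15_1 D8481 (iv D6891) (iv F21658)
theorem F26999 : act 4 n8481 = n7321 := d22_1 D8481 (iv D7321) (iv F21659)
theorem F27000 : act 6 n8481 = n7320 := d25_2 D6872 D8481 (iv D7320) (iv D5741) (iv F16526)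
theorem F27001 : act 7 n8481 = n6882 := d26_2 (iv F21660) D8481 (iv D6882)
def n8482 : Q := act 3 n6873
theorem D8482 : act 3 n6873 = n8482 := rfl
theorem F27002 : act 0 n8482 = n7368 := d2_1 D8482 F23348 (iv F21661)
theorem F27003 : act 1 n8482 = n6874 := d8_1 D8482 (iv D6874) (iv F21662)
theorem F27004 : act 4 n8482 = n7340 := d18_2 (iv F21664) D8482 (iv D7340) F18056 (iv F16615)
theorem F27005 : act 7 n8482 = n7063 := d21_2 D6873 D8482 (iv D7063) (iv D5489) (iv F16528)
theorem F27006 : act 2 n8096 = n8482 := d14_3 F27004 F23213 D8096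
def n8483 : Q := act 6 n6873
theorem D8483 : act 6 n6873 = n8483 := rfl
theorem F27007 : act 0 n8483 = n6975 := d5_1 D8483 F22095 (iv F21661)
theorem F27008 : act 1 n8483 = n6875 := d11_1 D8483 (iv D6875) (iv F21662)
theorem F27009 : act 2 n8483 = n8483 := d16_1 D8483 (iv D8483) F21663
theorem F27010 : act 4 n8483 = n6879 := d23_1 D8483 (iv D6879) (iv F21664)
theorem F27011 : act 7 n8483 = n6936 := d27_2 D6873 D8483 (iv D6936) F16802 (iv F16530)
def n8484 : Q := act 4 n6874
theorem D8484 : act 4 n6874 = n8484 := rfl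
theorem F27012 : act 0 n8484 = n8484 := d3_1 D8484 (iv D8484) F21665
theorem F27013 : act 1 n8484 = n7340 := d9_1 D8484 (iv F27004) F27003
theorem F27014 : act 2 n8484 = n8484 := d14_1 D8484 (iv D8484) F21666
theorem F27015 : act 3 n8484 = n6880 := d18_1 D8484 (iv D6880) (iv D5313) (iv F16533) D6874
theorem F27016 : act 5 n8484 = n6876 := d22_2 (iv F21667) D8484 (iv D6876)
theorem F27017 : act 7 n8484 = n7318 := d24_2 (iv F21668) D8484 (iv D7318)
def n8485 : Q := act 6 n6874
theorem D8485 : act 6 n6874 = n8485 := rfl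
theorem F27018 : act 0 n8485 = n8485 := d5_1 D8485 (iv D8485) F21665
theorem F27019 : act 2 n8485 = n8485 := d16_1 D8485 (iv D8485) F21666
theorem F27020 : act 3 n8485 = n6875 := d20_1 D8485 (iv D6875) D6874
def n8486 : Q := act 5 n6875
theorem D8486 : act 5 n6875 = n8486 := rfl
theorem F27021 : act 0 n8486 = n8486 := d4_1 D8486 (iv D8486) F21669
theorem F27022 : act 2 n8486 = n6889 := d15_1 D8486 (iv D6889) (iv F21670)
theorem F27023 : act 4 n8486 = n6882 := d22_1 D8486 (iv D6882) (iv F21671)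
theorem F27024 : act 6 n8486 = n6878 := d25_2 D6875 D8486 (iv D6878) (iv D5310) (iv F16534)
theorem F27025 : act 7 n8486 = n7321 := d26_2 (iv F21672) D8486 (iv D7321)
def n8487 : Q := act 6 n6876
theorem D8487 : act 6 n6876 = n8487 := rfl
theorem F27026 : act 0 n8487 = n8487 := d5_1 D8487 (iv D8487) F21673
theorem F27027 : act 2 n8487 = n8487 := d16_1 D8487 (iv D8487) F21674
theorem F27028 : act 3 n8487 = n6885 := d20_1 D8487 (iv D6885) (iv F21675)
theorem F27029 : act 4 n8487 = n6877 := d23_1 D8487 (iv D6877) D6876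
def n8488 : Q := act 5 n6877
theorem D8488 : act 5 n6877 = n8488 := rfl
theorem F27030 : act 0 n8488 = n8488 := d4_1 D8488 (iv D8488) F21676
theorem F27031 : act 2 n8488 = n8488 := d15_1 D8488 (iv D8488) F21677
theorem F27032 : act 3 n8488 = n6878 := d19_1 D8488 (iv D6878) (iv F21678)
def n8489 : Q := act 7 n6877
theorem D8489 : act 7 n6877 = n8489 := rfl
theorem F27033 : act 0 n8489 = n8489 := d6_1 D8489 (iv D8489) F21676
theorem F27034 : act 2 n8489 = n8489 := d17_1 D8489 (iv D8489) F21677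
theorem F27035 : act 3 n8489 = n7395 := d21_1 D8489 (iv D7395) F18208 (iv F16540) (iv F21678)
def n8490 : Q := act 1 n6878
theorem D8490 : act 1 n6878 = n8490 := rfl
theorem F27036 : act 4 n8490 = n6888 := d9_2 (iv F21681) D8490 (iv D6888)
theorem F27037 : act 7 n8490 = n7396 := d12_2 (iv F21682) D8490 (iv D7396)
def n8491 : Q := act 5 n6879
theorem D8491 : act 5 n6879 = n8491 := rfl
theorem F27038 : act 0 n8491 = n7377 := d4_1 D8491 (iv D7377) (iv F21683)
theorem F27039 : act 2 n8491 = n8491 := d15_1 D8491 (iv D8491) F21685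
theorem F27040 : act 3 n8491 = n7345 := d19_1 D8491 (iv D7345) (iv F21686)
def n8492 : Q := act 6 n6880
theorem D8492 : act 6 n6880 = n8492 := rfl
theorem F27041 : act 0 n8492 = n8492 := d5_1 D8492 (iv D8492) F21687
theorem F27042 : act 1 n8492 = n7341 := d11_1 D8492 (iv D7341) (iv F21688)
theorem F27043 : act 2 n8492 = n7337 := d16_1 D8492 (iv D7337) (iv F21689)
theorem F27044 : act 4 n8492 = n6881 := d23_1 D8492 (iv D6881) D6880
def n8493 : Q := act 5 n6881
theorem D8493 : act 5 n6881 = n8493 := rfl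
theorem F27045 : act 0 n8493 = n8493 := d4_1 D8493 (iv D8493) F21692
theorem F27046 : act 2 n8493 = n7338 := d15_1 D8493 (iv D7338) (iv F21694)
theorem F27047 : act 3 n8493 = n6882 := d19_1 D8493 (iv D6882) (iv F21695)
theorem F27048 : act 6 n8493 = n6886 := d25_2 D6881 D8493 (iv D6886) (iv D5317) (iv F16547)
def n8494 : Q := act 7 n6881
theorem D8494 : act 7 n6881 = n8494 := rfl
theorem F27049 : act 0 n8494 = n8494 := d6_1 D8494 (iv D8494) F21692
theorem F27050 : act 1 n8494 = n7346 := d12_1 D8494 (iv D7346) (iv F21693)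
theorem F27051 : act 2 n8494 = n7339 := d17_1 D8494 (iv D7339) (iv F21694)
theorem F27052 : act 6 n8494 = n7395 := d27_1 D8494 (iv D7395) (iv D5811) (iv F16548) D6881
def n8495 : Q := act 1 n6882
theorem D8495 : act 1 n6882 = n8495 := rfl
theorem F27053 : act 6 n8495 = n6888 := d11_2 (iv F21698) D8495 (iv D6888)
def n8496 : Q := act 6 n6883
theorem D8496 : act 6 n6883 = n8496 := rfl
theorem F27054 : act 0 n8496 = n8496 := d5_1 D8496 (iv D8496) F21699
theorem F27055 : act 1 n8496 = n7327 := d11_1 D8496 (iv D7327) (iv F21700)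
theorem F27056 : act 2 n8496 = n6885 := d16_1 D8496 (iv D6885) (iv F21701)
theorem F27057 : act 3 n8496 = n8496 := d20_1 D8496 (iv D8496) F21702
theorem F27058 : act 4 n8496 = n6884 := d23_1 D8496 (iv D6884) D6883
theorem F27059 : act 5 n8496 = n8331 := d25_1 D8496 F26477 (iv F23201) (iv D7337) (iv F21703)
theorem F27060 : act 7 n8330 = n8496 := d26_0 F27059 (iv D8331) D8330
def n8497 : Q := act 5 n6884
theorem D8497 : act 5 n6884 = n8497 := rfl
theorem F27061 : act 0 n8497 = n8497 := d4_1 D8497 (iv D8497) F21705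
theorem F27062 : act 1 n8497 = n8328 := d10_1 D8497 F26465 F23171 (iv D7328) (iv F21706)
theorem F27063 : act 2 n8497 = n6886 := d15_1 D8497 (iv D6886) (iv F21707)
theorem F27064 : act 3 n8497 = n6895 := d19_1 D8497 (iv D6895) (iv F21708)
theorem F27065 : act 4 n8497 = n8331 := d22_1 D8497 (iv F27059) F27058
theorem F27066 : act 6 n8497 = n7338 := d25_2 D6884 D8497 (iv D7338) (iv D5761) F16612
theorem F27067 : act 7 n8497 = n8326 := d31_1 D8497 F26456 F21063 (iv D5807) (iv D4344) (iv F11929) (iv D3853) F8333 F6641 (iv F5823) F5822 D1931 F6029 F6027 F4162 F3215 (iv D682) D683 D1013 (iv F4580) (iv F5837) F5840 D2759 F8501 (iv F8495) F8494 D3923 D5326 (iv F21708)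
def n8498 : Q := act 7 n6884
theorem D8498 : act 7 n6884 = n8498 := rfl
theorem F27068 : act 0 n8498 = n8498 := d6_1 D8498 (iv D8498) F21705
theorem F27069 : act 1 n8498 = n7329 := d12_1 D8498 (iv D7329) (iv F21706)
theorem F27070 : act 2 n8498 = n6887 := d17_1 D8498 (iv D6887) (iv F21707)
theorem F27071 : act 4 n8498 = n8330 := d24_1 D8498 F27060 F27058
theorem F27072 : act 5 n8498 = n8326 := d26_1 D8498 (iv F27067) (iv D8497)
theorem F27073 : act 6 n8498 = n7400 := d27_1 D8498 (iv D7400) (iv D5814) (iv F16553) D6884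
def n8499 : Q := act 1 n6886
theorem D8499 : act 1 n6886 = n8499 := rfl
theorem F27074 : act 2 n8499 = n8344 := d7_2 F27063 D8499 F26534 (iv F26463) (iv F27062)
theorem F27075 : act 3 n8499 = n6888 := d8_2 (iv F21712) D8499 (iv D6888)
theorem F27076 : act 4 n8499 = n8349 := d9_2 F23426 D8499 F26555
theorem F27077 : act 7 n8499 = n8342 := d12_2 (iv F23419) D8499 F26526
theorem F27078 : act 0 n8363 = n8499 := d6_3 F27077 F26525 D8363
def n8500 : Q := act 0 n6888
theorem D8500 : act 0 n6888 = n8500 := rfl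
theorem F27079 : act 1 n8500 = n8500 := d0_2 D6888 D8500 (iv D8500) (iv D6888) F16558
theorem F27080 : act 3 n8500 = n8363 := d2_2 F27075 D8500 F27078
def n8501 : Q := act 2 n6888
theorem D8501 : act 2 n6888 = n8501 := rfl
theorem F27081 : act 1 n8501 = n6900 := d7_1 D8501 (iv D6900) (iv D5329) (iv F16559) D6888
def n8502 : Q := act 2 n6890
theorem D8502 : act 2 n6890 = n8502 := rfl
theorem F27082 : act 4 n8502 = n6900 := d14_2 (iv F21721) D8502 (iv D6900)
theorem F27083 : act 5 n8502 = n6903 := d15_2 (iv F21722) D8502 (iv D6903)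
theorem F27084 : act 7 n8502 = n7411 := d17_2 (iv F21723) D8502 (iv D7411)
def n8503 : Q := act 1 n6892
theorem D8503 : act 1 n6892 = n8503 := rfl
theorem F27085 : act 3 n8503 = n6893 := d8_2 (iv F21730) D8503 (iv D6893)
theorem F27086 : act 4 n8503 = n8503 := d9_2 F21731 D8503 (iv D8503)
theorem F27087 : act 5 n8503 = n8503 := d10_2 D6892 D8503 (iv D8503) (iv D6892) F16579
theorem F27088 : act 6 n8503 = n6897 := d11_2 (iv F21732) D8503 (iv D6897)
theorem F27089 : act 7 n8503 = n8503 := d12_2 F21733 D8503 (iv D8503)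
def n8504 : Q := act 2 n6893
theorem D8504 : act 2 n6893 = n8504 := rfl
theorem F27090 : act 5 n8504 = n8504 := d15_2 F21734 D8504 (iv D8504)
theorem F27091 : act 6 n8504 = n6900 := d16_2 (iv F21735) D8504 (iv D6900)
def n8505 : Q := act 7 n6895
theorem D8505 : act 7 n6895 = n8505 := rfl
theorem F27092 : act 0 n8505 = n8505 := d6_1 D8505 (iv D8505) F21741
theorem F27093 : act 2 n8505 = n6898 := d17_1 D8505 (iv D6898) (iv F21742)
theorem F27094 : act 4 n8505 = n8505 := d24_1 D8505 (iv D8505) F21743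
theorem F27095 : act 5 n8505 = n6896 := d26_1 D8505 (iv D6896) D6895
theorem F27096 : act 6 n8505 = n8505 := d27_1 D8505 (iv D8505) (iv F22056) F22057 F22056
def n8506 : Q := act 0 n6897
theorem D8506 : act 0 n6897 = n8506 := rfl
theorem F27097 : act 1 n8506 = n8506 := d0_2 D6897 D8506 (iv D8506) (iv D6897) F16591
theorem F27098 : act 3 n8506 = n6899 := d2_2 (iv F21748) D8506 (iv D6899)
theorem F27099 : act 4 n8506 = n8506 := d3_2 F21749 D8506 (iv D8506)
theorem F27100 : act 5 n8506 = n6906 := d4_2 (iv F21750) D8506 (iv D6906)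
theorem F27101 : act 7 n8506 = n8392 := d6_2 F25626 D8506 F26697
def n8507 : Q := act 2 n6897
theorem D8507 : act 2 n6897 = n8507 := rfl
theorem F27102 : act 4 n8507 = n8507 := d14_2 F21749 D8507 (iv D8507)
theorem F27103 : act 5 n8507 = n6907 := d15_2 (iv F21750) D8507 (iv D6907)
def n8508 : Q := act 2 n6899
theorem D8508 : act 2 n6899 = n8508 := rfl
theorem F27104 : act 0 n8508 = n6900 := d1_1 D8508 (iv D6900) D6899
theorem F27105 : act 5 n8508 = n6908 := d15_2 (iv F21756) D8508 (iv D6908)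
def n8509 : Q := act 3 n6900
theorem D8509 : act 3 n6900 = n8509 := rfl
theorem F27106 : act 5 n8509 = n6909 := d19_2 (iv F21757) D8509 (iv D6909)
def n8510 : Q := act 2 n6902
theorem D8510 : act 2 n6902 = n8510 := rfl
theorem F27107 : act 0 n8510 = n6903 := d1_1 D8510 (iv D6903) D6902
theorem F27108 : act 4 n8510 = n6908 := d14_2 (iv F21821) D8510 (iv D6908)
theorem F27109 : act 6 n8510 = n8510 := d16_2 F21822 D8510 (iv D8510)
theorem F27110 : act 7 n8510 = n7701 := d17_2 (iv F21823) D8510 (iv D7701)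
def n8511 : Q := act 3 n6903
theorem D8511 : act 3 n6903 = n8511 := rfl
theorem F27111 : act 2 n8511 = n8511 := d13_1 D8511 (iv D8511) (iv D6903) F16638 D6903
theorem F27112 : act 6 n8511 = n8511 := d20_2 F21825 D8511 (iv D8511)
def n8512 : Q := act 2 n6906
theorem D8512 : act 2 n6906 = n8512 := rfl
theorem F27113 : act 0 n8512 = n6907 := d1_1 D8512 (iv D6907) D6906
theorem F27114 : act 1 n8512 = n8512 := d7_1 D8512 (iv D8512) F21833 F16743 (iv F21833)
theorem F27115 : act 4 n8512 = n8512 := d14_2 F21835 D8512 (iv D8512)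
theorem F27116 : act 6 n8512 = n8512 := d16_2 F21836 D8512 (iv D8512)
theorem F27117 : act 7 n8512 = n8391 := d17_2 (iv F21837) D8512 F26695
def n8513 : Q := act 3 n6907
theorem D8513 : act 3 n6907 = n8513 := rfl
theorem F27118 : act 2 n8513 = n6909 := d13_1 D8513 (iv D6909) (iv D5341) (iv F16654) D6907
theorem F27119 : act 6 n8513 = n8513 := d20_2 F21839 D8513 (iv D8513)
def n8514 : Q := act 1 n6908
theorem D8514 : act 1 n6908 = n8514 := rfl
theorem F27120 : act 2 n8514 = n6924 := d7_2 D6908 D8514 (iv D6924) (iv D5363) (iv F16657)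
theorem F27121 : act 6 n8514 = n8514 := d11_2 F21841 D8514 (iv D8514)
def n8515 : Q := act 3 n6908
theorem D8515 : act 3 n6908 = n8515 := rfl
theorem F27122 : act 0 n8515 = n6909 := d2_1 D8515 (iv D6909) (iv F21840)
theorem F27123 : act 6 n8515 = n8515 := d20_2 F21841 D8515 (iv D8515)
def n8516 : Q := act 4 n6909
theorem D8516 : act 4 n6909 = n8516 := rfl
theorem F27124 : act 6 n8516 = n8516 := d23_2 F21842 D8516 (iv D8516)
def n8517 : Q := act 7 n6909
theorem D8517 : act 7 n6909 = n8517 := rfl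
def n8518 : Q := act 7 n6911
theorem D8518 : act 7 n6911 = n8518 := rfl
theorem F27125 : act 0 n8518 = n6914 := d6_1 D8518 (iv D6914) (iv F21848)
theorem F27126 : act 2 n8518 = n7439 := d17_1 D8518 (iv D7439) (iv F21849)
theorem F27127 : act 4 n8518 = n6913 := d24_1 D8518 (iv D6913) (iv F21851)
theorem F27128 : act 5 n8518 = n7714 := d26_1 D8518 (iv D7714) (iv F21852)
def n8519 : Q := act 7 n6912
theorem D8519 : act 7 n6912 = n8519 := rfl
theorem F27129 : act 0 n8519 = n6915 := d6_1 D8519 (iv D6915) (iv F21853)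
theorem F27130 : act 2 n8519 = n7443 := d17_1 D8519 (iv D7443) (iv F21854)
theorem F27131 : act 4 n8519 = n7714 := d24_1 D8519 (iv D7714) (iv F21855)
theorem F27132 : act 5 n8519 = n6913 := d26_1 D8519 (iv D6913) D6912
def n8520 : Q := act 3 n6915
theorem D8520 : act 3 n6915 = n8520 := rfl
theorem F27133 : act 5 n8520 = n6916 := d19_2 (iv F21865) D8520 (iv D6916)
def n8521 : Q := act 6 n6915
theorem D8521 : act 6 n6915 = n8521 := rfl
theorem F27134 : act 2 n8521 = n7448 := d16_1 D8521 (iv D7448) (iv F21863)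
theorem F27135 : act 4 n8521 = n7705 := d23_1 D8521 F24409 (iv F21864)
theorem F27136 : act 7 n8521 = n6917 := d27_2 D6915 D8521 (iv D6917) (iv D5353) (iv F16699)
def n8522 : Q := act 4 n6916
theorem D8522 : act 4 n6916 = n8522 := rfl
theorem F27137 : act 1 n8522 = n8522 := d9_1 D8522 (iv D8522) F21866
def n8523 : Q := act 4 n6919
theorem D8523 : act 4 n6919 = n8523 := rfl
theorem F27138 : act 0 n8523 = n8523 := d3_1 D8523 (iv D8523) F21873
theorem F27139 : act 1 n8523 = n7120 := d9_1 D8523 F22552 (iv F22547)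
theorem F27140 : act 3 n8523 = n7122 := d18_1 D8523 F22558 F17376 (iv F16716) D6919
theorem F27141 : act 5 n8523 = n7397 := d22_2 (iv F21874) D8523 F23444
theorem F27142 : act 7 n8523 = n8523 := d24_2 F21875 D8523 (iv D8523)
def n8524 : Q := act 6 n6919
theorem D8524 : act 6 n6919 = n8524 := rfl
theorem F27143 : act 0 n8524 = n8524 := d5_1 D8524 (iv D8524) F21873
theorem F27144 : act 3 n8524 = n6920 := d20_1 D8524 (iv D6920) D6919
theorem F27145 : act 5 n8524 = n8031 := d31_6 (iv F6657) (iv F9614) (iv F12239) (iv F16715) D6920 (iv F27144) (iv D8031) (iv D6385) (iv F19435) F19436 (iv D4691) F10436 F10437 F9636 (iv D2329) F6663 F6662 (iv F5889) (iv F8384) F8382 F6010 (iv F8727) F8725 F6016 F6017 (iv F5847) F5846 (iv D1454) D1453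
theorem F27146 : act 4 n8021 = n8524 := d22_3 F27145 F25420 (iv F25379)
theorem F27147 : act 7 n8020 = n8524 := d26_0 F27145 (iv D8031) (iv F25376)
theorem F27148 : act 6 n8523 = n8021 := d23_0 F27146 (iv D8524) D8523
def n8525 : Q := act 5 n6920
theorem D8525 : act 5 n6920 = n8525 := rfl
theorem F27149 : act 0 n8525 = n8525 := d4_1 D8525 (iv D8525) F21876
theorem F27150 : act 2 n8525 = n6921 := d15_1 D8525 (iv D6921) (iv F21877)
theorem F27151 : act 3 n8525 = n8031 := d19_1 D8525 (iv F27145) F27144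
theorem F27152 : act 4 n8525 = n7410 := d22_1 D8525 (iv D7410) (iv F21878)
theorem F27153 : act 6 n8525 = n7416 := d25_2 D6920 D8525 (iv D7416) (iv D5828) (iv F16717)
theorem F27154 : act 7 n8525 = n8525 := d26_2 F21879 D8525 (iv D8525)
def n8526 : Q := act 1 n6922
theorem D8526 : act 1 n6922 = n8526 := rfl
theorem F27155 : act 4 n8526 = n6924 := d9_2 (iv F21885) D8526 (iv D6924)
theorem F27156 : act 6 n8526 = n8526 := d11_2 F21887 D8526 (iv D8526)
theorem F27157 : act 7 n8526 = n7927 := d12_2 (iv F21888) D8526 (iv D7927)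
def n8527 : Q := act 3 n6922
theorem D8527 : act 3 n6922 = n8527 := rfl
theorem F27158 : act 0 n8527 = n6923 := d2_1 D8527 (iv D6923) (iv F21884)
theorem F27159 : act 2 n8527 = n8527 := d13_1 D8527 (iv D8527) (iv D6922) F16722 D6922
theorem F27160 : act 4 n8527 = n8527 := d18_2 (iv F21885) D8527 (iv D8527) F21885 F16750
theorem F27161 : act 5 n8527 = n8527 := d19_2 F21886 D8527 (iv D8527)
theorem F27162 : act 6 n8527 = n8527 := d20_2 F21887 D8527 (iv D8527)
def n8528 : Q := act 7 n6923
theorem D8528 : act 7 n6923 = n8528 := rfl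
theorem F27163 : act 1 n8528 = n6986 := d12_1 D8528 (iv F26423) F26418
theorem F27164 : act 2 n8528 = n8528 := d17_1 D8528 (iv D8528) F21889
theorem F27165 : act 3 n8528 = n7929 := d21_1 D8528 (iv D7929) (iv D6277) (iv F16730) D6923
theorem F27166 : act 4 n8528 = n8528 := d24_1 D8528 (iv D8528) F21890
theorem F27167 : act 5 n8528 = n8528 := d26_1 D8528 (iv D8528) F21891
theorem F27168 : act 6 n8528 = n6988 := d30_6 D1891 D2778 D3951 D5359 D6923 D8528 F22133 (iv D5424) F12450 F8739 F8742 F8741 (iv D2825) F6035 (iv F5989) (iv F8213) (iv F11772) (iv D3810) F8210 (iv D2397) (iv D1638) (iv D1113) (iv D757) (iv F2003) F2002 F2000 F2001 (iv F2774) D1272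
def n8529 : Q := act 5 n6924
theorem D8529 : act 5 n6924 = n8529 := rfl
theorem F27169 : act 1 n8529 = n8529 := d10_1 D8529 (iv D8529) (iv D6924) F16751 D6924
theorem F27170 : act 3 n8529 = n8529 := d19_1 D8529 (iv D8529) F21893
def n8530 : Q := act 6 n6926
theorem D8530 : act 6 n6926 = n8530 := rfl
theorem F27171 : act 0 n8530 = n8530 := d5_1 D8530 (iv D8530) F21901
theorem F27172 : act 1 n8530 = n6932 := d11_1 D8530 (iv D6932) (iv F21902)
theorem F27173 : act 2 n8530 = n6927 := d16_1 D8530 (iv D6927) D6926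
theorem F27174 : act 4 n8530 = n6928 := d23_1 D8530 (iv D6928) (iv F21903)
theorem F27175 : act 5 n8530 = n8494 := d25_1 D8530 F27052 F23441 (iv D7322) (iv F21904)
theorem F27176 : act 7 n8530 = n8493 := d27_2 (iv F21905) D8530 F27048 F23419 (iv D7388)
def n8531 : Q := act 5 n6928
theorem D8531 : act 5 n6928 = n8531 := rfl
theorem F27177 : act 0 n8531 = n8531 := d4_1 D8531 (iv D8531) F21910
theorem F27178 : act 2 n8531 = n6929 := d15_1 D8531 (iv D6929) (iv F21912)
theorem F27179 : act 3 n8531 = n7321 := d19_1 D8531 (iv D7321) (iv F21913)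
theorem F27180 : act 4 n8531 = n8494 := d22_1 D8531 (iv F27175) F27174
theorem F27181 : act 6 n8531 = n7323 := d25_2 D6928 D8531 (iv D7323) (iv D5744) (iv F16776)
theorem F27182 : act 7 n8531 = n8492 := d31_1 D8531 F27044 F21694 (iv D5761) (iv F16607) F16576 F12151 F8505 (iv D2760) D2761 F8508 F5848 (iv F8348) F8346 F6015 (iv D1499) F3222 (iv F4717) (iv D1498) (iv F4481) F4480 (iv F4711) (iv F6494) (iv F8488) D3920 F12140 (iv F13246) D5742 (iv F21913)
def n8532 : Q := act 7 n6928
theorem D8532 : act 7 n6928 = n8532 := rfl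
theorem F27183 : act 0 n8532 = n8532 := d6_1 D8532 (iv D8532) F21910
theorem F27184 : act 1 n8532 = n6938 := d12_1 D8532 (iv D6938) (iv F21911)
theorem F27185 : act 2 n8532 = n6930 := d17_1 D8532 (iv D6930) (iv F21912)
theorem F27186 : act 4 n8532 = n8493 := d24_1 D8532 (iv F27176) F27174
theorem F27187 : act 5 n8532 = n8492 := d26_1 D8532 (iv F27182) (iv D8531)
theorem F27188 : act 6 n8532 = n7390 := d27_1 D8532 (iv D7390) (iv D5807) (iv F16777) D6928
def n8533 : Q := act 6 n6931
theorem D8533 : act 6 n6931 = n8533 := rfl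
theorem F27189 : act 0 n8533 = n6965 := d5_1 D8533 (iv D6965) (iv F21918)
theorem F27190 : act 2 n8533 = n7958 := d16_1 D8533 F25145 (iv F21919)
theorem F27191 : act 3 n8533 = n6932 := d20_1 D8533 (iv D6932) D6931
def n8534 : Q := act 5 n6932
theorem D8534 : act 5 n6932 = n8534 := rfl
theorem F27192 : act 0 n8534 = n6967 := d4_1 D8534 (iv D6967) (iv F21921)
theorem F27193 : act 2 n8534 = n6933 := d15_1 D8534 (iv D6933) (iv F21922)
theorem F27194 : act 4 n8534 = n6937 := d22_1 D8534 (iv D6937) (iv F21923)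
theorem F27195 : act 6 n8534 = n7467 := d25_2 D6932 D8534 (iv D7467) (iv D5874) (iv F16790)
def n8535 : Q := act 7 n6932
theorem D8535 : act 7 n6932 = n8535 := rfl
theorem F27196 : act 0 n8535 = n6968 := d6_1 D8535 (iv D6968) (iv F21921)
theorem F27197 : act 1 n8535 = n8493 := d12_1 D8535 (iv F27176) F27172
theorem F27198 : act 2 n8535 = n6934 := d17_1 D8535 (iv D6934) (iv F21922)
theorem F27199 : act 4 n8535 = n6938 := d24_1 D8535 (iv D6938) (iv F21923)
theorem F27200 : act 6 n8535 = n8499 := d27_1 D8535 F27077 (iv D8342) F21155 D6932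
theorem F27201 : act 3 n8495 = n8535 := d20_3 F27200 F27075 (iv F27053)
def n8536 : Q := act 7 n6933
theorem D8536 : act 7 n6933 = n8536 := rfl
theorem F27202 : act 0 n8536 = n6969 := d6_1 D8536 (iv D6969) (iv F21924)
theorem F27203 : act 1 n8536 = n7953 := d12_1 D8536 (iv D7953) (iv F21925)
theorem F27204 : act 4 n8536 = n6940 := d24_1 D8536 (iv D6940) (iv F21927)
theorem F27205 : act 5 n8536 = n6934 := d26_1 D8536 (iv D6934) D6933
def n8537 : Q := act 3 n6934
theorem D8537 : act 3 n6934 = n8537 := rfl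
theorem F27206 : act 0 n8537 = n6970 := d2_1 D8537 (iv D6970) (iv F21929)
theorem F27207 : act 1 n8537 = n6935 := d8_1 D8537 (iv D6935) (iv F21930)
theorem F27208 : act 7 n8537 = n7959 := d21_2 D6934 D8537 (iv D7959) (iv D6308) (iv F16793)
def n8538 : Q := act 2 n6935
theorem D8538 : act 2 n6935 = n8538 := rfl
theorem F27209 : act 0 n8538 = n6943 := d1_1 D8538 (iv D6943) (iv F21932)
theorem F27210 : act 3 n8538 = n6953 := d13_2 D6935 D8538 F22004 (iv F21241) F21240
theorem F27211 : act 5 n8538 = n6952 := d15_2 (iv F21933) D8538 F22000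
theorem F27212 : act 7 n8538 = n7961 := d17_2 (iv F21934) D8538 (iv D7961)
def n8539 : Q := act 4 n6935
theorem D8539 : act 4 n6935 = n8539 := rfl
theorem F27213 : act 0 n8539 = n6944 := d3_1 D8539 (iv D6944) (iv F21932)
theorem F27214 : act 3 n8539 = n6942 := d18_1 D8539 (iv D6942) (iv D5381) (iv F16796) D6935
theorem F27215 : act 5 n8539 = n7955 := d22_2 (iv F21933) D8539 (iv D7955)
theorem F27216 : act 6 n8539 = n8127 := d23_2 F26545 D8539 (iv F26543)
theorem F27217 : act 7 n8539 = n7962 := d24_2 (iv F21934) D8539 (iv D7962)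
def n8540 : Q := act 5 n6936
theorem D8540 : act 5 n6936 = n8540 := rfl
theorem F27218 : act 0 n8540 = n6974 := d4_1 D8540 (iv D6974) (iv F21935)
theorem F27219 : act 2 n8540 = n8540 := d15_1 D8540 (iv D8540) F21937
theorem F27220 : act 3 n8540 = n6937 := d19_1 D8540 (iv D6937) (iv F21938)
theorem F27221 : act 6 n8540 = n7472 := d25_2 D6936 D8540 (iv D7472) (iv D5879) (iv F16801)
def n8541 : Q := act 1 n6937
theorem D8541 : act 1 n6937 = n8541 := rfl
theorem F27222 : act 6 n8541 = n7474 := d11_2 (iv F21941) D8541 (iv D7474)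
def n8542 : Q := act 7 n6937
theorem D8542 : act 7 n6937 = n8542 := rfl
theorem F27223 : act 0 n8542 = n6977 := d6_1 D8542 (iv D6977) (iv F21939)
theorem F27224 : act 2 n8542 = n6940 := d17_1 D8542 (iv D6940) (iv F21940)
theorem F27225 : act 5 n8542 = n6938 := d26_1 D8542 (iv D6938) D6937
def n8543 : Q := act 3 n6938
theorem D8543 : act 3 n6938 = n8543 := rfl
theorem F27226 : act 0 n8543 = n6978 := d2_1 D8543 (iv D6978) (iv F21942)
def n8544 : Q := act 3 n6940
theorem D8544 : act 3 n6940 = n8544 := rfl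
theorem F27227 : act 0 n8544 = n6979 := d2_1 D8544 (iv D6979) (iv F21949)
theorem F27228 : act 1 n8544 = n8100 := d8_1 D8544 F25707 F25611
theorem F27229 : act 5 n8544 = n6941 := d19_2 (iv F21950) D8544 (iv D6941)
theorem F27230 : act 7 n8544 = n8544 := d21_2 D6940 D8544 (iv D8544) (iv D6940) F16806
theorem F27231 : act 2 n6982 = n8544 := d7_0 F27228 F25706 (iv F25666) F22114 (iv F22108)
theorem F27232 : act 4 n8544 = n6981 := d14_2 D6982 F27231 (iv D6981)
def n8545 : Q := act 6 n6940
theorem D8545 : act 6 n6940 = n8545 := rfl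
theorem F27233 : act 0 n8545 = n6980 := d5_1 D8545 (iv D6980) (iv F21949)
theorem F27234 : act 1 n8545 = n7570 := d11_1 D8545 (iv F25614) F25611
theorem F27235 : act 7 n8545 = n7478 := d27_2 D6940 D8545 (iv D7478) (iv D5883) (iv F16807)
def n8546 : Q := act 2 n6941
theorem D8546 : act 2 n6941 = n8546 := rfl
theorem F27236 : act 0 n8546 = n6981 := d1_1 D8546 (iv D6981) (iv F21951)
theorem F27237 : act 1 n8546 = n8546 := d7_1 D8546 (iv D8546) F21952 F16820 (iv F21952)
theorem F27238 : act 5 n8546 = n6982 := d15_2 F27229 D8546 F27231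
theorem F27239 : act 6 n8546 = n8129 := d16_2 (iv F21953) D8546 (iv D8129)
theorem F27240 : act 7 n8546 = n8546 := d17_2 F21954 D8546 (iv D8546)
theorem F27241 : act 4 n6979 = n8546 := d22_3 F27238 (iv D6982) (iv F22103)
def n8547 : Q := act 4 n6941
theorem D8547 : act 4 n6941 = n8547 := rfl
theorem F27242 : act 0 n8547 = n6982 := d3_1 D8547 (iv D6982) (iv F21951)
theorem F27243 : act 1 n8547 = n6942 := d9_1 D8547 (iv D6942) (iv F21952)
theorem F27244 : act 2 n8547 = n6979 := d14_1 D8547 F27241 (iv D8546)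
theorem F27245 : act 5 n8547 = n6981 := d22_2 F27229 D8547 (iv F27232)
theorem F27246 : act 6 n8547 = n8128 := d23_2 (iv F21953) D8547 F25811
theorem F27247 : act 7 n8547 = n8547 := d24_2 F21954 D8547 (iv D8547)
def n8548 : Q := act 3 n6945
theorem D8548 : act 3 n6945 = n8548 := rfl
theorem F27248 : act 0 n8548 = n8548 := d2_1 D8548 (iv D8548) F21968
theorem F27249 : act 1 n8548 = n6954 := d8_1 D8548 (iv D6954) (iv F21969)
theorem F27250 : act 2 n8548 = n8548 := d13_1 D8548 (iv D8548) (iv D6945) F16833 D6945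
theorem F27251 : act 5 n8548 = n8548 := d19_2 F21971 D8548 (iv D8548)
theorem F27252 : act 6 n8548 = n8091 := d20_2 F22029 D8548 (iv D8091)
def n8549 : Q := act 7 n6945
theorem D8549 : act 7 n6945 = n8549 := rfl
theorem F27253 : act 0 n8549 = n8549 := d6_1 D8549 (iv D8549) F21968
theorem F27254 : act 1 n8549 = n6956 := d12_1 D8549 (iv D6956) (iv F21969)
theorem F27255 : act 2 n8549 = n6947 := d17_1 D8549 (iv D6947) D6945
theorem F27256 : act 4 n8549 = n8549 := d24_1 D8549 (iv D8549) F21970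
theorem F27257 : act 5 n8549 = n8549 := d26_1 D8549 (iv D8549) F21971
theorem F27258 : act 6 n8549 = n8087 := d27_1 D8549 (iv D8087) F20195 D6460 F22029
def n8550 : Q := act 3 n6947
theorem D8550 : act 3 n6947 = n8550 := rfl
theorem F27259 : act 0 n8550 = n8550 := d2_1 D8550 (iv D8550) F21976
theorem F27260 : act 1 n8550 = n6949 := d8_1 D8550 (iv D6949) (iv F21977)
theorem F27261 : act 5 n8550 = n8550 := d19_2 F21979 D8550 (iv D8550)
theorem F27262 : act 7 n8550 = n8550 := d21_2 D6947 D8550 (iv D8550) (iv D6947) F16833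
theorem F27263 : act 4 n8125 = n8550 := d9_0 F27260 (iv F21988) D8125
def n8551 : Q := act 6 n6947
theorem D8551 : act 6 n6947 = n8551 := rfl
theorem F27264 : act 0 n8551 = n8551 := d5_1 D8551 (iv D8551) F21976
theorem F27265 : act 1 n8551 = n6950 := d11_1 D8551 (iv D6950) (iv F21977)
theorem F27266 : act 2 n8551 = n8087 := d16_1 D8551 (iv F27258) F27255
theorem F27267 : act 4 n8551 = n8551 := d23_1 D8551 (iv D8551) F21978
theorem F27268 : act 7 n8551 = n8084 := d27_2 D6947 D8551 F25639 (iv F22031) (iv D6946)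
theorem F27269 : act 5 n8551 = n8085 := d30_1 D8551 F25641 (iv D6907) F16654 (iv F16333) F16332 F14241 (iv D3331) (iv F9958) (iv F13907) D5980 F18750 F17260 (iv F19276) (iv D6155) (iv D4648) (iv D3353) (iv F10305) (iv D3351) (iv F9682) (iv F12217) (iv F16672) (iv F18439) (iv D5887) (iv F16855) (iv F21969) (iv D6945) F16833 D6947
def n8552 : Q := act 6 n6948
theorem D8552 : act 6 n6948 = n8552 := rfl
theorem F27270 : act 0 n8552 = n6985 := d5_1 D8552 (iv D6985) (iv F21980)
theorem F27271 : act 1 n8552 = n8084 := d11_1 D8552 F25639 F22032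
theorem F27272 : act 2 n8552 = n6961 := d16_1 D8552 (iv D6961) (iv F21981)
theorem F27273 : act 3 n8552 = n8381 := d20_1 D8552 F26663 (iv F22117)
theorem F27274 : act 4 n8552 = n8552 := d23_1 D8552 (iv D8552) F21982
theorem F27275 : act 7 n8552 = n6950 := d27_2 D6948 D8552 (iv D6950) (iv D5386) D5385
def n8553 : Q := act 5 n6950
theorem D8553 : act 5 n6950 = n8553 := rfl
theorem F27276 : act 0 n8553 = n6986 := d4_1 D8553 (iv D6986) (iv F21989)
theorem F27277 : act 1 n8553 = n8507 := d10_1 D8553 F27103 (iv F25641) (iv F27269) F27265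
theorem F27278 : act 2 n8553 = n6962 := d15_1 D8553 (iv D6962) (iv F21990)
theorem F27279 : act 4 n8553 = n8553 := d22_1 D8553 (iv D8553) F21991
theorem F27280 : act 6 n8553 = n6953 := d25_2 D6950 D8553 (iv D6953) (iv D5388) (iv F16844)
def n8554 : Q := act 6 n6951
theorem D8554 : act 6 n6951 = n8554 := rfl
theorem F27281 : act 0 n8554 = n6987 := d5_1 D8554 (iv D6987) (iv F21992)
theorem F27282 : act 1 n8554 = n8554 := d11_1 D8554 (iv D8554) F21993
theorem F27283 : act 2 n8554 = n7955 := d16_1 D8554 F25134 (iv F21994)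
theorem F27284 : act 3 n8554 = n8554 := d20_1 D8554 (iv D8554) F21995
theorem F27285 : act 4 n8554 = n6952 := d23_1 D8554 (iv D6952) D6951
theorem F27286 : act 7 n7964 = n8554 := d24_0 F27285 (iv F22002) D7964
def n8555 : Q := act 1 n6953
theorem D8555 : act 1 n6953 = n8555 := rfl
theorem F27287 : act 2 n8555 = n8503 := d7_2 (iv F22004) D8555 (iv D8503) F22058 (iv D6963)
theorem F27288 : act 4 n8555 = n8555 := d9_2 F22005 D8555 (iv D8555)
theorem F27289 : act 5 n8555 = n8555 := d10_2 D6953 D8555 (iv D8555) (iv D6953) F16849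
theorem F27290 : act 6 n8555 = n8507 := d11_2 F27280 D8555 (iv F27277)
theorem F27291 : act 7 n8555 = n8555 := d12_2 F22006 D8555 (iv D8555)
def n8556 : Q := act 4 n6954
theorem D8556 : act 4 n6954 = n8556 := rfl
theorem F27292 : act 0 n8556 = n7965 := d3_1 D8556 (iv D7965) (iv F22007)
theorem F27293 : act 2 n8556 = n6964 := d14_1 D8556 (iv D6964) (iv F22008)
theorem F27294 : act 3 n8556 = n8556 := d18_1 D8556 (iv D8556) (iv D6954) F16854 D6954
theorem F27295 : act 5 n8556 = n7480 := d22_2 (iv F22009) D8556 (iv D7480)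
def n8557 : Q := act 6 n6954
theorem D8557 : act 6 n6954 = n8557 := rfl
theorem F27296 : act 0 n8557 = n7958 := d5_1 D8557 F25145 (iv F22007)
theorem F27297 : act 1 n8557 = n8091 := d11_1 D8557 (iv F27252) F27249
theorem F27298 : act 2 n8557 = n6965 := d16_1 D8557 (iv D6965) (iv F22008)
theorem F27299 : act 3 n8557 = n6955 := d20_1 D8557 (iv D6955) D6954
theorem F27300 : act 5 n8093 = n8557 := d19_0 F27299 (iv F22024) D8093
def n8558 : Q := act 7 n6954
theorem D8558 : act 7 n6954 = n8558 := rfl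
theorem F27301 : act 0 n8558 = n7966 := d6_1 D8558 (iv D7966) (iv F22007)
theorem F27302 : act 2 n8558 = n6966 := d17_1 D8558 (iv D6966) (iv F22008)
theorem F27303 : act 5 n8558 = n7482 := d26_1 D8558 (iv D7482) (iv F22009)
def n8559 : Q := act 3 n6956
theorem D8559 : act 3 n6956 = n8559 := rfl
theorem F27304 : act 0 n8559 = n7967 := d2_1 D8559 (iv D7967) (iv F22013)
theorem F27305 : act 2 n8559 = n8431 := d13_1 D8559 F26834 F21509 F18017 (iv F22014)
theorem F27306 : act 5 n8559 = n7484 := d19_2 (iv F22016) D8559 (iv D7484)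
theorem F27307 : act 6 n8559 = n8261 := d20_2 F22017 D8559 F26250
def n8560 : Q := act 3 n6958
theorem D8560 : act 3 n6958 = n8560 := rfl
theorem F27308 : act 0 n8560 = n7959 := d2_1 D8560 (iv D7959) (iv F22033)
theorem F27309 : act 1 n8560 = n6960 := d8_1 D8560 (iv D6960) (iv F22034)
theorem F27310 : act 5 n8560 = n8092 := d19_2 (iv F22037) D8560 (iv D8092)
theorem F27311 : act 7 n8560 = n6970 := d21_2 D6958 D8560 (iv D6970) (iv D5398) (iv F16858)
def n8561 : Q := act 6 n6958
theorem D8561 : act 6 n6958 = n8561 := rfl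
theorem F27312 : act 0 n8561 = n7960 := d5_1 D8561 (iv D7960) (iv F22033)
theorem F27313 : act 1 n8561 = n6961 := d11_1 D8561 (iv D6961) (iv F22034)
theorem F27314 : act 2 n8561 = n8086 := d16_1 D8561 F25647 (iv F22035)
theorem F27315 : act 4 n8561 = n8561 := d23_1 D8561 (iv D8561) F22036
theorem F27316 : act 5 n8561 = n8088 := d25_1 D8561 F25656 F20205 (iv F20234) (iv F22037)
theorem F27317 : act 7 n8561 = n6959 := d27_2 D6958 D8561 (iv D6959) (iv D5391) D5390
def n8562 : Q := act 6 n6960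
theorem D8562 : act 6 n6960 = n8562 := rfl
theorem F27318 : act 0 n8562 = n6989 := d5_1 D8562 (iv D6989) (iv F22043)
theorem F27319 : act 2 n8562 = n8367 := d16_1 D8562 F26617 F22081
theorem F27320 : act 3 n8562 = n6961 := d20_1 D8562 (iv D6961) D6960
theorem F27321 : act 4 n8562 = n8366 := d23_1 D8562 F26613 (iv F22079)
def n8563 : Q := act 5 n6961
theorem D8563 : act 5 n6961 = n8563 := rfl
theorem F27322 : act 0 n8563 = n6990 := d4_1 D8563 (iv D6990) (iv F22046)
theorem F27323 : act 1 n8563 = n8505 := d10_1 D8563 F27095 (iv F25654) (iv F27316) F27313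
theorem F27324 : act 4 n8563 = n8563 := d22_1 D8563 (iv D8563) F22047
theorem F27325 : act 6 n8563 = n8563 := d25_2 D6961 D8563 (iv D8563) (iv D6961) F16866
theorem F27326 : act 7 n8563 = n6962 := d26_2 (iv F22048) D8563 (iv D6962)
def n8564 : Q := act 6 n6964
theorem D8564 : act 6 n6964 = n8564 := rfl
theorem F27327 : act 1 n8564 = n8564 := d11_1 D8564 (iv D8564) F22059
theorem F27328 : act 3 n8564 = n6973 := d20_1 D8564 (iv D6973) (iv F22060)
theorem F27329 : act 4 n8564 = n6965 := d23_1 D8564 (iv D6965) D6964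
theorem F27330 : act 7 n7380 = n8564 := d21_0 F27328 F22088 F18141 D5791 D7380
def n8565 : Q := act 5 n6965
theorem D8565 : act 5 n6965 = n8565 := rfl
theorem F27331 : act 2 n8565 = n8093 := d15_1 D8565 F27300 F27298
theorem F27332 : act 3 n8565 = n6967 := d19_1 D8565 (iv D6967) (iv F22063)
theorem F27333 : act 6 n8565 = n7489 := d25_2 D6965 D8565 (iv D7489) (iv D5894) (iv F16873)
def n8566 : Q := act 7 n6965
theorem D8566 : act 7 n6965 = n8566 := rfl
theorem F27334 : act 1 n8566 = n8566 := d12_1 D8566 (iv D8566) F22062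
theorem F27335 : act 4 n8566 = n7380 := d24_1 D8566 F27330 F27329
def n8567 : Q := act 6 n6966
theorem D8567 : act 6 n6966 = n8567 := rfl
theorem F27336 : act 1 n8567 = n8567 := d11_1 D8567 (iv D8567) F22064
def n8568 : Q := act 1 n6967
theorem D8568 : act 1 n6967 = n8568 := rfl
theorem F27337 : act 2 n8568 = n8568 := d7_2 (iv F22066) D8568 (iv D8568) F22066 F16877
theorem F27338 : act 4 n8568 = n6976 := d9_2 (iv F22067) D8568 (iv D6976)
theorem F27339 : act 5 n8568 = n8568 := d10_2 D6967 D8568 (iv D8568) (iv D6967) F16874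
theorem F27340 : act 6 n8568 = n7492 := d11_2 (iv F22068) D8568 (iv D7492)
def n8569 : Q := act 7 n6967
theorem D8569 : act 7 n6967 = n8569 := rfl
theorem F27341 : act 2 n8569 = n6969 := d17_1 D8569 (iv D6969) (iv F22066)
theorem F27342 : act 4 n8569 = n6977 := d24_1 D8569 (iv D6977) (iv F22067)
theorem F27343 : act 5 n8569 = n6968 := d26_1 D8569 (iv D6968) D6967
def n8570 : Q := act 3 n6968
theorem D8570 : act 3 n6968 = n8570 := rfl
theorem F27344 : act 0 n8570 = n8495 := d2_1 D8570 F27201 F27196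
theorem F27345 : act 1 n8570 = n8570 := d8_1 D8570 (iv D8570) F22069
theorem F27346 : act 6 n8570 = n8500 := d20_2 F26606 D8570 F27080
def n8571 : Q := act 3 n6969
theorem D8571 : act 3 n6969 = n8571 := rfl
theorem F27347 : act 1 n8571 = n8571 := d8_1 D8571 (iv D8571) F22072
theorem F27348 : act 5 n8571 = n6970 := d19_2 (iv F22074) D8571 (iv D6970)
theorem F27349 : act 7 n8571 = n8092 := d21_2 D6969 D8571 (iv D8092) F22025 F22020
def n8572 : Q := act 6 n6969
theorem D8572 : act 6 n6969 = n8572 := rfl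
theorem F27350 : act 1 n8572 = n8572 := d11_1 D8572 (iv D8572) F22072
theorem F27351 : act 4 n8572 = n6980 := d23_1 D8572 (iv D6980) (iv F22073)
theorem F27352 : act 7 n8572 = n7496 := d27_2 D6969 D8572 (iv D7496) (iv D5898) (iv F16879)
def n8573 : Q := act 2 n6970
theorem D8573 : act 2 n6970 = n8573 := rfl
def n8574 : Q := act 4 n6970
theorem D8574 : act 4 n6970 = n8574 := rfl
theorem F27353 : act 1 n8574 = n6972 := d9_1 D8574 (iv D6972) (iv F22075)
theorem F27354 : act 3 n8574 = n6982 := d18_1 D8574 (iv D6982) (iv D5406) (iv F16881) D6970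
def n8575 : Q := act 1 n6971
theorem D8575 : act 1 n6971 = n8575 := rfl
theorem F27355 : act 3 n8575 = n8575 := d8_2 F22077 D8575 (iv D8575)
theorem F27356 : act 4 n8575 = n8560 := d9_2 F22079 D8575 F27309
theorem F27357 : act 7 n8575 = n8574 := d12_2 F22084 D8575 F27353
def n8576 : Q := act 7 n6974
theorem D8576 : act 7 n6974 = n8576 := rfl
theorem F27358 : act 2 n8576 = n8576 := d17_1 D8576 (iv D8576) F22089
theorem F27359 : act 4 n8576 = n7377 := d24_1 D8576 F25587 F25585
theorem F27360 : act 5 n8576 = n6975 := d26_1 D8576 (iv D6975) D6974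
def n8577 : Q := act 3 n6975
theorem D8577 : act 3 n6975 = n8577 := rfl
theorem F27361 : act 1 n8577 = n8577 := d8_1 D8577 (iv D8577) F22092
theorem F27362 : act 4 n8577 = n7369 := d18_2 (iv F22094) D8577 F23351 F18129 (iv F18141)
theorem F27363 : act 6 n8577 = n7368 := d20_2 (iv F22095) D8577 F23348
theorem F27364 : act 7 n8577 = n6978 := d21_2 D6975 D8577 (iv D6978) (iv D5404) (iv F16889)
def n8578 : Q := act 0 n6976
theorem D8578 : act 0 n6976 = n8578 := rfl
theorem F27365 : act 2 n8578 = n8578 := d1_2 F22096 D8578 (iv D8578)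
theorem F27366 : act 5 n8578 = n8578 := d4_2 F22097 D8578 (iv D8578)
theorem F27367 : act 6 n8578 = n7505 := d5_2 (iv F22098) D8578 (iv D7505)
def n8579 : Q := act 7 n6976
theorem D8579 : act 7 n6976 = n8579 := rfl
theorem F27368 : act 1 n8579 = n6977 := d12_1 D8579 (iv D6977) D6976
theorem F27369 : act 2 n8579 = n8579 := d17_1 D8579 (iv D8579) F22096
theorem F27370 : act 5 n8579 = n8579 := d26_1 D8579 (iv D8579) F22097
def n8580 : Q := act 3 n6977
theorem D8580 : act 3 n6977 = n8580 := rfl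
theorem F27371 : act 5 n8580 = n6978 := d19_2 (iv F22100) D8580 (iv D6978)
def n8581 : Q := act 6 n6977
theorem D8581 : act 6 n6977 = n8581 := rfl
theorem F27372 : act 2 n8581 = n6980 := d16_1 D8581 (iv D6980) (iv F22099)
theorem F27373 : act 7 n8581 = n7508 := d27_2 D6977 D8581 (iv D7508) (iv D5908) (iv F16896)
def n8582 : Q := act 2 n6978
theorem D8582 : act 2 n6978 = n8582 := rfl
theorem F27374 : act 3 n8582 = n6981 := d13_2 D6978 D8582 (iv D6981) (iv D5406) (iv F16898)
def n8583 : Q := act 4 n6978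
theorem D8583 : act 4 n6978 = n8583 := rfl
theorem F27375 : act 1 n8583 = n8583 := d9_1 D8583 (iv D8583) F22101
theorem F27376 : act 7 n8583 = n7369 := d24_2 F27364 D8583 (iv F27362)
def n8584 : Q := act 6 n6979
theorem D8584 : act 6 n6979 = n8584 := rfl
theorem F27377 : act 1 n8584 = n8584 := d11_1 D8584 (iv D8584) F22102
theorem F27378 : act 2 n8584 = n8128 := d16_1 D8584 (iv F27246) F27244
theorem F27379 : act 3 n8584 = n6980 := d20_1 D8584 (iv D6980) D6979
theorem F27380 : act 4 n8584 = n8129 := d23_1 D8584 (iv F27239) (iv F27241)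
def n8585 : Q := act 1 n6981
theorem D8585 : act 1 n6981 = n8585 := rfl
theorem F27381 : act 0 n8585 = n8585 := d0_1 D8585 (iv D8585) (iv F27236) F27237 F27236
theorem F27382 : act 2 n8585 = n6983 := d7_2 D6981 D8585 (iv D6983) (iv D5407) (iv F16901)
theorem F27383 : act 4 n8585 = n8100 := d9_2 F27232 D8585 (iv F27228)
theorem F27384 : act 5 n8585 = n8099 := d10_2 F27245 D8585 F25701 (iv F21957) (iv F27243)
theorem F27385 : act 7 n8585 = n8585 := d12_2 F22107 D8585 (iv D8585)
def n8586 : Q := act 0 n6988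
theorem D8586 : act 0 n6988 = n8586 := rfl
theorem F27386 : act 2 n8586 = n8586 := d1_2 F22131 D8586 (iv D8586)
theorem F27387 : act 4 n8586 = n8586 := d3_2 F22132 D8586 (iv D8586)
theorem F27388 : act 5 n8586 = n6991 := d4_2 (iv F22133) D8586 (iv D6991)
theorem F27389 : act 7 n8586 = n8586 := d6_2 F22134 D8586 (iv D8586)
def n8587 : Q := act 7 n6992
theorem D8587 : act 7 n6992 = n8587 := rfl
theorem F27390 : act 0 n8587 = n7163 := d6_1 D8587 (iv D7163) (iv F22148)
theorem F27391 : act 1 n8587 = n7646 := d12_1 D8587 F24220 (iv F22149)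
theorem F27392 : act 2 n8587 = n7001 := d17_1 D8587 (iv D7001) (iv F22150)
theorem F27393 : act 4 n8587 = n6995 := d24_1 D8587 (iv D6995) (iv F22152)
theorem F27394 : act 6 n8587 = n7286 := d27_1 D8587 (iv D7286) (iv D5707) (iv F16979) D6992
def n8588 : Q := act 6 n6993
theorem D8588 : act 6 n6993 = n8588 := rfl
theorem F27395 : act 0 n8588 = n6994 := d5_1 D8588 (iv D6994) D6993
theorem F27396 : act 1 n8588 = n7166 := d11_1 D8588 (iv D7166) (iv F22153)
theorem F27397 : act 2 n8588 = n8588 := d16_1 D8588 (iv D8588) F22154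
theorem F27398 : act 4 n8588 = n7632 := d23_1 D8588 (iv D7632) (iv F22155)
def n8589 : Q := act 5 n6994
theorem D8589 : act 5 n6994 = n8589 := rfl
theorem F27399 : act 1 n8589 = n7845 := d10_1 D8589 (iv D7845) F19415 F17940 (iv F22158)
theorem F27400 : act 2 n8589 = n8589 := d15_1 D8589 (iv D8589) F22159
theorem F27401 : act 4 n8589 = n7647 := d22_1 D8589 (iv D7647) (iv F22160)
theorem F27402 : act 6 n8589 = n8589 := d25_2 D6994 D8589 (iv D8589) (iv D6994) F16983
def n8590 : Q := act 7 n6994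
theorem D8590 : act 7 n6994 = n8590 := rfl
theorem F27403 : act 1 n8590 = n6995 := d12_1 D8590 (iv D6995) (iv F22158)
theorem F27404 : act 2 n8590 = n8590 := d17_1 D8590 (iv D8590) F22159
theorem F27405 : act 4 n8590 = n7646 := d24_1 D8590 F24220 (iv F22160)
theorem F27406 : act 6 n8590 = n7642 := d27_1 D8590 (iv D7642) (iv D6027) F16984 D6994
def n8591 : Q := act 3 n6995
theorem D8591 : act 3 n6995 = n8591 := rfl
theorem F27407 : act 0 n8591 = n7169 := d2_1 D8591 (iv D7169) (iv F22161)
theorem F27408 : act 2 n8591 = n8207 := d13_1 D8591 (iv D8207) F20741 (iv F17012) (iv F22162)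
def n8592 : Q := act 6 n6995
theorem D8592 : act 6 n6995 = n8592 := rfl
theorem F27409 : act 0 n8592 = n7170 := d5_1 D8592 (iv D7170) (iv F22161)
theorem F27410 : act 1 n8592 = n7642 := d11_1 D8592 (iv F27406) F27403
theorem F27411 : act 2 n8592 = n7004 := d16_1 D8592 (iv D7004) (iv F22162)
theorem F27412 : act 4 n8592 = n7286 := d23_1 D8592 (iv F27394) F27393
theorem F27413 : act 7 n8592 = n6997 := d27_2 D6995 D8592 (iv D6997) (iv D5428) D5427
def n8593 : Q := act 6 n6996
theorem D8593 : act 6 n6996 = n8593 := rfl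
theorem F27414 : act 0 n8593 = n7172 := d5_1 D8593 (iv D7172) (iv F22163)
theorem F27415 : act 1 n8593 = n7634 := d11_1 D8593 (iv D7634) (iv F22164)
theorem F27416 : act 2 n8593 = n8180 := d16_1 D8593 F25995 F25877
theorem F27417 : act 3 n8593 = n6997 := d20_1 D8593 (iv D6997) D6996
theorem F27418 : act 4 n8593 = n7279 := d23_1 D8593 (iv D7279) (iv F22165)
def n8594 : Q := act 5 n6997
theorem D8594 : act 5 n6997 = n8594 := rfl
theorem F27419 : act 0 n8594 = n7173 := d4_1 D8594 (iv D7173) (iv F22167)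
theorem F27420 : act 2 n8594 = n7007 := d15_1 D8594 (iv D7007) (iv F22169)
theorem F27421 : act 4 n8594 = n7285 := d22_1 D8594 (iv D7285) (iv F22170)
theorem F27422 : act 6 n8594 = n7000 := d25_2 D6997 D8594 (iv D7000) (iv D5430) (iv F16991)
def n8595 : Q := act 6 n6998
theorem D8595 : act 6 n6998 = n8595 := rfl
theorem F27423 : act 0 n8595 = n7175 := d5_1 D8595 (iv D7175) (iv F22171)
theorem F27424 : act 2 n8595 = n6999 := d16_1 D8595 (iv D6999) D6998
theorem F27425 : act 3 n8595 = n7008 := d20_1 D8595 (iv D7008) (iv F22172)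
def n8596 : Q := act 5 n6999
theorem D8596 : act 5 n6999 = n8596 := rfl
theorem F27426 : act 0 n8596 = n7177 := d4_1 D8596 (iv D7177) (iv F22173)
theorem F27427 : act 3 n8596 = n7000 := d19_1 D8596 (iv D7000) (iv F22175)
def n8597 : Q := act 7 n6999
theorem D8597 : act 7 n6999 = n8597 := rfl
theorem F27428 : act 0 n8597 = n7178 := d6_1 D8597 (iv D7178) (iv F22173)
theorem F27429 : act 1 n8597 = n8597 := d12_1 D8597 (iv D8597) F22174
theorem F27430 : act 3 n8597 = n7764 := d21_1 D8597 (iv D7764) F19239 F17944 (iv F22175)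
def n8598 : Q := act 1 n7000
theorem D8598 : act 1 n7000 = n8598 := rfl
theorem F27431 : act 5 n8598 = n8598 := d10_2 D7000 D8598 (iv D8598) (iv D7000) F16995
def n8599 : Q := act 3 n7001
theorem D8599 : act 3 n7001 = n8599 := rfl
theorem F27432 : act 0 n8599 = n7180 := d2_1 D8599 (iv D7180) (iv F22178)
theorem F27433 : act 1 n8599 = n8599 := d8_1 D8599 (iv D8599) F22179
theorem F27434 : act 4 n8599 = n8218 := d18_2 (iv F22180) D8599 (iv D8218) F20757 (iv F17012)
theorem F27435 : act 7 n8599 = n8599 := d21_2 D7001 D8599 (iv D8599) (iv D7001) F16999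
def n8600 : Q := act 6 n7001
theorem D8600 : act 6 n7001 = n8600 := rfl
theorem F27436 : act 0 n8600 = n7181 := d5_1 D8600 (iv D7181) (iv F22178)
theorem F27437 : act 1 n8600 = n8600 := d11_1 D8600 (iv D8600) F22179
theorem F27438 : act 2 n8600 = n7286 := d16_1 D8600 (iv F27394) F27392
theorem F27439 : act 4 n8600 = n7004 := d23_1 D8600 (iv D7004) (iv F22180)
theorem F27440 : act 7 n8600 = n7002 := d27_2 D7001 D8600 (iv D7002) (iv D5432) D5431
def n8601 : Q := act 5 n7002
theorem D8601 : act 5 n7002 = n8601 := rfl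
theorem F27441 : act 0 n8601 = n7182 := d4_1 D8601 (iv D7182) (iv F22181)
theorem F27442 : act 2 n8601 = n7285 := d15_1 D8601 (iv D7285) (iv F22183)
theorem F27443 : act 3 n8601 = n7057 := d19_1 D8601 (iv D7057) (iv F22184)
theorem F27444 : act 4 n8601 = n7007 := d22_1 D8601 (iv D7007) (iv F22185)
theorem F27445 : act 6 n8601 = n7003 := d25_2 D7002 D8601 (iv D7003) (iv D5433) (iv F17005)
def n8602 : Q := act 1 n7003
theorem D8602 : act 1 n7003 = n8602 := rfl
theorem F27446 : act 4 n8602 = n7011 := d9_2 (iv F22187) D8602 (iv D7011)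
theorem F27447 : act 5 n8602 = n7020 := d10_2 D7003 D8602 (iv D7020) (iv D5447) (iv F17008)
def n8603 : Q := act 5 n7004
theorem D8603 : act 5 n7004 = n8603 := rfl
theorem F27448 : act 0 n8603 = n7189 := d4_1 D8603 (iv D7189) (iv F22188)
theorem F27449 : act 3 n8603 = n8230 := d19_1 D8603 (iv D8230) (iv F22190)
theorem F27450 : act 7 n8603 = n7007 := d26_2 (iv F22191) D8603 (iv D7007)
def n8604 : Q := act 6 n7005
theorem D8604 : act 6 n7005 = n8604 := rfl
theorem F27451 : act 0 n8604 = n7190 := d5_1 D8604 (iv D7190) (iv F22192)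
theorem F27452 : act 1 n8604 = n8178 := d11_1 D8604 F25987 F24974
theorem F27453 : act 2 n8604 = n7006 := d16_1 D8604 (iv D7006) D7005
theorem F27454 : act 3 n8604 = n8180 := d20_1 D8604 F25995 F25878
theorem F27455 : act 7 n8604 = n8232 := d27_2 (iv F22194) D8604 (iv D8232) F20778 (iv F17027)
def n8605 : Q := act 5 n7006
theorem D8605 : act 5 n7006 = n8605 := rfl
theorem F27456 : act 0 n8605 = n7192 := d4_1 D8605 (iv D7192) (iv F22195)
theorem F27457 : act 3 n8605 = n7007 := d19_1 D8605 (iv D7007) (iv F22197)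
theorem F27458 : act 6 n8605 = n7009 := d25_2 D7006 D8605 (iv D7009) (iv D5438) (iv F17015)
theorem F27459 : act 7 n8605 = n8234 := d26_2 (iv F22198) D8605 (iv D8234)
def n8606 : Q := act 1 n7007
theorem D8606 : act 1 n7007 = n8606 := rfl
theorem F27460 : act 5 n8606 = n8606 := d10_2 D7007 D8606 (iv D8606) (iv D7007) F17018
theorem F27461 : act 6 n8606 = n7011 := d11_2 (iv F22200) D8606 (iv D7011)
def n8607 : Q := act 5 n7008
theorem D8607 : act 5 n7008 = n8607 := rfl
theorem F27462 : act 0 n8607 = n7197 := d4_1 D8607 (iv D7197) (iv F22201)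
theorem F27463 : act 2 n8607 = n7009 := d15_1 D8607 (iv D7009) (iv F22202)
def n8608 : Q := act 7 n7008
theorem D8608 : act 7 n7008 = n8608 := rfl
theorem F27464 : act 0 n8608 = n7198 := d6_1 D8608 (iv D7198) (iv F22201)
theorem F27465 : act 2 n8608 = n7010 := d17_1 D8608 (iv D7010) (iv F22202)
theorem F27466 : act 6 n8608 = n7018 := d27_1 D8608 (iv D7018) (iv D5444) (iv F17020) D7008
def n8609 : Q := act 7 n7009
theorem D8609 : act 7 n7009 = n8609 := rfl
theorem F27467 : act 0 n8609 = n7202 := d6_1 D8609 (iv D7202) (iv F22203)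
theorem F27468 : act 1 n8609 = n7290 := d12_1 D8609 (iv F25231) F25229
theorem F27469 : act 5 n8609 = n7010 := d26_1 D8609 (iv D7010) D7009
theorem F27470 : act 6 n8609 = n8244 := d27_1 D8609 (iv D8244) (iv F26177) (iv F27459) F27458
def n8610 : Q := act 2 n7011
theorem D8610 : act 2 n7011 = n8610 := rfl
theorem F27471 : act 5 n8610 = n7021 := d15_2 (iv F22208) D8610 (iv D7021)
def n8611 : Q := act 6 n7014
theorem D8611 : act 6 n7014 = n8611 := rfl
theorem F27472 : act 0 n8611 = n7673 := d5_1 D8611 (iv D7673) (iv F22221)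
theorem F27473 : act 1 n8611 = n7911 := d11_1 D8611 (iv D7911) (iv F22222)
theorem F27474 : act 2 n8611 = n7022 := d16_1 D8611 (iv D7022) (iv F22223)
theorem F27475 : act 3 n8611 = n7692 := d20_1 D8611 (iv D7692) (iv F22224)
theorem F27476 : act 4 n8611 = n8604 := d23_1 D8611 (iv D8604) (iv F22225)
def n8612 : Q := act 5 n7015
theorem D8612 : act 5 n7015 = n8612 := rfl
theorem F27477 : act 1 n8612 = n8251 := d10_1 D8612 (iv D8251) F20825 (iv F17041) (iv F22227)
theorem F27478 : act 2 n8612 = n7023 := d15_1 D8612 (iv D7023) (iv F22228)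
theorem F27479 : act 4 n8612 = n8607 := d22_1 D8612 (iv D8607) (iv F22229)
def n8613 : Q := act 7 n7015
theorem D8613 : act 7 n7015 = n8613 := rfl
theorem F27480 : act 1 n8613 = n7018 := d12_1 D8613 (iv D7018) (iv F22227)
theorem F27481 : act 2 n8613 = n7024 := d17_1 D8613 (iv D7024) (iv F22228)
theorem F27482 : act 4 n8613 = n8608 := d24_1 D8613 (iv D8608) (iv F22229)
def n8614 : Q := act 6 n7016
theorem D8614 : act 6 n7016 = n8614 := rfl
theorem F27483 : act 0 n8614 = n7214 := d5_1 D8614 (iv D7214) (iv F22230)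
theorem F27484 : act 1 n8614 = n8595 := d11_1 D8614 (iv D8595) (iv F22231)
theorem F27485 : act 2 n8614 = n8614 := d16_1 D8614 (iv D8614) F22232
theorem F27486 : act 3 n8614 = n7017 := d20_1 D8614 (iv D7017) D7016
theorem F27487 : act 5 n8614 = n8253 := d25_1 D8614 (iv D8253) F20831 (iv F20477) (iv F22233)
def n8615 : Q := act 7 n7017
theorem D8615 : act 7 n7017 = n8615 := rfl
theorem F27488 : act 0 n8615 = n7216 := d6_1 D8615 (iv D7216) (iv F22235)
theorem F27489 : act 1 n8615 = n8608 := d12_1 D8615 (iv D8608) (iv F22236)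
theorem F27490 : act 2 n8615 = n7019 := d17_1 D8615 (iv D7019) (iv F22237)
theorem F27491 : act 4 n8615 = n7018 := d24_1 D8615 (iv D7018) (iv F22238)
theorem F27492 : act 5 n8615 = n8254 := d26_1 D8615 (iv D8254) (iv F22239)
theorem F27493 : act 6 n8615 = n8613 := d27_1 D8615 (iv D8613) (iv D7015) (iv F17038) D7017
def n8616 : Q := act 3 n7018
theorem D8616 : act 3 n7018 = n8616 := rfl
theorem F27494 : act 0 n8616 = n7218 := d2_1 D8616 (iv D7218) (iv F22240)
theorem F27495 : act 5 n8616 = n8255 := d19_2 (iv F22242) D8616 (iv D8255)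
theorem F27496 : act 7 n8616 = n8353 := d21_2 D7018 D8616 (iv D8353) F21188 F17666
def n8617 : Q := act 3 n7019
theorem D8617 : act 3 n7019 = n8617 := rfl
theorem F27497 : act 0 n8617 = n7219 := d2_1 D8617 (iv D7219) (iv F22243)
theorem F27498 : act 1 n8617 = n7027 := d8_1 D8617 (iv D7027) (iv F22244)
theorem F27499 : act 5 n8617 = n7699 := d19_2 (iv F22246) D8617 F24388
theorem F27500 : act 7 n8617 = n8617 := d21_2 D7019 D8617 (iv D8617) (iv D7019) F17044
def n8618 : Q := act 2 n7020
theorem D8618 : act 2 n7020 = n8618 := rfl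
theorem F27501 : act 1 n8618 = n8618 := d7_1 D8618 (iv D8618) (iv D7020) F17051 D7020
theorem F27502 : act 4 n8618 = n7021 := d14_2 (iv F22247) D8618 (iv D7021)
theorem F27503 : act 6 n8618 = n8618 := d16_2 F22248 D8618 (iv D8618)
def n8619 : Q := act 3 n7021
theorem D8619 : act 3 n7021 = n8619 := rfl
theorem F27504 : act 1 n8619 = n8619 := d8_1 D8619 (iv D8619) F22249
theorem F27505 : act 2 n8619 = n8228 := d13_1 D8619 F26158 F24337 F19831 D7021
theorem F27506 : act 6 n8619 = n8619 := d20_2 F22250 D8619 (iv D8619)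
theorem F27507 : act 7 n8225 = n8619 := d17_0 F27505 (iv D8228) (iv F26151)
def n8620 : Q := act 5 n7022
theorem D8620 : act 5 n7022 = n8620 := rfl
theorem F27508 : act 3 n8620 = n7032 := d19_1 D8620 (iv D7032) (iv F22252)
theorem F27509 : act 4 n8620 = n8605 := d22_1 D8620 (iv D8605) (iv F22253)
theorem F27510 : act 6 n8620 = n7023 := d25_2 D7022 D8620 (iv D7023) (iv D5451) D5450
def n8621 : Q := act 1 n7023
theorem D8621 : act 1 n7023 = n8621 := rfl
theorem F27511 : act 2 n8621 = n8276 := d7_2 F27478 D8621 (iv D8276) (iv F26219) (iv F27477)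
theorem F27512 : act 3 n8621 = n7034 := d8_2 (iv F22254) D8621 (iv D7034)
theorem F27513 : act 4 n8621 = n7981 := d9_2 (iv F22255) D8621 F25229
theorem F27514 : act 5 n8621 = n7025 := d10_2 D7023 D8621 (iv D7025) (iv D5452) (iv F17062)
theorem F27515 : act 0 n7275 = n8621 := d4_3 F27514 F22259 (iv F23013)
theorem F27516 : act 7 n7272 = n8621 := d26_0 F27514 F22264 D7272
def n8622 : Q := act 7 n7023
theorem D8622 : act 7 n7023 = n8622 := rfl
theorem F27517 : act 1 n8622 = n7272 := d12_1 D8622 F27516 (iv D8621)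
theorem F27518 : act 4 n8622 = n8609 := d24_1 D8622 (iv D8609) (iv F22255)
theorem F27519 : act 5 n8622 = n7024 := d26_1 D8622 (iv D7024) D7023
def n8623 : Q := act 3 n7024
theorem D8623 : act 3 n7024 = n8623 := rfl
theorem F27520 : act 0 n8623 = n7112 := d2_1 D8623 (iv F22801) F22799
theorem F27521 : act 1 n8623 = n7026 := d8_1 D8623 (iv D7026) (iv F22256)
theorem F27522 : act 6 n8623 = n8617 := d20_2 (iv F22258) D8623 (iv D8617)
theorem F27523 : act 7 n8623 = n7036 := d21_2 D7024 D8623 (iv D7036) (iv D5460) (iv F17063)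
theorem F27524 : act 4 n7719 = n8623 := d9_0 F27521 (iv F22268) (iv F24437)
def n8624 : Q := act 5 n7028
theorem D8624 : act 5 n7028 = n8624 := rfl
theorem F27525 : act 0 n8624 = n7032 := d4_1 D8624 (iv D7032) (iv F22274)
theorem F27526 : act 2 n8624 = n7588 := d15_1 D8624 (iv D7588) (iv F22276)
theorem F27527 : act 6 n8624 = n7029 := d25_2 D7028 D8624 (iv D7029) (iv D5456) D5455
def n8625 : Q := act 7 n7028
theorem D8625 : act 7 n7028 = n8625 := rfl
theorem F27528 : act 0 n8625 = n7033 := d6_1 D8625 (iv D7033) (iv F22274)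
theorem F27529 : act 1 n8625 = n7555 := d12_1 D8625 (iv D7555) (iv F22275)
theorem F27530 : act 2 n8625 = n7589 := d17_1 D8625 (iv D7589) (iv F22276)
theorem F27531 : act 4 n8625 = n7996 := d24_1 D8625 F25290 F22337
theorem F27532 : act 6 n8625 = n8625 := d27_1 D8625 (iv D8625) (iv D7028) F17083 D7028
def n8626 : Q := act 1 n7029
theorem D8626 : act 1 n7029 = n8626 := rfl
theorem F27533 : act 5 n8626 = n7045 := d10_2 D7029 D8626 (iv D7045) (iv D5470) (iv F17085)
theorem F27534 : act 7 n7092 = n8626 := d26_0 F27533 F22316 D7092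
def n8627 : Q := act 7 n7029
theorem D8627 : act 7 n7029 = n8627 := rfl
theorem F27535 : act 0 n8627 = n7035 := d6_1 D8627 (iv D7035) (iv F22277)
theorem F27536 : act 1 n8627 = n7092 := d12_1 D8627 F27534 (iv D8626)
theorem F27537 : act 5 n8627 = n7030 := d26_1 D8627 (iv D7030) D7029
theorem F27538 : act 3 n7106 = n8627 := d19_3 F27537 (iv F22281) (iv F22500)
def n8628 : Q := act 1 n7031
theorem D8628 : act 1 n7031 = n8628 := rfl
theorem F27539 : act 3 n8628 = n8602 := d8_2 (iv F22283) D8628 (iv D8602)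
theorem F27540 : act 4 n8628 = n7034 := d9_2 (iv F22284) D8628 (iv D7034)
theorem F27541 : act 5 n8628 = n7037 := d10_2 D7031 D8628 (iv D7037) (iv D5461) (iv F17086)
def n8629 : Q := act 1 n7032
theorem D8629 : act 1 n7032 = n8629 := rfl
theorem F27542 : act 5 n8629 = n8629 := d10_2 D7032 D8629 (iv D8629) (iv D7032) F17090

end Cfsg.Agent.Helper17.U6PTC
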