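import Cfsg.Agent.Helper17.U6PTC.Facts3

set_option autoImplicit false
set_option linter.all false

noncomputable section

namespace Cfsg.Agent.Helper17.U6PTC

theorem F27543 : act 6 n8629 = n7034 := d11_2 (iv F22285) D8629 (iv D7034)
def n8630 : Q := act 7 n7032
theorem D8630 : act 7 n7032 = n8630 := rfl
theorem F27544 : act 5 n8630 = n7033 := d26_1 D8630 (iv D7033) D7032
def n8631 : Q := act 3 n7033
theorem D8631 : act 3 n7033 = n8631 := rfl
theorem F27545 : act 1 n8631 = n8631 := d8_1 D8631 (iv D8631) F22286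
theorem F27546 : act 6 n8631 = n8631 := d20_2 F22287 D8631 (iv D8631)
def n8632 : Q := act 0 n7034
theorem D8632 : act 0 n7034 = n8632 := rfl
theorem F27547 : act 3 n8632 = n7275 := d2_2 F27512 D8632 F27515
theorem F27548 : act 5 n8632 = n7038 := d4_2 (iv F22288) D8632 (iv D7038)
def n8633 : Q := act 2 n7034
theorem D8633 : act 2 n7034 = n8633 := rfl
theorem F27549 : act 3 n8633 = n8300 := d13_2 F27512 D8633 (iv D8300) (iv F26290) (iv F27511)
theorem F27550 : act 5 n8633 = n7039 := d15_2 (iv F22288) D8633 (iv D7039)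
def n8634 : Q := act 7 n7034
theorem D8634 : act 7 n7034 = n8634 := rfl
theorem F27551 : act 1 n8634 = n7035 := d12_1 D8634 (iv D7035) D7034
theorem F27552 : act 5 n8634 = n7040 := d26_1 D8634 (iv D7040) (iv F22288)
def n8635 : Q := act 3 n7035
theorem D8635 : act 3 n7035 = n8635 := rfl
theorem F27553 : act 0 n8635 = n7106 := d2_1 D8635 F27538 F27535
theorem F27554 : act 5 n8635 = n7036 := d19_2 (iv F22289) D8635 (iv D7036)
def n8636 : Q := act 6 n7035
theorem D8636 : act 6 n7035 = n8636 := rfl
theorem F27555 : act 5 n8636 = n8636 := d25_1 D8636 (iv D8636) F22289 F17092 (iv F22289)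
def n8637 : Q := act 2 n7036
theorem D8637 : act 2 n7036 = n8637 := rfl
theorem F27556 : act 0 n8637 = n7111 := d1_1 D8637 (iv D7111) (iv F22290)
theorem F27557 : act 6 n8637 = n8637 := d16_2 F22292 D8637 (iv D8637)
def n8638 : Q := act 4 n7036
theorem D8638 : act 4 n7036 = n8638 := rfl
theorem F27558 : act 0 n8638 = n7110 := d3_1 D8638 F22515 (iv F22290)
theorem F27559 : act 1 n8638 = n7042 := d9_1 D8638 (iv D7042) (iv F22291)
theorem F27560 : act 6 n8638 = n8638 := d23_2 F22292 D8638 (iv D8638)
theorem F27561 : act 7 n8638 = n7719 := d24_2 F27523 D8638 F27524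
def n8639 : Q := act 0 n7037
theorem D8639 : act 0 n7037 = n8639 := rfl
theorem F27562 : act 1 n8639 = n7046 := d0_2 D7037 D8639 (iv D7046) (iv D5472) (iv F17093)
theorem F27563 : act 3 n8639 = n7983 := d2_2 (iv F22293) D8639 F25235
theorem F27564 : act 4 n8639 = n7038 := d3_2 (iv F22294) D8639 (iv D7038)
theorem F27565 : act 6 n8639 = n8639 := d5_2 F22295 D8639 (iv D8639)
def n8640 : Q := act 2 n7037
theorem D8640 : act 2 n7037 = n8640 := rfl
theorem F27566 : act 1 n8640 = n7043 := d7_1 D8640 (iv D7043) (iv D5465) (iv F17094) D7037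
theorem F27567 : act 4 n8640 = n7039 := d14_2 (iv F22294) D8640 (iv D7039)
theorem F27568 : act 6 n8640 = n8640 := d16_2 F22295 D8640 (iv D8640)
def n8641 : Q := act 2 n7038
theorem D8641 : act 2 n7038 = n8641 := rfl
theorem F27569 : act 0 n8641 = n7039 := d1_1 D8641 (iv D7039) D7038
theorem F27570 : act 1 n8641 = n8637 := d7_1 D8641 (iv D8637) F22291 (iv F17133) (iv F22296)
theorem F27571 : act 3 n8641 = n8307 := d13_2 (iv F22297) D8641 (iv D8307) F21211 F21208
theorem F27572 : act 6 n8641 = n8641 := d16_2 F22298 D8641 (iv D8641)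
def n8642 : Q := act 7 n7038
theorem D8642 : act 7 n7038 = n8642 := rfl
theorem F27573 : act 0 n8642 = n7040 := d6_1 D8642 (iv D7040) D7038
theorem F27574 : act 1 n8642 = n7047 := d12_1 D8642 (iv D7047) (iv F22296)
theorem F27575 : act 3 n8642 = n7128 := d21_1 D8642 F22583 (iv D5695) D5697 (iv F22297)
theorem F27576 : act 6 n7875 = n8642 := d20_0 F27575 (iv F24428) (iv F24875)
def n8643 : Q := act 7 n7039
theorem D8643 : act 7 n7039 = n8643 := rfl
theorem F27577 : act 1 n8643 = n7044 := d12_1 D8643 (iv D7044) (iv F22299)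
theorem F27578 : act 2 n8643 = n7040 := d17_1 D8643 (iv D7040) D7039
theorem F27579 : act 6 n7873 = n8643 := d16_0 F27578 (iv F22303) (iv F24867)
def n8644 : Q := act 4 n7041
theorem D8644 : act 4 n7041 = n8644 := rfl
theorem F27580 : act 0 n8644 = n7048 := d3_1 D8644 (iv D7048) (iv F22304)
theorem F27581 : act 1 n8644 = n8521 := d9_1 D8644 F27135 F24406
theorem F27582 : act 2 n8644 = n7266 := d14_1 D8644 F22988 (iv F22305)
theorem F27583 : act 5 n8644 = n7042 := d22_2 (iv F22306) D8644 (iv D7042)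
theorem F27584 : act 6 n8644 = n7498 := d23_2 (iv F22307) D8644 (iv D7498)
theorem F27585 : act 7 n8644 = n7135 := d24_2 (iv F22308) D8644 F22614
def n8645 : Q := act 3 n7043
theorem D8645 : act 3 n7043 = n8645 := rfl
theorem F27586 : act 0 n8645 = n7641 := d2_1 D8645 F24209 F22522
theorem F27587 : act 2 n8645 = n8645 := d13_1 D8645 (iv D8645) (iv D7043) F17105 D7043
theorem F27588 : act 4 n8645 = n7630 := d18_2 (iv F22312) D8645 F24170 F18894 (iv F17108)
theorem F27589 : act 5 n8645 = n7629 := d19_2 F22974 D8645 F24166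
theorem F27590 : act 6 n8645 = n8645 := d20_2 F22313 D8645 (iv D8645)
def n8646 : Q := act 3 n7044
theorem D8646 : act 3 n7044 = n8646 := rfl
theorem F27591 : act 2 n8646 = n7639 := d13_1 D8646 (iv D7639) F18914 (iv F17111) (iv F22314)
theorem F27592 : act 6 n8646 = n7868 := d20_2 F22315 D8646 F24853
theorem F27593 : act 7 n8646 = n8312 := d21_2 D7044 D8646 (iv D8312) (iv D6684) (iv F17108)
def n8647 : Q := act 2 n7045
theorem D8647 : act 2 n7045 = n8647 := rfl
theorem F27594 : act 0 n8647 = n7430 := d1_1 D8647 F23540 F23041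
theorem F27595 : act 1 n8647 = n7053 := d7_1 D8647 (iv D7053) (iv D5481) (iv F17123) D7045
theorem F27596 : act 6 n8647 = n7434 := d16_2 F23655 D8647 F23657
theorem F27597 : act 7 n8647 = n7084 := d17_2 (iv F22316) D8647 F22430
def n8648 : Q := act 5 n7050
theorem D8648 : act 5 n7050 = n8648 := rfl
theorem F27598 : act 0 n8648 = n7057 := d4_1 D8648 (iv D7057) (iv F22333)
theorem F27599 : act 2 n8648 = n7051 := d15_1 D8648 (iv D7051) (iv F22335)
theorem F27600 : act 3 n8648 = n7182 := d19_1 D8648 (iv D7182) (iv F22336)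
theorem F27601 : act 4 n8648 = n8624 := d22_1 D8648 (iv D8624) (iv F22337)
theorem F27602 : act 6 n8648 = n7183 := d25_2 D7050 D8648 (iv D7183) (iv D5608) (iv F17156)
def n8649 : Q := act 1 n7051
theorem D8649 : act 1 n7051 = n8649 := rfl
theorem F27603 : act 3 n8649 = n7202 := d8_2 (iv F22339) D8649 F22808
theorem F27604 : act 5 n8649 = n7052 := d10_2 D7051 D8649 (iv D7052) (iv D5480) (iv F17160)
theorem F27605 : act 7 n8649 = n7083 := d12_2 F25301 D8649 (iv F25299)
def n8650 : Q := act 2 n7052
theorem D8650 : act 2 n7052 = n8650 := rfl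
theorem F27606 : act 0 n8650 = n7745 := d1_1 D8650 F24490 F22651
theorem F27607 : act 1 n8650 = n7434 := d7_1 D8650 F23657 F23653 F18397 D7052
theorem F27608 : act 6 n8650 = n7053 := d16_2 (iv F22341) D8650 (iv D7053)
theorem F27609 : act 7 n8650 = n7081 := d17_2 (iv F22342) D8650 F22423
def n8651 : Q := act 3 n7053
theorem D8651 : act 3 n7053 = n8651 := rfl
theorem F27610 : act 2 n8651 = n7218 := d13_1 D8651 (iv D7218) F17668 (iv F17166) D7053
def n8652 : Q := act 7 n7054
theorem D8652 : act 7 n7054 = n8652 := rfl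
theorem F27611 : act 2 n8652 = n8630 := d17_1 D8652 (iv D8630) (iv F22344)
theorem F27612 : act 4 n8652 = n7059 := d24_1 D8652 (iv D7059) (iv F22345)
theorem F27613 : act 5 n8652 = n7055 := d26_1 D8652 (iv D7055) D7054
def n8653 : Q := act 3 n7055
theorem D8653 : act 3 n7055 = n8653 := rfl
theorem F27614 : act 1 n8653 = n7056 := d8_1 D8653 (iv D7056) (iv F22347)
theorem F27615 : act 6 n8653 = n8653 := d20_2 F22350 D8653 (iv D8653)
def n8654 : Q := act 2 n7056
theorem D8654 : act 2 n7056 = n8654 := rfl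
theorem F27616 : act 0 n8654 = n7060 := d1_1 D8654 (iv D7060) (iv F22351)
theorem F27617 : act 3 n8654 = n8654 := d13_2 D7056 D8654 (iv D8654) (iv D7056) F17172
theorem F27618 : act 4 n8654 = n8013 := d14_2 F25465 D8654 (iv F25464)
theorem F27619 : act 6 n8654 = n8654 := d16_2 F22352 D8654 (iv D8654)
theorem F27620 : act 1 n8654 = n8020 := d29_2 D7056 D8654 F25376 F20007 F14989 (iv F19919) (iv F23635) F23636 F20708 F20706 F15626 F11389 (iv D3691) F7974 (iv F9858) (iv D3195) F6852 F4762 D1512 D2220 D3213 D4482 (iv F13864) D4995 F15488 F14704 (iv F14382) F14383 D5483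
def n8655 : Q := act 1 n7057
theorem D8655 : act 1 n7057 = n8655 := rfl
theorem F27621 : act 4 n8655 = n8629 := d9_2 (iv F22354) D8655 (iv D8629)
theorem F27622 : act 5 n8655 = n8655 := d10_2 D7057 D8655 (iv D8655) (iv D7057) F17175
theorem F27623 : act 6 n8655 = n8628 := d11_2 (iv F22355) D8655 (iv D8628)
def n8656 : Q := act 7 n7057
theorem D8656 : act 7 n7057 = n8656 := rfl
theorem F27624 : act 2 n8656 = n7059 := d17_1 D8656 (iv D7059) (iv F22353)
theorem F27625 : act 4 n8656 = n8630 := d24_1 D8656 (iv D8630) (iv F22354)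
theorem F27626 : act 5 n8656 = n7058 := d26_1 D8656 (iv D7058) D7057
def n8657 : Q := act 3 n7058
theorem D8657 : act 3 n7058 = n8657 := rfl
theorem F27627 : act 1 n8657 = n8657 := d8_1 D8657 (iv D8657) F22356
theorem F27628 : act 6 n8657 = n8657 := d20_2 F22359 D8657 (iv D8657)
def n8658 : Q := act 6 n7059
theorem D8658 : act 6 n7059 = n8658 := rfl
theorem F27629 : act 5 n8658 = n8658 := d25_1 D8658 (iv D8658) F22360 F17180 (iv F22360)
def n8659 : Q := act 7 n7061
theorem D8659 : act 7 n7061 = n8659 := rfl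
theorem F27630 : act 2 n8659 = n7071 := d17_1 D8659 (iv D7071) (iv F22364)
theorem F27631 : act 4 n8659 = n7066 := d24_1 D8659 (iv D7066) (iv F22365)
theorem F27632 : act 5 n8659 = n7163 := d26_1 D8659 (iv D7163) (iv F22366)
def n8660 : Q := act 3 n7062
theorem D8660 : act 3 n7062 = n8660 := rfl
theorem F27633 : act 0 n8660 = n7811 := d2_1 D8660 F24684 (iv F22367)
theorem F27634 : act 1 n8660 = n7464 := d8_1 D8660 F23636 (iv F22368)
theorem F27635 : act 2 n8660 = n7825 := d13_1 D8660 F24719 F24581 (iv D7072) (iv F22369)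
theorem F27636 : act 4 n8660 = n7454 := d18_2 (iv F22370) D8660 (iv D7454) F18358 F17198
theorem F27637 : act 5 n8660 = n7063 := d19_2 (iv F22371) D8660 (iv D7063)
def n8661 : Q := act 6 n7062
theorem D8661 : act 6 n7062 = n8661 := rfl
theorem F27638 : act 0 n8661 = n7816 := d5_1 D8661 (iv D7816) (iv F22367)
theorem F27639 : act 1 n8661 = n7471 := d11_1 D8661 (iv D7471) (iv F22368)
theorem F27640 : act 2 n8661 = n7073 := d16_1 D8661 (iv D7073) (iv F22369)
theorem F27641 : act 4 n8661 = n7067 := d23_1 D8661 (iv D7067) (iv F22370)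
def n8662 : Q := act 2 n7063
theorem D8662 : act 2 n7063 = n8662 := rfl
theorem F27642 : act 1 n8662 = n8662 := d7_1 D8662 (iv D8662) F22372 F17984 (iv F22372)
theorem F27643 : act 3 n8662 = n7074 := d13_2 D7063 D8662 (iv D7074) (iv D5497) (iv F17185)
theorem F27644 : act 5 n8662 = n7825 := d15_2 F27637 D8662 (iv F27635)
theorem F27645 : act 7 n8662 = n8096 := d17_2 F27005 D8662 F27006
theorem F27646 : act 4 n7773 = n8662 := d24_3 F27645 (iv D8096) (iv F24565)
def n8663 : Q := act 4 n7063
theorem D8663 : act 4 n7063 = n8663 := rfl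
theorem F27647 : act 0 n8663 = n7370 := d3_1 D8663 F23354 F23087
theorem F27648 : act 1 n8663 = n7318 := d9_1 D8663 (iv D7318) (iv F22372)
theorem F27649 : act 2 n8663 = n7773 := d14_1 D8663 F27646 (iv D8662)
theorem F27650 : act 3 n8663 = n7068 := d18_1 D8663 (iv D7068) (iv D5493) (iv F17186) D7063
theorem F27651 : act 5 n8663 = n7454 := d22_2 F27637 D8663 (iv F27636)
theorem F27652 : act 7 n8663 = n7340 := d24_2 F27005 D8663 (iv F27004)
def n8664 : Q := act 6 n7063
theorem D8664 : act 6 n7063 = n8664 := rfl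
theorem F27653 : act 1 n8664 = n7319 := d11_1 D8664 (iv D7319) (iv F22372)
theorem F27654 : act 3 n8664 = n7064 := d20_1 D8664 (iv D7064) D7063
def n8665 : Q := act 5 n7064
theorem D8665 : act 5 n7064 = n8665 := rfl
theorem F27655 : act 2 n8665 = n7077 := d15_1 D8665 (iv D7077) (iv F22374)
theorem F27656 : act 4 n8665 = n7070 := d22_1 D8665 (iv D7070) (iv F22375)
theorem F27657 : act 7 n8665 = n7165 := d26_2 (iv F22376) D8665 (iv D7165)
def n8666 : Q := act 7 n7065
theorem D8666 : act 7 n7065 = n8666 := rfl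
theorem F27658 : act 0 n8666 = n7503 := d6_1 D8666 F23765 (iv F22377)
theorem F27659 : act 1 n8666 = n7066 := d12_1 D8666 (iv D7066) (iv F22378)
theorem F27660 : act 2 n8666 = n8666 := d17_1 D8666 (iv D8666) F22379
theorem F27661 : act 6 n8666 = n7473 := d27_1 D8666 (iv D7473) (iv D5879) F17191 D7065
def n8667 : Q := act 3 n7066
theorem D8667 : act 3 n7066 = n8667 := rfl
theorem F27662 : act 5 n8667 = n7169 := d19_2 (iv F22382) D8667 (iv D7169)
def n8668 : Q := act 6 n7066
theorem D8668 : act 6 n7066 = n8668 := rfl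
theorem F27663 : act 0 n8668 = n7818 := d5_1 D8668 F24705 F23094
theorem F27664 : act 1 n8668 = n7473 := d11_1 D8668 (iv F27661) F27659
theorem F27665 : act 2 n8668 = n7078 := d16_1 D8668 (iv D7078) (iv F22381)
theorem F27666 : act 7 n8668 = n7067 := d27_2 D7066 D8668 (iv D7067) (iv D5492) D5491
def n8669 : Q := act 5 n7067
theorem D8669 : act 5 n7067 = n8669 := rfl
theorem F27667 : act 0 n8669 = n7817 := d4_1 D8669 (iv D7817) (iv F22383)
theorem F27668 : act 2 n8669 = n7080 := d15_1 D8669 (iv D7080) (iv F22385)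
theorem F27669 : act 3 n8669 = n7458 := d19_1 D8669 (iv D7458) (iv F22386)
theorem F27670 : act 6 n8669 = n7070 := d25_2 D7067 D8669 (iv D7070) (iv D5494) (iv F17197)
def n8670 : Q := act 6 n7068
theorem D8670 : act 6 n7068 = n8670 := rfl
theorem F27671 : act 0 n8670 = n7759 := d5_1 D8670 (iv D7759) (iv F22387)
theorem F27672 : act 1 n8670 = n7322 := d11_1 D8670 (iv D7322) (iv F22388)
theorem F27673 : act 2 n8670 = n7438 := d16_1 D8670 (iv D7438) (iv F22389)
theorem F27674 : act 4 n8670 = n7069 := d23_1 D8670 (iv D7069) D7068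
def n8671 : Q := act 5 n7069
theorem D8671 : act 5 n7069 = n8671 := rfl
theorem F27675 : act 0 n8671 = n7763 := d4_1 D8671 (iv D7763) (iv F22391)
theorem F27676 : act 2 n8671 = n7440 := d15_1 D8671 (iv D7440) (iv F22393)
theorem F27677 : act 3 n8671 = n7070 := d19_1 D8671 (iv D7070) (iv F22394)
theorem F27678 : act 6 n8671 = n7458 := d25_2 D7069 D8671 (iv D7458) (iv D5868) (iv F17201)
def n8672 : Q := act 7 n7069
theorem D8672 : act 7 n7069 = n8672 := rfl
theorem F27679 : act 0 n8672 = n7764 := d6_1 D8672 (iv D7764) (iv F22391)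
theorem F27680 : act 1 n8672 = n7324 := d12_1 D8672 (iv D7324) (iv F22392)
theorem F27681 : act 2 n8672 = n7441 := d17_1 D8672 (iv D7441) (iv F22393)
theorem F27682 : act 3 n8672 = n7178 := d21_1 D8672 (iv D7178) F17576 (iv F17205) (iv F22394)
def n8673 : Q := act 1 n7070
theorem D8673 : act 1 n7070 = n8673 := rfl
theorem F27683 : act 5 n8673 = n7325 := d10_2 D7070 D8673 (iv D7325) (iv D5745) (iv F17203)
theorem F27684 : act 7 n8673 = n7179 := d12_2 (iv F22396) D8673 (iv D7179)
def n8674 : Q := act 3 n7071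
theorem D8674 : act 3 n7071 = n8674 := rfl
theorem F27685 : act 1 n8674 = n8674 := d8_1 D8674 (iv D8674) F22397
theorem F27686 : act 5 n8674 = n7180 := d19_2 (iv F22399) D8674 (iv D7180)
theorem F27687 : act 7 n8674 = n8674 := d21_2 D7071 D8674 (iv D8674) (iv D7071) F17207
def n8675 : Q := act 6 n7071
theorem D8675 : act 6 n7071 = n8675 := rfl
theorem F27688 : act 1 n8675 = n8675 := d11_1 D8675 (iv D8675) F22397
theorem F27689 : act 4 n8675 = n7078 := d23_1 D8675 (iv D7078) (iv F22398)
theorem F27690 : act 7 n8675 = n7073 := d27_2 D7071 D8675 (iv D7073) (iv D5496) D5495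
def n8676 : Q := act 6 n7072
theorem D8676 : act 6 n7072 = n8676 := rfl
theorem F27691 : act 1 n8676 = n8676 := d11_1 D8676 (iv D8676) F22400
theorem F27692 : act 3 n8676 = n7073 := d20_1 D8676 (iv D7073) D7072
def n8677 : Q := act 5 n7073
theorem D8677 : act 5 n7073 = n8677 := rfl
theorem F27693 : act 4 n8677 = n7080 := d22_1 D8677 (iv D7080) (iv F22404)
theorem F27694 : act 6 n8677 = n7077 := d25_2 D7073 D8677 (iv D7077) (iv D5498) (iv F17212)
def n8678 : Q := act 6 n7074
theorem D8678 : act 6 n7074 = n8678 := rfl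
theorem F27695 : act 1 n8678 = n8678 := d11_1 D8678 (iv D8678) F22405
theorem F27696 : act 2 n8678 = n7076 := d16_1 D8678 (iv D7076) D7074
def n8679 : Q := act 6 n7075
theorem D8679 : act 6 n7075 = n8679 := rfl
theorem F27697 : act 1 n8679 = n7085 := d11_1 D8679 (iv D7085) (iv F22407)
theorem F27698 : act 3 n8679 = n7082 := d20_1 D8679 (iv D7082) (iv F22408)
theorem F27699 : act 4 n8679 = n7076 := d23_1 D8679 (iv D7076) D7075
def n8680 : Q := act 5 n7076
theorem D8680 : act 5 n7076 = n8680 := rfl
theorem F27700 : act 3 n8680 = n7077 := d19_1 D8680 (iv D7077) (iv F22411)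
def n8681 : Q := act 7 n7076
theorem D8681 : act 7 n7076 = n8681 := rfl
theorem F27701 : act 0 n8681 = n7972 := d6_1 D8681 F25198 F23113
theorem F27702 : act 1 n8681 = n7086 := d12_1 D8681 (iv D7086) (iv F22410)
theorem F27703 : act 3 n8681 = n7184 := d21_1 D8681 (iv D7184) F17584 (iv F17217) (iv F22411)
theorem F27704 : act 6 n8681 = n8681 := d27_1 D8681 (iv D8681) (iv D7076) F17214 D7076
def n8682 : Q := act 5 n7078
theorem D8682 : act 5 n7078 = n8682 := rfl
theorem F27705 : act 6 n8682 = n7189 := d25_2 D7078 D8682 (iv D7189) (iv D5611) (iv F17219)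
theorem F27706 : act 7 n8682 = n7080 := d26_2 (iv F22415) D8682 (iv D7080)
def n8683 : Q := act 5 n7079
theorem D8683 : act 5 n7079 = n8683 := rfl
theorem F27707 : act 0 n8683 = n7807 := d4_1 D8683 (iv D7807) (iv F22416)
theorem F27708 : act 2 n8683 = n7453 := d15_1 D8683 (iv D7453) (iv F22418)
theorem F27709 : act 3 n8683 = n7080 := d19_1 D8683 (iv D7080) (iv F22419)
theorem F27710 : act 6 n8683 = n7083 := d25_2 D7079 D8683 (iv D7083) (iv D5504) (iv F17223)
def n8684 : Q := act 5 n7081
theorem D8684 : act 5 n7081 = n8684 := rfl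
theorem F27711 : act 0 n8684 = n7744 := d4_1 D8684 (iv D7744) (iv F22421)
theorem F27712 : act 2 n8684 = n7083 := d15_1 D8684 (iv D7083) (iv F22423)
theorem F27713 : act 3 n8684 = n7440 := d19_1 D8684 (iv D7440) (iv F22424)
theorem F27714 : act 6 n8684 = n7453 := d25_2 D7081 D8684 (iv D7453) (iv D5864) (iv F17228)
def n8685 : Q := act 5 n7082
theorem D8685 : act 5 n7082 = n8685 := rfl
theorem F27715 : act 4 n8685 = n7083 := d22_1 D8685 (iv D7083) (iv F22426)
def n8686 : Q := act 5 n7084
theorem D8686 : act 5 n7084 = n8686 := rfl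
theorem F27716 : act 0 n8686 = n7429 := d4_1 D8686 (iv D7429) (iv F22428)
theorem F27717 : act 2 n8686 = n7092 := d15_1 D8686 (iv D7092) (iv F22430)
theorem F27718 : act 6 n8686 = n7426 := d25_2 D7084 D8686 (iv D7426) (iv D5840) (iv F17238)
def n8687 : Q := act 3 n7087
theorem D8687 : act 3 n7087 = n8687 := rfl
theorem F27719 : act 0 n8687 = n7089 := d2_1 D8687 (iv D7089) (iv F22439)
theorem F27720 : act 1 n8687 = n7115 := d8_1 D8687 (iv D7115) (iv F22440)
theorem F27721 : act 2 n8687 = n8279 := d13_1 D8687 F26298 F20911 (iv F18290) (iv F22441)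
theorem F27722 : act 4 n8687 = n7094 := d18_2 D7087 D8687 (iv D7094) (iv D5520) (iv F17266)
theorem F27723 : act 5 n8687 = n7412 := d19_2 (iv F22442) D8687 (iv D7412)
theorem F27724 : act 7 n8687 = n8687 := d21_2 (iv F22443) D8687 (iv D8687) F22443 F18262
def n8688 : Q := act 6 n7087
theorem D8688 : act 6 n7087 = n8688 := rfl
theorem F27725 : act 0 n8688 = n7090 := d5_1 D8688 (iv D7090) (iv F22439)
theorem F27726 : act 1 n8688 = n7116 := d11_1 D8688 (iv D7116) (iv F22440)
theorem F27727 : act 2 n8688 = n7427 := d16_1 D8688 (iv D7427) (iv F22441)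
theorem F27728 : act 4 n8688 = n7088 := d23_1 D8688 (iv D7088) D7087
def n8689 : Q := act 5 n7088
theorem D8689 : act 5 n7088 = n8689 := rfl
theorem F27729 : act 0 n8689 = n7092 := d4_1 D8689 (iv D7092) (iv F22444)
theorem F27730 : act 2 n8689 = n7429 := d15_1 D8689 (iv D7429) (iv F22446)
theorem F27731 : act 3 n8689 = n7098 := d19_1 D8689 (iv D7098) (iv F22447)
theorem F27732 : act 6 n8689 = n7414 := d25_2 D7088 D8689 (iv D7414) (iv D5826) F17268
def n8690 : Q := act 6 n7089
theorem D8690 : act 6 n7089 = n8690 := rfl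
theorem F27733 : act 1 n8690 = n7093 := d11_1 D8690 (iv D7093) (iv F22448)
theorem F27734 : act 2 n8690 = n8290 := d16_1 D8690 (iv D8290) (iv F22449)
theorem F27735 : act 3 n8690 = n7090 := d20_1 D8690 (iv D7090) D7089
theorem F27736 : act 4 n8690 = n7101 := d23_1 D8690 (iv D7101) (iv F22450)
theorem F27737 : act 7 n8037 = n8690 := d21_0 F27735 (iv F22865) F22862 (iv F20019) D8037
def n8691 : Q := act 5 n7090
theorem D8691 : act 5 n7090 = n8691 := rfl
theorem F27738 : act 4 n8691 = n7092 := d22_1 D8691 (iv D7092) (iv F22454)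
def n8692 : Q := act 5 n7091
theorem D8692 : act 5 n7091 = n8692 := rfl
theorem F27739 : act 0 n8692 = n7414 := d4_1 D8692 (iv D7414) (iv F22455)
theorem F27740 : act 2 n8692 = n7426 := d15_1 D8692 (iv D7426) (iv F22457)
theorem F27741 : act 3 n8692 = n7104 := d19_1 D8692 (iv D7104) (iv F22458)
theorem F27742 : act 6 n8692 = n7092 := d25_2 D7091 D8692 (iv D7092) (iv D5517) D5516
def n8693 : Q := act 2 n7094
theorem D8693 : act 2 n7094 = n8693 := rfl
theorem F27743 : act 0 n8693 = n7099 := d1_1 D8693 (iv D7099) (iv F22466)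
theorem F27744 : act 1 n8693 = n8417 := d7_1 D8693 F26790 F22547 (iv D7119) (iv F22467)
theorem F27745 : act 3 n8693 = n8266 := d13_2 D7094 D8693 F26264 F21463 F20579
theorem F27746 : act 4 n8693 = n8279 := d14_2 F27722 D8693 (iv F27721)
theorem F27747 : act 7 n8693 = n8693 := d17_2 F22468 D8693 (iv D8693)
theorem F27748 : act 5 n8265 = n8693 := d22_0 F27746 (iv D8279) (iv F26260)
def n8694 : Q := act 5 n7094
theorem D8694 : act 5 n7094 = n8694 := rfl
theorem F27749 : act 0 n8694 = n7100 := d4_1 D8694 (iv D7100) (iv F22466)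
theorem F27750 : act 1 n8694 = n7397 := d10_1 D8694 (iv F27141) F27139 (iv D7120) (iv F22467)
theorem F27751 : act 2 n8694 = n8265 := d15_1 D8694 F27748 (iv D8693)
theorem F27752 : act 3 n8694 = n7095 := d19_1 D8694 (iv D7095) D7094
theorem F27753 : act 4 n8694 = n7412 := d22_1 D8694 (iv F27723) F27722
theorem F27754 : act 7 n8694 = n8694 := d26_2 F22468 D8694 (iv D8694)
def n8695 : Q := act 6 n7094
theorem D8695 : act 6 n7094 = n8695 := rfl
theorem F27755 : act 0 n8695 = n7101 := d5_1 D8695 (iv D7101) (iv F22466)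
theorem F27756 : act 1 n8695 = n7121 := d11_1 D8695 (iv D7121) (iv F22467)
theorem F27757 : act 3 n8695 = n7096 := d20_1 D8695 (iv D7096) D7094
theorem F27758 : act 7 n8653 = n8695 := d21_0 F27757 F22476 F19171 D7055 D8653
def n8696 : Q := act 6 n7095
theorem D8696 : act 6 n7095 = n8696 := rfl
theorem F27759 : act 0 n8696 = n7102 := d5_1 D8696 (iv D7102) (iv F22469)
theorem F27760 : act 1 n8696 = n7398 := d11_1 D8696 (iv D7398) F22472
theorem F27761 : act 4 n8696 = n7097 := d23_1 D8696 (iv D7097) (iv F22470)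
def n8697 : Q := act 5 n7096
theorem D8697 : act 5 n7096 = n8697 := rfl
theorem F27762 : act 0 n8697 = n7103 := d4_1 D8697 (iv D7103) (iv F22473)
theorem F27763 : act 4 n8697 = n7098 := d22_1 D8697 (iv D7098) (iv F22475)
theorem F27764 : act 7 n8697 = n7715 := d26_2 (iv F22476) D8697 (iv D7715)
def n8698 : Q := act 5 n7097
theorem D8698 : act 5 n7097 = n8698 := rfl
theorem F27765 : act 0 n8698 = n7104 := d4_1 D8698 (iv D7104) (iv F22477)
theorem F27766 : act 3 n8698 = n7414 := d19_1 D8698 (iv D7414) (iv F22479)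
theorem F27767 : act 6 n8698 = n7098 := d25_2 D7097 D8698 (iv D7098) (iv D5522) D5521
def n8699 : Q := act 7 n7097
theorem D8699 : act 7 n7097 = n8699 := rfl
theorem F27768 : act 0 n8699 = n7105 := d6_1 D8699 (iv D7105) (iv F22477)
theorem F27769 : act 1 n8699 = n7400 := d12_1 D8699 (iv D7400) (iv F22478)
theorem F27770 : act 6 n8699 = n7329 := d27_1 D8699 (iv D7329) (iv D5751) (iv F17290) D7097
def n8700 : Q := act 1 n7098
theorem D8700 : act 1 n7098 = n8700 := rfl
theorem F27771 : act 5 n8700 = n7128 := d10_2 D7098 D8700 (iv D7128) (iv D5551) (iv F17293)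
theorem F27772 : act 7 n8700 = n7273 := d12_2 F23026 D8700 (iv F23024)
def n8701 : Q := act 6 n7099
theorem D8701 : act 6 n7099 = n8701 := rfl
theorem F27773 : act 1 n8701 = n8701 := d11_1 D8701 (iv D8701) F22481
theorem F27774 : act 2 n8701 = n7101 := d16_1 D8701 (iv D7101) D7099
theorem F27775 : act 3 n8701 = n8272 := d20_1 D8701 (iv D8272) (iv F22482)
theorem F27776 : act 4 n8701 = n8290 := d23_1 D8701 (iv D8290) (iv F22483)
def n8702 : Q := act 6 n7100
theorem D8702 : act 6 n7100 = n8702 := rfl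
theorem F27777 : act 1 n8702 = n8702 := d11_1 D8702 (iv D8702) F22486
theorem F27778 : act 2 n8702 = n8271 := d16_1 D8702 (iv D8271) (iv F22487)
theorem F27779 : act 3 n8702 = n7102 := d20_1 D8702 (iv D7102) (iv F22488)
theorem F27780 : act 4 n8702 = n8289 := d23_1 D8702 (iv D8289) (iv F22489)
def n8703 : Q := act 5 n7101
theorem D8703 : act 5 n7101 = n8703 := rfl
theorem F27781 : act 3 n8703 = n7103 := d19_1 D8703 (iv D7103) (iv F22492)
def n8704 : Q := act 7 n7101
theorem D8704 : act 7 n7101 = n8704 := rfl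
theorem F27782 : act 0 n8704 = n8653 := d6_1 D8704 F27758 F27755
theorem F27783 : act 1 n8704 = n7109 := d12_1 D8704 (iv D7109) (iv F22491)
theorem F27784 : act 3 n8704 = n7589 := d21_1 D8704 (iv D7589) F18731 (iv F17301) (iv F22492)
theorem F27785 : act 4 n8704 = n8037 := d24_1 D8704 F27737 F27736
theorem F27786 : act 6 n8704 = n8704 := d27_1 D8704 (iv D8704) (iv D7101) F17295 D7101
def n8705 : Q := act 5 n7102
theorem D8705 : act 5 n7102 = n8705 := rfl
theorem F27787 : act 4 n8705 = n7104 := d22_1 D8705 (iv D7104) (iv F22494)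
theorem F27788 : act 6 n8705 = n7103 := d25_2 D7102 D8705 (iv D7103) (iv D5525) D5524
def n8706 : Q := act 7 n7102
theorem D8706 : act 7 n7102 = n8706 := rfl
theorem F27789 : act 1 n8706 = n8706 := d12_1 D8706 (iv D8706) F22493
theorem F27790 : act 4 n8706 = n7105 := d24_1 D8706 (iv D7105) (iv F22494)
theorem F27791 : act 6 n8706 = n7330 := d27_1 D8706 (iv D7330) (iv D5753) (iv F17298) D7102
def n8707 : Q := act 1 n7103
theorem D8707 : act 1 n7103 = n8707 := rfl
theorem F27792 : act 4 n8707 = n7106 := d9_2 (iv F22495) D8707 (iv D7106)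
theorem F27793 : act 5 n8707 = n7110 := d10_2 D7103 D8707 (iv D7110) (iv D5530) (iv F17299)
theorem F27794 : act 7 n8707 = n7718 := d12_2 (iv F22496) D8707 (iv D7718)
def n8708 : Q := act 1 n7104
theorem D8708 : act 1 n7104 = n8708 := rfl
theorem F27795 : act 5 n8708 = n8708 := d10_2 D7104 D8708 (iv D8708) (iv D7104) F17302
theorem F27796 : act 6 n8708 = n7106 := d11_2 (iv F22497) D8708 (iv D7106)
def n8709 : Q := act 7 n7104
theorem D8709 : act 7 n7104 = n8709 := rfl
theorem F27797 : act 5 n8709 = n7105 := d26_1 D8709 (iv D7105) D7104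
def n8710 : Q := act 3 n7105
theorem D8710 : act 3 n7105 = n8710 := rfl
theorem F27798 : act 1 n8710 = n8710 := d8_1 D8710 (iv D8710) F22498
theorem F27799 : act 6 n8710 = n7332 := d20_2 (iv F22499) D8710 (iv D7332)
def n8711 : Q := act 2 n7106
theorem D8711 : act 2 n7106 = n8711 := rfl
theorem F27800 : act 5 n8711 = n7111 := d15_2 (iv F22500) D8711 (iv D7111)
def n8712 : Q := act 7 n7106
theorem D8712 : act 7 n7106 = n8712 := rfl
theorem F27801 : act 1 n8712 = n7107 := d12_1 D8712 (iv D7107) D7106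
theorem F27802 : act 4 n8712 = n7718 := d24_1 D8712 (iv F27794) F27792
theorem F27803 : act 5 n8712 = n7112 := d26_1 D8712 (iv D7112) (iv F22500)
def n8713 : Q := act 6 n7107
theorem D8713 : act 6 n7107 = n8713 := rfl
theorem F27804 : act 0 n8713 = n8360 := d5_1 D8713 F26595 F23023
theorem F27805 : act 3 n8713 = n8343 := d20_1 D8713 F26532 F23003
theorem F27806 : act 4 n8713 = n7716 := d23_1 D8713 F24432 (iv F22501)
theorem F27807 : act 5 n8713 = n7333 := d25_1 D8713 (iv D7333) F18031 (iv F17305) (iv F22502)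
def n8714 : Q := act 1 n7108
theorem D8714 : act 1 n7108 = n8714 := rfl
theorem F27808 : act 3 n8714 = n7110 := d8_2 (iv F22505) D8714 (iv D7110)
theorem F27809 : act 4 n8714 = n8681 := d9_2 (iv F22506) D8714 F27702
theorem F27810 : act 6 n8714 = n8714 := d11_2 F22507 D8714 (iv D8714)
theorem F27811 : act 7 n8714 = n8679 := d12_2 (iv F22508) D8714 F27697
def n8715 : Q := act 2 n7110
theorem D8715 : act 2 n7110 = n8715 := rfl
theorem F27812 : act 1 n8715 = n7113 := d7_1 D8715 (iv D7113) (iv D5533) (iv F17310) D7110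
theorem F27813 : act 4 n8715 = n7111 := d14_2 (iv F22515) D8715 (iv D7111)
theorem F27814 : act 6 n8715 = n8715 := d16_2 F22516 D8715 (iv D8715)
theorem F27815 : act 7 n8715 = n7720 := d17_2 (iv F22517) D8715 (iv D7720)
def n8716 : Q := act 7 n7111
theorem D8716 : act 7 n7111 = n8716 := rfl
theorem F27816 : act 1 n8716 = n7114 := d12_1 D8716 (iv D7114) (iv F22518)
theorem F27817 : act 2 n8716 = n7112 := d17_1 D8716 (iv D7112) D7111
theorem F27818 : act 4 n8716 = n7720 := d24_1 D8716 (iv F27815) F27813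
def n8717 : Q := act 3 n7114
theorem D8717 : act 3 n7114 = n8717 := rfl
theorem F27819 : act 0 n8717 = n8646 := d2_1 D8717 (iv D8646) (iv F22526)
theorem F27820 : act 2 n8717 = n7263 := d13_1 D8717 (iv D7263) F17806 (iv F17328) (iv F22527)
def n8718 : Q := act 6 n7115
theorem D8718 : act 6 n7115 = n8718 := rfl
theorem F27821 : act 0 n8718 = n7118 := d5_1 D8718 (iv D7118) (iv F22529)
theorem F27822 : act 3 n8718 = n7116 := d20_1 D8718 (iv D7116) D7115
theorem F27823 : act 4 n8718 = n7121 := d23_1 D8718 (iv D7121) (iv F22530)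
theorem F27824 : act 7 n8045 = n8718 := d30_29 (iv D8718) F22548 (iv F22547) (iv F26790) (iv D8417) F21440 (iv F20038) F20037 (iv F25308) F25309 (iv D6781) (iv F20476) (iv F20477) (iv F22233) F22231 (iv D6998) (iv D5429) (iv D4010) (iv F9397) D4267 (iv F14485) F14486 F10774 (iv D3502) D3501 D4828 (iv F21770) (iv F20040) D8045
def n8719 : Q := act 6 n7119
theorem D8719 : act 6 n7119 = n8719 := rfl
theorem F27825 : act 0 n8719 = n7129 := d5_1 D8719 (iv D7129) (iv F22544)
theorem F27826 : act 1 n8719 = n8524 := d11_1 D8719 (iv D8524) F22547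
theorem F27827 : act 2 n8719 = n7121 := d16_1 D8719 (iv D7121) D7119
theorem F27828 : act 3 n8719 = n7134 := d20_1 D8719 (iv D7134) (iv F22545)
theorem F27829 : act 7 n8654 = n8719 := d17_0 F27827 (iv F22556) D8654
def n8720 : Q := act 6 n7120
theorem D8720 : act 6 n7120 = n8720 := rfl
theorem F27830 : act 0 n8720 = n7130 := d5_1 D8720 (iv D7130) (iv F22549)
theorem F27831 : act 1 n8720 = n8021 := d11_1 D8720 (iv F27148) F27139
theorem F27832 : act 2 n8720 = n8718 := d16_1 D8720 (iv D8718) (iv F22550)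
theorem F27833 : act 3 n8720 = n7123 := d20_1 D8720 (iv D7123) (iv F22551)
theorem F27834 : act 4 n8720 = n8719 := d23_1 D8720 (iv D8719) (iv F22552)
theorem F27835 : act 7 n8013 = n8720 := d24_0 F27834 (iv F27829) F27618
def n8721 : Q := act 5 n7121
theorem D8721 : act 5 n7121 = n8721 := rfl
theorem F27836 : act 0 n8721 = n7131 := d4_1 D8721 (iv D7131) (iv F22554)
theorem F27837 : act 3 n8721 = n7124 := d19_1 D8721 (iv D7124) (iv F22555)
theorem F27838 : act 7 n8721 = n7154 := d26_2 F22556 D8721 F22685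
def n8722 : Q := act 6 n7122
theorem D8722 : act 6 n7122 = n8722 := rfl
theorem F27839 : act 0 n8722 = n8722 := d5_1 D8722 (iv D8722) F22557
theorem F27840 : act 1 n8722 = n7123 := d11_1 D8722 (iv D7123) D7122
theorem F27841 : act 2 n8722 = n7393 := d16_1 D8722 (iv D7393) F22561
theorem F27842 : act 3 n8722 = n8021 := d20_1 D8722 (iv F27148) F27140
theorem F27843 : act 4 n8722 = n7125 := d23_1 D8722 (iv D7125) (iv F22558)
theorem F27844 : act 7 n8722 = n8022 := d27_2 (iv F22560) D8722 F25383 F23200 (iv D7337)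
theorem F27845 : act 5 n8032 = n8722 := d26_3 F27844 F25382 (iv F25424)
def n8723 : Q := act 5 n7123
theorem D8723 : act 5 n7123 = n8723 := rfl
theorem F27846 : act 0 n8723 = n7132 := d4_1 D8723 (iv D7132) (iv F22562)
theorem F27847 : act 1 n8723 = n8519 := d10_1 D8723 F27132 (iv F25422) F27845 F27840
theorem F27848 : act 2 n8723 = n7139 := d15_1 D8723 (iv D7139) (iv F22563)
theorem F27849 : act 4 n8723 = n7126 := d22_1 D8723 (iv D7126) (iv F22564)
theorem F27850 : act 6 n8723 = n7124 := d25_2 D7123 D8723 (iv D7124) (iv D5548) D5547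
theorem F27851 : act 7 n8723 = n7149 := d31_1 D8723 F22669 F17904 (iv D4263) F9388 F6482 (iv D1563) D1562 F4911 F4913 F4912 (iv F6478) D3054 F9413 F6481 D3055 (iv F13188) (iv F17461) (iv D5570) (iv F17445) (iv F22563) (iv D7123) (iv F22551) (iv D7120) F17366 (iv F22530) (iv F22550) D8720 F27833
def n8724 : Q := act 7 n7123
theorem D8724 : act 7 n7123 = n8724 := rfl
theorem F27852 : act 0 n8724 = n7133 := d6_1 D8724 (iv D7133) (iv F22562)
theorem F27853 : act 1 n8724 = n8022 := d12_1 D8724 (iv F27844) F27840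
theorem F27854 : act 2 n8724 = n7140 := d17_1 D8724 (iv D7140) (iv F22563)
theorem F27855 : act 3 n8724 = n7366 := d21_1 D8724 F23339 D8013 F27835 F27833
theorem F27856 : act 4 n8724 = n7127 := d24_1 D8724 (iv D7127) (iv F22564)
theorem F27857 : act 5 n8724 = n7149 := d26_1 D8724 (iv F27851) (iv D8723)
theorem F27858 : act 6 n8724 = n7150 := d27_1 D8724 F22675 (iv D5760) (iv F17370) D7123
def n8725 : Q := act 1 n7124
theorem D8725 : act 1 n7124 = n8725 := rfl
theorem F27859 : act 0 n8725 = n8521 := d0_1 D8725 (iv F27581) F27580 F22326 (iv F22565)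
theorem F27860 : act 4 n8725 = n7128 := d9_2 (iv F22567) D8725 (iv D7128)
theorem F27861 : act 6 n8725 = n8519 := d11_2 F27850 D8725 (iv F27847)
theorem F27862 : act 7 n8725 = n7148 := d12_2 (iv F22568) D8725 F22662
def n8726 : Q := act 5 n7125
theorem D8726 : act 5 n7125 = n8726 := rfl
theorem F27863 : act 0 n8726 = n8726 := d4_1 D8726 (iv D8726) F22569
theorem F27864 : act 1 n8726 = n8518 := d10_1 D8726 F27128 F24426 (iv D7126) (iv F22570)
theorem F27865 : act 2 n8726 = n7394 := d15_1 D8726 (iv D7394) (iv F22571)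
theorem F27866 : act 3 n8726 = n7410 := d19_1 D8726 (iv D7410) (iv F22572)
theorem F27867 : act 4 n8726 = n8032 := d22_1 D8726 F27845 F27843
theorem F27868 : act 6 n8726 = n7399 := d25_2 D7125 D8726 (iv D7399) (iv D5814) (iv F17377)
theorem F27869 : act 7 n8726 = n8034 := d31_1 D8726 (iv D8034) F20011 (iv D5744) (iv D4282) (iv F13247) (iv D4281) (iv F12107) F12106 (iv D2755) F5826 (iv D1262) D1263 F4009 F2881 D1015 F3266 F2437 F2438 (iv F3447) F3446 (iv F4620) (iv F6662) (iv F8558) D3949 F12239 D4357 D5822 (iv F22572)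
def n8727 : Q := act 7 n7125
theorem D8727 : act 7 n7125 = n8727 := rfl
theorem F27870 : act 0 n8727 = n8727 := d6_1 D8727 (iv D8727) F22569
theorem F27871 : act 1 n8727 = n7127 := d12_1 D8727 (iv D7127) (iv F22570)
theorem F27872 : act 2 n8727 = n7395 := d17_1 D8727 (iv D7395) (iv F22571)
theorem F27873 : act 3 n8727 = n8727 := d21_1 D8727 (iv D8727) F22572 F18232 (iv F22572)
theorem F27874 : act 4 n8727 = n8022 := d24_1 D8727 (iv F27844) F27843
theorem F27875 : act 5 n8727 = n8034 := d26_1 D8727 (iv F27869) (iv D8726)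
theorem F27876 : act 6 n8727 = n7339 := d27_1 D8727 (iv D7339) (iv D5761) (iv F17378) D7125
def n8728 : Q := act 5 n7130
theorem D8728 : act 5 n7130 = n8728 := rfl
theorem F27877 : act 2 n8728 = n7796 := d15_1 D8728 F24624 (iv F22589)
theorem F27878 : act 3 n8728 = n7132 := d19_1 D8728 (iv D7132) (iv F22590)
theorem F27879 : act 4 n8728 = n7905 := d22_1 D8728 F24963 (iv F22591)
theorem F27880 : act 6 n8728 = n7131 := d25_2 D7130 D8728 (iv D7131) (iv D5554) D5553
theorem F27881 : act 7 n8728 = n7387 := d26_2 F25473 D8728 (iv F25471)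
theorem F27882 : act 1 n8728 = n7518 := d30_2 D7130 D8728 F23802 (iv D5918) F13720 (iv F14411) F14410 F10717 (iv F14860) (iv F17130) (iv F19298) (iv F19538) F19537 F17466 F17467 F12802 F9025 (iv D2423) (iv F7035) F7032 F7033 (iv D1967) F4253 (iv F4316) D2005 (iv F9020) (iv F12752) (iv F17391) F17393
def n8729 : Q := act 1 n7136
theorem D8729 : act 1 n7136 = n8729 := rfl
theorem F27883 : act 0 n8729 = n7423 := d0_1 D8729 (iv D7423) F18273 (iv F17475) (iv F22616)
theorem F27884 : act 3 n8729 = n7141 := d8_2 (iv F22617) D8729 (iv D7141)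
theorem F27885 : act 4 n8729 = n8617 := d9_2 (iv F22618) D8729 F27498
theorem F27886 : act 5 n8729 = n8311 := d10_2 D7136 D8729 F26398 F20991 (iv F17436)
theorem F27887 : act 6 n8729 = n7719 := d11_2 (iv F22619) D8729 F24437
theorem F27888 : act 7 n8729 = n8729 := d12_2 F22620 D8729 (iv D8729)
def n8730 : Q := act 6 n7137
theorem D8730 : act 6 n7137 = n8730 := rfl
theorem F27889 : act 0 n8730 = n7151 := d5_1 D8730 (iv D7151) (iv F22621)
theorem F27890 : act 1 n8730 = n7393 := d11_1 D8730 (iv D7393) (iv F22622)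
theorem F27891 : act 2 n8730 = n7138 := d16_1 D8730 (iv D7138) D7137
theorem F27892 : act 4 n8730 = n7142 := d23_1 D8730 (iv D7142) (iv F22623)
def n8731 : Q := act 5 n7138
theorem D8731 : act 5 n7138 = n8731 := rfl
theorem F27893 : act 0 n8731 = n7152 := d4_1 D8731 (iv D7152) (iv F22626)
theorem F27894 : act 3 n8731 = n8303 := d19_1 D8731 F26370 (iv F22628)
theorem F27895 : act 4 n8731 = n7143 := d22_1 D8731 (iv D7143) (iv F22629)
theorem F27896 : act 6 n8731 = n8302 := d25_2 D7138 D8731 F26366 F20959 (iv F17442)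
def n8732 : Q := act 7 n7138
theorem D8732 : act 7 n7138 = n8732 := rfl
theorem F27897 : act 0 n8732 = n7153 := d6_1 D8732 (iv D7153) (iv F22626)
theorem F27898 : act 1 n8732 = n7140 := d12_1 D8732 (iv D7140) (iv F22627)
theorem F27899 : act 4 n8732 = n7144 := d24_1 D8732 (iv D7144) (iv F22629)
theorem F27900 : act 6 n8732 = n7343 := d27_1 D8732 (iv D7343) (iv D5764) (iv F17443) D7138
def n8733 : Q := act 1 n7139
theorem D8733 : act 1 n7139 = n8733 := rfl
theorem F27901 : act 0 n8733 = n7590 := d0_1 D8733 (iv D7590) F18733 (iv F17480) (iv F22630)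
theorem F27902 : act 3 n8733 = n7719 := d8_2 (iv F22631) D8733 F24437
theorem F27903 : act 4 n8733 = n7145 := d9_2 (iv F22632) D8733 (iv D7145)
theorem F27904 : act 6 n8733 = n7141 := d11_2 (iv F22633) D8733 (iv D7141)
theorem F27905 : act 7 n8733 = n7295 := d12_2 (iv F22634) D8733 F23066
def n8734 : Q := act 3 n7140
theorem D8734 : act 3 n7140 = n8734 := rfl
theorem F27906 : act 0 n8734 = n7147 := d2_1 D8734 (iv D7147) (iv F22635)
theorem F27907 : act 2 n8734 = n8014 := d13_1 D8734 (iv D8014) (iv F23336) (iv F27855) F27854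
theorem F27908 : act 4 n8734 = n7315 := d18_2 (iv F22636) D8734 F23131 F17976 (iv F17460)
theorem F27909 : act 5 n8734 = n7298 := d19_2 (iv F22637) D8734 F23076
theorem F27910 : act 6 n8734 = n7344 := d20_2 (iv F22638) D8734 (iv D7344)
def n8735 : Q := act 5 n7142
theorem D8735 : act 5 n7142 = n8735 := rfl
theorem F27911 : act 0 n8735 = n7156 := d4_1 D8735 (iv D7156) (iv F22642)
theorem F27912 : act 2 n8735 = n7143 := d15_1 D8735 (iv D7143) (iv F22644)
theorem F27913 : act 3 n8735 = n7392 := d19_1 D8735 (iv D7392) (iv F22645)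
def n8736 : Q := act 7 n7142
theorem D8736 : act 7 n7142 = n8736 := rfl
theorem F27914 : act 0 n8736 = n7157 := d6_1 D8736 (iv D7157) (iv F22642)
theorem F27915 : act 1 n8736 = n7395 := d12_1 D8736 (iv D7395) (iv F22643)
theorem F27916 : act 2 n8736 = n7144 := d17_1 D8736 (iv D7144) (iv F22644)
theorem F27917 : act 6 n8736 = n7346 := d27_1 D8736 (iv D7346) (iv D5766) (iv F17452) D7142
def n8737 : Q := act 1 n7143
theorem D8737 : act 1 n7143 = n8737 := rfl
theorem F27918 : act 0 n8737 = n8649 := d0_1 D8737 (iv D8649) F22338 (iv F17528) (iv F22646)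
theorem F27919 : act 3 n8737 = n8609 := d8_2 F23052 D8737 F27468
theorem F27920 : act 5 n8737 = n7145 := d10_2 D7143 D8737 (iv D7145) (iv D5569) (iv F17454)
theorem F27921 : act 7 n7296 = n8737 := d26_0 F27920 F22654 D7296
def n8738 : Q := act 7 n7143
theorem D8738 : act 7 n7143 = n8738 := rfl
theorem F27922 : act 0 n8738 = n7158 := d6_1 D8738 (iv D7158) (iv F22646)
theorem F27923 : act 1 n8738 = n7296 := d12_1 D8738 F27921 (iv D8737)
theorem F27924 : act 3 n8738 = n7313 := d21_1 D8738 F23125 (iv F25230) F25231 F23052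
theorem F27925 : act 5 n8738 = n7144 := d26_1 D8738 (iv D7144) D7143
def n8739 : Q := act 3 n7146
theorem D8739 : act 3 n7146 = n8739 := rfl
theorem F27926 : act 0 n8739 = n8651 := d2_1 D8739 (iv D8651) (iv F22655)
theorem F27927 : act 2 n8739 = n8616 := d13_1 D8739 (iv D8616) F22241 (iv F17464) D7146
def n8740 : Q := act 5 n7148
theorem D8740 : act 5 n7148 = n8740 := rfl
theorem F27928 : act 0 n8740 = n8303 := d4_1 D8740 F26370 (iv F22661)
theorem F27929 : act 1 n8740 = n7715 := d10_1 D8740 (iv D7715) F19170 (iv F17498) (iv F22662)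
theorem F27930 : act 3 n8740 = n7152 := d19_1 D8740 (iv D7152) (iv F22663)
theorem F27931 : act 4 n8740 = n7273 := d22_1 D8740 (iv D7273) (iv F22664)
theorem F27932 : act 6 n8740 = n8288 := d25_2 D7148 D8740 F26331 F20932 (iv F17492)
def n8741 : Q := act 5 n7151
theorem D8741 : act 5 n7151 = n8741 := rfl
theorem F27933 : act 2 n8741 = n7152 := d15_1 D8741 (iv D7152) (iv F22677)
theorem F27934 : act 4 n8741 = n7156 := d22_1 D8741 (iv D7156) (iv F22678)
def n8742 : Q := act 7 n7151
theorem D8742 : act 7 n7151 = n8742 := rfl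
theorem F27935 : act 1 n8742 = n8742 := d12_1 D8742 (iv D8742) F22676
theorem F27936 : act 2 n8742 = n7153 := d17_1 D8742 (iv D7153) (iv F22677)
theorem F27937 : act 4 n8742 = n7157 := d24_1 D8742 (iv D7157) (iv F22678)
theorem F27938 : act 6 n8742 = n7372 := d27_1 D8742 (iv D7372) (iv D5784) (iv F17513) D7151
def n8743 : Q := act 7 n7152
theorem D8743 : act 7 n7152 = n8743 := rfl
theorem F27939 : act 1 n8743 = n8652 := d12_1 D8743 (iv D8652) (iv F22679)
theorem F27940 : act 4 n8743 = n7158 := d24_1 D8743 (iv D7158) (iv F22680)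
theorem F27941 : act 5 n8743 = n7153 := d26_1 D8743 (iv D7153) D7152
def n8744 : Q := act 3 n7153
theorem D8744 : act 3 n7153 = n8744 := rfl
theorem F27942 : act 1 n8744 = n7154 := d8_1 D8744 (iv D7154) (iv F22681)
theorem F27943 : act 6 n8744 = n7374 := d20_2 (iv F22683) D8744 (iv D7374)
def n8745 : Q := act 2 n7154
theorem D8745 : act 2 n7154 = n8745 := rfl
theorem F27944 : act 0 n8745 = n7161 := d1_1 D8745 (iv D7161) (iv F22684)
theorem F27945 : act 3 n8745 = n8745 := d13_2 D7154 D8745 (iv D8745) (iv D7154) F17517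
theorem F27946 : act 5 n8745 = n8654 := d15_2 (iv F22685) D8745 (iv D8654)
theorem F27947 : act 6 n8745 = n7375 := d16_2 (iv F22686) D8745 (iv D7375)
def n8746 : Q := act 4 n7154
theorem D8746 : act 4 n7154 = n8746 := rfl
theorem F27948 : act 0 n8746 = n7162 := d3_1 D8746 (iv D7162) (iv F22684)
theorem F27949 : act 3 n8746 = n7160 := d18_1 D8746 (iv D7160) (iv D5588) (iv F17518) D7154
theorem F27950 : act 5 n8746 = n8045 := d22_2 (iv F22685) D8746 F25465
theorem F27951 : act 6 n8746 = n7376 := d23_2 (iv F22686) D8746 (iv D7376)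
def n8747 : Q := act 5 n7155
theorem D8747 : act 5 n7155 = n8747 := rfl
theorem F27952 : act 0 n8747 = n7392 := d4_1 D8747 (iv D7392) (iv F22687)
theorem F27953 : act 2 n8747 = n7676 := d15_1 D8747 (iv D7676) (iv F22689)
theorem F27954 : act 3 n8747 = n7156 := d19_1 D8747 (iv D7156) (iv F22690)
theorem F27955 : act 4 n8747 = n8385 := d22_1 D8747 (iv D8385) (iv F22691)
def n8748 : Q := act 1 n7156
theorem D8748 : act 1 n7156 = n8748 := rfl
theorem F27956 : act 2 n8748 = n8655 := d7_2 (iv F22692) D8748 (iv D8655) F22353 (iv F17528)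
theorem F27957 : act 5 n8748 = n8748 := d10_2 D7156 D8748 (iv D8748) (iv D7156) F17526
def n8749 : Q := act 7 n7156
theorem D8749 : act 7 n7156 = n8749 := rfl
theorem F27958 : act 2 n8749 = n7158 := d17_1 D8749 (iv D7158) (iv F22692)
theorem F27959 : act 5 n8749 = n7157 := d26_1 D8749 (iv D7157) D7156
def n8750 : Q := act 3 n7157
theorem D8750 : act 3 n7157 = n8750 := rfl
theorem F27960 : act 1 n8750 = n8750 := d8_1 D8750 (iv D8750) F22693
theorem F27961 : act 6 n8750 = n7380 := d20_2 (iv F22695) D8750 (iv D7380)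
def n8751 : Q := act 3 n7158
theorem D8751 : act 3 n7158 = n8751 := rfl
theorem F27962 : act 0 n8751 = n7313 := d2_1 D8751 (iv F27924) F27922
theorem F27963 : act 1 n8751 = n8036 := d8_1 D8751 F25438 (iv F22696)
theorem F27964 : act 5 n8751 = n7159 := d19_2 (iv F22697) D8751 (iv D7159)
theorem F27965 : act 7 n8751 = n7984 := d21_2 D7158 D8751 F25240 F19838 F17884
def n8752 : Q := act 6 n7158
theorem D8752 : act 6 n7158 = n8752 := rfl
theorem F27966 : act 1 n8752 = n8658 := d11_1 D8752 (iv D8658) (iv F22696)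
theorem F27967 : act 5 n8752 = n7382 := d25_1 D8752 (iv D7382) F18146 (iv F17530) (iv F22697)
def n8753 : Q := act 2 n7159
theorem D8753 : act 2 n7159 = n8753 := rfl
theorem F27968 : act 0 n8753 = n7317 := d1_1 D8753 (iv D7317) (iv F22698)
theorem F27969 : act 1 n8753 = n7661 := d7_1 D8753 F24270 F19851 F17535 (iv F22699)
theorem F27970 : act 6 n8753 = n7383 := d16_2 (iv F22700) D8753 (iv D7383)
theorem F27971 : act 7 n8753 = n7982 := d17_2 (iv F22701) D8753 (iv D7982)
theorem F27972 : act 4 n7665 = n8753 := d23_3 F27970 (iv F23399) (iv F24288)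
def n8754 : Q := act 4 n7159
theorem D8754 : act 4 n7159 = n8754 := rfl
theorem F27973 : act 0 n8754 = n7316 := d3_1 D8754 F23133 (iv F22698)
theorem F27974 : act 1 n8754 = n7160 := d9_1 D8754 (iv D7160) (iv F22699)
theorem F27975 : act 2 n8754 = n7665 := d14_1 D8754 F27972 (iv D8753)
theorem F27976 : act 6 n8754 = n7384 := d23_2 (iv F22700) D8754 (iv D7384)
theorem F27977 : act 7 n8754 = n7983 := d24_2 (iv F22701) D8754 (iv D7983)
def n8755 : Q := act 3 n7163
theorem D8755 : act 3 n7163 = n8755 := rfl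
def n8756 : Q := act 6 n7163
theorem D8756 : act 6 n7163 = n8756 := rfl
theorem F27978 : act 0 n8756 = n7286 := d5_1 D8756 (iv F27394) F27390
theorem F27979 : act 2 n8756 = n7181 := d16_1 D8756 (iv D7181) (iv F22714)
theorem F27980 : act 4 n8756 = n7170 := d23_1 D8756 (iv D7170) (iv F22715)
theorem F27981 : act 7 n8756 = n7164 := d27_2 D7163 D8756 (iv D7164) (iv D5594) D5593
def n8757 : Q := act 5 n7164
theorem D8757 : act 5 n7164 = n8757 := rfl
theorem F27982 : act 0 n8757 = n7285 := d4_1 D8757 (iv D7285) (iv F22716)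
theorem F27983 : act 2 n8757 = n7182 := d15_1 D8757 (iv D7182) (iv F22717)
theorem F27984 : act 3 n8757 = n7271 := d19_1 D8757 (iv D7271) (iv F22718)
theorem F27985 : act 4 n8757 = n7173 := d22_1 D8757 (iv D7173) (iv F22719)
theorem F27986 : act 6 n8757 = n7165 := d25_2 D7164 D8757 (iv D7165) (iv D5595) (iv F17558)
def n8758 : Q := act 1 n7165
theorem D8758 : act 1 n7165 = n8758 := rfl
theorem F27987 : act 4 n8758 = n7179 := d9_2 (iv F22721) D8758 (iv D7179)
theorem F27988 : act 5 n8758 = n7391 := d10_2 D7165 D8758 (iv D7391) (iv D5808) (iv F17559)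
def n8759 : Q := act 7 n7166
theorem D8759 : act 7 n7166 = n8759 := rfl
theorem F27989 : act 0 n8759 = n7167 := d6_1 D8759 (iv D7167) (iv F22722)
theorem F27990 : act 2 n8759 = n7526 := d17_1 D8759 (iv D7526) (iv F22723)
theorem F27991 : act 4 n8759 = n8384 := d24_1 D8759 (iv D8384) (iv F22724)
def n8760 : Q := act 3 n7167
theorem D8760 : act 3 n7167 = n8760 := rfl
theorem F27992 : act 1 n8760 = n7169 := d8_1 D8760 (iv D7169) (iv F22725)
def n8761 : Q := act 6 n7167
theorem D8761 : act 6 n7167 = n8761 := rfl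
theorem F27993 : act 1 n8761 = n7170 := d11_1 D8761 (iv D7170) (iv F22725)
theorem F27994 : act 2 n8761 = n7529 := d16_1 D8761 (iv D7529) (iv F22726)
theorem F27995 : act 7 n8761 = n7168 := d27_2 D7167 D8761 (iv D7168) (iv D5598) D5597
def n8762 : Q := act 5 n7168
theorem D8762 : act 5 n7168 = n8762 := rfl
theorem F27996 : act 2 n8762 = n7531 := d15_1 D8762 (iv D7531) (iv F22728)
theorem F27997 : act 6 n8762 = n7392 := d25_2 D7168 D8762 (iv D7392) (iv D5809) (iv F17569)
def n8763 : Q := act 2 n7169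
theorem D8763 : act 2 n7169 = n8763 := rfl
theorem F27998 : act 0 n8763 = n8207 := d1_1 D8763 (iv F27408) F27407
theorem F27999 : act 3 n8763 = n7186 := d13_2 D7169 D8763 (iv D7186) (iv D5610) (iv F17570)
theorem F28000 : act 7 n8763 = n8591 := d17_2 F26102 D8763 F27408
def n8764 : Q := act 4 n7169
theorem D8764 : act 4 n7169 = n8764 := rfl
def n8765 : Q := act 6 n7169
theorem D8765 : act 6 n7169 = n8765 := rfl
theorem F28001 : act 3 n8765 = n7170 := d20_1 D8765 (iv D7170) D7169
def n8766 : Q := act 5 n7170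
theorem D8766 : act 5 n7170 = n8766 := rfl
theorem F28002 : act 2 n8766 = n7189 := d15_1 D8766 (iv D7189) (iv F22729)
theorem F28003 : act 7 n8766 = n7173 := d26_2 (iv F22730) D8766 (iv D7173)
def n8767 : Q := act 6 n7171
theorem D8767 : act 6 n7171 = n8767 := rfl
theorem F28004 : act 0 n8767 = n7279 := d5_1 D8767 (iv D7279) (iv F22731)
theorem F28005 : act 1 n8767 = n8304 := d11_1 D8767 F26374 (iv F22732)
theorem F28006 : act 2 n8767 = n8177 := d16_1 D8767 F25982 (iv F22733)
theorem F28007 : act 3 n8767 = n7269 := d20_1 D8767 (iv D7269) (iv F22734)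
theorem F28008 : act 4 n8767 = n7172 := d23_1 D8767 (iv D7172) D7171
def n8768 : Q := act 5 n7172
theorem D8768 : act 5 n7172 = n8768 := rfl
theorem F28009 : act 3 n8768 = n7173 := d19_1 D8768 (iv D7173) (iv F22736)
theorem F28010 : act 6 n8768 = n7177 := d25_2 D7172 D8768 (iv D7177) (iv D5604) (iv F17571)
def n8769 : Q := act 7 n7172
theorem D8769 : act 7 n7172 = n8769 := rfl
def n8770 : Q := act 1 n7173
theorem D8770 : act 1 n7173 = n8770 := rfl
theorem F28011 : act 6 n8770 = n7179 := d11_2 (iv F22738) D8770 (iv D7179)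
def n8771 : Q := act 6 n7174
theorem D8771 : act 6 n7174 = n8771 := rfl
theorem F28012 : act 2 n8771 = n7176 := d16_1 D8771 (iv D7176) (iv F22739)
theorem F28013 : act 3 n8771 = n8443 := d20_1 D8771 (iv D8443) (iv F22740)
theorem F28014 : act 4 n8771 = n7175 := d23_1 D8771 (iv D7175) D7174
def n8772 : Q := act 5 n7175
theorem D8772 : act 5 n7175 = n8772 := rfl
theorem F28015 : act 2 n8772 = n7177 := d15_1 D8772 (iv D7177) (iv F22742)
theorem F28016 : act 3 n8772 = n7197 := d19_1 D8772 (iv D7197) (iv F22743)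
def n8773 : Q := act 7 n7175
theorem D8773 : act 7 n7175 = n8773 := rfl
theorem F28017 : act 2 n8773 = n7178 := d17_1 D8773 (iv D7178) (iv F22742)
def n8774 : Q := act 5 n7176
theorem D8774 : act 5 n7176 = n8774 := rfl
theorem F28018 : act 4 n8774 = n7177 := d22_1 D8774 (iv D7177) (iv F22745)
def n8775 : Q := act 7 n7176
theorem D8775 : act 7 n7176 = n8775 := rfl
theorem F28019 : act 1 n8775 = n7402 := d12_1 D8775 (iv D7402) (iv F22744)
theorem F28020 : act 3 n8775 = n8416 := d21_1 D8775 F26788 (iv F27075) F27077 F26528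
theorem F28021 : act 4 n8775 = n7178 := d24_1 D8775 (iv D7178) (iv F22745)
def n8776 : Q := act 1 n7177
theorem D8776 : act 1 n7177 = n8776 := rfl
theorem F28022 : act 3 n8776 = n7179 := d8_2 (iv F22746) D8776 (iv D7179)
theorem F28023 : act 5 n8776 = n7403 := d10_2 D7177 D8776 (iv D7403) (iv D5816) (iv F17575)
def n8777 : Q := act 7 n7177
theorem D8777 : act 7 n7177 = n8777 := rfl
theorem F28024 : act 5 n8777 = n7178 := d26_1 D8777 (iv D7178) D7177
def n8778 : Q := act 0 n7179
theorem D8778 : act 0 n7179 = n8778 := rfl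
theorem F28025 : act 5 n8778 = n7405 := d4_2 (iv F22748) D8778 (iv D7405)
def n8779 : Q := act 2 n7179
theorem D8779 : act 2 n7179 = n8779 := rfl
theorem F28026 : act 1 n8779 = n7204 := d7_1 D8779 (iv D7204) (iv D5622) (iv F17577) D7179
theorem F28027 : act 5 n8779 = n7406 := d15_2 (iv F22748) D8779 (iv D7406)
def n8780 : Q := act 2 n7180
theorem D8780 : act 2 n7180 = n8780 := rfl
theorem F28028 : act 7 n8780 = n8780 := d17_2 F22750 D8780 (iv D8780)
def n8781 : Q := act 4 n7180
theorem D8781 : act 4 n7180 = n8781 := rfl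
theorem F28029 : act 0 n8781 = n8218 := d3_1 D8781 (iv F27434) F27432
theorem F28030 : act 1 n8781 = n7549 := d9_1 D8781 (iv D7549) (iv F22749)
theorem F28031 : act 3 n8781 = n7187 := d18_1 D8781 (iv D7187) (iv D5610) (iv F17579) D7180
theorem F28032 : act 7 n8781 = n8781 := d24_2 F22750 D8781 (iv D8781)
def n8782 : Q := act 6 n7180
theorem D8782 : act 6 n7180 = n8782 := rfl
theorem F28033 : act 1 n8782 = n7550 := d11_1 D8782 (iv D7550) (iv F22749)
theorem F28034 : act 3 n8782 = n7181 := d20_1 D8782 (iv D7181) D7180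
def n8783 : Q := act 5 n7181
theorem D8783 : act 5 n7181 = n8783 := rfl
theorem F28035 : act 4 n8783 = n7189 := d22_1 D8783 (iv D7189) (iv F22752)
theorem F28036 : act 7 n8783 = n7182 := d26_2 (iv F22753) D8783 (iv D7182)
def n8784 : Q := act 1 n7182
theorem D8784 : act 1 n7182 = n8784 := rfl
theorem F28037 : act 4 n8784 = n7194 := d9_2 (iv F22754) D8784 (iv D7194)
theorem F28038 : act 5 n8784 = n7553 := d10_2 D7182 D8784 (iv D7553) (iv D5946) (iv F17580)
theorem F28039 : act 6 n8784 = n7185 := d11_2 (iv F22755) D8784 (iv D7185)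
def n8785 : Q := act 1 n7183
theorem D8785 : act 1 n7183 = n8785 := rfl
theorem F28040 : act 3 n8785 = n7185 := d8_2 (iv F22757) D8785 (iv D7185)
theorem F28041 : act 4 n8785 = n8626 := d9_2 (iv F22758) D8785 (iv D8626)
theorem F28042 : act 5 n8785 = n7220 := d10_2 D7183 D8785 (iv D7220) (iv D5640) (iv F17583)
theorem F28043 : act 7 n8691 = n8785 := d26_0 F28042 F22865 D8691
def n8786 : Q := act 7 n7183
theorem D8786 : act 7 n7183 = n8786 := rfl
theorem F28044 : act 0 n8786 = n7973 := d6_1 D8786 F25200 (iv F22756)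
theorem F28045 : act 1 n8786 = n8691 := d12_1 D8786 F28043 (iv D8785)
theorem F28046 : act 4 n8786 = n8627 := d24_1 D8786 (iv D8627) (iv F22758)
theorem F28047 : act 5 n8786 = n7184 := d26_1 D8786 (iv D7184) D7183
def n8787 : Q := act 0 n7185
theorem D8787 : act 0 n7185 = n8787 := rfl
theorem F28048 : act 4 n8787 = n7203 := d3_2 (iv F22763) D8787 (iv D7203)
theorem F28049 : act 5 n8787 = n7221 := d4_2 (iv F22764) D8787 (iv D7221)
def n8788 : Q := act 2 n7185
theorem D8788 : act 2 n7185 = n8788 := rfl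
theorem F28050 : act 4 n8788 = n7204 := d14_2 (iv F22763) D8788 (iv D7204)
theorem F28051 : act 5 n8788 = n7222 := d15_2 (iv F22764) D8788 (iv D7222)
def n8789 : Q := act 1 n7186
theorem D8789 : act 1 n7186 = n8789 := rfl
theorem F28052 : act 2 n8789 = n7560 := d7_2 D7186 D8789 (iv D7560) (iv D5952) (iv F17588)
theorem F28053 : act 7 n8789 = n7205 := d12_2 (iv F22766) D8789 (iv D7205)
def n8790 : Q := act 4 n7186
theorem D8790 : act 4 n7186 = n8790 := rfl
theorem F28054 : act 0 n8790 = n8197 := d3_1 D8790 F26066 (iv F22765)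
theorem F28055 : act 2 n8790 = n7187 := d14_1 D8790 (iv D7187) D7186
theorem F28056 : act 5 n8790 = n8759 := d22_2 F26674 D8790 F27991
theorem F28057 : act 7 n8790 = n7206 := d24_2 (iv F22766) D8790 (iv D7206)
def n8791 : Q := act 6 n7186
theorem D8791 : act 6 n7186 = n8791 := rfl
theorem F28058 : act 0 n8791 = n8208 := d5_1 D8791 (iv D8208) (iv F22765)
theorem F28059 : act 2 n8791 = n7188 := d16_1 D8791 (iv D7188) D7186
theorem F28060 : act 7 n8791 = n8107 := d27_2 (iv F22766) D8791 (iv D8107) (iv D6483) (iv F17618)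
def n8792 : Q := act 6 n7187
theorem D8792 : act 6 n7187 = n8792 := rfl
theorem F28061 : act 0 n8792 = n8219 := d5_1 D8792 (iv D8219) (iv F22767)
theorem F28062 : act 1 n8792 = n7563 := d11_1 D8792 (iv D7563) (iv F22768)
theorem F28063 : act 4 n8792 = n7188 := d23_1 D8792 (iv D7188) D7187
theorem F28064 : act 7 n8792 = n8113 := d27_2 (iv F22769) D8792 (iv D8113) (iv D6486) (iv F17622)
def n8793 : Q := act 5 n7188
theorem D8793 : act 5 n7188 = n8793 := rfl
theorem F28065 : act 0 n8793 = n8230 := d4_1 D8793 (iv D8230) (iv F22770)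
theorem F28066 : act 3 n8793 = n7189 := d19_1 D8793 (iv D7189) (iv F22772)
theorem F28067 : act 7 n8793 = n8118 := d26_2 (iv F22773) D8793 (iv D8118)
def n8794 : Q := act 1 n7189
theorem D8794 : act 1 n7189 = n8794 := rfl
theorem F28068 : act 5 n8794 = n7566 := d10_2 D7189 D8794 (iv D7566) (iv D5955) (iv F17590)
theorem F28069 : act 7 n8794 = n7194 := d12_2 (iv F22774) D8794 (iv D7194)
def n8795 : Q := act 5 n7190
theorem D8795 : act 5 n7190 = n8795 := rfl
theorem F28070 : act 2 n8795 = n7192 := d15_1 D8795 (iv D7192) (iv F22775)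
theorem F28071 : act 6 n8795 = n7197 := d25_2 D7190 D8795 (iv D7197) (iv D5618) (iv F17592)
def n8796 : Q := act 5 n7191
theorem D8796 : act 5 n7191 = n8796 := rfl
theorem F28072 : act 0 n8796 = n8620 := d4_1 D8796 (iv D8620) (iv F22776)
theorem F28073 : act 3 n8796 = n8624 := d19_1 D8796 (iv D8624) (iv F22778)
theorem F28074 : act 4 n8796 = n7192 := d22_1 D8796 (iv D7192) (iv F22779)
theorem F28075 : act 6 n8796 = n7199 := d25_2 D7191 D8796 (iv D7199) (iv D5619) (iv F17597)
def n8797 : Q := act 7 n7191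
theorem D8797 : act 7 n7191 = n8797 := rfl
theorem F28076 : act 0 n8797 = n8233 := d6_1 D8797 F26175 (iv F22776)
theorem F28077 : act 1 n8797 = n7569 := d12_1 D8797 (iv D7569) (iv F22777)
theorem F28078 : act 2 n8797 = n8452 := d17_1 D8797 F26898 F24317
theorem F28079 : act 4 n8797 = n7193 := d24_1 D8797 (iv D7193) (iv F22779)
theorem F28080 : act 6 n8797 = n7208 := d27_1 D8797 (iv D7208) (iv D5628) (iv F17598) D7191
def n8798 : Q := act 1 n7192
theorem D8798 : act 1 n7192 = n8798 := rfl
theorem F28081 : act 3 n8798 = n7194 := d8_2 (iv F22780) D8798 (iv D7194)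
theorem F28082 : act 5 n8798 = n7478 := d10_2 D7192 D8798 F23676 (iv D5958) (iv F17599)
theorem F28083 : act 6 n8798 = n7201 := d11_2 (iv F22781) D8798 (iv D7201)
theorem F28084 : act 0 n7292 = n8798 := d5_3 F28083 (iv F22806) D7292
def n8799 : Q := act 7 n7192
theorem D8799 : act 7 n7192 = n8799 := rfl
theorem F28085 : act 0 n8799 = n8234 := d6_1 D8799 (iv F27459) F27456
theorem F28086 : act 3 n8799 = n8118 := d21_1 D8799 (iv F28067) F28066 F22774 (iv F22780)
theorem F28087 : act 5 n8799 = n7193 := d26_1 D8799 (iv D7193) D7192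
theorem F28088 : act 6 n8799 = n8122 := d27_1 D8799 F26561 F26559 (iv D7202) (iv F22781)
def n8800 : Q := act 0 n7194
theorem D8800 : act 0 n7194 = n8800 := rfl
theorem F28089 : act 3 n8800 = n7292 := d2_2 F28081 D8800 F28084
theorem F28090 : act 5 n8800 = n7513 := d4_2 (iv F22786) D8800 F23786
theorem F28091 : act 6 n8800 = n7203 := d5_2 (iv F22787) D8800 (iv D7203)
def n8801 : Q := act 2 n7194
theorem D8801 : act 2 n7194 = n8801 := rfl
theorem F28092 : act 5 n8801 = n7571 := d15_2 (iv F22786) D8801 (iv D7571)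
theorem F28093 : act 6 n8801 = n7204 := d16_2 (iv F22787) D8801 (iv D7204)
def n8802 : Q := act 5 n7195
theorem D8802 : act 5 n7195 = n8802 := rfl
theorem F28094 : act 2 n8802 = n7224 := d15_1 D8802 (iv D7224) (iv F22789)
def n8803 : Q := act 7 n7195
theorem D8803 : act 7 n7195 = n8803 := rfl
theorem F28095 : act 1 n8803 = n7198 := d12_1 D8803 (iv D7198) (iv F22788)
theorem F28096 : act 2 n8803 = n7225 := d17_1 D8803 (iv D7225) (iv F22789)
theorem F28097 : act 6 n8803 = n7213 := d27_1 D8803 (iv D7213) (iv D5633) (iv F17603) D7195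
def n8804 : Q := act 5 n7196
theorem D8804 : act 5 n7196 = n8804 := rfl
theorem F28098 : act 0 n8804 = n8612 := d4_1 D8804 (iv D8612) (iv F22790)
theorem F28099 : act 2 n8804 = n7199 := d15_1 D8804 (iv D7199) (iv F22791)
theorem F28100 : act 4 n8804 = n7197 := d22_1 D8804 (iv D7197) (iv F22792)
def n8805 : Q := act 7 n7196
theorem D8805 : act 7 n7196 = n8805 := rfl
theorem F28101 : act 0 n8805 = n8613 := d6_1 D8805 (iv D8613) (iv F22790)
theorem F28102 : act 2 n8805 = n7200 := d17_1 D8805 (iv D7200) (iv F22791)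
theorem F28103 : act 4 n8805 = n7198 := d24_1 D8805 (iv D7198) (iv F22792)
theorem F28104 : act 6 n8805 = n7216 := d27_1 D8805 (iv D7216) (iv D5635) (iv F17606) D7196
def n8806 : Q := act 1 n7197
theorem D8806 : act 1 n7197 = n8806 := rfl
def n8807 : Q := act 7 n7197
theorem D8807 : act 7 n7197 = n8807 := rfl
theorem F28105 : act 2 n8807 = n7202 := d17_1 D8807 (iv D7202) (iv F22793)
theorem F28106 : act 5 n8807 = n7198 := d26_1 D8807 (iv D7198) D7197
def n8808 : Q := act 3 n7198
theorem D8808 : act 3 n7198 = n8808 := rfl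
theorem F28107 : act 6 n8808 = n7218 := d20_2 (iv F22795) D8808 (iv D7218)
def n8809 : Q := act 1 n7199
theorem D8809 : act 1 n7199 = n8809 := rfl
theorem F28108 : act 0 n8809 = n7283 := d0_1 D8809 F23038 F27515 (iv D8621) (iv F22796)
theorem F28109 : act 3 n8809 = n8626 := d8_2 (iv F22797) D8809 (iv D8626)
theorem F28110 : act 4 n8809 = n7201 := d9_2 (iv F22798) D8809 (iv D7201)
theorem F28111 : act 5 n8809 = n7226 := d10_2 D7199 D8809 (iv D7226) (iv D5646) (iv F17609)
theorem F28112 : act 7 n7270 = n8809 := d26_0 F28111 F22881 D7270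
def n8810 : Q := act 7 n7199
theorem D8810 : act 7 n7199 = n8810 := rfl
theorem F28113 : act 0 n8810 = n8622 := d6_1 D8810 (iv D8622) (iv F22796)
theorem F28114 : act 1 n8810 = n7270 := d12_1 D8810 F28112 (iv D8809)
theorem F28115 : act 3 n8810 = n8712 := d21_1 D8810 (iv D8712) F27538 (iv D8627) (iv F22797)
theorem F28116 : act 4 n8810 = n7202 := d24_1 D8810 (iv D7202) (iv F22798)
theorem F28117 : act 5 n8810 = n7200 := d26_1 D8810 (iv D7200) D7199
def n8811 : Q := act 2 n7201
theorem D8811 : act 2 n7201 = n8811 := rfl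
theorem F28118 : act 0 n8811 = n7288 := d1_1 D8811 F23048 F22806
theorem F28119 : act 5 n8811 = n7227 := d15_2 (iv F22805) D8811 (iv D7227)
theorem F28120 : act 7 n8811 = n7271 := d17_2 F22807 D8811 F23006
def n8812 : Q := act 2 n7203
theorem D8812 : act 2 n7203 = n8812 := rfl
theorem F28121 : act 0 n8812 = n7204 := d1_1 D8812 (iv D7204) D7203
theorem F28122 : act 5 n8812 = n7228 := d15_2 (iv F22811) D8812 (iv D7228)
def n8813 : Q := act 3 n7204
theorem D8813 : act 3 n7204 = n8813 := rfl
theorem F28123 : act 5 n8813 = n7229 := d19_2 (iv F22812) D8813 (iv D7229)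
def n8814 : Q := act 0 n7205
theorem D8814 : act 0 n7205 = n8814 := rfl
theorem F28124 : act 1 n8814 = n8204 := d0_2 D7205 D8814 F26091 F20733 (iv F17616)
theorem F28125 : act 2 n8814 = n7579 := d1_2 (iv F22813) D8814 (iv D7579)
theorem F28126 : act 3 n8814 = n8588 := d2_2 (iv F22814) D8814 F27395
theorem F28127 : act 6 n8814 = n8104 := d5_2 (iv F22815) D8814 (iv D8104)
def n8815 : Q := act 5 n7205
theorem D8815 : act 5 n7205 = n8815 := rfl
theorem F28128 : act 2 n8815 = n7581 := d15_1 D8815 (iv D7581) (iv F22813)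
theorem F28129 : act 3 n8815 = n8589 := d19_1 D8815 (iv D8589) (iv F22814)
theorem F28130 : act 6 n8815 = n8815 := d25_2 (iv F22815) D8815 (iv D8815) F22815 F20313
def n8816 : Q := act 3 n7208
theorem D8816 : act 3 n7208 = n8816 := rfl
theorem F28131 : act 0 n8816 = n8221 := d2_1 D8816 F26140 (iv F22827)
theorem F28132 : act 1 n8816 = n7586 := d8_1 D8816 (iv D7586) (iv F22828)
theorem F28133 : act 4 n8816 = n8112 := d18_2 (iv F22830) D8816 (iv D8112) F20324 (iv F17642)
theorem F28134 : act 5 n8816 = n8115 := d19_2 (iv F22831) D8816 F25768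
theorem F28135 : act 7 n8816 = n8816 := d21_2 D7208 D8816 (iv D8816) (iv D7208) F17637
def n8817 : Q := act 5 n7209
theorem D8817 : act 5 n7209 = n8817 := rfl
theorem F28136 : act 0 n8817 = n7212 := d4_1 D8817 (iv D7212) (iv F22832)
theorem F28137 : act 2 n8817 = n7231 := d15_1 D8817 (iv D7231) (iv F22834)
theorem F28138 : act 4 n8817 = n8802 := d22_1 D8817 (iv D8802) (iv F22835)
def n8818 : Q := act 7 n7209
theorem D8818 : act 7 n7209 = n8818 := rfl
theorem F28139 : act 0 n8818 = n7213 := d6_1 D8818 (iv D7213) (iv F22832)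
theorem F28140 : act 1 n8818 = n8805 := d12_1 D8818 (iv D8805) (iv F22833)
theorem F28141 : act 2 n8818 = n7232 := d17_1 D8818 (iv D7232) (iv F22834)
theorem F28142 : act 4 n8818 = n8803 := d24_1 D8818 (iv D8803) (iv F22835)
def n8819 : Q := act 5 n7210
theorem D8819 : act 5 n7210 = n8819 := rfl
theorem F28143 : act 0 n8819 = n8802 := d4_1 D8819 (iv D8802) (iv F22836)
theorem F28144 : act 2 n8819 = n7234 := d15_1 D8819 (iv D7234) (iv F22838)
theorem F28145 : act 3 n8819 = n8173 := d19_1 D8819 (iv D8173) (iv F22839)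
theorem F28146 : act 4 n8819 = n7212 := d22_1 D8819 (iv D7212) (iv F22840)
theorem F28147 : act 6 n8819 = n8162 := d25_2 D7210 D8819 (iv D8162) (iv D6550) (iv F17652)
def n8820 : Q := act 7 n7210
theorem D8820 : act 7 n7210 = n8820 := rfl
theorem F28148 : act 0 n8820 = n8803 := d6_1 D8820 (iv D8803) (iv F22836)
theorem F28149 : act 1 n8820 = n7216 := d12_1 D8820 (iv D7216) (iv F22837)
theorem F28150 : act 2 n8820 = n7235 := d17_1 D8820 (iv D7235) (iv F22838)
theorem F28151 : act 4 n8820 = n7213 := d24_1 D8820 (iv D7213) (iv F22840)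
theorem F28152 : act 6 n8820 = n8818 := d27_1 D8820 (iv D8818) (iv D7209) (iv F17650) D7210
def n8821 : Q := act 5 n7211
theorem D8821 : act 5 n7211 = n8821 := rfl
theorem F28153 : act 2 n8821 = n7236 := d15_1 D8821 (iv D7236) (iv F22842)
theorem F28154 : act 4 n8821 = n8162 := d22_1 D8821 (iv D8162) (iv F22843)
theorem F28155 : act 6 n8821 = n7212 := d25_2 D7211 D8821 (iv D7212) (iv D5633) D5632
def n8822 : Q := act 7 n7211
theorem D8822 : act 7 n7211 = n8822 := rfl
theorem F28156 : act 1 n8822 = n8164 := d12_1 D8822 (iv D8164) (iv F22841)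
theorem F28157 : act 2 n8822 = n7237 := d17_1 D8822 (iv D7237) (iv F22842)
theorem F28158 : act 4 n8822 = n8163 := d24_1 D8822 (iv D8163) (iv F22843)
def n8823 : Q := act 1 n7212
theorem D8823 : act 1 n7212 = n8823 := rfl
theorem F28159 : act 2 n8823 = n8130 := d7_2 (iv F22844) D8823 (iv F26328) F26329 (iv D7238)
theorem F28160 : act 3 n8823 = n8612 := d8_2 F26220 D8823 F27477
theorem F28161 : act 5 n8823 = n7217 := d10_2 D7212 D8823 (iv D7217) (iv D5636) (iv F17656)
def n8824 : Q := act 7 n7212
theorem D8824 : act 7 n7212 = n8824 := rfl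
theorem F28162 : act 2 n8824 = n7239 := d17_1 D8824 (iv D7239) (iv F22844)
theorem F28163 : act 5 n8824 = n7213 := d26_1 D8824 (iv D7213) D7212
def n8825 : Q := act 3 n7213
theorem D8825 : act 3 n7213 = n8825 := rfl
theorem F28164 : act 1 n8825 = n7218 := d8_1 D8825 (iv D7218) (iv F22845)
def n8826 : Q := act 5 n7214
theorem D8826 : act 5 n7214 = n8826 := rfl
theorem F28165 : act 0 n8826 = n8253 := d4_1 D8826 (iv F27487) F27483
theorem F28166 : act 2 n8826 = n8826 := d15_1 D8826 (iv D8826) F22848
theorem F28167 : act 3 n8826 = n7215 := d19_1 D8826 (iv D7215) (iv F22849)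
theorem F28168 : act 4 n8826 = n8614 := d22_1 D8826 F27487 F26226
theorem F28169 : act 6 n8826 = n8124 := d25_2 D7214 D8826 F25796 (iv D6529) (iv F17660)
def n8827 : Q := act 7 n7214
theorem D8827 : act 7 n7214 = n8827 := rfl
theorem F28170 : act 1 n8827 = n8174 := d12_1 D8827 (iv D8174) (iv F22847)
theorem F28171 : act 2 n8827 = n8827 := d17_1 D8827 (iv D8827) F22848
theorem F28172 : act 6 n8827 = n8402 := d27_1 D8827 (iv D8402) (iv D6784) F17661 D7214
def n8828 : Q := act 3 n7216
theorem D8828 : act 3 n7216 = n8828 := rfl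
def n8829 : Q := act 4 n7218
theorem D8829 : act 4 n7218 = n8829 := rfl
def n8830 : Q := act 2 n7219
theorem D8830 : act 2 n7219 = n8830 := rfl
theorem F28173 : act 1 n8830 = n7837 := d7_1 D8830 (iv D7837) F19396 (iv F17753) (iv F22859)
theorem F28174 : act 6 n8830 = n8716 := d16_2 (iv F22860) D8830 F27817
theorem F28175 : act 7 n8830 = n8830 := d17_2 F22861 D8830 (iv D8830)
def n8831 : Q := act 0 n7220
theorem D8831 : act 0 n7220 = n8831 := rfl
theorem F28176 : act 1 n8831 = n7266 := d0_2 D7220 D8831 (iv D7266) (iv D5684) (iv F17676)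
theorem F28177 : act 3 n8831 = n7221 := d2_2 (iv F22862) D8831 (iv D7221)
theorem F28178 : act 4 n8831 = n7284 := d3_2 (iv F22863) D8831 F23041
theorem F28179 : act 6 n8831 = n7497 := d5_2 (iv F22864) D8831 F23742
theorem F28180 : act 7 n8831 = n8688 := d6_2 (iv F22865) D8831 F27725
def n8832 : Q := act 2 n7220
theorem D8832 : act 2 n7220 = n8832 := rfl
theorem F28181 : act 1 n8832 = n7613 := d7_1 D8832 F24112 (iv D7049) (iv F17677) D7220
theorem F28182 : act 4 n8832 = n8647 := d14_2 (iv F22863) D8832 (iv D8647)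
theorem F28183 : act 6 n8832 = n7591 := d16_2 (iv F22864) D8832 (iv D7591)
theorem F28184 : act 7 n8832 = n7247 := d17_2 (iv F22865) D8832 F22941
def n8833 : Q := act 2 n7221
theorem D8833 : act 2 n7221 = n8833 := rfl
theorem F28185 : act 0 n8833 = n7222 := d1_1 D8833 (iv D7222) D7221
theorem F28186 : act 1 n8833 = n7842 := d7_1 D8833 F24777 F21795 F19325 (iv F22866)
theorem F28187 : act 4 n8833 = n7228 := d14_2 (iv F22867) D8833 (iv D7228)
theorem F28188 : act 6 n8833 = n7515 := d16_2 (iv F22868) D8833 F23793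
theorem F28189 : act 7 n8833 = n7841 := d17_2 F25436 D8833 (iv F25434)
def n8834 : Q := act 3 n7222
theorem D8834 : act 3 n7222 = n8834 := rfl
theorem F28190 : act 1 n8834 = n7425 := d8_1 D8834 (iv D7425) (iv F22869)
theorem F28191 : act 6 n8834 = n7593 := d20_2 (iv F22871) D8834 (iv D7593)
def n8835 : Q := act 5 n7223
theorem D8835 : act 5 n7223 = n8835 := rfl
theorem F28192 : act 3 n8835 = n7429 := d19_1 D8835 (iv D7429) (iv F22873)
theorem F28193 : act 6 n8835 = n7224 := d25_2 D7223 D8835 (iv D7224) (iv D5644) D5643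
def n8836 : Q := act 7 n7223
theorem D8836 : act 7 n7223 = n8836 := rfl
theorem F28194 : act 1 n8836 = n7599 := d12_1 D8836 (iv D7599) (iv F22872)
theorem F28195 : act 6 n8836 = n7237 := d27_1 D8836 (iv D7237) (iv D5655) (iv F17691) D7223
def n8837 : Q := act 7 n7224
theorem D8837 : act 7 n7224 = n8837 := rfl
theorem F28196 : act 1 n8837 = n7268 := d12_1 D8837 (iv F24463) F24460
theorem F28197 : act 5 n8837 = n7225 := d26_1 D8837 (iv D7225) D7224
def n8838 : Q := act 2 n7226
theorem D8838 : act 2 n7226 = n8838 := rfl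
theorem F28198 : act 0 n8838 = n7282 := d1_1 D8838 F23035 (iv F22877)
theorem F28199 : act 4 n8838 = n7227 := d14_2 (iv F22879) D8838 (iv D7227)
theorem F28200 : act 6 n8838 = n7468 := d16_2 (iv F22880) D8838 F23646
theorem F28201 : act 7 n8838 = n7269 := d17_2 (iv F22881) D8838 F23000
def n8839 : Q := act 3 n7227
theorem D8839 : act 3 n7227 = n8839 := rfl
theorem F28202 : act 0 n8839 = n7289 := d2_1 D8839 (iv D7289) (iv F22882)
theorem F28203 : act 2 n8839 = n7229 := d13_1 D8839 (iv D7229) (iv D5650) (iv F17709) D7227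
theorem F28204 : act 6 n8839 = n7476 := d20_2 (iv F22883) D8839 (iv D7476)
def n8840 : Q := act 3 n7228
theorem D8840 : act 3 n7228 = n8840 := rfl
theorem F28205 : act 0 n8840 = n7229 := d2_1 D8840 (iv D7229) (iv F22885)
theorem F28206 : act 2 n8840 = n7289 := d13_1 D8840 (iv D7289) F17882 (iv F17713) D7228
theorem F28207 : act 6 n8840 = n7509 := d20_2 (iv F22886) D8840 F23777
def n8841 : Q := act 4 n7229
theorem D8841 : act 4 n7229 = n8841 := rfl
theorem F28208 : act 1 n8841 = n7431 := d9_1 D8841 (iv D7431) (iv F22887)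
theorem F28209 : act 6 n8841 = n7600 := d23_2 (iv F22888) D8841 (iv D7600)
def n8842 : Q := act 7 n7229
theorem D8842 : act 7 n7229 = n8842 := rfl
theorem F28210 : act 1 n8842 = n7432 := d12_1 D8842 (iv D7432) (iv F22887)
def n8843 : Q := act 5 n7230
theorem D8843 : act 5 n7230 = n8843 := rfl
theorem F28211 : act 0 n8843 = n7236 := d4_1 D8843 (iv D7236) (iv F22889)
theorem F28212 : act 3 n8843 = n7244 := d19_1 D8843 (iv D7244) (iv F22890)
theorem F28213 : act 4 n8843 = n8835 := d22_1 D8843 (iv D8835) (iv F22891)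
theorem F28214 : act 6 n8843 = n7231 := d25_2 D7230 D8843 (iv D7231) (iv D5652) D5651
def n8844 : Q := act 7 n7230
theorem D8844 : act 7 n7230 = n8844 := rfl
theorem F28215 : act 0 n8844 = n7237 := d6_1 D8844 (iv D7237) (iv F22889)
theorem F28216 : act 4 n8844 = n8836 := d24_1 D8844 (iv D8836) (iv F22891)
def n8845 : Q := act 1 n7231
theorem D8845 : act 1 n7231 = n8845 := rfl
theorem F28217 : act 0 n8845 = n7256 := d0_1 D8845 F22958 F22918 (iv D7238) (iv F22892)
theorem F28218 : act 3 n8845 = n7239 := d8_2 (iv F22893) D8845 F22920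
theorem F28219 : act 4 n8845 = n7732 := d9_2 (iv F22894) D8845 F24460
theorem F28220 : act 5 n8845 = n7240 := d10_2 D7231 D8845 F22923 F17750 (iv F17721)
theorem F28221 : act 7 n7254 = n8845 := d26_0 F28220 F22925 (iv F22956)
def n8846 : Q := act 7 n7231
theorem D8846 : act 7 n7231 = n8846 := rfl
theorem F28222 : act 0 n8846 = n7239 := d6_1 D8846 (iv D7239) (iv F22892)
theorem F28223 : act 1 n8846 = n7254 := d12_1 D8846 F28221 (iv D8845)
theorem F28224 : act 3 n8846 = n7256 := d21_1 D8846 (iv D7256) (iv F22915) (iv F22919) (iv F22893)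
theorem F28225 : act 4 n8846 = n8837 := d24_1 D8846 (iv D8837) (iv F22894)
theorem F28226 : act 5 n8846 = n7232 := d26_1 D8846 (iv D7232) D7231
def n8847 : Q := act 5 n7233
theorem D8847 : act 5 n7233 = n8847 := rfl
theorem F28227 : act 0 n8847 = n8835 := d4_1 D8847 (iv D8835) (iv F22899)
theorem F28228 : act 1 n8847 = n7727 := d10_1 D8847 (iv D7727) F19181 (iv F18785) (iv F22900)
theorem F28229 : act 2 n8847 = n8162 := d15_1 D8847 (iv D8162) (iv F22901)
theorem F28230 : act 3 n8847 = n8686 := d19_1 D8847 (iv D8686) (iv F22902)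
theorem F28231 : act 4 n8847 = n7236 := d22_1 D8847 (iv D7236) (iv F22903)
theorem F28232 : act 6 n8847 = n7234 := d25_2 D7233 D8847 (iv D7234) (iv D5654) D5653
def n8848 : Q := act 7 n7233
theorem D8848 : act 7 n7233 = n8848 := rfl
theorem F28233 : act 0 n8848 = n8836 := d6_1 D8848 (iv D8836) (iv F22899)
theorem F28234 : act 1 n8848 = n7604 := d12_1 D8848 (iv D7604) (iv F22900)
theorem F28235 : act 2 n8848 = n8163 := d17_1 D8848 (iv D8163) (iv F22901)
theorem F28236 : act 4 n8848 = n7237 := d24_1 D8848 (iv D7237) (iv F22903)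
theorem F28237 : act 6 n8848 = n8844 := d27_1 D8848 (iv D8844) (iv D7230) (iv F17729) D7233
def n8849 : Q := act 7 n7234
theorem D8849 : act 7 n7234 = n8849 := rfl
theorem F28238 : act 0 n8849 = n8837 := d6_1 D8849 (iv D8837) (iv F22904)
theorem F28239 : act 1 n8849 = n7242 := d12_1 D8849 F22930 (iv F22905)
theorem F28240 : act 3 n8849 = n7815 := d21_1 D8849 (iv D7815) (iv F24680) F24682 F23528
theorem F28241 : act 4 n8849 = n7239 := d24_1 D8849 (iv D7239) (iv F22906)
theorem F28242 : act 5 n8849 = n7235 := d26_1 D8849 (iv D7235) D7234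
def n8850 : Q := act 1 n7236
theorem D8850 : act 1 n7236 = n8850 := rfl
theorem F28243 : act 3 n8850 = n7251 := d8_2 (iv F22912) D8850 (iv D7251)
theorem F28244 : act 4 n8850 = n7727 := d9_2 F28231 D8850 (iv F28228)
theorem F28245 : act 5 n8850 = n7445 := d10_2 D7236 D8850 F23575 (iv D5992) (iv F17733)
theorem F28246 : act 6 n8850 = n7238 := d11_2 (iv F22913) D8850 (iv D7238)
theorem F28247 : act 2 n8740 = n8850 := d28_3 F22646 (iv F22680) (iv F27930) (iv D8850) (iv D7236) (iv D5655) (iv F17717) F17719 F17690 (iv F17265) F17264 D5540 D7117 F22534 (iv F17468) (iv F22586) F22585 F17394 D5559 F17416 (iv F22503) F22506 F22437 F17683 (iv F19667) F19670 F16032 F11796 (iv D2679) (iv D1822) (iv D1229) (iv D829) (iv D560) (iv D351) F638 F426 D225 D417 D631 D938 D1403 (iv F6413) (iv F9320) (iv F13112) F13111 (iv F15490) (iv D4996) (iv D3646) F7891 D2564 F7914 (iv F11300) F11299 F11285 D4726 (iv F19042) (iv F24324) F24323 F20669 (iv F20691) D8187 F26025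
theorem F28248 : act 0 n8850 = n7257 := d1_1 F28247 (iv F26368) (iv F27928)
def n8851 : Q := act 7 n7236
theorem D8851 : act 7 n7236 = n8851 := rfl
theorem F28249 : act 5 n8851 = n7237 := d26_1 D8851 (iv D7237) D7236
def n8852 : Q := act 3 n7237
theorem D8852 : act 3 n7237 = n8852 := rfl
theorem F28250 : act 1 n8852 = n7606 := d8_1 D8852 (iv D7606) (iv F22914)
theorem F28251 : act 7 n8852 = n7253 := d21_2 D7237 D8852 (iv D7253) (iv D5673) (iv F17734)
def n8853 : Q := act 6 n7239
theorem D8853 : act 6 n7239 = n8853 := rfl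
theorem F28252 : act 1 n8853 = n7244 := d11_1 D8853 F22934 (iv F22920)
def n8854 : Q := act 2 n7240
theorem D8854 : act 2 n7240 = n8854 := rfl
theorem F28253 : act 0 n8854 = n7260 := d1_1 D8854 F22970 (iv F22922)
theorem F28254 : act 1 n8854 = n8838 := d7_1 D8854 (iv D8838) (iv D7226) (iv F17748) (iv F22923)
theorem F28255 : act 4 n8854 = n7734 := d14_2 (iv F22924) D8854 (iv D7734)
theorem F28256 : act 7 n8854 = n7258 := d17_2 (iv F22925) D8854 (iv D7258)
def n8855 : Q := act 5 n7241
theorem D8855 : act 5 n7241 = n8855 := rfl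
theorem F28257 : act 0 n8855 = n7249 := d4_1 D8855 (iv D7249) (iv F22926)
theorem F28258 : act 4 n8855 = n7244 := d22_1 D8855 (iv D7244) (iv F22927)
theorem F28259 : act 6 n8855 = n7242 := d25_2 D7241 D8855 (iv D7242) (iv D5663) D5662
def n8856 : Q := act 7 n7241
theorem D8856 : act 7 n7241 = n8856 := rfl
theorem F28260 : act 0 n8856 = n7250 := d6_1 D8856 (iv D7250) (iv F22926)
theorem F28261 : act 4 n8856 = n7245 := d24_1 D8856 (iv D7245) (iv F22927)
theorem F28262 : act 6 n8856 = n7439 := d27_1 D8856 (iv D7439) (iv D5852) (iv F17759) D7241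
def n8857 : Q := act 5 n7243
theorem D8857 : act 5 n7243 = n8857 := rfl
theorem F28263 : act 0 n8857 = n7608 := d4_1 D8857 (iv D7608) (iv F22931)
theorem F28264 : act 6 n8857 = n7268 := d25_2 D7243 D8857 (iv D7268) (iv D5687) (iv F17765)
def n8858 : Q := act 7 n7243
theorem D8858 : act 7 n7243 = n8858 := rfl
theorem F28265 : act 0 n8858 = n7609 := d6_1 D8858 (iv D7609) (iv F22931)
theorem F28266 : act 1 n8858 = n7245 := d12_1 D8858 (iv D7245) (iv F22932)
theorem F28267 : act 6 n8858 = n7441 := d27_1 D8858 (iv D7441) (iv D5853) (iv F17766) D7243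
def n8859 : Q := act 7 n7244
theorem D8859 : act 7 n7244 = n8859 := rfl
theorem F28268 : act 0 n8859 = n7252 := d6_1 D8859 (iv D7252) (iv F22933)
theorem F28269 : act 5 n8859 = n7245 := d26_1 D8859 (iv D7245) D7244
def n8860 : Q := act 3 n7245
theorem D8860 : act 3 n7245 = n8860 := rfl
theorem F28270 : act 0 n8860 = n7253 := d2_1 D8860 (iv D7253) (iv F22935)
theorem F28271 : act 6 n8860 = n7444 := d20_2 (iv F22936) D8860 (iv D7444)
def n8861 : Q := act 5 n7246
theorem D8861 : act 5 n7246 = n8861 := rfl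
theorem F28272 : act 2 n8861 = n7248 := d15_1 D8861 (iv D7248) (iv F22938)
theorem F28273 : act 4 n8861 = n8692 := d22_1 D8861 (iv D8692) (iv F22939)
theorem F28274 : act 6 n8861 = n8691 := d25_2 D7246 D8861 (iv D8691) (iv D7090) F17772
def n8862 : Q := act 5 n7247
theorem D8862 : act 5 n7247 = n8862 := rfl
theorem F28275 : act 2 n8862 = n8691 := d15_1 D8862 (iv D8691) (iv F22941)
theorem F28276 : act 3 n8862 = n7249 := d19_1 D8862 (iv D7249) (iv F22942)
theorem F28277 : act 4 n8862 = n8686 := d22_1 D8862 (iv D8686) (iv F22943)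
theorem F28278 : act 6 n8862 = n7248 := d25_2 D7247 D8862 (iv D7248) (iv D5669) D5668
def n8863 : Q := act 7 n7249
theorem D8863 : act 7 n7249 = n8863 := rfl
theorem F28279 : act 4 n8863 = n7252 := d24_1 D8863 (iv D7252) (iv F22945)
theorem F28280 : act 5 n8863 = n7250 := d26_1 D8863 (iv D7250) D7249
theorem F28281 : act 6 n8863 = n7730 := d27_1 D8863 (iv D7730) F19184 (iv F17783) (iv F22946)
def n8864 : Q := act 3 n7250
theorem D8864 : act 3 n7250 = n8864 := rfl
theorem F28282 : act 1 n8864 = n7616 := d8_1 D8864 (iv D7616) (iv F22947)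
theorem F28283 : act 6 n8864 = n7446 := d20_2 (iv F22949) D8864 (iv D7446)
def n8865 : Q := act 0 n7251
theorem D8865 : act 0 n7251 = n8865 := rfl
theorem F28284 : act 3 n8865 = n7257 := d2_2 F28243 D8865 (iv F28248)
theorem F28285 : act 4 n8865 = n8857 := d3_2 F24094 D8865 F28263
theorem F28286 : act 5 n8865 = n7452 := d4_2 (iv F22950) D8865 F23592
theorem F28287 : act 6 n8865 = n7254 := d5_2 (iv F22951) D8865 (iv D7254)
def n8866 : Q := act 2 n7251
theorem D8866 : act 2 n7251 = n8866 := rfl
theorem F28288 : act 3 n8866 = n8741 := d13_2 F28243 D8866 F27933 (iv F27930) F28247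
theorem F28289 : act 5 n8866 = n7617 := d15_2 (iv F22950) D8866 (iv D7617)
theorem F28290 : act 6 n8866 = n7255 := d16_2 (iv F22951) D8866 (iv D7255)
def n8867 : Q := act 7 n7251
theorem D8867 : act 7 n7251 = n8867 := rfl
theorem F28291 : act 1 n8867 = n7252 := d12_1 D8867 (iv D7252) D7251
theorem F28292 : act 5 n8867 = n7618 := d26_1 D8867 (iv D7618) (iv F22950)
def n8868 : Q := act 3 n7252
theorem D8868 : act 3 n7252 = n8868 := rfl
theorem F28293 : act 5 n8868 = n7253 := d19_2 (iv F22952) D8868 (iv D7253)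
def n8869 : Q := act 6 n7252
theorem D8869 : act 6 n7252 = n8869 := rfl
theorem F28294 : act 4 n8869 = n7730 := d23_1 D8869 (iv F28281) F28279
theorem F28295 : act 5 n8869 = n7448 := d25_1 D8869 (iv D7448) F18342 (iv F17786) (iv F22952)
theorem F28296 : act 7 n8869 = n7257 := d27_2 D7252 D8869 (iv D7257) (iv D5675) (iv F17784)
def n8870 : Q := act 2 n7253
theorem D8870 : act 2 n7253 = n8870 := rfl
theorem F28297 : act 6 n8870 = n7449 := d16_2 (iv F22954) D8870 (iv D7449)
def n8871 : Q := act 4 n7253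
theorem D8871 : act 4 n7253 = n8871 := rfl
theorem F28298 : act 1 n8871 = n7621 := d9_1 D8871 (iv D7621) (iv F22953)
theorem F28299 : act 6 n8871 = n7450 := d23_2 (iv F22954) D8871 (iv D7450)
def n8872 : Q := act 2 n7254
theorem D8872 : act 2 n7254 = n8872 := rfl
theorem F28300 : act 0 n8872 = n7255 := d1_1 D8872 (iv D7255) D7254
theorem F28301 : act 5 n8872 = n7258 := d15_2 (iv F22956) D8872 (iv D7258)
def n8873 : Q := act 3 n7255
theorem D8873 : act 3 n7255 = n8873 := rfl
theorem F28302 : act 1 n8873 = n8633 := d8_1 D8873 F27549 F26360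
theorem F28303 : act 2 n8873 = n8133 := d13_1 D8873 F26332 F26329 F22915 D7255
theorem F28304 : act 5 n8873 = n7259 := d19_2 (iv F22957) D8873 (iv D7259)
theorem F28305 : act 6 n8873 = n8741 := d20_2 F28290 D8873 (iv F28288)
theorem F28306 : act 4 n8189 = n8873 := d23_3 F28305 F27934 (iv F26032)
def n8874 : Q := act 7 n7255
theorem D8874 : act 7 n7255 = n8874 := rfl
theorem F28307 : act 2 n8874 = n7256 := d17_1 D8874 (iv D7256) D7255
theorem F28308 : act 4 n8874 = n7733 := d24_1 D8874 F24465 F24163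
theorem F28309 : act 5 n8874 = n7260 := d26_1 D8874 (iv D7260) (iv F22957)
def n8875 : Q := act 6 n7256
theorem D8875 : act 6 n7256 = n8875 := rfl
theorem F28310 : act 1 n8875 = n7257 := d11_1 D8875 (iv D7257) (iv F22958)
theorem F28311 : act 4 n8875 = n7729 := d23_1 D8875 F24457 (iv F22959)
def n8876 : Q := act 7 n7259
theorem D8876 : act 7 n7259 = n8876 := rfl
theorem F28312 : act 1 n8876 = n7262 := d12_1 D8876 (iv D7262) (iv F22965)
theorem F28313 : act 2 n8876 = n8136 := d17_1 D8876 (iv D8136) (iv F22966)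
theorem F28314 : act 4 n8876 = n8190 := d24_1 D8876 (iv D8190) F22968
theorem F28315 : act 6 n8876 = n8466 := d27_1 D8876 (iv D8466) (iv D6860) F18838 (iv F22967)
def n8877 : Q := act 3 n7260
theorem D8877 : act 3 n7260 = n8877 := rfl
theorem F28316 : act 1 n8877 = n7263 := d8_1 D8877 (iv D7263) (iv F22969)
def n8878 : Q := act 7 n7261
theorem D8878 : act 7 n7261 = n8878 := rfl
theorem F28317 : act 0 n8878 = n7696 := d6_1 D8878 F24382 F24181
theorem F28318 : act 1 n8878 = n8190 := d12_1 D8878 (iv D8190) (iv F22972)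
theorem F28319 : act 2 n8878 = n7264 := d17_1 D8878 (iv D7264) (iv F22973)
theorem F28320 : act 4 n8878 = n7262 := d24_1 D8878 (iv D7262) D7261
theorem F28321 : act 5 n8878 = n7721 := d26_1 D8878 F24441 (iv F22974)
theorem F28322 : act 6 n8878 = n8414 := d27_1 D8878 (iv D8414) (iv D6800) F18842 (iv F22975)
def n8879 : Q := act 3 n7262
theorem D8879 : act 3 n7262 = n8879 := rfl
theorem F28323 : act 5 n8879 = n8646 := d19_2 (iv F22977) D8879 (iv D8646)
theorem F28324 : act 7 n8879 = n7263 := d21_2 D7262 D8879 (iv D7263) (iv D5681) D5680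
def n8880 : Q := act 6 n7262
theorem D8880 : act 6 n7262 = n8880 := rfl
theorem F28325 : act 1 n8880 = n8466 := d11_1 D8880 (iv F28315) F28312
theorem F28326 : act 2 n8880 = n7265 := d16_1 D8880 (iv D7265) (iv F22976)
theorem F28327 : act 4 n8880 = n8414 := d23_1 D8880 (iv F28322) F28320
theorem F28328 : act 7 n8880 = n7622 := d27_2 D7262 D8880 (iv D7622) (iv D6008) (iv F17805)
def n8881 : Q := act 4 n7263
theorem D8881 : act 4 n7263 = n8881 := rfl
theorem F28329 : act 3 n8881 = n7736 := d18_1 D8881 (iv D7736) (iv D6118) (iv F17807) D7263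
def n8882 : Q := act 5 n7267
theorem D8882 : act 5 n7267 = n8882 := rfl
theorem F28330 : act 0 n8882 = n7628 := d4_1 D8882 (iv D7628) (iv F22992)
theorem F28331 : act 2 n8882 = n7268 := d15_1 D8882 (iv D7268) (iv F22994)
theorem F28332 : act 4 n8882 = n8872 := d22_1 D8882 F28301 (iv F22995)
def n8883 : Q := act 5 n7269
theorem D8883 : act 5 n7269 = n8883 := rfl
theorem F28333 : act 0 n8883 = n7281 := d4_1 D8883 (iv D7281) (iv F22998)
theorem F28334 : act 2 n8883 = n7270 := d15_1 D8883 (iv D7270) (iv F23000)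
theorem F28335 : act 4 n8883 = n7271 := d22_1 D8883 (iv D7271) (iv F23001)
def n8884 : Q := act 1 n7271
theorem D8884 : act 1 n7271 = n8884 := rfl
def n8885 : Q := act 7 n7274
theorem D8885 : act 7 n7274 = n8885 := rfl
theorem F28336 : act 1 n8885 = n8364 := d12_1 D8885 (iv D8364) (iv F23009)
theorem F28337 : act 4 n8885 = n8374 := d24_1 D8885 (iv D8374) (iv F23010)
theorem F28338 : act 5 n8885 = n7293 := d26_1 D8885 (iv D7293) (iv F23011)
def n8886 : Q := act 6 n7275
theorem D8886 : act 6 n7275 = n8886 := rfl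
theorem F28339 : act 4 n8886 = n7985 := d23_1 D8886 (iv D7985) (iv F23012)
theorem F28340 : act 5 n8886 = n8886 := d25_1 D8886 (iv D8886) F23013 F17851 (iv F23013)
def n8887 : Q := act 5 n7277
theorem D8887 : act 5 n7277 = n8887 := rfl
theorem F28341 : act 0 n8887 = n8176 := d4_1 D8887 F25979 (iv F23018)
theorem F28342 : act 1 n8887 = n8162 := d10_1 D8887 (iv D8162) F20559 D6552 (iv F23019)
theorem F28343 : act 2 n8887 = n7278 := d15_1 D8887 (iv D7278) (iv F23020)
theorem F28344 : act 3 n8887 = n8175 := d19_1 D8887 F25976 (iv F23021)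
theorem F28345 : act 7 n8887 = n8169 := d26_2 (iv F23022) D8887 (iv D8169)
def n8888 : Q := act 5 n7279
theorem D8888 : act 5 n7279 = n8888 := rfl
theorem F28346 : act 1 n8888 = n8711 := d10_1 D8888 F27800 F22518 F18903 (iv F23027)
theorem F28347 : act 2 n8888 = n8175 := d15_1 D8888 F25976 (iv F23028)
theorem F28348 : act 3 n8888 = n7281 := d19_1 D8888 (iv D7281) (iv F23029)
def n8889 : Q := act 7 n7279
theorem D8889 : act 7 n7279 = n8889 := rfl
theorem F28349 : act 1 n8889 = n7635 := d12_1 D8889 (iv D7635) (iv F23027)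
theorem F28350 : act 2 n8889 = n8181 := d17_1 D8889 (iv D8181) (iv F23028)
def n8890 : Q := act 6 n7280
theorem D8890 : act 6 n7280 = n8890 := rfl
theorem F28351 : act 1 n8890 = n7636 := d11_1 D8890 (iv D7636) (iv F23030)
theorem F28352 : act 3 n8890 = n7491 := d20_1 D8890 (iv D7491) (iv F23031)
def n8891 : Q := act 1 n7281
theorem D8891 : act 1 n7281 = n8891 := rfl
theorem F28353 : act 2 n8891 = n8337 := d7_2 (iv F23032) D8891 F26502 F21205 (iv F17869)
theorem F28354 : act 3 n8891 = n8711 := d8_2 F28348 D8891 (iv F28346)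
theorem F28355 : act 4 n8891 = n7287 := d9_2 (iv F23033) D8891 (iv D7287)
theorem F28356 : act 5 n8891 = n7637 := d10_2 D7281 D8891 (iv D7637) (iv D6024) (iv F17866)
def n8892 : Q := act 7 n7281
theorem D8892 : act 7 n7281 = n8892 := rfl
theorem F28357 : act 2 n8892 = n7283 := d17_1 D8892 (iv D7283) (iv F23032)
theorem F28358 : act 4 n8892 = n7288 := d24_1 D8892 (iv D7288) (iv F23033)
theorem F28359 : act 5 n8892 = n7282 := d26_1 D8892 (iv D7282) D7281
def n8893 : Q := act 3 n7282
theorem D8893 : act 3 n7282 = n8893 := rfl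
theorem F28360 : act 1 n8893 = n7639 := d8_1 D8893 (iv D7639) (iv F23034)
theorem F28361 : act 6 n8893 = n7494 := d20_2 (iv F23037) D8893 (iv D7494)
def n8894 : Q := act 3 n7283
theorem D8894 : act 3 n7283 = n8894 := rfl
theorem F28362 : act 0 n8894 = n8626 := d2_1 D8894 (iv F28109) F28108
theorem F28363 : act 1 n8894 = n8632 := d8_1 D8894 F27547 (iv F23038)
theorem F28364 : act 5 n8894 = n7284 := d19_2 (iv F23040) D8894 (iv D7284)
theorem F28365 : act 7 n8894 = n8689 := d21_2 D7283 D8894 F27731 (iv F23026) F23025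
def n8895 : Q := act 6 n7283
theorem D8895 : act 6 n7283 = n8895 := rfl
theorem F28366 : act 1 n8895 = n8886 := d11_1 D8895 (iv D8886) (iv F23038)
theorem F28367 : act 4 n8895 = n7292 := d23_1 D8895 (iv D7292) (iv F23039)
theorem F28368 : act 5 n8895 = n7496 := d25_1 D8895 (iv D7496) F18473 (iv F17873) (iv F23040)
def n8896 : Q := act 1 n7285
theorem D8896 : act 1 n7285 = n8896 := rfl
theorem F28369 : act 3 n8896 = n7287 := d8_2 (iv F23045) D8896 (iv D7287)
theorem F28370 : act 5 n8896 = n7643 := d10_2 D7285 D8896 (iv D7643) (iv D6028) (iv F17878)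
def n8897 : Q := act 7 n7285
theorem D8897 : act 7 n7285 = n8897 := rfl
theorem F28371 : act 5 n8897 = n7286 := d26_1 D8897 (iv D7286) D7285
def n8898 : Q := act 3 n7286
theorem D8898 : act 3 n7286 = n8898 := rfl
theorem F28372 : act 1 n8898 = n7645 := d8_1 D8898 (iv D7645) (iv F23046)
theorem F28373 : act 7 n8898 = n7289 := d21_2 D7286 D8898 (iv D7289) (iv D5709) (iv F17879)
def n8899 : Q := act 0 n7287
theorem D8899 : act 0 n7287 = n8899 := rfl
theorem F28374 : act 5 n8899 = n7648 := d4_2 (iv F23047) D8899 (iv D7648)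
def n8900 : Q := act 2 n7287
theorem D8900 : act 2 n7287 = n8900 := rfl
theorem F28375 : act 1 n8900 = n7291 := d7_1 D8900 (iv D7291) (iv D5710) (iv F17880) D7287
theorem F28376 : act 4 n8900 = n8337 := d14_2 F28355 D8900 (iv F28353)
theorem F28377 : act 5 n8900 = n7649 := d15_2 (iv F23047) D8900 (iv D7649)
def n8901 : Q := act 7 n7287
theorem D8901 : act 7 n7287 = n8901 := rfl
theorem F28378 : act 1 n8901 = n7288 := d12_1 D8901 (iv D7288) D7287
theorem F28379 : act 5 n8901 = n7650 := d26_1 D8901 (iv D7650) (iv F23047)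
def n8902 : Q := act 3 n7288
theorem D8902 : act 3 n7288 = n8902 := rfl
theorem F28380 : act 5 n8902 = n7289 := d19_2 (iv F23049) D8902 (iv D7289)
def n8903 : Q := act 6 n7288
theorem D8903 : act 6 n7288 = n8903 := rfl
theorem F28381 : act 2 n8903 = n7292 := d16_1 D8903 (iv D7292) (iv F23048)
theorem F28382 : act 5 n8903 = n7508 := d25_1 D8903 (iv D7508) F18498 (iv F17883) (iv F23049)
def n8904 : Q := act 4 n7289
theorem D8904 : act 4 n7289 = n8904 := rfl
theorem F28383 : act 1 n8904 = n7653 := d9_1 D8904 (iv D7653) (iv F23050)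
theorem F28384 : act 6 n8904 = n7510 := d23_2 (iv F23051) D8904 (iv D7510)
def n8905 : Q := act 3 n7293
theorem D8905 : act 3 n7293 = n8905 := rfl
theorem F28385 : act 0 n8905 = n8292 := d2_1 D8905 F26340 F24352
theorem F28386 : act 1 n8905 = n7654 := d8_1 D8905 (iv D7654) (iv F23058)
theorem F28387 : act 6 n8905 = n8905 := d20_2 F23060 D8905 (iv D8905)
theorem F28388 : act 7 n8905 = n8280 := d21_2 D7293 D8905 F26302 F20918 F19144
def n8906 : Q := act 2 n7294
theorem D8906 : act 2 n7294 = n8906 := rfl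
theorem F28389 : act 0 n8906 = n7775 := d1_1 D8906 F24573 (iv F23061)
theorem F28390 : act 3 n8906 = n7751 := d13_2 D7294 D8906 F24507 F19220 F18328
theorem F28391 : act 4 n8906 = n7308 := d14_2 (iv F23063) D8906 (iv D7308)
theorem F28392 : act 5 n8906 = n7752 := d15_2 F23632 D8906 F24511
theorem F28393 : act 7 n8906 = n8906 := d17_2 F23064 D8906 (iv D8906)
def n8907 : Q := act 6 n7294
theorem D8907 : act 6 n7294 = n8907 := rfl
theorem F28394 : act 0 n8907 = n8679 := d5_1 D8907 (iv D8679) (iv F23061)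
theorem F28395 : act 1 n8907 = n7298 := d11_1 D8907 (iv D7298) (iv F23062)
theorem F28396 : act 3 n8907 = n7295 := d20_1 D8907 (iv D7295) D7294
theorem F28397 : act 4 n8907 = n7309 := d23_1 D8907 (iv D7309) (iv F23063)
def n8908 : Q := act 5 n7295
theorem D8908 : act 5 n7295 = n8908 := rfl
theorem F28398 : act 0 n8908 = n8685 := d4_1 D8908 (iv D8685) (iv F23065)
theorem F28399 : act 4 n8908 = n7296 := d22_1 D8908 (iv D7296) (iv F23067)
def n8909 : Q := act 1 n7297
theorem D8909 : act 1 n7297 = n8909 := rfl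
theorem F28400 : act 0 n8909 = n8909 := d0_1 D8909 (iv D8909) F23070 F17918 (iv F23070)
theorem F28401 : act 3 n8909 = n7353 := d8_2 (iv F23071) D8909 F23263
theorem F28402 : act 4 n8909 = n7314 := d9_2 (iv F23072) D8909 (iv D7314)
theorem F28403 : act 5 n8909 = n8909 := d10_2 (iv F23073) D8909 (iv D8909) F23073 F18098
theorem F28404 : act 6 n8909 = n7989 := d11_2 (iv F25227) D8909 F25259
theorem F28405 : act 7 n8909 = n8909 := d12_2 F23074 D8909 (iv D8909)
def n8910 : Q := act 7 n7300
theorem D8910 : act 7 n7300 = n8910 := rfl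
theorem F28406 : act 0 n8910 = n8659 := d6_1 D8910 (iv D8659) (iv F23083)
theorem F28407 : act 2 n8910 = n7305 := d17_1 D8910 (iv D7305) (iv F23084)
theorem F28408 : act 4 n8910 = n7303 := d24_1 D8910 (iv D7303) (iv F23085)
theorem F28409 : act 5 n8910 = n8587 := d26_1 D8910 (iv D8587) (iv F23086)
def n8911 : Q := act 2 n7301
theorem D8911 : act 2 n7301 = n8911 := rfl
theorem F28410 : act 0 n8911 = n8662 := d1_1 D8911 (iv D8662) (iv F23087)
theorem F28411 : act 3 n8911 = n7308 := d13_2 D7301 D8911 (iv D7308) (iv D5730) (iv F17936)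
def n8912 : Q := act 6 n7301
theorem D8912 : act 6 n7301 = n8912 := rfl
theorem F28412 : act 0 n8912 = n8664 := d5_1 D8912 (iv D8664) (iv F23087)
theorem F28413 : act 1 n8912 = n8912 := d11_1 D8912 (iv D8912) F23088
theorem F28414 : act 3 n8912 = n7302 := d20_1 D8912 (iv D7302) D7301
theorem F28415 : act 7 n8912 = n8371 := d27_2 (iv F23349) D8912 F26628 (iv F27364) F27363
def n8913 : Q := act 5 n7302
theorem D8913 : act 5 n7302 = n8913 := rfl
theorem F28416 : act 0 n8913 = n8665 := d4_1 D8913 (iv D8665) (iv F23089)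
theorem F28417 : act 2 n8913 = n7310 := d15_1 D8913 (iv D7310) (iv F23091)
theorem F28418 : act 4 n8913 = n7304 := d22_1 D8913 (iv D7304) (iv F23092)
theorem F28419 : act 7 n8913 = n8368 := d26_2 (iv F23093) D8913 (iv D8368)
def n8914 : Q := act 3 n7303
theorem D8914 : act 3 n7303 = n8914 := rfl
theorem F28420 : act 0 n8914 = n8667 := d2_1 D8914 (iv D8667) (iv F23094)
theorem F28421 : act 5 n8914 = n8591 := d19_2 (iv F23096) D8914 (iv D8591)
def n8915 : Q := act 1 n7304
theorem D8915 : act 1 n7304 = n8915 := rfl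
theorem F28422 : act 5 n8915 = n8915 := d10_2 D7304 D8915 (iv D8915) (iv D7304) F17942
theorem F28423 : act 7 n8915 = n8598 := d12_2 (iv F23099) D8915 (iv D8598)
def n8916 : Q := act 3 n7305
theorem D8916 : act 3 n7305 = n8916 := rfl
theorem F28424 : act 0 n8916 = n8674 := d2_1 D8916 (iv D8674) (iv F23100)
theorem F28425 : act 1 n8916 = n7533 := d8_1 D8916 F23859 (iv F23101)
theorem F28426 : act 4 n8916 = n7528 := d18_2 (iv F23102) D8916 (iv D7528) (iv F20519) F20518
theorem F28427 : act 5 n8916 = n8599 := d19_2 (iv F23103) D8916 (iv D8599)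
theorem F28428 : act 7 n8916 = n8916 := d21_2 D7305 D8916 (iv D8916) (iv D7305) F17947
def n8917 : Q := act 6 n7305
theorem D8917 : act 6 n7305 = n8917 := rfl
theorem F28429 : act 0 n8917 = n8675 := d5_1 D8917 (iv D8675) (iv F23100)
theorem F28430 : act 1 n8917 = n7659 := d11_1 D8917 (iv D7659) (iv F23101)
theorem F28431 : act 4 n8917 = n7311 := d23_1 D8917 (iv D7311) (iv F23102)
theorem F28432 : act 7 n8917 = n7307 := d27_2 D7305 D8917 (iv D7307) (iv D5729) D5728
def n8918 : Q := act 2 n7306
theorem D8918 : act 2 n7306 = n8918 := rfl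
theorem F28433 : act 0 n8918 = n7777 := d1_1 D8918 F24581 (iv F23104)
theorem F28434 : act 1 n8918 = n8918 := d7_1 D8918 (iv D8918) F23105 F18987 (iv F23105)
theorem F28435 : act 4 n8918 = n7752 := d14_2 F23631 D8918 F24511
theorem F28436 : act 5 n8918 = n7308 := d15_2 (iv F23106) D8918 (iv D7308)
theorem F28437 : act 7 n8918 = n8918 := d17_2 F23107 D8918 (iv D8918)
def n8919 : Q := act 6 n7306
theorem D8919 : act 6 n7306 = n8919 := rfl
theorem F28438 : act 0 n8919 = n8676 := d5_1 D8919 (iv D8676) (iv F23104)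
theorem F28439 : act 1 n8919 = n7660 := d11_1 D8919 (iv D7660) (iv F23105)
theorem F28440 : act 3 n8919 = n7307 := d20_1 D8919 (iv D7307) D7306
def n8920 : Q := act 5 n7307
theorem D8920 : act 5 n7307 = n8920 := rfl
theorem F28441 : act 0 n8920 = n8677 := d4_1 D8920 (iv D8677) (iv F23108)
theorem F28442 : act 4 n8920 = n7312 := d22_1 D8920 (iv D7312) (iv F23110)
theorem F28443 : act 6 n8920 = n7310 := d25_2 D7307 D8920 (iv D7310) (iv D5731) (iv F17953)
def n8921 : Q := act 1 n7308
theorem D8921 : act 1 n7308 = n8921 := rfl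
theorem F28444 : act 0 n8921 = n8921 := d0_1 D8921 (iv D8921) F23111 F22405 (iv F23111)
theorem F28445 : act 2 n8921 = n7314 := d7_2 D7308 D8921 (iv D7314) (iv D5735) (iv F17955)
theorem F28446 : act 5 n8921 = n8921 := d10_2 F28436 D8921 (iv D8921) (iv F28436) F28434
theorem F28447 : act 7 n8921 = n8921 := d12_2 F23112 D8921 (iv D8921)
def n8922 : Q := act 6 n7308
theorem D8922 : act 6 n7308 = n8922 := rfl
theorem F28448 : act 0 n8922 = n8678 := d5_1 D8922 (iv D8678) (iv F23111)
theorem F28449 : act 2 n8922 = n7309 := d16_1 D8922 (iv D7309) D7308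
def n8923 : Q := act 5 n7309
theorem D8923 : act 5 n7309 = n8923 := rfl
theorem F28450 : act 0 n8923 = n8680 := d4_1 D8923 (iv D8680) (iv F23113)
theorem F28451 : act 3 n8923 = n7310 := d19_1 D8923 (iv D7310) (iv F23115)
def n8924 : Q := act 1 n7310
theorem D8924 : act 1 n7310 = n8924 := rfl
theorem F28452 : act 4 n8924 = n7313 := d9_2 (iv F23117) D8924 (iv D7313)
theorem F28453 : act 5 n8924 = n7316 := d10_2 D7310 D8924 (iv D7316) (iv D5737) (iv F17958)
theorem F28454 : act 7 n8924 = n8602 := d12_2 (iv F23118) D8924 (iv D8602)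
def n8925 : Q := act 5 n7311
theorem D8925 : act 5 n7311 = n8925 := rfl
theorem F28455 : act 0 n8925 = n8682 := d4_1 D8925 (iv D8682) (iv F23119)
theorem F28456 : act 6 n8925 = n8603 := d25_2 D7311 D8925 (iv D8603) (iv D7004) (iv F17963)
theorem F28457 : act 7 n8925 = n7312 := d26_2 (iv F23121) D8925 (iv D7312)
def n8926 : Q := act 1 n7312
theorem D8926 : act 1 n7312 = n8926 := rfl
theorem F28458 : act 5 n8926 = n7665 := d10_2 D7312 D8926 (iv D7665) (iv D6052) (iv F17965)
theorem F28459 : act 6 n8926 = n7313 := d11_2 (iv F23123) D8926 (iv D7313)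
def n8927 : Q := act 2 n7313
theorem D8927 : act 2 n7313 = n8927 := rfl
theorem F28460 : act 5 n8927 = n7317 := d15_2 (iv F23124) D8927 (iv D7317)
theorem F28461 : act 7 n8927 = n8610 := d17_2 (iv F23125) D8927 (iv D8610)
def n8928 : Q := act 1 n7315
theorem D8928 : act 1 n7315 = n8928 := rfl
theorem F28462 : act 3 n8928 = n7316 := d8_2 (iv F23131) D8928 (iv D7316)
theorem F28463 : act 6 n8928 = n7668 := d11_2 (iv F23132) D8928 (iv D7668)
def n8929 : Q := act 2 n7316
theorem D8929 : act 2 n7316 = n8929 := rfl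
theorem F28464 : act 0 n8929 = n7665 := d1_1 D8929 (iv F27975) F27973
theorem F28465 : act 1 n8929 = n8929 := d7_1 D8929 (iv D8929) (iv D7316) F17975 D7316
theorem F28466 : act 4 n8929 = n7317 := d14_2 (iv F23133) D8929 (iv D7317)
theorem F28467 : act 6 n8929 = n7381 := d16_2 (iv F23134) D8929 F23402
theorem F28468 : act 7 n8929 = n8618 := d17_2 (iv F23135) D8929 (iv D8618)
theorem F28469 : act 3 n7382 = n8929 := d20_3 F28467 (iv D7381) D7382
def n8930 : Q := act 3 n7317
theorem D8930 : act 3 n7317 = n8930 := rfl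
theorem F28470 : act 1 n8930 = n8930 := d8_1 D8930 (iv D8930) F23136
theorem F28471 : act 6 n8930 = n7670 := d20_2 (iv F23137) D8930 (iv D7670)
def n8931 : Q := act 6 n7318
theorem D8931 : act 6 n7318 = n8931 := rfl
theorem F28472 : act 0 n8931 = n8931 := d5_1 D8931 (iv D8931) F23139
theorem F28473 : act 2 n8931 = n8931 := d16_1 D8931 (iv D8931) F23140
theorem F28474 : act 3 n8931 = n7322 := d20_1 D8931 (iv D7322) (iv F23141)
theorem F28475 : act 4 n8931 = n7319 := d23_1 D8931 (iv D7319) D7318
theorem F28476 : act 7 n8488 = n8931 := d31_1 D8488 F28475 F23143 (iv D7319) (iv D5740) (iv F16526) (iv D5306) F12107 F9432 (iv F8479) F8477 (iv D1931) F4159 (iv D1307) D1306 F4153 (iv F4163) (iv D1308) F2875 D1307 (iv F5831) (iv D1875) (iv F5826) (iv D1873) D1874 (iv F8483) (iv F12116) D5310 (iv F21678)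
theorem F28477 : act 5 n8931 = n8489 := d26_1 F28476 (iv D8489) D8488
def n8932 : Q := act 5 n7319
theorem D8932 : act 5 n7319 = n8932 := rfl
theorem F28478 : act 0 n8932 = n8932 := d4_1 D8932 (iv D8932) F23142
theorem F28479 : act 2 n8932 = n8932 := d15_1 D8932 (iv D8932) F23143
theorem F28480 : act 3 n8932 = n7320 := d19_1 D8932 (iv D7320) (iv F23144)
theorem F28481 : act 4 n8932 = n8489 := d22_1 D8932 (iv F28477) F28475
theorem F28482 : act 7 n8932 = n8487 := d31_1 D8932 F27029 F21677 (iv D6877) (iv D5309) (iv F16534) (iv D5308) F12113 F8471 D2755 F8486 F5833 F4712 (iv D1497) (iv F4162) F4164 (iv F4152) (iv F4155) F3216 D1497 (iv F6026) F6028 (iv F6498) (iv D2101) D2102 (iv F9439) (iv F13243) D5741 (iv F23144)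
def n8933 : Q := act 7 n7319
theorem D8933 : act 7 n7319 = n8933 := rfl
theorem F28483 : act 0 n8933 = n8933 := d6_1 D8933 (iv D8933) F23142
theorem F28484 : act 2 n8933 = n8933 := d17_1 D8933 (iv D8933) F23143
theorem F28485 : act 3 n8933 = n7390 := d21_1 D8933 (iv D7390) F18199 (iv F17988) (iv F23144)
theorem F28486 : act 4 n8933 = n8488 := d24_1 D8933 F28476 F28475
theorem F28487 : act 5 n8933 = n8487 := d26_1 D8933 (iv F28482) (iv D8932)
def n8934 : Q := act 1 n7320
theorem D8934 : act 1 n7320 = n8934 := rfl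
theorem F28488 : act 4 n8934 = n7325 := d9_2 (iv F23147) D8934 (iv D7325)
theorem F28489 : act 7 n8934 = n7391 := d12_2 (iv F23148) D8934 (iv D7391)
def n8935 : Q := act 1 n7321
theorem D8935 : act 1 n7321 = n8935 := rfl
theorem F28490 : act 6 n8935 = n7325 := d11_2 (iv F23151) D8935 (iv D7325)
def n8936 : Q := act 1 n7323
theorem D8936 : act 1 n7323 = n8936 := rfl
theorem F28491 : act 2 n8936 = n8732 := d7_2 F25381 D8936 F27898 (iv F27854) F27853
theorem F28492 : act 3 n8936 = n7325 := d8_2 (iv F23155) D8936 (iv D7325)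
theorem F28493 : act 4 n8936 = n8736 := d9_2 F23440 D8936 F27915
theorem F28494 : act 7 n8936 = n8730 := d12_2 (iv F23432) D8936 F27890
theorem F28495 : act 0 n8742 = n8936 := d6_3 F28494 F27889 D8742
def n8937 : Q := act 0 n7325
theorem D8937 : act 0 n7325 = n8937 := rfl
theorem F28496 : act 1 n8937 = n8937 := d0_2 D7325 D8937 (iv D8937) (iv D7325) F17994
theorem F28497 : act 3 n8937 = n8742 := d2_2 F28492 D8937 F28495
theorem F28498 : act 7 n8937 = n7405 := d6_2 (iv F23158) D8937 (iv D7405)
def n8938 : Q := act 3 n7326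
theorem D8938 : act 3 n7326 = n8938 := rfl
theorem F28499 : act 1 n8938 = n8938 := d8_1 D8938 (iv D8938) F23159
theorem F28500 : act 2 n8938 = n8464 := d13_1 D8938 F26949 F21623 (iv F21618) (iv F23160)
theorem F28501 : act 6 n8938 = n8461 := d20_2 (iv F23162) D8938 (iv D8461)
theorem F28502 : act 7 n8938 = n7332 := d21_2 D7326 D8938 (iv D7332) (iv D5755) (iv F18009)
def n8939 : Q := act 7 n7327
theorem D8939 : act 7 n7327 = n8939 := rfl
theorem F28503 : act 0 n8939 = n7330 := d6_1 D8939 (iv D7330) (iv F23163)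
theorem F28504 : act 1 n8939 = n8330 := d12_1 D8939 F27060 F27055
theorem F28505 : act 4 n8939 = n7329 := d24_1 D8939 (iv D7329) (iv F23165)
theorem F28506 : act 5 n8939 = n7908 := d26_1 D8939 (iv D7908) (iv F23166)
def n8940 : Q := act 7 n7328
theorem D8940 : act 7 n7328 = n8940 := rfl
theorem F28507 : act 0 n8940 = n7331 := d6_1 D8940 (iv D7331) (iv F23167)
theorem F28508 : act 1 n8940 = n8327 := d12_1 D8940 F26461 F23171
theorem F28509 : act 4 n8940 = n7908 := d24_1 D8940 (iv D7908) (iv F23169)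
theorem F28510 : act 5 n8940 = n7329 := d26_1 D8940 (iv D7329) D7328
theorem F28511 : act 6 n8940 = n8329 := d27_1 D8940 F26469 (iv D6746) (iv F18019) (iv F23170)
def n8941 : Q := act 3 n7329
theorem D8941 : act 3 n7329 = n8941 := rfl
theorem F28512 : act 0 n8941 = n7332 := d2_1 D8941 (iv D7332) (iv F23172)
def n8942 : Q := act 3 n7330
theorem D8942 : act 3 n7330 = n8942 := rfl
theorem F28513 : act 1 n8942 = n8942 := d8_1 D8942 (iv D8942) F23173
theorem F28514 : act 5 n8942 = n7909 := d19_2 (iv F23175) D8942 (iv D7909)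
theorem F28515 : act 7 n8942 = n8942 := d21_2 D7330 D8942 (iv D8942) (iv D7330) F18021
def n8943 : Q := act 3 n7331
theorem D8943 : act 3 n7331 = n8943 := rfl
theorem F28516 : act 5 n8943 = n7332 := d19_2 (iv F23177) D8943 (iv D7332)
def n8944 : Q := act 6 n7331
theorem D8944 : act 6 n7331 = n8944 := rfl
theorem F28517 : act 0 n8944 = n8329 := d5_1 D8944 (iv F28511) F28507
theorem F28518 : act 1 n8944 = n8336 := d11_1 D8944 F26500 (iv F24999)
theorem F28519 : act 4 n8944 = n7717 := d23_1 D8944 F24435 (iv F23176)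
theorem F28520 : act 7 n8944 = n7333 := d27_2 D7331 D8944 (iv D7333) (iv D5756) (iv F18025)
def n8945 : Q := act 2 n7332
theorem D8945 : act 2 n7332 = n8945 := rfl
theorem F28521 : act 7 n8945 = n8464 := d17_2 F28502 D8945 (iv F28500)
def n8946 : Q := act 4 n7332
theorem D8946 : act 4 n7332 = n8946 := rfl
theorem F28522 : act 1 n8946 = n8946 := d9_1 D8946 (iv D8946) F23178
def n8947 : Q := act 6 n7334
theorem D8947 : act 6 n7334 = n8947 := rfl
theorem F28523 : act 0 n8947 = n8947 := d5_1 D8947 (iv D8947) F23183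
theorem F28524 : act 1 n8947 = n8322 := d11_1 D8947 (iv D8322) (iv F23184)
theorem F28525 : act 2 n8947 = n7415 := d16_1 D8947 (iv D7415) (iv F23185)
theorem F28526 : act 3 n8947 = n7335 := d20_1 D8947 (iv D7335) D7334
def n8948 : Q := act 5 n7335
theorem D8948 : act 5 n7335 = n8948 := rfl
theorem F28527 : act 0 n8948 = n8948 := d4_1 D8948 (iv D8948) F23187
theorem F28528 : act 2 n8948 = n7336 := d15_1 D8948 (iv D7336) (iv F23189)
theorem F28529 : act 4 n8948 = n7407 := d22_1 D8948 (iv D7407) (iv F23190)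
theorem F28530 : act 7 n8948 = n8948 := d26_2 F23191 D8948 (iv D8948)
def n8949 : Q := act 6 n7340
theorem D8949 : act 6 n7340 = n8949 := rfl
theorem F28531 : act 0 n8949 = n7369 := d5_1 D8949 (iv D7369) (iv F23212)
theorem F28532 : act 2 n8949 = n8092 := d16_1 D8949 F25673 (iv F23213)
theorem F28533 : act 3 n8949 = n7341 := d20_1 D8949 (iv D7341) D7340
def n8950 : Q := act 5 n7341
theorem D8950 : act 5 n7341 = n8950 := rfl
theorem F28534 : act 0 n8950 = n7371 := d4_1 D8950 (iv D7371) (iv F23214)
theorem F28535 : act 1 n8950 = n8542 := d10_1 D8950 F27225 (iv F27184) F27187 F27042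
theorem F28536 : act 2 n8950 = n7342 := d15_1 D8950 (iv D7342) (iv F23215)
theorem F28537 : act 4 n8950 = n7345 := d22_1 D8950 (iv D7345) (iv F23216)
theorem F28538 : act 7 n8541 = n8950 := d12_0 F28535 (iv D8542) D8541
def n8951 : Q := act 7 n7341
theorem D8951 : act 7 n7341 = n8951 := rfl
theorem F28539 : act 0 n8951 = n7372 := d6_1 D8951 (iv D7372) (iv F23214)
theorem F28540 : act 1 n8951 = n8531 := d12_1 D8951 F27182 F27042
theorem F28541 : act 2 n8951 = n7343 := d17_1 D8951 (iv D7343) (iv F23215)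
theorem F28542 : act 4 n8951 = n7346 := d24_1 D8951 (iv D7346) (iv F23216)
theorem F28543 : act 5 n8951 = n8541 := d26_1 D8951 F28538 (iv D8950)
theorem F28544 : act 6 n8951 = n8936 := d27_1 D8951 F28494 (iv D8730) F22625 D7341
theorem F28545 : act 3 n8935 = n8951 := d20_3 F28544 F28492 (iv F28490)
def n8952 : Q := act 7 n7342
theorem D8952 : act 7 n7342 = n8952 := rfl
theorem F28546 : act 0 n8952 = n7373 := d6_1 D8952 (iv D7373) (iv F23217)
theorem F28547 : act 1 n8952 = n7656 := d12_1 D8952 F24248 (iv F23218)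
theorem F28548 : act 2 n8952 = n8541 := d17_1 D8952 F28538 F28536
theorem F28549 : act 4 n8952 = n7348 := d24_1 D8952 (iv D7348) (iv F23220)
theorem F28550 : act 5 n8952 = n7343 := d26_1 D8952 (iv D7343) D7342
def n8953 : Q := act 3 n7343
theorem D8953 : act 3 n7343 = n8953 := rfl
theorem F28551 : act 0 n8953 = n7374 := d2_1 D8953 (iv D7374) (iv F23221)
theorem F28552 : act 1 n8953 = n7344 := d8_1 D8953 (iv D7344) (iv F23222)
theorem F28553 : act 4 n8953 = n7668 := d18_2 (iv F23223) D8953 F24298 F19016 F18070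
theorem F28554 : act 7 n8953 = n8093 := d21_2 D7343 D8953 (iv D8093) (iv D6463) (iv F18059)
def n8954 : Q := act 2 n7344
theorem D8954 : act 2 n7344 = n8954 := rfl
theorem F28555 : act 0 n8954 = n7350 := d1_1 D8954 (iv D7350) (iv F23224)
theorem F28556 : act 3 n8954 = n7357 := d13_2 D7344 D8954 F23287 (iv F22673) F22672
theorem F28557 : act 4 n8954 = n7666 := d14_2 (iv F23225) D8954 F24290
theorem F28558 : act 5 n8954 = n7356 := d15_2 (iv F23226) D8954 F23282
theorem F28559 : act 6 n8954 = n8014 := d16_2 F27910 D8954 (iv F27907)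
theorem F28560 : act 7 n8954 = n8094 := d17_2 (iv F23227) D8954 (iv D8094)
theorem F28561 : act 1 n8954 = n8017 := d28_4 (iv F13361) (iv F18062) D7344 D8954 F25367 (iv D8017) F19960 D6419 F20099 (iv F25559) F25558 (iv D7489) (iv D5894) (iv F18384) D7464 F23636 F18403 (iv F22368) F22371 D7064 (iv F23089) F23092 (iv F19239) F19238 F14334 D4636 F14337 F10292 (iv F10302) (iv F13546) (iv F18261) (iv F20259) F20262 F15159 F15155 D4907 (iv F15180) F13319 F13318 (iv D4305) (iv F9817) (iv F13665) F13667 D5891 (iv F19159) F19158 (iv F16696) (iv D5350) (iv F16674) F16677 (iv F16662) F16661 (iv D4291) F9463 (iv F10750) F10746 F7524 D3498 F10759 (iv F9393) (iv F12815) F12816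
def n8955 : Q := act 1 n7345
theorem D8955 : act 1 n7345 = n8955 := rfl
theorem F28562 : act 2 n8955 = n8536 := d7_2 (iv F23229) D8955 F27203 F25125 (iv D7347)
theorem F28563 : act 4 n8955 = n8542 := d9_2 F28537 D8955 (iv F28535)
theorem F28564 : act 5 n8955 = n8535 := d10_2 D7345 D8955 F27197 (iv D8493) F21693
theorem F28565 : act 0 n8569 = n8955 := d4_3 F28564 F27196 (iv F27343)
theorem F28566 : act 7 n8534 = n8955 := d26_0 F28564 (iv D8535) D8534
def n8956 : Q := act 7 n7345
theorem D8956 : act 7 n7345 = n8956 := rfl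
theorem F28567 : act 0 n8956 = n7379 := d6_1 D8956 (iv D7379) (iv F23228)
theorem F28568 : act 1 n8956 = n8534 := d12_1 D8956 F28566 (iv D8955)
theorem F28569 : act 2 n8956 = n7348 := d17_1 D8956 (iv D7348) (iv F23229)
theorem F28570 : act 4 n8956 = n8541 := d24_1 D8956 F28538 F28537
theorem F28571 : act 5 n8956 = n7346 := d26_1 D8956 (iv D7346) D7345
def n8957 : Q := act 3 n7346
theorem D8957 : act 3 n7346 = n8957 := rfl
theorem F28572 : act 0 n8957 = n7380 := d2_1 D8957 (iv D7380) (iv F23230)
theorem F28573 : act 2 n8957 = n7670 := d13_1 D8957 (iv D7670) (iv D6058) F18070 (iv F23231)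
def n8958 : Q := act 3 n7351
theorem D8958 : act 3 n7351 = n8958 := rfl
theorem F28574 : act 0 n8958 = n8958 := d2_1 D8958 (iv D8958) F23249
theorem F28575 : act 1 n8958 = n7358 := d8_1 D8958 (iv D7358) (iv F23250)
theorem F28576 : act 2 n8958 = n8958 := d13_1 D8958 (iv D8958) (iv D7351) F18085 D7351
theorem F28577 : act 5 n8958 = n8958 := d19_2 F23252 D8958 (iv D8958)
theorem F28578 : act 6 n8958 = n7956 := d20_2 (iv F23253) D8958 (iv D7956)
def n8959 : Q := act 4 n7358
theorem D8959 : act 4 n7358 = n8959 := rfl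
theorem F28579 : act 0 n8959 = n8096 := d3_1 D8959 (iv D8096) (iv F23292)
theorem F28580 : act 2 n8959 = n7368 := d14_1 D8959 (iv D7368) (iv F23293)
theorem F28581 : act 3 n8959 = n8959 := d18_1 D8959 (iv D8959) (iv D7358) F18108 D7358
theorem F28582 : act 7 n8911 = n8959 := d17_0 F28580 (iv F23349) D8911
def n8960 : Q := act 6 n7358
theorem D8960 : act 6 n7358 = n8960 := rfl
theorem F28583 : act 0 n8960 = n8092 := d5_1 D8960 F25673 (iv F23292)
theorem F28584 : act 1 n8960 = n7956 := d11_1 D8960 (iv F28578) F28575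
theorem F28585 : act 2 n8960 = n7369 := d16_1 D8960 (iv D7369) (iv F23293)
theorem F28586 : act 3 n8960 = n7359 := d20_1 D8960 (iv D7359) D7358
theorem F28587 : act 5 n8960 = n7959 := d29_5 D6859 (iv F26934) F26933 F26935 D8960 F25146 D7961 F25152 (iv F27212) F27210 F22004 D6963 F22055 F18458 F16576 D5325 F16585 (iv F15691) F15692 F11428 F8010 (iv D2023) F4340 D1524 D2242 D3245 D4522 D6006 (iv F18838)
def n8961 : Q := act 7 n7358
theorem D8961 : act 7 n7358 = n8961 := rfl
theorem F28588 : act 0 n8961 = n7773 := d6_1 D8961 F24565 (iv F23292)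
theorem F28589 : act 2 n8961 = n7370 := d17_1 D8961 (iv D7370) (iv F23293)
theorem F28590 : act 3 n8961 = n7754 := d21_1 D8961 F24520 F23505 (iv D7360) D7358
theorem F28591 : act 4 n8961 = n8911 := d24_1 D8961 F28582 (iv D8959)
theorem F28592 : act 5 n8961 = n7808 := d26_1 D8961 (iv F26936) F26935
def n8962 : Q := act 3 n7362
theorem D8962 : act 3 n7362 = n8962 := rfl
theorem F28593 : act 0 n8962 = n8093 := d2_1 D8962 (iv D8093) (iv F23312)
theorem F28594 : act 1 n8962 = n7364 := d8_1 D8962 (iv D7364) (iv F23313)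
theorem F28595 : act 5 n8962 = n7958 := d19_2 (iv F23316) D8962 (iv D7958)
theorem F28596 : act 6 n8962 = n7992 := d20_2 F23317 D8962 (iv D7992)
theorem F28597 : act 7 n8962 = n7374 := d21_2 D7362 D8962 (iv D7374) (iv D5786) (iv F18111)
def n8963 : Q := act 6 n7364
theorem D8963 : act 6 n7364 = n8963 := rfl
theorem F28598 : act 0 n8963 = n7387 := d5_1 D8963 (iv D7387) (iv F23325)
theorem F28599 : act 1 n8963 = n7992 := d11_1 D8963 (iv F28596) F28594
theorem F28600 : act 2 n8963 = n8746 := d16_1 D8963 F27951 F23370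
theorem F28601 : act 3 n8963 = n7365 := d20_1 D8963 (iv D7365) D7364
theorem F28602 : act 4 n8963 = n8745 := d23_1 D8963 F27947 (iv F23368)
theorem F28603 : act 5 n8013 = n8963 := d28_5 F19292 (iv F19425) D7852 F24809 (iv F25350) (iv D8963) F23325 F18184 F18182 (iv D5803) (iv F18080) F18082 (iv D4559) (iv F14123) F14124 (iv D3299) F7108 (iv F10174) (iv F14161) D6048 F18991 F18992 (iv F14878) F14877 F10727 (iv F9757) (iv D3164) F6765 F4666 F3188 (iv F4650) F4649 (iv D1085) D1086 (iv F5003) F5005 D2328 F7201 (iv F10312) (iv F14362) D6156 F19281 F18307 F13549 (iv F12217) F12216 D5351 F16699 (iv F16684) F16686 F14282 F14281 D4626 F14313 D4665 (iv F18353) (iv F18817) F18816 (iv F19260) F19259 D6159 F19294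
def n8964 : Q := act 5 n7369
theorem D8964 : act 5 n7369 = n8964 := rfl
theorem F28604 : act 2 n8964 = n7959 := d15_1 D8964 (iv F28587) F28585
theorem F28605 : act 3 n8964 = n7371 := d19_1 D8964 (iv D7371) (iv F23351)
def n8965 : Q := act 6 n7370
theorem D8965 : act 6 n7370 = n8965 := rfl
theorem F28606 : act 1 n8965 = n8965 := d11_1 D8965 (iv D8965) F23352
theorem F28607 : act 3 n8965 = n7759 := d20_1 D8965 (iv D7759) (iv F23353)
theorem F28608 : act 4 n8965 = n8912 := d23_1 D8965 (iv D8912) (iv F23354)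
def n8966 : Q := act 1 n7371
theorem D8966 : act 1 n7371 = n8966 := rfl
theorem F28609 : act 0 n8966 = n8579 := d0_1 D8966 F27368 (iv F27223) (iv F28535) F28534
theorem F28610 : act 2 n8966 = n8966 := d7_2 (iv F23356) D8966 (iv D8966) F23356 F18130
theorem F28611 : act 4 n8966 = n7378 := d9_2 (iv F23357) D8966 (iv D7378)
theorem F28612 : act 5 n8966 = n8966 := d10_2 D7371 D8966 (iv D8966) (iv D7371) F18127
theorem F28613 : act 7 n8578 = n8966 := d6_0 F28609 (iv D8579) D8578
def n8967 : Q := act 7 n7371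
theorem D8967 : act 7 n7371 = n8967 := rfl
theorem F28614 : act 0 n8967 = n8541 := d6_1 D8967 F28538 F28534
theorem F28615 : act 1 n8967 = n8578 := d12_1 D8967 F28613 (iv D8966)
theorem F28616 : act 2 n8967 = n7373 := d17_1 D8967 (iv D7373) (iv F23356)
theorem F28617 : act 4 n8967 = n7379 := d24_1 D8967 (iv D7379) (iv F23357)
theorem F28618 : act 5 n8967 = n7372 := d26_1 D8967 (iv D7372) D7371
def n8968 : Q := act 3 n7372
theorem D8968 : act 3 n7372 = n8968 := rfl
theorem F28619 : act 0 n8968 = n8935 := d2_1 D8968 F28545 F28539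
theorem F28620 : act 1 n8968 = n8968 := d8_1 D8968 (iv D8968) F23358
theorem F28621 : act 6 n8968 = n8937 := d20_2 F27938 D8968 F28497
def n8969 : Q := act 3 n7373
theorem D8969 : act 3 n7373 = n8969 := rfl
theorem F28622 : act 1 n8969 = n8969 := d8_1 D8969 (iv D8969) F23361
theorem F28623 : act 4 n8969 = n7670 := d18_2 (iv F23362) D8969 (iv D7670) F23404 (iv D7381)
theorem F28624 : act 5 n8969 = n7374 := d19_2 (iv F23363) D8969 (iv D7374)
theorem F28625 : act 7 n8969 = n7958 := d21_2 D7373 D8969 (iv D7958) F23311 F23309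
def n8970 : Q := act 6 n7373
theorem D8970 : act 6 n7373 = n8970 := rfl
theorem F28626 : act 1 n8970 = n8970 := d11_1 D8970 (iv D8970) F23361
theorem F28627 : act 4 n8970 = n7382 := d23_1 D8970 (iv D7382) (iv F23362)
def n8971 : Q := act 2 n7374
theorem D8971 : act 2 n7374 = n8971 := rfl
def n8972 : Q := act 4 n7374
theorem D8972 : act 4 n7374 = n8972 := rfl
theorem F28628 : act 0 n8972 = n7668 := d3_1 D8972 (iv F28553) F28551
theorem F28629 : act 1 n8972 = n7376 := d9_1 D8972 (iv D7376) (iv F23364)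
theorem F28630 : act 3 n8972 = n7384 := d18_1 D8972 (iv D7384) (iv D5793) (iv F18133) D7374
theorem F28631 : act 5 n8972 = n7670 := d22_2 F28624 D8972 (iv F28623)
def n8973 : Q := act 1 n7375
theorem D8973 : act 1 n7375 = n8973 := rfl
theorem F28632 : act 3 n8973 = n8973 := d8_2 F23366 D8973 (iv D8973)
theorem F28633 : act 4 n8973 = n8962 := d9_2 F23368 D8973 F28594
theorem F28634 : act 7 n8973 = n8972 := d12_2 F23373 D8973 F28629
def n8974 : Q := act 0 n7378
theorem D8974 : act 0 n7378 = n8974 := rfl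
theorem F28635 : act 1 n8974 = n8569 := d0_2 D7378 D8974 F28565 (iv D8955) F23228
theorem F28636 : act 2 n8974 = n8974 := d1_2 F23376 D8974 (iv D8974)
theorem F28637 : act 4 n8974 = n8579 := d3_2 F28611 D8974 (iv F28609)
theorem F28638 : act 5 n8974 = n8974 := d4_2 F23377 D8974 (iv D8974)
theorem F28639 : act 7 n8568 = n8974 := d24_0 F28637 (iv D8579) (iv F27338)
def n8975 : Q := act 7 n7378
theorem D8975 : act 7 n7378 = n8975 := rfl
theorem F28640 : act 0 n8975 = n8568 := d6_1 D8975 F28639 (iv D8974)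
theorem F28641 : act 1 n8975 = n7379 := d12_1 D8975 (iv D7379) D7378
theorem F28642 : act 2 n8975 = n8975 := d17_1 D8975 (iv D8975) F23376
theorem F28643 : act 4 n8975 = n8578 := d24_1 D8975 F28613 F28611
theorem F28644 : act 5 n8975 = n8975 := d26_1 D8975 (iv D8975) F23377
def n8976 : Q := act 3 n7379
theorem D8976 : act 3 n7379 = n8976 := rfl
theorem F28645 : act 2 n8976 = n7668 := d13_1 D8976 F24298 (iv F23402) (iv D7381) (iv F23378)
theorem F28646 : act 5 n8976 = n7380 := d19_2 (iv F23379) D8976 (iv D7380)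
def n8977 : Q := act 6 n7379
theorem D8977 : act 6 n7379 = n8977 := rfl
theorem F28647 : act 2 n8977 = n7382 := d16_1 D8977 (iv D7382) (iv F23378)
def n8978 : Q := act 2 n7380
theorem D8978 : act 2 n7380 = n8978 := rfl
theorem F28648 : act 0 n8978 = n7670 := d1_1 D8978 (iv F28573) F28572
theorem F28649 : act 3 n8978 = n7383 := d13_2 D7380 D8978 (iv D7383) (iv D5793) (iv F18144)
theorem F28650 : act 5 n8978 = n7668 := d15_2 F28646 D8978 (iv F28645)
theorem F28651 : act 1 n7662 = n8978 := d10_5 F28650 (iv D7668) (iv D6055) (iv F18994) D7662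
def n8979 : Q := act 1 n7389
theorem D8979 : act 1 n7389 = n8979 := rfl
theorem F28652 : act 3 n8979 = n7391 := d8_2 (iv F23422) D8979 (iv D7391)
theorem F28653 : act 4 n8979 = n8216 := d9_2 (iv F23423) D8979 F26126
theorem F28654 : act 6 n8979 = n8775 := d11_2 F23463 D8979 F28019
theorem F28655 : act 7 n8979 = n8214 := d12_2 (iv F23424) D8979 F26123
def n8980 : Q := act 0 n7391
theorem D8980 : act 0 n7391 = n8980 := rfl
theorem F28656 : act 1 n8980 = n8980 := d0_2 D7391 D8980 (iv D8980) (iv D7391) F18200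
theorem F28657 : act 4 n8980 = n7405 := d3_2 (iv F23428) D8980 (iv D7405)
def n8981 : Q := act 2 n7391
theorem D8981 : act 2 n7391 = n8981 := rfl
theorem F28658 : act 1 n8981 = n7409 := d7_1 D8981 (iv D7409) (iv D5821) (iv F18201) D7391
theorem F28659 : act 4 n8981 = n7406 := d14_2 (iv F23428) D8981 (iv D7406)
def n8982 : Q := act 1 n7392
theorem D8982 : act 1 n7392 = n8982 := rfl
theorem F28660 : act 5 n8982 = n7396 := d10_2 D7392 D8982 (iv D7396) (iv D5812) (iv F18203)
def n8983 : Q := act 1 n7394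
theorem D8983 : act 1 n7394 = n8983 := rfl
theorem F28661 : act 3 n8983 = n7396 := d8_2 (iv F23435) D8983 (iv D7396)
theorem F28662 : act 4 n8983 = n8672 := d9_2 (iv F23436) D8983 F27680
theorem F28663 : act 6 n8983 = n7403 := d11_2 (iv F23437) D8983 (iv D7403)
theorem F28664 : act 7 n8983 = n8670 := d12_2 (iv F23438) D8983 F27672
def n8984 : Q := act 0 n7396
theorem D8984 : act 0 n7396 = n8984 := rfl
theorem F28665 : act 1 n8984 = n8984 := d0_2 D7396 D8984 (iv D8984) (iv D7396) F18209
theorem F28666 : act 6 n8984 = n7405 := d5_2 (iv F23442) D8984 (iv D7405)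
def n8985 : Q := act 2 n7396
theorem D8985 : act 2 n7396 = n8985 := rfl
theorem F28667 : act 1 n8985 = n7411 := d7_1 D8985 (iv D7411) (iv D5824) (iv F18210) D7396
theorem F28668 : act 6 n8985 = n7406 := d16_2 (iv F23442) D8985 (iv D7406)
def n8986 : Q := act 6 n7397
theorem D8986 : act 6 n7397 = n8986 := rfl
theorem F28669 : act 0 n8986 = n8986 := d5_1 D8986 (iv D8986) F23443
theorem F28670 : act 3 n8986 = n7398 := d20_1 D8986 (iv D7398) D7397
theorem F28671 : act 4 n8986 = n7415 := d23_1 D8986 (iv D7415) (iv F23444)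
theorem F28672 : act 5 n8986 = n8033 := d25_1 D8986 (iv D8033) (iv F25379) (iv F27148) F27141
theorem F28673 : act 7 n8044 = n8986 := d26_0 F28672 F25426 D8044
def n8987 : Q := act 5 n7398
theorem D8987 : act 5 n7398 = n8987 := rfl
theorem F28674 : act 0 n8987 = n8987 := d4_1 D8987 (iv D8987) F23446
theorem F28675 : act 2 n8987 = n7401 := d15_1 D8987 (iv D7401) (iv F23447)
theorem F28676 : act 3 n8987 = n8033 := d19_1 D8987 (iv F28672) F28670
theorem F28677 : act 4 n8987 = n7399 := d22_1 D8987 (iv D7399) (iv F23448)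
theorem F28678 : act 6 n8987 = n8032 := d25_2 D7398 D8987 F27845 (iv D8722) F22559
theorem F28679 : act 1 n8286 = n8987 := d11_3 F28678 F25422 (iv F26324)
theorem F28680 : act 7 n8284 = n8987 := d27_0 F28678 F25424 F20012 (iv F20923) D8284
def n8988 : Q := act 7 n7398
theorem D8988 : act 7 n7398 = n8988 := rfl
theorem F28681 : act 0 n8988 = n8988 := d6_1 D8988 (iv D8988) F23446
theorem F28682 : act 2 n8988 = n7402 := d17_1 D8988 (iv D7402) (iv F23447)
theorem F28683 : act 4 n8988 = n7400 := d24_1 D8988 (iv D7400) (iv F23448)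
theorem F28684 : act 5 n8988 = n8284 := d26_1 D8988 F28680 (iv D8987)
theorem F28685 : act 6 n8988 = n8330 := d27_1 D8988 F27060 (iv D8496) F21704 D7398
theorem F28686 : act 3 n8419 = n8988 := d20_3 F28685 F26472 (iv F26798)
def n8989 : Q := act 1 n7399
theorem D8989 : act 1 n7399 = n8989 := rfl
theorem F28687 : act 3 n8989 = n7417 := d8_2 (iv F23451) D8989 (iv D7417)
theorem F28688 : act 4 n8989 = n8286 := d9_2 F28677 D8989 F28679
theorem F28689 : act 6 n8989 = n8518 := d11_2 F27868 D8989 (iv F27864)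
theorem F28690 : act 0 n8294 = n8989 := d5_3 F28689 F27125 (iv F26349)
theorem F28691 : act 2 n8856 = n8989 := d16_3 F28689 F27126 (iv F28262)
theorem F28692 : act 7 n8282 = n8989 := d27_0 F28689 (iv D8518) (iv D6911) (iv F20913) D8282
def n8990 : Q := act 7 n7399
theorem D8990 : act 7 n7399 = n8990 := rfl
theorem F28693 : act 0 n8990 = n8990 := d6_1 D8990 (iv D8990) F23449
theorem F28694 : act 1 n8990 = n8282 := d12_1 D8990 F28692 (iv D8989)
theorem F28695 : act 2 n8990 = n7404 := d17_1 D8990 (iv D7404) (iv F23450)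
theorem F28696 : act 4 n8990 = n8284 := d24_1 D8990 F28680 F28677
theorem F28697 : act 5 n8990 = n7400 := d26_1 D8990 (iv D7400) D7399
theorem F28698 : act 6 n8990 = n8281 := d27_1 D8990 F26307 (iv F25431) (iv F27869) F27868
def n8991 : Q := act 1 n7401
theorem D8991 : act 1 n7401 = n8991 := rfl
theorem F28699 : act 2 n8991 = n8858 := d7_2 F28675 D8991 F28266 (iv F26323) F28679
theorem F28700 : act 3 n8991 = n8216 := d8_2 (iv F23455) D8991 F26126
theorem F28701 : act 4 n8991 = n7403 := d9_2 (iv F23456) D8991 (iv D7403)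
theorem F28702 : act 6 n8991 = n8672 := d11_2 (iv F23457) D8991 F27680
theorem F28703 : act 7 n8991 = n8149 := d12_2 F23458 D8991 F25892
def n8992 : Q := act 0 n7403
theorem D8992 : act 0 n7403 = n8992 := rfl
theorem F28704 : act 1 n8992 = n8992 := d0_2 D7403 D8992 (iv D8992) (iv D7403) F18219
theorem F28705 : act 3 n8992 = n7405 := d2_2 (iv F23464) D8992 (iv D7405)
theorem F28706 : act 7 n7617 = n8992 := d21_0 F28705 (iv F28498) F28497 (iv D8742) (iv F24127)
theorem F28707 : act 2 n8992 = n7618 := d17_1 F28706 (iv D7618) D7617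
def n8993 : Q := act 2 n7403
theorem D8993 : act 2 n7403 = n8993 := rfl
theorem F28708 : act 0 n8993 = n7618 := d1_1 D8993 (iv F28707) (iv D8992)
theorem F28709 : act 1 n8993 = n8856 := d7_1 D8993 F28691 (iv D8989) F23450 D7403
theorem F28710 : act 4 n8993 = n8858 := d14_2 F28701 D8993 (iv F28699)
theorem F28711 : act 7 n7452 = n8993 := d24_0 F28710 (iv D8858) (iv F23595)
def n8994 : Q := act 7 n7403
theorem D8994 : act 7 n7403 = n8994 := rfl
theorem F28712 : act 0 n8994 = n7617 := d6_1 D8994 F28706 (iv D8992)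
theorem F28713 : act 1 n8994 = n7404 := d12_1 D8994 (iv D7404) D7403
theorem F28714 : act 2 n8994 = n7452 := d17_1 D8994 F28711 (iv D8993)
theorem F28715 : act 3 n8994 = n8730 := d21_1 D8994 (iv F28494) F28492 F23158 (iv F23464)
theorem F28716 : act 4 n8994 = n8149 := d24_1 D8994 (iv F28703) F28701
theorem F28717 : act 6 n8994 = n7451 := d27_1 D8994 F23590 D8670 (iv F28664) F28663
def n8995 : Q := act 2 n7405
theorem D8995 : act 2 n7405 = n8995 := rfl
theorem F28718 : act 0 n8995 = n7406 := d1_1 D8995 (iv D7406) D7405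
def n8996 : Q := act 3 n7406
theorem D8996 : act 3 n7406 = n8996 := rfl
theorem F28719 : act 1 n8996 = n7418 := d8_1 D8996 (iv D7418) (iv F23471)
def n8997 : Q := act 1 n7407
theorem D8997 : act 1 n7407 = n8997 := rfl
theorem F28720 : act 3 n8997 = n8939 := d8_2 F26472 D8997 F28504
theorem F28721 : act 7 n8997 = n8997 := d12_2 F23474 D8997 (iv D8997)
theorem F28722 : act 0 n8942 = n8997 := d2_3 F28720 F28503 D8942
def n8998 : Q := act 2 n7408
theorem D8998 : act 2 n7408 = n8998 := rfl
theorem F28723 : act 5 n8998 = n7424 := d15_2 (iv F23476) D8998 (iv D7424)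
theorem F28724 : act 7 n8998 = n8998 := d17_2 F23477 D8998 (iv D8998)
def n8999 : Q := act 3 n7409
theorem D8999 : act 3 n7409 = n8999 := rfl
theorem F28725 : act 5 n8999 = n7425 := d19_2 (iv F23479) D8999 (iv D7425)
def n9000 : Q := act 1 n7410
theorem D9000 : act 1 n7410 = n9000 := rfl
theorem F28726 : act 3 n9000 = n8518 := d8_2 F27866 D9000 (iv F27864)
theorem F28727 : act 5 n9000 = n7875 := d10_2 D7410 D9000 F24874 (iv F22538) F22535
theorem F28728 : act 6 n9000 = n7417 := d11_2 (iv F23482) D9000 (iv D7417)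
theorem F28729 : act 7 n9000 = n9000 := d12_2 F23483 D9000 (iv D9000)
theorem F28730 : act 0 n7877 = n9000 := d4_3 F28727 (iv D7875) D7877
def n9001 : Q := act 3 n7411
theorem D9001 : act 3 n7411 = n9001 := rfl
theorem F28731 : act 5 n9001 = n7702 := d19_2 (iv F23484) D9001 (iv D7702)
theorem F28732 : act 6 n9001 = n7418 := d20_2 (iv F23485) D9001 (iv D7418)
def n9002 : Q := act 6 n7412
theorem D9002 : act 6 n7412 = n9002 := rfl
theorem F28733 : act 0 n9002 = n8289 := d5_1 D9002 (iv D8289) (iv F23486)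
theorem F28734 : act 1 n9002 = n7415 := d11_1 D9002 (iv D7415) (iv F23487)
theorem F28735 : act 2 n9002 = n8280 := d16_1 D9002 (iv D8280) (iv F23488)
theorem F28736 : act 3 n9002 = n7413 := d20_1 D9002 (iv D7413) D7412
def n9003 : Q := act 5 n7413
theorem D9003 : act 5 n7413 = n9003 := rfl
theorem F28737 : act 0 n9003 = n8861 := d4_1 D9003 (iv D8861) (iv F23490)
theorem F28738 : act 2 n9003 = n7428 := d15_1 D9003 (iv D7428) (iv F23492)
theorem F28739 : act 4 n9003 = n7414 := d22_1 D9003 (iv D7414) (iv F23493)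
theorem F28740 : act 7 n9003 = n7779 := d26_2 (iv F23494) D9003 (iv D7779)
def n9004 : Q := act 1 n7414
theorem D9004 : act 1 n7414 = n9004 := rfl
theorem F28741 : act 5 n9004 = n7417 := d10_2 D7414 D9004 (iv D7417) (iv D5829) (iv F18243)
def n9005 : Q := act 5 n7415
theorem D9005 : act 5 n7415 = n9005 := rfl
theorem F28742 : act 0 n9005 = n9005 := d4_1 D9005 (iv D9005) F23496
theorem F28743 : act 3 n9005 = n7416 := d19_1 D9005 (iv D7416) (iv F23497)
theorem F28744 : act 4 n9005 = n8033 := d22_1 D9005 (iv F28672) F28671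
theorem F28745 : act 6 n9005 = n8031 := d25_2 D7415 D9005 (iv F27145) (iv D8524) F21874
theorem F28746 : act 7 n9005 = n8041 := d31_1 D9005 F25452 (iv F24825) (iv D7856) F19443 F16637 (iv D5334) F12168 F12166 (iv D2761) (iv D1877) (iv F5839) (iv D1876) F4005 F2878 (iv F2874) (iv D884) D885 D1309 (iv F5838) F5837 F4582 D2150 F6657 (iv F6652) D3120 (iv F13484) D5828 (iv F23497)
def n9006 : Q := act 7 n7415
theorem D9006 : act 7 n7415 = n9006 := rfl
theorem F28747 : act 0 n9006 = n9006 := d6_1 D9006 (iv D9006) F23496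
theorem F28748 : act 3 n9006 = n7793 := d21_1 D9006 (iv D7793) F19291 (iv F18250) (iv F23497)
theorem F28749 : act 4 n9006 = n8044 := d24_1 D9006 F28673 F28671
theorem F28750 : act 5 n9006 = n8041 := d26_1 D9006 (iv F28746) (iv D9005)
theorem F28751 : act 6 n9006 = n9006 := d27_1 D9006 (iv D9006) (iv D7415) F18246 D7415
def n9007 : Q := act 1 n7416
theorem D9007 : act 1 n7416 = n9007 := rfl
theorem F28752 : act 4 n9007 = n7417 := d9_2 (iv F23500) D9007 (iv D7417)
theorem F28753 : act 7 n9007 = n7794 := d12_2 (iv F23501) D9007 (iv D7794)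
def n9008 : Q := act 0 n7417
theorem D9008 : act 0 n7417 = n9008 := rfl
theorem F28754 : act 1 n9008 = n9008 := d0_2 D7417 D9008 (iv D9008) (iv D7417) F18251
theorem F28755 : act 3 n9008 = n8294 := d2_2 F28687 D9008 F28690
theorem F28756 : act 6 n9008 = n7877 := d5_2 F28728 D9008 F28730
def n9009 : Q := act 4 n7418
theorem D9009 : act 4 n7418 = n9009 := rfl
theorem F28757 : act 5 n9009 = n7431 := d22_2 (iv F23502) D9009 (iv D7431)
def n9010 : Q := act 7 n7418
theorem D9010 : act 7 n7418 = n9010 := rfl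
theorem F28758 : act 5 n9010 = n7432 := d26_1 D9010 (iv D7432) (iv F23502)
def n9011 : Q := act 1 n7422
theorem D9011 : act 1 n7422 = n9011 := rfl
theorem F28759 : act 0 n9011 = n8311 := d0_1 D9011 F26398 F20987 (iv F20449) (iv F23515)
theorem F28760 : act 3 n9011 = n8139 := d8_2 (iv F23516) D9011 (iv D8139)
theorem F28761 : act 4 n9011 = n8341 := d9_2 (iv F23517) D9011 (iv D8341)
theorem F28762 : act 5 n9011 = n7423 := d10_2 D7422 D9011 (iv D7423) (iv D5837) (iv F18269)
theorem F28763 : act 6 n9011 = n8308 := d11_2 (iv F23518) D9011 F26386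
theorem F28764 : act 7 n9011 = n9011 := d12_2 F23519 D9011 (iv D9011)
def n9012 : Q := act 2 n7423
theorem D9012 : act 2 n7423 = n9012 := rfl
theorem F28765 : act 1 n9012 = n7424 := d7_1 D9012 (iv D7424) (iv D5838) (iv F18274) D7423
theorem F28766 : act 4 n9012 = n8830 := d14_2 (iv F23521) D9012 (iv D8830)
theorem F28767 : act 6 n9012 = n7720 := d16_2 (iv F23522) D9012 (iv D7720)
theorem F28768 : act 7 n9012 = n9012 := d17_2 F23523 D9012 (iv D9012)
def n9013 : Q := act 3 n7424
theorem D9013 : act 3 n7424 = n9013 := rfl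
theorem F28769 : act 2 n9013 = n7425 := d13_1 D9013 (iv D7425) (iv D5839) (iv F18279) D7424
theorem F28770 : act 6 n9013 = n7722 := d20_2 (iv F23524) D9013 (iv D7722)
def n9014 : Q := act 4 n7425
theorem D9014 : act 4 n7425 = n9014 := rfl
theorem F28771 : act 3 n9014 = n7431 := d18_1 D9014 (iv D7431) (iv D5845) (iv F18282) D7425
theorem F28772 : act 6 n9014 = n7725 := d23_2 (iv F23526) D9014 (iv D7725)
def n9015 : Q := act 7 n7425
theorem D9015 : act 7 n7425 = n9015 := rfl
theorem F28773 : act 0 n9015 = n7891 := d6_1 D9015 (iv F24955) F24952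
theorem F28774 : act 3 n9015 = n7890 := d21_1 D9015 (iv D7890) (iv F21811) F20004 D7425
def n9016 : Q := act 5 n7427
theorem D9016 : act 5 n7427 = n9016 := rfl
theorem F28775 : act 0 n9016 = n8862 := d4_1 D9016 (iv D8862) (iv F23530)
theorem F28776 : act 3 n9016 = n8855 := d19_1 D9016 (iv D8855) (iv F23532)
theorem F28777 : act 4 n9016 = n7429 := d22_1 D9016 (iv D7429) (iv F23533)
theorem F28778 : act 6 n9016 = n7428 := d25_2 D7427 D9016 (iv D7428) (iv D5842) D5841
def n9017 : Q := act 7 n7427
theorem D9017 : act 7 n7427 = n9017 := rfl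
theorem F28779 : act 0 n9017 = n8832 := d6_1 D9017 F28184 (iv F23530)
theorem F28780 : act 1 n9017 = n7448 := d12_1 D9017 F23584 (iv F23531)
theorem F28781 : act 2 n9017 = n8831 := d17_1 D9017 F28180 F27727
theorem F28782 : act 4 n9017 = n7430 := d24_1 D9017 (iv D7430) (iv F23533)
theorem F28783 : act 6 n9017 = n7435 := d27_1 D9017 (iv D7435) (iv D5848) (iv F18292) D7427
def n9018 : Q := act 7 n7429
theorem D9018 : act 7 n7429 = n9018 := rfl
theorem F28784 : act 2 n9018 = n8894 := d17_1 D9018 F28365 F27730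
theorem F28785 : act 5 n9018 = n7430 := d26_1 D9018 (iv D7430) D7429
def n9019 : Q := act 3 n7430
theorem D9019 : act 3 n7430 = n9019 := rfl
theorem F28786 : act 1 n9019 = n7731 := d8_1 D9019 (iv D7731) (iv F23539)
theorem F28787 : act 2 n9019 = n8893 := d13_1 D9019 (iv D8893) F23035 D7284 (iv F23540)
theorem F28788 : act 6 n9019 = n7437 := d20_2 (iv F23541) D9019 (iv D7437)
def n9020 : Q := act 7 n7431
theorem D9020 : act 7 n7431 = n9020 := rfl
theorem F28789 : act 4 n9020 = n7432 := d24_1 D9020 (iv D7432) D7431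
def n9021 : Q := act 6 n7432
theorem D9021 : act 6 n7432 = n9021 := rfl
theorem F28790 : act 7 n9021 = n7743 := d27_2 D7432 D9021 (iv D7743) (iv D6122) (iv F18299)
def n9022 : Q := act 7 n7433
theorem D9022 : act 7 n7433 = n9022 := rfl
theorem F28791 : act 0 n9022 = n7436 := d6_1 D9022 (iv D7436) (iv F23543)
theorem F28792 : act 4 n9022 = n7756 := d24_1 D9022 (iv D7756) (iv F23545)
theorem F28793 : act 5 n9022 = n7434 := d26_1 D9022 (iv D7434) D7433
def n9023 : Q := act 3 n7434
theorem D9023 : act 3 n7434 = n9023 := rfl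
theorem F28794 : act 0 n9023 = n7437 := d2_1 D9023 (iv D7437) (iv F23547)
theorem F28795 : act 7 n9023 = n7444 := d21_2 D7434 D9023 (iv D7444) (iv D5855) (iv F18301)
def n9024 : Q := act 3 n7435
theorem D9024 : act 3 n7435 = n9024 := rfl
theorem F28796 : act 1 n9024 = n7447 := d8_1 D9024 (iv D7447) (iv F23548)
theorem F28797 : act 5 n9024 = n7780 := d19_2 (iv F23550) D9024 (iv D7780)
theorem F28798 : act 7 n9024 = n7783 := d21_2 D7435 D9024 (iv D7783) (iv D6149) (iv F18306)
def n9025 : Q := act 3 n7436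
theorem D9025 : act 3 n7436 = n9025 := rfl
theorem F28799 : act 1 n9025 = n7783 := d8_1 D9025 (iv D7783) (iv F23551)
theorem F28800 : act 5 n9025 = n7437 := d19_2 (iv F23553) D9025 (iv D7437)
theorem F28801 : act 7 n9025 = n7447 := d21_2 D7436 D9025 (iv D7447) (iv D5859) (iv F18310)
def n9026 : Q := act 4 n7437
theorem D9026 : act 4 n7437 = n9026 := rfl
theorem F28802 : act 1 n9026 = n7748 := d9_1 D9026 (iv D7748) (iv F23554)
theorem F28803 : act 7 n9026 = n7450 := d24_2 (iv F23555) D9026 (iv D7450)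
def n9027 : Q := act 5 n7438
theorem D9027 : act 5 n7438 = n9027 := rfl
theorem F28804 : act 0 n9027 = n7760 := d4_1 D9027 (iv D7760) (iv F23556)
theorem F28805 : act 1 n9027 = n7744 := d10_1 D9027 (iv D7744) F19201 (iv F18321) (iv F23557)
theorem F28806 : act 3 n9027 = n7765 := d19_1 D9027 F24550 (iv F23558)
theorem F28807 : act 4 n9027 = n7440 := d22_1 D9027 (iv D7440) (iv F23559)
theorem F28808 : act 6 n9027 = n7456 := d25_2 D7438 D9027 (iv D7456) (iv D5866) (iv F18317)
def n9028 : Q := act 7 n7438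
theorem D9028 : act 7 n7438 = n9028 := rfl
theorem F28809 : act 0 n9028 = n7761 := d6_1 D9028 (iv D7761) (iv F23556)
theorem F28810 : act 1 n9028 = n7439 := d12_1 D9028 (iv D7439) (iv F23557)
theorem F28811 : act 2 n9028 = n8983 := d17_1 D9028 F28664 F27673
theorem F28812 : act 4 n9028 = n7441 := d24_1 D9028 (iv D7441) (iv F23559)
theorem F28813 : act 6 n9028 = n8993 := d27_1 D9028 (iv F28711) (iv D7452) F18347 D7438
def n9029 : Q := act 3 n7439
theorem D9029 : act 3 n7439 = n9029 := rfl
theorem F28814 : act 0 n9029 = n7446 := d2_1 D9029 (iv D7446) (iv F23560)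
theorem F28815 : act 5 n9029 = n7746 := d19_2 (iv F23562) D9029 (iv D7746)
theorem F28816 : act 7 n9029 = n7770 := d21_2 D7439 D9029 (iv D7770) (iv D6139) (iv F18319)
def n9030 : Q := act 1 n7440
theorem D9030 : act 1 n7440 = n9030 := rfl
theorem F28817 : act 4 n9030 = n7744 := d9_2 F28807 D9030 (iv F28805)
theorem F28818 : act 5 n9030 = n7442 := d10_2 D7440 D9030 (iv D7442) (iv D5854) (iv F18323)
theorem F28819 : act 6 n9030 = n7460 := d11_2 (iv F23564) D9030 (iv D7460)
theorem F28820 : act 2 n8908 = n9030 := d31_3 (iv F27920) (iv F27921) (iv F28399) F28819 (iv F24533) (iv D7758) F19226 (iv F18287) (iv F22457) (iv D7091) F17273 (iv D4088) F8942 D3072 (iv F11975) (iv F11976) (iv F11841) D5210 F17661 (iv F20830) F20829 D8253 F26225 (iv F22239) D8615 F27491 F22241 (iv F22207) (iv F22652)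
def n9031 : Q := act 7 n7440
theorem D9031 : act 7 n7440 = n9031 := rfl
theorem F28821 : act 0 n9031 = n7766 := d6_1 D9031 (iv D7766) (iv F23563)
theorem F28822 : act 5 n9031 = n7441 := d26_1 D9031 (iv D7441) D7440
def n9032 : Q := act 3 n7441
theorem D9032 : act 3 n7441 = n9032 := rfl
theorem F28823 : act 0 n9032 = n7767 := d2_1 D9032 (iv D7767) (iv F23565)
theorem F28824 : act 1 n9032 = n7444 := d8_1 D9032 (iv D7444) (iv F23566)
def n9033 : Q := act 7 n7442
theorem D9033 : act 7 n7442 = n9033 := rfl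
theorem F28825 : act 1 n9033 = n7443 := d12_1 D9033 (iv D7443) D7442
theorem F28826 : act 2 n9033 = n8733 := d17_1 D9033 F27905 (iv F23567)
theorem F28827 : act 4 n9033 = n7745 := d24_1 D9033 (iv D7745) (iv F23568)
theorem F28828 : act 6 n9033 = n7605 := d27_1 D9033 (iv D7605) F18789 F18331 (iv F23569)
def n9034 : Q := act 3 n7443
theorem D9034 : act 3 n7443 = n9034 := rfl
theorem F28829 : act 0 n9034 = n7447 := d2_1 D9034 (iv D7447) (iv F23570)
theorem F28830 : act 5 n9034 = n7444 := d19_2 (iv F23572) D9034 (iv D7444)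
def n9035 : Q := act 6 n7443
theorem D9035 : act 6 n7443 = n9035 := rfl
theorem F28831 : act 0 n9035 = n7448 := d5_1 D9035 (iv D7448) (iv F23570)
theorem F28832 : act 1 n9035 = n7605 := d11_1 D9035 (iv F28828) F28825
theorem F28833 : act 2 n9035 = n8725 := d16_1 D9035 F27861 F27130
theorem F28834 : act 4 n9035 = n7728 := d23_1 D9035 F24456 (iv F23571)
theorem F28835 : act 7 n9035 = n7445 := d27_2 D7443 D9035 (iv D7445) (iv D5857) (iv F18326)
def n9036 : Q := act 2 n7444
theorem D9036 : act 2 n7444 = n9036 := rfl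
theorem F28836 : act 0 n9036 = n7449 := d1_1 D9036 (iv D7449) (iv F23573)
def n9037 : Q := act 4 n7444
theorem D9037 : act 4 n7444 = n9037 := rfl
theorem F28837 : act 0 n9037 = n7450 := d3_1 D9037 (iv D7450) (iv F23573)
def n9038 : Q := act 2 n7446
theorem D9038 : act 2 n7446 = n9038 := rfl
theorem F28838 : act 5 n9038 = n7747 := d15_2 (iv F23580) D9038 (iv D7747)
theorem F28839 : act 7 n9038 = n7786 := d17_2 (iv F23581) D9038 (iv D7786)
def n9039 : Q := act 4 n7446
theorem D9039 : act 4 n7446 = n9039 := rfl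
theorem F28840 : act 1 n9039 = n7785 := d9_1 D9039 (iv D7785) (iv F23579)
theorem F28841 : act 3 n9039 = n7450 := d18_1 D9039 (iv D7450) (iv D5860) (iv F18339) D7446
theorem F28842 : act 5 n9039 = n7748 := d22_2 (iv F23580) D9039 (iv D7748)
theorem F28843 : act 7 n9039 = n7787 := d24_2 (iv F23581) D9039 (iv D7787)
def n9040 : Q := act 2 n7447
theorem D9040 : act 2 n7447 = n9040 := rfl
theorem F28844 : act 5 n9040 = n7449 := d15_2 (iv F23582) D9040 (iv D7449)
def n9041 : Q := act 4 n7447
theorem D9041 : act 4 n7447 = n9041 := rfl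
theorem F28845 : act 3 n9041 = n7748 := d18_1 D9041 (iv D7748) (iv D6125) (iv F18341) D7447
theorem F28846 : act 5 n9041 = n7450 := d22_2 (iv F23582) D9041 (iv D7450)
def n9042 : Q := act 6 n7447
theorem D9042 : act 6 n7447 = n9042 := rfl
theorem F28847 : act 3 n9042 = n7448 := d20_1 D9042 (iv D7448) D7447
def n9043 : Q := act 4 n7449
theorem D9043 : act 4 n7449 = n9043 := rfl
theorem F28848 : act 2 n9043 = n7450 := d14_1 D9043 (iv D7450) D7449
def n9044 : Q := act 6 n7454
theorem D9044 : act 6 n7454 = n9044 := rfl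
theorem F28849 : act 0 n9044 = n7812 := d5_1 D9044 (iv D7812) (iv F23598)
theorem F28850 : act 1 n9044 = n7465 := d11_1 D9044 (iv D7465) (iv F23599)
theorem F28851 : act 2 n9044 = n7824 := d16_1 D9044 F24717 (iv F23600)
theorem F28852 : act 3 n9044 = n7455 := d20_1 D9044 (iv D7455) D7454
def n9045 : Q := act 5 n7455
theorem D9045 : act 5 n7455 = n9045 := rfl
theorem F28853 : act 0 n9045 = n7813 := d4_1 D9045 (iv D7813) (iv F23601)
theorem F28854 : act 2 n9045 = n7456 := d15_1 D9045 (iv D7456) (iv F23603)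
theorem F28855 : act 4 n9045 = n7458 := d22_1 D9045 (iv D7458) (iv F23604)
def n9046 : Q := act 7 n7455
theorem D9046 : act 7 n7455 = n9046 := rfl
theorem F28856 : act 0 n9046 = n7814 := d6_1 D9046 (iv D7814) (iv F23601)
theorem F28857 : act 1 n9046 = n7468 := d12_1 D9046 (iv D7468) (iv F23602)
theorem F28858 : act 2 n9046 = n7457 := d17_1 D9046 (iv D7457) (iv F23603)
theorem F28859 : act 4 n9046 = n7459 := d24_1 D9046 (iv D7459) (iv F23604)
theorem F28860 : act 6 n9046 = n8854 := d27_1 D9046 F28256 F22964 (iv F18359) D7455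
def n9047 : Q := act 7 n7456
theorem D9047 : act 7 n7456 = n9047 := rfl
theorem F28861 : act 0 n9047 = n7815 := d6_1 D9047 (iv D7815) (iv F23605)
theorem F28862 : act 1 n9047 = n7597 := d12_1 D9047 F24070 (iv F23606)
theorem F28863 : act 3 n9047 = n8837 := d21_1 D9047 (iv D8837) F22874 F19364 (iv F23607)
theorem F28864 : act 4 n9047 = n7461 := d24_1 D9047 (iv D7461) (iv F23608)
theorem F28865 : act 5 n9047 = n7457 := d26_1 D9047 (iv D7457) D7456
def n9048 : Q := act 1 n7458
theorem D9048 : act 1 n7458 = n9048 := rfl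
theorem F28866 : act 5 n9048 = n7474 := d10_2 D7458 D9048 (iv D7474) (iv D5880) (iv F18371)
def n9049 : Q := act 7 n7458
theorem D9049 : act 7 n7458 = n9049 := rfl
theorem F28867 : act 0 n9049 = n7820 := d6_1 D9049 (iv D7820) (iv F23614)
theorem F28868 : act 2 n9049 = n7461 := d17_1 D9049 (iv D7461) (iv F23615)
theorem F28869 : act 5 n9049 = n7459 := d26_1 D9049 (iv D7459) D7458
def n9050 : Q := act 3 n7459
theorem D9050 : act 3 n7459 = n9050 := rfl
theorem F28870 : act 0 n9050 = n7821 := d2_1 D9050 (iv D7821) (iv F23616)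
theorem F28871 : act 1 n9050 = n7476 := d8_1 D9050 (iv D7476) (iv F23617)
theorem F28872 : act 2 n9050 = n7735 := d13_1 D9050 (iv D7735) (iv D6117) F18376 (iv F23618)
def n9051 : Q := act 2 n7460
theorem D9051 : act 2 n7460 = n9051 := rfl
theorem F28873 : act 4 n9051 = n7807 := d14_2 (iv F23619) D9051 F24667
theorem F28874 : act 5 n9051 = n7462 := d15_2 (iv F23620) D9051 (iv D7462)
theorem F28875 : act 6 n9051 = n8908 := d16_2 F28819 D9051 F28820
theorem F28876 : act 7 n9051 = n7575 := d17_2 F23621 D9051 F23998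
def n9052 : Q := act 6 n7461
theorem D9052 : act 6 n7461 = n9052 := rfl
theorem F28877 : act 0 n9052 = n7823 := d5_1 D9052 (iv D7823) (iv F23622)
theorem F28878 : act 1 n9052 = n7598 := d11_1 D9052 F24072 (iv F23623)
theorem F28879 : act 3 n9052 = n7729 := d20_1 D9052 F24457 F23625
def n9053 : Q := act 3 n7462
theorem D9053 : act 3 n7462 = n9053 := rfl
theorem F28880 : act 1 n9053 = n7479 := d8_1 D9053 (iv D7479) (iv F23626)
theorem F28881 : act 4 n9053 = n8919 := d18_2 (iv F23627) D9053 F28440 F23110 (iv F19331)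
theorem F28882 : act 6 n9053 = n7463 := d20_2 (iv F23628) D9053 (iv D7463)
def n9054 : Q := act 6 n7464
theorem D9054 : act 6 n7464 = n9054 := rfl
theorem F28883 : act 0 n9054 = n7487 := d5_1 D9054 (iv D7487) (iv F23634)
theorem F28884 : act 2 n9054 = n7997 := d16_1 D9054 F25294 (iv F23635)
theorem F28885 : act 3 n9054 = n7471 := d20_1 D9054 (iv D7471) (iv F23636)
theorem F28886 : act 4 n9054 = n7465 := d23_1 D9054 (iv D7465) D7464
def n9055 : Q := act 5 n7465
theorem D9055 : act 5 n7465 = n9055 := rfl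
theorem F28887 : act 0 n9055 = n7489 := d4_1 D9055 (iv D7489) (iv F23637)
theorem F28888 : act 2 n9055 = n7992 := d15_1 D9055 F25273 (iv F23638)
theorem F28889 : act 3 n9055 = n7467 := d19_1 D9055 (iv D7467) (iv F23639)
def n9056 : Q := act 7 n7465
theorem D9056 : act 7 n7465 = n9056 := rfl
theorem F28890 : act 0 n9056 = n7490 := d6_1 D9056 (iv D7490) (iv F23637)
theorem F28891 : act 2 n9056 = n7998 := d17_1 D9056 (iv D7998) (iv F23638)
theorem F28892 : act 3 n9036 = n9056 := d13_0 F28891 F25297 F21858 D7444 D9036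
def n9057 : Q := act 6 n7466
theorem D9057 : act 6 n7466 = n9057 := rfl
theorem F28893 : act 0 n9057 = n7491 := d5_1 D9057 (iv D7491) (iv F23640)
theorem F28894 : act 2 n9057 = n8002 := d16_1 D9057 (iv D8002) (iv F23641)
def n9058 : Q := act 1 n7467
theorem D9058 : act 1 n7467 = n9058 := rfl
theorem F28895 : act 2 n9058 = n7987 := d7_2 (iv F23643) D9058 (iv D7987) F19865 (iv F18390)
theorem F28896 : act 4 n9058 = n7474 := d9_2 (iv F23644) D9058 (iv D7474)
theorem F28897 : act 6 n9058 = n8956 := d11_2 F27195 D9058 F28568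
theorem F28898 : act 0 n8977 = n9058 := d5_3 F28897 F28567 D8977
def n9059 : Q := act 7 n7467
theorem D9059 : act 7 n7467 = n9059 := rfl
theorem F28899 : act 0 n9059 = n7493 := d6_1 D9059 (iv D7493) (iv F23642)
theorem F28900 : act 2 n9059 = n7469 := d17_1 D9059 (iv D7469) (iv F23643)
theorem F28901 : act 4 n9059 = n7475 := d24_1 D9059 (iv D7475) (iv F23644)
theorem F28902 : act 5 n9059 = n7468 := d26_1 D9059 (iv D7468) D7467
def n9060 : Q := act 3 n7468
theorem D9060 : act 3 n7468 = n9060 := rfl
theorem F28903 : act 0 n9060 = n7494 := d2_1 D9060 (iv D7494) (iv F23645)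
theorem F28904 : act 2 n9060 = n9023 := d13_1 D9060 (iv D9023) F23657 (iv D7470) (iv F23646)
theorem F28905 : act 7 n9060 = n9036 := d21_2 D7468 D9060 F28892 (iv D9056) F23639
def n9061 : Q := act 3 n7469
theorem D9061 : act 3 n7469 = n9061 := rfl
theorem F28906 : act 0 n9061 = n7495 := d2_1 D9061 (iv D7495) (iv F23648)
theorem F28907 : act 1 n9061 = n7556 := d8_1 D9061 F23936 (iv F23649)
theorem F28908 : act 4 n9061 = n7557 := d18_2 (iv F23650) D9061 F23940 F18645 F18419
theorem F28909 : act 5 n9061 = n7470 := d19_2 (iv F23651) D9061 (iv D7470)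
theorem F28910 : act 7 n9061 = n7993 := d21_2 D7469 D9061 (iv D7993) (iv D6350) (iv F18391)
theorem F28911 : act 2 n9022 = n9061 := d17_3 F28910 F25276 D9022
def n9062 : Q := act 6 n7469
theorem D9062 : act 6 n7469 = n9062 := rfl
theorem F28912 : act 0 n9062 = n7496 := d5_1 D9062 (iv D7496) (iv F23648)
theorem F28913 : act 1 n9062 = n7568 := d11_1 D9062 F23976 (iv F23649)
theorem F28914 : act 4 n9062 = n7478 := d23_1 D9062 (iv D7478) (iv F23650)
def n9063 : Q := act 7 n7471
theorem D9063 : act 7 n7471 = n9063 := rfl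
theorem F28915 : act 0 n9063 = n7499 := d6_1 D9063 (iv D7499) (iv F23658)
theorem F28916 : act 2 n9063 = n9063 := d17_1 D9063 (iv D9063) F23659
theorem F28917 : act 4 n9063 = n7473 := d24_1 D9063 (iv D7473) (iv F23660)
def n9064 : Q := act 1 n7472
theorem D9064 : act 1 n7472 = n9064 := rfl
theorem F28918 : act 3 n9064 = n7474 := d8_2 (iv F23663) D9064 (iv D7474)
def n9065 : Q := act 7 n7472
theorem D9065 : act 7 n7472 = n9065 := rfl
theorem F28919 : act 0 n9065 = n7501 := d6_1 D9065 (iv D7501) (iv F23661)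
theorem F28920 : act 2 n9065 = n9065 := d17_1 D9065 (iv D9065) F23662
theorem F28921 : act 5 n9065 = n7473 := d26_1 D9065 (iv D7473) D7472
def n9066 : Q := act 3 n7473
theorem D9066 : act 3 n7473 = n9066 := rfl
theorem F28922 : act 0 n9066 = n7502 := d2_1 D9066 (iv D7502) (iv F23664)
theorem F28923 : act 7 n9066 = n7476 := d21_2 D7473 D9066 (iv D7476) (iv D5881) (iv F18406)
theorem F28924 : act 2 n7601 = n9066 := d17_3 F28923 F23670 D7601
def n9067 : Q := act 0 n7474
theorem D9067 : act 0 n7474 = n9067 := rfl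
theorem F28925 : act 1 n9067 = n7505 := d0_2 D7474 D9067 (iv D7505) (iv D5907) (iv F18407)
theorem F28926 : act 4 n9067 = n8977 := d3_2 F28896 D9067 F28898
theorem F28927 : act 6 n9067 = n8967 := d5_2 F27222 D9067 F28614
theorem F28928 : act 2 n8970 = n9067 := d16_3 F28927 F28616 D8970
def n9068 : Q := act 2 n7474
theorem D9068 : act 2 n7474 = n9068 := rfl
theorem F28929 : act 0 n9068 = n8970 := d1_1 D9068 F28928 (iv D9067)
theorem F28930 : act 1 n9068 = n7477 := d7_1 D9068 (iv D7477) (iv D5882) (iv F18408) D7474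
theorem F28931 : act 4 n9068 = n7987 := d14_2 F28896 D9068 (iv F28895)
theorem F28932 : act 6 n9068 = n8952 := d16_2 F27222 D9068 F28548
theorem F28933 : act 7 n7577 = n9068 := d12_0 F28930 F23674 D7577
def n9069 : Q := act 7 n7474
theorem D9069 : act 7 n7474 = n9069 := rfl
theorem F28934 : act 1 n9069 = n7475 := d12_1 D9069 (iv D7475) D7474
theorem F28935 : act 2 n9069 = n7577 := d17_1 D9069 F28933 (iv D9068)
def n9070 : Q := act 3 n7475
theorem D9070 : act 3 n7475 = n9070 := rfl
theorem F28936 : act 0 n9070 = n7507 := d2_1 D9070 (iv D7507) (iv F23666)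
theorem F28937 : act 2 n9070 = n7578 := d13_1 D9070 (iv D7578) (iv D5968) F18419 (iv F23667)
theorem F28938 : act 5 n9070 = n7476 := d19_2 (iv F23668) D9070 (iv D7476)
def n9071 : Q := act 6 n7475
theorem D9071 : act 6 n7475 = n9071 := rfl
theorem F28939 : act 0 n9071 = n7508 := d5_1 D9071 (iv D7508) (iv F23666)
theorem F28940 : act 2 n9071 = n7478 := d16_1 D9071 (iv D7478) (iv F23667)
def n9072 : Q := act 4 n7476
theorem D9072 : act 4 n7476 = n9072 := rfl
theorem F28941 : act 0 n9072 = n7510 := d3_1 D9072 (iv D7510) (iv F23669)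
theorem F28942 : act 2 n9072 = n7600 := d14_1 D9072 (iv D7600) (iv F23670)
def n9073 : Q := act 3 n7477
theorem D9073 : act 3 n7477 = n9073 := rfl
theorem F28943 : act 0 n9073 = n9073 := d2_1 D9073 (iv D9073) F23671
theorem F28944 : act 2 n9073 = n9073 := d13_1 D9073 (iv D9073) (iv D7477) F18412 D7477
theorem F28945 : act 5 n9073 = n7479 := d19_2 (iv F23673) D9073 (iv D7479)
def n9074 : Q := act 7 n7479
theorem D9074 : act 7 n7479 = n9074 := rfl
theorem F28946 : act 0 n9074 = n9074 := d6_1 D9074 (iv D9074) F23678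
theorem F28947 : act 2 n9074 = n9074 := d17_1 D9074 (iv D9074) F23679
theorem F28948 : act 3 n9074 = n7541 := d21_1 D9074 (iv D7541) F18604 (iv F18423) D7479
theorem F28949 : act 6 n9074 = n9074 := d27_1 D9074 (iv D9074) F23680 F18426 (iv F23680)
def n9075 : Q := act 6 n7480
theorem D9075 : act 6 n7480 = n9075 := rfl
theorem F28950 : act 0 n9075 = n7997 := d5_1 D9075 F25294 (iv F23681)
theorem F28951 : act 1 n9075 = n9075 := d11_1 D9075 (iv D9075) F23682
theorem F28952 : act 2 n9075 = n7487 := d16_1 D9075 (iv D7487) (iv F23683)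
theorem F28953 : act 3 n9075 = n9075 := d20_1 D9075 (iv D9075) F23684
theorem F28954 : act 4 n9075 = n7481 := d23_1 D9075 (iv D7481) D7480
theorem F28955 : act 7 n8522 = n9075 := d24_0 F28954 (iv F23689) D8522
def n9076 : Q := act 7 n7480
theorem D9076 : act 7 n7480 = n9076 := rfl
theorem F28956 : act 0 n9076 = n8000 := d6_1 D9076 (iv D8000) (iv F23681)
theorem F28957 : act 1 n9076 = n9076 := d12_1 D9076 (iv D9076) F23682
theorem F28958 : act 2 n9076 = n7488 := d17_1 D9076 (iv D7488) (iv F23683)
theorem F28959 : act 4 n9076 = n7482 := d24_1 D9076 (iv D7482) D7480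
def n9077 : Q := act 5 n7481
theorem D9077 : act 5 n7481 = n9077 := rfl
theorem F28960 : act 0 n9077 = n7992 := d4_1 D9077 F25273 (iv F23685)
theorem F28961 : act 2 n9077 = n7489 := d15_1 D9077 (iv D7489) (iv F23687)
theorem F28962 : act 3 n9077 = n7483 := d19_1 D9077 (iv D7483) (iv F23688)
theorem F28963 : act 6 n9077 = n8093 := d25_2 D7481 D9077 F27300 (iv D8557) F22009
theorem F28964 : act 7 n9077 = n8520 := d26_2 F23689 D9077 F27133
theorem F28965 : act 1 n8095 = n9077 := d28_4 F21814 D8063 F25546 (iv F25682) (iv D9077) (iv D7481) F18427 D6358 F19920 (iv F23635) (iv F27634) F27637 D8664 (iv F28412) (iv F28608) F28607 F24536 F19231 (iv F14366) (iv D4649) F10307 F10302 (iv F9680) (iv F12213) F12212 (iv D3942) (iv F8542) D3326 (iv F12211) (iv F16668) (iv F21760) F21759 (iv F23304) F23305 (iv F23703) F23706 (iv F23709) F23512 F18309 (iv D4644) (iv D3349) (iv F10285) F10287 (iv F10281) (iv F14281) F14280 F13171 D4554 F14111 (iv F12851) F12850 (iv F13424) F13423 D4443 F13733 F13730 F13732 (iv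 F18536) F18535 (iv F19022) (iv F24307) F24308
def n9078 : Q := act 3 n7482
theorem D9078 : act 3 n7482 = n9078 := rfl
theorem F28966 : act 0 n9078 = n8001 := d2_1 D9078 (iv D8001) (iv F23690)
theorem F28967 : act 1 n9078 = n9078 := d8_1 D9078 (iv D9078) F23691
theorem F28968 : act 2 n9078 = n8432 := d13_1 D9078 F26837 F26753 F23031 (iv F23692)
theorem F28969 : act 7 n9078 = n7484 := d21_2 D7482 D9078 (iv D7484) (iv D5888) D5886
theorem F28970 : act 6 n8275 = n9078 := d27_5 F28969 F23702 F20864 D6653 D8275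
def n9079 : Q := act 6 n7482
theorem D9079 : act 6 n7482 = n9079 := rfl
theorem F28971 : act 0 n9079 = n8002 := d5_1 D9079 (iv D8002) (iv F23690)
theorem F28972 : act 1 n9079 = n9079 := d11_1 D9079 (iv D9079) F23691
theorem F28973 : act 2 n9079 = n7491 := d16_1 D9079 (iv D7491) (iv F23692)
theorem F28974 : act 3 n9079 = n8275 := d20_1 D9079 F28970 (iv D9078)
theorem F28975 : act 7 n9079 = n8298 := d27_2 D7482 D9079 F26358 F23689 (iv D7481)
def n9080 : Q := act 4 n7484
theorem D9080 : act 4 n7484 = n9080 := rfl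
theorem F28976 : act 0 n9080 = n8003 := d3_1 D9080 (iv D8003) (iv F23699)
theorem F28977 : act 1 n9080 = n9080 := d9_1 D9080 (iv D9080) F23700
theorem F28978 : act 2 n9080 = n8393 := d14_1 D9080 F26704 (iv F23701)
theorem F28979 : act 3 n9080 = n9080 := d18_1 D9080 (iv D9080) (iv D7484) F18437 D7484
theorem F28980 : act 6 n9080 = n8260 := d23_2 (iv F23702) D9080 F26248
def n9081 : Q := act 7 n7487
theorem D9081 : act 7 n7487 = n9081 := rfl
theorem F28981 : act 1 n9081 = n7857 := d12_1 D9081 (iv D7857) (iv F23717)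
theorem F28982 : act 2 n9081 = n8522 := d17_1 D9081 F28955 F28952
theorem F28983 : act 4 n9081 = n7490 := d24_1 D9081 (iv D7490) (iv F23719)
def n9082 : Q := act 6 n7488
theorem D9082 : act 6 n7488 = n9082 := rfl
theorem F28984 : act 1 n9082 = n7859 := d11_1 D9082 (iv D7859) (iv F23720)
theorem F28985 : act 4 n9082 = n7491 := d23_1 D9082 (iv D7491) (iv F23721)
def n9083 : Q := act 7 n7489
theorem D9083 : act 7 n7489 = n9083 := rfl
theorem F28986 : act 2 n9083 = n8520 := d17_1 D9083 (iv F28964) F28961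
theorem F28987 : act 5 n9083 = n7490 := d26_1 D9083 (iv D7490) D7489
theorem F28988 : act 3 n9040 = n9083 := d19_3 F28987 (iv F23725) (iv F28844)
def n9084 : Q := act 6 n7490
theorem D9084 : act 6 n7490 = n9084 := rfl
theorem F28989 : act 1 n9084 = n7862 := d11_1 D9084 (iv D7862) (iv F23723)
theorem F28990 : act 2 n9084 = n8298 := d16_1 D9084 F26358 (iv F23724)
theorem F28991 : act 3 n9084 = n8870 := d20_1 D9084 F28297 F23725
theorem F28992 : act 7 n9084 = n7491 := d27_2 D7490 D9084 (iv D7491) (iv D5895) D5894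
def n9085 : Q := act 5 n7491
theorem D9085 : act 5 n7491 = n9085 := rfl
def n9086 : Q := act 0 n7492
theorem D9086 : act 0 n7492 = n9086 := rfl
theorem F28993 : act 1 n9086 = n8977 := d0_2 D7492 D9086 F28898 (iv D9058) F23642
theorem F28994 : act 2 n9086 = n9086 := d1_2 F23727 D9086 (iv D9086)
theorem F28995 : act 4 n9086 = n7505 := d3_2 (iv F23728) D9086 (iv D7505)
theorem F28996 : act 5 n9086 = n7864 := d4_2 (iv F23729) D9086 (iv D7864)
theorem F28997 : act 6 n9086 = n8975 := d5_2 F27340 D9086 F28640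
def n9087 : Q := act 7 n7492
theorem D9087 : act 7 n7492 = n9087 := rfl
theorem F28998 : act 1 n9087 = n7493 := d12_1 D9087 (iv D7493) D7492
theorem F28999 : act 2 n9087 = n9087 := d17_1 D9087 (iv D9087) F23727
theorem F29000 : act 4 n9087 = n7506 := d24_1 D9087 (iv D7506) (iv F23728)
theorem F29001 : act 5 n9087 = n7865 := d26_1 D9087 (iv D7865) (iv F23729)
def n9088 : Q := act 3 n7493
theorem D9088 : act 3 n7493 = n9088 := rfl
theorem F29002 : act 2 n9088 = n9025 := d13_1 D9088 (iv D9025) F23739 (iv D7495) (iv F23730)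
theorem F29003 : act 5 n9088 = n7494 := d19_2 (iv F23732) D9088 (iv D7494)
theorem F29004 : act 7 n9088 = n9040 := d21_2 D7493 D9088 F28988 (iv D9083) F23722
def n9089 : Q := act 6 n7493
theorem D9089 : act 6 n7493 = n9089 := rfl
theorem F29005 : act 2 n9089 = n7496 := d16_1 D9089 (iv D7496) (iv F23730)
theorem F29006 : act 4 n9089 = n7508 := d23_1 D9089 (iv D7508) (iv F23731)
def n9090 : Q := act 4 n7494
theorem D9090 : act 4 n7494 = n9090 := rfl
theorem F29007 : act 1 n9090 = n7869 := d9_1 D9090 (iv D7869) (iv F23733)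
theorem F29008 : act 2 n9090 = n9026 := d14_1 D9090 (iv D9026) (iv F23734)
theorem F29009 : act 3 n9090 = n7510 := d18_1 D9090 (iv D7510) (iv D5909) (iv F18470) D7494
theorem F29010 : act 7 n9090 = n9043 := d24_2 (iv F23735) D9090 (iv D9043)
def n9091 : Q := act 6 n7495
theorem D9091 : act 6 n7495 = n9091 := rfl
theorem F29011 : act 1 n9091 = n9091 := d11_1 D9091 (iv D9091) F23736
theorem F29012 : act 2 n9091 = n7769 := d16_1 D9091 F24557 F23739
theorem F29013 : act 3 n9091 = n7496 := d20_1 D9091 (iv D7496) D7495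
theorem F29014 : act 7 n9091 = n7768 := d27_2 (iv F23738) D9091 F24555 F19249 (iv F23514)
def n9092 : Q := act 3 n7498
theorem D9092 : act 3 n7498 = n9092 := rfl
theorem F29015 : act 0 n9092 = n7518 := d2_1 D9092 (iv D7518) (iv F23747)
theorem F29016 : act 1 n9092 = n8520 := d8_1 D9092 (iv D8520) (iv F23748)
theorem F29017 : act 2 n9092 = n7517 := d13_1 D9092 (iv D7517) F18514 (iv F18481) (iv F23749)
theorem F29018 : act 4 n9092 = n7878 := d18_2 D7498 D9092 (iv D7878) (iv D6220) (iv F18478)
theorem F29019 : act 5 n9092 = n9092 := d19_2 F23750 D9092 (iv D9092)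
theorem F29020 : act 7 n9092 = n8095 := d21_2 (iv F23751) D9092 F25683 F20243 (iv F20266)
def n9093 : Q := act 3 n7499
theorem D9093 : act 3 n7499 = n9093 := rfl
theorem F29021 : act 1 n9093 = n7879 := d8_1 D9093 (iv D7879) (iv F23752)
def n9094 : Q := act 6 n7499
theorem D9094 : act 6 n7499 = n9094 := rfl
theorem F29022 : act 1 n9094 = n7880 := d11_1 D9094 (iv D7880) (iv F23752)
theorem F29023 : act 2 n9094 = n9094 := d16_1 D9094 (iv D9094) F23753
theorem F29024 : act 4 n9094 = n7503 := d23_1 D9094 (iv D7503) (iv F23754)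
theorem F29025 : act 7 n9094 = n7500 := d27_2 D7499 D9094 (iv D7500) (iv D5903) D5902
def n9095 : Q := act 3 n7501
theorem D9095 : act 3 n7501 = n9095 := rfl
theorem F29026 : act 5 n9095 = n7502 := d19_2 (iv F23760) D9095 (iv D7502)
theorem F29027 : act 7 n9095 = n7507 := d21_2 D7501 D9095 (iv D7507) (iv D5908) (iv F18490)
def n9096 : Q := act 6 n7501
theorem D9096 : act 6 n7501 = n9096 := rfl
theorem F29028 : act 2 n9096 = n9096 := d16_1 D9096 (iv D9096) F23759
def n9097 : Q := act 2 n7502
theorem D9097 : act 2 n7502 = n9097 := rfl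
theorem F29029 : act 0 n9097 = n7601 := d1_1 D9097 F28924 F28922
theorem F29030 : act 3 n9097 = n9097 := d13_2 D7502 D9097 (iv D9097) (iv D7502) F18492
theorem F29031 : act 7 n9097 = n7509 := d17_2 (iv F23762) D9097 (iv D7509)
def n9098 : Q := act 4 n7502
theorem D9098 : act 4 n7502 = n9098 := rfl
theorem F29032 : act 1 n9098 = n7886 := d9_1 D9098 (iv D7886) (iv F23761)
theorem F29033 : act 7 n9098 = n7510 := d24_2 (iv F23762) D9098 (iv D7510)
def n9099 : Q := act 6 n7502
theorem D9099 : act 6 n7502 = n9099 := rfl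
theorem F29034 : act 1 n9099 = n7887 := d11_1 D9099 (iv D7887) (iv F23761)
theorem F29035 : act 3 n9099 = n7503 := d20_1 D9099 (iv D7503) D7502
def n9100 : Q := act 5 n7503
theorem D9100 : act 5 n7503 = n9100 := rfl
theorem F29036 : act 2 n9100 = n9100 := d15_1 D9100 (iv D9100) F23764
theorem F29037 : act 7 n9100 = n7504 := d26_2 (iv F23765) D9100 (iv D7504)
def n9101 : Q := act 1 n7504
theorem D9101 : act 1 n7504 = n9101 := rfl
theorem F29038 : act 0 n9101 = n7882 := d0_1 D9101 F24895 F22816 (iv F26055) F26054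
theorem F29039 : act 3 n9101 = n7840 := d8_2 (iv F23767) D9101 F24771
theorem F29040 : act 4 n9101 = n8814 := d9_2 F26094 D9101 F28124
theorem F29041 : act 5 n9101 = n7889 := d10_2 D7504 D9101 (iv D7889) (iv D6229) (iv F18493)
theorem F29042 : act 6 n9101 = n7839 := d11_2 (iv F23768) D9101 F24768
def n9102 : Q := act 7 n7505
theorem D9102 : act 7 n7505 = n9102 := rfl
theorem F29043 : act 0 n9102 = n7506 := d6_1 D9102 (iv D7506) D7505
theorem F29044 : act 2 n9102 = n9102 := d17_1 D9102 (iv D9102) F23769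
theorem F29045 : act 5 n9102 = n7890 := d26_1 D9102 (iv D7890) (iv F23770)
def n9103 : Q := act 3 n7506
theorem D9103 : act 3 n7506 = n9103 := rfl
theorem F29046 : act 1 n9103 = n7507 := d8_1 D9103 (iv D7507) (iv F23771)
theorem F29047 : act 5 n9103 = n7891 := d19_2 (iv F23773) D9103 (iv D7891)
def n9104 : Q := act 6 n7506
theorem D9104 : act 6 n7506 = n9104 := rfl
theorem F29048 : act 1 n9104 = n7508 := d11_1 D9104 (iv D7508) (iv F23771)
theorem F29049 : act 2 n9104 = n9104 := d16_1 D9104 (iv D9104) F23772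
def n9105 : Q := act 2 n7507
theorem D9105 : act 2 n7507 = n9105 := rfl
theorem F29050 : act 0 n9105 = n7578 := d1_1 D9105 (iv F28937) F28936
theorem F29051 : act 3 n9105 = n7511 := d13_2 D7507 D9105 (iv D7511) (iv D5910) (iv F18497)
theorem F29052 : act 5 n9105 = n7509 := d15_2 (iv F23774) D9105 (iv D7509)
def n9106 : Q := act 4 n7507
theorem D9106 : act 4 n7507 = n9106 := rfl
theorem F29053 : act 5 n9106 = n7510 := d22_2 (iv F23774) D9106 (iv D7510)
def n9107 : Q := act 6 n7507
theorem D9107 : act 6 n7507 = n9107 := rfl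
theorem F29054 : act 3 n9107 = n7508 := d20_1 D9107 (iv D7508) D7507
def n9108 : Q := act 1 n7509
theorem D9108 : act 1 n7509 = n9108 := rfl
theorem F29055 : act 0 n9108 = n7738 := d0_1 D9108 F24476 F19198 (iv F18773) (iv F23776)
theorem F29056 : act 2 n9108 = n7896 := d7_2 D7509 D9108 (iv D7896) (iv D6234) (iv F18499)
theorem F29057 : act 3 n9108 = n7514 := d8_2 (iv F23777) D9108 (iv D7514)
def n9109 : Q := act 4 n7509
theorem D9109 : act 4 n7509 = n9109 := rfl
theorem F29058 : act 0 n9109 = n7600 := d3_1 D9109 (iv D7600) (iv F23776)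
theorem F29059 : act 2 n9109 = n7510 := d14_1 D9109 (iv D7510) D7509
def n9110 : Q := act 1 n7511
theorem D9110 : act 1 n7511 = n9110 := rfl
theorem F29060 : act 2 n9110 = n9110 := d7_2 D7511 D9110 (iv D9110) (iv D7511) F18501
theorem F29061 : act 7 n9110 = n9110 := d12_2 F23781 D9110 (iv D9110)
def n9111 : Q := act 4 n7511
theorem D9111 : act 4 n7511 = n9111 := rfl
theorem F29062 : act 0 n9111 = n7559 := d3_1 D9111 F23946 (iv F23779)
theorem F29063 : act 2 n9111 = n7512 := d14_1 D9111 (iv D7512) D7511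
theorem F29064 : act 5 n9111 = n7515 := d22_2 (iv F23780) D9111 (iv D7515)
theorem F29065 : act 7 n9111 = n9111 := d24_2 F23781 D9111 (iv D9111)
def n9112 : Q := act 6 n7511
theorem D9112 : act 6 n7511 = n9112 := rfl
theorem F29066 : act 0 n9112 = n7571 := d5_1 D9112 F23983 (iv F23779)
theorem F29067 : act 2 n9112 = n7513 := d16_1 D9112 (iv D7513) D7511
def n9113 : Q := act 6 n7512
theorem D9113 : act 6 n7512 = n9113 := rfl
theorem F29068 : act 0 n9113 = n7553 := d5_1 D9113 F23926 (iv F23782)
theorem F29069 : act 1 n9113 = n9113 := d11_1 D9113 (iv D9113) F23783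
theorem F29070 : act 4 n9113 = n7513 := d23_1 D9113 (iv D7513) D7512
def n9114 : Q := act 7 n7513
theorem D9114 : act 7 n7513 = n9114 := rfl
theorem F29071 : act 0 n9114 = n7566 := d6_1 D9114 F23966 (iv F23786)
theorem F29072 : act 1 n9114 = n9114 := d12_1 D9114 (iv D9114) F23787
theorem F29073 : act 6 n9114 = n9114 := d27_1 D9114 (iv D9114) (iv D7513) F18503 D7513
def n9115 : Q := act 4 n7514
theorem D9115 : act 4 n7514 = n9115 := rfl
theorem F29074 : act 0 n9115 = n7723 := d3_1 D9115 F24444 (iv F23789)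
theorem F29075 : act 1 n9115 = n7515 := d9_1 D9115 (iv D7515) D7514
theorem F29076 : act 2 n9115 = n7516 := d14_1 D9115 (iv D7516) (iv F23790)
theorem F29077 : act 6 n9115 = n7842 := d23_2 F24661 D9115 F24778
theorem F29078 : act 7 n9115 = n9115 := d24_2 F23791 D9115 (iv D9115)
def n9116 : Q := act 3 n7515
theorem D9116 : act 3 n7515 = n9116 := rfl
theorem F29079 : act 0 n9116 = n7593 := d2_1 D9116 (iv D7593) (iv F23792)
theorem F29080 : act 2 n9116 = n9024 := d13_1 D9116 (iv D9024) (iv F23744) F23745 (iv F23793)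
def n9117 : Q := act 5 n7522
theorem D9117 : act 5 n7522 = n9117 := rfl
theorem F29081 : act 0 n9117 = n9117 := d4_1 D9117 (iv D9117) F23823
theorem F29082 : act 2 n9117 = n7551 := d15_1 D9117 (iv D7551) (iv F23824)
theorem F29083 : act 3 n9117 = n7664 := d19_1 D9117 (iv D7664) (iv F23825)
theorem F29084 : act 4 n9117 = n7535 := d22_1 D9117 (iv D7535) (iv F23826)
theorem F29085 : act 6 n9117 = n9117 := d25_2 D7522 D9117 (iv D9117) (iv D7522) F18557
theorem F29086 : act 7 n9117 = n7523 := d26_2 (iv F23827) D9117 (iv D7523)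
def n9118 : Q := act 1 n7523
theorem D9118 : act 1 n7523 = n9118 := rfl
theorem F29087 : act 4 n9118 = n7538 := d9_2 (iv F23830) D9118 (iv D7538)
theorem F29088 : act 6 n9118 = n7525 := d11_2 (iv F23831) D9118 (iv D7525)
def n9119 : Q := act 2 n7525
theorem D9119 : act 2 n7525 = n9119 := rfl
theorem F29089 : act 1 n9119 = n7559 := d7_1 D9119 (iv D7559) (iv D5951) (iv F18565) D7525
theorem F29090 : act 4 n9119 = n7547 := d14_2 (iv F23834) D9119 (iv D7547)
theorem F29091 : act 5 n9119 = n7675 := d15_2 (iv F23835) D9119 (iv D7675)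
theorem F29092 : act 7 n9119 = n9119 := d17_2 F23836 D9119 (iv D9119)
def n9120 : Q := act 3 n7526
theorem D9120 : act 3 n7526 = n9120 := rfl
theorem F29093 : act 0 n9120 = n7528 := d2_1 D9120 (iv D7528) (iv F23837)
theorem F29094 : act 1 n9120 = n9120 := d8_1 D9120 (iv D9120) F23838
theorem F29095 : act 4 n9120 = n8674 := d18_2 (iv F23839) D9120 (iv D8674) F22398 (iv F21322)
theorem F29096 : act 5 n9120 = n8781 := d19_2 (iv F23840) D9120 F28031
theorem F29097 : act 7 n9120 = n9120 := d21_2 D7526 D9120 (iv D9120) (iv D7526) F18570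
def n9121 : Q := act 6 n7526
theorem D9121 : act 6 n7526 = n9121 := rfl
theorem F29098 : act 0 n9121 = n7529 := d5_1 D9121 (iv D7529) (iv F23837)
theorem F29099 : act 1 n9121 = n9121 := d11_1 D9121 (iv D9121) F23838
theorem F29100 : act 4 n9121 = n8386 := d23_1 D9121 (iv D8386) (iv F23839)
theorem F29101 : act 7 n9121 = n7527 := d27_2 D7526 D9121 (iv D7527) (iv D5929) D5928
def n9122 : Q := act 5 n7527
theorem D9122 : act 5 n7527 = n9122 := rfl
theorem F29102 : act 0 n9122 = n7531 := d4_1 D9122 (iv D7531) (iv F23841)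
theorem F29103 : act 3 n9122 = n8373 := d19_1 D9122 F26636 (iv F23843)
theorem F29104 : act 4 n9122 = n8387 := d22_1 D9122 (iv D8387) (iv F23844)
theorem F29105 : act 6 n9122 = n7676 := d25_2 D7527 D9122 (iv D7676) (iv D6067) (iv F18576)
def n9123 : Q := act 2 n7528
theorem D9123 : act 2 n7528 = n9123 := rfl
theorem F29106 : act 7 n9123 = n9123 := d17_2 F23846 D9123 (iv D9123)
def n9124 : Q := act 6 n7528
theorem D9124 : act 6 n7528 = n9124 := rfl
theorem F29107 : act 1 n9124 = n7534 := d11_1 D9124 (iv D7534) (iv F23845)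
theorem F29108 : act 3 n9124 = n7529 := d20_1 D9124 (iv D7529) D7528
def n9125 : Q := act 5 n7529
theorem D9125 : act 5 n7529 = n9125 := rfl
theorem F29109 : act 7 n9125 = n7531 := d26_2 (iv F23848) D9125 (iv D7531)
def n9126 : Q := act 5 n7530
theorem D9126 : act 5 n7530 = n9126 := rfl
theorem F29110 : act 0 n9126 = n8373 := d4_1 D9126 F26636 (iv F23849)
theorem F29111 : act 2 n9126 = n8372 := d15_1 D9126 F26632 (iv F23851)
theorem F29112 : act 3 n9126 = n7531 := d19_1 D9126 (iv D7531) (iv F23852)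
theorem F29113 : act 6 n9126 = n7677 := d25_2 D7530 D9126 (iv D7677) (iv D6068) (iv F18581)
def n9127 : Q := act 1 n7531
theorem D9127 : act 1 n7531 = n9127 := rfl
theorem F29114 : act 5 n9127 = n7538 := d10_2 D7531 D9127 (iv D7538) (iv D5936) (iv F18584)
theorem F29115 : act 6 n9127 = n7679 := d11_2 (iv F23853) D9127 (iv D7679)
def n9128 : Q := act 1 n7532
theorem D9128 : act 1 n7532 = n9128 := rfl
theorem F29116 : act 3 n9128 = n7560 := d8_2 (iv F23855) D9128 (iv D7560)
theorem F29117 : act 7 n9128 = n9128 := d12_2 F23857 D9128 (iv D9128)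
def n9129 : Q := act 4 n7532
theorem D9129 : act 4 n7532 = n9129 := rfl
theorem F29118 : act 0 n9129 = n9129 := d3_1 D9129 (iv D9129) F23854
theorem F29119 : act 2 n9129 = n7533 := d14_1 D9129 (iv D7533) D7532
theorem F29120 : act 5 n9129 = n9129 := d22_2 F23856 D9129 (iv D9129)
theorem F29121 : act 7 n9129 = n9129 := d24_2 F23857 D9129 (iv D9129)
theorem F29122 : act 3 n7951 = n9129 := d13_0 F29119 F23859 (iv F24255) (iv F24259) (iv F25118)
theorem F29123 : act 6 n9129 = n7949 := d31_4 F18586 F18587 D7533 (iv F29119) F25113 (iv D6294) F14739 (iv F19675) F19674 F14837 D6326 D7977 (iv F25272) (iv D7991) D7990 F25265 F25264 (iv F25281) F25282 (iv F23929) F23928 (iv F23924) F23923 (iv D5946) (iv F18623) F18622 (iv F18589) (iv D5934) D5933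
def n9130 : Q := act 6 n7532
theorem D9130 : act 6 n7532 = n9130 := rfl
theorem F29124 : act 0 n9130 = n9130 := d5_1 D9130 (iv D9130) F23854
theorem F29125 : act 2 n9130 = n7534 := d16_1 D9130 (iv D7534) D7532
theorem F29126 : act 3 n9130 = n7562 := d20_1 D9130 (iv D7562) (iv F23855)
theorem F29127 : act 4 n9130 = n7949 := d23_1 D9130 (iv F29123) (iv D9129)
theorem F29128 : act 5 n9130 = n7948 := d30_1 D9130 F25110 (iv F25103) F25104 F21115 (iv F21149) (iv D6725) F15953 (iv F13311) F13312 F9659 (iv D2331) F4978 F3443 (iv F4972) D2328 (iv F9167) D4199 (iv F14036) (iv F18867) (iv F24150) F24151 (iv F26681) (iv D8386) F21323 F17588 D5952 (iv F23855) F23857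
def n9131 : Q := act 6 n7533
theorem D9131 : act 6 n7533 = n9131 := rfl
theorem F29129 : act 0 n9131 = n9131 := d5_1 D9131 (iv D9131) F23858
theorem F29130 : act 2 n9131 = n7949 := d16_1 D9131 (iv F29123) F29119
theorem F29131 : act 3 n9131 = n7659 := d20_1 D9131 (iv D7659) (iv F23859)
theorem F29132 : act 4 n9131 = n7534 := d23_1 D9131 (iv D7534) D7533
theorem F29133 : act 5 n7947 = n9131 := d19_0 F29131 (iv F24264) (iv F25107)
def n9132 : Q := act 5 n7534
theorem D9132 : act 5 n7534 = n9132 := rfl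
theorem F29134 : act 0 n9132 = n9132 := d4_1 D9132 (iv D9132) F23862
theorem F29135 : act 2 n9132 = n7948 := d15_1 D9132 (iv F29128) F29125
theorem F29136 : act 3 n9132 = n7535 := d19_1 D9132 (iv D7535) (iv F23863)
theorem F29137 : act 4 n9132 = n7947 := d22_1 D9132 F29133 F29132
theorem F29138 : act 6 n9132 = n9132 := d25_2 D7534 D9132 (iv D9132) (iv D7534) F18586
def n9133 : Q := act 7 n7534
theorem D9133 : act 7 n7534 = n9133 := rfl
theorem F29139 : act 0 n9133 = n9133 := d6_1 D9133 (iv D9133) F23862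
theorem F29140 : act 3 n9133 = n7537 := d21_1 D9133 (iv D7537) F18592 (iv F18590) (iv F23863)
theorem F29141 : act 6 n9133 = n9133 := d27_1 D9133 (iv D9133) (iv D7534) F18587 D7534
def n9134 : Q := act 1 n7535
theorem D9134 : act 1 n7535 = n9134 := rfl
theorem F29142 : act 6 n9134 = n9134 := d11_2 F23866 D9134 (iv D9134)
theorem F29143 : act 7 n9134 = n7538 := d12_2 (iv F23867) D9134 (iv D7538)
def n9135 : Q := act 1 n7536
theorem D9135 : act 1 n7536 = n9135 := rfl
theorem F29144 : act 3 n9135 = n7538 := d8_2 (iv F23869) D9135 (iv D7538)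
theorem F29145 : act 6 n9135 = n7544 := d11_2 (iv F23870) D9135 (iv D7544)
def n9136 : Q := act 7 n7536
theorem D9136 : act 7 n7536 = n9136 := rfl
theorem F29146 : act 0 n9136 = n9136 := d6_1 D9136 (iv D9136) F23868
theorem F29147 : act 5 n9136 = n7537 := d26_1 D9136 (iv D7537) D7536
def n9137 : Q := act 0 n7538
theorem D9137 : act 0 n7538 = n9137 := rfl
theorem F29148 : act 1 n9137 = n9137 := d0_2 D7538 D9137 (iv D9137) (iv D7538) F18593
theorem F29149 : act 6 n9137 = n7546 := d5_2 (iv F23873) D9137 (iv D7546)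
def n9138 : Q := act 2 n7538
theorem D9138 : act 2 n7538 = n9138 := rfl
theorem F29150 : act 1 n9138 = n7571 := d7_1 D9138 (iv D7571) (iv D5960) (iv F18594) D7538
theorem F29151 : act 6 n9138 = n7547 := d16_2 (iv F23873) D9138 (iv D7547)
def n9139 : Q := act 5 n7539
theorem D9139 : act 5 n7539 = n9139 := rfl
theorem F29152 : act 0 n9139 = n8356 := d4_1 D9139 F26578 (iv F23874)
theorem F29153 : act 2 n9139 = n7683 := d15_1 D9139 (iv D7683) (iv F23876)
theorem F29154 : act 3 n9139 = n7575 := d19_1 D9139 (iv D7575) (iv F23877)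
theorem F29155 : act 4 n9139 = n9126 := d22_1 D9139 (iv D9126) (iv F23878)
theorem F29156 : act 6 n9139 = n8354 := d25_2 D7539 D9139 (iv D8354) F21201 (iv F18599)
def n9140 : Q := act 7 n7539
theorem D9140 : act 7 n7539 = n9140 := rfl
theorem F29157 : act 0 n9140 = n8382 := d6_1 D9140 (iv D8382) (iv F23874)
theorem F29158 : act 1 n9140 = n7541 := d12_1 D9140 (iv D7541) (iv F23875)
theorem F29159 : act 2 n9140 = n7684 := d17_1 D9140 (iv D7684) (iv F23876)
theorem F29160 : act 4 n9140 = n8262 := d24_1 D9140 F26253 (iv F23878)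
theorem F29161 : act 6 n9140 = n9140 := d27_1 D9140 (iv D9140) (iv D7539) F18600 D7539
def n9141 : Q := act 1 n7540
theorem D9141 : act 1 n7540 = n9141 := rfl
theorem F29162 : act 3 n9141 = n7577 := d8_2 (iv F23881) D9141 (iv D7577)
theorem F29163 : act 4 n9141 = n9135 := d9_2 (iv F23882) D9141 (iv D9135)
def n9142 : Q := act 7 n7540
theorem D9142 : act 7 n7540 = n9142 := rfl
theorem F29164 : act 0 n9142 = n9142 := d6_1 D9142 (iv D9142) F23879
theorem F29165 : act 2 n9142 = n7545 := d17_1 D9142 (iv D7545) (iv F23880)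
theorem F29166 : act 4 n9142 = n9136 := d24_1 D9142 (iv D9136) (iv F23882)
theorem F29167 : act 5 n9142 = n7541 := d26_1 D9142 (iv D7541) D7540
def n9143 : Q := act 1 n7542
theorem D9143 : act 1 n7542 = n9143 := rfl
theorem F29168 : act 4 n9143 = n7544 := d9_2 (iv F23889) D9143 (iv D7544)
theorem F29169 : act 5 n9143 = n7686 := d10_2 D7542 D9143 (iv D7686) (iv D6076) (iv F18607)
theorem F29170 : act 6 n9143 = n9141 := d11_2 (iv F23890) D9143 (iv D9141)
theorem F29171 : act 7 n8261 = n9143 := d26_0 F29169 F24362 D8261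
def n9144 : Q := act 7 n7542
theorem D9144 : act 7 n7542 = n9144 := rfl
theorem F29172 : act 0 n9144 = n9144 := d6_1 D9144 (iv D9144) F23887
theorem F29173 : act 1 n9144 = n8261 := d12_1 D9144 F29171 (iv D9143)
theorem F29174 : act 2 n9144 = n9136 := d17_1 D9144 (iv D9136) (iv F23888)
theorem F29175 : act 3 n9144 = n8087 := d21_1 D9144 (iv D8087) (iv F25607) F25609 F23969
theorem F29176 : act 4 n9144 = n7545 := d24_1 D9144 (iv D7545) (iv F23889)
theorem F29177 : act 5 n9144 = n7543 := d26_1 D9144 (iv D7543) D7542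
def n9145 : Q := act 0 n7544
theorem D9145 : act 0 n7544 = n9145 := rfl
theorem F29178 : act 1 n9145 = n9145 := d0_2 D7544 D9145 (iv D9145) (iv D7544) F18610
theorem F29179 : act 3 n9145 = n7546 := d2_2 (iv F23897) D9145 (iv D7546)
theorem F29180 : act 5 n9145 = n7687 := d4_2 (iv F23898) D9145 (iv D7687)
def n9146 : Q := act 2 n7544
theorem D9146 : act 2 n7544 = n9146 := rfl
theorem F29181 : act 5 n9146 = n7688 := d15_2 (iv F23898) D9146 (iv D7688)
def n9147 : Q := act 7 n7544
theorem D9147 : act 7 n7544 = n9147 := rfl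
theorem F29182 : act 1 n9147 = n7545 := d12_1 D9147 (iv D7545) D7544
theorem F29183 : act 3 n9147 = n9147 := d21_1 D9147 (iv D9147) F23897 F18617 (iv F23897)
theorem F29184 : act 4 n9147 = n8261 := d24_1 D9147 F29171 F29168
theorem F29185 : act 5 n9147 = n7689 := d26_1 D9147 (iv D7689) (iv F23898)
def n9148 : Q := act 6 n7545
theorem D9148 : act 6 n7545 = n9148 := rfl
theorem F29186 : act 0 n9148 = n9148 := d5_1 D9148 (iv D9148) F23899
theorem F29187 : act 3 n9148 = n9148 := d20_1 D9148 (iv D9148) F23900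
theorem F29188 : act 5 n9148 = n9148 := d25_1 D9148 (iv D9148) F23901 F18615 (iv F23901)
def n9149 : Q := act 2 n7546
theorem D9149 : act 2 n7546 = n9149 := rfl
theorem F29189 : act 0 n9149 = n7547 := d1_1 D9149 (iv D7547) D7546
theorem F29190 : act 5 n9149 = n7690 := d15_2 (iv F23903) D9149 (iv D7690)
theorem F29191 : act 7 n9149 = n9149 := d17_2 F23904 D9149 (iv D9149)
def n9150 : Q := act 3 n7547
theorem D9150 : act 3 n7547 = n9150 := rfl
theorem F29192 : act 1 n9150 = n7578 := d8_1 D9150 (iv D7578) (iv F23905)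
theorem F29193 : act 5 n9150 = n7691 := d19_2 (iv F23906) D9150 (iv D7691)
def n9151 : Q := act 4 n7548
theorem D9151 : act 4 n7548 = n9151 := rfl
theorem F29194 : act 0 n9151 = n9151 := d3_1 D9151 (iv D9151) F23908
theorem F29195 : act 1 n9151 = n8060 := d9_1 D9151 F25533 F25344
theorem F29196 : act 2 n9151 = n7549 := d14_1 D9151 (iv D7549) D7548
theorem F29197 : act 3 n9151 = n7979 := d18_1 D9151 F25220 F24259 F24256 (iv F23909)
theorem F29198 : act 5 n9151 = n9151 := d22_2 F23910 D9151 (iv D9151)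
theorem F29199 : act 6 n9151 = n7977 := d23_2 F25256 D9151 (iv F25254)
theorem F29200 : act 7 n9151 = n9151 := d24_2 F23911 D9151 (iv D9151)
def n9152 : Q := act 6 n7549
theorem D9152 : act 6 n7549 = n9152 := rfl
theorem F29201 : act 0 n9152 = n9152 := d5_1 D9152 (iv D9152) F23912
theorem F29202 : act 2 n9152 = n7977 := d16_1 D9152 (iv F29199) F29196
theorem F29203 : act 3 n9152 = n7563 := d20_1 D9152 (iv D7563) (iv F23913)
theorem F29204 : act 4 n9152 = n7550 := d23_1 D9152 (iv D7550) D7549
theorem F29205 : act 5 n7975 = n9152 := d15_0 F29202 (iv D7977) D7975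
def n9153 : Q := act 5 n7550
theorem D9153 : act 5 n7550 = n9153 := rfl
theorem F29206 : act 0 n9153 = n9153 := d4_1 D9153 (iv D9153) F23916
theorem F29207 : act 2 n9153 = n7976 := d15_1 D9153 (iv F25255) F25253
theorem F29208 : act 3 n9153 = n7551 := d19_1 D9153 (iv D7551) (iv F23917)
theorem F29209 : act 4 n9153 = n7975 := d22_1 D9153 F29205 F29204
theorem F29210 : act 6 n9153 = n9153 := d25_2 D7550 D9153 (iv D9153) (iv D7550) F18619
def n9154 : Q := act 1 n7551
theorem D9154 : act 1 n7551 = n9154 := rfl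
theorem F29211 : act 4 n9154 = n7566 := d9_2 (iv F23919) D9154 (iv D7566)
theorem F29212 : act 6 n9154 = n9154 := d11_2 F23920 D9154 (iv D9154)
theorem F29213 : act 7 n9154 = n7553 := d12_2 (iv F23921) D9154 (iv D7553)
def n9155 : Q := act 1 n7552
theorem D9155 : act 1 n7552 = n9155 := rfl
theorem F29214 : act 3 n9155 = n7553 := d8_2 (iv F23923) D9155 (iv D7553)
theorem F29215 : act 6 n9155 = n7557 := d11_2 (iv F23924) D9155 (iv D7557)
def n9156 : Q := act 2 n7553
theorem D9156 : act 2 n7553 = n9156 := rfl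
theorem F29216 : act 4 n9156 = n7571 := d14_2 (iv F23925) D9156 (iv D7571)
theorem F29217 : act 6 n9156 = n7559 := d16_2 (iv F23926) D9156 (iv D7559)
def n9157 : Q := act 1 n7554
theorem D9157 : act 1 n7554 = n9157 := rfl
theorem F29218 : act 3 n9157 = n9062 := d8_2 F23974 D9157 F28913
theorem F29219 : act 4 n9157 = n9155 := d9_2 (iv F23929) D9157 (iv D9155)
theorem F29220 : act 6 n9157 = n9061 := d11_2 F23938 D9157 F28907
theorem F29221 : act 0 n9091 = n9157 := d5_3 F29220 F28906 D9091
def n9158 : Q := act 7 n7554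
theorem D9158 : act 7 n7554 = n9158 := rfl
theorem F29222 : act 0 n9158 = n9158 := d6_1 D9158 (iv D9158) F23927
theorem F29223 : act 2 n9158 = n7558 := d17_1 D9158 (iv D7558) (iv F23928)
theorem F29224 : act 4 n9158 = n7994 := d24_1 D9158 F25282 (iv F23929)
theorem F29225 : act 5 n9158 = n7555 := d26_1 D9158 (iv D7555) D7554
def n9159 : Q := act 3 n7555
theorem D9159 : act 3 n7555 = n9159 := rfl
theorem F29226 : act 0 n9159 = n9159 := d2_1 D9159 (iv D9159) F23930
theorem F29227 : act 2 n9159 = n9159 := d13_1 D9159 (iv D9159) F23931 F18642 (iv F23931)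
theorem F29228 : act 6 n9159 = n9159 := d20_2 F23933 D9159 (iv D9159)
def n9160 : Q := act 3 n7559
theorem D9160 : act 3 n7559 = n9160 := rfl
theorem F29229 : act 5 n9160 = n7593 := d19_2 (iv F23947) D9160 (iv D7593)
def n9161 : Q := act 0 n7560
theorem D9161 : act 0 n7560 = n9161 := rfl
theorem F29230 : act 1 n9161 = n9161 := d0_2 D7560 D9161 (iv D9161) (iv D7560) F18648
theorem F29231 : act 7 n9161 = n7579 := d6_2 (iv F23949) D9161 (iv D7579)
def n9162 : Q := act 4 n7560
theorem D9162 : act 4 n7560 = n9162 := rfl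
theorem F29232 : act 1 n9162 = n7561 := d9_1 D9162 (iv D7561) D7560
theorem F29233 : act 7 n9162 = n7580 := d24_2 (iv F23949) D9162 (iv D7580)
def n9163 : Q := act 5 n7560
theorem D9163 : act 5 n7560 = n9163 := rfl
theorem F29234 : act 1 n9163 = n9163 := d10_1 D9163 (iv D9163) (iv D7560) F18649 D7560
theorem F29235 : act 7 n9163 = n7581 := d26_2 (iv F23949) D9163 (iv D7581)
def n9164 : Q := act 6 n7560
theorem D9164 : act 6 n7560 = n9164 := rfl
theorem F29236 : act 1 n9164 = n7562 := d11_1 D9164 (iv D7562) D7560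
def n9165 : Q := act 3 n7561
theorem D9165 : act 3 n7561 = n9165 := rfl
theorem F29237 : act 0 n9165 = n9165 := d2_1 D9165 (iv D9165) F23950
theorem F29238 : act 2 n9165 = n7979 := d13_1 D9165 (iv F29197) F29196 F23913 (iv F23951)
theorem F29239 : act 4 n9165 = n7951 := d18_2 D7561 D9165 F29122 (iv D9129) F23855
theorem F29240 : act 5 n9165 = n9165 := d19_2 F23952 D9165 (iv D9165)
theorem F29241 : act 6 n7942 = n9165 := d31_4 D4807 F14867 (iv F19816) (iv F25090) (iv D9165) F23952 F23953 (iv D5970) (iv D4479) D4481 F13853 (iv F9910) (iv F9924) F9922 F9921 F9923 (iv F9938) (iv D3221) (iv F9773) F9772 D3487 D4811 F14878 D6052 (iv F24287) F24285 (iv D6335) F14865 (iv D4806)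
theorem F29242 : act 7 n8061 = n9165 := d17_0 F29238 (iv F25222) D8061
def n9166 : Q := act 6 n7561
theorem D9166 : act 6 n7561 = n9166 := rfl
theorem F29243 : act 0 n9166 = n9166 := d5_1 D9166 (iv D9166) F23950
theorem F29244 : act 2 n9166 = n7563 := d16_1 D9166 (iv D7563) (iv F23951)
theorem F29245 : act 3 n9166 = n7942 := d20_1 D9166 F29241 (iv D9165)
theorem F29246 : act 4 n9166 = n7562 := d23_1 D9166 (iv D7562) D7561
theorem F29247 : act 5 n7941 = n9166 := d19_0 F29245 (iv D7942) D7941
def n9167 : Q := act 5 n7562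
theorem D9167 : act 5 n7562 = n9167 := rfl
theorem F29248 : act 0 n9167 = n9167 := d4_1 D9167 (iv D9167) F23954
theorem F29249 : act 2 n9167 = n7564 := d15_1 D9167 (iv D7564) (iv F23955)
theorem F29250 : act 3 n9167 = n7948 := d19_1 D9167 (iv F29128) F29126
theorem F29251 : act 4 n9167 = n7941 := d22_1 D9167 F29247 F29246
theorem F29252 : act 6 n9167 = n9167 := d25_2 D7562 D9167 (iv D9167) (iv D7562) F18649
theorem F29253 : act 1 n9167 = n7943 := d30_2 D7562 D9167 F25094 (iv F25839) F25842 (iv F26518) (iv D8340) (iv F23188) F23189 F18038 F13491 (iv D3357) F7209 F7207 (iv F7198) (iv F10012) (iv D3244) (iv F6979) D3257 D4531 D6012 (iv F18865) (iv D5203) D5202 F16172 F12902 D4479 F13846 (iv F18650)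
def n9168 : Q := act 5 n7563
theorem D9168 : act 5 n7563 = n9168 := rfl
theorem F29254 : act 0 n9168 = n9168 := d4_1 D9168 (iv D9168) F23956
theorem F29255 : act 2 n9168 = n7941 := d15_1 D9168 F29247 F29244
theorem F29256 : act 3 n9168 = n7975 := d19_1 D9168 F29205 F29203
theorem F29257 : act 4 n9168 = n7564 := d22_1 D9168 (iv D7564) (iv F23957)
theorem F29258 : act 6 n9168 = n9168 := d25_2 D7563 D9168 (iv D9168) (iv D7563) F18652
def n9169 : Q := act 7 n7563
theorem D9169 : act 7 n7563 = n9169 := rfl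
theorem F29259 : act 0 n9169 = n9169 := d6_1 D9169 (iv D9169) F23956
theorem F29260 : act 1 n9169 = n8113 := d12_1 D9169 (iv F28064) F28062
theorem F29261 : act 4 n9169 = n7565 := d24_1 D9169 (iv D7565) (iv F23957)
theorem F29262 : act 6 n9169 = n7585 := d27_1 D9169 (iv D7585) (iv D5972) (iv F18653) D7563
def n9170 : Q := act 1 n7564
theorem D9170 : act 1 n7564 = n9170 := rfl
theorem F29263 : act 3 n9170 = n7566 := d8_2 (iv F23959) D9170 (iv D7566)
theorem F29264 : act 6 n9170 = n9170 := d11_2 F23960 D9170 (iv D9170)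
def n9171 : Q := act 7 n7564
theorem D9171 : act 7 n7564 = n9171 := rfl
theorem F29265 : act 0 n9171 = n9171 := d6_1 D9171 (iv D9171) F23958
theorem F29266 : act 3 n9171 = n7570 := d21_1 D9171 (iv D7570) F18668 (iv F18658) (iv F23959)
theorem F29267 : act 5 n9171 = n7565 := d26_1 D9171 (iv D7565) D7564
theorem F29268 : act 6 n8100 = n9171 := d25_0 F29267 F23964 F18719 D6476 D8100
def n9172 : Q := act 2 n7566
theorem D9172 : act 2 n7566 = n9172 := rfl
theorem F29269 : act 6 n9172 = n9172 := d16_2 F23965 D9172 (iv D9172)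
theorem F29270 : act 7 n9172 = n7571 := d17_2 (iv F23966) D9172 (iv D7571)
def n9173 : Q := act 1 n7567
theorem D9173 : act 1 n7567 = n9173 := rfl
theorem F29271 : act 3 n9173 = n9143 := d8_2 (iv F23969) D9173 (iv D9143)
theorem F29272 : act 4 n9173 = n8460 := d9_2 (iv F23970) D9173 F26929
theorem F29273 : act 5 n9173 = n8456 := d10_2 D7567 D9173 F26913 F21597 F19046
theorem F29274 : act 6 n9173 = n7577 := d11_2 (iv F23971) D9173 (iv D7577)
theorem F29275 : act 7 n9173 = n8455 := d12_2 F25609 D9173 F26908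
theorem F29276 : act 0 n8467 = n9173 := d6_3 F29275 F26907 D8467
def n9174 : Q := act 7 n7568
theorem D9174 : act 7 n7568 = n9174 := rfl
theorem F29277 : act 0 n9174 = n9174 := d6_1 D9174 (iv D9174) F23972
theorem F29278 : act 2 n9174 = n8459 := d17_1 D9174 (iv F26927) (iv F23973)
theorem F29279 : act 4 n9174 = n7570 := d24_1 D9174 (iv D7570) (iv F23975)
theorem F29280 : act 5 n9174 = n7569 := d26_1 D9174 (iv D7569) D7568
theorem F29281 : act 6 n9174 = n7953 := d27_1 D9174 (iv D7953) F19712 (iv F18700) (iv F23976)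
def n9175 : Q := act 3 n7569
theorem D9175 : act 3 n7569 = n9175 := rfl
theorem F29282 : act 0 n9175 = n9175 := d2_1 D9175 (iv D9175) F23977
theorem F29283 : act 2 n9175 = n9175 := d13_1 D9175 (iv D9175) F23978 F21608 (iv F23978)
theorem F29284 : act 6 n9175 = n7586 := d20_2 (iv F23980) D9175 (iv D7586)
theorem F29285 : act 7 n9175 = n9159 := d21_2 D7569 D9175 (iv D9159) (iv D7555) (iv F18665)
def n9176 : Q := act 3 n7571
theorem D9176 : act 3 n7571 = n9176 := rfl
theorem F29286 : act 6 n9176 = n7578 := d20_2 (iv F23983) D9176 (iv D7578)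
def n9177 : Q := act 5 n7572
theorem D9177 : act 5 n7572 = n9177 := rfl
theorem F29287 : act 0 n9177 = n7575 := d4_1 D9177 (iv D7575) (iv F23984)
theorem F29288 : act 2 n9177 = n7595 := d15_1 D9177 (iv D7595) (iv F23986)
theorem F29289 : act 3 n9177 = n8356 := d19_1 D9177 F26578 (iv F23987)
theorem F29290 : act 6 n9177 = n8355 := d25_2 D7572 D9177 (iv D8355) F21204 F18677
def n9178 : Q := act 5 n7573
theorem D9178 : act 5 n7573 = n9178 := rfl
theorem F29291 : act 2 n9178 = n7597 := d15_1 D9178 (iv D7597) (iv F23989)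
theorem F29292 : act 3 n9178 = n8152 := d19_1 D9178 (iv D8152) (iv F23990)
theorem F29293 : act 4 n9178 = n7575 := d22_1 D9178 (iv D7575) (iv F23991)
theorem F29294 : act 6 n9178 = n8153 := d25_2 D7573 D9178 (iv D8153) (iv D6540) F18682
theorem F29295 : act 7 n9178 = n7807 := d26_2 (iv F23992) D9178 (iv D7807)
def n9179 : Q := act 5 n7574
theorem D9179 : act 5 n7574 = n9179 := rfl
theorem F29296 : act 0 n9179 = n8355 := d4_1 D9179 (iv D8355) (iv F23993)
theorem F29297 : act 2 n9179 = n7598 := d15_1 D9179 (iv D7598) (iv F23995)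
theorem F29298 : act 3 n9179 = n8354 := d19_1 D9179 (iv D8354) (iv F23996)
theorem F29299 : act 4 n9179 = n8153 := d22_1 D9179 (iv D8153) (iv F23997)
theorem F29300 : act 6 n9179 = n7575 := d25_2 D7574 D9179 (iv D7575) (iv D5964) D5963
def n9180 : Q := act 1 n7575
theorem D9180 : act 1 n7575 = n9180 := rfl
theorem F29301 : act 5 n9180 = n7577 := d10_2 D7575 D9180 (iv D7577) (iv D5966) (iv F18689)
def n9181 : Q := act 1 n7576
theorem D9181 : act 1 n7576 = n9181 := rfl
theorem F29302 : act 3 n9181 = n9118 := d8_2 (iv F24001) D9181 (iv D9118)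
theorem F29303 : act 4 n9181 = n7577 := d9_2 (iv F24002) D9181 (iv D7577)
theorem F29304 : act 6 n9181 = n8460 := d11_2 (iv F24003) D9181 F26929
theorem F29305 : act 7 n9181 = n7987 := d12_2 (iv F24004) D9181 (iv D7987)
theorem F29306 : act 0 n8476 = n9181 := d6_3 F29305 (iv F25250) (iv F26980)
def n9182 : Q := act 0 n7577
theorem D9182 : act 0 n7577 = n9182 := rfl
theorem F29307 : act 1 n9182 = n9182 := d0_2 D7577 D9182 (iv D9182) (iv D7577) F18696
theorem F29308 : act 4 n9182 = n8476 := d3_2 F29303 D9182 F29306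
theorem F29309 : act 6 n9182 = n8467 := d5_2 F29274 D9182 F29276
theorem F29310 : act 7 n9182 = n8970 := d6_2 (iv F28933) D9182 (iv F28929)
def n9183 : Q := act 4 n7578
theorem D9183 : act 4 n7578 = n9183 := rfl
theorem F29311 : act 5 n9183 = n7600 := d22_2 (iv F24005) D9183 (iv D7600)
def n9184 : Q := act 7 n7578
theorem D9184 : act 7 n7578 = n9184 := rfl
theorem F29312 : act 3 n9184 = n9184 := d21_1 D9184 (iv D9184) (iv D7578) F18702 D7578
theorem F29313 : act 5 n9184 = n7601 := d26_1 D9184 (iv D7601) (iv F24005)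
def n9185 : Q := act 4 n7579
theorem D9185 : act 4 n7579 = n9185 := rfl
theorem F29314 : act 0 n9185 = n7580 := d3_1 D9185 (iv D7580) D7579
theorem F29315 : act 1 n9185 = n9185 := d9_1 D9185 (iv D9185) F24006
theorem F29316 : act 2 n9185 = n9101 := d14_1 D9185 F29040 F28125
def n9186 : Q := act 5 n7579
theorem D9186 : act 5 n7579 = n9186 := rfl
theorem F29317 : act 0 n9186 = n7581 := d4_1 D9186 (iv D7581) D7579
theorem F29318 : act 3 n9186 = n9186 := d19_1 D9186 (iv D9186) F24007
theorem F29319 : act 6 n9186 = n9186 := d5_0 F29317 F24011 (iv F29317)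
def n9187 : Q := act 6 n7579
theorem D9187 : act 6 n7579 = n9187 := rfl
theorem F29320 : act 0 n9187 = n7582 := d5_1 D9187 (iv D7582) D7579
theorem F29321 : act 1 n9187 = n9187 := d11_1 D9187 (iv D9187) F24006
theorem F29322 : act 2 n9187 = n8104 := d16_1 D9187 (iv F28127) F28125
theorem F29323 : act 3 n9187 = n9187 := d20_1 D9187 (iv D9187) F24007
theorem F29324 : act 5 n9187 = n9187 := d25_1 D9187 (iv D9187) D9186 F29319 (iv D9186)
theorem F29325 : act 7 n8390 = n9187 := d17_0 F29322 (iv F25729) (iv F26691)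
def n9188 : Q := act 5 n7580
theorem D9188 : act 5 n7580 = n9188 := rfl
theorem F29326 : act 1 n9188 = n9188 := d10_1 D9188 (iv D9188) F24008 F18706 (iv F24008)
theorem F29327 : act 4 n9188 = n7581 := d22_1 D9188 (iv D7581) D7580
theorem F29328 : act 6 n9188 = n9188 := d25_2 (iv F24894) D9188 (iv D9188) F24894 F24893
def n9189 : Q := act 7 n7583
theorem D9189 : act 7 n7583 = n9189 := rfl
theorem F29329 : act 0 n9189 = n9189 := d6_1 D9189 (iv D9189) F24016
theorem F29330 : act 2 n9189 = n9189 := d17_1 D9189 (iv D9189) F24017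
theorem F29331 : act 3 n9189 = n8061 := d21_1 D9189 F29242 (iv D9165) F23953 D7583
theorem F29332 : act 4 n9189 = n9189 := d24_1 D9189 (iv D9189) F24018
theorem F29333 : act 5 n9189 = n9189 := d26_1 D9189 (iv D9189) F24019
theorem F29334 : act 6 n9189 = n9189 := d27_1 D9189 (iv D9189) F25494 F25493 (iv F25494)
def n9190 : Q := act 3 n7585
theorem D9190 : act 3 n7585 = n9190 := rfl
theorem F29335 : act 0 n9190 = n9190 := d2_1 D9190 (iv D9190) F24024
theorem F29336 : act 1 n9190 = n8112 := d8_1 D9190 (iv D8112) (iv F24025)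
theorem F29337 : act 2 n9190 = n9190 := d13_1 D9190 (iv D9190) (iv F25628) F25629 F25628
theorem F29338 : act 4 n9190 = n7586 := d18_2 (iv F24026) D9190 (iv D7586) F18722 (iv F18718)
theorem F29339 : act 5 n9190 = n8098 := d19_2 (iv F24027) D9190 (iv D8098)
theorem F29340 : act 7 n9190 = n9190 := d21_2 D7585 D9190 (iv D9190) (iv D7585) F18713
def n9191 : Q := act 1 n7588
theorem D9191 : act 1 n7588 = n9191 := rfl
theorem F29341 : act 3 n9191 = n7718 := d8_2 (iv F24037) D9191 (iv D7718)
theorem F29342 : act 4 n9191 = n8649 := d9_2 (iv F24038) D9191 (iv D8649)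
theorem F29343 : act 5 n9191 = n7590 := d10_2 D7588 D9191 (iv D7590) (iv D5977) (iv F18730)
theorem F29344 : act 7 n8685 = n9191 := d26_0 F29343 F24046 D8685
def n9192 : Q := act 7 n7588
theorem D9192 : act 7 n7588 = n9192 := rfl
theorem F29345 : act 0 n9192 = n8652 := d6_1 D9192 (iv D8652) (iv F24036)
theorem F29346 : act 1 n9192 = n8685 := d12_1 D9192 F29344 (iv D9191)
theorem F29347 : act 4 n9192 = n7999 := d24_1 D9192 F25301 (iv F24038)
theorem F29348 : act 5 n9192 = n7589 := d26_1 D9192 (iv D7589) D7588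
def n9193 : Q := act 2 n7590
theorem D9193 : act 2 n7590 = n9193 := rfl
theorem F29349 : act 0 n9193 = n9033 := d1_1 D9193 F28826 F27901
theorem F29350 : act 1 n9193 = n7591 := d7_1 D9193 (iv D7591) (iv D5979) (iv F18734) D7590
theorem F29351 : act 4 n9193 = n8650 := d14_2 (iv F24044) D9193 (iv D8650)
theorem F29352 : act 6 n9193 = n7613 := d16_2 (iv F24045) D9193 F24112
theorem F29353 : act 7 n9193 = n7614 := d17_2 (iv F24046) D9193 F24117
def n9194 : Q := act 3 n7591
theorem D9194 : act 3 n7591 = n9194 := rfl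
theorem F29354 : act 0 n9194 = n9024 := d2_1 D9194 (iv D9024) (iv F24047)
theorem F29355 : act 2 n9194 = n7593 := d13_1 D9194 (iv D7593) (iv D5981) (iv F18744) D7591
theorem F29356 : act 7 n9194 = n7788 := d21_2 F24049 D9194 F24603 F19273 (iv F19282)
def n9195 : Q := act 4 n7593
theorem D9195 : act 4 n7593 = n9195 := rfl
theorem F29357 : act 1 n9195 = n7725 := d9_1 D9195 (iv D7725) (iv F24056)
theorem F29358 : act 3 n9195 = n7600 := d18_1 D9195 (iv D7600) (iv D5988) (iv F18752) D7593
def n9196 : Q := act 7 n7593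
theorem D9196 : act 7 n7593 = n9196 := rfl
theorem F29359 : act 1 n9196 = n7726 := d12_1 D9196 (iv D7726) (iv F24056)
theorem F29360 : act 2 n9196 = n7788 := d17_1 D9196 (iv F29356) F29355
theorem F29361 : act 3 n9196 = n9196 := d21_1 D9196 (iv D9196) (iv D7593) F18753 D7593
theorem F29362 : act 6 n9196 = n7786 := d30_6 D2227 D3226 D4497 D5981 D7593 D9196 F24600 D7789 F24837 (iv D7861) (iv D6210) (iv D4693) F10444 (iv F13676) (iv F18429) (iv D5886) D5888 (iv F18438) (iv D5337) (iv D3931) (iv D2763) (iv D1880) (iv D1265) (iv F3945) F3944 F3409 (iv F3292) F3293 D1515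
def n9197 : Q := act 5 n7594
theorem D9197 : act 5 n7594 = n9197 := rfl
theorem F29363 : act 0 n9197 = n7598 := d4_1 D9197 (iv D7598) (iv F24057)
theorem F29364 : act 1 n9197 = n8686 := d10_1 D9197 (iv D8686) F22429 (iv F21214) (iv F24058)
theorem F29365 : act 2 n9197 = n8355 := d15_1 D9197 (iv D8355) (iv F24059)
theorem F29366 : act 3 n9197 = n7727 := d19_1 D9197 (iv D7727) (iv F24060)
theorem F29367 : act 6 n9197 = n7595 := d25_2 D7594 D9197 (iv D7595) (iv D5983) D5982
def n9198 : Q := act 7 n7594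
theorem D9198 : act 7 n7594 = n9198 := rfl
theorem F29368 : act 0 n9198 = n7599 := d6_1 D9198 (iv D7599) (iv F24057)
theorem F29369 : act 1 n9198 = n8143 := d12_1 D9198 F25868 (iv F24058)
theorem F29370 : act 2 n9198 = n8138 := d17_1 D9198 F25843 (iv F24059)
theorem F29371 : act 6 n9198 = n7603 := d27_1 D9198 (iv D7603) (iv D5990) (iv F18758) D7594
def n9199 : Q := act 5 n7596
theorem D9199 : act 5 n7596 = n9199 := rfl
theorem F29372 : act 2 n9199 = n8153 := d15_1 D9199 (iv D8153) (iv F24065)
theorem F29373 : act 3 n9199 = n8857 := d19_1 D9199 (iv D8857) (iv F24066)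
theorem F29374 : act 4 n9199 = n7598 := d22_1 D9199 (iv D7598) (iv F24067)
theorem F29375 : act 6 n9199 = n7597 := d25_2 D7596 D9199 (iv D7597) (iv D5985) D5984
def n9200 : Q := act 7 n7596
theorem D9200 : act 7 n7596 = n9200 := rfl
theorem F29376 : act 1 n9200 = n8844 := d12_1 D9200 (iv D8844) (iv F24064)
theorem F29377 : act 2 n9200 = n8154 := d17_1 D9200 (iv D8154) (iv F24065)
theorem F29378 : act 4 n9200 = n7599 := d24_1 D9200 (iv D7599) (iv F24067)
theorem F29379 : act 6 n9200 = n7604 := d27_1 D9200 (iv D7604) (iv D5991) (iv F18766) D7596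
def n9201 : Q := act 7 n7598
theorem D9201 : act 7 n7598 = n9201 := rfl
theorem F29380 : act 5 n9201 = n7599 := d26_1 D9201 (iv D7599) D7598
def n9202 : Q := act 3 n7599
theorem D9202 : act 3 n7599 = n9202 := rfl
theorem F29381 : act 6 n9202 = n7606 := d20_2 (iv F24073) D9202 (iv D7606)
theorem F29382 : act 7 n9202 = n7731 := d21_2 D7599 D9202 (iv D7731) (iv D6114) (iv F18771)
def n9203 : Q := act 7 n7600
theorem D9203 : act 7 n7600 = n9203 := rfl
theorem F29383 : act 1 n9203 = n7742 := d12_1 D9203 (iv D7742) (iv F24074)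
theorem F29384 : act 4 n9203 = n7601 := d24_1 D9203 (iv D7601) D7600
def n9204 : Q := act 6 n7601
theorem D9204 : act 6 n7601 = n9204 := rfl
theorem F29385 : act 1 n9204 = n7743 := d11_1 D9204 (iv D7743) (iv F24075)
theorem F29386 : act 3 n9204 = n9204 := d20_1 D9204 (iv D9204) F24076
def n9205 : Q := act 5 n7602
theorem D9205 : act 5 n7602 = n9205 := rfl
theorem F29387 : act 0 n9205 = n9199 := d4_1 D9205 (iv D9199) (iv F24077)
theorem F29388 : act 1 n9205 = n8862 := d10_1 D9205 (iv D8862) F22940 F18807 (iv F24078)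
theorem F29389 : act 2 n9205 = n8383 := d15_1 D9205 (iv D8383) (iv F24079)
theorem F29390 : act 3 n9205 = n7608 := d19_1 D9205 (iv D7608) (iv F24080)
theorem F29391 : act 4 n9205 = n9197 := d22_1 D9205 (iv D9197) (iv F24081)
theorem F29392 : act 6 n9205 = n7626 := d25_2 D7602 D9205 (iv D7626) (iv D6013) (iv F18778)
def n9206 : Q := act 7 n7602
theorem D9206 : act 7 n7602 = n9206 := rfl
theorem F29393 : act 0 n9206 = n9200 := d6_1 D9206 (iv D9200) (iv F24077)
theorem F29394 : act 1 n9206 = n7603 := d12_1 D9206 (iv D7603) (iv F24078)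
theorem F29395 : act 2 n9206 = n8142 := d17_1 D9206 F25864 (iv F24079)
theorem F29396 : act 4 n9206 = n9198 := d24_1 D9206 (iv D9198) (iv F24081)
theorem F29397 : act 6 n9206 = n8143 := d27_1 D9206 F25868 F21215 (iv F18779) D7602
def n9207 : Q := act 3 n7603
theorem D9207 : act 3 n7603 = n9207 := rfl
theorem F29398 : act 0 n9207 = n7606 := d2_1 D9207 (iv D7606) (iv F24082)
theorem F29399 : act 7 n9207 = n7610 := d21_2 D7603 D9207 (iv D7610) (iv D5996) (iv F18781)
def n9208 : Q := act 3 n7604
theorem D9208 : act 3 n7604 = n9208 := rfl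
theorem F29400 : act 2 n9208 = n8255 := d13_1 D9208 (iv D8255) F20834 (iv F20529) (iv F24083)
theorem F29401 : act 5 n9208 = n8739 := d19_2 (iv F24085) D9208 (iv D8739)
theorem F29402 : act 7 n9208 = n8651 := d21_2 D7604 D9208 (iv D8651) F22343 (iv F18783)
def n9209 : Q := act 3 n7605
theorem D9209 : act 3 n7605 = n9209 := rfl
theorem F29403 : act 5 n9209 = n7606 := d19_2 (iv F24088) D9209 (iv D7606)
theorem F29404 : act 7 n9209 = n7619 := d21_2 D7605 D9209 (iv D7619) (iv D6003) (iv F18787)
def n9210 : Q := act 2 n7606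
theorem D9210 : act 2 n7606 = n9210 := rfl
theorem F29405 : act 7 n9210 = n7620 := d17_2 (iv F24089) D9210 (iv D7620)
def n9211 : Q := act 4 n7606
theorem D9211 : act 4 n7606 = n9211 := rfl
theorem F29406 : act 7 n9211 = n7621 := d24_2 (iv F24089) D9211 (iv D7621)
def n9212 : Q := act 5 n7607
theorem D9212 : act 5 n7607 = n9212 := rfl
theorem F29407 : act 2 n9212 = n7608 := d15_1 D9212 (iv D7608) (iv F24091)
theorem F29408 : act 3 n9212 = n8385 := d19_1 D9212 (iv D8385) (iv F24092)
theorem F29409 : act 4 n9212 = n8866 := d22_1 D9212 F28289 F24128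
theorem F29410 : act 6 n9212 = n7628 := d25_2 D7607 D9212 (iv D7628) (iv D6015) (iv F18792)
def n9213 : Q := act 7 n7607
theorem D9213 : act 7 n7607 = n9213 := rfl
theorem F29411 : act 0 n9213 = n8991 := d6_1 D9213 F28703 F25891
theorem F29412 : act 1 n9213 = n9213 := d12_1 D9213 (iv D9213) F24090
theorem F29413 : act 2 n9213 = n7609 := d17_1 D9213 (iv D7609) (iv F24091)
theorem F29414 : act 4 n9213 = n8992 := d24_1 D9213 (iv F28706) F24128
theorem F29415 : act 6 n9213 = n7764 := d27_1 D9213 (iv D7764) (iv D6135) (iv F18793) D7607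
def n9214 : Q := act 7 n7608
theorem D9214 : act 7 n7608 = n9214 := rfl
theorem F29416 : act 1 n9214 = n8863 := d12_1 D9214 (iv D8863) (iv F24093)
theorem F29417 : act 4 n9214 = n8867 := d24_1 D9214 (iv D8867) (iv F24094)
theorem F29418 : act 5 n9214 = n7609 := d26_1 D9214 (iv D7609) D7608
def n9215 : Q := act 3 n7609
theorem D9215 : act 3 n7609 = n9215 := rfl
theorem F29419 : act 1 n9215 = n7610 := d8_1 D9215 (iv D7610) (iv F24096)
theorem F29420 : act 6 n9215 = n7767 := d20_2 (iv F24097) D9215 (iv D7767)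
def n9216 : Q := act 2 n7610
theorem D9216 : act 2 n7610 = n9216 := rfl
theorem F29421 : act 0 n9216 = n7620 := d1_1 D9216 (iv D7620) (iv F24098)
theorem F29422 : act 3 n9216 = n9216 := d13_2 D7610 D9216 (iv D9216) (iv D7610) F18796
theorem F29423 : act 6 n9216 = n7771 := d16_2 (iv F24099) D9216 (iv D7771)
def n9217 : Q := act 4 n7610
theorem D9217 : act 4 n7610 = n9217 := rfl
theorem F29424 : act 0 n9217 = n7621 := d3_1 D9217 (iv D7621) (iv F24098)
theorem F29425 : act 6 n9217 = n7772 := d23_2 (iv F24099) D9217 (iv D7772)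
def n9218 : Q := act 6 n7611
theorem D9218 : act 6 n7611 = n9218 := rfl
theorem F29426 : act 0 n9218 = n9053 := d5_1 D9218 F28882 (iv F24100)
theorem F29427 : act 1 n9218 = n9218 := d11_1 D9218 (iv D9218) F24101
theorem F29428 : act 2 n9218 = n7778 := d16_1 D9218 (iv D7778) (iv F24102)
theorem F29429 : act 3 n9218 = n7612 := d20_1 D9218 (iv D7612) D7611
theorem F29430 : act 4 n9218 = n8676 := d23_1 D9218 (iv D8676) (iv F24103)
def n9219 : Q := act 5 n7612
theorem D9219 : act 5 n7612 = n9219 := rfl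
theorem F29431 : act 0 n9219 = n9051 := d4_1 D9219 F28874 (iv F24106)
theorem F29432 : act 2 n9219 = n7615 := d15_1 D9219 (iv D7615) (iv F24108)
theorem F29433 : act 4 n9219 = n8683 := d22_1 D9219 (iv D8683) (iv F24109)
theorem F29434 : act 6 n9219 = n8685 := d25_2 D7612 D9219 (iv D8685) (iv D7082) (iv F18802)
theorem F29435 : act 7 n9219 = n9177 := d26_2 (iv F24110) D9219 (iv D9177)
def n9220 : Q := act 3 n7613
theorem D9220 : act 3 n7613 = n9220 := rfl
theorem F29436 : act 0 n9220 = n9209 := d2_1 D9220 (iv D9209) (iv F24111)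
theorem F29437 : act 5 n9220 = n9207 := d19_2 (iv F24114) D9220 (iv D9207)
theorem F29438 : act 7 n9220 = n7616 := d21_2 D7613 D9220 (iv D7616) (iv D6001) (iv F18805)
def n9221 : Q := act 5 n7614
theorem D9221 : act 5 n7614 = n9221 := rfl
theorem F29439 : act 0 n9221 = n9030 := d4_1 D9221 F28818 (iv F24115)
theorem F29440 : act 2 n9221 = n8685 := d15_1 D9221 (iv D8685) (iv F24117)
theorem F29441 : act 3 n9221 = n7782 := d19_1 D9221 (iv D7782) (iv F24118)
theorem F29442 : act 4 n9221 = n8684 := d22_1 D9221 (iv D8684) (iv F24119)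
theorem F29443 : act 6 n9221 = n7615 := d25_2 D7614 D9221 (iv D7615) (iv D6000) (iv F18813)
def n9222 : Q := act 2 n7616
theorem D9222 : act 2 n7616 = n9222 := rfl
theorem F29444 : act 3 n9222 = n9222 := d13_2 D7616 D9222 (iv D9222) (iv D7616) F18819
theorem F29445 : act 5 n9222 = n9216 := d15_2 (iv F24124) D9222 (iv D9216)
theorem F29446 : act 6 n9222 = n7784 := d16_2 (iv F24125) D9222 (iv D7784)
def n9223 : Q := act 4 n7616
theorem D9223 : act 4 n7616 = n9223 := rfl
theorem F29447 : act 3 n9223 = n7621 := d18_1 D9223 (iv D7621) (iv D6004) (iv F18820) D7616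
theorem F29448 : act 5 n9223 = n9217 := d22_2 (iv F24124) D9223 (iv D9217)
theorem F29449 : act 6 n9223 = n7785 := d23_2 (iv F24125) D9223 (iv D7785)
def n9224 : Q := act 3 n7618
theorem D9224 : act 3 n7618 = n9224 := rfl
theorem F29450 : act 1 n9224 = n7619 := d8_1 D9224 (iv D7619) (iv F24130)
def n9225 : Q := act 2 n7619
theorem D9225 : act 2 n7619 = n9225 := rfl
theorem F29451 : act 0 n9225 = n9222 := d1_1 D9225 (iv D9222) (iv F24132)
theorem F29452 : act 3 n9225 = n9225 := d13_2 D7619 D9225 (iv D9225) (iv D7619) F18826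
theorem F29453 : act 5 n9225 = n7620 := d15_2 (iv F24133) D9225 (iv D7620)
def n9226 : Q := act 4 n7619
theorem D9226 : act 4 n7619 = n9226 := rfl
theorem F29454 : act 0 n9226 = n9223 := d3_1 D9226 (iv D9223) (iv F24132)
theorem F29455 : act 3 n9226 = n9217 := d18_1 D9226 (iv D9217) (iv D7610) (iv F18827) D7619
theorem F29456 : act 5 n9226 = n7621 := d22_2 (iv F24133) D9226 (iv D7621)
def n9227 : Q := act 1 n7620
theorem D9227 : act 1 n7620 = n9227 := rfl
theorem F29457 : act 3 n9227 = n9227 := d8_2 F24134 D9227 (iv D9227)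
theorem F29458 : act 6 n9227 = n7789 := d11_2 (iv F24135) D9227 (iv D7789)
def n9228 : Q := act 4 n7620
theorem D9228 : act 4 n7620 = n9228 := rfl
theorem F29459 : act 2 n9228 = n7621 := d14_1 D9228 (iv D7621) D7620
theorem F29460 : act 6 n9228 = n7790 := d23_2 (iv F24135) D9228 (iv D7790)
def n9229 : Q := act 5 n7622
theorem D9229 : act 5 n7622 = n9229 := rfl
theorem F29461 : act 2 n9229 = n7624 := d15_1 D9229 (iv D7624) (iv F24138)
theorem F29462 : act 4 n9229 = n8413 := d22_1 D9229 (iv D8413) (iv F24139)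
theorem F29463 : act 6 n9229 = n9229 := d25_2 D7622 D9229 (iv D9229) (iv D7622) F18846
def n9230 : Q := act 5 n7623
theorem D9230 : act 5 n7623 = n9230 := rfl
theorem F29464 : act 0 n9230 = n7624 := d4_1 D9230 (iv D7624) (iv F24140)
theorem F29465 : act 3 n9230 = n9230 := d19_1 D9230 (iv D9230) F24142
theorem F29466 : act 4 n9230 = n8410 := d22_1 D9230 (iv D8410) (iv F24143)
theorem F29467 : act 6 n9230 = n9230 := d25_2 D7623 D9230 (iv D9230) (iv D7623) F18856
def n9231 : Q := act 5 n7625
theorem D9231 : act 5 n7625 = n9231 := rfl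
theorem F29468 : act 0 n9231 = n9178 := d4_1 D9231 (iv D9178) (iv F24148)
theorem F29469 : act 2 n9231 = n7626 := d15_1 D9231 (iv D7626) (iv F24150)
theorem F29470 : act 3 n9231 = n8387 := d19_1 D9231 (iv D8387) (iv F24151)
theorem F29471 : act 4 n9231 = n9177 := d22_1 D9231 (iv D9177) (iv F24152)
theorem F29472 : act 6 n9231 = n8383 := d25_2 D7625 D9231 (iv D8383) (iv D6769) (iv F18863)
theorem F29473 : act 7 n9231 = n8683 := d26_2 (iv F24153) D9231 (iv D8683)
def n9232 : Q := act 5 n7627
theorem D9232 : act 5 n7627 = n9232 := rfl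
theorem F29474 : act 2 n9232 = n8387 := d15_1 D9232 (iv D8387) (iv F24160)
theorem F29475 : act 3 n9232 = n7628 := d19_1 D9232 (iv D7628) (iv F24161)
theorem F29476 : act 6 n9232 = n8385 := d25_2 D7627 D9232 (iv D8385) (iv D6771) (iv F18873)
def n9233 : Q := act 7 n7627
theorem D9233 : act 7 n7627 = n9233 := rfl
theorem F29477 : act 1 n9233 = n7631 := d12_1 D9233 (iv D7631) (iv F24159)
theorem F29478 : act 2 n9233 = n8386 := d17_1 D9233 F26681 (iv F24160)
theorem F29479 : act 6 n9233 = n8384 := d27_1 D9233 (iv D8384) (iv D6770) (iv F18874) D7627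
def n9234 : Q := act 1 n7628
theorem D9234 : act 1 n7628 = n9234 := rfl
theorem F29480 : act 2 n9234 = n8295 := d7_2 (iv F24162) D9234 (iv D8295) F20945 (iv F18878)
theorem F29481 : act 4 n9234 = n8300 := d9_2 (iv F24163) D9234 F26360
theorem F29482 : act 5 n9234 = n7633 := d10_2 D7628 D9234 (iv D7633) (iv D6020) (iv F18875)
def n9235 : Q := act 7 n7629
theorem D9235 : act 7 n7629 = n9235 := rfl
theorem F29483 : act 0 n9235 = n7642 := d6_1 D9235 (iv D7642) (iv F24164)
theorem F29484 : act 2 n9235 = n9235 := d17_1 D9235 (iv D9235) F24165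
theorem F29485 : act 4 n9235 = n7631 := d24_1 D9235 (iv D7631) (iv F24167)
def n9236 : Q := act 1 n7630
theorem D9236 : act 1 n7630 = n9236 := rfl
theorem F29486 : act 3 n9236 = n7633 := d8_2 (iv F24170) D9236 (iv D7633)
theorem F29487 : act 6 n9236 = n9236 := d11_2 F24171 D9236 (iv D9236)
def n9237 : Q := act 7 n7630
theorem D9237 : act 7 n7630 = n9237 := rfl
theorem F29488 : act 0 n9237 = n7644 := d6_1 D9237 (iv D7644) (iv F24168)
theorem F29489 : act 2 n9237 = n9237 := d17_1 D9237 (iv D9237) F24169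
theorem F29490 : act 5 n9237 = n7631 := d26_1 D9237 (iv D7631) D7630
def n9238 : Q := act 6 n7631
theorem D9238 : act 6 n7631 = n9238 := rfl
theorem F29491 : act 0 n9238 = n7646 := d5_1 D9238 (iv D7646) (iv F24172)
theorem F29492 : act 1 n9238 = n8384 := d11_1 D9238 (iv F29479) F29477
theorem F29493 : act 2 n9238 = n9238 := d16_1 D9238 (iv D9238) F24173
theorem F29494 : act 7 n9238 = n7632 := d27_2 D7631 D9238 (iv D7632) (iv D6019) D6018
def n9239 : Q := act 5 n7632
theorem D9239 : act 5 n7632 = n9239 := rfl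
theorem F29495 : act 0 n9239 = n7647 := d4_1 D9239 (iv D7647) (iv F24174)
theorem F29496 : act 1 n9239 = n8815 := d10_1 D9239 (iv D8815) (iv D7205) (iv F21315) (iv F24175)
theorem F29497 : act 2 n9239 = n9239 := d15_1 D9239 (iv D9239) F24176
theorem F29498 : act 3 n9239 = n7845 := d19_1 D9239 (iv D7845) (iv F24177)
theorem F29499 : act 6 n9239 = n9239 := d25_2 D7632 D9239 (iv D9239) (iv D7632) F18891
def n9240 : Q := act 0 n7633
theorem D9240 : act 0 n7633 = n9240 := rfl
theorem F29500 : act 1 n9240 = n7648 := d0_2 D7633 D9240 (iv D7648) (iv D6031) (iv F18892)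
theorem F29501 : act 2 n9240 = n8306 := d1_2 (iv F24178) D9240 (iv D8306)
theorem F29502 : act 4 n9240 = n8307 := d3_2 (iv F24179) D9240 F26383
theorem F29503 : act 6 n9240 = n9240 := d5_2 F24180 D9240 (iv D9240)
def n9241 : Q := act 3 n7635
theorem D9241 : act 3 n7635 = n9241 := rfl
theorem F29504 : act 0 n9241 = n8879 := d2_1 D9241 (iv D8879) (iv F24186)
theorem F29505 : act 2 n9241 = n8312 := d13_1 D9241 (iv D8312) F20993 (iv F20626) (iv F24187)
theorem F29506 : act 5 n9241 = n8717 := d19_2 (iv F24188) D9241 (iv D8717)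
theorem F29507 : act 7 n9241 = n7639 := d21_2 D7635 D9241 (iv D7639) (iv D6025) (iv F18902)
def n9242 : Q := act 6 n7635
theorem D9242 : act 6 n7635 = n9242 := rfl
theorem F29508 : act 0 n9242 = n8880 := d5_1 D9242 (iv D8880) (iv F24186)
theorem F29509 : act 2 n9242 = n8184 := d16_1 D9242 (iv D8184) (iv F24187)
theorem F29510 : act 4 n9242 = n8428 := d23_1 D9242 F26826 F24380
theorem F29511 : act 7 n9242 = n7636 := d27_2 D7635 D9242 (iv D7636) (iv D6023) D6022
def n9243 : Q := act 5 n7636
theorem D9243 : act 5 n7636 = n9243 := rfl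
theorem F29512 : act 0 n9243 = n9229 := d4_1 D9243 (iv D9229) (iv F24189)
theorem F29513 : act 2 n9243 = n9230 := d15_1 D9243 (iv D9230) (iv F24190)
theorem F29514 : act 3 n9243 = n7863 := d19_1 D9243 (iv D7863) (iv F24191)
theorem F29515 : act 6 n9243 = n9243 := d25_2 D7636 D9243 (iv D9243) (iv D7636) F18907
def n9244 : Q := act 0 n7637
theorem D9244 : act 0 n7637 = n9244 := rfl
theorem F29516 : act 1 n9244 = n8307 := d0_2 D7637 D9244 F26383 F20978 (iv F18908)
theorem F29517 : act 2 n9244 = n8135 := d1_2 (iv F24192) D9244 F25831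
theorem F29518 : act 3 n9244 = n8637 := d2_2 (iv F24193) D9244 F27556
theorem F29519 : act 4 n9244 = n7648 := d3_2 (iv F24194) D9244 (iv D7648)
theorem F29520 : act 6 n9244 = n9244 := d5_2 F24195 D9244 (iv D9244)
def n9245 : Q := act 7 n7637
theorem D9245 : act 7 n7637 = n9245 := rfl
theorem F29521 : act 1 n9245 = n7638 := d12_1 D9245 (iv D7638) D7637
theorem F29522 : act 2 n9245 = n8338 := d17_1 D9245 (iv D8338) (iv F24192)
theorem F29523 : act 4 n9245 = n7650 := d24_1 D9245 (iv D7650) (iv F24194)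
def n9246 : Q := act 3 n7638
theorem D9246 : act 3 n7638 = n9246 := rfl
theorem F29524 : act 0 n9246 = n8312 := d2_1 D9246 (iv D8312) (iv F24196)
theorem F29525 : act 2 n9246 = n8879 := d13_1 D9246 (iv D8879) F22976 (iv F18919) (iv F24197)
theorem F29526 : act 5 n9246 = n7639 := d19_2 (iv F24199) D9246 (iv D7639)
theorem F29527 : act 7 n9246 = n8717 := d21_2 D7638 D9246 (iv D8717) (iv D7114) (iv F18910)
def n9247 : Q := act 6 n7638
theorem D9247 : act 6 n7638 = n9247 := rfl
theorem F29528 : act 0 n9247 = n8313 := d5_1 D9247 (iv D8313) (iv F24196)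
theorem F29529 : act 2 n9247 = n7640 := d16_1 D9247 (iv D7640) (iv F24197)
theorem F29530 : act 4 n9247 = n7652 := d23_1 D9247 (iv D7652) (iv F24198)
theorem F29531 : act 5 n9247 = n7867 := d25_1 D9247 (iv D7867) F19461 (iv F18916) (iv F24199)
theorem F29532 : act 7 n9247 = n9247 := d27_2 D7638 D9247 (iv D9247) (iv D7638) F18912
def n9248 : Q := act 4 n7639
theorem D9248 : act 4 n7639 = n9248 := rfl
theorem F29533 : act 0 n9248 = n8881 := d3_1 D9248 (iv D8881) (iv F24200)
theorem F29534 : act 3 n9248 = n7653 := d18_1 D9248 (iv D7653) (iv D6033) (iv F18915) D7639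
theorem F29535 : act 6 n9248 = n7869 := d23_2 (iv F24201) D9248 (iv D7869)
def n9249 : Q := act 1 n7641
theorem D9249 : act 1 n7641 = n9249 := rfl
theorem F29536 : act 3 n9249 = n8715 := d8_2 (iv F24209) D9249 F27812
theorem F29537 : act 4 n9249 = n7643 := d9_2 (iv F24210) D9249 (iv D7643)
theorem F29538 : act 6 n9249 = n9249 := d11_2 F24211 D9249 (iv D9249)
def n9250 : Q := act 7 n7641
theorem D9250 : act 7 n7641 = n9250 := rfl
theorem F29539 : act 2 n9250 = n9250 := d17_1 D9250 (iv D9250) F24208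
theorem F29540 : act 4 n9250 = n7644 := d24_1 D9250 (iv D7644) (iv F24210)
theorem F29541 : act 5 n9250 = n7642 := d26_1 D9250 (iv D7642) D7641
def n9251 : Q := act 3 n7642
theorem D9251 : act 3 n7642 = n9251 := rfl
def n9252 : Q := act 0 n7643
theorem D9252 : act 0 n7643 = n9252 := rfl
theorem F29542 : act 3 n9252 = n7648 := d2_2 (iv F24214) D9252 (iv D7648)
def n9253 : Q := act 2 n7643
theorem D9253 : act 2 n7643 = n9253 := rfl
def n9254 : Q := act 7 n7643
theorem D9254 : act 7 n7643 = n9254 := rfl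
theorem F29546 : act 1 n9254 = n7644 := d12_1 D9254 (iv D7644) D7643
def n9255 : Q := act 3 n7644
theorem D9255 : act 3 n7644 = n9255 := rfl
theorem F29547 : act 5 n9255 = n7645 := d19_2 (iv F24217) D9255 (iv D7645)
theorem F29548 : act 7 n9255 = n7651 := d21_2 D7644 D9255 (iv D7651) (iv D6032) (iv F18925)
def n9256 : Q := act 6 n7644
theorem D9256 : act 6 n7644 = n9256 := rfl
def n9257 : Q := act 4 n7645
theorem D9257 : act 4 n7645 = n9257 := rfl
theorem F29551 : act 7 n9257 = n7653 := d24_2 (iv F24218) D9257 (iv D7653)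
def n9258 : Q := act 6 n7645
theorem D9258 : act 6 n7645 = n9258 := rfl
theorem F29552 : act 3 n9258 = n7646 := d20_1 D9258 (iv D7646) D7645
theorem F29553 : act 7 n9258 = n7887 := d27_2 (iv F24218) D9258 (iv D7887) F19493 (iv F18933)
def n9259 : Q := act 5 n7646
theorem D9259 : act 5 n7646 = n9259 := rfl
theorem F29554 : act 2 n9259 = n9259 := d15_1 D9259 (iv D9259) F24219
theorem F29555 : act 7 n9259 = n7647 := d26_2 (iv F24220) D9259 (iv D7647)
def n9260 : Q := act 1 n7647
theorem D9260 : act 1 n7647 = n9260 := rfl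
theorem F29556 : act 3 n9260 = n7889 := d8_2 (iv F24222) D9260 (iv D7889)
theorem F29557 : act 4 n9260 = n7845 := d9_2 F27401 D9260 (iv F27399)
theorem F29558 : act 5 n9260 = n7840 := d10_2 D7647 D9260 F24771 F23086 F22149
theorem F29559 : act 6 n9260 = n9260 := d11_2 F24223 D9260 (iv D9260)
theorem F29560 : act 0 n9260 = n7883 := d28_0 F24900 (iv F24222) F24221 D9260 F29558 (iv D7840) F19403 F14539 (iv F14092) F14091 F16980 (iv D5425) (iv F13198) F13195 (iv D4064) (iv F11216) (iv D3635) F7879 F5446 F4924 F4922 (iv D1106) F2451 (iv D753) F1694 F930 F931 F928 D296 F946 F575 F347 F349 F350 (iv F596) (iv D178) (iv D97) (iv D52) F106 F108 F109 (iv D27) F60 (iv F100) D49 (iv F286) (iv F455) (iv F784) (iv F1384) (iv F2116) D950 (iv F4262) (iv F6142) D2881 D4069 (iv F13211) (iv F17948) F17947 (iv F23084) (iv F24771) (iv F29558) F29559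
theorem F29561 : act 2 n9260 = n8007 := d29_7 F12464 (iv F16976) (iv F16980) F14093 D6030 D7647 D9260 (iv F25505) (iv D8053) F20061 (iv F19487) (iv F23755) (iv F26095) (iv D8204) F20731 F16541 F16542 F16543 (iv F17524) (iv D5584) (iv D4137) (iv D2933) (iv D2003) F4312 D1966 D2874 D4060 F17006 (iv D5432)
def n9261 : Q := act 2 n7648
theorem D9261 : act 2 n7648 = n9261 := rfl
theorem F29562 : act 0 n9261 = n7649 := d1_1 D9261 (iv D7649) D7648
theorem F29563 : act 1 n9261 = n8137 := d7_1 D9261 F25838 (iv F26379) (iv F29501) F29500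
theorem F29564 : act 4 n9261 = n8135 := d14_2 F29519 D9261 (iv F29517)
theorem F29565 : act 6 n9261 = n9261 := d16_2 F24224 D9261 (iv D9261)
theorem E94 : n9252 = n9172 := (c30_5 (iv F24992) (iv F25840) (iv F29563) (iv D9261) (iv F29542) F29270 F23983 F18701 F13929 (iv D3338) (iv F10274) F10275 (iv D3264) F7018 (iv D2263) (iv F7000) (iv F10053) F10055 F10049 F9984 (iv F13522) (iv F17272) F17273 F12686 D4298 D5754 (iv F19779) (iv F25002) F25003 (iv D7917))
theorem F29566 : act 0 n9172 = n7643 := (sb E94 (iv D9252))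
theorem F29567 : act 3 n9172 = n7648 := (sb E94 F29542)
theorem E95 : n9253 = n9114 := (c1_3 D9172 F29566 D9253 F29071)
theorem F29568 : act 2 n9114 = n7643 := (sb E95 (iv D9253))
theorem E96 : n9254 = n9112 := (c6_3 (iv F29270) F29566 D9254 F29066)
theorem F29569 : act 1 n9112 = n7644 := (sb E96 F29546)
theorem F29570 : act 7 n9112 = n7643 := (sb E96 (iv D9254))
theorem E97 : n9256 = n9110 := (c11_3 D9112 F29569 D9256 (iv D9110))
theorem F29571 : act 6 n9110 = n7644 := (sb E97 (iv D9256))
def n9262 : Q := act 7 n7648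
theorem D9262 : act 7 n7648 = n9262 := rfl
theorem F29572 : act 0 n9262 = n7650 := d6_1 D9262 (iv D7650) D7648
def n9263 : Q := act 3 n7650
theorem D9263 : act 3 n7650 = n9263 := rfl
theorem F29573 : act 1 n9263 = n7651 := d8_1 D9263 (iv D7651) (iv F24228)
def n9264 : Q := act 6 n7650
theorem D9264 : act 6 n7650 = n9264 := rfl
theorem F29574 : act 1 n9264 = n7652 := d11_1 D9264 (iv D7652) (iv F24228)
theorem F29575 : act 7 n9264 = n9264 := d27_2 D7650 D9264 (iv D9264) (iv D7650) F18930
def n9265 : Q := act 4 n7651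
theorem D9265 : act 4 n7651 = n9265 := rfl
theorem F29576 : act 5 n9265 = n7653 := d22_2 (iv F24229) D9265 (iv D7653)
def n9266 : Q := act 6 n7651
theorem D9266 : act 6 n7651 = n9266 := rfl
theorem F29577 : act 3 n9266 = n7652 := d20_1 D9266 (iv D7652) D7651
theorem F29578 : act 5 n9266 = n7895 := d25_1 D9266 (iv D7895) F19502 (iv F18933) (iv F24229)
def n9267 : Q := act 2 n7654
theorem D9267 : act 2 n7654 = n9267 := rfl
theorem F29579 : act 0 n9267 = n8334 := d1_1 D9267 F26486 (iv F24234)
theorem F29580 : act 3 n9267 = n9267 := d13_2 D7654 D9267 (iv D9267) (iv D7654) F18941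
theorem F29581 : act 5 n9267 = n8366 := d15_2 (iv F24235) D9267 (iv D8366)
theorem F29582 : act 6 n9267 = n9267 := d16_2 F24236 D9267 (iv D9267)
theorem F29583 : act 7 n9267 = n8322 := d17_2 (iv F24237) D9267 F26439
def n9268 : Q := act 5 n7655
theorem D9268 : act 5 n7655 = n9268 := rfl
theorem F29584 : act 0 n9268 = n9268 := d4_1 D9268 (iv D9268) F24238
theorem F29585 : act 2 n9268 = n9268 := d15_1 D9268 (iv D9268) F24240
theorem F29586 : act 3 n9268 = n7656 := d19_1 D9268 (iv D7656) (iv F24241)
theorem F29587 : act 4 n9268 = n7662 := d22_1 D9268 (iv D7662) (iv F24242)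
theorem F29588 : act 6 n9268 = n9073 := d25_2 D7655 D9268 F28945 F23680 (iv F18949)
theorem F29589 : act 7 n9268 = n8091 := d26_2 F24243 D9268 F25671
def n9269 : Q := act 7 n7657
theorem D9269 : act 7 n7657 = n9269 := rfl
theorem F29590 : act 0 n9269 = n9269 := d6_1 D9269 (iv D9269) F24249
theorem F29591 : act 1 n9269 = n8052 := d12_1 D9269 (iv F25502) F25323
theorem F29592 : act 2 n9269 = n9269 := d17_1 D9269 (iv D9269) F24250
theorem F29593 : act 3 n9269 = n7986 := d21_1 D9269 (iv D7986) F24259 (iv D7658) (iv F24251)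
theorem F29594 : act 4 n9269 = n9269 := d24_1 D9269 (iv D9269) F24252
theorem F29595 : act 5 n9269 = n9269 := d26_1 D9269 (iv D9269) F24253
theorem F29596 : act 6 n9269 = n9269 := d27_1 D9269 (iv D9269) (iv D7657) F18966 D7657
def n9270 : Q := act 5 n7660
theorem D9270 : act 5 n7660 = n9270 := rfl
theorem F29597 : act 0 n9270 = n9270 := d4_1 D9270 (iv D9270) F24265
theorem F29598 : act 2 n9270 = n9270 := d15_1 D9270 (iv D9270) F24266
theorem F29599 : act 3 n9270 = n7661 := d19_1 D9270 (iv D7661) (iv F24267)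
theorem F29600 : act 4 n9270 = n9073 := d22_1 D9270 F28945 (iv F24268)
theorem F29601 : act 6 n9270 = n7662 := d25_2 D7660 D9270 (iv D7662) (iv D6049) (iv F18989)
def n9271 : Q := act 7 n7660
theorem D9271 : act 7 n7660 = n9271 := rfl
theorem F29602 : act 0 n9271 = n9271 := d6_1 D9271 (iv D9271) F24265
theorem F29603 : act 2 n9271 = n9271 := d17_1 D9271 (iv D9271) F24266
theorem F29604 : act 4 n9271 = n9074 := d24_1 D9271 (iv D9074) (iv F24268)
theorem F29605 : act 6 n9271 = n9271 := d27_1 D9271 (iv D9271) (iv D7660) F18990 D7660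
def n9272 : Q := act 7 n7662
theorem D9272 : act 7 n7662 = n9272 := rfl
theorem F29606 : act 0 n9272 = n9272 := d6_1 D9272 (iv D9272) F24274
theorem F29607 : act 2 n9272 = n9272 := d17_1 D9272 (iv D9272) F24275
theorem F29608 : act 3 n9272 = n9272 := d21_1 D9272 (iv D9272) F24276 F18999 (iv F24276)
theorem F29609 : act 4 n9272 = n8091 := d24_1 D9272 (iv F29589) F29587
theorem F29610 : act 5 n9272 = n7663 := d26_1 D9272 (iv D7663) D7662
def n9273 : Q := act 1 n7664
theorem D9273 : act 1 n7664 = n9273 := rfl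
theorem F29611 : act 2 n9273 = n7983 := d7_2 (iv F24284) D9273 F25236 F19840 (iv F19846)
theorem F29612 : act 4 n9273 = n7982 := d9_2 (iv F24285) D9273 F25233
theorem F29613 : act 6 n9273 = n9273 := d11_2 F24286 D9273 (iv D9273)
theorem F29614 : act 7 n9273 = n7665 := d12_2 (iv F24287) D9273 (iv D7665)
theorem F29615 : act 0 n8618 = n9273 := d6_3 F29614 (iv F28464) F28468
def n9274 : Q := act 7 n7668
theorem D9274 : act 7 n7668 = n9274 := rfl
theorem F29616 : act 0 n9274 = n8973 := d6_1 D9274 F28634 F28628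
theorem F29617 : act 1 n9274 = n7669 := d12_1 D9274 (iv D7669) D7668
theorem F29618 : act 3 n9274 = n9274 := d21_1 D9274 (iv D9274) F24298 F19017 (iv F24298)
theorem F29619 : act 4 n9274 = n8093 := d24_1 D9274 (iv F28554) F28553
def n9275 : Q := act 7 n7670
theorem D9275 : act 7 n7670 = n9275 := rfl
theorem F29620 : act 1 n9275 = n9275 := d12_1 D9275 (iv D9275) F24303
theorem F29621 : act 3 n9275 = n9275 := d21_1 D9275 (iv D9275) (iv D7670) F19019 D7670
theorem F29622 : act 4 n9275 = n7958 := d24_1 D9275 (iv F28625) F28623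
theorem F29623 : act 5 n9275 = n8973 := d26_1 D9275 F28634 F28631
theorem F29624 : act 6 n7965 = n9275 := d30_0 F29623 (iv D8973) (iv D7375) (iv D5787) (iv D4328) (iv D3099) (iv D2134) (iv F5803) (iv F8321) F8322 F10980 (iv D3565) F7698 F5353 D1941 (iv F8775) (iv F8782) D4026 (iv F12511) (iv F14726) (iv F19067) (iv F20847) (iv D6638) (iv D5064) F11410 (iv F15649) D6610 (iv F26076) F26078
def n9276 : Q := act 5 n7673
theorem D9276 : act 5 n7673 = n9276 := rfl
theorem F29625 : act 2 n9276 = n8796 := d15_1 D9276 (iv D8796) (iv F24317)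
theorem F29626 : act 3 n9276 = n7694 := d19_1 D9276 (iv D7694) (iv F24318)
theorem F29627 : act 4 n9276 = n8795 := d22_1 D9276 (iv D8795) (iv F24319)
theorem F29628 : act 6 n9276 = n8804 := d25_2 D7673 D9276 (iv D8804) (iv D7196) F19035
def n9277 : Q := act 3 n7675
theorem D9277 : act 3 n7675 = n9277 := rfl
theorem F29629 : act 1 n9277 = n7698 := d8_1 D9277 (iv D7698) (iv F24326)
def n9278 : Q := act 1 n7676
theorem D9278 : act 1 n7676 = n9278 := rfl
theorem F29630 : act 3 n9278 = n8900 := d8_2 (iv F24330) D9278 F28375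
theorem F29631 : act 4 n9278 = n8388 := d9_2 (iv F24331) D9278 (iv D8388)
theorem F29632 : act 5 n9278 = n7912 := d10_2 D7676 D9278 (iv D7912) (iv D6258) (iv F19053)
def n9279 : Q := act 1 n7677
theorem D9279 : act 1 n7677 = n9279 := rfl
theorem F29633 : act 3 n9279 = n7679 := d8_2 (iv F24334) D9279 (iv D7679)
theorem F29634 : act 4 n9279 = n8277 := d9_2 F26574 D9279 (iv F26572)
theorem F29635 : act 5 n9279 = n7680 := d10_2 D7677 D9279 (iv D7680) (iv D6070) (iv F19057)
theorem F29636 : act 7 n8273 = n9279 := d26_0 F29635 F24344 D8273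
def n9280 : Q := act 7 n7677
theorem D9280 : act 7 n7677 = n9280 := rfl
theorem F29637 : act 0 n9280 = n7945 := d6_1 D9280 F25101 (iv F24332)
theorem F29638 : act 1 n9280 = n8273 := d12_1 D9280 F29636 (iv D9279)
theorem F29639 : act 2 n9280 = n7981 := d17_1 D9280 F25231 (iv F24333)
theorem F29640 : act 4 n9280 = n8276 := d24_1 D9280 (iv F26575) F26574
theorem F29641 : act 5 n9280 = n7678 := d26_1 D9280 (iv D7678) D7677
def n9281 : Q := act 0 n7679
theorem D9281 : act 0 n7679 = n9281 := rfl
theorem F29642 : act 5 n9281 = n7681 := d4_2 (iv F24340) D9281 (iv D7681)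
def n9282 : Q := act 2 n7679
theorem D9282 : act 2 n7679 = n9282 := rfl
theorem F29643 : act 5 n9282 = n7682 := d15_2 (iv F24340) D9282 (iv D7682)
def n9283 : Q := act 0 n7680
theorem D9283 : act 0 n7680 = n9283 := rfl
theorem F29644 : act 1 n9283 = n7914 := d0_2 D7680 D9283 (iv D7914) (iv D6260) (iv F19060)
theorem F29645 : act 3 n9283 = n7681 := d2_2 (iv F24341) D9283 (iv D7681)
theorem F29646 : act 4 n9283 = n8270 := d3_2 (iv F24342) D9283 F26276
theorem F29647 : act 6 n9283 = n7687 := d5_2 (iv F24343) D9283 (iv D7687)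
theorem F29648 : act 7 n9283 = n8267 := d6_2 (iv F24344) D9283 F26267
def n9284 : Q := act 2 n7680
theorem D9284 : act 2 n7680 = n9284 := rfl
theorem F29649 : act 1 n9284 = n8254 := d7_1 D9284 F26227 F20835 (iv F19061) D7680
theorem F29650 : act 4 n9284 = n8252 := d14_2 (iv F24342) D9284 F26222
theorem F29651 : act 6 n9284 = n7688 := d16_2 (iv F24343) D9284 (iv D7688)
theorem F29652 : act 7 n9284 = n8249 := d17_2 (iv F24344) D9284 F26211
def n9285 : Q := act 2 n7681
theorem D9285 : act 2 n7681 = n9285 := rfl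
theorem F29653 : act 0 n9285 = n7682 := d1_1 D9285 (iv D7682) D7681
theorem F29654 : act 6 n9285 = n7690 := d16_2 (iv F24346) D9285 (iv D7690)
def n9286 : Q := act 3 n7682
theorem D9286 : act 3 n7682 = n9286 := rfl
theorem F29655 : act 1 n9286 = n7702 := d8_1 D9286 (iv D7702) (iv F24347)
theorem F29656 : act 6 n9286 = n7691 := d20_2 (iv F24348) D9286 (iv D7691)
def n9287 : Q := act 1 n7683
theorem D9287 : act 1 n7683 = n9287 := rfl
theorem F29657 : act 3 n9287 = n7706 := d8_2 (iv F24350) D9287 (iv D7706)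
theorem F29658 : act 4 n9287 = n8244 := d9_2 F26631 D9287 (iv F26629)
theorem F29659 : act 5 n9287 = n7685 := d10_2 D7683 D9287 (iv D7685) (iv D6074) (iv F19073)
theorem F29660 : act 6 n9287 = n8622 := d11_2 (iv F24351) D9287 F27517
theorem F29661 : act 7 n8242 = n9287 := d26_0 F29659 F24359 D8242
def n9288 : Q := act 7 n7683
theorem D9288 : act 7 n7683 = n9288 := rfl
theorem F29662 : act 0 n9288 = n8885 := d6_1 D9288 (iv D8885) (iv F24349)
theorem F29663 : act 1 n9288 = n8242 := d12_1 D9288 F29661 (iv D9287)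
theorem F29664 : act 4 n9288 = n8243 := d24_1 D9288 F26634 F26631
theorem F29665 : act 5 n9288 = n7684 := d26_1 D9288 (iv D7684) D7683
def n9289 : Q := act 2 n7685
theorem D9289 : act 2 n7685 = n9289 := rfl
theorem F29666 : act 1 n9289 = n7688 := d7_1 D9289 (iv D7688) (iv D6078) (iv F19076) D7685
theorem F29667 : act 4 n9289 = n8241 := d14_2 (iv F24357) D9289 F26192
theorem F29668 : act 6 n9289 = n8254 := d16_2 (iv F24358) D9289 F26227
theorem F29669 : act 7 n9289 = n8239 := d17_2 (iv F24359) D9289 F26189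
def n9290 : Q := act 2 n7686
theorem D9290 : act 2 n7686 = n9290 := rfl
theorem F29670 : act 0 n9290 = n8435 := d1_1 D9290 F26963 F26958
theorem F29671 : act 1 n9290 = n8241 := d7_1 D9290 F26192 F20797 (iv F19087) D7686
theorem F29672 : act 4 n9290 = n7688 := d14_2 (iv F24360) D9290 (iv D7688)
theorem F29673 : act 6 n9290 = n8252 := d16_2 (iv F24361) D9290 F26222
theorem F29674 : act 7 n9290 = n8237 := d17_2 (iv F24362) D9290 F26187
def n9291 : Q := act 2 n7687
theorem D9291 : act 2 n7687 = n9291 := rfl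
theorem F29675 : act 0 n9291 = n7688 := d1_1 D9291 (iv D7688) D7687
theorem F29676 : act 1 n9291 = n8441 := d7_1 D9291 F26860 F24999 (iv D7916) (iv F24363)
theorem F29677 : act 4 n9291 = n8435 := d14_2 F26960 D9291 F26963
theorem F29678 : act 7 n8433 = n9291 := d24_0 F29677 (iv D8435) (iv F26839)
def n9292 : Q := act 7 n7687
theorem D9292 : act 7 n7687 = n9292 := rfl
theorem F29679 : act 0 n9292 = n7689 := d6_1 D9292 (iv D7689) D7687
theorem F29680 : act 1 n9292 = n7917 := d12_1 D9292 (iv D7917) (iv F24363)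
theorem F29681 : act 2 n9292 = n8433 := d17_1 D9292 F29678 (iv D9291)
theorem F29682 : act 3 n9292 = n9292 := d21_1 D9292 (iv D9292) F24364 F19105 (iv F24364)
theorem F29683 : act 4 n9292 = n8259 := d24_1 D9292 (iv F26962) F26960
theorem F29684 : act 6 n9292 = n7969 := d27_1 D9292 F25183 D8267 (iv F29648) F29647
def n9293 : Q := act 3 n7688
theorem D9293 : act 3 n7688 = n9293 := rfl
theorem F29685 : act 2 n9293 = n7691 := d13_1 D9293 (iv D7691) (iv D6081) (iv F19097) D7688
def n9294 : Q := act 7 n7688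
theorem D9294 : act 7 n7688 = n9294 := rfl
theorem F29686 : act 0 n9294 = n8433 := d6_1 D9294 F29678 F29675
theorem F29687 : act 1 n9294 = n8239 := d12_1 D9294 (iv F29669) F29666
theorem F29688 : act 2 n9294 = n7689 := d17_1 D9294 (iv D7689) D7688
theorem F29689 : act 4 n9294 = n8237 := d24_1 D9294 (iv F29674) F29672
theorem F29690 : act 6 n9294 = n8236 := d27_1 D9294 F26184 D8249 (iv F29652) F29651
def n9295 : Q := act 1 n7690
theorem D9295 : act 1 n7690 = n9295 := rfl
theorem F29691 : act 0 n9295 = n7710 := d0_1 D9295 (iv D7710) F19153 (iv F19106) (iv F24369)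
theorem F29692 : act 2 n9295 = n7919 := d7_2 D7690 D9295 (iv D7919) (iv D6266) (iv F19104)
theorem F29693 : act 7 n9295 = n9295 := d12_2 F24370 D9295 (iv D9295)
def n9296 : Q := act 3 n7690
theorem D9296 : act 3 n7690 = n9296 := rfl
theorem F29694 : act 0 n9296 = n7691 := d2_1 D9296 (iv D7691) (iv F24369)
def n9297 : Q := act 4 n7691
theorem D9297 : act 4 n7691 = n9297 := rfl
theorem F29695 : act 1 n9297 = n7712 := d9_1 D9297 (iv D7712) (iv F24371)
def n9298 : Q := act 7 n7691
theorem D9298 : act 7 n7691 = n9298 := rfl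
theorem F29696 : act 1 n9298 = n7713 := d12_1 D9298 (iv D7713) (iv F24371)
theorem F29697 : act 3 n9298 = n9298 := d21_1 D9298 (iv D9298) (iv D7691) F19107 D7691
def n9299 : Q := act 5 n7692
theorem D9299 : act 5 n7692 = n9299 := rfl
theorem F29698 : act 0 n9299 = n7694 := d4_1 D9299 (iv D7694) (iv F24372)
theorem F29699 : act 1 n9299 = n8821 := d10_1 D9299 (iv D8821) F22841 F20564 (iv F24373)
theorem F29700 : act 2 n9299 = n7715 := d15_1 D9299 (iv D7715) (iv F24374)
theorem F29701 : act 4 n9299 = n8887 := d22_1 D9299 (iv D8887) (iv F24375)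
theorem F29702 : act 6 n9299 = n8823 := d25_2 D7692 D9299 F28161 F22858 F20347
def n9300 : Q := act 5 n7693
theorem D9300 : act 5 n7693 = n9300 := rfl
theorem F29703 : act 0 n9300 = n8823 := d4_1 D9300 F28161 (iv F24376)
theorem F29704 : act 2 n9300 = n7716 := d15_1 D9300 (iv D7716) (iv F24377)
theorem F29705 : act 3 n9300 = n8804 := d19_1 D9300 (iv D8804) (iv F24378)
theorem F29706 : act 6 n9300 = n7694 := d25_2 D7693 D9300 (iv D7694) (iv D6084) D6083
def n9301 : Q := act 7 n7693
theorem D9301 : act 7 n7693 = n9301 := rfl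
theorem F29707 : act 0 n9301 = n8332 := d6_1 D9301 F26479 (iv F24376)
theorem F29708 : act 2 n9301 = n7717 := d17_1 D9301 (iv D7717) (iv F24377)
theorem F29709 : act 6 n9301 = n7907 := d27_1 D9301 (iv D7907) (iv D6249) (iv F19114) D7693
def n9302 : Q := act 1 n7694
theorem D9302 : act 1 n7694 = n9302 := rfl
theorem F29710 : act 5 n9302 = n7695 := d10_2 D7694 D9302 (iv D7695) (iv D6085) (iv F19115)
def n9303 : Q := act 0 n7695
theorem D9303 : act 0 n7695 = n9303 := rfl
theorem F29711 : act 1 n9303 = n7922 := d0_2 D7695 D9303 (iv D7922) (iv D6270) (iv F19117)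
theorem F29712 : act 3 n9303 = n8427 := d2_2 (iv F26895) D9303 (iv F26893)
theorem F29713 : act 6 n9303 = n8451 := d5_2 F26823 D9303 F26893
theorem F29714 : act 7 n9303 = n8185 := d6_2 F25996 D9303 F26015
theorem F29715 : act 2 n8769 = n9303 := d17_3 F29714 F26017 D8769
def n9304 : Q := act 2 n7695
theorem D9304 : act 2 n7695 = n9304 := rfl
theorem F29716 : act 0 n9304 = n8769 := d1_1 D9304 F29715 (iv D9303)
theorem F29717 : act 1 n9304 = n7696 := d7_1 D9304 (iv D7696) (iv D6086) (iv F19118) D7695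
theorem F29718 : act 4 n9304 = n8889 := d14_2 F25998 D9304 F28350
theorem F29719 : act 7 n9304 = n8593 := d17_2 F25996 D9304 F27416
def n9305 : Q := act 3 n7696
theorem D9305 : act 3 n7696 = n9305 := rfl
theorem F29720 : act 2 n9305 = n7698 := d13_1 D9305 (iv D7698) (iv D6088) (iv F19119) D7696
theorem F29721 : act 5 n9305 = n7722 := d19_2 (iv F24381) D9305 (iv D7722)
theorem F29722 : act 7 n9305 = n9251 := d21_2 (iv F24382) D9305 (iv D9251) (iv D7642) (iv F24183)
def n9306 : Q := act 1 n7697
theorem D9306 : act 1 n7697 = n9306 := rfl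
theorem F29723 : act 2 n9306 = n7923 := d7_2 D7697 D9306 (iv D7923) (iv D6272) (iv F19121)
theorem F29724 : act 4 n9306 = n7710 := d9_2 (iv F24384) D9306 (iv D7710)
theorem F29725 : act 7 n9306 = n9306 := d12_2 F24386 D9306 (iv D9306)
def n9307 : Q := act 3 n7697
theorem D9307 : act 3 n7697 = n9307 := rfl
theorem F29726 : act 0 n9307 = n7698 := d2_1 D9307 (iv D7698) (iv F24383)
theorem F29727 : act 5 n9307 = n7724 := d19_2 (iv F24385) D9307 (iv D7724)
def n9308 : Q := act 4 n7698
theorem D9308 : act 4 n7698 = n9308 := rfl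
theorem F29728 : act 3 n9308 = n7712 := d18_1 D9308 (iv D7712) (iv D6099) (iv F19125) D7698
theorem F29729 : act 5 n9308 = n7725 := d22_2 (iv F24387) D9308 (iv D7725)
def n9309 : Q := act 7 n7698
theorem D9309 : act 7 n7698 = n9309 := rfl
theorem F29730 : act 2 n9309 = n9251 := d17_1 D9309 (iv F29722) F29720
theorem F29731 : act 3 n9309 = n9309 := d21_1 D9309 (iv D9309) (iv D7698) F19127 D7698
theorem F29732 : act 5 n9309 = n7726 := d26_1 D9309 (iv D7726) (iv F24387)
def n9310 : Q := act 2 n7699
theorem D9310 : act 2 n7699 = n9310 := rfl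
theorem F29733 : act 1 n9310 = n7700 := d7_1 D9310 (iv D7700) (iv D6090) (iv F19129) D7699
theorem F29734 : act 6 n9310 = n7708 := d16_2 (iv F24389) D9310 (iv D7708)
theorem F29735 : act 7 n9310 = n9310 := d17_2 F24390 D9310 (iv D9310)
def n9311 : Q := act 3 n7700
theorem D9311 : act 3 n7700 = n9311 := rfl
theorem F29736 : act 0 n9311 = n9266 := d2_1 D9311 F29577 (iv F24391)
theorem F29737 : act 2 n9311 = n7702 := d13_1 D9311 (iv D7702) (iv D6092) (iv F19133) D7700
theorem F29738 : act 6 n9311 = n7709 := d20_2 (iv F24392) D9311 (iv D7709)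
def n9312 : Q := act 1 n7701
theorem D9312 : act 1 n7701 = n9312 := rfl
theorem F29739 : act 2 n9312 = n7927 := d7_2 D7701 D9312 (iv D7927) (iv D6276) (iv F19137)
theorem F29740 : act 6 n9312 = n7710 := d11_2 (iv F24395) D9312 (iv D7710)
def n9313 : Q := act 3 n7701
theorem D9313 : act 3 n7701 = n9313 := rfl
theorem F29741 : act 0 n9313 = n7702 := d2_1 D9313 (iv D7702) (iv F24394)
theorem F29742 : act 2 n9313 = n9266 := d13_1 D9313 F29577 F24230 (iv F19138) D7701
theorem F29743 : act 6 n9313 = n7711 := d20_2 (iv F24395) D9313 (iv D7711)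
def n9314 : Q := act 4 n7702
theorem D9314 : act 4 n7702 = n9314 := rfl
theorem F29744 : act 6 n9314 = n7712 := d23_2 (iv F24396) D9314 (iv D7712)
def n9315 : Q := act 7 n7702
theorem D9315 : act 7 n7702 = n9315 := rfl
def n9316 : Q := act 1 n7704
theorem D9316 : act 1 n7704 = n9316 := rfl
theorem F29745 : act 0 n9316 = n8712 := d0_1 D9316 F27801 (iv F23023) F23024 (iv F24401)
theorem F29746 : act 3 n9316 = n8622 := d8_2 (iv F24403) D9316 F27517
theorem F29747 : act 5 n9316 = n8623 := d10_2 D7704 D9316 F27521 F22266 (iv F19146)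
theorem F29748 : act 6 n9316 = n7706 := d11_2 (iv F24404) D9316 (iv D7706)
theorem F29749 : act 7 n8635 = n9316 := d26_0 F29747 F27523 (iv F27554)
def n9317 : Q := act 7 n7704
theorem D9317 : act 7 n7704 = n9317 := rfl
theorem F29750 : act 0 n9317 = n8700 := d6_1 D9317 F27772 (iv F24401)
theorem F29751 : act 1 n9317 = n8635 := d12_1 D9317 F29749 (iv D9316)
theorem F29752 : act 2 n9317 = n7730 := d17_1 D9317 (iv D7730) (iv F24402)
theorem F29753 : act 3 n9317 = n8634 := d21_1 D9317 (iv D8634) (iv F27512) (iv F27516) (iv F24403)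
theorem F29754 : act 5 n9317 = n7705 := d26_1 D9317 (iv D7705) D7704
def n9318 : Q := act 0 n7706
theorem D9318 : act 0 n7706 = n9318 := rfl
theorem F29755 : act 1 n9318 = n8713 := d0_2 D7706 D9318 F27804 F26592 F24397
theorem F29756 : act 5 n9318 = n7707 := d4_2 (iv F24410) D9318 (iv D7707)
theorem F29757 : act 6 n9318 = n8712 := d5_2 F29748 D9318 (iv F29745)
def n9319 : Q := act 2 n7706
theorem D9319 : act 2 n7706 = n9319 := rfl
theorem F29758 : act 1 n9319 = n7733 := d7_1 D9319 (iv D7733) (iv D6115) (iv F19149) D7706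
theorem F29759 : act 5 n9319 = n7708 := d15_2 (iv F24410) D9319 (iv D7708)
theorem F29760 : act 7 n9319 = n9234 := d17_2 F26352 D9319 F29480
def n9320 : Q := act 2 n7707
theorem D9320 : act 2 n7707 = n9320 := rfl
theorem F29761 : act 0 n9320 = n7708 := d1_1 D9320 (iv D7708) D7707
theorem F29762 : act 7 n9320 = n9240 := d17_2 F26382 D9320 F29501
theorem F29763 : act 1 n9262 = n9320 := d12_3 F29762 F29500 D9262
def n9321 : Q := act 3 n7708
theorem D9321 : act 3 n7708 = n9321 := rfl
theorem F29764 : act 1 n9321 = n7709 := d8_1 D9321 (iv D7709) (iv F24412)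
def n9322 : Q := act 4 n7709
theorem D9322 : act 4 n7709 = n9322 := rfl
theorem F29765 : act 0 n9322 = n9265 := d3_1 D9322 (iv D9265) (iv F24414)
theorem F29766 : act 2 n9322 = n7712 := d14_1 D9322 (iv D7712) (iv F24415)
theorem F29767 : act 5 n9322 = n7736 := d22_2 (iv F24416) D9322 (iv D7736)
def n9323 : Q := act 7 n7709
theorem D9323 : act 7 n7709 = n9323 := rfl
theorem F29768 : act 0 n9323 = n9255 := d6_1 D9323 F29548 (iv F24414)
theorem F29769 : act 2 n9323 = n7713 := d17_1 D9323 (iv D7713) (iv F24415)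
theorem F29770 : act 3 n9323 = n9237 := d21_1 D9323 (iv D9237) F24170 (iv F19152) D7709
theorem F29771 : act 5 n9323 = n7737 := d26_1 D9323 (iv D7737) (iv F24416)
def n9324 : Q := act 3 n7710
theorem D9324 : act 3 n7710 = n9324 := rfl
theorem F29772 : act 1 n9324 = n7711 := d8_1 D9324 (iv D7711) D7710
def n9325 : Q := act 5 n7710
theorem D9325 : act 5 n7710 = n9325 := rfl
theorem F29773 : act 1 n9325 = n7739 := d10_1 D9325 (iv D7739) (iv D6119) (iv F19154) D7710
theorem F29774 : act 2 n9325 = n7936 := d15_1 D9325 (iv D7936) (iv F24417)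
theorem F29775 : act 7 n9325 = n9325 := d26_2 F24418 D9325 (iv D9325)
def n9326 : Q := act 4 n7711
theorem D9326 : act 4 n7711 = n9326 := rfl
theorem F29776 : act 0 n9326 = n7712 := d3_1 D9326 (iv D7712) (iv F24419)
theorem F29777 : act 2 n9326 = n9265 := d14_1 D9326 (iv D9265) (iv F24420)
theorem F29778 : act 5 n9326 = n7740 := d22_2 (iv F24421) D9326 (iv D7740)
def n9327 : Q := act 7 n7711
theorem D9327 : act 7 n7711 = n9327 := rfl
theorem F29779 : act 0 n9327 = n7713 := d6_1 D9327 (iv D7713) (iv F24419)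
theorem F29780 : act 2 n9327 = n9255 := d17_1 D9327 F29548 (iv F24420)
theorem F29781 : act 3 n9327 = n9327 := d21_1 D9327 (iv D9327) (iv D7711) F19155 D7711
theorem F29782 : act 5 n9327 = n7741 := d26_1 D9327 (iv D7741) (iv F24421)
def n9328 : Q := act 7 n7712
theorem D9328 : act 7 n7712 = n9328 := rfl
theorem F29783 : act 4 n9328 = n7713 := d24_1 D9328 (iv D7713) D7712
theorem F29784 : act 5 n9328 = n7742 := d26_1 D9328 (iv D7742) (iv F24422)
def n9329 : Q := act 6 n7713
theorem D9329 : act 6 n7713 = n9329 := rfl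
theorem F29785 : act 3 n9329 = n9329 := d20_1 D9329 (iv D9329) F24423
def n9330 : Q := act 1 n7716
theorem D9330 : act 1 n7716 = n9330 := rfl
theorem F29786 : act 0 n9330 = n8301 := d0_1 D9330 F26362 (iv F26327) F26328 F25814
theorem F29787 : act 4 n9330 = n9318 := d9_2 F27806 D9330 F29755
theorem F29788 : act 5 n9330 = n8308 := d10_2 D7716 D9330 F26386 F21120 F20408
theorem F29789 : act 6 n9330 = n7718 := d11_2 (iv F24432) D9330 (iv D7718)
theorem F29790 : act 7 n8299 = n9330 := d30_29 F29789 F24436 (iv D6106) F14293 F10263 F7163 (iv F9648) (iv D3129) (iv F9609) (iv F13446) (iv F18199) D7390 (iv F27188) F27187 F27042 F23215 F18059 D6463 (iv F23696) (iv D7483) F18431 F18432 F13658 D4426 (iv F17873) (iv F23040) F23038 (iv F26580) (iv F26583)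
def n9331 : Q := act 7 n7716
theorem D9331 : act 7 n7716 = n9331 := rfl
theorem F29791 : act 0 n9331 = n8287 := d6_1 D9331 (iv F26326) F25814
theorem F29792 : act 1 n9331 = n8299 := d12_1 D9331 F29790 (iv D9330)
theorem F29793 : act 5 n9331 = n7717 := d26_1 D9331 (iv D7717) D7716
def n9332 : Q := act 0 n7718
theorem D9332 : act 0 n7718 = n9332 := rfl
theorem F29794 : act 1 n9332 = n8303 := d0_2 D7718 D9332 (iv F27928) F27929 F24429
theorem F29795 : act 4 n9332 = n9316 := d3_2 F27802 D9332 F29745
theorem F29796 : act 5 n9332 = n7719 := d4_2 (iv F24436) D9332 (iv D7719)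
theorem F29797 : act 6 n9332 = n8301 := d5_2 F29789 D9332 (iv F29786)
def n9333 : Q := act 2 n7718
theorem D9333 : act 2 n7718 = n9333 := rfl
theorem F29798 : act 5 n9333 = n7720 := d15_2 (iv F24436) D9333 (iv D7720)
def n9334 : Q := act 2 n7719
theorem D9334 : act 2 n7719 = n9334 := rfl
theorem F29799 : act 0 n9334 = n7720 := d1_1 D9334 (iv D7720) D7719
def n9335 : Q := act 3 n7720
theorem D9335 : act 3 n7720 = n9335 := rfl
theorem F29800 : act 1 n9335 = n7722 := d8_1 D9335 (iv D7722) (iv F24438)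
def n9336 : Q := act 1 n7721
theorem D9336 : act 1 n7721 = n9336 := rfl
theorem F29801 : act 2 n9336 = n7797 := d7_2 D7721 D9336 (iv D7797) (iv D6162) (iv F19173)
theorem F29802 : act 4 n9336 = n8643 := d9_2 (iv F24440) D9336 F27577
theorem F29803 : act 7 n9336 = n8640 := d12_2 (iv F24441) D9336 F27566
def n9337 : Q := act 3 n7721
theorem D9337 : act 3 n7721 = n9337 := rfl
theorem F29804 : act 0 n9337 = n7722 := d2_1 D9337 (iv D7722) (iv F24439)
theorem F29805 : act 2 n9337 = n7724 := d13_1 D9337 (iv D7724) (iv D6109) (iv F19174) D7721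
def n9338 : Q := act 4 n7722
theorem D9338 : act 4 n7722 = n9338 := rfl
theorem F29806 : act 2 n9338 = n7725 := d14_1 D9338 (iv D7725) (iv F24442)
def n9339 : Q := act 7 n7722
theorem D9339 : act 7 n7722 = n9339 := rfl
theorem F29807 : act 2 n9339 = n7726 := d17_1 D9339 (iv D7726) (iv F24442)
theorem F29808 : act 3 n9339 = n9250 := d21_1 D9339 (iv D9250) F24209 F22525 D7722
theorem F29809 : act 5 n9339 = n9251 := d26_1 D9339 (iv F29722) F29721
def n9340 : Q := act 3 n7723
theorem D9340 : act 3 n7723 = n9340 := rfl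
theorem F29810 : act 1 n9340 = n7724 := d8_1 D9340 (iv D7724) D7723
theorem F29811 : act 6 n9340 = n7884 := d20_2 (iv F24445) D9340 (iv D7884)
def n9341 : Q := act 5 n7723
theorem D9341 : act 5 n7723 = n9341 := rfl
theorem F29812 : act 2 n9341 = n7801 := d15_1 D9341 (iv D7801) (iv F24443)
theorem F29813 : act 4 n9341 = n7739 := d22_1 D9341 (iv D7739) (iv F24444)
theorem F29814 : act 6 n9341 = n7888 := d25_2 (iv F24445) D9341 (iv D7888) (iv D6228) (iv F19492)
theorem F29815 : act 7 n9341 = n9341 := d26_2 F24446 D9341 (iv D9341)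
def n9342 : Q := act 4 n7724
theorem D9342 : act 4 n7724 = n9342 := rfl
theorem F29816 : act 0 n9342 = n7725 := d3_1 D9342 (iv D7725) (iv F24447)
theorem F29817 : act 3 n9342 = n7740 := d18_1 D9342 (iv D7740) (iv D6120) (iv F19178) D7724
def n9343 : Q := act 7 n7724
theorem D9343 : act 7 n7724 = n9343 := rfl
theorem F29818 : act 0 n9343 = n7726 := d6_1 D9343 (iv D7726) (iv F24447)
theorem F29819 : act 3 n9343 = n9343 := d21_1 D9343 (iv D9343) (iv D7724) F19179 D7724
def n9344 : Q := act 7 n7725
theorem D9344 : act 7 n7725 = n9344 := rfl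
theorem F29820 : act 4 n9344 = n7726 := d24_1 D9344 (iv D7726) D7725
def n9345 : Q := act 6 n7726
theorem D9345 : act 6 n7726 = n9345 := rfl
theorem F29821 : act 1 n9345 = n7786 := d11_1 D9345 (iv F29362) F29359
theorem F29822 : act 3 n9345 = n9345 := d20_1 D9345 (iv D9345) F24449
def n9346 : Q := act 7 n7727
theorem D9346 : act 7 n7727 = n9346 := rfl
theorem F29823 : act 0 n9346 = n7730 := d6_1 D9346 (iv D7730) (iv F24450)
theorem F29824 : act 2 n9346 = n8700 := d17_1 D9346 F27772 (iv F24451)
theorem F29825 : act 5 n9346 = n7728 := d26_1 D9346 (iv D7728) D7727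
def n9347 : Q := act 3 n7728
theorem D9347 : act 3 n7728 = n9347 := rfl
theorem F29826 : act 0 n9347 = n7731 := d2_1 D9347 (iv D7731) (iv F24453)
theorem F29827 : act 1 n9347 = n8739 := d8_1 D9347 (iv D8739) (iv F24454)
theorem F29828 : act 6 n9347 = n7746 := d20_2 (iv F24456) D9347 (iv D7746)
def n9348 : Q := act 0 n7729
theorem D9348 : act 0 n7729 = n9348 := rfl
theorem F29829 : act 1 n9348 = n8835 := d0_2 D7729 D9348 (iv F28227) F28228 F24450
theorem F29830 : act 3 n9348 = n7823 := d2_2 F28879 D9348 (iv F28877)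
theorem F29831 : act 5 n9348 = n9052 := d4_2 F24715 D9348 F28877
theorem F29832 : act 6 n9348 = n7732 := d5_2 (iv F24457) D9348 (iv D7732)
def n9349 : Q := act 2 n7729
theorem D9349 : act 2 n7729 = n9349 := rfl
theorem F29833 : act 6 n9349 = n7733 := d16_2 (iv F24457) D9349 (iv D7733)
def n9350 : Q := act 7 n7729
theorem D9350 : act 7 n7729 = n9350 := rfl
theorem F29834 : act 1 n9350 = n7730 := d12_1 D9350 (iv D7730) D7729
theorem F29835 : act 6 n9350 = n9214 := d27_1 D9350 (iv D9214) F24095 (iv F19187) (iv F24457)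
def n9351 : Q := act 3 n7730
theorem D9351 : act 3 n7730 = n9351 := rfl
theorem F29836 : act 5 n9351 = n7731 := d19_2 (iv F24458) D9351 (iv D7731)
def n9352 : Q := act 2 n7731
theorem D9352 : act 2 n7731 = n9352 := rfl
theorem F29837 : act 1 n9352 = n8646 := d7_1 D9352 F27591 (iv F28360) (iv F28787) F28786
theorem F29838 : act 3 n9352 = n8643 := d13_2 D7731 D9352 F27578 (iv F24408) F24407
theorem F29839 : act 6 n9352 = n7747 := d16_2 (iv F24459) D9352 (iv D7747)
def n9353 : Q := act 4 n7731
theorem D9353 : act 4 n7731 = n9353 := rfl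
theorem F29840 : act 6 n9353 = n7748 := d23_2 (iv F24459) D9353 (iv D7748)
def n9354 : Q := act 2 n7732
theorem D9354 : act 2 n7732 = n9354 := rfl
theorem F29841 : act 0 n9354 = n7733 := d1_1 D9354 (iv D7733) D7732
theorem F29842 : act 5 n9354 = n7734 := d15_2 (iv F24462) D9354 (iv D7734)
theorem F29843 : act 7 n9354 = n8882 := d17_2 (iv F24463) D9354 F28331
def n9355 : Q := act 3 n7733
theorem D9355 : act 3 n7733 = n9355 := rfl
theorem F29844 : act 5 n9355 = n7735 := d19_2 (iv F24464) D9355 (iv D7735)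
def n9356 : Q := act 3 n7734
theorem D9356 : act 3 n7734 = n9356 := rfl
theorem F29845 : act 0 n9356 = n7735 := d2_1 D9356 (iv D7735) (iv F24466)
theorem F29846 : act 1 n9356 = n8839 := d8_1 D9356 (iv D8839) (iv F24467)
theorem F29847 : act 2 n9356 = n7821 := d13_1 D9356 (iv D7821) F19360 (iv F19189) D7734
theorem F29848 : act 6 n9356 = n9050 := d20_2 (iv F24468) D9356 (iv D9050)
def n9357 : Q := act 4 n7735
theorem D9357 : act 4 n7735 = n9357 := rfl
theorem F29849 : act 1 n9357 = n7736 := d9_1 D9357 (iv D7736) (iv F24470)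
def n9358 : Q := act 7 n7735
theorem D9358 : act 7 n7735 = n9358 := rfl
theorem F29850 : act 1 n9358 = n7737 := d12_1 D9358 (iv D7737) (iv F24470)
theorem F29851 : act 3 n9358 = n9233 := d21_1 D9358 (iv D9233) F24161 (iv F19193) D7735
def n9359 : Q := act 7 n7736
theorem D9359 : act 7 n7736 = n9359 := rfl
theorem F29852 : act 0 n9359 = n9257 := d6_1 D9359 F29551 (iv F24471)
theorem F29853 : act 2 n9359 = n7742 := d17_1 D9359 (iv D7742) (iv F24472)
theorem F29854 : act 4 n9359 = n7737 := d24_1 D9359 (iv D7737) D7736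
def n9360 : Q := act 6 n7737
theorem D9360 : act 6 n7737 = n9360 := rfl
theorem F29855 : act 0 n9360 = n9258 := d5_1 D9360 (iv D9258) (iv F24473)
theorem F29856 : act 2 n9360 = n7743 := d16_1 D9360 (iv D7743) (iv F24474)
theorem F29857 : act 3 n9360 = n9238 := d20_1 D9360 (iv D9238) (iv F24475)
def n9361 : Q := act 2 n7738
theorem D9361 : act 2 n7738 = n9361 := rfl
theorem F29858 : act 0 n9361 = n7896 := d1_1 D9361 (iv F29056) F29055
theorem F29859 : act 1 n9361 = n8840 := d7_1 D9361 F28206 F23050 (iv F19199) (iv F24476)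
theorem F29860 : act 3 n9361 = n7805 := d13_2 D7738 D9361 (iv D7805) (iv D6168) (iv F19196)
theorem F29861 : act 6 n9361 = n9108 := d16_2 F24924 D9361 F29056
def n9362 : Q := act 4 n7738
theorem D9362 : act 4 n7738 = n9362 := rfl
theorem F29862 : act 1 n9362 = n7740 := d9_1 D9362 (iv D7740) (iv F24476)
def n9363 : Q := act 5 n7738
theorem D9363 : act 5 n7738 = n9363 := rfl
theorem F29863 : act 3 n9363 = n7739 := d19_1 D9363 (iv D7739) D7738
def n9364 : Q := act 7 n7738
theorem D9364 : act 7 n7738 = n9364 := rfl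
theorem F29864 : act 1 n9364 = n7741 := d12_1 D9364 (iv D7741) (iv F24476)
theorem F29865 : act 3 n9364 = n9364 := d21_1 D9364 (iv D9364) (iv D7738) F19197 D7738
def n9365 : Q := act 6 n7739
theorem D9365 : act 6 n7739 = n9365 := rfl
theorem F29866 : act 2 n9365 = n7806 := d16_1 D9365 (iv D7806) (iv F24477)
theorem F29867 : act 4 n9365 = n7888 := d23_1 D9365 (iv F29814) F29813
theorem F29868 : act 5 n9365 = n7880 := d25_1 D9365 (iv D7880) (iv F21783) F19520 D7739
theorem F29869 : act 7 n7883 = n9365 := d26_0 F29868 F24889 D7883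
def n9366 : Q := act 7 n7740
theorem D9366 : act 7 n7740 = n9366 := rfl
theorem F29870 : act 0 n9366 = n7742 := d6_1 D9366 (iv D7742) (iv F24479)
theorem F29871 : act 2 n9366 = n9257 := d17_1 D9366 F29551 (iv F24480)
theorem F29872 : act 4 n9366 = n7741 := d24_1 D9366 (iv D7741) D7740
def n9367 : Q := act 6 n7741
theorem D9367 : act 6 n7741 = n9367 := rfl
theorem F29873 : act 0 n9367 = n7743 := d5_1 D9367 (iv D7743) (iv F24481)
theorem F29874 : act 2 n9367 = n9258 := d16_1 D9367 (iv D9258) (iv F24482)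
theorem F29875 : act 3 n9367 = n9367 := d20_1 D9367 (iv D9367) F24483
def n9368 : Q := act 3 n7742
theorem D9368 : act 3 n7742 = n9368 := rfl
theorem F29876 : act 4 n9368 = n9368 := d18_2 (iv F24484) D9368 (iv D9368) F24484 F19200
def n9369 : Q := act 6 n7742
theorem D9369 : act 6 n7742 = n9369 := rfl
theorem F29877 : act 4 n9369 = n7743 := d23_1 D9369 (iv D7743) (iv F24484)
def n9370 : Q := act 5 n7743
theorem D9370 : act 5 n7743 = n9370 := rfl
theorem F29878 : act 3 n9370 = n9370 := d19_1 D9370 (iv D9370) F24485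
def n9371 : Q := act 7 n7744
theorem D9371 : act 7 n7744 = n9371 := rfl
theorem F29879 : act 2 n9371 = n8737 := d17_1 D9371 (iv F27921) (iv F24486)
theorem F29880 : act 5 n9371 = n7745 := d26_1 D9371 (iv D7745) D7744
def n9372 : Q := act 3 n7745
theorem D9372 : act 3 n7745 = n9372 := rfl
theorem F29881 : act 1 n9372 = n7746 := d8_1 D9372 (iv D7746) (iv F24489)
theorem F29882 : act 6 n9372 = n8739 := d20_2 (iv F24491) D9372 (iv D8739)
theorem F29883 : act 7 n9372 = n7767 := d21_2 D7745 D9372 (iv D7767) (iv D6137) (iv F19203)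
def n9373 : Q := act 2 n7746
theorem D9373 : act 2 n7746 = n9373 := rfl
theorem F29884 : act 0 n9373 = n7747 := d1_1 D9373 (iv D7747) (iv F24492)
theorem F29885 : act 7 n9373 = n7771 := d17_2 (iv F24493) D9373 (iv D7771)
def n9374 : Q := act 4 n7746
theorem D9374 : act 4 n7746 = n9374 := rfl
theorem F29886 : act 0 n9374 = n7748 := d3_1 D9374 (iv D7748) (iv F24492)
theorem F29887 : act 7 n9374 = n7772 := d24_2 (iv F24493) D9374 (iv D7772)
def n9375 : Q := act 4 n7747
theorem D9375 : act 4 n7747 = n9375 := rfl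
theorem F29888 : act 2 n9375 = n7748 := d14_1 D9375 (iv D7748) D7747
theorem F29889 : act 7 n9375 = n7790 := d24_2 (iv F24494) D9375 (iv D7790)
def n9376 : Q := act 2 n7749
theorem D9376 : act 2 n7749 = n9376 := rfl
theorem F29890 : act 0 n9376 = n9376 := d1_1 D9376 (iv D9376) F24496
theorem F29891 : act 1 n9376 = n7754 := d7_1 D9376 (iv D7754) (iv D6128) (iv F19207) D7749
theorem F29892 : act 5 n9376 = n9376 := d15_2 F24498 D9376 (iv D9376)
theorem F29893 : act 6 n9376 = n9158 := d16_2 (iv F24499) D9376 F29223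
theorem F29894 : act 7 n7995 = n9376 := d27_0 F29893 (iv D9158) (iv F23938) F23939 D7995
def n9377 : Q := act 7 n7749
theorem D9377 : act 7 n7749 = n9377 := rfl
theorem F29895 : act 0 n9377 = n9377 := d6_1 D9377 (iv D9377) F24496
theorem F29896 : act 1 n9377 = n7751 := d12_1 D9377 (iv D7751) D7749
theorem F29897 : act 2 n9377 = n7995 := d17_1 D9377 F29894 (iv D9376)
theorem F29898 : act 4 n9377 = n9376 := d24_1 D9377 (iv F29894) F25286
theorem F29899 : act 5 n9377 = n9377 := d26_1 D9377 (iv D9377) F24498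
theorem F29900 : act 6 n9377 = n7994 := d27_1 D9377 F25282 F23924 D7558 (iv F24499)
def n9378 : Q := act 6 n7751
theorem D9378 : act 6 n7751 = n9378 := rfl
theorem F29901 : act 0 n9378 = n7776 := d5_1 D9378 (iv D7776) (iv F24506)
theorem F29902 : act 1 n9378 = n7994 := d11_1 D9378 (iv F29900) F29896
theorem F29903 : act 2 n9378 = n7757 := d16_1 D9378 (iv D7757) (iv F24507)
theorem F29904 : act 7 n9378 = n9155 := d27_2 D7751 D9378 F29215 F24505 (iv D7750)
def n9379 : Q := act 6 n7752
theorem D9379 : act 6 n7752 = n9379 := rfl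
theorem F29905 : act 0 n9379 = n7778 := d5_1 D9379 (iv D7778) (iv F24509)
theorem F29906 : act 1 n9379 = n9379 := d11_1 D9379 (iv D9379) F24510
theorem F29907 : act 2 n9379 = n9053 := d16_1 D9379 F28882 (iv F24511)
theorem F29908 : act 3 n9379 = n7753 := d20_1 D9379 (iv D7753) D7752
def n9380 : Q := act 5 n7753
theorem D9380 : act 5 n7753 = n9380 := rfl
theorem F29909 : act 0 n9380 = n7779 := d4_1 D9380 (iv D7779) (iv F24513)
theorem F29910 : act 2 n9380 = n7758 := d15_1 D9380 (iv D7758) (iv F24515)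
theorem F29911 : act 7 n9380 = n8861 := d26_2 (iv F24516) D9380 (iv D8861)
def n9381 : Q := act 6 n7754
theorem D9381 : act 6 n7754 = n9381 := rfl
theorem F29912 : act 0 n9381 = n7768 := d5_1 D9381 F24555 (iv F24517)
theorem F29913 : act 1 n9381 = n9158 := d11_1 D9381 (iv F29893) F29891
theorem F29914 : act 2 n9381 = n7755 := d16_1 D9381 (iv D7755) D7754
theorem F29915 : act 4 n9381 = n9378 := d23_1 D9381 (iv D9378) (iv F24518)
theorem F29916 : act 7 n9381 = n9157 := d27_2 (iv F24520) D9381 F29220 F28910 F25278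
def n9382 : Q := act 5 n7755
theorem D9382 : act 5 n7755 = n9382 := rfl
theorem F29917 : act 0 n9382 = n7765 := d4_1 D9382 F24550 (iv F24521)
theorem F29918 : act 1 n9382 = n9221 := d10_1 D9382 (iv D9221) F24116 F19284 (iv F24522)
theorem F29919 : act 3 n9382 = n7760 := d19_1 D9382 (iv D7760) (iv F24523)
theorem F29920 : act 6 n9382 = n7810 := d25_2 D7755 D9382 (iv D7810) (iv D6174) (iv F19214)
def n9383 : Q := act 7 n7755
theorem D9383 : act 7 n7755 = n9383 := rfl
theorem F29921 : act 0 n9383 = n7769 := d6_1 D9383 (iv D7769) (iv F24521)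
theorem F29922 : act 1 n9383 = n7756 := d12_1 D9383 (iv D7756) (iv F24522)
theorem F29923 : act 2 n9383 = n9157 := d17_1 D9383 (iv F29916) F29914
theorem F29924 : act 6 n9383 = n9022 := d27_1 D9383 (iv D9022) F23546 F19215 D7755
def n9384 : Q := act 3 n7756
theorem D9384 : act 3 n7756 = n9384 := rfl
theorem F29925 : act 0 n9384 = n7780 := d2_1 D9384 (iv D7780) (iv F24524)
theorem F29926 : act 2 n9384 = n9160 := d13_1 D9384 (iv D9160) (iv D7559) (iv F23940) (iv F24525)
theorem F29927 : act 5 n9384 = n9194 := d19_2 (iv F24526) D9384 (iv D9194)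
theorem F29928 : act 7 n9384 = n7762 := d21_2 D7756 D9384 (iv D7762) (iv D6134) (iv F19217)
def n9385 : Q := act 6 n7756
theorem D9385 : act 6 n7756 = n9385 := rfl
theorem F29929 : act 0 n9385 = n7781 := d5_1 D9385 (iv D7781) (iv F24524)
theorem F29930 : act 1 n9385 = n9022 := d11_1 D9385 (iv F29924) F29922
theorem F29931 : act 2 n9385 = n9155 := d16_1 D9385 F29215 (iv F24525)
theorem F29932 : act 4 n9385 = n9383 := d23_1 D9385 F29924 F28792
theorem F29933 : act 7 n9385 = n7757 := d27_2 D7756 D9385 (iv D7757) (iv D6130) D6129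
def n9386 : Q := act 5 n7757
theorem D9386 : act 5 n7757 = n9386 := rfl
theorem F29934 : act 0 n9386 = n7782 := d4_1 D9386 (iv D7782) (iv F24527)
theorem F29935 : act 1 n9386 = n8684 := d10_1 D9386 (iv D8684) F22422 D7433 (iv F24528)
theorem F29936 : act 3 n9386 = n9030 := d19_1 D9386 F28818 (iv F24529)
theorem F29937 : act 4 n9386 = n9382 := d22_1 D9386 (iv D9382) (iv F24530)
theorem F29938 : act 6 n9386 = n7758 := d25_2 D7757 D9386 (iv D7758) (iv D6131) (iv F19222)
def n9387 : Q := act 5 n7759
theorem D9387 : act 5 n7759 = n9387 := rfl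
theorem F29939 : act 2 n9387 = n7760 := d15_1 D9387 (iv D7760) (iv F24536)
theorem F29940 : act 4 n9387 = n7763 := d22_1 D9387 (iv D7763) (iv F24537)
theorem F29941 : act 6 n9387 = n7813 := d25_2 D7759 D9387 (iv D7813) (iv D6176) (iv F19229)
def n9388 : Q := act 7 n7759
theorem D9388 : act 7 n7759 = n9388 := rfl
theorem F29942 : act 0 n9388 = n8983 := d6_1 D9388 F28664 F27671
theorem F29943 : act 1 n9388 = n9388 := d12_1 D9388 (iv D9388) F24535
theorem F29944 : act 2 n9388 = n7761 := d17_1 D9388 (iv D7761) (iv F24536)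
theorem F29945 : act 4 n9388 = n7764 := d24_1 D9388 (iv D7764) (iv F24537)
theorem F29946 : act 6 n9388 = n8992 := d27_1 D9388 (iv F28706) F24129 (iv F19230) D7759
theorem F29947 : act 3 n8984 = n9388 := d20_3 F29946 F28705 (iv F28666)
def n9389 : Q := act 7 n7760
theorem D9389 : act 7 n7760 = n9389 := rfl
theorem F29948 : act 4 n9389 = n7766 := d24_1 D9389 (iv D7766) (iv F24538)
theorem F29949 : act 5 n9389 = n7761 := d26_1 D9389 (iv D7761) D7760
def n9390 : Q := act 3 n7761
theorem D9390 : act 3 n7761 = n9390 := rfl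
theorem F29950 : act 1 n9390 = n7762 := d8_1 D9390 (iv D7762) (iv F24540)
theorem F29951 : act 6 n9390 = n9224 := d20_2 (iv F24542) D9390 (iv D9224)
def n9391 : Q := act 2 n7762
theorem D9391 : act 2 n7762 = n9391 := rfl
theorem F29952 : act 0 n9391 = n7784 := d1_1 D9391 (iv D7784) (iv F24543)
theorem F29953 : act 3 n9391 = n9391 := d13_2 D7762 D9391 (iv D9391) (iv D7762) F19234
theorem F29954 : act 5 n9391 = n9196 := d15_2 F24604 D9391 F29360
theorem F29955 : act 6 n9391 = n9225 := d16_2 (iv F24544) D9391 (iv D9225)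
theorem F29956 : act 7 n9391 = n9160 := d17_2 F29928 D9391 (iv F29926)
def n9392 : Q := act 4 n7762
theorem D9392 : act 4 n7762 = n9392 := rfl
theorem F29957 : act 0 n9392 = n7785 := d3_1 D9392 (iv D7785) (iv F24543)
theorem F29958 : act 3 n9392 = n7772 := d18_1 D9392 (iv D7772) (iv D6140) (iv F19235) D7762
theorem F29959 : act 6 n9392 = n9226 := d23_2 (iv F24544) D9392 (iv D9226)
def n9393 : Q := act 1 n7763
theorem D9393 : act 1 n7763 = n9393 := rfl
theorem F29960 : act 3 n9393 = n8915 := d8_2 (iv F24546) D9393 (iv D8915)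
theorem F29961 : act 5 n9393 = n9393 := d10_2 D7763 D9393 (iv D9393) (iv D7763) F19237
theorem F29962 : act 6 n9393 = n7819 := d11_2 (iv F24547) D9393 (iv D7819)
def n9394 : Q := act 7 n7763
theorem D9394 : act 7 n7763 = n9394 := rfl
theorem F29963 : act 2 n9394 = n7766 := d17_1 D9394 (iv D7766) (iv F24545)
theorem F29964 : act 5 n9394 = n7764 := d26_1 D9394 (iv D7764) D7763
def n9395 : Q := act 2 n7765
theorem D9395 : act 2 n7765 = n9395 := rfl
theorem F29965 : act 5 n9395 = n7768 := d15_2 (iv F24550) D9395 (iv D7768)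
theorem F29966 : act 6 n9395 = n7822 := d16_2 (iv F24551) D9395 (iv D7822)
def n9396 : Q := act 7 n7765
theorem D9396 : act 7 n7765 = n9396 := rfl
theorem F29967 : act 1 n9396 = n7766 := d12_1 D9396 (iv D7766) D7765
theorem F29968 : act 5 n9396 = n7769 := d26_1 D9396 (iv D7769) (iv F24550)
theorem F29969 : act 6 n9396 = n9018 := d27_1 D9396 (iv D9018) F23538 F19364 (iv F24551)
def n9397 : Q := act 3 n7766
theorem D9397 : act 3 n7766 = n9397 := rfl
theorem F29970 : act 5 n9397 = n7767 := d19_2 (iv F24552) D9397 (iv D7767)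
def n9398 : Q := act 6 n7766
theorem D9398 : act 6 n7766 = n9398 := rfl
theorem F29971 : act 1 n9398 = n9018 := d11_1 D9398 (iv F29969) F29967
theorem F29972 : act 5 n9398 = n9350 := d25_1 D9398 F29835 F29418 F24097 (iv F24552)
theorem F29973 : act 7 n9398 = n7823 := d27_2 D7766 D9398 (iv D7823) (iv D6184) (iv F19240)
def n9399 : Q := act 2 n7767
theorem D9399 : act 2 n7767 = n9399 := rfl
def n9400 : Q := act 4 n7767
theorem D9400 : act 4 n7767 = n9400 := rfl
theorem F29974 : act 1 n9400 = n7772 := d9_1 D9400 (iv D7772) (iv F24553)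
def n9401 : Q := act 3 n7768
theorem D9401 : act 3 n7768 = n9401 := rfl
theorem F29975 : act 1 n9401 = n9401 := d8_1 D9401 (iv D9401) F24554
theorem F29976 : act 6 n9401 = n7773 := d20_2 (iv F24555) D9401 (iv D7773)
def n9402 : Q := act 3 n7769
theorem D9402 : act 3 n7769 = n9402 := rfl
theorem F29977 : act 1 n9402 = n7770 := d8_1 D9402 (iv D7770) (iv F24556)
theorem F29978 : act 6 n9402 = n9025 := d20_2 (iv F24557) D9402 (iv D9025)
def n9403 : Q := act 2 n7770
theorem D9403 : act 2 n7770 = n9403 := rfl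
theorem F29979 : act 0 n9403 = n7786 := d1_1 D9403 (iv D7786) (iv F24558)
theorem F29980 : act 3 n9403 = n9403 := d13_2 D7770 D9403 (iv D9403) (iv D7770) F19244
theorem F29981 : act 5 n9403 = n7771 := d15_2 (iv F24559) D9403 (iv D7771)
def n9404 : Q := act 4 n7770
theorem D9404 : act 4 n7770 = n9404 := rfl
theorem F29982 : act 0 n9404 = n7787 := d3_1 D9404 (iv D7787) (iv F24558)
theorem F29983 : act 5 n9404 = n7772 := d22_2 (iv F24559) D9404 (iv D7772)
def n9405 : Q := act 1 n7771
theorem D9405 : act 1 n7771 = n9405 := rfl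
theorem F29984 : act 3 n9405 = n9405 := d8_2 F24561 D9405 (iv D9405)
def n9406 : Q := act 4 n7771
theorem D9406 : act 4 n7771 = n9406 := rfl
theorem F29985 : act 0 n9406 = n7790 := d3_1 D9406 (iv D7790) (iv F24560)
theorem F29986 : act 2 n9406 = n7772 := d14_1 D9406 (iv D7772) D7771
def n9407 : Q := act 6 n7774
theorem D9407 : act 6 n7774 = n9407 := rfl
theorem F29987 : act 0 n9407 = n9155 := d5_1 D9407 F29215 (iv F24566)
theorem F29988 : act 1 n9407 = n9407 := d11_1 D9407 (iv D9407) F24567
theorem F29989 : act 2 n9407 = n7781 := d16_1 D9407 (iv D7781) (iv F24568)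
theorem F29990 : act 3 n9407 = n9113 := d20_1 D9407 (iv D9113) F24571
theorem F29991 : act 4 n9407 = n9091 := d23_1 D9407 (iv D9091) (iv F24569)
theorem F29992 : act 7 n9407 = n7776 := d27_2 D7774 D9407 (iv D7776) (iv D6143) D6142
def n9408 : Q := act 6 n7775
theorem D9408 : act 6 n7775 = n9408 := rfl
theorem F29993 : act 1 n9408 = n9408 := d11_1 D9408 (iv D9408) F24572
theorem F29994 : act 2 n9408 = n8679 := d16_1 D9408 (iv D8679) (iv F24573)
theorem F29995 : act 3 n9408 = n7776 := d20_1 D9408 (iv D7776) D7775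
theorem F29996 : act 4 n9408 = n8678 := d23_1 D9408 (iv D8678) F24576
def n9409 : Q := act 5 n7776
theorem D9409 : act 5 n7776 = n9409 := rfl
theorem F29997 : act 2 n9409 = n7782 := d15_1 D9409 (iv D7782) (iv F24578)
theorem F29998 : act 4 n9409 = n9395 := d22_1 D9409 F29965 (iv F24579)
theorem F29999 : act 6 n9409 = n7779 := d25_2 D7776 D9409 (iv D7779) (iv D6145) (iv F19256)
def n9410 : Q := act 6 n7777
theorem D9410 : act 6 n7777 = n9410 := rfl
theorem F30000 : act 1 n9410 = n7791 := d11_1 D9410 (iv D7791) (iv F24580)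
theorem F30001 : act 2 n9410 = n8676 := d16_1 D9410 (iv D8676) (iv F24581)
theorem F30002 : act 4 n9410 = n7778 := d23_1 D9410 (iv D7778) D7777
def n9411 : Q := act 5 n7778
theorem D9411 : act 5 n7778 = n9411 := rfl
theorem F30003 : act 3 n9411 = n7779 := d19_1 D9411 (iv D7779) (iv F24585)
def n9412 : Q := act 7 n7778
theorem D9412 : act 7 n7778 = n9412 := rfl
theorem F30004 : act 1 n9412 = n7793 := d12_1 D9412 (iv D7793) (iv F24584)
theorem F30005 : act 6 n9412 = n9412 := d27_1 D9412 (iv D9412) (iv D7778) F19258 D7778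
def n9413 : Q := act 1 n7779
theorem D9413 : act 1 n7779 = n9413 := rfl
theorem F30006 : act 5 n9413 = n7794 := d10_2 D7779 D9413 (iv D7794) (iv D6159) (iv F19259)
def n9414 : Q := act 2 n7780
theorem D9414 : act 2 n7780 = n9414 := rfl
theorem F30007 : act 0 n9414 = n9160 := d1_1 D9414 (iv F29926) F29925
theorem F30008 : act 3 n9414 = n9111 := d13_2 D7780 D9414 F29063 F24571 F24568
theorem F30009 : act 5 n9414 = n9116 := d15_2 F28797 D9414 F29080
theorem F30010 : act 7 n9414 = n7784 := d17_2 (iv F24588) D9414 (iv D7784)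
def n9415 : Q := act 4 n7780
theorem D9415 : act 4 n7780 = n9415 := rfl
theorem F30011 : act 1 n9415 = n7787 := d9_1 D9415 (iv D7787) (iv F24587)
theorem F30012 : act 7 n9415 = n7785 := d24_2 (iv F24588) D9415 (iv D7785)
def n9416 : Q := act 6 n7780
theorem D9416 : act 6 n7780 = n9416 := rfl
theorem F30013 : act 1 n9416 = n7788 := d11_1 D9416 (iv D7788) (iv F24587)
theorem F30014 : act 3 n9416 = n7781 := d20_1 D9416 (iv D7781) D7780
def n9417 : Q := act 5 n7781
theorem D9417 : act 5 n7781 = n9417 := rfl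
theorem F30015 : act 1 n9417 = n9389 := d10_1 D9417 F29949 F24540 (iv F19272) (iv F24589)
theorem F30016 : act 4 n9417 = n9396 := d22_1 D9417 F29968 (iv F24590)
theorem F30017 : act 7 n9417 = n7782 := d26_2 (iv F24591) D9417 (iv D7782)
def n9418 : Q := act 2 n7783
theorem D9418 : act 2 n7783 = n9418 := rfl
theorem F30018 : act 0 n9418 = n9196 := d1_1 D9418 F29360 F24602
theorem F30019 : act 3 n9418 = n9418 := d13_2 D7783 D9418 (iv D9418) (iv D7783) F19264
theorem F30020 : act 5 n9418 = n7784 := d15_2 (iv F24595) D9418 (iv D7784)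
theorem F30021 : act 6 n9418 = n9403 := d16_2 (iv F24596) D9418 (iv D9403)
theorem F30022 : act 7 n9418 = n9116 := d17_2 F28798 D9418 F29080
def n9419 : Q := act 4 n7783
theorem D9419 : act 4 n7783 = n9419 := rfl
theorem F30023 : act 3 n9419 = n7787 := d18_1 D9419 (iv D7787) (iv D6151) (iv F19265) D7783
theorem F30024 : act 5 n9419 = n7785 := d22_2 (iv F24595) D9419 (iv D7785)
theorem F30025 : act 6 n9419 = n9404 := d23_2 (iv F24596) D9419 (iv D9404)
def n9420 : Q := act 1 n7784
theorem D9420 : act 1 n7784 = n9420 := rfl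
theorem F30026 : act 3 n9420 = n9420 := d8_2 F24597 D9420 (iv D9420)
def n9421 : Q := act 4 n7784
theorem D9421 : act 4 n7784 = n9421 := rfl
theorem F30027 : act 2 n9421 = n7785 := d14_1 D9421 (iv D7785) D7784
def n9422 : Q := act 4 n7786
theorem D9422 : act 4 n7786 = n9422 := rfl
theorem F30028 : act 2 n9422 = n7787 := d14_1 D9422 (iv D7787) D7786
theorem F30029 : act 5 n9422 = n7790 := d22_2 (iv F24600) D9422 (iv D7790)
def n9423 : Q := act 6 n7787
theorem D9423 : act 6 n7787 = n9423 := rfl
theorem F30030 : act 0 n9423 = n9419 := d5_1 D9423 F30025 F29982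
theorem F30031 : act 3 n9423 = n9404 := d20_1 D9423 (iv F30025) F30023
theorem F30032 : act 4 n9423 = n7788 := d23_1 D9423 (iv D7788) D7787
theorem F30033 : act 5 n9423 = n9392 := d25_1 D9423 F29959 F29456 F24136 (iv F24601)
def n9424 : Q := act 0 n7789
theorem D9424 : act 0 n7789 = n9424 := rfl
theorem F30034 : act 3 n9424 = n9424 := d2_2 F24605 D9424 (iv D9424)
def n9425 : Q := act 4 n7789
theorem D9425 : act 4 n7789 = n9425 := rfl
theorem F30035 : act 1 n9425 = n7790 := d9_1 D9425 (iv D7790) D7789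
def n9426 : Q := act 5 n7789
theorem D9426 : act 5 n7789 = n9426 := rfl
theorem F30036 : act 3 n9426 = n9426 := d19_1 D9426 (iv D9426) F24605
def n9427 : Q := act 3 n7790
theorem D9427 : act 3 n7790 = n9427 := rfl
theorem F30037 : act 4 n9427 = n9427 := d18_2 D7790 D9427 (iv D9427) (iv D7790) F19274
def n9428 : Q := act 5 n7791
theorem D9428 : act 5 n7791 = n9428 := rfl
theorem F30038 : act 0 n9428 = n9428 := d4_1 D9428 (iv D9428) F24607
theorem F30039 : act 2 n9428 = n9428 := d15_1 D9428 (iv D9428) F24608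
theorem F30040 : act 4 n9428 = n7792 := d22_1 D9428 (iv D7792) (iv F24609)
theorem F30041 : act 6 n9428 = n9428 := d25_2 D7791 D9428 (iv D9428) (iv D7791) F19287
def n9429 : Q := act 7 n7791
theorem D9429 : act 7 n7791 = n9429 := rfl
theorem F30042 : act 0 n9429 = n9429 := d6_1 D9429 (iv D9429) F24607
theorem F30043 : act 2 n9429 = n9429 := d17_1 D9429 (iv D9429) F24608
theorem F30044 : act 4 n9429 = n7793 := d24_1 D9429 (iv D7793) (iv F24609)
theorem F30045 : act 6 n9429 = n9429 := d27_1 D9429 (iv D9429) (iv D7791) F19288 D7791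
def n9430 : Q := act 1 n7792
theorem D9430 : act 1 n7792 = n9430 := rfl
theorem F30046 : act 3 n9430 = n7794 := d8_2 (iv F24612) D9430 (iv D7794)
theorem F30047 : act 6 n9430 = n9430 := d11_2 F24613 D9430 (iv D9430)
def n9431 : Q := act 7 n7792
theorem D9431 : act 7 n7792 = n9431 := rfl
theorem F30048 : act 0 n9431 = n9431 := d6_1 D9431 (iv D9431) F24610
theorem F30049 : act 2 n9431 = n9431 := d17_1 D9431 (iv D9431) F24611
theorem F30050 : act 3 n9431 = n8041 := d21_1 D9431 (iv F28746) F28743 F23501 (iv F24612)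
theorem F30051 : act 5 n9431 = n7793 := d26_1 D9431 (iv D7793) D7792
theorem F30052 : act 6 n9431 = n8040 := d30_6 D3383 D4680 F14465 (iv F19293) (iv F24612) D9431 F25449 F26138 (iv D8220) (iv D6608) (iv D5046) D5045 F15645 F13759 F9860 F6864 D2219 D3212 (iv F9910) (iv D2491) (iv D1708) F3685 D1709 D2495 (iv F9994) F9992 (iv D2245) (iv F6941) (iv F7275)
def n9432 : Q := act 0 n7794
theorem D9432 : act 0 n7794 = n9432 := rfl
theorem F30053 : act 1 n9432 = n9432 := d0_2 D7794 D9432 (iv D9432) (iv D7794) F19292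
theorem F30054 : act 6 n9432 = n9432 := d5_2 F24617 D9432 (iv D9432)
def n9433 : Q := act 1 n7795
theorem D9433 : act 1 n7795 = n9433 := rfl
theorem F30055 : act 0 n9433 = n7797 := d0_1 D9433 (iv D7797) F19299 (iv F19295) (iv F24618)
theorem F30056 : act 4 n9433 = n8642 := d9_2 (iv F24619) D9433 F27574
theorem F30057 : act 7 n9433 = n8639 := d12_2 (iv F24621) D9433 F27562
def n9434 : Q := act 3 n7795
theorem D9434 : act 3 n7795 = n9434 := rfl
theorem F30058 : act 0 n9434 = n7796 := d2_1 D9434 (iv D7796) (iv F24618)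
theorem F30059 : act 4 n9434 = n8721 := d18_2 (iv F24619) D9434 F27837 F22567 (iv F22323)
theorem F30060 : act 5 n9434 = n8718 := d19_2 (iv F24620) D9434 F27822
theorem F30061 : act 7 n9434 = n8746 := d21_2 (iv F24621) D9434 F27949 F22706 (iv F22318)
def n9435 : Q := act 3 n7797
theorem D9435 : act 3 n7797 = n9435 := rfl
theorem F30062 : act 1 n9435 = n7798 := d8_1 D9435 (iv D7798) D7797
theorem F30063 : act 7 n9435 = n8928 := d21_2 (iv F24627) D9435 F28462 F23135 (iv F22293)
def n9436 : Q := act 5 n7797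
theorem D9436 : act 5 n7797 = n9436 := rfl
theorem F30064 : act 1 n9436 = n7973 := d10_1 D9436 (iv D7973) (iv D6323) (iv F19301) D7797
theorem F30065 : act 4 n9436 = n8634 := d22_1 D9436 F27552 (iv F24626)
theorem F30066 : act 7 n9436 = n8628 := d26_2 (iv F24627) D9436 F27541
def n9437 : Q := act 4 n7798
theorem D9437 : act 4 n7798 = n9437 := rfl
theorem F30067 : act 0 n9437 = n7799 := d3_1 D9437 (iv D7799) (iv F24628)
theorem F30068 : act 2 n9437 = n7802 := d14_1 D9437 (iv D7802) (iv F24629)
theorem F30069 : act 3 n9437 = n8644 := d18_1 D9437 (iv D8644) (iv D7041) (iv F19300) D7798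
theorem F30070 : act 5 n9437 = n7974 := d22_2 (iv F24630) D9437 (iv D7974)
theorem F30071 : act 6 n9437 = n9092 := d23_2 F24886 D9437 F29018
theorem F30072 : act 7 n9437 = n8734 := d24_2 (iv F24631) D9437 F27908
def n9438 : Q := act 2 n7800
theorem D9438 : act 2 n7800 = n9438 := rfl
theorem F30073 : act 6 n9438 = n8054 := d16_2 (iv F24639) D9438 (iv D8054)
def n9439 : Q := act 1 n7807
theorem D9439 : act 1 n7807 = n9439 := rfl
theorem F30074 : act 3 n9439 = n8926 := d8_2 (iv F24668) D9439 (iv D8926)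
theorem F30075 : act 5 n9439 = n7987 := d10_2 D7807 D9439 (iv D7987) (iv D6342) (iv F19329)
theorem F30076 : act 6 n9439 = n8738 := d11_2 (iv F24669) D9439 F27923
theorem F30077 : act 0 n8752 = n9439 := d5_3 F30076 F27922 D8752
def n9440 : Q := act 4 n7808
theorem D9440 : act 4 n7808 = n9440 := rfl
theorem F30078 : act 0 n9440 = n7825 := d3_1 D9440 (iv D7825) (iv F24670)
theorem F30079 : act 1 n9440 = n9440 := d9_1 D9440 (iv D9440) F24671
theorem F30080 : act 2 n9440 = n7811 := d14_1 D9440 (iv D7811) (iv F24672)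
theorem F30081 : act 3 n9440 = n8918 := d18_1 D9440 F28435 (iv D7752) (iv F19335) D7808
theorem F30082 : act 5 n9440 = n8911 := d22_2 F28592 D9440 (iv F28591)
def n9441 : Q := act 6 n7808
theorem D9441 : act 6 n7808 = n9441 := rfl
theorem F30083 : act 0 n9441 = n7824 := d5_1 D9441 F24717 (iv F24670)
theorem F30084 : act 1 n9441 = n9441 := d11_1 D9441 (iv D9441) F24671
theorem F30085 : act 2 n9441 = n7812 := d16_1 D9441 (iv D7812) (iv F24672)
theorem F30086 : act 3 n9441 = n7809 := d20_1 D9441 (iv D7809) D7808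
theorem F30087 : act 7 n9441 = n8710 := d27_2 F26936 D9441 F27799 (iv F28502) F28501
def n9442 : Q := act 5 n7809
theorem D9442 : act 5 n7809 = n9442 := rfl
theorem F30088 : act 0 n9442 = n7822 := d4_1 D9442 F24712 (iv F24673)
theorem F30089 : act 2 n9442 = n7810 := d15_1 D9442 (iv D7810) (iv F24675)
theorem F30090 : act 4 n9442 = n9380 := d22_1 D9442 (iv D9380) (iv F24676)
theorem F30091 : act 7 n9442 = n8692 := d26_2 (iv F24677) D9442 (iv D8692)
def n9443 : Q := act 6 n7811
theorem D9443 : act 6 n7811 = n9443 := rfl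
theorem F30092 : act 1 n9443 = n7827 := d11_1 D9443 (iv D7827) (iv F24683)
theorem F30093 : act 3 n9443 = n7816 := d20_1 D9443 (iv D7816) (iv F24684)
theorem F30094 : act 4 n9443 = n7812 := d23_1 D9443 (iv D7812) D7811
def n9444 : Q := act 5 n7812
theorem D9444 : act 5 n7812 = n9444 := rfl
theorem F30095 : act 3 n9444 = n7813 := d19_1 D9444 (iv D7813) (iv F24687)
def n9445 : Q := act 7 n7812
theorem D9445 : act 7 n7812 = n9445 := rfl
theorem F30096 : act 1 n9445 = n7830 := d12_1 D9445 (iv D7830) (iv F24686)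
theorem F30097 : act 2 n9445 = n8710 := d17_1 D9445 (iv F30087) F30085
theorem F30098 : act 6 n9445 = n8945 := d27_1 D9445 F28521 (iv D8464) F21622 D7812
def n9446 : Q := act 1 n7813
theorem D9446 : act 1 n7813 = n9446 := rfl
theorem F30099 : act 2 n9446 = n9413 := d7_2 (iv F24688) D9446 (iv D9413) F24586 (iv F19346)
theorem F30100 : act 4 n9446 = n7819 := d9_2 (iv F24689) D9446 (iv D7819)
theorem F30101 : act 5 n9446 = n7832 := d10_2 D7813 D9446 (iv D7832) (iv D6190) (iv F19343)
def n9447 : Q := act 7 n7813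
theorem D9447 : act 7 n7813 = n9447 := rfl
theorem F30102 : act 2 n9447 = n7815 := d17_1 D9447 (iv D7815) (iv F24688)
theorem F30103 : act 4 n9447 = n7820 := d24_1 D9447 (iv D7820) (iv F24689)
theorem F30104 : act 5 n9447 = n7814 := d26_1 D9447 (iv D7814) D7813
def n9448 : Q := act 3 n7814
theorem D9448 : act 3 n7814 = n9448 := rfl
theorem F30105 : act 1 n9448 = n7834 := d8_1 D9448 (iv D7834) (iv F24690)
theorem F30106 : act 6 n9448 = n8877 := d20_2 (iv F24693) D9448 (iv D8877)
def n9449 : Q := act 6 n7815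
theorem D9449 : act 6 n7815 = n9449 := rfl
theorem F30107 : act 1 n9449 = n9016 := d11_1 D9449 F28778 (iv F24694)
theorem F30108 : act 4 n9449 = n7823 := d23_1 D9449 (iv D7823) (iv F24695)
theorem F30109 : act 5 n9449 = n8875 := d25_1 D9449 (iv D8875) F22960 (iv F19350) (iv F24696)
def n9450 : Q := act 5 n7816
theorem D9450 : act 5 n7816 = n9450 := rfl
theorem F30110 : act 2 n9450 = n8920 := d15_1 D9450 (iv D8920) (iv F24698)
theorem F30111 : act 4 n9450 = n7817 := d22_1 D9450 (iv D7817) (iv F24699)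
theorem F30112 : act 6 n9450 = n8913 := d25_2 D7816 D9450 (iv D8913) (iv D7302) (iv F19353)
def n9451 : Q := act 7 n7816
theorem D9451 : act 7 n7816 = n9451 := rfl
theorem F30113 : act 1 n9451 = n7838 := d12_1 D9451 (iv D7838) (iv F24697)
theorem F30114 : act 2 n9451 = n8917 := d17_1 D9451 F28432 (iv F24698)
theorem F30115 : act 4 n9451 = n7818 := d24_1 D9451 (iv D7818) (iv F24699)
theorem F30116 : act 6 n9451 = n8910 := d27_1 D9451 (iv D8910) (iv D7300) (iv F19354) D7816
def n9452 : Q := act 1 n7817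
theorem D9452 : act 1 n7817 = n9452 := rfl
theorem F30117 : act 3 n9452 = n7819 := d8_2 (iv F24701) D9452 (iv D7819)
theorem F30118 : act 5 n9452 = n7841 := d10_2 D7817 D9452 (iv D7841) (iv D6196) (iv F19355)
theorem F30119 : act 6 n9452 = n8915 := d11_2 (iv F24702) D9452 (iv D8915)
def n9453 : Q := act 7 n7817
theorem D9453 : act 7 n7817 = n9453 := rfl
theorem F30120 : act 2 n9453 = n8925 := d17_1 D9453 F28457 (iv F24700)
theorem F30121 : act 5 n9453 = n7818 := d26_1 D9453 (iv D7818) D7817
def n9454 : Q := act 3 n7818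
theorem D9454 : act 3 n7818 = n9454 := rfl
theorem F30122 : act 1 n9454 = n7843 := d8_1 D9454 (iv D7843) (iv F24703)
theorem F30123 : act 6 n9454 = n8914 := d20_2 (iv F24705) D9454 (iv D8914)
theorem F30124 : act 7 n9454 = n7821 := d21_2 D7818 D9454 (iv D7821) (iv D6182) (iv F19357)
def n9455 : Q := act 0 n7819
theorem D9455 : act 0 n7819 = n9455 := rfl
theorem F30125 : act 5 n9455 = n7846 := d4_2 (iv F24706) D9455 (iv D7846)
def n9456 : Q := act 2 n7819
theorem D9456 : act 2 n7819 = n9456 := rfl
theorem F30126 : act 1 n9456 = n7822 := d7_1 D9456 (iv D7822) (iv D6183) (iv F19358) D7819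
theorem F30127 : act 4 n9456 = n9413 := d14_2 F30100 D9456 (iv F30099)
theorem F30128 : act 5 n9456 = n7847 := d15_2 (iv F24706) D9456 (iv D7847)
theorem F30129 : act 7 n9004 = n9456 := d26_0 F30128 (iv F24795) (iv F28741)
def n9457 : Q := act 7 n7819
theorem D9457 : act 7 n7819 = n9457 := rfl
theorem F30130 : act 1 n9457 = n7820 := d12_1 D9457 (iv D7820) D7819
theorem F30131 : act 2 n9457 = n9004 := d17_1 D9457 F30129 (iv D9456)
theorem F30132 : act 5 n9457 = n7848 := d26_1 D9457 (iv D7848) (iv F24706)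
def n9458 : Q := act 3 n7820
theorem D9458 : act 3 n7820 = n9458 := rfl
theorem F30133 : act 5 n9458 = n7821 := d19_2 (iv F24708) D9458 (iv D7821)
def n9459 : Q := act 6 n7820
theorem D9459 : act 6 n7820 = n9459 := rfl
theorem F30134 : act 2 n9459 = n7823 := d16_1 D9459 (iv D7823) (iv F24707)
theorem F30135 : act 5 n9459 = n9349 := d25_1 D9459 F29833 F24464 (iv F19361) (iv F24708)
def n9460 : Q := act 4 n7821
theorem D9460 : act 4 n7821 = n9460 := rfl
theorem F30136 : act 1 n9460 = n7851 := d9_1 D9460 (iv D7851) (iv F24709)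
theorem F30137 : act 6 n9460 = n9357 := d23_2 (iv F24710) D9460 (iv D9357)
def n9461 : Q := act 3 n7822
theorem D9461 : act 3 n7822 = n9461 := rfl
theorem F30138 : act 5 n9461 = n7824 := d19_2 (iv F24712) D9461 (iv D7824)
def n9462 : Q := act 4 n7824
theorem D9462 : act 4 n7824 = n9462 := rfl
theorem F30139 : act 1 n9462 = n7853 := d9_1 D9462 (iv D7853) (iv F24716)
theorem F30140 : act 3 n9462 = n9410 := d18_1 D9462 F30002 F24585 (iv F19368) D7824
theorem F30141 : act 6 n9462 = n7825 := d23_2 (iv F24717) D9462 (iv D7825)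
def n9463 : Q := act 7 n7824
theorem D9463 : act 7 n7824 = n9463 := rfl
theorem F30142 : act 0 n9463 = n8710 := d6_1 D9463 (iv F30087) F30083
theorem F30143 : act 1 n9463 = n7854 := d12_1 D9463 (iv D7854) (iv F24716)
theorem F30144 : act 3 n9463 = n8699 := d21_1 D9463 (iv D8699) F22479 (iv F19370) D7824
theorem F30145 : act 6 n8941 = n9463 := d20_0 F30144 F27770 D8941
def n9464 : Q := act 7 n7825
theorem D9464 : act 7 n7825 = n9464 := rfl
theorem F30146 : act 1 n9464 = n7855 := d12_1 D9464 (iv D7855) (iv F24718)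
theorem F30147 : act 3 n9464 = n9464 := d21_1 D9464 (iv D9464) F24719 F24583 (iv F24719)
theorem F30148 : act 4 n9464 = n7826 := d24_1 D9464 (iv D7826) D7825
theorem F30149 : act 5 n9464 = n8096 := d26_1 D9464 (iv F27645) F27644
def n9465 : Q := act 6 n7826
theorem D9465 : act 6 n7826 = n9465 := rfl
theorem F30150 : act 0 n9465 = n8938 := d5_1 D9465 F28501 F26932
theorem F30151 : act 1 n9465 = n7856 := d11_1 D9465 (iv D7856) (iv F24720)
theorem F30152 : act 3 n9465 = n8088 := d20_1 D9465 F25656 (iv F24721)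
theorem F30153 : act 7 n9465 = n8941 := d27_2 D7826 D9465 F30145 (iv D9463) F24717
def n9466 : Q := act 7 n7827
theorem D9466 : act 7 n7827 = n9466 := rfl
theorem F30154 : act 0 n9466 = n7857 := d6_1 D9466 (iv D7857) (iv F24723)
theorem F30155 : act 2 n9466 = n9466 := d17_1 D9466 (iv D9466) F24724
theorem F30156 : act 4 n9466 = n7830 := d24_1 D9466 (iv D7830) (iv F24726)
def n9467 : Q := act 6 n7828
theorem D9467 : act 6 n7828 = n9467 := rfl
theorem F30157 : act 0 n9467 = n7859 := d5_1 D9467 (iv D7859) (iv F24727)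
theorem F30158 : act 2 n9467 = n9467 := d16_1 D9467 (iv D9467) F24728
theorem F30159 : act 4 n9467 = n7831 := d23_1 D9467 (iv D7831) (iv F24729)
def n9468 : Q := act 1 n7829
theorem D9468 : act 1 n7829 = n9468 := rfl
theorem F30160 : act 3 n9468 = n7832 := d8_2 (iv F24733) D9468 (iv D7832)
theorem F30161 : act 6 n9468 = n9468 := d11_2 F24734 D9468 (iv D9468)
def n9469 : Q := act 7 n7829
theorem D9469 : act 7 n7829 = n9469 := rfl
theorem F30162 : act 0 n9469 = n7860 := d6_1 D9469 (iv D7860) (iv F24731)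
theorem F30163 : act 2 n9469 = n9469 := d17_1 D9469 (iv D9469) F24732
theorem F30164 : act 5 n9469 = n7830 := d26_1 D9469 (iv D7830) D7829
def n9470 : Q := act 3 n7830
theorem D9470 : act 3 n7830 = n9470 := rfl
theorem F30165 : act 0 n9470 = n7861 := d2_1 D9470 (iv D7861) (iv F24735)
theorem F30166 : act 7 n9470 = n7834 := d21_2 D7830 D9470 (iv D7834) (iv D6191) (iv F19378)
theorem F30167 : act 2 n9424 = n9470 := d1_0 F30165 (iv F24837) D9424
def n9471 : Q := act 6 n7830
theorem D9471 : act 6 n7830 = n9471 := rfl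
theorem F30168 : act 0 n9471 = n7862 := d5_1 D9471 (iv D7862) (iv F24735)
theorem F30169 : act 1 n9471 = n8945 := d11_1 D9471 (iv F30098) F30096
theorem F30170 : act 2 n9471 = n9471 := d16_1 D9471 (iv D9471) F24736
theorem F30171 : act 7 n9471 = n7831 := d27_2 D7830 D9471 (iv D7831) (iv D6189) D6188
def n9472 : Q := act 5 n7831
theorem D9472 : act 5 n7831 = n9472 := rfl
theorem F30172 : act 0 n9472 = n7863 := d4_1 D9472 (iv D7863) (iv F24737)
theorem F30173 : act 2 n9472 = n9472 := d15_1 D9472 (iv D9472) F24738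
theorem F30174 : act 3 n9472 = n9229 := d19_1 D9472 (iv D9229) (iv F24739)
theorem F30175 : act 6 n9472 = n9472 := d25_2 D7831 D9472 (iv D9472) (iv D7831) F19382
def n9473 : Q := act 0 n7832
theorem D9473 : act 0 n7832 = n9473 := rfl
theorem F30176 : act 1 n9473 = n7864 := d0_2 D7832 D9473 (iv D7864) (iv D6212) (iv F19383)
theorem F30177 : act 2 n9473 = n9432 := d1_2 (iv F24740) D9473 (iv D9432)
theorem F30178 : act 4 n9473 = n7846 := d3_2 (iv F24741) D9473 (iv D7846)
theorem F30179 : act 6 n9473 = n9473 := d5_2 F24742 D9473 (iv D9473)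
def n9474 : Q := act 7 n7832
theorem D9474 : act 7 n7832 = n9474 := rfl
theorem F30180 : act 1 n9474 = n7833 := d12_1 D9474 (iv D7833) D7832
theorem F30181 : act 2 n9474 = n9007 := d17_1 D9474 F28753 (iv F24740)
theorem F30182 : act 4 n9474 = n7848 := d24_1 D9474 (iv D7848) (iv F24741)
def n9475 : Q := act 3 n7833
theorem D9475 : act 3 n7833 = n9475 := rfl
theorem F30183 : act 0 n9475 = n7866 := d2_1 D9475 (iv D7866) (iv F24743)
theorem F30184 : act 5 n9475 = n7834 := d19_2 (iv F24746) D9475 (iv D7834)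
def n9476 : Q := act 6 n7833
theorem D9476 : act 6 n7833 = n9476 := rfl
theorem F30185 : act 0 n9476 = n7867 := d5_1 D9476 (iv D7867) (iv F24743)
theorem F30186 : act 2 n9476 = n7836 := d16_1 D9476 (iv D7836) (iv F24744)
theorem F30187 : act 4 n9476 = n7850 := d23_1 D9476 (iv D7850) (iv F24745)
theorem F30188 : act 5 n9476 = n8313 := d25_1 D9476 (iv D8313) F20995 (iv F19390) (iv F24746)
theorem F30189 : act 7 n9476 = n9476 := d27_2 D7833 D9476 (iv D9476) (iv D7833) F19386
def n9477 : Q := act 2 n7834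
theorem D9477 : act 2 n7834 = n9477 := rfl
theorem F30190 : act 0 n9477 = n7868 := d1_1 D9477 (iv D7868) (iv F24747)
theorem F30191 : act 3 n9477 = n7837 := d13_2 D7834 D9477 (iv D7837) (iv D6193) (iv F19388)
theorem F30192 : act 6 n9477 = n8717 := d16_2 (iv F24748) D9477 F27820
theorem F30193 : act 7 n9477 = n9424 := d17_2 F30166 D9477 F30167
def n9478 : Q := act 4 n7834
theorem D9478 : act 4 n7834 = n9478 := rfl
theorem F30194 : act 0 n9478 = n7869 := d3_1 D9478 (iv D7869) (iv F24747)
theorem F30195 : act 3 n9478 = n7851 := d18_1 D9478 (iv D7851) (iv D6201) (iv F19389) D7834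
theorem F30196 : act 6 n9478 = n8881 := d23_2 (iv F24748) D9478 (iv D8881)
def n9479 : Q := act 2 n7835
theorem D9479 : act 2 n7835 = n9479 := rfl
theorem F30197 : act 0 n9479 = n7870 := d1_1 D9479 (iv D7870) (iv F24749)
theorem F30198 : act 4 n9479 = n8998 := d14_2 (iv F24751) D9479 (iv D8998)
theorem F30199 : act 5 n9479 = n7837 := d15_2 (iv F24752) D9479 (iv D7837)
theorem F30200 : act 7 n9479 = n9479 := d17_2 F24753 D9479 (iv D9479)
def n9480 : Q := act 6 n7835
theorem D9480 : act 6 n7835 = n9480 := rfl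
theorem F30201 : act 0 n9480 = n7872 := d5_1 D9480 (iv D7872) (iv F24749)
theorem F30202 : act 1 n9480 = n8420 := d11_1 D9480 F26802 (iv F24750)
theorem F30203 : act 3 n9480 = n7836 := d20_1 D9480 (iv D7836) D7835
theorem F30204 : act 4 n9480 = n8421 := d23_1 D9480 F26805 (iv F24751)
theorem F30205 : act 5 n9480 = n8184 := d25_1 D9480 (iv D8184) F20628 (iv F19398) (iv F24752)
theorem F30206 : act 7 n9230 = n9480 := d26_0 F30205 F26014 D9230
def n9481 : Q := act 3 n7838
theorem D9481 : act 3 n7838 = n9481 := rfl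
theorem F30207 : act 0 n9481 = n7879 := d2_1 D9481 (iv D7879) (iv F24763)
theorem F30208 : act 2 n9481 = n9363 := d13_1 D9481 F29863 F24477 F21786 (iv F24764)
theorem F30209 : act 5 n9481 = n9361 := d19_2 (iv F24766) D9481 F29860
def n9482 : Q := act 6 n7838
theorem D9482 : act 6 n7838 = n9482 := rfl
theorem F30210 : act 0 n9482 = n7880 := d5_1 D9482 (iv D7880) (iv F24763)
theorem F30211 : act 1 n9482 = n8910 := d11_1 D9482 (iv F30116) F30113
theorem F30212 : act 2 n9482 = n8004 := d16_1 D9482 (iv D8004) (iv F24764)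
theorem F30213 : act 4 n9482 = n7844 := d23_1 D9482 (iv D7844) (iv F24765)
theorem F30214 : act 7 n9482 = n7840 := d27_2 D7838 D9482 (iv D7840) (iv D6195) D6194
def n9483 : Q := act 2 n7839
theorem D9483 : act 2 n7839 = n9483 := rfl
theorem F30215 : act 0 n9483 = n7881 := d1_1 D9483 (iv D7881) (iv F24767)
theorem F30216 : act 1 n9483 = n9483 := d7_1 D9483 (iv D9483) F24768 F23079 (iv F24768)
theorem F30217 : act 3 n9483 = n8005 := d13_2 D7839 D9483 (iv D8005) (iv D6363) (iv F19405)
theorem F30218 : act 4 n9483 = n9187 := d14_2 F25727 D9483 F29322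
theorem F30219 : act 5 n9483 = n9483 := d15_2 F24769 D9483 (iv D9483)
theorem F30220 : act 6 n9483 = n9185 := d16_2 F29042 D9483 F29316
def n9484 : Q := act 3 n7842
theorem D9484 : act 3 n7842 = n9484 := rfl
theorem F30221 : act 0 n9484 = n7884 := d2_1 D9484 (iv D7884) (iv F24776)
theorem F30222 : act 5 n9484 = n7843 := d19_2 (iv F24779) D9484 (iv D7843)
theorem F30223 : act 7 n9484 = n7849 := d21_2 D7842 D9484 (iv D7849) (iv D6200) (iv F19410)
theorem F30224 : act 2 n9010 = n9484 := d17_3 F30223 F24799 D9010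
def n9485 : Q := act 4 n7843
theorem D9485 : act 4 n7843 = n9485 := rfl
theorem F30225 : act 0 n9485 = n7886 := d3_1 D9485 (iv D7886) (iv F24780)
theorem F30226 : act 2 n9485 = n9020 := d14_1 D9485 F28789 F24782
theorem F30227 : act 7 n9485 = n7851 := d24_2 (iv F24781) D9485 (iv D7851)
def n9486 : Q := act 6 n7843
theorem D9486 : act 6 n7843 = n9486 := rfl
theorem F30228 : act 0 n9486 = n7887 := d5_1 D9486 (iv D7887) (iv F24780)
theorem F30229 : act 1 n9486 = n8914 := d11_1 D9486 (iv F30123) F30122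
theorem F30230 : act 2 n9486 = n9021 := d16_1 D9486 (iv D9021) F24782
theorem F30231 : act 3 n9486 = n7844 := d20_1 D9486 (iv D7844) D7843
theorem F30232 : act 7 n9486 = n9360 := d27_2 (iv F24781) D9486 (iv D9360) (iv D7737) (iv F19423)
def n9487 : Q := act 5 n7844
theorem D9487 : act 5 n7844 = n9487 := rfl
theorem F30233 : act 0 n9487 = n7888 := d4_1 D9487 (iv D7888) (iv F24783)
theorem F30234 : act 2 n9487 = n8012 := d15_1 D9487 (iv D8012) (iv F24785)
theorem F30235 : act 7 n9487 = n7845 := d26_2 (iv F24786) D9487 (iv D7845)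
def n9488 : Q := act 2 n7846
theorem D9488 : act 2 n7846 = n9488 := rfl
theorem F30236 : act 0 n9488 = n7847 := d1_1 D9488 (iv D7847) D7846
theorem F30237 : act 1 n9488 = n9488 := d7_1 D9488 (iv D9488) F24790 F19498 (iv F24790)
theorem F30238 : act 4 n9488 = n9432 := d14_2 F30178 D9488 (iv F30177)
theorem F30239 : act 6 n9488 = n9488 := d16_2 F24791 D9488 (iv D9488)
theorem F30240 : act 7 n9008 = n9488 := d6_0 F30236 (iv F24795) D9008
def n9489 : Q := act 7 n7846
theorem D9489 : act 7 n7846 = n9489 := rfl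
theorem F30241 : act 0 n9489 = n7848 := d6_1 D9489 (iv D7848) D7846
theorem F30242 : act 1 n9489 = n7890 := d12_1 D9489 (iv D7890) (iv F24790)
theorem F30243 : act 2 n9489 = n9008 := d17_1 D9489 F30240 (iv D9488)
def n9490 : Q := act 3 n7847
theorem D9490 : act 3 n7847 = n9490 := rfl
theorem F30244 : act 1 n9490 = n7852 := d8_1 D9490 (iv D7852) (iv F24792)
theorem F30245 : act 6 n9490 = n9490 := d20_2 F24794 D9490 (iv D9490)
def n9491 : Q := act 3 n7848
theorem D9491 : act 3 n7848 = n9491 := rfl
theorem F30246 : act 1 n9491 = n7849 := d8_1 D9491 (iv D7849) (iv F24796)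
def n9492 : Q := act 6 n7848
theorem D9492 : act 6 n7848 = n9492 := rfl
theorem F30247 : act 1 n9492 = n7850 := d11_1 D9492 (iv D7850) (iv F24796)
theorem F30248 : act 2 n9492 = n9000 := d16_1 D9492 F28728 (iv F24797)
theorem F30249 : act 7 n9492 = n9492 := d27_2 D7848 D9492 (iv D9492) (iv D7848) F19417
def n9493 : Q := act 4 n7849
theorem D9493 : act 4 n7849 = n9493 := rfl
theorem F30250 : act 0 n9493 = n7894 := d3_1 D9493 (iv D7894) (iv F24798)
theorem F30251 : act 2 n9493 = n9009 := d14_1 D9493 (iv D9009) (iv F24799)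
theorem F30252 : act 5 n9493 = n7851 := d22_2 (iv F24800) D9493 (iv D7851)
def n9494 : Q := act 6 n7849
theorem D9494 : act 6 n7849 = n9494 := rfl
theorem F30253 : act 0 n9494 = n7895 := d5_1 D9494 (iv D7895) (iv F24798)
theorem F30254 : act 2 n9494 = n9001 := d16_1 D9494 F28732 (iv F24799)
theorem F30255 : act 3 n9494 = n7850 := d20_1 D9494 (iv D7850) D7849
theorem F30256 : act 5 n9494 = n9311 := d25_1 D9494 F29738 F24416 (iv F19423) (iv F24800)
def n9495 : Q := act 4 n7852
theorem D9495 : act 4 n7852 = n9495 := rfl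
theorem F30257 : act 0 n9495 = n9495 := d3_1 D9495 (iv D9495) F24808
theorem F30258 : act 2 n9495 = n8020 := d14_1 D9495 (iv D8020) (iv F24809)
theorem F30259 : act 3 n9495 = n9428 := d18_1 D9495 F30040 F24612 (iv F19425) D7852
theorem F30260 : act 5 n9495 = n7853 := d22_2 (iv F24810) D9495 (iv D7853)
theorem F30261 : act 6 n9495 = n9495 := d23_2 F24811 D9495 (iv D9495)
def n9496 : Q := act 7 n7852
theorem D9496 : act 7 n7852 = n9496 := rfl
theorem F30262 : act 0 n9496 = n9496 := d6_1 D9496 (iv D9496) F24808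
theorem F30263 : act 2 n9496 = n8021 := d17_1 D9496 (iv D8021) (iv F24809)
theorem F30264 : act 3 n9496 = n8990 := d21_1 D9496 (iv D8990) F23451 (iv F19428) D7852
theorem F30265 : act 5 n9496 = n7854 := d26_1 D9496 (iv D7854) (iv F24810)
def n9497 : Q := act 7 n7853
theorem D9497 : act 7 n7853 = n9497 := rfl
theorem F30266 : act 0 n9497 = n9497 := d6_1 D9497 (iv D9497) F24812
theorem F30267 : act 2 n9497 = n8031 := d17_1 D9497 (iv D8031) (iv F24813)
theorem F30268 : act 4 n9497 = n7854 := d24_1 D9497 (iv D7854) D7853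
def n9498 : Q := act 6 n7854
theorem D9498 : act 6 n7854 = n9498 := rfl
theorem F30269 : act 0 n9498 = n9498 := d5_1 D9498 (iv D9498) F24816
theorem F30270 : act 1 n9498 = n8941 := d11_1 D9498 F30145 F30143
theorem F30271 : act 2 n9498 = n8033 := d16_1 D9498 (iv D8033) (iv F24817)
theorem F30272 : act 3 n9498 = n8498 := d20_1 D9498 F27073 (iv F24818)
theorem F30273 : act 7 n9498 = n7856 := d27_2 D7854 D9498 (iv D7856) (iv D6206) (iv F19436)
def n9499 : Q := act 6 n7855
theorem D9499 : act 6 n7855 = n9499 := rfl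
theorem F30274 : act 0 n9499 = n9499 := d5_1 D9499 (iv D9499) F24819
theorem F30275 : act 2 n9499 = n8041 := d16_1 D9499 (iv D8041) (iv F24820)
theorem F30276 : act 3 n9499 = n9499 := d20_1 D9499 (iv D9499) F24821
theorem F30277 : act 4 n9499 = n7856 := d23_1 D9499 (iv D7856) (iv F24822)
def n9500 : Q := act 5 n7856
theorem D9500 : act 5 n7856 = n9500 := rfl
theorem F30278 : act 0 n9500 = n9500 := d4_1 D9500 (iv D9500) F24824
theorem F30279 : act 2 n9500 = n8044 := d15_1 D9500 (iv D8044) (iv F24825)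
theorem F30280 : act 3 n9500 = n8505 := d19_1 D9500 F27095 (iv F24826)
theorem F30281 : act 6 n9500 = n9500 := d25_2 D7856 D9500 (iv D9500) (iv D7856) F19444
def n9501 : Q := act 3 n7857
theorem D9501 : act 3 n7857 = n9501 := rfl
theorem F30282 : act 7 n9501 = n7879 := d21_2 D7857 D9501 (iv D7879) (iv D6222) (iv F19446)
def n9502 : Q := act 6 n7857
theorem D9502 : act 6 n7857 = n9502 := rfl
theorem F30283 : act 2 n9502 = n9502 := d16_1 D9502 (iv D9502) F24827
theorem F30284 : act 4 n9502 = n7862 := d23_1 D9502 (iv D7862) (iv F24828)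
theorem F30285 : act 7 n9502 = n7859 := d27_2 D7857 D9502 (iv D7859) (iv D6208) D6207
def n9503 : Q := act 2 n7858
theorem D9503 : act 2 n7858 = n9503 := rfl
theorem F30286 : act 1 n9503 = n8082 := d7_1 D9503 F25628 F24025 (iv F25711) F25710
theorem F30287 : act 3 n9503 = n9503 := d13_2 D7858 D9503 (iv D9503) (iv D7858) F19448
theorem F30288 : act 4 n9503 = n8079 := d14_2 F25734 D9503 (iv F25732)
theorem F30289 : act 5 n9503 = n9503 := d15_2 F24829 D9503 (iv D9503)
theorem F30290 : act 7 n9503 = n7881 := d17_2 (iv F24830) D9503 (iv D7881)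
def n9504 : Q := act 6 n7858
theorem D9504 : act 6 n7858 = n9504 := rfl
theorem F30291 : act 3 n9504 = n7859 := d20_1 D9504 (iv D7859) D7858
def n9505 : Q := act 5 n7859
theorem D9505 : act 5 n7859 = n9505 := rfl
theorem F30292 : act 2 n9505 = n9505 := d15_1 D9505 (iv D9505) F24831
theorem F30293 : act 4 n9505 = n7863 := d22_1 D9505 (iv D7863) (iv F24832)
theorem F30294 : act 6 n9505 = n9505 := d25_2 D7859 D9505 (iv D9505) (iv D7859) F19450
def n9506 : Q := act 3 n7860
theorem D9506 : act 3 n7860 = n9506 := rfl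
theorem F30295 : act 5 n9506 = n7861 := d19_2 (iv F24834) D9506 (iv D7861)
theorem F30296 : act 7 n9506 = n7866 := d21_2 D7860 D9506 (iv D7866) (iv D6213) (iv F19452)
theorem F30297 : act 2 n9426 = n9506 := d15_3 F30295 (iv F24837) D9426
def n9507 : Q := act 6 n7860
theorem D9507 : act 6 n7860 = n9507 := rfl
theorem F30298 : act 2 n9507 = n9507 := d16_1 D9507 (iv D9507) F24833
theorem F30299 : act 7 n9507 = n9507 := d27_2 D7860 D9507 (iv D9507) (iv D7860) F19453
def n9508 : Q := act 4 n7861
theorem D9508 : act 4 n7861 = n9508 := rfl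
theorem F30300 : act 1 n9508 = n9043 := d9_1 D9508 (iv D9043) (iv F24835)
theorem F30301 : act 2 n9508 = n9425 := d14_1 D9508 (iv D9425) F24837
theorem F30302 : act 7 n9508 = n7869 := d24_2 (iv F24836) D9508 (iv D7869)
def n9509 : Q := act 6 n7861
theorem D9509 : act 6 n7861 = n9509 := rfl
theorem F30303 : act 1 n9509 = n8870 := d11_1 D9509 F28297 (iv F24835)
theorem F30304 : act 2 n9509 = n9227 := d16_1 D9509 F29458 F24837
theorem F30305 : act 3 n9509 = n7862 := d20_1 D9509 (iv D7862) D7861
def n9510 : Q := act 5 n7862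
theorem D9510 : act 5 n7862 = n9510 := rfl
theorem F30306 : act 2 n9510 = n9510 := d15_1 D9510 (iv D9510) F24838
theorem F30307 : act 7 n9510 = n7863 := d26_2 (iv F24839) D9510 (iv D7863)
def n9511 : Q := act 1 n7863
theorem D9511 : act 1 n7863 = n9511 := rfl
theorem F30308 : act 6 n9511 = n9511 := d11_2 F24841 D9511 (iv D9511)
def n9512 : Q := act 7 n7864
theorem D9512 : act 7 n7864 = n9512 := rfl
theorem F30309 : act 0 n9512 = n7865 := d6_1 D9512 (iv D7865) D7864
theorem F30310 : act 2 n9512 = n9512 := d17_1 D9512 (iv D9512) F24842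
theorem F30311 : act 4 n9512 = n7890 := d24_1 D9512 (iv D7890) (iv F24843)
def n9513 : Q := act 3 n7865
theorem D9513 : act 3 n7865 = n9513 := rfl
theorem F30312 : act 1 n9513 = n7866 := d8_1 D9513 (iv D7866) (iv F24845)
def n9514 : Q := act 6 n7865
theorem D9514 : act 6 n7865 = n9514 := rfl
theorem F30313 : act 1 n9514 = n7867 := d11_1 D9514 (iv D7867) (iv F24845)
theorem F30314 : act 2 n9514 = n9514 := d16_1 D9514 (iv D9514) F24846
theorem F30315 : act 4 n9514 = n7892 := d23_1 D9514 (iv D7892) (iv F24847)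
theorem F30316 : act 7 n9514 = n9514 := d27_2 D7865 D9514 (iv D9514) (iv D7865) F19458
def n9515 : Q := act 2 n7866
theorem D9515 : act 2 n7866 = n9515 := rfl
theorem F30317 : act 3 n9515 = n7870 := d13_2 D7866 D9515 (iv D7870) (iv D6215) (iv F19459)
theorem F30318 : act 5 n9515 = n7868 := d15_2 (iv F24848) D9515 (iv D7868)
theorem F30319 : act 7 n9515 = n9426 := d17_2 F30296 D9515 F30297
def n9516 : Q := act 4 n7866
theorem D9516 : act 4 n7866 = n9516 := rfl
theorem F30320 : act 3 n9516 = n7894 := d18_1 D9516 (iv D7894) (iv D6232) (iv F19460) D7866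
theorem F30321 : act 5 n9516 = n7869 := d22_2 (iv F24848) D9516 (iv D7869)
def n9517 : Q := act 6 n7866
theorem D9517 : act 6 n7866 = n9517 := rfl
theorem F30322 : act 3 n9517 = n7867 := d20_1 D9517 (iv D7867) D7866
def n9518 : Q := act 4 n7868
theorem D9518 : act 4 n7868 = n9518 := rfl
theorem F30323 : act 1 n9518 = n9375 := d9_1 D9518 (iv D9375) (iv F24852)
theorem F30324 : act 2 n9518 = n7869 := d14_1 D9518 (iv D7869) D7868
theorem F30325 : act 7 n9518 = n9425 := d24_2 (iv F24854) D9518 (iv D9425)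
def n9519 : Q := act 1 n7870
theorem D9519 : act 1 n7870 = n9519 := rfl
theorem F30326 : act 2 n9519 = n9519 := d7_2 D7870 D9519 (iv D9519) (iv D7870) F19462
theorem F30327 : act 7 n9519 = n9519 := d12_2 F24857 D9519 (iv D9519)
def n9520 : Q := act 4 n7870
theorem D9520 : act 4 n7870 = n9520 := rfl
theorem F30328 : act 0 n9520 = n8998 := d3_1 D9520 (iv F30198) F30197
theorem F30329 : act 2 n9520 = n7871 := d14_1 D9520 (iv D7871) D7870
theorem F30330 : act 5 n9520 = n7874 := d22_2 (iv F24856) D9520 (iv D7874)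
theorem F30331 : act 7 n9520 = n9520 := d24_2 F24857 D9520 (iv D9520)
def n9521 : Q := act 6 n7870
theorem D9521 : act 6 n7870 = n9521 := rfl
theorem F30332 : act 2 n9521 = n7872 := d16_1 D9521 (iv D7872) D7870
theorem F30333 : act 5 n9521 = n8880 := d25_1 D9521 (iv D8880) F22977 (iv F22315) (iv F24856)
theorem F30334 : act 7 n9229 = n9521 := d26_0 F30333 F28328 D9229
def n9522 : Q := act 0 n7873
theorem D9522 : act 0 n7873 = n9522 := rfl
theorem F30335 : act 2 n9522 = n7875 := d1_2 (iv F24867) D9522 (iv D7875)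
theorem F30336 : act 3 n9522 = n9373 := d2_2 (iv F24868) D9522 F29884
theorem F30337 : act 7 n9522 = n9522 := d6_2 F24869 D9522 (iv D9522)
theorem F30338 : act 5 n9492 = n9522 := d15_0 F30335 (iv F28727) (iv F30248)
def n9523 : Q := act 4 n7873
theorem D9523 : act 4 n7873 = n9523 := rfl
theorem F30339 : act 1 n9523 = n7874 := d9_1 D9523 (iv D7874) D7873
theorem F30340 : act 2 n9523 = n7876 := d14_1 D9523 (iv D7876) (iv F24867)
theorem F30341 : act 6 n9523 = n9336 := d23_2 (iv F27579) D9523 F29802
theorem F30342 : act 7 n9523 = n9523 := d24_2 F24869 D9523 (iv D9523)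
def n9524 : Q := act 5 n7873
theorem D9524 : act 5 n7873 = n9524 := rfl
theorem F30343 : act 0 n9524 = n9492 := d4_1 D9524 F30338 (iv D9522)
theorem F30344 : act 2 n9524 = n7877 := d15_1 D9524 (iv D7877) (iv F24867)
theorem F30345 : act 3 n9524 = n9038 := d19_1 D9524 F28838 (iv F24868)
theorem F30346 : act 7 n9524 = n9524 := d26_2 F24869 D9524 (iv D9524)
theorem F30347 : act 6 n9489 = n9524 := d30_0 (iv D9524) (iv D7873) (iv D6217) (iv D4698) (iv D3395) (iv D2363) F5052 (iv D1616) (iv F4686) (iv F6794) D3173 (iv F9790) D4306 F16606 (iv D5322) (iv D3921) (iv D2756) D2755 F8488 F6493 (iv F6149) F6150 D2887 D4078 (iv F14984) (iv F20017) (iv F25413) (iv F25416) D9489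
def n9525 : Q := act 3 n7874
theorem D9525 : act 3 n7874 = n9525 := rfl
theorem F30348 : act 0 n9525 = n9013 := d2_1 D9525 (iv D9013) (iv F24870)
theorem F30349 : act 2 n9525 = n7903 := d13_1 D9525 (iv D7903) F19523 (iv F19471) (iv F24871)
theorem F30350 : act 6 n9525 = n9337 := d20_2 (iv F24872) D9525 (iv D9337)
def n9526 : Q := act 4 n7875
theorem D9526 : act 4 n7875 = n9526 := rfl
theorem F30351 : act 0 n9526 = n7876 := d3_1 D9526 (iv D7876) D7875
theorem F30352 : act 1 n9526 = n7904 := d9_1 D9526 (iv D7904) (iv F24874)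
theorem F30353 : act 6 n9526 = n9433 := d23_2 (iv F27576) D9526 F30056
theorem F30354 : act 7 n9526 = n9526 := d24_2 F24876 D9526 (iv D9526)
def n9527 : Q := act 3 n7876
theorem D9527 : act 3 n7876 = n9527 := rfl
theorem F30355 : act 1 n9527 = n7878 := d8_1 D9527 (iv D7878) (iv F24877)
theorem F30356 : act 4 n9527 = n8520 := d18_2 D7876 D9527 (iv D8520) F21864 (iv F19474)
theorem F30357 : act 6 n9527 = n9435 := d20_2 (iv F24878) D9527 (iv D9435)
theorem F30358 : act 5 n8522 = n9527 := d22_0 F30356 F27133 D8522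
def n9528 : Q := act 5 n7876
theorem D9528 : act 5 n7876 = n9528 := rfl
theorem F30359 : act 1 n9528 = n9528 := d10_1 D9528 (iv D9528) F24877 F19478 (iv F24877)
theorem F30360 : act 3 n9528 = n8522 := d19_1 D9528 F30358 (iv D9527)
theorem F30361 : act 4 n9528 = n7877 := d22_1 D9528 (iv D7877) D7876
theorem F30362 : act 7 n9528 = n9528 := d26_2 F24879 D9528 (iv D9528)
def n9529 : Q := act 2 n7879
theorem D9529 : act 2 n7879 = n9529 := rfl
theorem F30363 : act 0 n9529 = n9363 := d1_1 D9529 (iv F30208) F30207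
theorem F30364 : act 3 n9529 = n8047 := d13_2 D7879 D9529 (iv D8047) (iv D6400) (iv F19484)
theorem F30365 : act 5 n9529 = n9108 := d15_2 (iv F24925) D9529 F29056
def n9530 : Q := act 4 n7879
theorem D9530 : act 4 n7879 = n9530 := rfl
theorem F30366 : act 3 n9530 = n7886 := d18_1 D9530 (iv D7886) (iv D6227) (iv F19485) D7879
def n9531 : Q := act 6 n7879
theorem D9531 : act 6 n7879 = n9531 := rfl
theorem F30367 : act 3 n9531 = n7880 := d20_1 D9531 (iv D7880) D7879
def n9532 : Q := act 5 n7882
theorem D9532 : act 5 n7882 = n9532 := rfl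
theorem F30368 : act 0 n9532 = n7889 := d4_1 D9532 (iv F29041) F29038
theorem F30369 : act 2 n9532 = n9188 := d15_1 D9532 (iv D9188) (iv F24896)
theorem F30370 : act 3 n9532 = n7883 := d19_1 D9532 (iv D7883) (iv F24897)
theorem F30371 : act 4 n9532 = n8815 := d22_1 D9532 (iv D8815) (iv F24898)
theorem F30372 : act 6 n9532 = n9532 := d25_2 D7882 D9532 (iv D9532) (iv D7882) F19486
def n9533 : Q := act 7 n7882
theorem D9533 : act 7 n7882 = n9533 := rfl
theorem F30373 : act 1 n9533 = n8790 := d12_1 D9533 F28057 (iv F24895)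
theorem F30374 : act 2 n9533 = n9162 := d17_1 D9533 F29233 (iv F24896)
theorem F30375 : act 4 n9533 = n8789 := d24_1 D9533 F28053 (iv F24898)
def n9534 : Q := act 1 n7883
theorem D9534 : act 1 n7883 = n9534 := rfl
theorem F30376 : act 0 n9534 = n8815 := d0_1 D9534 (iv F29496) F29495 D9260 F29560
theorem F30377 : act 4 n9534 = n7889 := d9_2 (iv F24900) D9534 (iv D7889)
theorem F30378 : act 5 n9534 = n8814 := d10_2 D7883 D9534 F28124 F26095 F23755
theorem F30379 : act 6 n9534 = n9534 := d11_2 F24901 D9534 (iv D9534)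
theorem F30380 : act 2 n9186 = n9534 := d15_3 F30378 F28125 D9186
def n9535 : Q := act 2 n7884
theorem D9535 : act 2 n7884 = n9535 := rfl
theorem F30381 : act 0 n9535 = n9010 := d1_1 D9535 F30224 F30221
theorem F30382 : act 3 n9535 = n8054 := d13_2 D7884 D9535 (iv D8054) (iv D6408) (iv F19491)
theorem F30383 : act 5 n9535 = n7885 := d15_2 (iv F24902) D9535 (iv D7885)
theorem F30384 : act 7 n9535 = n7893 := d17_2 (iv F24903) D9535 (iv D7893)
def n9536 : Q := act 4 n7884
theorem D9536 : act 4 n7884 = n9536 := rfl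
theorem F30385 : act 5 n9536 = n7886 := d22_2 (iv F24902) D9536 (iv D7886)
theorem F30386 : act 7 n9536 = n7894 := d24_2 (iv F24903) D9536 (iv D7894)
def n9537 : Q := act 1 n7885
theorem D9537 : act 1 n7885 = n9537 := rfl
theorem F30387 : act 3 n9537 = n8056 := d8_2 (iv F24905) D9537 (iv D8056)
theorem F30388 : act 7 n9537 = n7896 := d12_2 (iv F24906) D9537 (iv D7896)
theorem F30389 : act 5 n9501 = n9537 := d26_3 F30388 (iv F24925) (iv F30282)
def n9538 : Q := act 4 n7885
theorem D9538 : act 4 n7885 = n9538 := rfl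
theorem F30390 : act 0 n9538 = n9020 := d3_1 D9538 F28789 (iv F24904)
theorem F30391 : act 2 n9538 = n7886 := d14_1 D9538 (iv D7886) D7885
theorem F30392 : act 7 n9538 = n7897 := d24_2 (iv F24906) D9538 (iv D7897)
def n9539 : Q := act 6 n7885
theorem D9539 : act 6 n7885 = n9539 := rfl
theorem F30393 : act 0 n9539 = n9021 := d5_1 D9539 (iv D9021) (iv F24904)
theorem F30394 : act 2 n9539 = n7887 := d16_1 D9539 (iv D7887) D7885
theorem F30395 : act 3 n9539 = n8058 := d20_1 D9539 (iv D8058) (iv F24905)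
theorem F30396 : act 7 n9539 = n9367 := d27_2 (iv F24906) D9539 (iv D9367) (iv D7741) (iv F19507)
def n9540 : Q := act 6 n7886
theorem D9540 : act 6 n7886 = n9540 := rfl
theorem F30397 : act 4 n9540 = n7887 := d23_1 D9540 (iv D7887) D7886
def n9541 : Q := act 5 n7887
theorem D9541 : act 5 n7887 = n9541 := rfl
theorem F30398 : act 3 n9541 = n7888 := d19_1 D9541 (iv D7888) (iv F24908)
def n9542 : Q := act 1 n7888
theorem D9542 : act 1 n7888 = n9542 := rfl
theorem F30399 : act 7 n9542 = n7889 := d12_2 (iv F24910) D9542 (iv D7889)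
def n9543 : Q := act 2 n7889
theorem D9543 : act 2 n7889 = n9543 := rfl
theorem F30400 : act 0 n9543 = n9188 := d1_1 D9543 (iv F30369) F30368
theorem F30401 : act 1 n9543 = n8061 := d7_1 D9543 (iv D8061) (iv D6414) (iv F19496) D7889
theorem F30402 : act 4 n9543 = n9186 := d14_2 F30377 D9543 F30380
theorem F30403 : act 5 n9543 = n9185 := d15_2 F29041 D9543 F29316
theorem F30404 : act 6 n9543 = n9543 := d16_2 F24911 D9543 (iv D9543)
def n9544 : Q := act 6 n7890
theorem D9544 : act 6 n7890 = n9544 := rfl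
theorem F30405 : act 0 n9544 = n7892 := d5_1 D9544 (iv D7892) (iv F24912)
theorem F30406 : act 1 n9544 = n9524 := d11_1 D9544 (iv F30347) F30242
theorem F30407 : act 2 n9544 = n9544 := d16_1 D9544 (iv D9544) F24913
theorem F30408 : act 7 n9544 = n9544 := d27_2 D7890 D9544 (iv D9544) (iv D7890) F19499
theorem F30409 : act 5 n9544 = n9519 := d30_1 D9544 (iv D9519) (iv D7870) (iv D6215) (iv D4697) F10450 (iv D3394) F7305 (iv F6801) (iv F9782) D4421 F13669 (iv F16604) (iv D5330) (iv D3926) (iv D2759) (iv D1876) D1875 F5833 F4710 F3224 (iv F4486) D2106 D3068 (iv F10809) (iv F14970) (iv F20002) F21811 D7890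
def n9545 : Q := act 2 n7891
theorem D9545 : act 2 n7891 = n9545 := rfl
theorem F30410 : act 3 n9545 = n9545 := d13_2 D7891 D9545 (iv D9545) (iv D7891) F19501
theorem F30411 : act 7 n9545 = n9525 := d17_2 F24955 D9545 F30349
def n9546 : Q := act 4 n7891
theorem D9546 : act 4 n7891 = n9546 := rfl
theorem F30412 : act 1 n9546 = n7894 := d9_1 D9546 (iv D7894) (iv F24914)
def n9547 : Q := act 6 n7891
theorem D9547 : act 6 n7891 = n9547 := rfl
theorem F30413 : act 1 n9547 = n7895 := d11_1 D9547 (iv D7895) (iv F24914)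
theorem F30414 : act 3 n9547 = n7892 := d20_1 D9547 (iv D7892) D7891
def n9548 : Q := act 5 n7892
theorem D9548 : act 5 n7892 = n9548 := rfl
theorem F30415 : act 0 n9548 = n9519 := d4_1 D9548 (iv F30409) F30405
theorem F30416 : act 2 n9548 = n9548 := d15_1 D9548 (iv D9548) F24916
theorem F30417 : act 7 n9548 = n9548 := d26_2 F24917 D9548 (iv D9548)
def n9549 : Q := act 1 n7893
theorem D9549 : act 1 n7893 = n9549 := rfl
theorem F30418 : act 3 n9549 = n7898 := d8_2 (iv F24919) D9549 (iv D7898)
theorem F30419 : act 5 n9549 = n9093 := d10_2 (iv F24920) D9549 F29021 F24925 (iv D7896)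
def n9550 : Q := act 4 n7893
theorem D9550 : act 4 n7893 = n9550 := rfl
theorem F30420 : act 0 n9550 = n9009 := d3_1 D9550 (iv D9009) (iv F24918)
theorem F30421 : act 2 n9550 = n7894 := d14_1 D9550 (iv D7894) D7893
theorem F30422 : act 5 n9550 = n7897 := d22_2 (iv F24920) D9550 (iv D7897)
def n9551 : Q := act 6 n7893
theorem D9551 : act 6 n7893 = n9551 := rfl
theorem F30423 : act 0 n9551 = n9001 := d5_1 D9551 F28732 (iv F24918)
theorem F30424 : act 2 n9551 = n7895 := d16_1 D9551 (iv D7895) D7893
theorem F30425 : act 3 n9551 = n7900 := d20_1 D9551 (iv D7900) (iv F24919)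
theorem F30426 : act 5 n9551 = n9313 := d25_1 D9551 F29743 F24421 (iv F19507) (iv F24920)
def n9552 : Q := act 6 n7894
theorem D9552 : act 6 n7894 = n9552 := rfl
theorem F30427 : act 4 n9552 = n7895 := d23_1 D9552 (iv D7895) D7894
def n9553 : Q := act 7 n7895
theorem D9553 : act 7 n7895 = n9553 := rfl
theorem F30428 : act 3 n9553 = n9553 := d21_1 D9553 (iv D9553) F24922 F19504 (iv F24922)
def n9554 : Q := act 4 n7896
theorem D9554 : act 4 n7896 = n9554 := rfl
theorem F30429 : act 1 n9554 = n7897 := d9_1 D9554 (iv D7897) D7896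
theorem F30430 : act 3 n9554 = n9536 := d18_1 D9554 (iv D9536) (iv D7884) F21799 (iv F24923)
theorem F30431 : act 5 n9554 = n9530 := d22_2 F24925 D9554 (iv D9530)
theorem F30432 : act 6 n9554 = n9362 := d23_2 (iv F24924) D9554 (iv D9362)
def n9555 : Q := act 3 n7897
theorem D9555 : act 3 n7897 = n9555 := rfl
theorem F30433 : act 0 n9555 = n9014 := d2_1 D9555 F28771 (iv F24926)
theorem F30434 : act 1 n9555 = n9536 := d8_1 D9555 (iv F30430) F30429
theorem F30435 : act 4 n9555 = n7903 := d18_2 D7897 D9555 (iv D7903) (iv D6240) (iv F19506)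
theorem F30436 : act 6 n9555 = n9342 := d20_2 (iv F24928) D9555 F29817
theorem F30437 : act 7 n9546 = n9555 := d24_0 F30435 F24955 D9546
def n9556 : Q := act 0 n7898
theorem D9556 : act 0 n7898 = n9556 := rfl
theorem F30438 : act 1 n9556 = n8995 := d0_2 D7898 D9556 F28718 F23471 (iv F19508)
theorem F30439 : act 2 n9556 = n9556 := d1_2 F24929 D9556 (iv D9556)
theorem F30440 : act 4 n9556 = n9065 := d3_2 F24932 D9556 F28919
theorem F30441 : act 5 n9556 = n9063 := d4_2 (iv F24930) D9556 F28915
theorem F30442 : act 7 n9556 = n8071 := d6_2 (iv F24931) D9556 (iv D8071)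
def n9557 : Q := act 6 n7898
theorem D9557 : act 6 n7898 = n9557 := rfl
theorem F30443 : act 1 n9557 = n7900 := d11_1 D9557 (iv D7900) D7898
theorem F30444 : act 2 n9557 = n9557 := d16_1 D9557 (iv D9557) F24929
theorem F30445 : act 4 n9557 = n9096 := d23_1 D9557 (iv D9096) F24932
theorem F30446 : act 7 n9557 = n8470 := d27_2 (iv F24931) D9557 F26968 F25587 (iv D8072)
theorem F30447 : act 5 n8471 = n9557 := d26_3 F30446 (iv D8470) D8471
def n9558 : Q := act 3 n7899
theorem D9558 : act 3 n7899 = n9558 := rfl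
theorem F30448 : act 0 n9558 = n8999 := d2_1 D9558 (iv D8999) (iv F24933)
theorem F30449 : act 1 n9558 = n9095 := d8_1 D9558 (iv D9095) (iv F24934)
theorem F30450 : act 5 n9558 = n7903 := d19_2 (iv F24936) D9558 (iv D7903)
theorem F30451 : act 7 n9558 = n9103 := d21_2 (iv F24937) D9558 (iv D9103) (iv D7506) F21809
def n9559 : Q := act 6 n7899
theorem D9559 : act 6 n7899 = n9559 := rfl
theorem F30452 : act 0 n9559 = n8423 := d5_1 D9559 F26815 (iv F24933)
theorem F30453 : act 1 n9559 = n9096 := d11_1 D9559 (iv D9096) (iv F24934)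
theorem F30454 : act 2 n9559 = n7901 := d16_1 D9559 (iv D7901) (iv F24935)
theorem F30455 : act 4 n9559 = n7900 := d23_1 D9559 (iv D7900) D7899
theorem F30456 : act 5 n9559 = n8429 := d25_1 D9559 F26830 F24385 (iv F19524) (iv F24936)
theorem F30457 : act 7 n8508 = n9559 := d26_0 F30456 F26831 (iv F27105)
def n9560 : Q := act 7 n7900
theorem D9560 : act 7 n7900 = n9560 := rfl
theorem F30458 : act 0 n9560 = n8502 := d6_1 D9560 F27084 (iv F24938)
theorem F30459 : act 1 n9560 = n8470 := d12_1 D9560 (iv F30446) F30443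
theorem F30460 : act 2 n9560 = n7902 := d17_1 D9560 (iv D7902) (iv F24939)
theorem F30461 : act 4 n9560 = n8508 := d24_1 D9560 F30457 F30455
theorem F30462 : act 5 n9560 = n8510 := d26_1 D9560 F27110 (iv F24940)
theorem F30463 : act 6 n9560 = n8074 := d27_1 D9560 (iv D8074) (iv D6425) (iv F19510) D7900
theorem F30464 : act 3 n8472 = n9560 := d20_3 F30463 (iv F25596) (iv F26971)
def n9561 : Q := act 3 n7904
theorem D9561 : act 3 n7904 = n9561 := rfl
theorem F30465 : act 0 n9561 = n7905 := d2_1 D9561 (iv D7905) (iv F24956)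
theorem F30466 : act 2 n9561 = n8721 := d13_1 D9561 F27837 F22566 (iv F22617) (iv F24957)
theorem F30467 : act 5 n9561 = n8719 := d19_2 (iv F24958) D9561 F27828
theorem F30468 : act 6 n9561 = n9434 := d20_2 (iv F24959) D9561 (iv D9434)
theorem F30469 : act 7 n8745 = n9561 := d27_0 F30468 F30061 F27951 F23373 (iv F27947)
def n9562 : Q := act 7 n7906
theorem D9562 : act 7 n7906 = n9562 := rfl
theorem F30470 : act 0 n9562 = n7907 := d6_1 D9562 (iv D7907) (iv F24966)
theorem F30471 : act 1 n9562 = n8352 := d12_1 D9562 F26568 F25785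
theorem F30472 : act 2 n9562 = n7908 := d17_1 D9562 (iv D7908) (iv F24967)
theorem F30473 : act 6 n9562 = n8332 := d27_1 D9562 F26479 F22858 F20348 D7906
def n9563 : Q := act 3 n7907
theorem D9563 : act 3 n7907 = n9563 := rfl
def n9564 : Q := act 3 n7908
theorem D9564 : act 3 n7908 = n9564 := rfl
theorem F30474 : act 0 n9564 = n7909 := d2_1 D9564 (iv D7909) (iv F24969)
theorem F30475 : act 1 n9564 = n8320 := d8_1 D9564 F26433 (iv F24970)
theorem F30476 : act 5 n9564 = n8997 := d19_2 F28506 D9564 F28720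
theorem F30477 : act 6 n9564 = n8321 := d20_2 (iv F24971) D9564 F26436
theorem F30478 : act 7 n9564 = n9564 := d21_2 D7908 D9564 (iv D9564) (iv D7908) F19549
def n9565 : Q := act 2 n7909
theorem D9565 : act 2 n7909 = n9565 := rfl
theorem F30479 : act 1 n9565 = n9247 := d7_1 D9565 F29529 F24203 (iv F26510) F26509
theorem F30480 : act 6 n9565 = n9245 := d16_2 (iv F26507) D9565 F29522
theorem F30481 : act 7 n9565 = n9565 := d17_2 F24972 D9565 (iv D9565)
theorem F30482 : act 4 n9264 = n9565 := d23_3 F30480 F29523 D9264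
def n9566 : Q := act 4 n7909
theorem D9566 : act 4 n7909 = n9566 := rfl
theorem F30483 : act 1 n9566 = n7925 := d9_1 D9566 (iv F26512) F26509
theorem F30484 : act 2 n9566 = n9264 := d14_1 D9566 F30482 (iv D9565)
theorem F30485 : act 6 n9566 = n7932 := d23_2 (iv F26507) D9566 (iv F26506)
theorem F30486 : act 7 n9566 = n9566 := d24_2 F24972 D9566 (iv D9566)
def n9567 : Q := act 0 n7912
theorem D9567 : act 0 n7912 = n9567 := rfl
theorem F30487 : act 1 n9567 = n7913 := d0_2 D7912 D9567 (iv D7913) (iv D6259) (iv F19577)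
theorem F30488 : act 3 n9567 = n9261 := d2_2 (iv F24983) D9567 F29562
theorem F30489 : act 4 n9567 = n8145 := d3_2 (iv F24984) D9567 F25872
theorem F30490 : act 6 n9567 = n9567 := d5_2 F24985 D9567 (iv D9567)
theorem F30491 : act 7 n9567 = n8378 := d6_2 F25812 D9567 F26649
theorem F30492 : act 2 n9170 = n9567 := d13_5 F30488 (iv D9261) (iv F29567) (iv D9172) (iv F29263)
def n9568 : Q := act 2 n7912
theorem D9568 : act 2 n7912 = n9568 := rfl
theorem F30493 : act 0 n9568 = n9170 := d1_1 D9568 F30492 (iv D9567)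
theorem F30494 : act 1 n9568 = n9568 := d7_1 D9568 (iv D9568) (iv D7912) F19578 D7912
theorem F30495 : act 3 n9568 = n9114 := d13_2 (iv F24983) D9568 F29568 F24214 D7649
theorem F30496 : act 4 n9568 = n8389 := d14_2 (iv F24984) D9568 (iv D8389)
theorem F30497 : act 6 n9568 = n9568 := d16_2 F24985 D9568 (iv D9568)
theorem F30498 : act 7 n9568 = n8584 := d17_2 F25812 D9568 F27378
def n9569 : Q := act 1 n7915
theorem D9569 : act 1 n7915 = n9569 := rfl
theorem F30499 : act 0 n9569 = n7927 := d0_1 D9569 (iv D7927) F19644 (iv F19591) (iv F24994)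
theorem F30500 : act 5 n9569 = n9164 := d10_2 F25096 D9569 F29236 D9167 F29253
theorem F30501 : act 6 n9569 = n7919 := d11_2 (iv F24995) D9569 (iv D7919)
def n9570 : Q := act 3 n7916
theorem D9570 : act 3 n7916 = n9570 := rfl
theorem F30502 : act 0 n9570 = n7918 := d2_1 D9570 (iv D7918) (iv F24996)
theorem F30503 : act 1 n9570 = n8943 := d8_1 D9570 (iv D8943) F24999
theorem F30504 : act 2 n9570 = n7920 := d13_1 D9570 (iv D7920) (iv D6266) (iv F19593) D7916
theorem F30505 : act 5 n9570 = n9570 := d19_2 F24998 D9570 (iv D9570)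
theorem F30506 : act 7 n9570 = n7963 := d21_2 F25000 D9570 F25158 F19755 (iv F19780)
def n9571 : Q := act 3 n7919
theorem D9571 : act 3 n7919 = n9571 := rfl
theorem F30507 : act 0 n9571 = n7935 := d2_1 D9571 (iv D7935) (iv F25010)
theorem F30508 : act 1 n9571 = n7920 := d8_1 D9571 (iv D7920) D7919
def n9572 : Q := act 5 n7919
theorem D9572 : act 5 n7919 = n9572 := rfl
theorem F30509 : act 0 n9572 = n7936 := d4_1 D9572 (iv D7936) (iv F25010)
theorem F30510 : act 1 n9572 = n9572 := d10_1 D9572 (iv D9572) (iv D7919) F19604 D7919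
theorem F30511 : act 6 n9572 = n9163 := d25_2 F30501 D9572 (iv D9163) D9164 (iv F30500)
theorem F30512 : act 7 n9572 = n9572 := d26_2 F25011 D9572 (iv D9572)
def n9573 : Q := act 7 n7920
theorem D9573 : act 7 n7920 = n9573 := rfl
theorem F30513 : act 0 n9573 = n7921 := d6_1 D9573 (iv D7921) (iv F25012)
theorem F30514 : act 2 n9573 = n7963 := d17_1 D9573 (iv F30506) F30504
theorem F30515 : act 3 n9573 = n9573 := d21_1 D9573 (iv D9573) (iv D7920) F19605 D7920
theorem F30516 : act 5 n9573 = n9573 := d26_1 D9573 (iv D9573) F25013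
theorem F30517 : act 6 n7961 = n9573 := d16_0 F30514 (iv D7963) D7961
def n9574 : Q := act 3 n7923
theorem D9574 : act 3 n7923 = n9574 := rfl
theorem F30518 : act 0 n9574 = n8445 := d2_1 D9574 (iv F26985) F26984
theorem F30519 : act 1 n9574 = n7924 := d8_1 D9574 (iv D7924) D7923
theorem F30520 : act 6 n9574 = n8478 := d20_2 F26872 D9574 F26985
theorem F30521 : act 4 n9569 = n9574 := d23_3 F30520 F26986 (iv F30501)
theorem F30522 : act 7 n8318 = n9574 := d12_0 F30519 (iv F25031) D8318
def n9575 : Q := act 5 n7923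
theorem D9575 : act 5 n7923 = n9575 := rfl
theorem F30523 : act 1 n9575 = n7942 := d10_1 D9575 (iv D7942) (iv D6287) (iv F19628) D7923
theorem F30524 : act 4 n9575 = n7936 := d22_1 D9575 (iv D7936) (iv F25024)
theorem F30525 : act 7 n9575 = n9575 := d26_2 F25025 D9575 (iv D9575)
def n9576 : Q := act 3 n7925
theorem D9576 : act 3 n7925 = n9576 := rfl
theorem F30526 : act 0 n9576 = n7926 := d2_1 D9576 (iv D7926) (iv F25032)
theorem F30527 : act 2 n9576 = n7928 := d13_1 D9576 (iv D7928) (iv D6276) (iv F19637) D7925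
theorem F30528 : act 4 n9576 = n9570 := d18_2 F26512 D9576 (iv D9570) F24997 (iv F26511)
theorem F30529 : act 5 n9576 = n9576 := d19_2 F25033 D9576 (iv D9576)
theorem F30530 : act 6 n9576 = n7933 := d20_2 (iv F25034) D9576 (iv D7933)
def n9577 : Q := act 3 n7927
theorem D9577 : act 3 n7927 = n9577 := rfl
theorem F30531 : act 1 n9577 = n7928 := d8_1 D9577 (iv D7928) D7927
theorem F30532 : act 4 n9577 = n9571 := d18_2 F26871 D9577 (iv D9571) (iv F26986) F26985
theorem F30533 : act 6 n9577 = n7935 := d20_2 (iv F25040) D9577 (iv D7935)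
def n9578 : Q := act 5 n7927
theorem D9578 : act 5 n7927 = n9578 := rfl
theorem F30534 : act 0 n9578 = n9164 := d4_1 D9578 (iv F30500) F30499
theorem F30535 : act 1 n9578 = n9578 := d10_1 D9578 (iv D9578) (iv D7927) F19645 D7927
theorem F30536 : act 6 n9161 = n9578 := d5_0 F30534 (iv D9164) D9161
def n9579 : Q := act 7 n7928
theorem D9579 : act 7 n7928 = n9579 := rfl
theorem F30537 : act 0 n9579 = n7929 := d6_1 D9579 (iv D7929) (iv F25041)
theorem F30538 : act 4 n9579 = n9573 := d24_1 D9579 (iv D9573) (iv F25042)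
theorem F30539 : act 5 n9579 = n9579 := d26_1 D9579 (iv D9579) F25043
def n9580 : Q := act 1 n7930
theorem D9580 : act 1 n7930 = n9580 := rfl
theorem F30540 : act 0 n9580 = n7932 := d0_1 D9580 (iv D7932) F19653 (iv F19650) (iv F25047)
theorem F30541 : act 2 n9580 = n9262 := d7_2 D7930 D9580 F29763 (iv D9320) F24411
theorem F30542 : act 4 n9580 = n8321 := d9_2 (iv F25048) D9580 (iv D8321)
theorem F30543 : act 7 n9580 = n9261 := d12_2 F25842 D9580 F29563
def n9581 : Q := act 3 n7930
theorem D9581 : act 3 n7930 = n9581 := rfl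
theorem F30544 : act 0 n9581 = n7931 := d2_1 D9581 (iv D7931) (iv F25047)
theorem F30545 : act 4 n9581 = n8325 := d18_2 (iv F25048) D9581 F26451 F21059 (iv F21026)
theorem F30546 : act 5 n9581 = n8319 := d19_2 (iv F25049) D9581 F26428
theorem F30547 : act 7 n9581 = n8367 := d21_2 F25842 D9581 F26615 (iv F24989) (iv F25839)
def n9582 : Q := act 3 n7932
theorem D9582 : act 3 n7932 = n9582 := rfl
theorem F30548 : act 1 n9582 = n7933 := d8_1 D9582 (iv D7933) D7932
def n9583 : Q := act 5 n7932
theorem D9583 : act 5 n7932 = n9583 := rfl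
theorem F30549 : act 1 n9583 = n7945 := d10_1 D9583 (iv D7945) (iv D6290) (iv F19654) D7932
theorem F30550 : act 2 n9583 = n8901 := d15_1 D9583 F28379 (iv F25054)
theorem F30551 : act 7 n9583 = n8900 := d26_2 (iv F25055) D9583 F28377
def n9584 : Q := act 4 n7933
theorem D9584 : act 4 n7933 = n9584 := rfl
theorem F30552 : act 0 n9584 = n7934 := d3_1 D9584 (iv D7934) (iv F25056)
theorem F30553 : act 2 n9584 = n7937 := d14_1 D9584 (iv D7937) (iv F25057)
theorem F30554 : act 3 n9584 = n8336 := d18_1 D9584 F26498 (iv F21124) F21125 D7933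
theorem F30555 : act 5 n9584 = n7946 := d22_2 (iv F25058) D9584 (iv D7946)
theorem F30556 : act 6 n9584 = n9570 := d23_2 F30530 D9584 (iv F30528)
theorem F30557 : act 7 n9584 = n8346 := d24_2 F25810 D9584 F26543
def n9585 : Q := act 2 n7935
theorem D9585 : act 2 n7935 = n9585 := rfl
def n9586 : Q := act 4 n7935
theorem D9586 : act 4 n7935 = n9586 := rfl
theorem F30558 : act 0 n9586 = n9577 := d3_1 D9586 F30532 F30507
theorem F30559 : act 1 n9586 = n7937 := d9_1 D9586 (iv D7937) (iv F25065)
theorem F30560 : act 3 n9586 = n9569 := d18_1 D9586 F30521 (iv D9574) F25024 D7935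
theorem F30561 : act 6 n9586 = n9571 := d23_2 F30533 D9586 (iv F30532)
def n9587 : Q := act 5 n7935
theorem D9587 : act 5 n7935 = n9587 := rfl
theorem F30562 : act 1 n9587 = n7949 := d10_1 D9587 (iv D7949) F19696 (iv F19660) (iv F25065)
theorem F30563 : act 3 n9587 = n7936 := d19_1 D9587 (iv D7936) D7935
def n9588 : Q := act 7 n7935
theorem D9588 : act 7 n7935 = n9588 := rfl
theorem F30564 : act 1 n9588 = n7938 := d12_1 D9588 (iv D7938) (iv F25065)
theorem F30565 : act 3 n9588 = n9588 := d21_1 D9588 (iv D9588) (iv D7935) F19658 D7935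
def n9589 : Q := act 6 n7936
theorem D9589 : act 6 n7936 = n9589 := rfl
theorem F30566 : act 0 n9589 = n9163 := d5_1 D9589 (iv F30511) F30509
theorem F30567 : act 1 n9589 = n7951 := d11_1 D9589 (iv D7951) (iv F25066)
theorem F30568 : act 5 n9589 = n9161 := d25_1 D9589 F30536 (iv D9578) F25040 D7936
theorem F30569 : act 7 n9186 = n9589 := d30_29 (iv D9589) (iv D7936) (iv D6282) (iv D4756) (iv F14686) F14688 F14102 F14101 (iv D3275) (iv F9326) F9327 D4139 F12838 F9571 (iv F13406) (iv F18144) D7380 F27330 (iv D8564) F22061 F18461 F14511 F14512 D4702 D6224 D7883 D9534 (iv F30380) F29318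
def n9590 : Q := act 7 n7937
theorem D9590 : act 7 n7937 = n9590 := rfl
theorem F30570 : act 0 n9590 = n7939 := d6_1 D9590 (iv D7939) (iv F25068)
theorem F30571 : act 2 n9590 = n8346 := d17_1 D9590 (iv F30557) F30553
theorem F30572 : act 4 n9590 = n7938 := d24_1 D9590 (iv D7938) D7937
theorem F30573 : act 5 n9590 = n7952 := d26_1 D9590 (iv D7952) (iv F25070)
theorem F30574 : act 6 n9590 = n8538 := d27_1 D9590 F27212 F30517 (iv D9573) (iv F25071)
theorem F30575 : act 3 n8553 = n9590 := d20_3 F30574 F27210 (iv F27280)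
def n9591 : Q := act 6 n7938
theorem D9591 : act 6 n7938 = n9591 := rfl
theorem F30576 : act 0 n9591 = n7940 := d5_1 D9591 (iv D7940) (iv F25072)
theorem F30577 : act 2 n9591 = n8539 := d16_1 D9591 F27216 F25808
theorem F30578 : act 3 n9591 = n9591 := d20_1 D9591 (iv D9591) F25073
theorem F30579 : act 4 n9591 = n8538 := d23_1 D9591 (iv F30574) F30572
theorem F30580 : act 5 n9591 = n8554 := d25_1 D9591 (iv D8554) F21996 (iv F20355) (iv F25074)
def n9592 : Q := act 2 n7944
theorem D9592 : act 2 n7944 = n9592 := rfl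
theorem F30581 : act 0 n9592 = n8619 := d1_1 D9592 F27505 F26156
theorem F30582 : act 1 n9592 = n7947 := d7_1 D9592 (iv D7947) F19696 (iv F19689) (iv F25098)
theorem F30583 : act 3 n9592 = n7982 := d13_2 D7944 D9592 (iv D7982) (iv D6332) (iv F19685)
theorem F30584 : act 6 n9592 = n9592 := d16_2 F25099 D9592 (iv D9592)
def n9593 : Q := act 4 n7944
theorem D9593 : act 4 n7944 = n9593 := rfl
theorem F30585 : act 0 n9593 = n8305 := d3_1 D9593 F26376 F26156
theorem F30586 : act 1 n9593 = n7946 := d9_1 D9593 (iv D7946) (iv F25098)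
theorem F30587 : act 3 n9593 = n8306 := d18_1 D9593 F26380 F21211 F21209 D7944
theorem F30588 : act 6 n9593 = n9593 := d23_2 F25099 D9593 (iv D9593)
def n9594 : Q := act 5 n7944
theorem D9594 : act 5 n7944 = n9594 := rfl
theorem F30589 : act 3 n9594 = n7945 := d19_1 D9594 (iv D7945) D7944
def n9595 : Q := act 6 n7945
theorem D9595 : act 6 n7945 = n9595 := rfl
theorem F30590 : act 2 n9595 = n7985 := d16_1 D9595 (iv D7985) (iv F25100)
theorem F30591 : act 5 n9595 = n9595 := d25_1 D9595 (iv D9595) (iv D7945) F19686 D7945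
def n9596 : Q := act 7 n7947
theorem D9596 : act 7 n7947 = n9596 := rfl
theorem F30592 : act 0 n9596 = n9596 := d6_1 D9596 (iv D9596) F25106
theorem F30593 : act 2 n9596 = n7950 := d17_1 D9596 (iv D7950) D7947
def n9597 : Q := act 7 n7948
theorem D9597 : act 7 n7948 = n9597 := rfl
theorem F30594 : act 0 n9597 = n9597 := d6_1 D9597 (iv D9597) F25109
theorem F30595 : act 1 n9597 = n7952 := d12_1 D9597 (iv D7952) (iv F25110)
theorem F30596 : act 4 n9597 = n7950 := d24_1 D9597 (iv D7950) D7948
theorem F30597 : act 6 n8550 = n9597 := d23_0 F30596 (iv F25800) F27263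
theorem F30598 : act 3 n9597 = n8551 := d20_1 F30597 (iv D8551) D8550
def n9598 : Q := act 7 n7949
theorem D9598 : act 7 n7949 = n9598 := rfl
theorem F30599 : act 0 n9598 = n9598 := d6_1 D9598 (iv D9598) F25112
theorem F30600 : act 3 n9598 = n9598 := d21_1 D9598 (iv D9598) F25113 F19700 (iv F25113)
theorem F30601 : act 5 n9598 = n7950 := d26_1 D9598 (iv D7950) D7949
theorem F30602 : act 6 n9598 = n9598 := d27_1 D9598 (iv D9598) (iv F29123) F29121 F29123
def n9599 : Q := act 7 n7951
theorem D9599 : act 7 n7951 = n9599 := rfl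
theorem F30603 : act 0 n9599 = n9599 := d6_1 D9599 (iv D9599) F25117
theorem F30604 : act 1 n9599 = n9186 := d12_1 D9599 F30569 F30567
theorem F30605 : act 2 n9599 = n7986 := d17_1 D9599 (iv D7986) (iv F25118)
theorem F30606 : act 3 n9599 = n9599 := d21_1 D9599 (iv D9599) F29122 F29121 (iv F29122)
theorem F30607 : act 4 n9599 = n8061 := d24_1 D9599 F29242 F29239
theorem F30608 : act 5 n9599 = n9599 := d26_1 D9599 (iv D9599) F25119
theorem F30609 : act 6 n9599 = n9599 := d27_1 D9599 (iv D9599) (iv D7951) F19700 D7951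
def n9600 : Q := act 3 n7953
theorem D9600 : act 3 n7953 = n9600 := rfl
theorem F30610 : act 0 n9600 = n9600 := d2_1 D9600 (iv D9600) F25124
theorem F30611 : act 2 n9600 = n9600 := d13_1 D9600 (iv D9600) F25125 F23233 (iv F25125)
theorem F30612 : act 5 n9600 = n7954 := d19_2 (iv F25126) D9600 (iv D7954)
theorem F30613 : act 7 n9600 = n7956 := d21_2 D7953 D9600 (iv D7956) (iv D6305) (iv F19711)
def n9601 : Q := act 4 n7954
theorem D9601 : act 4 n7954 = n9601 := rfl
theorem F30614 : act 0 n9601 = n9601 := d3_1 D9601 (iv D9601) F25127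
theorem F30615 : act 1 n9601 = n7955 := d9_1 D9601 (iv D7955) (iv F25128)
theorem F30616 : act 2 n9601 = n9601 := d14_1 D9601 (iv D9601) F25129
theorem F30617 : act 3 n9601 = n8099 := d18_1 D9601 F25703 F20286 F20175 D7954
theorem F30618 : act 6 n9601 = n8098 := d23_2 (iv F25130) D9601 F25698
theorem F30619 : act 7 n9601 = n7957 := d24_2 (iv F25131) D9601 (iv D7957)
def n9602 : Q := act 4 n7956
theorem D9602 : act 4 n7956 = n9602 := rfl
theorem F30620 : act 0 n9602 = n9602 := d3_1 D9602 (iv D9602) F25136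
theorem F30621 : act 2 n9602 = n9602 := d14_1 D9602 (iv D9602) F25137
theorem F30622 : act 3 n9602 = n9602 := d18_1 D9602 (iv D9602) (iv D7956) F19738 D7956
theorem F30623 : act 5 n9602 = n7957 := d22_2 (iv F25138) D9602 (iv D7957)
def n9603 : Q := act 4 n7959
theorem D9603 : act 4 n7959 = n9603 := rfl
theorem F30624 : act 0 n9603 = n8575 := d3_1 D9603 F27356 F27308
theorem F30625 : act 1 n9603 = n7962 := d9_1 D9603 (iv D7962) (iv F25146)
theorem F30626 : act 3 n9603 = n9603 := d18_1 D9603 (iv D9603) (iv D7959) F19748 D7959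
def n9604 : Q := act 6 n7959
theorem D9604 : act 6 n7959 = n9604 := rfl
theorem F30627 : act 1 n9604 = n7963 := d11_1 D9604 (iv D7963) (iv F25146)
theorem F30628 : act 3 n9604 = n7960 := d20_1 D9604 (iv D7960) D7959
theorem F30629 : act 5 n9604 = n8938 := d25_1 D9604 F28501 F26935 D8960 F28587
theorem F30630 : act 7 n8943 = n9604 := d26_0 F30629 F28502 (iv F28516)
def n9605 : Q := act 1 n7961
theorem D9605 : act 1 n7961 = n9605 := rfl
theorem F30631 : act 3 n9605 = n9605 := d8_2 F25152 D9605 (iv D9605)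
theorem F30632 : act 5 n9605 = n9605 := d10_2 (iv F25153) D9605 (iv D9605) F25153 F19757
def n9606 : Q := act 4 n7961
theorem D9606 : act 4 n7961 = n9606 := rfl
theorem F30633 : act 0 n9606 = n7970 := d3_1 D9606 (iv D7970) (iv F25151)
theorem F30634 : act 2 n9606 = n7962 := d14_1 D9606 (iv D7962) D7961
theorem F30635 : act 5 n9606 = n7964 := d22_2 (iv F25153) D9606 (iv D7964)
theorem F30636 : act 6 n9606 = n9579 := d23_2 (iv F30517) D9606 F30538
theorem F30637 : act 7 n9606 = n9591 := d24_2 F27212 D9606 F30579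
theorem F30638 : act 3 n8586 = n9606 := d19_3 F30635 (iv F25164) (iv F27388)
def n9607 : Q := act 6 n7962
theorem D9607 : act 6 n7962 = n9607 := rfl
theorem F30639 : act 0 n9607 = n7971 := d5_1 D9607 (iv D7971) (iv F25154)
theorem F30640 : act 2 n9607 = n9579 := d16_1 D9607 (iv F30636) F30634
theorem F30641 : act 3 n9607 = n9607 := d20_1 D9607 (iv D9607) F25155
theorem F30642 : act 4 n9607 = n7963 := d23_1 D9607 (iv D7963) D7962
theorem F30643 : act 5 n9607 = n9607 := d25_1 D9607 (iv D9607) F25156 F19762 (iv F25156)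
theorem F30644 : act 7 n9607 = n9576 := d27_2 F27217 D9607 F30530 (iv F25810) (iv F27216)
def n9608 : Q := act 3 n7966
theorem D9608 : act 3 n7966 = n9608 := rfl
theorem F30645 : act 1 n9608 = n9608 := d8_1 D9608 (iv D9608) F25168
theorem F30646 : act 2 n9608 = n8436 := d13_1 D9608 F26844 F26117 (iv F26083) F26082
theorem F30647 : act 5 n9608 = n8001 := d19_2 (iv F25169) D9608 (iv D8001)
theorem F30648 : act 7 n9608 = n7967 := d21_2 D7966 D9608 (iv D7967) (iv D6314) D6313
def n9609 : Q := act 6 n7966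
theorem D9609 : act 6 n7966 = n9609 := rfl
theorem F30649 : act 1 n9609 = n9609 := d11_1 D9609 (iv D9609) F25168
def n9610 : Q := act 4 n7967
theorem D9610 : act 4 n7967 = n9610 := rfl
theorem F30650 : act 1 n9610 = n9610 := d9_1 D9610 (iv D9610) F25170
theorem F30651 : act 2 n9610 = n8397 := d14_1 D9610 F26718 (iv F25171)
theorem F30652 : act 3 n9610 = n9610 := d18_1 D9610 (iv D9610) (iv D7967) F19767 D7967
theorem F30653 : act 5 n9610 = n8003 := d22_2 (iv F25172) D9610 (iv D8003)
def n9611 : Q := act 6 n7967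
theorem D9611 : act 6 n7967 = n9611 := rfl
theorem F30654 : act 0 n9611 = n8261 := d5_1 D9611 (iv F27307) F27304
theorem F30655 : act 1 n9611 = n9611 := d11_1 D9611 (iv D9611) F25170
theorem F30656 : act 2 n9611 = n8434 := d16_1 D9611 F26841 (iv F25171)
theorem F30657 : act 3 n9611 = n7968 := d20_1 D9611 (iv D7968) D7967
theorem F30658 : act 5 n9611 = n8259 := d25_1 D9611 (iv D8259) (iv F20856) (iv F19924) (iv F25172)
def n9612 : Q := act 2 n7972
theorem D9612 : act 2 n7972 = n9612 := rfl
theorem F30659 : act 1 n9612 = n7975 := d7_1 D9612 (iv D7975) F19813 (iv F19804) (iv F25196)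
theorem F30660 : act 6 n9612 = n9612 := d16_2 F25197 D9612 (iv D9612)
theorem F30661 : act 7 n9612 = n8922 := d17_2 (iv F25198) D9612 F28449
def n9613 : Q := act 4 n7972
theorem D9613 : act 4 n7972 = n9613 := rfl
theorem F30662 : act 0 n9613 = n8714 := d3_1 D9613 F27809 F27701
theorem F30663 : act 1 n9613 = n7974 := d9_1 D9613 (iv D7974) (iv F25196)
theorem F30664 : act 3 n9613 = n8638 := d18_1 D9613 (iv D8638) (iv D7036) (iv F19800) D7972
theorem F30665 : act 6 n9613 = n9613 := d23_2 F25197 D9613 (iv D9613)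
theorem F30666 : act 7 n9613 = n8907 := d24_2 (iv F25198) D9613 F28397
def n9614 : Q := act 5 n7972
theorem D9614 : act 5 n7972 = n9614 := rfl
theorem F30667 : act 3 n9614 = n7973 := d19_1 D9614 (iv D7973) D7972
theorem F30668 : act 7 n9614 = n8923 := d26_2 (iv F25198) D9614 (iv D8923)
def n9615 : Q := act 6 n7973
theorem D9615 : act 6 n7973 = n9615 := rfl
theorem F30669 : act 4 n9615 = n8636 := d23_1 D9615 (iv D8636) (iv F25199)
theorem F30670 : act 5 n9615 = n9615 := d25_1 D9615 (iv D9615) (iv D7973) F19801 D7973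
def n9616 : Q := act 7 n7975
theorem D9616 : act 7 n7975 = n9616 := rfl
theorem F30671 : act 0 n9616 = n9616 := d6_1 D9616 (iv D9616) F25206
theorem F30672 : act 1 n9616 = n8922 := d12_1 D9616 (iv F30661) F30659
theorem F30673 : act 2 n9616 = n7978 := d17_1 D9616 (iv D7978) D7975
theorem F30674 : act 6 n9616 = n8921 := d30_6 (iv F25029) F25028 (iv F25087) (iv F29255) F29256 D9616 F28446 (iv D8921) (iv D7308) (iv D5730) (iv D4270) F9401 D4011 F12463 (iv F16976) F16977 (iv D4430) D4429 D5904 (iv F21808) F20109 F15048 (iv F19514) D7901 F24944 F21482 D6837 (iv F21649) F21652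
def n9617 : Q := act 6 n7981
theorem D9617 : act 6 n7981 = n9617 := rfl
theorem F30675 : act 0 n9617 = n7985 := d5_1 D9617 (iv D7985) (iv F25228)
theorem F30676 : act 1 n9617 = n8605 := d11_1 D9617 F27458 (iv F25229)
theorem F30677 : act 3 n9617 = n8606 := d20_1 D9617 F27461 (iv F25230)
theorem F30678 : act 5 n9617 = n9617 := d25_1 D9617 (iv D9617) (iv D7981) F19832 D7981
def n9618 : Q := act 5 n7982
theorem D9618 : act 5 n7982 = n9618 := rfl
theorem F30679 : act 0 n9618 = n8610 := d4_1 D9618 F27471 (iv F25232)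
theorem F30680 : act 2 n9618 = n7984 := d15_1 D9618 (iv D7984) D7982
def n9619 : Q := act 5 n7983
theorem D9619 : act 5 n7983 = n9619 := rfl
theorem F30681 : act 0 n9619 = n8602 := d4_1 D9619 F27447 (iv F25235)
theorem F30682 : act 1 n9619 = n8787 := d10_1 D9619 F28049 F22866 (iv F19841) (iv F25236)
theorem F30683 : act 4 n9619 = n7984 := d22_1 D9619 (iv D7984) D7983
def n9620 : Q := act 6 n7984
theorem D9620 : act 6 n7984 = n9620 := rfl
theorem F30684 : act 0 n9620 = n8606 := d5_1 D9620 F27461 (iv F25238)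
theorem F30685 : act 1 n9620 = n8800 := d11_1 D9620 F28091 (iv F25239)
theorem F30686 : act 3 n9620 = n7985 := d20_1 D9620 (iv D7985) (iv F25240)
theorem F30687 : act 5 n9620 = n9620 := d25_1 D9620 (iv D9620) (iv D7984) F19836 D7984
def n9621 : Q := act 7 n7985
theorem D9621 : act 7 n7985 = n9621 := rfl
theorem F30688 : act 1 n9621 = n8376 := d12_1 D9621 F26646 (iv F25241)
theorem F30689 : act 5 n9621 = n9621 := d26_1 D9621 (iv D9621) F25242
theorem F30690 : act 6 n9621 = n8374 := d27_1 D9621 (iv D8374) F21270 (iv F19838) D7985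
def n9622 : Q := act 2 n7989
theorem D9622 : act 2 n7989 = n9622 := rfl
theorem F30691 : act 0 n9622 = n9622 := d1_1 D9622 (iv D9622) F25258
theorem F30692 : act 3 n9622 = n7994 := d13_2 D7989 D9622 (iv D7994) (iv D6351) (iv F19884)
theorem F30693 : act 4 n9622 = n9616 := d14_2 F25262 D9622 F30673
theorem F30694 : act 5 n9622 = n7990 := d15_2 (iv F25260) D9622 (iv D7990)
theorem F30695 : act 7 n9622 = n9153 := d17_2 (iv F25261) D9622 F29207
def n9623 : Q := act 1 n7990
theorem D9623 : act 1 n7990 = n9623 := rfl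
theorem F30696 : act 2 n9623 = n8018 := d7_2 D7990 D9623 (iv D8018) (iv D6375) (iv F19888)
theorem F30697 : act 3 n9623 = n7996 := d8_2 (iv F25264) D9623 (iv D7996)
theorem F30698 : act 6 n9623 = n9623 := d11_2 F25265 D9623 (iv D9623)
theorem F30699 : act 7 n9623 = n8782 := d12_2 (iv F25266) D9623 F28033
theorem F30700 : act 0 n8657 = n9623 := d2_3 F30697 (iv F25291) D8657
def n9624 : Q := act 4 n7990
theorem D9624 : act 4 n7990 = n9624 := rfl
theorem F30701 : act 0 n9624 = n9624 := d3_1 D9624 (iv D9624) F25263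
theorem F30702 : act 2 n9624 = n7991 := d14_1 D9624 (iv D7991) D7990
theorem F30703 : act 5 n9624 = n9616 := d22_2 F30694 D9624 (iv F30693)
theorem F30704 : act 6 n9624 = n9624 := d23_2 F25265 D9624 (iv D9624)
theorem F30705 : act 7 n9624 = n9152 := d24_2 (iv F25266) D9624 F29204
def n9625 : Q := act 4 n7992
theorem D9625 : act 4 n7992 = n9625 := rfl
theorem F30706 : act 1 n9625 = n8745 := d9_1 D9625 (iv F28602) F28599
theorem F30707 : act 3 n9625 = n9625 := d18_1 D9625 (iv D9625) (iv D7992) F19890 D7992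
theorem F30708 : act 5 n9625 = n7997 := d22_2 (iv F25273) D9625 (iv D7997)
theorem F30709 : act 6 n9625 = n8973 := d23_2 F28596 D9625 F28633
def n9626 : Q := act 7 n7992
theorem D9626 : act 7 n7992 = n9626 := rfl
theorem F30710 : act 0 n9626 = n8520 := d6_1 D9626 (iv F28964) F28960
theorem F30711 : act 3 n9626 = n8519 := d21_1 D9626 (iv D8519) (iv F23321) F23324 D7992
theorem F30712 : act 5 n9626 = n7998 := d26_1 D9626 (iv D7998) (iv F25273)
def n9627 : Q := act 5 n7996
theorem D9627 : act 5 n7996 = n9627 := rfl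
theorem F30713 : act 0 n9627 = n8656 := d4_1 D9627 F27626 F25291
theorem F30714 : act 2 n9627 = n7999 := d15_1 D9627 (iv D7999) (iv F25288)
theorem F30715 : act 7 n9627 = n8648 := d26_2 (iv F25290) D9627 (iv D8648)
def n9628 : Q := act 7 n7997
theorem D9628 : act 7 n7997 = n9628 := rfl
theorem F30716 : act 0 n9628 = n8522 := d6_1 D9628 F28955 F28950
theorem F30717 : act 1 n9628 = n8031 := d12_1 D9628 (iv D8031) (iv F25292)
theorem F30718 : act 4 n9628 = n7998 := d24_1 D9628 (iv D7998) D7997
def n9629 : Q := act 6 n7998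
theorem D9629 : act 6 n7998 = n9629 := rfl
theorem F30719 : act 0 n9629 = n8298 := d5_1 D9629 F26358 (iv F25295)
theorem F30720 : act 1 n9629 = n8033 := d11_1 D9629 (iv D8033) (iv F25296)
theorem F30721 : act 3 n9629 = n8286 := d20_1 D9629 F26324 (iv F25297)
theorem F30722 : act 7 n9629 = n8002 := d27_2 D7998 D9629 (iv D8002) (iv D6359) (iv F19904)
def n9630 : Q := act 6 n7999
theorem D9630 : act 6 n7999 = n9630 := rfl
theorem F30723 : act 0 n9630 = n8658 := d5_1 D9630 (iv D8658) (iv F25298)
theorem F30724 : act 1 n9630 = n8683 := d11_1 D9630 F27710 (iv F25299)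
theorem F30725 : act 3 n9630 = n8039 := d20_1 D9630 (iv D8039) (iv F25300)
theorem F30726 : act 5 n9630 = n9630 := d25_1 D9630 (iv D9630) (iv D7999) F19917 D7999
def n9631 : Q := act 6 n8000
theorem D9631 : act 6 n8000 = n9631 := rfl
theorem F30727 : act 1 n9631 = n8041 := d11_1 D9631 (iv D8041) (iv F25302)
theorem F30728 : act 4 n9631 = n8002 := d23_1 D9631 (iv D8002) (iv F25303)
def n9632 : Q := act 4 n8001
theorem D9632 : act 4 n8001 = n9632 := rfl
theorem F30729 : act 1 n9632 = n8042 := d9_1 D9632 (iv D8042) (iv F25304)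
theorem F30730 : act 2 n9632 = n8398 := d14_1 D9632 F26722 F25306
theorem F30731 : act 7 n9632 = n8003 := d24_2 (iv F25305) D9632 (iv D8003)
def n9633 : Q := act 6 n8001
theorem D9633 : act 6 n8001 = n9633 := rfl
theorem F30732 : act 0 n9633 = n8275 := d5_1 D9633 F28970 F28966
theorem F30733 : act 1 n9633 = n8043 := d11_1 D9633 (iv D8043) (iv F25304)
theorem F30734 : act 2 n9633 = n8426 := d16_1 D9633 F26822 F25306
theorem F30735 : act 3 n9633 = n8002 := d20_1 D9633 (iv D8002) D8001
theorem F30736 : act 7 n9633 = n8268 := d27_2 (iv F25305) D9633 (iv D8268) F20879 (iv F19924)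
def n9634 : Q := act 5 n8002
theorem D9634 : act 5 n8002 = n9634 := rfl
def n9635 : Q := act 6 n8005
theorem D9635 : act 6 n8005 = n9635 := rfl
theorem F30737 : act 0 n9635 = n8051 := d5_1 D9635 (iv D8051) (iv F25317)
theorem F30738 : act 1 n9635 = n9635 := d11_1 D9635 (iv D9635) F25318
theorem F30739 : act 2 n9635 = n8006 := d16_1 D9635 (iv D8006) D8005
theorem F30740 : act 3 n9635 = n9185 := d20_1 D9635 (iv F30220) F30217
theorem F30741 : act 4 n9635 = n9635 := d23_1 D9635 (iv D9635) F25319
def n9636 : Q := act 2 n8008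
theorem D9636 : act 2 n8008 = n9636 := rfl
theorem F30742 : act 0 n9636 = n8054 := d1_1 D9636 (iv D8054) (iv F25330)
theorem F30743 : act 3 n9636 = n9010 := d13_2 D8008 D9636 F30224 (iv D9484) F24777
theorem F30744 : act 4 n9636 = n9438 := d14_2 (iv F25332) D9636 (iv D9438)
theorem F30745 : act 5 n9636 = n8009 := d15_2 (iv F25333) D9636 (iv D8009)
theorem F30746 : act 7 n9636 = n8015 := d17_2 (iv F25334) D9636 (iv D8015)
def n9637 : Q := act 1 n8009
theorem D9637 : act 1 n8009 = n9637 := rfl
theorem F30747 : act 2 n9637 = n8782 := d7_2 D8009 D9637 F28033 (iv F25253) F25252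
theorem F30748 : act 3 n9637 = n8842 := d8_2 (iv F25336) D9637 F28210
theorem F30749 : act 7 n9637 = n8018 := d12_2 (iv F25337) D9637 (iv D8018)
theorem F30750 : act 6 n8780 = n9637 := d16_0 F30747 (iv D8782) D8780
def n9638 : Q := act 4 n8009
theorem D9638 : act 4 n8009 = n9638 := rfl
theorem F30751 : act 0 n9638 = n8057 := d3_1 D9638 (iv D8057) (iv F25335)
theorem F30752 : act 2 n9638 = n8010 := d14_1 D9638 (iv D8010) D8009
theorem F30753 : act 5 n9638 = n9438 := d22_2 F30745 D9638 (iv F30744)
theorem F30754 : act 7 n9638 = n8019 := d24_2 (iv F25337) D9638 (iv D8019)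
def n9639 : Q := act 6 n8009
theorem D9639 : act 6 n8009 = n9639 := rfl
theorem F30755 : act 0 n9639 = n8058 := d5_1 D9639 (iv D8058) (iv F25335)
theorem F30756 : act 1 n9639 = n8780 := d11_1 D9639 F30750 (iv D9637)
theorem F30757 : act 2 n9639 = n8011 := d16_1 D9639 (iv D8011) D8009
theorem F30758 : act 3 n9639 = n9021 := d20_1 D9639 (iv D9021) (iv F25336)
theorem F30759 : act 7 n9639 = n9639 := d27_2 (iv F25337) D9639 (iv D9639) F25337 F19969
def n9640 : Q := act 1 n8015
theorem D9640 : act 1 n8015 = n9640 := rfl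
theorem F30760 : act 3 n9640 = n8023 := d8_2 (iv F25358) D9640 (iv D8023)
def n9641 : Q := act 4 n8015
theorem D9641 : act 4 n8015 = n9641 := rfl
theorem F30761 : act 0 n9641 = n8066 := d3_1 D9641 (iv D8066) (iv F25357)
theorem F30762 : act 2 n9641 = n8016 := d14_1 D9641 (iv D8016) D8015
theorem F30763 : act 3 n9641 = n9086 := d18_1 D9641 F28995 F25390 (iv D8024) (iv F25358)
theorem F30764 : act 5 n9641 = n8019 := d22_2 (iv F25359) D9641 (iv D8019)
theorem F30765 : act 7 n9641 = n9438 := d24_2 F30746 D9641 (iv F30744)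
def n9642 : Q := act 6 n8015
theorem D9642 : act 6 n8015 = n9642 := rfl
theorem F30766 : act 0 n9642 = n8067 := d5_1 D9642 (iv D8067) (iv F25357)
theorem F30767 : act 2 n9642 = n8017 := d16_1 D9642 (iv D8017) D8015
theorem F30768 : act 3 n9642 = n8025 := d20_1 D9642 (iv D8025) (iv F25358)
theorem F30769 : act 5 n9642 = n9642 := d25_1 D9642 (iv D9642) F25359 F19969 (iv F25359)
def n9643 : Q := act 0 n8018
theorem D9643 : act 0 n8018 = n9643 := rfl
theorem F30770 : act 1 n9643 = n8070 := d0_2 D8018 D9643 (iv D8070) (iv D6421) (iv F19967)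
theorem F30771 : act 2 n9643 = n8657 := d1_2 F30696 D9643 F30700
theorem F30772 : act 3 n9643 = n8028 := d2_2 (iv F25368) D9643 (iv D8028)
theorem F30773 : act 6 n9643 = n9643 := d5_2 F25369 D9643 (iv D9643)
theorem F30774 : act 4 n9468 = n9643 := d18_0 F30772 (iv F25410) F24774 (iv F24741) (iv F30160)
def n9644 : Q := act 4 n8018
theorem D9644 : act 4 n8018 = n9644 := rfl
theorem F30775 : act 0 n9644 = n9468 := d3_1 D9644 F30774 (iv D9643)
theorem F30776 : act 1 n9644 = n8019 := d9_1 D9644 (iv D8019) D8018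
theorem F30777 : act 3 n9644 = n9473 := d18_1 D9644 F30178 F25416 (iv D8029) (iv F25368)
theorem F30778 : act 6 n9644 = n9644 := d23_2 F25369 D9644 (iv D9644)
def n9645 : Q := act 5 n8018
theorem D9645 : act 5 n8018 = n9645 := rfl
theorem F30779 : act 3 n9645 = n8030 := d19_1 D9645 (iv D8030) (iv F25368)
def n9646 : Q := act 0 n8023
theorem D9646 : act 0 n8023 = n9646 := rfl
theorem F30780 : act 1 n9646 = n8071 := d0_2 D8023 D9646 (iv D8071) (iv D6423) (iv F19986)
theorem F30781 : act 2 n9646 = n8937 := d1_2 (iv F25384) D9646 (iv D8937)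
theorem F30782 : act 7 n9646 = n8995 := d6_2 (iv F25385) D9646 F28718
theorem F30783 : act 4 n9064 = n9646 := d9_0 F30780 F25581 D9064
def n9647 : Q := act 4 n8023
theorem D9647 : act 4 n8023 = n9647 := rfl
theorem F30784 : act 0 n9647 = n9064 := d3_1 D9647 F30783 (iv D9646)
theorem F30785 : act 1 n9647 = n8024 := d9_1 D9647 (iv D8024) D8023
theorem F30786 : act 2 n9647 = n8934 := d14_1 D9647 F28488 (iv F25384)
theorem F30787 : act 7 n9647 = n8981 := d24_2 (iv F25385) D9647 F28659
theorem F30788 : act 3 n9067 = n9647 := d28_2 (iv F28898) (iv F28926) F30786 (iv D8934) (iv D7320) (iv D5741) F13242 F13244 D4282 F16681 (iv D5346) (iv D3940) D3941 F12208 F8547 F7156 F7155 (iv D1580) (iv F4598) D2162 F6690 F4642 (iv D1087) F2392 F1623 F875 F507 F505 (iv D149) (iv D78) F159 F97 (iv F177) D89 F316 F317 F193 (iv F294) (iv F519) (iv F1472) F1523 (iv F2266) (iv F3155) (iv F4600) (iv F6686) (iv F9663) D4383 D5848 (iv F19281) F19283 F18301 (iv F16683) (iv F20010) (iv F25382) F25383 F21914 (iv F23210) F23209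 (iv F27051) F27050 (iv F28571) (iv F28897)
def n9648 : Q := act 5 n8023
theorem D9648 : act 5 n8023 = n9648 := rfl
theorem F30789 : act 1 n9648 = n8030 := d10_1 D9648 (iv D8030) (iv D6383) (iv F19987) D8023
theorem F30790 : act 2 n9648 = n8673 := d15_1 D9648 F27683 (iv F25384)
theorem F30791 : act 7 n9648 = n8779 := d26_2 (iv F25385) D9648 F28027
def n9649 : Q := act 6 n8023
theorem D9649 : act 6 n8023 = n9649 := rfl
theorem F30792 : act 1 n9649 = n8025 := d11_1 D9649 (iv D8025) D8023
theorem F30793 : act 2 n9649 = n8935 := d16_1 D9649 F28490 (iv F25384)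
def n9650 : Q := act 6 n8024
theorem D9650 : act 6 n8024 = n9650 := rfl
theorem F30794 : act 0 n9650 = n8073 := d5_1 D9650 (iv D8073) (iv F25386)
theorem F30795 : act 2 n9650 = n8026 := d16_1 D9650 (iv D8026) (iv F25387)
theorem F30796 : act 3 n9650 = n8578 := d20_1 D9650 F27367 F25390
theorem F30797 : act 4 n9650 = n8025 := d23_1 D9650 (iv D8025) D8024
theorem F30798 : act 5 n9650 = n9650 := d25_1 D9650 (iv D9650) F25388 F20003 (iv F25388)
theorem F30799 : act 7 n9650 = n8504 := d27_2 (iv F25389) D9650 F27091 (iv F26816) F26815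
def n9651 : Q := act 7 n8025
theorem D9651 : act 7 n8025 = n9651 := rfl
theorem F30800 : act 0 n9651 = n8074 := d6_1 D9651 (iv D8074) (iv F25391)
theorem F30801 : act 2 n9651 = n8027 := d17_1 D9651 (iv D8027) (iv F25392)
theorem F30802 : act 4 n9651 = n8504 := d24_1 D9651 (iv F30799) F30797
theorem F30803 : act 5 n9651 = n9651 := d26_1 D9651 (iv D9651) F25393
theorem F30804 : act 6 n9651 = n8502 := d27_1 D9651 F27084 F23485 (iv F19988) D8025
theorem F30805 : act 3 n9651 = n8974 := d31_5 (iv F21455) F21457 (iv F21721) D8502 (iv F30804) F28638 (iv F28639) F27338 F22096 F22098 F21809 F20110 (iv F19525) (iv D6240) (iv D4711) F10469 F10277 (iv F14103) (iv D4551) (iv F14081) (iv F18909) F18912 F18910 F18903 D7635 (iv F24380) (iv D7696) (iv F21480) F21479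
def n9652 : Q := act 5 n8028
theorem D9652 : act 5 n8028 = n9652 := rfl
theorem F30806 : act 0 n9652 = n8030 := d4_1 D9652 (iv D8030) D8028
theorem F30807 : act 1 n9652 = n9450 := d10_1 D9652 (iv D9450) F24697 (iv F21801) (iv F25406)
theorem F30808 : act 2 n9652 = n8036 := d15_1 D9652 (iv D8036) (iv F25407)
theorem F30809 : act 4 n9652 = n9452 := d22_1 D9652 F30118 F25410
theorem F30810 : act 7 n9652 = n8812 := d26_2 (iv F25409) D9652 F28122
def n9653 : Q := act 5 n8029
theorem D9653 : act 5 n8029 = n9653 := rfl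
theorem F30811 : act 0 n9653 = n9452 := d4_1 D9653 F30118 (iv F25411)
theorem F30812 : act 2 n9653 = n8038 := d15_1 D9653 (iv D8038) (iv F25413)
theorem F30813 : act 3 n9653 = n9455 := d19_1 D9653 F30125 F25416
theorem F30814 : act 4 n9653 = n8030 := d22_1 D9653 (iv D8030) D8029
theorem F30815 : act 7 n9653 = n8788 := d26_2 (iv F25415) D9653 F28051
def n9654 : Q := act 6 n8030
theorem D9654 : act 6 n8030 = n9654 := rfl
theorem F30816 : act 2 n9654 = n8039 := d16_1 D9654 (iv D8039) (iv F25417)
theorem F30817 : act 5 n9654 = n9654 := d25_1 D9654 (iv D9654) (iv D8030) F19999 D8030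
def n9655 : Q := act 3 n8035
theorem D9655 : act 3 n8035 = n9655 := rfl
theorem F30818 : act 0 n9655 = n8037 := d2_1 D9655 (iv D8037) (iv F25432)
theorem F30819 : act 1 n9655 = n8045 := d8_1 D9655 (iv D8045) (iv F25433)
theorem F30820 : act 2 n9655 = n9490 := d13_1 D9655 (iv D9490) (iv D7847) (iv F24774) (iv F25434)
theorem F30821 : act 4 n9655 = n8653 := d18_2 D8035 D9655 (iv D8653) F22349 (iv F20014)
theorem F30822 : act 6 n9655 = n9655 := d20_2 F25435 D9655 (iv D9655)
def n9656 : Q := act 5 n8035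
theorem D9656 : act 5 n8035 = n9656 := rfl
theorem F30823 : act 0 n9656 = n8038 := d4_1 D9656 (iv D8038) (iv F25432)
theorem F30824 : act 2 n9656 = n9452 := d15_1 D9656 F30118 (iv F25434)
theorem F30825 : act 4 n9656 = n8036 := d22_1 D9656 (iv D8036) D8035
theorem F30826 : act 7 n9656 = n8787 := d26_2 (iv F25436) D9656 F28049
def n9657 : Q := act 6 n8036
theorem D9657 : act 6 n8036 = n9657 := rfl
theorem F30827 : act 0 n9657 = n8039 := d5_1 D9657 (iv D8039) (iv F25437)
theorem F30828 : act 3 n9657 = n8658 := d20_1 D9657 (iv D8658) (iv F25438)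
theorem F30829 : act 5 n9657 = n9657 := d25_1 D9657 (iv D9657) (iv D8036) F20015 D8036
def n9658 : Q := act 2 n8037
theorem D9658 : act 2 n8037 = n9658 := rfl
theorem F30830 : act 0 n9658 = n9490 := d1_1 D9658 (iv F30820) F30818
theorem F30831 : act 1 n9658 = n9658 := d7_1 D9658 (iv D9658) F25440 F20023 (iv F25440)
theorem F30832 : act 3 n9658 = n9488 := d13_2 D8037 D9658 (iv D9488) F25416 F25413
theorem F30833 : act 6 n9658 = n9658 := d16_2 F25441 D9658 (iv D9658)
theorem F30834 : act 7 n9658 = n8290 := d17_2 (iv F27737) D9658 (iv F27734)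
def n9659 : Q := act 5 n8037
theorem D9659 : act 5 n8037 = n9659 := rfl
theorem F30835 : act 1 n9659 = n8680 := d10_1 D9659 (iv D8680) F22410 (iv F20024) (iv F25440)
theorem F30836 : act 3 n9659 = n8038 := d19_1 D9659 (iv D8038) D8037
def n9660 : Q := act 6 n8038
theorem D9660 : act 6 n8038 = n9660 := rfl
theorem F30837 : act 1 n9660 = n8677 := d11_1 D9660 F27694 (iv F25442)
theorem F30838 : act 4 n9660 = n8039 := d23_1 D9660 (iv D8039) (iv F25443)
theorem F30839 : act 5 n9660 = n9660 := d25_1 D9660 (iv D9660) (iv D8038) F20018 D8038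
def n9661 : Q := act 7 n8039
theorem D9661 : act 7 n8039 = n9661 := rfl
theorem F30840 : act 1 n9661 = n8682 := d12_1 D9661 F27706 (iv F25445)
theorem F30841 : act 5 n9661 = n9661 := d26_1 D9661 (iv D9661) F25446
theorem F30842 : act 6 n9661 = n8794 := d27_1 D9661 F28069 F22787 (iv F20021) D8039
def n9662 : Q := act 4 n8040
theorem D9662 : act 4 n8040 = n9662 := rfl
theorem F30843 : act 0 n9662 = n9662 := d3_1 D9662 (iv D9662) F25447
theorem F30844 : act 2 n9662 = n9662 := d14_1 D9662 (iv D9662) F25448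
theorem F30845 : act 3 n9662 = n8042 := d18_1 D9662 (iv D8042) (iv D6393) (iv F20027) D8040
theorem F30846 : act 5 n9662 = n9662 := d22_2 F25449 D9662 (iv D9662)
theorem F30847 : act 7 n9662 = n9662 := d24_2 F25450 D9662 (iv D9662)
def n9663 : Q := act 6 n8042
theorem D9663 : act 6 n8042 = n9663 := rfl
theorem F30848 : act 0 n9663 = n9663 := d5_1 D9663 (iv D9663) F25453
theorem F30849 : act 2 n9663 = n8405 := d16_1 D9663 (iv D8405) (iv F25454)
theorem F30850 : act 4 n9663 = n8043 := d23_1 D9663 (iv D8043) D8042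
theorem F30851 : act 7 n9663 = n8418 := d27_2 (iv F25456) D9663 (iv D8418) F21440 (iv F20038)
def n9664 : Q := act 5 n8043
theorem D9664 : act 5 n8043 = n9664 := rfl
theorem F30852 : act 0 n9664 = n9664 := d4_1 D9664 (iv D9664) F25457
theorem F30853 : act 2 n9664 = n8422 := d15_1 D9664 F26811 (iv F25458)
theorem F30854 : act 3 n9664 = n8044 := d19_1 D9664 (iv D8044) (iv F25459)
theorem F30855 : act 6 n9664 = n9664 := d25_2 D8043 D9664 (iv D9664) (iv D8043) F20031
theorem F30856 : act 7 n9664 = n8419 := d26_2 (iv F25460) D9664 (iv D8419)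
def n9665 : Q := act 1 n8044
theorem D9665 : act 1 n8044 = n9665 := rfl
theorem F30857 : act 6 n9665 = n9665 := d11_2 F25462 D9665 (iv D9665)
def n9666 : Q := act 1 n8047
theorem D9666 : act 1 n8047 = n9666 := rfl
theorem F30858 : act 2 n9666 = n9666 := d7_2 D8047 D9666 (iv D9666) (iv D8047) F20052
theorem F30859 : act 5 n9666 = n9110 := d10_2 (iv F25475) D9666 (iv D9110) F23780 D7514
theorem F30860 : act 7 n9666 = n9666 := d12_2 F25476 D9666 (iv D9666)
theorem F30861 : act 6 n9259 = n9666 := d25_0 F30859 F29571 F24217 D7646 D9259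
def n9667 : Q := act 4 n8047
theorem D9667 : act 4 n8047 = n9667 := rfl
theorem F30862 : act 0 n9667 = n9341 := d3_1 D9667 F29813 (iv F25474)
theorem F30863 : act 2 n9667 = n8048 := d14_1 D9667 (iv D8048) D8047
theorem F30864 : act 5 n9667 = n9115 := d22_2 (iv F25475) D9667 (iv D9115)
theorem F30865 : act 7 n9667 = n9667 := d24_2 F25476 D9667 (iv D9667)
theorem F30866 : act 6 n9487 = n9667 := d25_0 F30864 F29077 F24779 D7844 D9487
def n9668 : Q := act 6 n8047
theorem D9668 : act 6 n8047 = n9668 := rfl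
theorem F30867 : act 0 n9668 = n9365 := d5_1 D9668 (iv D9365) (iv F25474)
theorem F30868 : act 1 n9668 = n9259 := d11_1 D9668 F30861 (iv D9666)
theorem F30869 : act 2 n9668 = n8049 := d16_1 D9668 (iv D8049) D8047
theorem F30870 : act 4 n9668 = n9487 := d23_1 D9668 F30866 (iv D9667)
theorem F30871 : act 5 n9668 = n9482 := d25_1 D9668 (iv D9482) F24766 F24661 (iv F25475)
theorem F30872 : act 7 n9260 = n9668 := d30_29 (iv D9668) F25475 (iv D7514) (iv D5912) (iv D4434) (iv D3181) (iv D2199) (iv F5969) (iv D1917) F4086 F4087 (iv F5618) D2657 D3797 D5179 D6761 (iv F23843) (iv F29101) (iv D9121) F23840 F22768 (iv F23951) D9165 (iv F29242) F25538 F25537 (iv F30401) (iv D9543) (iv F29556)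
def n9669 : Q := act 5 n8051
theorem D9669 : act 5 n8051 = n9669 := rfl
theorem F30873 : act 1 n9669 = n9669 := d10_1 D9669 (iv D9669) F25495 F24019 (iv F25495)
theorem F30874 : act 2 n9669 = n8052 := d15_1 D9669 (iv D8052) (iv F25496)
theorem F30875 : act 3 n9669 = n9188 := d19_1 D9669 (iv D9188) (iv F25497)
theorem F30876 : act 4 n9669 = n9669 := d22_1 D9669 (iv D9669) F25498
theorem F30877 : act 6 n9669 = n9669 := d25_2 D8051 D9669 (iv D9669) (iv D8051) F20058
theorem F30878 : act 7 n9669 = n9635 := d31_1 D9669 F30741 F30739 (iv D8006) (iv D6363) F14933 (iv D4827) (iv D3500) (iv F10418) D4684 F14483 D4686 D6200 (iv F24745) F24744 D7836 (iv F30203) F30205 F26014 F24143 (iv F26765) (iv D8409) (iv F25733) F25735 (iv D8105) F20312 D7881 (iv F24894) (iv F25497)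
def n9670 : Q := act 7 n8051
theorem D9670 : act 7 n8051 = n9670 := rfl
theorem F30879 : act 0 n9670 = n9669 := d6_1 D9670 F30878 F30737
theorem F30880 : act 1 n9670 = n9189 := d12_1 D9670 (iv D9189) (iv F25495)
theorem F30881 : act 2 n9670 = n8053 := d17_1 D9670 (iv D8053) (iv F25496)
theorem F30882 : act 4 n9670 = n9670 := d24_1 D9670 (iv D9670) F25498
theorem F30883 : act 5 n9670 = n9635 := d26_1 D9670 (iv F30878) (iv D9669)
theorem F30884 : act 6 n9670 = n9670 := d27_1 D9670 (iv D9670) (iv D8051) F20059 D8051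
theorem F30885 : act 3 n9670 = n9543 := d29_10 F10210 (iv F13449) F13448 (iv F17564) D7166 (iv F22818) (iv F24895) F24896 (iv F25497) D9670 (iv D9543) (iv D7889) (iv D6229) (iv D4705) F10461 (iv F13691) F13692 (iv F16977) F16979 (iv D4241) (iv D3025) (iv D2072) (iv D1399) D1400 D2074 D3029 D4247 F14208 (iv D4583)
def n9671 : Q := act 1 n8054
theorem D9671 : act 1 n8054 = n9671 := rfl
theorem F30886 : act 2 n9671 = n9527 := d7_2 D8054 D9671 F30355 F24884 F21817
theorem F30887 : act 5 n9671 = n9081 := d10_2 (iv F25509) D9671 F28981 F25520 (iv D8056)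
theorem F30888 : act 7 n9671 = n8065 := d12_2 (iv F25510) D9671 (iv D8065)
theorem F30889 : act 4 n9083 = n9671 := d24_3 F30888 (iv F25557) D9083
def n9672 : Q := act 4 n8054
theorem D9672 : act 4 n8054 = n9672 := rfl
theorem F30890 : act 0 n9672 = n9438 := d3_1 D9672 (iv F30744) F30742
theorem F30891 : act 1 n9672 = n9083 := d9_1 D9672 F30889 (iv D9671)
theorem F30892 : act 2 n9672 = n8055 := d14_1 D9672 (iv D8055) D8054
theorem F30893 : act 5 n9672 = n8057 := d22_2 (iv F25509) D9672 (iv D8057)
theorem F30894 : act 6 n9672 = n9636 := d23_2 F30073 D9672 F30744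
theorem F30895 : act 7 n9672 = n8066 := d24_2 (iv F25510) D9672 (iv D8066)
def n9673 : Q := act 0 n8056
theorem D9673 : act 0 n8056 = n9673 := rfl
theorem F30896 : act 2 n9673 = n9673 := d1_2 F25517 D9673 (iv D9673)
theorem F30897 : act 4 n9673 = n9469 := d3_2 F25519 D9673 F30162
theorem F30898 : act 5 n9673 = n9466 := d4_2 F25520 D9673 F30154
theorem F30899 : act 7 n9673 = n8070 := d6_2 (iv F25518) D9673 (iv D8070)
def n9674 : Q := act 6 n8056
theorem D9674 : act 6 n8056 = n9674 := rfl
theorem F30900 : act 1 n9674 = n8058 := d11_1 D9674 (iv D8058) D8056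
theorem F30901 : act 2 n9674 = n9674 := d16_1 D9674 (iv D9674) F25517
theorem F30902 : act 4 n9674 = n9507 := d23_1 D9674 (iv D9507) F25519
theorem F30903 : act 7 n9674 = n9674 := d27_2 (iv F25518) D9674 (iv D9674) F25518 F20105
def n9675 : Q := act 3 n8057
theorem D9675 : act 3 n8057 = n9675 := rfl
theorem F30904 : act 1 n9675 = n9506 := d8_1 D9675 (iv D9506) (iv F25521)
theorem F30905 : act 7 n9675 = n9513 := d21_2 (iv F25523) D9675 (iv D9513) (iv D7865) F21806
def n9676 : Q := act 6 n8057
theorem D9676 : act 6 n8057 = n9676 := rfl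
theorem F30906 : act 1 n9676 = n9507 := d11_1 D9676 (iv D9507) (iv F25521)
theorem F30907 : act 2 n9676 = n8059 := d16_1 D9676 (iv D8059) (iv F25522)
theorem F30908 : act 4 n9676 = n8058 := d23_1 D9676 (iv D8058) D8057
theorem F30909 : act 5 n9676 = n9639 := d25_1 D9676 (iv D9639) (iv F30745) (iv F30894) F30893
theorem F30910 : act 7 n9676 = n9676 := d27_2 (iv F25523) D9676 (iv D9676) F25523 F20107
def n9677 : Q := act 5 n8058
theorem D9677 : act 5 n8058 = n9677 := rfl
theorem F30911 : act 0 n9677 = n9676 := d4_1 D9677 F30909 F30755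
theorem F30912 : act 2 n9677 = n8060 := d15_1 D9677 (iv D8060) (iv F25524)
theorem F30913 : act 4 n9677 = n9639 := d22_1 D9677 (iv F30909) F30908
theorem F30914 : act 6 n9677 = n9638 := d25_2 D8058 D9677 F30753 F30073 F25509
theorem F30915 : act 7 n9677 = n9677 := d26_2 F25525 D9677 (iv D9677)
def n9678 : Q := act 1 n8062
theorem D9678 : act 1 n8062 = n9678 := rfl
theorem F30916 : act 0 n9678 = n9625 := d0_1 D9678 F30706 F27944 (iv F24310) (iv F25539)
theorem F30917 : act 2 n9678 = n8065 := d7_2 D8062 D9678 (iv D8065) (iv D6418) (iv F20091)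
theorem F30918 : act 3 n9678 = n9678 := d8_2 F25540 D9678 (iv D9678)
theorem F30919 : act 4 n9678 = n9077 := d9_2 F25684 D9678 (iv F28965)
theorem F30920 : act 6 n9678 = n9274 := d11_2 F25543 D9678 F29617
theorem F30921 : act 7 n9678 = n9527 := d12_2 (iv F25542) D9678 F30355
theorem F30922 : act 5 n9678 = n9075 := d28_5 (iv F21768) F15034 D6416 D8062 D9678 (iv D9075) F23681 (iv D6358) (iv D4824) (iv D3496) (iv D2440) (iv D1669) (iv D1135) (iv D772) F1730 (iv F2501) (iv F3459) (iv D1082) (iv F3165) D1474 (iv F6690) F6693 (iv D1585) F3433 F2375 (iv F3148) (iv F3149) F2372 (iv F2177) F2176 (iv F2167) F2166 F2169 (iv D507) (iv F1675) (iv D504) (iv D279) (iv F892) (iv F1665) (iv F2430) F2431 F2428 (iv F2461) D1113 D1638 D2397 (iv F8210) D3810 F11766 F9357 F9071 F6634 (iv F6836) D3190 F9844 F9840 F9843 F9842 (iv F13731) D5922 (iv F20162) (iv D6441)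
def n9679 : Q := act 0 n8065
theorem D9679 : act 0 n8065 = n9679 := rfl
theorem F30923 : act 2 n9679 = n9625 := d1_2 F30917 D9679 (iv F30916)
theorem F30924 : act 3 n9679 = n8071 := d2_2 (iv F25555) D9679 (iv D8071)
theorem F30925 : act 4 n9679 = n9055 := d3_2 F25557 D9679 F28887
theorem F30926 : act 5 n9679 = n9054 := d4_2 (iv F25556) D9679 F28883
def n9680 : Q := act 6 n8065
theorem D9680 : act 6 n8065 = n9680 := rfl
theorem F30927 : act 1 n9680 = n8067 := d11_1 D9680 (iv D8067) D8065
theorem F30928 : act 2 n9680 = n9274 := d16_1 D9680 (iv F30920) F30917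
theorem F30929 : act 3 n9680 = n8072 := d20_1 D9680 (iv D8072) (iv F25555)
theorem F30930 : act 4 n9680 = n8565 := d23_1 D9680 F27333 F25557
theorem F30931 : act 5 n9680 = n8564 := d25_1 D9680 (iv D8564) F22061 D7487 (iv F25556)
theorem F30932 : act 7 n8976 = n9680 := d26_0 F30931 (iv F27330) (iv F28646)
def n9681 : Q := act 6 n8066
theorem D9681 : act 6 n8066 = n9681 := rfl
theorem F30933 : act 1 n9681 = n8565 := d11_1 D9681 F27333 (iv F25558)
theorem F30934 : act 2 n9681 = n8068 := d16_1 D9681 (iv D8068) (iv F25559)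
theorem F30935 : act 3 n9681 = n8568 := d20_1 D9681 F27340 (iv F25560)
theorem F30936 : act 4 n9681 = n8067 := d23_1 D9681 (iv D8067) D8066
theorem F30937 : act 5 n9681 = n9681 := d25_1 D9681 (iv D9681) F25561 F20107 (iv F25561)
theorem F30938 : act 7 n9681 = n9642 := d27_2 F30895 D9681 (iv D9642) (iv F30746) (iv F30894)
def n9682 : Q := act 7 n8067
theorem D9682 : act 7 n8067 = n9682 := rfl
theorem F30939 : act 0 n9682 = n9681 := d6_1 D9682 F30938 F30766
theorem F30940 : act 1 n9682 = n8976 := d12_1 D9682 F30932 F30927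
theorem F30941 : act 2 n9682 = n8069 := d17_1 D9682 (iv D8069) (iv F25562)
theorem F30942 : act 3 n9682 = n8975 := d21_1 D9682 (iv D8975) F25596 (iv D8074) (iv F25563)
theorem F30943 : act 4 n9682 = n9642 := d24_1 D9682 (iv F30938) F30936
theorem F30944 : act 5 n9682 = n9682 := d26_1 D9682 (iv D9682) F25564
theorem F30945 : act 6 n9682 = n9641 := d27_1 D9682 F30765 F30073 F25510 D8067
def n9683 : Q := act 6 n8071
theorem D9683 : act 6 n8071 = n9683 := rfl
theorem F30946 : act 0 n9683 = n8072 := d5_1 D9683 (iv D8072) D8071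
theorem F30947 : act 2 n9683 = n9683 := d16_1 D9683 (iv D9683) F25580
theorem F30948 : act 4 n9683 = n8540 := d23_1 D9683 F27221 (iv F25581)
theorem F30949 : act 5 n9683 = n8194 := d25_1 D9683 (iv D8194) F20713 D7471 (iv F25582)
theorem F30950 : act 7 n8491 = n9683 := d26_0 F30949 F26053 D8491
def n9684 : Q := act 7 n8073
theorem D9684 : act 7 n8073 = n9684 := rfl
theorem F30951 : act 0 n9684 = n8504 := d6_1 D9684 (iv F30799) F30794
theorem F30952 : act 1 n9684 = n8576 := d12_1 D9684 (iv D8576) (iv F25588)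
theorem F30953 : act 2 n9684 = n8075 := d17_1 D9684 (iv D8075) (iv F25589)
theorem F30954 : act 4 n9684 = n8074 := d24_1 D9684 (iv D8074) (iv F25591)
theorem F30955 : act 5 n9684 = n9684 := d26_1 D9684 (iv D9684) F25592
theorem F30956 : act 6 n9684 = n8508 := d27_1 D9684 F30457 (iv D9559) F24937 D8073
def n9685 : Q := act 3 n8075
theorem D9685 : act 3 n8075 = n9685 := rfl
theorem F30957 : act 0 n9685 = n8503 := d2_1 D9685 F27085 (iv F25597)
theorem F30958 : act 1 n9685 = n9685 := d8_1 D9685 (iv D9685) F25598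
theorem F30959 : act 4 n9685 = n9685 := d18_2 (iv F25599) D9685 (iv D9685) F25599 F20118
theorem F30960 : act 5 n9685 = n9685 := d19_2 F25600 D9685 (iv D9685)
theorem F30961 : act 6 n9685 = n8506 := d20_2 (iv F25601) D9685 F27098
theorem F30962 : act 7 n9685 = n9685 := d21_2 D8075 D9685 (iv D9685) (iv D8075) F20114
def n9686 : Q := act 5 n8076
theorem D9686 : act 5 n8076 = n9686 := rfl
theorem F30963 : act 2 n9686 = n8799 := d15_1 D9686 F28087 (iv F25603)
theorem F30964 : act 7 n9686 = n8795 := d26_2 (iv F25604) D9686 (iv D8795)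
def n9687 : Q := act 6 n8079
theorem D9687 : act 6 n8079 = n9687 := rfl
theorem F30965 : act 1 n9687 = n8083 := d11_1 D9687 (iv D8083) (iv F25616)
theorem F30966 : act 3 n9687 = n8080 := d20_1 D9687 (iv D8080) D8079
theorem F30967 : act 7 n9687 = n9164 := d27_2 (iv F25618) D9687 (iv D9164) F23949 D7582
def n9688 : Q := act 5 n8080
theorem D9688 : act 5 n8080 = n9688 := rfl
theorem F30968 : act 2 n9688 = n8081 := d15_1 D9688 (iv D8081) (iv F25620)
theorem F30969 : act 4 n9688 = n9688 := d22_1 D9688 (iv D9688) F25621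
theorem F30970 : act 6 n9688 = n9688 := d25_2 D8080 D9688 (iv D9688) (iv D8080) F20181
theorem F30971 : act 7 n9688 = n8507 := d26_2 F25622 D9688 F27103
def n9689 : Q := act 6 n8082
theorem D9689 : act 6 n8082 = n9689 := rfl
theorem F30972 : act 0 n9689 = n9689 := d5_1 D9689 (iv D9689) F25627
theorem F30973 : act 2 n9689 = n9169 := d16_1 D9689 F29262 (iv F25628)
theorem F30974 : act 3 n9689 = n9689 := d20_1 D9689 (iv D9689) F25629
theorem F30975 : act 4 n9689 = n8083 := d23_1 D9689 (iv D8083) D8082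
theorem F30976 : act 5 n9689 = n8380 := d25_1 D9689 F26658 F25668 (iv D8089) (iv F25630)
theorem F30977 : act 7 n9689 = n9166 := d27_2 (iv F25631) D9689 (iv D9166) F23953 D7584
def n9690 : Q := act 5 n8083
theorem D9690 : act 5 n8083 = n9690 := rfl
theorem F30978 : act 0 n9690 = n9690 := d4_1 D9690 (iv D9690) F25632
theorem F30979 : act 2 n9690 = n9171 := d15_1 D9690 F29267 (iv F25633)
theorem F30980 : act 3 n9690 = n8084 := d19_1 D9690 (iv D8084) (iv F25634)
theorem F30981 : act 4 n9690 = n8380 := d22_1 D9690 (iv F30976) F30975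
theorem F30982 : act 6 n9690 = n8090 := d25_2 D8083 D9690 (iv D8090) (iv D6456) (iv F20188)
theorem F30983 : act 7 n9690 = n9167 := d26_2 (iv F25635) D9690 (iv D9167)
theorem F30984 : act 1 n9690 = n8381 := d29_6 (iv F15191) (iv F15192) F15122 (iv F20188) D8083 D9690 F26661 (iv F26615) (iv F30547) (iv D9581) (iv D7930) (iv F24411) (iv F29756) F29757 F27803 F22520 F17316 F12712 (iv D2978) F6291 (iv F6276) D2968 F9154 (iv D2509) (iv F7695) (iv F9920) F9921 (iv F13873) (iv F15089)
def n9691 : Q := act 3 n8085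
theorem D9691 : act 3 n8085 = n9691 := rfl
theorem F30985 : act 0 n9691 = n9691 := d2_1 D9691 (iv D9691) F25640
theorem F30986 : act 1 n9691 = n8513 := d8_1 D9691 (iv D8513) (iv F25641)
theorem F30987 : act 2 n9691 = n9133 := d13_1 D9691 F29140 (iv F23893) F23894 (iv F25642)
theorem F30988 : act 5 n9691 = n9597 := d19_2 F27269 D9691 F30598
theorem F30989 : act 6 n9691 = n9691 := d20_2 F25644 D9691 (iv D9691)
theorem F30990 : act 7 n9691 = n9130 := d21_2 D8085 D9691 F29126 (iv F25635) F25634
theorem F30991 : act 4 n9598 = n9691 := d24_3 F30990 F29127 D9598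
def n9692 : Q := act 4 n8092
theorem D9692 : act 4 n8092 = n9692 := rfl
theorem F30992 : act 1 n9692 = n9692 := d9_1 D9692 (iv D9692) F25672
theorem F30993 : act 3 n9692 = n9692 := d18_1 D9692 (iv D9692) (iv D8092) F20233 D8092
theorem F30994 : act 5 n9692 = n8575 := d22_2 F27310 D9692 F27356
theorem F30995 : act 6 n9692 = n8096 := d23_2 (iv F25673) D9692 (iv D8096)
def n9693 : Q := act 6 n8101
theorem D9693 : act 6 n8101 = n9693 := rfl
theorem F30996 : act 0 n9693 = n8199 := d5_1 D9693 (iv D8199) (iv F25709)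
theorem F30997 : act 1 n9693 = n9504 := d11_1 D9693 (iv D9504) (iv F25710)
theorem F30998 : act 2 n9693 = n8113 := d16_1 D9693 (iv D8113) (iv F25711)
theorem F30999 : act 3 n9693 = n9082 := d20_1 D9693 (iv D9082) (iv F25712)
theorem F31000 : act 4 n9693 = n8107 := d23_1 D9693 (iv D8107) (iv F25713)
def n9694 : Q := act 2 n8102
theorem D9694 : act 2 n8102 = n9694 := rfl
theorem F31001 : act 0 n9694 = n8200 := d1_1 D9694 (iv D8200) (iv F25715)
theorem F31002 : act 3 n9694 = n8114 := d13_2 D8102 D9694 (iv D8114) (iv D6487) (iv F20309)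
theorem F31003 : act 4 n9694 = n8558 := d14_2 F25719 D9694 F27302
theorem F31004 : act 5 n9694 = n9076 := d15_2 (iv F25717) D9694 F28958
theorem F31005 : act 7 n9694 = n8556 := d17_2 (iv F25718) D9694 F27293
def n9695 : Q := act 6 n8102
theorem D9695 : act 6 n8102 = n9695 := rfl
theorem F31006 : act 0 n9695 = n8202 := d5_1 D9695 (iv D8202) (iv F25715)
theorem F31007 : act 1 n9695 = n9695 := d11_1 D9695 (iv D9695) F25716
theorem F31008 : act 3 n9695 = n8103 := d20_1 D9695 (iv D8103) D8102
theorem F31009 : act 4 n9695 = n8567 := d23_1 D9695 (iv D8567) F25719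
theorem F31010 : act 7 n9695 = n8750 := d27_2 (iv F25718) D9695 F27961 F27330 (iv D8564)
def n9696 : Q := act 5 n8103
theorem D9696 : act 5 n8103 = n9696 := rfl
theorem F31011 : act 0 n9696 = n8203 := d4_1 D9696 (iv D8203) (iv F25720)
theorem F31012 : act 2 n9696 = n8117 := d15_1 D9696 (iv D8117) (iv F25722)
theorem F31013 : act 4 n9696 = n8111 := d22_1 D9696 (iv D8111) (iv F25723)
theorem F31014 : act 7 n9696 = n8747 := d26_2 (iv F25724) D9696 (iv D8747)
def n9697 : Q := act 6 n8105
theorem D9697 : act 6 n8105 = n9697 := rfl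
theorem F31015 : act 0 n9697 = n8412 := d5_1 D9697 (iv D8412) (iv F25730)
theorem F31016 : act 1 n9697 = n8107 := d11_1 D9697 (iv D8107) (iv F25731)
theorem F31017 : act 2 n9697 = n9687 := d16_1 D9697 (iv D9687) (iv F25732)
theorem F31018 : act 3 n9697 = n8409 := d20_1 D9697 (iv D8409) (iv F25733)
theorem F31019 : act 4 n9697 = n9504 := d23_1 D9697 (iv D9504) (iv F25734)
def n9698 : Q := act 6 n8106
theorem D9698 : act 6 n8106 = n9698 := rfl
theorem F31020 : act 0 n9698 = n8210 := d5_1 D9698 (iv D8210) (iv F25736)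
theorem F31021 : act 1 n9698 = n8409 := d11_1 D9698 (iv D8409) (iv F25737)
theorem F31022 : act 2 n9698 = n8408 := d16_1 D9698 (iv D8408) (iv F25738)
theorem F31023 : act 3 n9698 = n8107 := d20_1 D9698 (iv D8107) D8106
theorem F31024 : act 4 n9698 = n8890 := d23_1 D9698 (iv D8890) (iv F25739)
def n9699 : Q := act 5 n8107
theorem D9699 : act 5 n8107 = n9699 := rfl
theorem F31025 : act 0 n9699 = n8211 := d4_1 D9699 (iv D8211) (iv F25742)
theorem F31026 : act 2 n9699 = n8118 := d15_1 D9699 (iv D8118) (iv F25743)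
theorem F31027 : act 6 n9699 = n8111 := d25_2 D8107 D9699 (iv D8111) (iv D6485) (iv F20316)
def n9700 : Q := act 4 n8108
theorem D9700 : act 4 n8108 = n9700 := rfl
theorem F31028 : act 0 n9700 = n8212 := d3_1 D9700 (iv D8212) (iv F25744)
theorem F31029 : act 1 n9700 = n8394 := d9_1 D9700 F26708 F25748
theorem F31030 : act 2 n9700 = n8109 := d14_1 D9700 (iv D8109) D8108
theorem F31031 : act 5 n9700 = n8406 := d22_2 (iv F25746) D9700 F26754
theorem F31032 : act 7 n9700 = n8358 := d24_2 (iv F25747) D9700 F26587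
def n9701 : Q := act 6 n8108
theorem D9701 : act 6 n8108 = n9701 := rfl
theorem F31033 : act 0 n9701 = n8213 := d5_1 D9701 (iv D8213) (iv F25744)
theorem F31034 : act 1 n9701 = n8395 := d11_1 D9701 (iv D8395) F25748
theorem F31035 : act 2 n9701 = n8110 := d16_1 D9701 (iv D8110) D8108
theorem F31036 : act 3 n9701 = n8120 := d20_1 D9701 (iv D8120) (iv F25745)
def n9702 : Q := act 6 n8109
theorem D9702 : act 6 n8109 = n9702 := rfl
theorem F31037 : act 0 n9702 = n8214 := d5_1 D9702 (iv D8214) (iv F25749)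
theorem F31038 : act 1 n9702 = n9702 := d11_1 D9702 (iv D9702) F25750
theorem F31039 : act 3 n9702 = n8567 := d20_1 D9702 (iv D8567) (iv F25751)
theorem F31040 : act 4 n9702 = n8110 := d23_1 D9702 (iv D8110) D8109
def n9703 : Q := act 5 n8110
theorem D9703 : act 5 n8110 = n9703 := rfl
theorem F31041 : act 0 n9703 = n8215 := d4_1 D9703 (iv D8215) (iv F25754)
theorem F31042 : act 3 n9703 = n8111 := d19_1 D9703 (iv D8111) (iv F25756)
def n9704 : Q := act 7 n8110
theorem D9704 : act 7 n8110 = n9704 := rfl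
theorem F31043 : act 0 n9704 = n8216 := d6_1 D9704 (iv D8216) (iv F25754)
theorem F31044 : act 1 n9704 = n9704 := d12_1 D9704 (iv D9704) F25755
theorem F31045 : act 3 n9704 = n9213 := d21_1 D9704 (iv D9213) F24092 F21319 (iv F25756)
theorem F31046 : act 6 n9704 = n8597 := d27_1 D9704 (iv D8597) (iv D6999) (iv F20319) D8110
def n9705 : Q := act 1 n8111
theorem D9705 : act 1 n8111 = n9705 := rfl
theorem F31047 : act 5 n9705 = n9705 := d10_2 D8111 D9705 (iv D9705) (iv D8111) F20321
def n9706 : Q := act 2 n8112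
theorem D9706 : act 2 n8112 = n9706 := rfl
theorem F31048 : act 0 n9706 = n8220 := d1_1 D9706 (iv D8220) (iv F25759)
theorem F31049 : act 1 n9706 = n9706 := d7_1 D9706 (iv D9706) (iv F29336) F29337 F29336
theorem F31050 : act 3 n9706 = n9076 := d13_2 D8112 D9706 F28958 (iv F25712) F25711
theorem F31051 : act 5 n9706 = n8114 := d15_2 (iv F25760) D9706 (iv D8114)
theorem F31052 : act 7 n9706 = n9706 := d17_2 F25761 D9706 (iv D9706)
def n9707 : Q := act 6 n8112
theorem D9707 : act 6 n8112 = n9707 := rfl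
theorem F31053 : act 0 n9707 = n8222 := d5_1 D9707 (iv D8222) (iv F25759)
theorem F31054 : act 3 n9707 = n8113 := d20_1 D9707 (iv D8113) D8112
def n9708 : Q := act 5 n8113
theorem D9708 : act 5 n8113 = n9708 := rfl
theorem F31055 : act 0 n9708 = n8223 := d4_1 D9708 (iv D8223) (iv F25762)
theorem F31056 : act 4 n9708 = n8118 := d22_1 D9708 (iv D8118) (iv F25763)
theorem F31057 : act 6 n9708 = n8117 := d25_2 D8113 D9708 (iv D8117) (iv D6488) (iv F20325)
def n9709 : Q := act 1 n8114
theorem D9709 : act 1 n8114 = n9709 := rfl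
theorem F31058 : act 0 n9709 = n9709 := d0_1 D9709 (iv D9709) F25764 F20764 (iv F25764)
theorem F31059 : act 2 n9709 = n8125 := d7_2 D8114 D9709 (iv D8125) (iv D6496) (iv F20327)
theorem F31060 : act 5 n9709 = n9709 := d10_2 F31051 D9709 (iv D9709) (iv F31051) F31049
theorem F31061 : act 7 n9709 = n9709 := d12_2 F25765 D9709 (iv D9709)
theorem F31062 : act 6 n9596 = n9709 := d30_0 F31060 (iv D9709) (iv D8114) (iv D6487) (iv D4920) F11002 (iv F13758) F13755 (iv F17562) (iv F20730) (iv F20732) D6865 D8470 (iv F30459) F30460 F24948 (iv D7902) (iv D6238) F14552 F10468 D3404 (iv F13702) F13704 (iv F14406) F14405 (iv F14864) D6335 (iv F25107) D9596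
def n9710 : Q := act 4 n8114
theorem D9710 : act 4 n8114 = n9710 := rfl
theorem F31063 : act 0 n9710 = n8224 := d3_1 D9710 (iv D8224) (iv F25764)
theorem F31064 : act 2 n9710 = n8115 := d14_1 D9710 (iv D8115) D8114
theorem F31065 : act 7 n9710 = n9710 := d24_2 F25765 D9710 (iv D9710)
def n9711 : Q := act 6 n8114
theorem D9711 : act 6 n8114 = n9711 := rfl
theorem F31066 : act 0 n9711 = n8225 := d5_1 D9711 (iv D8225) (iv F25764)
theorem F31067 : act 1 n9711 = n9596 := d11_1 D9711 F31062 (iv D9709)
theorem F31068 : act 2 n9711 = n8116 := d16_1 D9711 (iv D8116) D8114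
theorem F31069 : act 7 n9592 = n9711 := d17_0 F31068 (iv F25773) D9592
def n9712 : Q := act 6 n8115
theorem D9712 : act 6 n8115 = n9712 := rfl
theorem F31070 : act 0 n9712 = n8226 := d5_1 D9712 (iv D8226) (iv F25766)
theorem F31071 : act 1 n9712 = n8126 := d11_1 D9712 (iv D8126) (iv F25767)
theorem F31072 : act 3 n9712 = n8121 := d20_1 D9712 (iv D8121) (iv F25768)
theorem F31073 : act 4 n9712 = n8116 := d23_1 D9712 (iv D8116) D8115
theorem F31074 : act 7 n9593 = n9712 := d24_0 F31073 (iv F25773) D9593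
def n9713 : Q := act 5 n8116
theorem D9713 : act 5 n8116 = n9713 := rfl
theorem F31075 : act 0 n9713 = n8227 := d4_1 D9713 (iv D8227) (iv F25770)
theorem F31076 : act 3 n9713 = n8117 := d19_1 D9713 (iv D8117) (iv F25772)
theorem F31077 : act 7 n9713 = n9594 := d26_2 F25773 D9713 (iv D9594)
def n9714 : Q := act 1 n8117
theorem D9714 : act 1 n8117 = n9714 := rfl
theorem F31078 : act 4 n9714 = n8123 := d9_2 (iv F25775) D9714 (iv D8123)
theorem F31079 : act 5 n9714 = n8128 := d10_2 D8117 D9714 (iv D8128) (iv D6499) (iv F20330)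
theorem F31080 : act 7 n9714 = n9278 := d12_2 (iv F25776) D9714 (iv D9278)
def n9715 : Q := act 1 n8118
theorem D9715 : act 1 n8118 = n9715 := rfl
theorem F31081 : act 6 n9715 = n8123 := d11_2 (iv F25778) D9715 (iv D8123)
def n9716 : Q := act 3 n8119
theorem D9716 : act 3 n8119 = n9716 := rfl
theorem F31082 : act 0 n9716 = n8238 := d2_1 D9716 (iv D8238) (iv F25779)
theorem F31083 : act 1 n9716 = n8431 := d8_1 D9716 F26834 (iv F25780)
theorem F31084 : act 5 n9716 = n8447 := d19_2 (iv F25782) D9716 F26881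
def n9717 : Q := act 6 n8119
theorem D9717 : act 6 n8119 = n9717 := rfl
theorem F31085 : act 0 n9717 = n8239 := d5_1 D9717 (iv D8239) (iv F25779)
theorem F31086 : act 1 n9717 = n8438 := d11_1 D9717 F26854 (iv F25780)
theorem F31087 : act 2 n9717 = n8121 := d16_1 D9717 (iv D8121) (iv F25781)
theorem F31088 : act 4 n9717 = n8120 := d23_1 D9717 (iv D8120) D8119
def n9718 : Q := act 5 n8120
theorem D9718 : act 5 n8120 = n9718 := rfl
theorem F31089 : act 0 n9718 = n8240 := d4_1 D9718 (iv D8240) (iv F25784)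
theorem F31090 : act 2 n9718 = n8122 := d15_1 D9718 (iv D8122) (iv F25786)
theorem F31091 : act 6 n9718 = n9686 := d25_2 D8120 D9718 (iv D9686) (iv D8076) (iv F20336)
def n9719 : Q := act 5 n8121
theorem D9719 : act 5 n8121 = n9719 := rfl
theorem F31092 : act 0 n9719 = n8242 := d4_1 D9719 (iv D8242) (iv F25787)
theorem F31093 : act 4 n9719 = n8122 := d22_1 D9719 (iv D8122) (iv F25789)
def n9720 : Q := act 2 n8123
theorem D9720 : act 2 n8123 = n9720 := rfl
theorem F31094 : act 5 n9720 = n8129 := d15_2 (iv F25792) D9720 (iv D8129)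
def n9721 : Q := act 1 n8127
theorem D9721 : act 1 n8127 = n9721 := rfl
theorem F31095 : act 3 n9721 = n8128 := d8_2 (iv F25809) D9721 (iv D8128)
theorem F31096 : act 7 n9721 = n9582 := d12_2 (iv F25810) D9721 F30548
def n9722 : Q := act 3 n8129
theorem D9722 : act 3 n8129 = n9722 := rfl
theorem F31097 : act 1 n9722 = n9722 := d8_1 D9722 (iv D9722) F25813
def n9723 : Q := act 1 n8131
theorem D9723 : act 1 n8131 = n9723 := rfl
theorem F31098 : act 3 n9723 = n9330 := d8_2 (iv F25819) D9723 (iv D9330)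
theorem F31099 : act 5 n9723 = n8138 := d10_2 D8131 D9723 (iv D8138) (iv D6514) (iv F20377)
theorem F31100 : act 6 n9723 = n9191 := d11_2 (iv F25820) D9723 (iv D9191)
theorem F31101 : act 7 n8355 = n9723 := d27_0 F31100 (iv F29344) (iv F29434) F29435 F29290
def n9724 : Q := act 7 n8131
theorem D9724 : act 7 n8131 = n9724 := rfl
theorem F31102 : act 0 n9724 = n8134 := d6_1 D9724 (iv D8134) (iv F25817)
theorem F31103 : act 1 n9724 = n8355 := d12_1 D9724 F31101 (iv D9723)
theorem F31104 : act 2 n9724 = n8627 := d17_1 D9724 (iv D8627) (iv F25818)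
theorem F31105 : act 5 n9724 = n8132 := d26_1 D9724 (iv D8132) D8131
theorem F31106 : act 3 n8337 = n9724 := d19_3 F31105 (iv F25825) D8337
def n9725 : Q := act 7 n8133
theorem D9725 : act 7 n8133 = n9725 := rfl
theorem F31107 : act 1 n9725 = n8134 := d12_1 D9725 (iv D8134) D8133
theorem F31108 : act 4 n9725 = n8191 := d24_1 D9725 (iv D8191) (iv F25826)
theorem F31109 : act 5 n9725 = n8136 := d26_1 D9725 (iv D8136) (iv F25827)
def n9726 : Q := act 3 n8134
theorem D9726 : act 3 n8134 = n9726 := rfl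
theorem F31110 : act 0 n9726 = n8337 := d2_1 D9726 F31106 F31102
theorem F31111 : act 5 n9726 = n8135 := d19_2 (iv F25830) D9726 (iv D8135)
def n9727 : Q := act 6 n8134
theorem D9727 : act 6 n8134 = n9727 := rfl
theorem F31112 : act 2 n9727 = n8636 := d16_1 D9727 (iv D8636) (iv F25829)
theorem F31113 : act 5 n9727 = n9727 := d25_1 D9727 (iv D9727) F25830 F20383 (iv F25830)
def n9728 : Q := act 1 n8140
theorem D9728 : act 1 n8140 = n9728 := rfl
theorem F31114 : act 3 n9728 = n8350 := d8_2 (iv F25852) D9728 (iv D8350)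
theorem F31115 : act 4 n9728 = n9723 := d9_2 (iv F25853) D9728 (iv D9723)
theorem F31116 : act 5 n9728 = n8142 := d10_2 D8140 D9728 (iv D8142) (iv D6519) (iv F20430)
theorem F31117 : act 6 n9728 = n8649 := d11_2 (iv F25854) D9728 (iv D8649)
theorem F31118 : act 7 n8383 = n9728 := d27_0 F31117 F27605 (iv F27710) (iv F29473) F29472
def n9729 : Q := act 7 n8140
theorem D9729 : act 7 n8140 = n9729 := rfl
theorem F31119 : act 0 n9729 = n8144 := d6_1 D9729 (iv D8144) (iv F25850)
theorem F31120 : act 1 n9729 = n8383 := d12_1 D9729 F31118 (iv D9728)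
theorem F31121 : act 2 n9729 = n8786 := d17_1 D9729 (iv D8786) (iv F25851)
theorem F31122 : act 3 n9729 = n8388 := d21_1 D9729 F26685 F26565 (iv D8351) (iv F25852)
theorem F31123 : act 4 n9729 = n9724 := d24_1 D9729 (iv D9724) (iv F25853)
theorem F31124 : act 5 n9729 = n8141 := d26_1 D9729 (iv D8141) D8140
def n9730 : Q := act 3 n8143
theorem D9730 : act 3 n8143 = n9730 := rfl
theorem F31125 : act 0 n9730 = n9208 := d2_1 D9730 (iv D9208) (iv F25865)
theorem F31126 : act 2 n9730 = n8353 := d13_1 D9730 (iv D8353) (iv D6735) (iv F20446) D8143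
theorem F31127 : act 5 n9730 = n8651 := d19_2 (iv F25867) D9730 (iv D8651)
theorem F31128 : act 7 n9730 = n8739 := d21_2 (iv F25868) D9730 (iv D8739) F22656 (iv F21213)
def n9731 : Q := act 3 n8144
theorem D9731 : act 3 n8144 = n9731 := rfl
theorem F31129 : act 0 n9731 = n8388 := d2_1 D9731 (iv F31122) F31119
theorem F31130 : act 5 n9731 = n8145 := d19_2 (iv F25871) D9731 (iv D8145)
theorem F31131 : act 7 n9731 = n8375 := d21_2 D8144 D9731 (iv D8375) (iv D6758) (iv F20454)
def n9732 : Q := act 6 n8144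
theorem D9732 : act 6 n8144 = n9732 := rfl
theorem F31132 : act 2 n9732 = n9615 := d16_1 D9732 (iv D9615) (iv F25869)
theorem F31133 : act 4 n9732 = n9727 := d23_1 D9732 (iv D9727) (iv F25870)
theorem F31134 : act 5 n9732 = n9732 := d25_1 D9732 (iv D9732) F25871 F20460 (iv F25871)
theorem F31135 : act 7 n9732 = n8658 := d27_2 D8144 D9732 (iv D8658) (iv D7059) (iv F20456)
def n9733 : Q := act 2 n8145
theorem D9733 : act 2 n8145 = n9733 := rfl
theorem F31136 : act 0 n9733 = n8389 := d1_1 D9733 (iv D8389) (iv F25872)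
theorem F31137 : act 1 n9733 = n9168 := d7_1 D9733 F29255 F25087 (iv F20462) (iv F25873)
theorem F31138 : act 3 n9733 = n9612 := d13_2 D8145 D9733 (iv D9612) (iv D7972) (iv F20458)
theorem F31139 : act 4 n9733 = n9170 := d14_2 F30489 D9733 F30492
theorem F31140 : act 6 n9733 = n9733 := d16_2 F25874 D9733 (iv D9733)
theorem F31141 : act 7 n9733 = n8377 := d17_2 (iv F25875) D9733 (iv D8377)
def n9734 : Q := act 3 n8147
theorem D9734 : act 3 n8147 = n9734 := rfl
theorem F31142 : act 1 n9734 = n8755 := d8_1 D9734 (iv D8755) (iv F25882)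
theorem F31143 : act 2 n9734 = n8914 := d13_1 D9734 (iv D8914) F23095 (iv F20518) (iv F25883)
theorem F31144 : act 5 n9734 = n8207 := d19_2 (iv F25885) D9734 (iv D8207)
theorem F31145 : act 7 n9734 = n8667 := d21_2 D8147 D9734 (iv D8667) (iv D7066) (iv F20499)
def n9735 : Q := act 6 n8147
theorem D9735 : act 6 n8147 = n9735 := rfl
theorem F31146 : act 0 n9735 = n9233 := d5_1 D9735 F29479 F26672
theorem F31147 : act 1 n9735 = n8756 := d11_1 D9735 (iv D8756) (iv F25882)
theorem F31148 : act 2 n9735 = n8151 := d16_1 D9735 (iv D8151) (iv F25883)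
theorem F31149 : act 4 n9735 = n8761 := d23_1 D9735 (iv D8761) (iv F25884)
theorem F31150 : act 7 n9735 = n8148 := d27_2 D8147 D9735 (iv D8148) (iv D6535) D6534
def n9736 : Q := act 5 n8148
theorem D9736 : act 5 n8148 = n9736 := rfl
theorem F31151 : act 0 n9736 = n9232 := d4_1 D9736 (iv D9232) (iv F25886)
theorem F31152 : act 2 n9736 = n8152 := d15_1 D9736 (iv D8152) (iv F25888)
theorem F31153 : act 3 n9736 = n8882 := d19_1 D9736 (iv D8882) (iv F25889)
theorem F31154 : act 4 n9736 = n8762 := d22_1 D9736 (iv D8762) (iv F25890)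
theorem F31155 : act 6 n9736 = n8150 := d25_2 D8148 D9736 (iv D8150) (iv D6537) (iv F20507)
def n9737 : Q := act 5 n8149
theorem D9737 : act 5 n8149 = n9737 := rfl
theorem F31156 : act 0 n9737 = n9212 := d4_1 D9737 (iv D9212) (iv F25891)
theorem F31157 : act 2 n9737 = n8857 := d15_1 D9737 (iv D8857) (iv F25893)
theorem F31158 : act 3 n9737 = n8150 := d19_1 D9737 (iv D8150) (iv F25894)
theorem F31159 : act 6 n9737 = n8882 := d25_2 D8149 D9737 (iv D8882) (iv D7267) (iv F20511)
def n9738 : Q := act 1 n8150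
theorem D9738 : act 1 n8150 = n9738 := rfl
theorem F31160 : act 4 n9738 = n8982 := d9_2 (iv F25896) D9738 (iv D8982)
theorem F31161 : act 5 n9738 = n8416 := d10_2 D8150 D9738 (iv D8416) (iv D6805) (iv F20513)
theorem F31162 : act 7 n9738 = n8217 := d12_2 (iv F25897) D9738 (iv D8217)
def n9739 : Q := act 5 n8151
theorem D9739 : act 5 n8151 = n9739 := rfl
theorem F31163 : act 3 n9739 = n8925 := d19_1 D9739 (iv D8925) (iv F25899)
theorem F31164 : act 4 n9739 = n9125 := d22_1 D9739 (iv D9125) (iv F25900)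
theorem F31165 : act 6 n9739 = n8230 := d25_2 D8151 D9739 (iv D8230) (iv D6614) (iv F20520)
theorem F31166 : act 7 n9739 = n8152 := d26_2 (iv F25901) D9739 (iv D8152)
def n9740 : Q := act 1 n8152
theorem D9740 : act 1 n8152 = n9740 := rfl
theorem F31167 : act 4 n9740 = n9127 := d9_2 (iv F25902) D9740 (iv D9127)
theorem F31168 : act 5 n9740 = n9118 := d10_2 D8152 D9740 (iv D9118) (iv D7523) (iv F20521)
theorem F31169 : act 6 n9740 = n8155 := d11_2 (iv F25903) D9740 (iv D8155)
def n9741 : Q := act 1 n8153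
theorem D9741 : act 1 n8153 = n9741 := rfl
theorem F31170 : act 0 n9741 = n8191 := d0_1 D9741 F26035 (iv F31119) F31120 F26669
theorem F31171 : act 3 n9741 = n8155 := d8_2 (iv F25904) D9741 (iv D8155)
theorem F31172 : act 5 n9741 = n8158 := d10_2 D8153 D9741 (iv D8158) (iv D6546) (iv F20523)
theorem F31173 : act 7 n8187 = n9741 := d26_0 F31172 F25923 D8187
def n9742 : Q := act 7 n8153
theorem D9742 : act 7 n8153 = n9742 := rfl
theorem F31174 : act 0 n9742 = n9728 := d6_1 D9742 (iv F31118) F26669
theorem F31175 : act 1 n9742 = n8187 := d12_1 D9742 F31173 (iv D9741)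
theorem F31176 : act 3 n9742 = n8244 := d21_1 D9742 (iv D8244) F20796 (iv F20526) (iv F25904)
theorem F31177 : act 5 n9742 = n8154 := d26_1 D9742 (iv D8154) D8153
theorem F31178 : act 6 n9742 = n8737 := d27_1 D9742 (iv F27921) (iv F24669) (iv F29295) F29294
def n9743 : Q := act 0 n8155
theorem D9743 : act 0 n8155 = n9743 := rfl
theorem F31179 : act 1 n9743 = n9731 := d0_2 D8155 D9743 F31129 (iv D8388) F21326
theorem F31180 : act 3 n9743 = n8191 := d2_2 F31171 D9743 (iv F31170)
theorem F31181 : act 4 n9743 = n9281 := d3_2 (iv F25909) D9743 (iv D9281)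
theorem F31182 : act 5 n9743 = n8159 := d4_2 (iv F25910) D9743 (iv D8159)
theorem F31183 : act 7 n9743 = n8245 := d6_2 (iv F25911) D9743 (iv D8245)
def n9744 : Q := act 2 n8155
theorem D9744 : act 2 n8155 = n9744 := rfl
theorem F31184 : act 4 n9744 = n9282 := d14_2 (iv F25909) D9744 (iv D9282)
theorem F31185 : act 5 n9744 = n8160 := d15_2 (iv F25910) D9744 (iv D8160)
theorem F31186 : act 7 n9744 = n8246 := d17_2 (iv F25911) D9744 (iv D8246)
def n9745 : Q := act 5 n8156
theorem D9745 : act 5 n8156 = n9745 := rfl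
theorem F31187 : act 0 n9745 = n8821 := d4_1 D9745 (iv D8821) (iv F25912)
theorem F31188 : act 2 n9745 = n8843 := d15_1 D9745 (iv D8843) (iv F25914)
theorem F31189 : act 3 n9745 = n8425 := d19_1 D9745 (iv D8425) (iv F25915)
theorem F31190 : act 6 n9745 = n8817 := d25_2 D8156 D9745 (iv D8817) (iv D7209) (iv F20534)
def n9746 : Q := act 7 n8156
theorem D9746 : act 7 n8156 = n9746 := rfl
theorem F31191 : act 0 n9746 = n8822 := d6_1 D9746 (iv D8822) (iv F25912)
theorem F31192 : act 1 n9746 = n8157 := d12_1 D9746 (iv D8157) (iv F25913)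
theorem F31193 : act 2 n9746 = n8844 := d17_1 D9746 (iv D8844) (iv F25914)
theorem F31194 : act 6 n9746 = n8163 := d27_1 D9746 (iv D8163) (iv D6550) (iv F20535) D8156
def n9747 : Q := act 2 n8158
theorem D9747 : act 2 n8158 = n9747 := rfl
theorem F31195 : act 0 n9747 = n8190 := d1_1 D9747 F26033 (iv F25920)
theorem F31196 : act 1 n9747 = n8769 := d7_1 D9747 F29715 F29711 F25019 D8158
theorem F31197 : act 6 n9747 = n8458 := d16_2 (iv F25922) D9747 F26921
theorem F31198 : act 7 n9747 = n8186 := d17_2 (iv F25923) D9747 F26022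
def n9748 : Q := act 2 n8159
theorem D9748 : act 2 n8159 = n9748 := rfl
theorem F31199 : act 0 n9748 = n8160 := d1_1 D9748 (iv D8160) D8159
theorem F31200 : act 4 n9748 = n9285 := d14_2 (iv F25926) D9748 (iv D9285)
theorem F31201 : act 6 n9748 = n8477 := d16_2 (iv F25927) D9748 (iv D8477)
theorem F31202 : act 7 n9748 = n8263 := d17_2 (iv F25928) D9748 (iv D8263)
def n9749 : Q := act 3 n8160
theorem D9749 : act 3 n8160 = n9749 := rfl
theorem F31203 : act 1 n9749 = n8430 := d8_1 D9749 (iv D8430) (iv F25929)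
theorem F31204 : act 6 n9749 = n9277 := d20_2 (iv F25931) D9749 (iv D9277)
def n9750 : Q := act 5 n8161
theorem D9750 : act 5 n8161 = n9750 := rfl
theorem F31205 : act 0 n9750 = n8162 := d4_1 D9750 (iv D8162) (iv F25933)
theorem F31206 : act 2 n9750 = n8835 := d15_1 D9750 (iv D8835) (iv F25935)
theorem F31207 : act 3 n9750 = n8169 := d19_1 D9750 (iv D8169) (iv F25936)
theorem F31208 : act 4 n9750 = n9745 := d22_1 D9750 (iv D9745) (iv F25937)
theorem F31209 : act 6 n9750 = n8802 := d25_2 D8161 D9750 (iv D8802) (iv D7195) (iv F20557)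
def n9751 : Q := act 7 n8161
theorem D9751 : act 7 n8161 = n9751 := rfl
theorem F31210 : act 0 n9751 = n8163 := d6_1 D9751 (iv D8163) (iv F25933)
theorem F31211 : act 1 n9751 = n8182 := d12_1 D9751 F26002 (iv F25934)
theorem F31212 : act 2 n9751 = n8836 := d17_1 D9751 (iv D8836) (iv F25935)
theorem F31213 : act 3 n9751 = n8181 := d21_1 D9751 (iv D8181) (iv F23021) F23022 (iv F25936)
theorem F31214 : act 4 n9751 = n9746 := d24_1 D9751 (iv D9746) (iv F25937)
theorem F31215 : act 6 n9751 = n8822 := d27_1 D9751 (iv D8822) (iv D7211) (iv F20558) D8161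
def n9752 : Q := act 7 n8162
theorem D9752 : act 7 n8162 = n9752 := rfl
theorem F31216 : act 1 n9752 = n8169 := d12_1 D9752 (iv F28345) F28342
theorem F31217 : act 5 n9752 = n8163 := d26_1 D9752 (iv D8163) D8162
def n9753 : Q := act 3 n8163
theorem D9753 : act 3 n8163 = n9753 := rfl
theorem F31218 : act 0 n9753 = n8181 := d2_1 D9753 (iv F31213) F31210
theorem F31219 : act 1 n9753 = n8165 := d8_1 D9753 (iv D8165) (iv F25939)
theorem F31220 : act 7 n9753 = n8177 := d21_2 D8163 D9753 (iv D8177) (iv D6563) (iv F20560)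
theorem F31221 : act 4 n9303 = n9753 := d24_3 F31220 (iv F26019) (iv F29714)
def n9754 : Q := act 6 n8166
theorem D9754 : act 6 n8166 = n9754 := rfl
theorem F31222 : act 0 n9754 = n8171 := d5_1 D9754 (iv D8171) (iv F25949)
theorem F31223 : act 1 n9754 = n8771 := d11_1 D9754 (iv D8771) (iv F25950)
theorem F31224 : act 2 n9754 = n8696 := d16_1 D9754 (iv D8696) (iv F25951)
theorem F31225 : act 4 n9754 = n8168 := d23_1 D9754 (iv D8168) (iv F25952)
def n9755 : Q := act 5 n8167
theorem D9755 : act 5 n8167 = n9755 := rfl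
theorem F31226 : act 0 n9755 = n8172 := d4_1 D9755 (iv D8172) (iv F25954)
theorem F31227 : act 2 n9755 = n8697 := d15_1 D9755 (iv D8697) (iv F25956)
theorem F31228 : act 4 n9755 = n8169 := d22_1 D9755 (iv D8169) (iv F25957)
theorem F31229 : act 7 n9755 = n9299 := d26_2 (iv F25958) D9755 (iv D9299)
def n9756 : Q := act 5 n8168
theorem D9756 : act 5 n8168 = n9756 := rfl
theorem F31230 : act 0 n9756 = n8173 := d4_1 D9756 (iv D8173) (iv F25959)
theorem F31231 : act 2 n9756 = n8698 := d15_1 D9756 (iv D8698) (iv F25961)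
theorem F31232 : act 3 n9756 = n8802 := d19_1 D9756 (iv D8802) (iv F25962)
theorem F31233 : act 6 n9756 = n8169 := d25_2 D8168 D9756 (iv D8169) (iv D6557) D6556
def n9757 : Q := act 7 n8168
theorem D9757 : act 7 n8168 = n9757 := rfl
theorem F31234 : act 0 n9757 = n8174 := d6_1 D9757 (iv D8174) (iv F25959)
theorem F31235 : act 1 n9757 = n8773 := d12_1 D9757 (iv D8773) (iv F25960)
theorem F31236 : act 2 n9757 = n8699 := d17_1 D9757 (iv D8699) (iv F25961)
theorem F31237 : act 6 n9757 = n8439 := d27_1 D9757 (iv D8439) (iv D6828) (iv F20584) D8168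
def n9758 : Q := act 5 n8170
theorem D9758 : act 5 n8170 = n9758 := rfl
theorem F31238 : act 3 n9758 = n8172 := d19_1 D9758 (iv D8172) (iv F25966)
def n9759 : Q := act 7 n8170
theorem D9759 : act 7 n8170 = n9759 := rfl
theorem F31239 : act 1 n9759 = n8179 := d12_1 D9759 (iv D8179) (iv F25965)
theorem F31240 : act 3 n9759 = n8452 := d21_1 D9759 F26898 F24318 (iv F20596) (iv F25966)
theorem F31241 : act 6 n9759 = n8447 := d27_1 D9759 F26883 F26705 F21493 D8170
def n9760 : Q := act 5 n8171
theorem D9760 : act 5 n8171 = n9760 := rfl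
theorem F31242 : act 2 n9760 = n8705 := d15_1 D9760 (iv D8705) (iv F25967)
theorem F31243 : act 4 n9760 = n8173 := d22_1 D9760 (iv D8173) (iv F25968)
theorem F31244 : act 6 n9760 = n8172 := d25_2 D8171 D9760 (iv D8172) (iv D6560) D6559
def n9761 : Q := act 7 n8171
theorem D9761 : act 7 n8171 = n9761 := rfl
theorem F31245 : act 2 n9761 = n8706 := d17_1 D9761 (iv D8706) (iv F25967)
theorem F31246 : act 4 n9761 = n8174 := d24_1 D9761 (iv D8174) (iv F25968)
theorem F31247 : act 6 n9761 = n8440 := d27_1 D9761 (iv D8440) (iv D6830) (iv F20592) D8171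
def n9762 : Q := act 1 n8172
theorem D9762 : act 1 n8172 = n9762 := rfl
theorem F31248 : act 4 n9762 = n8175 := d9_2 (iv F25970) D9762 (iv D8175)
theorem F31249 : act 5 n9762 = n8180 := d10_2 D8172 D9762 (iv D8180) (iv D6565) (iv F20593)
theorem F31250 : act 7 n9762 = n9302 := d12_2 (iv F25971) D9762 (iv D9302)
def n9763 : Q := act 1 n8173
theorem D9763 : act 1 n8173 = n9763 := rfl
theorem F31251 : act 6 n9763 = n8175 := d11_2 (iv F25973) D9763 (iv D8175)
def n9764 : Q := act 7 n8173
theorem D9764 : act 7 n8173 = n9764 := rfl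
theorem F31252 : act 2 n9764 = n8709 := d17_1 D9764 (iv D8709) (iv F25972)
theorem F31253 : act 5 n9764 = n8174 := d26_1 D9764 (iv D8174) D8173
def n9765 : Q := act 3 n8174
theorem D9765 : act 3 n8174 = n9765 := rfl
theorem F31254 : act 6 n9765 = n8442 := d20_2 (iv F25975) D9765 (iv D8442)
def n9766 : Q := act 0 n8175
theorem D9766 : act 0 n8175 = n9766 := rfl
theorem F31255 : act 3 n9766 = n8176 := d2_2 F28344 D9766 (iv F28341)
theorem F31256 : act 5 n9766 = n8177 := d4_2 (iv F25976) D9766 F25980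
def n9767 : Q := act 7 n8175
theorem D9767 : act 7 n8175 = n9767 := rfl
theorem F31257 : act 1 n9767 = n8176 := d12_1 D9767 (iv D8176) D8175
theorem F31258 : act 4 n9767 = n9302 := d24_1 D9767 (iv F31250) F31248
theorem F31259 : act 5 n9767 = n8181 := d26_1 D9767 (iv D8181) (iv F25976)
def n9768 : Q := act 6 n8176
theorem D9768 : act 6 n8176 = n9768 := rfl
theorem F31260 : act 2 n9768 = n8713 := d16_1 D9768 (iv D8713) (iv F25977)
theorem F31261 : act 4 n9768 = n9300 := d23_1 D9768 F29706 (iv F25978)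
theorem F31262 : act 5 n9768 = n8443 := d25_1 D9768 (iv D8443) F21522 (iv F20602) (iv F25979)
def n9769 : Q := act 6 n8181
theorem D9769 : act 6 n8181 = n9769 := rfl
theorem F31263 : act 1 n9769 = n8183 := d11_1 D9769 (iv D8183) (iv F25997)
theorem F31264 : act 3 n9769 = n8822 := d20_1 D9769 (iv F31215) F31213
theorem F31265 : act 4 n9769 = n8427 := d23_1 D9769 F26823 (iv F25998)
def n9770 : Q := act 5 n8185
theorem D9770 : act 5 n8185 = n9770 := rfl
theorem F31266 : act 0 n9770 = n9762 := d4_1 D9770 F31249 (iv F26015)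
theorem F31267 : act 2 n9770 = n8768 := d15_1 D9770 (iv D8768) (iv F26017)
theorem F31268 : act 3 n9770 = n8795 := d19_1 D9770 (iv D8795) (iv F26018)
theorem F31269 : act 4 n9770 = n9766 := d22_1 D9770 F31256 (iv F26019)
theorem F31270 : act 6 n9770 = n8772 := d25_2 D8185 D9770 (iv D8772) (iv D7175) (iv F20665)
def n9771 : Q := act 5 n8186
theorem D9771 : act 5 n8186 = n9771 := rfl
theorem F31271 : act 0 n9771 = n8189 := d4_1 D9771 (iv D8189) (iv F26020)
theorem F31272 : act 2 n9771 = n8187 := d15_1 D9771 (iv D8187) (iv F26022)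
theorem F31273 : act 3 n9771 = n8762 := d19_1 D9771 (iv D8762) (iv F26023)
theorem F31274 : act 6 n9771 = n8735 := d25_2 D8186 D9771 (iv D8735) (iv D7142) (iv F20688)
def n9772 : Q := act 5 n8188
theorem D9772 : act 5 n8188 = n9772 := rfl
theorem F31275 : act 0 n9772 = n8762 := d4_1 D9772 (iv D8762) (iv F26026)
theorem F31276 : act 2 n9772 = n9122 := d15_1 D9772 (iv D9122) (iv F26028)
theorem F31277 : act 3 n9772 = n8189 := d19_1 D9772 (iv D8189) (iv F26029)
theorem F31278 : act 4 n9772 = n9232 := d22_1 D9772 (iv D9232) (iv F26030)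
theorem F31279 : act 6 n9772 = n8747 := d25_2 D8188 D9772 (iv D8747) (iv D7155) (iv F20696)
def n9773 : Q := act 7 n8188
theorem D9773 : act 7 n8188 = n9773 := rfl
theorem F31280 : act 0 n9773 = n8761 := d6_1 D9773 F27995 (iv F26026)
theorem F31281 : act 1 n9773 = n9235 := d12_1 D9773 (iv D9235) (iv F26027)
theorem F31282 : act 2 n9773 = n9121 := d17_1 D9773 F29101 (iv F26028)
theorem F31283 : act 4 n9773 = n9233 := d24_1 D9773 (iv D9233) (iv F26030)
theorem F31284 : act 6 n9773 = n8759 := d27_1 D9773 (iv D8759) (iv D7166) F20697 D8188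
def n9774 : Q := act 1 n8189
theorem D9774 : act 1 n8189 = n9774 := rfl
theorem F31285 : act 2 n9774 = n8628 := d7_2 (iv F26031) D9774 (iv D8628) F22282 (iv F20699)
theorem F31286 : act 4 n9774 = n8633 := d9_2 (iv F28306) D9774 (iv F28302)
theorem F31287 : act 5 n9774 = n8640 := d10_2 D8189 D9774 F27566 (iv F22974) F22972
theorem F31288 : act 6 n9774 = n8748 := d11_2 (iv F26032) D9774 (iv D8748)
def n9775 : Q := act 7 n8189
theorem D9775 : act 7 n8189 = n9775 := rfl
theorem F31289 : act 2 n9775 = n8191 := d17_1 D9775 (iv D8191) (iv F26031)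
theorem F31290 : act 5 n9775 = n8190 := d26_1 D9775 (iv D8190) D8189
def n9776 : Q := act 3 n8190
theorem D9776 : act 3 n8190 = n9776 := rfl
theorem F31291 : act 6 n9776 = n8474 := d20_2 (iv F26034) D9776 (iv D8474)
def n9777 : Q := act 6 n8191
theorem D9777 : act 6 n8191 = n9777 := rfl
theorem F31292 : act 1 n9777 = n9732 := d11_1 D9777 (iv D9732) (iv F26035)
theorem F31293 : act 5 n9777 = n8476 := d25_1 D9777 (iv D8476) F21643 (iv F20702) (iv F26036)
theorem F31294 : act 7 n9777 = n8752 := d27_2 D8191 D9777 (iv D8752) (iv D7158) (iv F20700)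
def n9778 : Q := act 7 n8192
theorem D9778 : act 7 n8192 = n9778 := rfl
theorem F31295 : act 0 n9778 = n9094 := d6_1 D9778 F29025 (iv F26037)
theorem F31296 : act 1 n9778 = n8659 := d12_1 D9778 (iv D8659) (iv F26038)
theorem F31297 : act 2 n9778 = n9778 := d17_1 D9778 (iv D9778) F26039
theorem F31298 : act 4 n9778 = n8666 := d24_1 D9778 (iv D8666) (iv F26041)
theorem F31299 : act 5 n9778 = n8205 := d26_1 D9778 (iv D8205) (iv F26042)
theorem F31300 : act 6 n9778 = n9063 := d27_1 D9778 (iv D9063) (iv D7471) F20708 D8192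
def n9779 : Q := act 6 n8193
theorem D9779 : act 6 n8193 = n9779 := rfl
theorem F31301 : act 0 n9779 = n8564 := d5_1 D9779 (iv D8564) (iv F26043)
theorem F31302 : act 1 n9779 = n8480 := d11_1 D9779 (iv D8480) (iv F26044)
theorem F31303 : act 2 n9779 = n9275 := d16_1 D9779 (iv F29624) F26048
theorem F31304 : act 3 n9779 = n8194 := d20_1 D9779 (iv D8194) D8193
theorem F31305 : act 4 n9779 = n8533 := d23_1 D9779 (iv D8533) (iv F26045)
theorem F31306 : act 7 n8957 = n9779 := d21_0 F31304 F26053 F21686 D7346 D8957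
def n9780 : Q := act 7 n8195
theorem D9780 : act 7 n8195 = n9780 := rfl
theorem F31307 : act 0 n9780 = n9100 := d6_1 D9780 F29037 (iv F26054)
theorem F31308 : act 1 n9780 = n8197 := d12_1 D9780 (iv D8197) (iv F26055)
theorem F31309 : act 2 n9780 = n9780 := d17_1 D9780 (iv D9780) F26056
theorem F31310 : act 4 n9780 = n8205 := d24_1 D9780 (iv D8205) (iv F26058)
theorem F31311 : act 5 n9780 = n8666 := d26_1 D9780 (iv D8666) (iv F26059)
def n9781 : Q := act 3 n8196
theorem D9781 : act 3 n8196 = n9781 := rfl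
theorem F31312 : act 0 n9781 = n8463 := d2_1 D9781 F26945 (iv F26060)
theorem F31313 : act 1 n9781 = n8198 := d8_1 D9781 (iv D8198) (iv F26061)
theorem F31314 : act 4 n9781 = n8453 := d18_2 (iv F26063) D9781 (iv D8453) F21588 (iv F20739)
theorem F31315 : act 5 n9781 = n8482 := d19_2 (iv F26064) D9781 (iv D8482)
theorem F31316 : act 7 n9781 = n8660 := d21_2 D8196 D9781 (iv D8660) (iv D7062) (iv F20715)
theorem F31317 : act 2 n9464 = n9781 := d17_3 F31316 F27635 D9464
def n9782 : Q := act 6 n8196
theorem D9782 : act 6 n8196 = n9782 := rfl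
theorem F31318 : act 0 n9782 = n8469 := d5_1 D9782 (iv D8469) (iv F26060)
theorem F31319 : act 1 n9782 = n8199 := d11_1 D9782 (iv D8199) (iv F26061)
theorem F31320 : act 2 n9782 = n9782 := d16_1 D9782 (iv D9782) F26062
theorem F31321 : act 4 n9782 = n8206 := d23_1 D9782 (iv D8206) (iv F26063)
def n9783 : Q := act 3 n8197
theorem D9783 : act 3 n8197 = n9783 := rfl
theorem F31322 : act 5 n9783 = n8760 := d19_2 (iv F26067) D9783 (iv D8760)
def n9784 : Q := act 6 n8197
theorem D9784 : act 6 n8197 = n9784 := rfl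
theorem F31323 : act 2 n9784 = n8219 := d16_1 D9784 (iv D8219) (iv F26065)
theorem F31324 : act 4 n9784 = n8208 := d23_1 D9784 (iv D8208) (iv F26066)
theorem F31325 : act 7 n9784 = n8199 := d27_2 D8197 D9784 (iv D8199) (iv D6594) D6593
def n9785 : Q := act 6 n8198
theorem D9785 : act 6 n8198 = n9785 := rfl
theorem F31326 : act 0 n9785 = n9082 := d5_1 D9785 (iv D9082) (iv F26068)
theorem F31327 : act 2 n9785 = n9631 := d16_1 D9785 (iv D9631) F26071
theorem F31328 : act 3 n9785 = n8199 := d20_1 D9785 (iv D8199) D8198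
theorem F31329 : act 4 n9785 = n9057 := d23_1 D9785 (iv D9057) F26072
def n9786 : Q := act 5 n8199
theorem D9786 : act 5 n8199 = n9786 := rfl
theorem F31330 : act 2 n9786 = n8223 := d15_1 D9786 (iv D8223) (iv F26073)
theorem F31331 : act 4 n9786 = n8211 := d22_1 D9786 (iv D8211) (iv F26074)
theorem F31332 : act 6 n9786 = n8203 := d25_2 D8199 D9786 (iv D8203) (iv D6596) (iv F20723)
def n9787 : Q := act 6 n8200
theorem D9787 : act 6 n8200 = n9787 := rfl
theorem F31333 : act 1 n9787 = n9787 := d11_1 D9787 (iv D9787) F26075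
theorem F31334 : act 2 n9787 = n8202 := d16_1 D9787 (iv D8202) D8200
theorem F31335 : act 3 n9787 = n8225 := d20_1 D9787 (iv D8225) (iv F26076)
theorem F31336 : act 4 n9787 = n9609 := d23_1 D9787 (iv D9609) F26079
theorem F31337 : act 7 n9787 = n8930 := d27_2 (iv F26078) D9787 F28471 D9275 (iv F29624)
def n9788 : Q := act 6 n8201
theorem D9788 : act 6 n8201 = n9788 := rfl
theorem F31338 : act 0 n9788 = n8567 := d5_1 D9788 (iv D8567) (iv F26080)
theorem F31339 : act 1 n9788 = n8487 := d11_1 D9788 (iv D8487) (iv F26081)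
theorem F31340 : act 2 n9788 = n9609 := d16_1 D9788 (iv D9609) (iv F26082)
theorem F31341 : act 3 n9788 = n8214 := d20_1 D9788 (iv D8214) (iv F26083)
theorem F31342 : act 4 n9788 = n8202 := d23_1 D9788 (iv D8202) D8201
def n9789 : Q := act 5 n8202
theorem D9789 : act 5 n8202 = n9789 := rfl
theorem F31343 : act 3 n9789 = n8203 := d19_1 D9789 (iv D8203) (iv F26087)
def n9790 : Q := act 7 n8202
theorem D9790 : act 7 n8202 = n9790 := rfl
theorem F31344 : act 0 n9790 = n8750 := d6_1 D9790 (iv F31010) F31006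
theorem F31345 : act 1 n9790 = n8489 := d12_1 D9790 (iv D8489) (iv F26086)
theorem F31346 : act 2 n9790 = n8930 := d17_1 D9790 (iv F31337) F31334
theorem F31347 : act 3 n9790 = n8736 := d21_1 D9790 (iv D8736) F22645 (iv F20728) (iv F26087)
theorem F31348 : act 6 n9790 = n8957 := d27_1 D9790 F31306 (iv D9779) F26047 D8202
def n9791 : Q := act 1 n8203
theorem D9791 : act 1 n8203 = n9791 := rfl
theorem F31349 : act 4 n9791 = n8217 := d9_2 (iv F26089) D9791 (iv D8217)
theorem F31350 : act 5 n9791 = n8490 := d10_2 D8203 D9791 (iv D8490) (iv D6878) (iv F20725)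
theorem F31351 : act 7 n9791 = n8982 := d12_2 (iv F26090) D9791 (iv D8982)
def n9792 : Q := act 7 n8204
theorem D9792 : act 7 n8204 = n9792 := rfl
theorem F31352 : act 0 n9792 = n8205 := d6_1 D9792 (iv D8205) (iv F26091)
theorem F31353 : act 2 n9792 = n9792 := d17_1 D9792 (iv D9792) F26092
theorem F31354 : act 4 n9792 = n9100 := d24_1 D9792 F29037 (iv F26094)
theorem F31355 : act 5 n9792 = n9094 := d26_1 D9792 F29025 (iv F26095)
theorem F31356 : act 6 n9792 = n8471 := d27_1 D9792 (iv D8471) (iv D6865) F20732 D8204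
def n9793 : Q := act 3 n8205
theorem D9793 : act 3 n8205 = n9793 := rfl
theorem F31357 : act 1 n9793 = n8207 := d8_1 D9793 (iv D8207) (iv F26096)
theorem F31358 : act 7 n9793 = n8760 := d21_2 D8205 D9793 (iv D8760) (iv D7167) (iv F20735)
def n9794 : Q := act 6 n8205
theorem D9794 : act 6 n8205 = n9794 := rfl
theorem F31359 : act 0 n9794 = n8471 := d5_1 D9794 (iv F31356) F31352
theorem F31360 : act 1 n9794 = n8208 := d11_1 D9794 (iv D8208) (iv F26096)
theorem F31361 : act 2 n9794 = n9794 := d16_1 D9794 (iv D9794) F26097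
theorem F31362 : act 7 n9794 = n8206 := d27_2 D8205 D9794 (iv D8206) (iv D6599) D6598
def n9795 : Q := act 5 n8206
theorem D9795 : act 5 n8206 = n9795 := rfl
theorem F31363 : act 0 n9795 = n8470 := d4_1 D9795 (iv D8470) (iv F26098)
theorem F31364 : act 2 n9795 = n9795 := d15_1 D9795 (iv D9795) F26100
theorem F31365 : act 3 n9795 = n8457 := d19_1 D9795 (iv D8457) (iv F26101)
theorem F31366 : act 6 n9795 = n8491 := d25_2 D8206 D9795 (iv D8491) (iv D6879) (iv F20740)
def n9796 : Q := act 4 n8207
theorem D9796 : act 4 n8207 = n9796 := rfl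
theorem F31367 : act 7 n9796 = n8764 := d24_2 (iv F26102) D9796 (iv D8764)
def n9797 : Q := act 6 n8207
theorem D9797 : act 6 n8207 = n9797 := rfl
theorem F31368 : act 3 n9797 = n8208 := d20_1 D9797 (iv D8208) D8207
def n9798 : Q := act 5 n8208
theorem D9798 : act 5 n8208 = n9798 := rfl
theorem F31369 : act 2 n9798 = n8230 := d15_1 D9798 (iv D8230) (iv F26103)
theorem F31370 : act 7 n9798 = n8211 := d26_2 (iv F26104) D9798 (iv D8211)
def n9799 : Q := act 6 n8209
theorem D9799 : act 6 n8209 = n9799 := rfl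
theorem F31371 : act 0 n9799 = n8890 := d5_1 D9799 (iv D8890) (iv F26105)
theorem F31372 : act 1 n9799 = n8454 := d11_1 D9799 (iv D8454) (iv F26106)
theorem F31373 : act 2 n9799 = n8448 := d16_1 D9799 (iv D8448) (iv F26107)
theorem F31374 : act 3 n9799 = n9057 := d20_1 D9799 (iv D9057) (iv F26108)
theorem F31375 : act 4 n9799 = n8210 := d23_1 D9799 (iv D8210) D8209
def n9800 : Q := act 5 n8210
theorem D9800 : act 5 n8210 = n9800 := rfl
theorem F31376 : act 2 n9800 = n8450 := d15_1 D9800 (iv D8450) (iv F26112)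
theorem F31377 : act 3 n9800 = n8211 := d19_1 D9800 (iv D8211) (iv F26113)
theorem F31378 : act 6 n9800 = n8215 := d25_2 D8210 D9800 (iv D8215) (iv D6605) (iv F20743)
def n9801 : Q := act 7 n8210
theorem D9801 : act 7 n8210 = n9801 := rfl
theorem F31379 : act 1 n9801 = n8458 := d12_1 D9801 (iv D8458) (iv F26111)
theorem F31380 : act 2 n9801 = n8451 := d17_1 D9801 (iv D8451) (iv F26112)
theorem F31381 : act 6 n9801 = n8769 := d27_1 D9801 (iv D8769) (iv D7172) (iv F20744) D8210
def n9802 : Q := act 1 n8211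
theorem D9802 : act 1 n8211 = n9802 := rfl
theorem F31382 : act 6 n9802 = n8217 := d11_2 (iv F26115) D9802 (iv D8217)
def n9803 : Q := act 6 n8212
theorem D9803 : act 6 n8212 = n9803 := rfl
theorem F31383 : act 1 n9803 = n8437 := d11_1 D9803 (iv D8437) (iv F26116)
theorem F31384 : act 2 n9803 = n8214 := d16_1 D9803 (iv D8214) (iv F26117)
theorem F31385 : act 4 n9803 = n8213 := d23_1 D9803 (iv D8213) D8212
def n9804 : Q := act 5 n8213
theorem D9804 : act 5 n8213 = n9804 := rfl
theorem F31386 : act 2 n9804 = n8215 := d15_1 D9804 (iv D8215) (iv F26121)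
theorem F31387 : act 3 n9804 = n8240 := d19_1 D9804 (iv D8240) (iv F26122)
theorem F31388 : act 6 n9804 = n8450 := d25_2 D8213 D9804 (iv D8450) (iv D6845) (iv F20749)
def n9805 : Q := act 7 n8213
theorem D9805 : act 7 n8213 = n9805 := rfl
theorem F31389 : act 1 n9805 = n8439 := d12_1 D9805 (iv D8439) (iv F26120)
theorem F31390 : act 2 n9805 = n8216 := d17_1 D9805 (iv D8216) (iv F26121)
theorem F31391 : act 6 n9805 = n8773 := d27_1 D9805 (iv D8773) (iv D7175) (iv F20750) D8213
def n9806 : Q := act 5 n8214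
theorem D9806 : act 5 n8214 = n9806 := rfl
theorem F31392 : act 4 n9806 = n8215 := d22_1 D9806 (iv D8215) (iv F26124)
def n9807 : Q := act 1 n8215
theorem D9807 : act 1 n8215 = n9807 := rfl
theorem F31393 : act 3 n9807 = n8217 := d8_2 (iv F26125) D9807 (iv D8217)
theorem F31394 : act 5 n9807 = n8499 := d10_2 D8215 D9807 (iv D8499) (iv D6886) (iv F20753)
def n9808 : Q := act 7 n8215
theorem D9808 : act 7 n8215 = n9808 := rfl
theorem F31395 : act 5 n9808 = n8216 := d26_1 D9808 (iv D8216) D8215
def n9809 : Q := act 0 n8217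
theorem D9809 : act 0 n8217 = n9809 := rfl
theorem F31396 : act 5 n9809 = n8500 := d4_2 (iv F26128) D9809 (iv D8500)
def n9810 : Q := act 2 n8217
theorem D9810 : act 2 n8217 = n9810 := rfl
theorem F31397 : act 1 n9810 = n8246 := d7_1 D9810 (iv D8246) (iv D6625) (iv F20755) D8217
theorem F31398 : act 5 n9810 = n8501 := d15_2 (iv F26128) D9810 (iv D8501)
def n9811 : Q := act 2 n8218
theorem D9811 : act 2 n8218 = n9811 := rfl
theorem F31399 : act 5 n9811 = n9123 := d15_2 (iv F26130) D9811 (iv D9123)
theorem F31400 : act 7 n9811 = n9811 := d17_2 F26131 D9811 (iv D9811)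
def n9812 : Q := act 6 n8218
theorem D9812 : act 6 n8218 = n9812 := rfl
theorem F31401 : act 1 n9812 = n9812 := d11_1 D9812 (iv D9812) F26129
theorem F31402 : act 3 n9812 = n8219 := d20_1 D9812 (iv D8219) D8218
def n9813 : Q := act 5 n8219
theorem D9813 : act 5 n8219 = n9813 := rfl
theorem F31403 : act 4 n9813 = n8230 := d22_1 D9813 (iv D8230) (iv F26133)
theorem F31404 : act 6 n9813 = n9125 := d25_2 D8219 D9813 (iv D9125) (iv D7529) (iv F20758)
theorem F31405 : act 7 n9813 = n8223 := d26_2 (iv F26134) D9813 (iv D8223)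
def n9814 : Q := act 4 n8220
theorem D9814 : act 4 n8220 = n9814 := rfl
theorem F31406 : act 1 n9814 = n9662 := d9_1 D9814 (iv D9662) F26138
theorem F31407 : act 2 n9814 = n8221 := d14_1 D9814 (iv D8221) D8220
theorem F31408 : act 3 n9814 = n9632 := d18_1 D9814 (iv D9632) (iv D8001) (iv F25303) (iv F26135)
theorem F31409 : act 5 n9814 = n8224 := d22_2 (iv F26136) D9814 (iv D8224)
theorem F31410 : act 7 n9814 = n9814 := d24_2 F26137 D9814 (iv D9814)
def n9815 : Q := act 6 n8220
theorem D9815 : act 6 n8220 = n9815 := rfl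
theorem F31411 : act 1 n9815 = n9431 := d11_1 D9815 F30052 F26138
theorem F31412 : act 2 n9815 = n8222 := d16_1 D9815 (iv D8222) D8220
theorem F31413 : act 3 n9815 = n9631 := d20_1 D9815 (iv D9631) (iv F26135)
theorem F31414 : act 7 n9430 = n9815 := d30_29 (iv D9815) F26136 F20764 (iv D6610) (iv D5047) (iv D3692) F7974 (iv F9858) (iv D3195) F6852 F4762 D1512 D2221 D3216 F9920 F7693 D2494 F7699 D3565 (iv F13958) F13956 (iv F13996) (iv D4523) (iv F10408) D4679 D6190 D7832 F24740 (iv F30046)
def n9816 : Q := act 6 n8221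
theorem D9816 : act 6 n8221 = n9816 := rfl
theorem F31415 : act 1 n9816 = n9816 := d11_1 D9816 (iv D9816) F26139
theorem F31416 : act 3 n9816 = n8233 := d20_1 D9816 (iv D8233) (iv F26140)
theorem F31417 : act 4 n9816 = n8222 := d23_1 D9816 (iv D8222) D8221
theorem F31418 : act 7 n8631 = n9816 := d30_29 (iv D9816) F26141 F20766 F15679 F15680 F11422 D3710 (iv F14729) F14726 D4802 (iv F14852) (iv F13231) F13230 (iv D3301) (iv F10182) (iv F14153) (iv F14756) D6303 F19733 F23260 F23256 F18089 F13383 D4328 (iv F17520) F17519 (iv F22347) F22348 D8631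
def n9817 : Q := act 5 n8222
theorem D9817 : act 5 n8222 = n9817 := rfl
theorem F31419 : act 3 n9817 = n8223 := d19_1 D9817 (iv D8223) (iv F26144)
theorem F31420 : act 6 n9817 = n8227 := d25_2 D8222 D9817 (iv D8227) (iv D6612) (iv F20760)
def n9818 : Q := act 7 n8222
theorem D9818 : act 7 n8222 = n9818 := rfl
theorem F31421 : act 1 n9818 = n9818 := d12_1 D9818 (iv D9818) F26143
theorem F31422 : act 2 n9818 = n9430 := d17_1 D9818 F31414 F31412
theorem F31423 : act 4 n9818 = n8631 := d24_1 D9818 F31418 F31417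
theorem F31424 : act 6 n9818 = n9818 := d27_1 D9818 (iv D9818) (iv D8222) F20761 D8222
def n9819 : Q := act 1 n8223
theorem D9819 : act 1 n8223 = n9819 := rfl
theorem F31425 : act 4 n9819 = n8235 := d9_2 (iv F26145) D9819 (iv D8235)
theorem F31426 : act 5 n9819 = n9819 := d10_2 D8223 D9819 (iv D9819) (iv D8223) F20762
theorem F31427 : act 6 n9819 = n8229 := d11_2 (iv F26146) D9819 (iv D8229)
def n9820 : Q := act 3 n8224
theorem D9820 : act 3 n8224 = n9820 := rfl
theorem F31428 : act 1 n9820 = n9820 := d8_1 D9820 (iv D9820) F26147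
theorem F31429 : act 2 n9820 = n8238 := d13_1 D9820 (iv D8238) F20791 (iv F20767) (iv F26148)
theorem F31430 : act 4 n9820 = n9608 := d18_2 D8224 D9820 (iv D9608) F26079 F26076
theorem F31431 : act 5 n9820 = n9632 := d19_2 F31409 D9820 (iv F31408)
theorem F31432 : act 7 n9610 = n9820 := d26_0 F31431 F30731 (iv F30653)
def n9821 : Q := act 6 n8224
theorem D9821 : act 6 n8224 = n9821 := rfl
theorem F31433 : act 1 n9821 = n9821 := d11_1 D9821 (iv D9821) F26147
theorem F31434 : act 2 n9821 = n8226 := d16_1 D9821 (iv D8226) (iv F26148)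
theorem F31435 : act 4 n9821 = n8225 := d23_1 D9821 (iv D8225) D8224
def n9822 : Q := act 5 n8225
theorem D9822 : act 5 n8225 = n9822 := rfl
theorem F31436 : act 2 n9822 = n8227 := d15_1 D9822 (iv D8227) (iv F26151)
def n9823 : Q := act 5 n8226
theorem D9823 : act 5 n8226 = n9823 := rfl
theorem F31437 : act 3 n9823 = n8242 := d19_1 D9823 (iv D8242) (iv F26153)
theorem F31438 : act 4 n9823 = n8227 := d22_1 D9823 (iv D8227) (iv F26154)
def n9824 : Q := act 1 n8227
theorem D9824 : act 1 n8227 = n9824 := rfl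
theorem F31439 : act 3 n9824 = n8229 := d8_2 (iv F26155) D9824 (iv D8229)
theorem F31440 : act 5 n9824 = n8256 := d10_2 D8227 D9824 (iv D8256) (iv D6637) (iv F20769)
def n9825 : Q := act 7 n8227
theorem D9825 : act 7 n8227 = n9825 := rfl
theorem F31441 : act 0 n9825 = n9594 := d6_1 D9825 (iv F31077) F31075
theorem F31442 : act 3 n9825 = n9280 := d21_1 D9825 (iv D9280) F24334 (iv F20772) (iv F26155)
theorem F31443 : act 5 n9825 = n8228 := d26_1 D9825 (iv D8228) D8227
def n9826 : Q := act 0 n8229
theorem D9826 : act 0 n8229 = n9826 := rfl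
theorem F31444 : act 4 n9826 = n8245 := d3_2 (iv F26160) D9826 (iv D8245)
theorem F31445 : act 5 n9826 = n8257 := d4_2 (iv F26161) D9826 (iv D8257)
theorem F31446 : act 7 n9826 = n9281 := d6_2 (iv F26162) D9826 (iv D9281)
def n9827 : Q := act 2 n8229
theorem D9827 : act 2 n8229 = n9827 := rfl
theorem F31447 : act 4 n9827 = n8246 := d14_2 (iv F26160) D9827 (iv D8246)
theorem F31448 : act 5 n9827 = n8258 := d15_2 (iv F26161) D9827 (iv D8258)
theorem F31449 : act 7 n9827 = n9282 := d17_2 (iv F26162) D9827 (iv D9282)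
def n9828 : Q := act 1 n8230
theorem D9828 : act 1 n8230 = n9828 := rfl
theorem F31450 : act 5 n9828 = n9828 := d10_2 D8230 D9828 (iv D9828) (iv D8230) F20773
theorem F31451 : act 7 n9828 = n8235 := d12_2 (iv F26163) D9828 (iv D8235)
def n9829 : Q := act 6 n8231
theorem D9829 : act 6 n8231 = n9829 := rfl
theorem F31452 : act 0 n9829 = n8452 := d5_1 D9829 F26897 (iv F26164)
theorem F31453 : act 1 n9829 = n8446 := d11_1 D9829 (iv D8446) (iv F26165)
theorem F31454 : act 2 n9829 = n8233 := d16_1 D9829 (iv D8233) (iv F26166)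
theorem F31455 : act 4 n9829 = n8232 := d23_1 D9829 (iv D8232) D8231
theorem F31456 : act 7 n9829 = n8611 := d27_2 (iv F26168) D9829 (iv D8611) F22226 F22219
def n9830 : Q := act 5 n8232
theorem D9830 : act 5 n8232 = n9830 := rfl
theorem F31457 : act 0 n9830 = n9686 := d4_1 D9830 (iv D9686) (iv F26169)
theorem F31458 : act 2 n9830 = n8234 := d15_1 D9830 (iv D8234) (iv F26171)
theorem F31459 : act 3 n9830 = n8450 := d19_1 D9830 (iv D8450) (iv F26172)
theorem F31460 : act 6 n9830 = n8240 := d25_2 D8232 D9830 (iv D8240) (iv D6621) (iv F20777)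
def n9831 : Q := act 5 n8233
theorem D9831 : act 5 n8233 = n9831 := rfl
theorem F31461 : act 4 n9831 = n8234 := d22_1 D9831 (iv D8234) (iv F26174)
theorem F31462 : act 6 n9831 = n8242 := d25_2 D8233 D9831 (iv D8242) (iv D6622) (iv F20781)
theorem F31463 : act 7 n9831 = n8620 := d26_2 (iv F26175) D9831 (iv D8620)
def n9832 : Q := act 1 n8234
theorem D9832 : act 1 n8234 = n9832 := rfl
theorem F31464 : act 3 n9832 = n8235 := d8_2 (iv F26176) D9832 (iv D8235)
theorem F31465 : act 5 n9832 = n9832 := d10_2 D8234 D9832 (iv D9832) (iv D8234) F20783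
theorem F31466 : act 6 n9832 = n8243 := d11_2 (iv F26177) D9832 (iv D8243)
theorem F31467 : act 7 n9832 = n9617 := d12_2 F27459 D9832 F30676
theorem F31468 : act 0 n9621 = n9832 := d6_3 F31467 F30675 D9621
def n9833 : Q := act 0 n8235
theorem D9833 : act 0 n8235 = n9833 := rfl
theorem F31469 : act 3 n9833 = n9621 := d2_2 F31464 D9833 F31468
theorem F31470 : act 5 n9833 = n9833 := d4_2 F26178 D9833 (iv D9833)
theorem F31471 : act 6 n9833 = n8245 := d5_2 (iv F26179) D9833 (iv D8245)
def n9834 : Q := act 2 n8235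
theorem D9834 : act 2 n8235 = n9834 := rfl
theorem F31472 : act 5 n9834 = n9834 := d15_2 F26178 D9834 (iv D9834)
theorem F31473 : act 6 n9834 = n8246 := d16_2 (iv F26179) D9834 (iv D8246)
def n9835 : Q := act 5 n8237
theorem D9835 : act 5 n8237 = n9835 := rfl
theorem F31474 : act 0 n9835 = n8434 := d4_1 D9835 (iv D8434) (iv F26185)
theorem F31475 : act 2 n9835 = n8261 := d15_1 D9835 (iv D8261) (iv F26187)
theorem F31476 : act 3 n9835 = n8438 := d19_1 D9835 (iv D8438) (iv F26188)
theorem F31477 : act 6 n9835 = n8431 := d25_2 D8237 D9835 (iv D8431) (iv D6822) (iv F20789)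
def n9836 : Q := act 6 n8238
theorem D9836 : act 6 n8238 = n9836 := rfl
theorem F31478 : act 3 n9836 = n8239 := d20_1 D9836 (iv D8239) D8238
def n9837 : Q := act 5 n8239
theorem D9837 : act 5 n8239 = n9837 := rfl
theorem F31479 : act 2 n9837 = n8242 := d15_1 D9837 (iv D8242) (iv F26189)
theorem F31480 : act 4 n9837 = n8240 := d22_1 D9837 (iv D8240) (iv F26190)
def n9838 : Q := act 1 n8240
theorem D9838 : act 1 n8240 = n9838 := rfl
def n9839 : Q := act 7 n8240
theorem D9839 : act 7 n8240 = n9839 := rfl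
theorem F31481 : act 2 n9839 = n8244 := d17_1 D9839 (iv D8244) (iv F26191)
theorem F31482 : act 5 n9839 = n8241 := d26_1 D9839 (iv D8241) D8240
def n9840 : Q := act 3 n8241
theorem D9840 : act 3 n8241 = n9840 := rfl
theorem F31483 : act 6 n9840 = n8255 := d20_2 (iv F26193) D9840 (iv D8255)
def n9841 : Q := act 2 n8243
theorem D9841 : act 2 n8243 = n9841 := rfl
theorem F31484 : act 5 n9841 = n8262 := d15_2 (iv F26196) D9841 (iv D8262)
theorem F31485 : act 7 n9841 = n9126 := d17_2 (iv F26634) D9841 F29111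
def n9842 : Q := act 2 n8245
theorem D9842 : act 2 n8245 = n9842 := rfl
theorem F31486 : act 0 n9842 = n8246 := d1_1 D9842 (iv D8246) D8245
theorem F31487 : act 5 n9842 = n8263 := d15_2 (iv F26198) D9842 (iv D8263)
def n9843 : Q := act 3 n8246
theorem D9843 : act 3 n8246 = n9843 := rfl
theorem F31488 : act 5 n9843 = n8264 := d19_2 (iv F26199) D9843 (iv D8264)
def n9844 : Q := act 6 n8247
theorem D9844 : act 6 n8247 = n9844 := rfl
theorem F31489 : act 0 n9844 = n8249 := d5_1 D9844 (iv D8249) (iv F26200)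
theorem F31490 : act 1 n9844 = n8443 := d11_1 D9844 (iv D8443) (iv F26201)
theorem F31491 : act 2 n9844 = n8267 := d16_1 D9844 (iv D8267) (iv F26202)
theorem F31492 : act 3 n9844 = n9754 := d20_1 D9844 (iv D9754) (iv F26203)
theorem F31493 : act 4 n9844 = n8248 := d23_1 D9844 (iv D8248) D8247
def n9845 : Q := act 5 n8248
theorem D9845 : act 5 n8248 = n9845 := rfl
theorem F31494 : act 0 n9845 = n8251 := d4_1 D9845 (iv D8251) (iv F26206)
theorem F31495 : act 2 n9845 = n8269 := d15_1 D9845 (iv D8269) (iv F26208)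
theorem F31496 : act 3 n9845 = n8817 := d19_1 D9845 (iv D8817) (iv F26209)
theorem F31497 : act 6 n9845 = n8425 := d25_2 D8248 D9845 (iv D8425) (iv D6814) F20814
def n9846 : Q := act 7 n8248
theorem D9846 : act 7 n8248 = n9846 := rfl
theorem F31498 : act 0 n9846 = n8252 := d6_1 D9846 (iv D8252) (iv F26206)
theorem F31499 : act 1 n9846 = n9301 := d12_1 D9846 (iv D9301) (iv F26207)
theorem F31500 : act 2 n9846 = n8270 := d17_1 D9846 (iv D8270) (iv F26208)
theorem F31501 : act 6 n9846 = n8435 := d27_1 D9846 (iv D8435) (iv D6824) (iv F20813) D8248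
def n9847 : Q := act 5 n8249
theorem D9847 : act 5 n8249 = n9847 := rfl
theorem F31502 : act 1 n9847 = n8607 := d10_1 D9847 (iv D8607) (iv F22236) F22239 (iv F26210)
theorem F31503 : act 2 n9847 = n8273 := d15_1 D9847 (iv D8273) (iv F26211)
theorem F31504 : act 3 n9847 = n9760 := d19_1 D9847 (iv D9760) (iv F26212)
theorem F31505 : act 4 n9847 = n8251 := d22_1 D9847 (iv D8251) (iv F26213)
theorem F31506 : act 6 n9847 = n9758 := d25_2 D8249 D9847 (iv D9758) (iv D8170) F20818
def n9848 : Q := act 5 n8250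
theorem D9848 : act 5 n8250 = n9848 := rfl
theorem F31507 : act 0 n9848 = n8425 := d4_1 D9848 (iv D8425) (iv F26214)
theorem F31508 : act 2 n9848 = n8274 := d15_1 D9848 (iv D8274) (iv F26216)
theorem F31509 : act 3 n9848 = n8821 := d19_1 D9848 (iv D8821) (iv F26217)
theorem F31510 : act 4 n9848 = n9758 := d22_1 D9848 (iv D9758) (iv F26218)
theorem F31511 : act 6 n9848 = n8251 := d25_2 D8250 D9848 (iv D8251) (iv D6631) D6630
def n9849 : Q := act 7 n8250
theorem D9849 : act 7 n8250 = n9849 := rfl
theorem F31512 : act 0 n9849 = n8426 := d6_1 D9849 (iv D8426) (iv F26214)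
theorem F31513 : act 1 n9849 = n8444 := d12_1 D9849 (iv D8444) (iv F26215)
theorem F31514 : act 2 n9849 = n8275 := d17_1 D9849 (iv D8275) (iv F26216)
theorem F31515 : act 4 n9849 = n9759 := d24_1 D9849 (iv D9759) (iv F26218)
theorem F31516 : act 6 n9849 = n8432 := d27_1 D9849 (iv D8432) (iv D6822) (iv F20824) D8250
def n9850 : Q := act 7 n8251
theorem D9850 : act 7 n8251 = n9850 := rfl
theorem F31517 : act 2 n9850 = n8277 := d17_1 D9850 (iv D8277) (iv F26219)
theorem F31518 : act 5 n9850 = n8252 := d26_1 D9850 (iv D8252) D8251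
def n9851 : Q := act 3 n8252
theorem D9851 : act 3 n8252 = n9851 := rfl
theorem F31519 : act 1 n9851 = n8255 := d8_1 D9851 (iv D8255) (iv F26221)
theorem F31520 : act 7 n9851 = n8825 := d21_2 D8252 D9851 (iv D8825) (iv D7213) (iv F20827)
def n9852 : Q := act 7 n8253
theorem D9852 : act 7 n8253 = n9852 := rfl
theorem F31521 : act 1 n9852 = n9761 := d12_1 D9852 (iv D9761) (iv F26223)
theorem F31522 : act 2 n9852 = n9852 := d17_1 D9852 (iv D9852) F26224
theorem F31523 : act 4 n9852 = n8827 := d24_1 D9852 (iv D8827) (iv F26226)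
def n9853 : Q := act 3 n8254
theorem D9853 : act 3 n8254 = n9853 := rfl
def n9854 : Q := act 4 n8255
theorem D9854 : act 4 n8255 = n9854 := rfl
theorem F31524 : act 7 n9854 = n8829 := d24_2 (iv F26229) D9854 (iv D8829)
def n9855 : Q := act 0 n8256
theorem D9855 : act 0 n8256 = n9855 := rfl
theorem F31525 : act 1 n9855 = n8314 := d0_2 D8256 D9855 (iv D8314) (iv D6686) (iv F20841)
theorem F31526 : act 3 n9855 = n8257 := d2_2 (iv F26230) D9855 (iv D8257)
theorem F31527 : act 4 n9855 = n8905 := d3_2 F26341 D9855 F28385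
theorem F31528 : act 6 n9855 = n9855 := d5_2 F26231 D9855 (iv D9855)
def n9856 : Q := act 2 n8256
theorem D9856 : act 2 n8256 = n9856 := rfl
theorem F31529 : act 1 n9856 = n9856 := d7_1 D9856 (iv D9856) (iv D8256) F20842 D8256
theorem F31530 : act 6 n9856 = n9856 := d16_2 F26231 D9856 (iv D9856)
theorem F31531 : act 7 n9856 = n8702 := d17_2 (iv F26282) D9856 F27778
def n9857 : Q := act 2 n8257
theorem D9857 : act 2 n8257 = n9857 := rfl
theorem F31532 : act 0 n9857 = n8258 := d1_1 D9857 (iv D8258) D8257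
theorem F31533 : act 4 n9857 = n8263 := d14_2 (iv F26233) D9857 (iv D8263)
theorem F31534 : act 6 n9857 = n9857 := d16_2 F26234 D9857 (iv D9857)
theorem F31535 : act 7 n9857 = n9285 := d17_2 (iv F26235) D9857 (iv D9285)
def n9858 : Q := act 3 n8258
theorem D9858 : act 3 n8258 = n9858 := rfl
theorem F31536 : act 1 n9858 = n8511 := d8_1 D9858 (iv D8511) (iv F26236)
theorem F31537 : act 6 n9858 = n9858 := d20_2 F26238 D9858 (iv D9858)
def n9859 : Q := act 3 n8262
theorem D9859 : act 3 n8262 = n9859 := rfl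
theorem F31538 : act 1 n9859 = n9133 := d8_1 D9859 F29140 (iv F26251)
theorem F31539 : act 2 n9859 = n8264 := d13_1 D9859 (iv D8264) (iv D6646) (iv F20867) D8262
theorem F31540 : act 6 n9859 = n9859 := d20_2 F26252 D9859 (iv D9859)
theorem F31541 : act 7 n9859 = n9124 := d21_2 (iv F26253) D9859 F29108 F23848 (iv F23852)
def n9860 : Q := act 1 n8263
theorem D9860 : act 1 n8263 = n9860 := rfl
theorem F31542 : act 0 n9860 = n8514 := d0_1 D9860 (iv D8514) F21840 (iv F20871) (iv F26254)
theorem F31543 : act 2 n9860 = n8318 := d7_2 D8263 D9860 (iv D8318) (iv D6690) (iv F20869)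
theorem F31544 : act 6 n9860 = n9860 := d11_2 F26255 D9860 (iv D9860)
theorem F31545 : act 5 n9504 = n9860 := d30_1 D9504 (iv D9860) (iv D8263) F21285 (iv D6762) F16078 F11719 (iv D3029) F6416 F4876 F4878 (iv F7054) (iv D2272) (iv F7049) (iv F10110) (iv F14090) D6029 D7646 D9259 (iv F30868) F30869 F25485 F20056 (iv D4853) F10832 F10830 (iv F14538) D6223 (iv F24830)
theorem F31546 : act 3 n9860 = n9505 := d19_1 F31545 (iv D9505) (iv F30291)
def n9861 : Q := act 3 n8263
theorem D9861 : act 3 n8263 = n9861 := rfl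
theorem F31547 : act 0 n9861 = n8264 := d2_1 D9861 (iv D8264) (iv F26254)
theorem F31548 : act 1 n9861 = n9505 := d8_1 D9861 (iv F31546) (iv D9860)
theorem F31549 : act 6 n9861 = n9861 := d20_2 F26255 D9861 (iv D9861)
theorem F31550 : act 4 n9511 = n9861 := d9_0 F31548 F30293 D9511
def n9862 : Q := act 4 n8264
theorem D9862 : act 4 n8264 = n9862 := rfl
theorem F31551 : act 0 n9862 = n9511 := d3_1 D9862 F31550 F31547
theorem F31552 : act 1 n9862 = n8516 := d9_1 D9862 (iv D8516) (iv F26256)
theorem F31553 : act 6 n9862 = n9862 := d23_2 F26257 D9862 (iv D9862)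
def n9863 : Q := act 7 n8264
theorem D9863 : act 7 n8264 = n9863 := rfl
theorem F31554 : act 1 n9863 = n8517 := d12_1 D9863 (iv D8517) (iv F26256)
theorem F31555 : act 2 n9863 = n9124 := d17_1 D9863 (iv F31541) F31539
theorem F31556 : act 6 n9123 = n9863 := d16_0 F31555 (iv D9124) D9123
def n9864 : Q := act 6 n8265
theorem D9864 : act 6 n8265 = n9864 := rfl
theorem F31557 : act 0 n9864 = n8271 := d5_1 D9864 (iv D8271) (iv F26258)
theorem F31558 : act 1 n9864 = n8319 := d11_1 D9864 (iv D8319) (iv F26259)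
theorem F31559 : act 3 n9864 = n8267 := d20_1 D9864 (iv D8267) D8265
theorem F31560 : act 4 n9864 = n8280 := d23_1 D9864 (iv D8280) (iv F26260)
theorem F31561 : act 7 n9855 = n9864 := d24_0 F31560 (iv F28388) (iv F31527)
def n9865 : Q := act 6 n8266
theorem D9865 : act 6 n8266 = n9865 := rfl
theorem F31562 : act 0 n9865 = n8272 := d5_1 D9865 (iv D8272) (iv F26262)
theorem F31563 : act 1 n9865 = n8418 := d11_1 D9865 (iv D8418) (iv F26263)
theorem F31564 : act 2 n9865 = n8424 := d16_1 D9865 (iv D8424) (iv F26264)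
theorem F31565 : act 4 n9865 = n8268 := d23_1 D9865 (iv D8268) (iv F26265)
def n9866 : Q := act 5 n8267
theorem D9866 : act 5 n8267 = n9866 := rfl
theorem F31566 : act 0 n9866 = n8273 := d4_1 D9866 (iv D8273) (iv F26267)
theorem F31567 : act 4 n9866 = n8269 := d22_1 D9866 (iv D8269) (iv F26269)
def n9867 : Q := act 5 n8268
theorem D9867 : act 5 n8268 = n9867 := rfl
theorem F31568 : act 0 n9867 = n8274 := d4_1 D9867 (iv D8274) (iv F26270)
theorem F31569 : act 2 n9867 = n8425 := d15_1 D9867 (iv D8425) (iv F26272)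
theorem F31570 : act 3 n9867 = n8285 := d19_1 D9867 (iv D8285) (iv F26273)
theorem F31571 : act 6 n9867 = n8269 := d25_2 D8268 D9867 (iv D8269) (iv D6649) D6648
def n9868 : Q := act 1 n8269
theorem D9868 : act 1 n8269 = n9868 := rfl
theorem F31572 : act 3 n9868 = n8287 := d8_2 (iv F26275) D9868 (iv D8287)
theorem F31573 : act 5 n9868 = n8321 := d10_2 D8269 D9868 (iv D8321) (iv D6694) (iv F20881)
theorem F31574 : act 7 n9726 = n9868 := d26_0 F31573 F26437 (iv F31111)
def n9869 : Q := act 7 n8269
theorem D9869 : act 7 n8269 = n9869 := rfl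
theorem F31575 : act 0 n9869 = n8277 := d6_1 D9869 (iv D8277) (iv F26274)
theorem F31576 : act 1 n9869 = n9726 := d12_1 D9869 F31574 (iv D9868)
theorem F31577 : act 3 n9869 = n9725 := d21_1 D9869 (iv D9725) F26332 (iv D8288) (iv F26275)
theorem F31578 : act 5 n9869 = n8270 := d26_1 D9869 (iv D8270) D8269
def n9870 : Q := act 5 n8271
theorem D9870 : act 5 n8271 = n9870 := rfl
theorem F31579 : act 1 n9870 = n9825 := d10_1 D9870 F31443 F26157 (iv F20900) (iv F26279)
theorem F31580 : act 3 n9870 = n8273 := d19_1 D9870 (iv D8273) (iv F26280)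
theorem F31581 : act 4 n9870 = n8291 := d22_1 D9870 (iv D8291) (iv F26281)
theorem F31582 : act 7 n9870 = n9824 := d26_2 F26282 D9870 F31440
def n9871 : Q := act 5 n8272
theorem D9871 : act 5 n8272 = n9871 := rfl
theorem F31583 : act 2 n9871 = n9758 := d15_1 D9871 (iv D9758) (iv F26284)
theorem F31584 : act 4 n9871 = n8274 := d22_1 D9871 (iv D8274) (iv F26285)
theorem F31585 : act 6 n9871 = n8273 := d25_2 D8272 D9871 (iv D8273) (iv D6652) D6651
def n9872 : Q := act 7 n8272
theorem D9872 : act 7 n8272 = n9872 := rfl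
theorem F31586 : act 1 n9872 = n9872 := d12_1 D9872 (iv D9872) F26283
theorem F31587 : act 2 n9872 = n9759 := d17_1 D9872 (iv D9759) (iv F26284)
theorem F31588 : act 4 n9872 = n8275 := d24_1 D9872 (iv D8275) (iv F26285)
def n9873 : Q := act 1 n8274
theorem D9873 : act 1 n8274 = n9873 := rfl
theorem F31589 : act 3 n9873 = n8296 := d8_2 (iv F26287) D9873 (iv D8296)
theorem F31590 : act 5 n9873 = n9873 := d10_2 D8274 D9873 (iv D9873) (iv D8274) F20891
theorem F31591 : act 6 n9873 = n8276 := d11_2 (iv F26288) D9873 (iv D8276)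
def n9874 : Q := act 7 n8274
theorem D9874 : act 7 n8274 = n9874 := rfl
theorem F31592 : act 5 n9874 = n8275 := d26_1 D9874 (iv D8275) D8274
def n9875 : Q := act 3 n8277
theorem D9875 : act 3 n8277 = n9875 := rfl
theorem F31593 : act 0 n9875 = n9725 := d2_1 D9875 (iv F31577) F31575
theorem F31594 : act 1 n9875 = n9179 := d8_1 D9875 F29298 F26572
theorem F31595 : act 4 n9875 = n9741 := d18_2 F29634 D9875 F31171 F25909 (iv F29633)
theorem F31596 : act 5 n9875 = n8278 := d19_2 (iv F26292) D9875 (iv D8278)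
theorem F31597 : act 7 n9875 = n8302 := d21_2 D8277 D9875 (iv D8302) (iv D6674) (iv F20893)
theorem F31598 : act 6 n9180 = n9875 := d25_0 F31596 (iv F26916) (iv F29273) F29274 (iv F29301)
def n9876 : Q := act 6 n8277
theorem D9876 : act 6 n8277 = n9876 := rfl
theorem F31599 : act 1 n9876 = n9139 := d11_1 D9876 F29156 F26572
theorem F31600 : act 3 n9876 = n9180 := d20_1 D9876 F31598 (iv D9875)
theorem F31601 : act 5 n9876 = n9141 := d25_1 D9876 (iv F29170) F29169 F24361 (iv F26292)
def n9877 : Q := act 2 n8278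
theorem D9877 : act 2 n8278 = n9877 := rfl
theorem F31602 : act 0 n9877 = n8876 := d1_1 D9877 F28313 (iv F26293)
theorem F31603 : act 4 n9877 = n9747 := d14_2 (iv F26295) D9877 (iv D9747)
theorem F31604 : act 7 n9877 = n8304 := d17_2 (iv F26296) D9877 (iv D8304)
def n9878 : Q := act 1 n8279
theorem D9878 : act 1 n8279 = n9878 := rfl
theorem F31605 : act 0 n9878 = n9878 := d0_1 D9878 (iv D9878) F26297 F20937 (iv F26297)
theorem F31606 : act 2 n9878 = n8523 := d7_2 F27721 D9878 F27139 F22550 (iv F27720)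
theorem F31607 : act 3 n9878 = n8281 := d8_2 (iv F26298) D9878 (iv D8281)
theorem F31608 : act 4 n9878 = n8417 := d9_2 F27746 D9878 (iv F27744)
theorem F31609 : act 5 n9878 = n8323 := d10_2 D8279 D9878 (iv D8323) (iv D6699) (iv F20908)
theorem F31610 : act 7 n9878 = n9878 := d12_2 F26299 D9878 (iv D9878)
theorem F31611 : act 6 n9496 = n9878 := d20_0 F31607 (iv F28698) (iv F30264)
def n9879 : Q := act 6 n8279
theorem D9879 : act 6 n8279 = n9879 := rfl
theorem F31612 : act 0 n9879 = n8290 := d5_1 D9879 (iv D8290) (iv F26297)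
theorem F31613 : act 1 n9879 = n9496 := d11_1 D9879 F31611 (iv D9878)
theorem F31614 : act 3 n9879 = n8282 := d20_1 D9879 (iv D8282) (iv F26298)
theorem F31615 : act 7 n9490 = n9879 := d21_0 F31614 F28692 F28687 F24795 D9490
def n9880 : Q := act 5 n8280
theorem D9880 : act 5 n8280 = n9880 := rfl
theorem F31616 : act 0 n9880 = n8291 := d4_1 D9880 (iv D8291) (iv F26300)
theorem F31617 : act 3 n9880 = n8283 := d19_1 D9880 (iv D8283) (iv F26302)
def n9881 : Q := act 5 n8282
theorem D9881 : act 5 n8282 = n9881 := rfl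
theorem F31618 : act 0 n9881 = n8293 := d4_1 D9881 (iv D8293) (iv F26308)
theorem F31619 : act 2 n9881 = n8855 := d15_1 D9881 (iv D8855) (iv F26309)
theorem F31620 : act 4 n9881 = n8285 := d22_1 D9881 (iv D8285) (iv F26310)
theorem F31621 : act 6 n9881 = n8283 := d25_2 D8282 D9881 (iv D8283) (iv D6661) D6660
def n9882 : Q := act 1 n8283
theorem D9882 : act 1 n8283 = n9882 := rfl
theorem F31622 : act 4 n9882 = n8287 := d9_2 (iv F26313) D9882 (iv D8287)
theorem F31623 : act 5 n9882 = n8329 := d10_2 D8283 D9882 (iv D8329) (iv D6703) (iv F20915)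
theorem F31624 : act 7 n9882 = n8360 := d12_2 (iv F26314) D9882 F26592
def n9883 : Q := act 1 n8285
theorem D9883 : act 1 n8285 = n9883 := rfl
theorem F31625 : act 6 n9883 = n8287 := d11_2 (iv F26321) D9883 (iv D8287)
def n9884 : Q := act 7 n8285
theorem D9884 : act 7 n8285 = n9884 := rfl
theorem F31626 : act 0 n9884 = n8297 := d6_1 D9884 (iv D8297) (iv F26319)
theorem F31627 : act 2 n9884 = n8859 := d17_1 D9884 (iv D8859) (iv F26320)
theorem F31628 : act 5 n9884 = n8286 := d26_1 D9884 (iv D8286) D8285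
def n9885 : Q := act 2 n8287
theorem D9885 : act 2 n8287 = n9885 := rfl
theorem F31629 : act 1 n9885 = n8824 := d7_1 D9885 F28162 F22920 (iv F20927) D8287
theorem F31630 : act 5 n9885 = n8332 := d15_2 (iv F26325) D9885 (iv D8332)
theorem F31631 : act 7 n9885 = n8823 := d17_2 F26326 D9885 F28159
def n9886 : Q := act 5 n8289
theorem D9886 : act 5 n8289 = n9886 := rfl
theorem F31632 : act 2 n9886 = n8291 := d15_1 D9886 (iv D8291) (iv F26334)
theorem F31633 : act 3 n9886 = n8861 := d19_1 D9886 (iv D8861) (iv F26335)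
def n9887 : Q := act 7 n8289
theorem D9887 : act 7 n8289 = n9887 := rfl
theorem F31634 : act 1 n9887 = n9887 := d12_1 D9887 (iv D9887) F26333
theorem F31635 : act 2 n9887 = n8292 := d17_1 D9887 (iv D8292) (iv F26334)
theorem F31636 : act 4 n9887 = n9856 := d24_1 D9887 F31531 F27780
theorem F31637 : act 6 n9887 = n9887 := d27_1 D9887 (iv D9887) (iv D8289) F20936 D8289
def n9888 : Q := act 5 n8290
theorem D9888 : act 5 n8290 = n9888 := rfl
theorem F31638 : act 3 n9888 = n8293 := d19_1 D9888 (iv D8293) (iv F26337)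
theorem F31639 : act 6 n9888 = n8291 := d25_2 D8290 D9888 (iv D8291) (iv D6668) D6667
def n9889 : Q := act 1 n8291
theorem D9889 : act 1 n8291 = n9889 := rfl
theorem F31640 : act 3 n9889 = n8295 := d8_2 (iv F26338) D9889 (iv D8295)
theorem F31641 : act 4 n9889 = n9825 := d9_2 F31581 D9889 (iv F31579)
theorem F31642 : act 5 n9889 = n8305 := d10_2 D8291 D9889 (iv D8305) (iv D6676) (iv F20940)
theorem F31643 : act 7 n9823 = n9889 := d26_0 F31642 F26378 D9823
def n9890 : Q := act 7 n8291
theorem D9890 : act 7 n8291 = n9890 := rfl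
theorem F31644 : act 1 n9890 = n9823 := d12_1 D9890 F31643 (iv D9889)
theorem F31645 : act 3 n9890 = n9288 := d21_1 D9890 (iv D9288) F24350 (iv F20947) (iv F26338)
theorem F31646 : act 4 n9890 = n9824 := d24_1 D9890 (iv F31582) F31581
theorem F31647 : act 5 n9890 = n8292 := d26_1 D9890 (iv D8292) D8291
def n9891 : Q := act 1 n8293
theorem D9891 : act 1 n8293 = n9891 := rfl
theorem F31648 : act 4 n9891 = n8296 := d9_2 (iv F26344) D9891 (iv D8296)
theorem F31649 : act 5 n9891 = n9891 := d10_2 D8293 D9891 (iv D9891) (iv D8293) F20942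
theorem F31650 : act 6 n9891 = n8295 := d11_2 (iv F26345) D9891 (iv D8295)
def n9892 : Q := act 7 n8293
theorem D9892 : act 7 n8293 = n9892 := rfl
theorem F31651 : act 2 n9892 = n8863 := d17_1 D9892 (iv D8863) (iv F26343)
theorem F31652 : act 4 n9892 = n8297 := d24_1 D9892 (iv D8297) (iv F26344)
theorem F31653 : act 5 n9892 = n8294 := d26_1 D9892 (iv D8294) D8293
theorem F31654 : act 6 n9892 = n9317 := d27_1 D9892 (iv D9317) F24404 (iv F20947) (iv F26345)
def n9893 : Q := act 0 n8295
theorem D9893 : act 0 n8295 = n9893 := rfl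
theorem F31655 : act 4 n9893 = n8299 := d3_2 (iv F26350) D9893 (iv D8299)
theorem F31656 : act 5 n9893 = n8306 := d4_2 (iv F26351) D9893 (iv D8306)
theorem F31657 : act 7 n9893 = n9318 := d6_2 (iv F26352) D9893 (iv D9318)
def n9894 : Q := act 0 n8296
theorem D9894 : act 0 n8296 = n9894 := rfl
theorem F31658 : act 5 n9894 = n9894 := d4_2 F26353 D9894 (iv D9894)
theorem F31659 : act 6 n9894 = n8299 := d5_2 (iv F26354) D9894 (iv D8299)
def n9895 : Q := act 2 n8296
theorem D9895 : act 2 n8296 = n9895 := rfl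
theorem F31660 : act 1 n9895 = n8866 := d7_1 D9895 (iv D8866) (iv D7251) (iv F20948) D8296
theorem F31661 : act 5 n9895 = n9895 := d15_2 F26353 D9895 (iv D9895)
theorem F31662 : act 6 n9895 = n8300 := d16_2 (iv F26354) D9895 (iv D8300)
def n9896 : Q := act 7 n8296
theorem D9896 : act 7 n8296 = n9896 := rfl
theorem F31663 : act 1 n9896 = n8297 := d12_1 D9896 (iv D8297) D8296
theorem F31664 : act 5 n9896 = n9896 := d26_1 D9896 (iv D9896) F26353
def n9897 : Q := act 3 n8297
theorem D9897 : act 3 n8297 = n9897 := rfl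
theorem F31665 : act 5 n9897 = n8298 := d19_2 (iv F26356) D9897 (iv D8298)
def n9898 : Q := act 6 n8297
theorem D9898 : act 6 n8297 = n9898 := rfl
theorem F31666 : act 2 n9898 = n8869 := d16_1 D9898 (iv D8869) (iv F26355)
theorem F31667 : act 4 n9898 = n9317 := d23_1 D9898 (iv F31654) F31652
theorem F31668 : act 5 n9898 = n8521 := d25_1 D9898 (iv D8521) F21865 (iv F20952) (iv F26356)
theorem F31669 : act 7 n9898 = n8303 := d27_2 D8297 D9898 (iv D8303) (iv D6674) (iv F20949)
def n9899 : Q := act 4 n8298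
theorem D9899 : act 4 n8298 = n9899 := rfl
theorem F31670 : act 1 n9899 = n9899 := d9_1 D9899 (iv D9899) F26357
theorem F31671 : act 6 n9899 = n8522 := d23_2 (iv F26358) D9899 (iv D8522)
def n9900 : Q := act 2 n8299
theorem D9900 : act 2 n8299 = n9900 := rfl
theorem F31672 : act 0 n9900 = n8300 := d1_1 D9900 (iv D8300) D8299
theorem F31673 : act 5 n9900 = n8307 := d15_2 (iv F26359) D9900 (iv D8307)
def n9901 : Q := act 7 n8300
theorem D9901 : act 7 n8300 = n9901 := rfl
theorem F31674 : act 1 n9901 = n8874 := d12_1 D9901 (iv D8874) (iv F26360)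
theorem F31675 : act 2 n9901 = n8301 := d17_1 D9901 (iv D8301) D8300
theorem F31676 : act 4 n9901 = n9319 := d24_1 D9901 F29760 F29481
theorem F31677 : act 5 n9901 = n8309 := d26_1 D9901 (iv D8309) (iv F26361)
def n9902 : Q := act 3 n8301
theorem D9902 : act 3 n8301 = n9902 := rfl
theorem F31678 : act 0 n9902 = n9723 := d2_1 D9902 F31098 F29786
theorem F31679 : act 1 n9902 = n8302 := d8_1 D9902 (iv D8302) (iv F26362)
theorem F31680 : act 4 n9902 = n9742 := d18_2 (iv F26363) D9902 F31176 (iv F29658) F29657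
theorem F31681 : act 5 n9902 = n8310 := d19_2 (iv F26364) D9902 (iv D8310)
theorem F31682 : act 7 n9902 = n9179 := d21_2 D8301 D9902 F29298 F26575 F26290
theorem F31683 : act 2 n9201 = n9902 := d17_3 F31682 F29297 D9201
def n9903 : Q := act 2 n8302
theorem D9903 : act 2 n8302 = n9903 := rfl
theorem F31684 : act 0 n9903 = n8873 := d1_1 D9903 F28303 (iv F26365)
theorem F31685 : act 3 n9903 = n8872 := d13_2 D8302 D9903 (iv D8872) F22955 (iv F20954)
theorem F31686 : act 4 n9903 = n9771 := d14_2 F26367 D9903 F31272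
theorem F31687 : act 5 n9903 = n8304 := d15_2 (iv F26366) D9903 (iv D8304)
def n9904 : Q := act 2 n8305
theorem D9904 : act 2 n8305 = n9904 := rfl
theorem F31688 : act 1 n9904 = n9904 := d7_1 D9904 (iv D9904) (iv D8305) F20962 D8305
theorem F31689 : act 4 n9904 = n8619 := d14_2 (iv F26376) D9904 F27505
theorem F31690 : act 6 n9904 = n9904 := d16_2 F26377 D9904 (iv D9904)
theorem F31691 : act 7 n9904 = n9821 := d17_2 (iv F26378) D9904 F31434
def n9905 : Q := act 7 n8307
theorem D9905 : act 7 n8307 = n9905 := rfl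
theorem F31692 : act 0 n9905 = n8309 := d6_1 D9905 (iv D8309) (iv F26383)
theorem F31693 : act 2 n9905 = n8308 := d17_1 D9905 (iv D8308) D8307
theorem F31694 : act 4 n9905 = n9320 := d24_1 D9905 F29762 F29502
def n9906 : Q := act 3 n8309
theorem D9906 : act 3 n8309 = n9906 := rfl
theorem F31695 : act 1 n9906 = n8312 := d8_1 D9906 (iv D8312) (iv F26389)
theorem F31696 : act 2 n9906 = n9202 := d13_1 D9906 (iv D9202) F26396 (iv D8310) (iv F26390)
theorem F31697 : act 7 n9906 = n9352 := d21_2 D8309 D9906 F29838 (iv D8643) F22300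
theorem F31698 : act 6 n9210 = n9906 := d27_5 F31697 F29839 F24494 (iv F24135) (iv F29405)
def n9907 : Q := act 6 n8309
theorem D9907 : act 6 n8309 = n9907 := rfl
theorem F31699 : act 1 n9907 = n8313 := d11_1 D9907 (iv D8313) (iv F26389)
theorem F31700 : act 2 n9907 = n8311 := d16_1 D9907 (iv D8311) (iv F26390)
theorem F31701 : act 3 n9907 = n9210 := d20_1 D9907 F31698 (iv D9906)
theorem F31702 : act 4 n9907 = n9310 := d23_1 D9907 F29734 (iv F26391)
theorem F31703 : act 7 n9907 = n9907 := d27_2 D8309 D9907 (iv D9907) (iv D8309) F20979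
def n9908 : Q := act 4 n8312
theorem D9908 : act 4 n8312 = n9908 := rfl
theorem F31704 : act 3 n9908 = n9322 := d18_1 D9908 (iv D9322) (iv D7709) (iv F20994) D8312
theorem F31705 : act 5 n9908 = n8881 := d22_2 (iv F26402) D9908 (iv D8881)
def n9909 : Q := act 6 n8312
theorem D9909 : act 6 n8312 = n9909 := rfl
theorem F31706 : act 1 n9909 = n9210 := d11_1 D9909 F31698 F31695
theorem F31707 : act 3 n9909 = n8313 := d20_1 D9909 (iv D8313) D8312
theorem F31708 : act 7 n9909 = n9227 := d27_2 F27593 D9909 F29458 (iv F24854) (iv F27592)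
def n9910 : Q := act 2 n8314
theorem D9910 : act 2 n8314 = n9910 := rfl
theorem F31709 : act 0 n9910 = n8315 := d1_1 D9910 (iv D8315) D8314
theorem F31710 : act 4 n9910 = n9267 := d14_2 (iv F26407) D9910 (iv D9267)
theorem F31711 : act 5 n9910 = n8562 := d15_2 F26616 D9910 F27319
theorem F31712 : act 6 n9910 = n9910 := d16_2 F26408 D9910 (iv D9910)
theorem F31713 : act 7 n9910 = n8324 := d17_2 (iv F26430) D9910 F26447
theorem F31714 : act 3 n9910 = n8563 := d31_5 (iv D8325) (iv F24237) (iv F26407) D9910 F31712 (iv D8563) F22048 F16868 (iv F21990) (iv D6950) D6949 F21986 F16847 D6951 F21994 (iv F25134) F25133 (iv F21957) F21959 (iv D6942) F16820 F16822 F15978 F15976 F15974 (iv F21162) (iv F26458) F26460 (iv F26451)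
theorem F31715 : act 1 n9500 = n9910 := d8_3 F31714 F27323 (iv F30280)
theorem F31716 : act 2 n9855 = n9665 := d7_4 (iv F30279) F31715 (iv D9910) (iv F31525) (iv D9665)
theorem F31717 : act 0 n9665 = n9856 := d1_1 F31716 (iv D9856) D9855
def n9911 : Q := act 1 n8316
theorem D9911 : act 1 n8316 = n9911 := rfl
theorem F31718 : act 0 n9911 = n8526 := d0_1 D9911 (iv D8526) F21884 (iv F21004) (iv F26414)
theorem F31719 : act 4 n9911 = n8318 := d9_2 (iv F26415) D9911 (iv D8318)
theorem F31720 : act 5 n9911 = n9687 := d10_2 F26662 D9911 F30965 D9690 F30984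
theorem F31721 : act 6 n9911 = n9911 := d11_2 F26416 D9911 (iv D9911)
theorem F31722 : act 7 n9911 = n9569 := d12_2 (iv F26417) D9911 (iv D9569)
theorem F31723 : act 3 n9688 = n9911 := d19_3 F31720 F30966 D9688
def n9912 : Q := act 3 n8316
theorem D9912 : act 3 n8316 = n9912 := rfl
theorem F31724 : act 0 n9912 = n8317 := d2_1 D9912 (iv D8317) (iv F26414)
theorem F31725 : act 1 n9912 = n9688 := d8_1 D9912 F31723 (iv D9911)
theorem F31726 : act 2 n9912 = n8563 := d13_1 D9912 (iv F31714) (iv D9910) F26406 D8316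
theorem F31727 : act 4 n9912 = n9912 := d18_2 (iv F26415) D9912 (iv D9912) F26415 F21013
theorem F31728 : act 5 n9912 = n8552 := d19_2 F26662 D9912 F27273
theorem F31729 : act 6 n9912 = n9912 := d20_2 F26416 D9912 (iv D9912)
theorem F31730 : act 7 n9912 = n8553 := d21_2 (iv F26417) D9912 F30575 (iv D9590) F25069
def n9913 : Q := act 5 n8318
theorem D9913 : act 5 n8318 = n9913 := rfl
theorem F31731 : act 0 n9913 = n8529 := d4_1 D9913 (iv D8529) (iv F26424)
theorem F31732 : act 1 n9913 = n9689 := d10_1 D9913 F30976 (iv D8380) F21288 D8318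
theorem F31733 : act 2 n9913 = n9504 := d15_1 D9913 F31545 F31543
theorem F31734 : act 3 n9913 = n9913 := d19_1 D9913 (iv D9913) F26425
theorem F31735 : act 4 n9913 = n9687 := d22_1 D9913 (iv F31720) F31719
theorem F31736 : act 6 n9503 = n9913 := d30_0 (iv D9913) (iv D8318) (iv D6690) F16083 (iv D5180) F11714 (iv D2658) F5620 F4426 F3368 F3369 (iv D1048) D1047 D1548 D2270 D3271 D4547 D6030 D7647 D9260 F29561 (iv F25505) (iv D8053) (iv D6403) F15014 F15012 D6402 (iv F24891) (iv F30290)
def n9914 : Q := act 2 n8321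
theorem D9914 : act 2 n8321 = n9914 := rfl
theorem F31737 : act 0 n9914 = n9245 := d1_1 D9914 F29522 F26503
theorem F31738 : act 1 n9914 = n9905 := d7_1 D9914 F31693 F26386 F21117 D8321
theorem F31739 : act 4 n9914 = n9262 := d14_2 F30542 D9914 (iv F30541)
theorem F31740 : act 7 n9914 = n9244 := d17_2 (iv F26437) D9914 F29517
def n9915 : Q := act 5 n8322
theorem D9915 : act 5 n8322 = n9915 := rfl
theorem F31741 : act 0 n9915 = n8333 := d4_1 D9915 (iv D8333) (iv F26438)
theorem F31742 : act 2 n9915 = n8325 := d15_1 D9915 (iv D8325) (iv F26439)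
theorem F31743 : act 3 n9915 = n8340 := d19_1 D9915 (iv D8340) (iv F26440)
theorem F31744 : act 6 n9915 = n9581 := d25_2 D8322 D9915 F30546 (iv D8319) F21042
theorem F31745 : act 7 n9915 = n8366 := d26_2 F29583 D9915 (iv F29581)
def n9916 : Q := act 6 n8323
theorem D9916 : act 6 n8323 = n9916 := rfl
theorem F31746 : act 0 n9916 = n9916 := d5_1 D9916 (iv D9916) F26441
theorem F31747 : act 1 n9916 = n8324 := d11_1 D9916 (iv D8324) D8323
theorem F31748 : act 2 n9916 = n8986 := d16_1 D9916 (iv D8986) F26445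
theorem F31749 : act 3 n9916 = n8326 := d20_1 D9916 (iv D8326) (iv F26442)
theorem F31750 : act 4 n9916 = n8947 := d23_1 D9916 (iv D8947) (iv F26443)
theorem F31751 : act 5 n9916 = n9498 := d25_1 D9916 (iv D9498) (iv F30265) F31611 F31609
theorem F31752 : act 7 n9500 = n9916 := d30_29 (iv D9916) (iv F31609) (iv D9878) (iv F27721) (iv D8687) F22443 D7420 F23510 F19250 F19251 F14348 D4645 (iv F18822) F18821 (iv F24096) (iv F29413) (iv F31045) (iv D9704) (iv D8110) (iv F25740) F25737 (iv D6797) F16260 F15095 D6448 D8081 F25623 (iv F27093) (iv F30280)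
def n9917 : Q := act 5 n8324
theorem D9917 : act 5 n8324 = n9917 := rfl
theorem F31753 : act 0 n9917 = n8335 := d4_1 D9917 (iv D8335) (iv F26446)
theorem F31754 : act 2 n9917 = n9581 := d15_1 D9917 F30546 (iv F26447)
theorem F31755 : act 3 n9917 = n8327 := d19_1 D9917 (iv D8327) (iv F26448)
theorem F31756 : act 4 n9917 = n9915 := d22_1 D9917 (iv D9915) (iv F26449)
theorem F31757 : act 6 n9917 = n8325 := d25_2 D8324 D9917 (iv D8325) (iv D6700) D6699
theorem F31758 : act 7 n9917 = n8562 := d26_2 F31713 D9917 (iv F31711)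
def n9918 : Q := act 1 n8325
theorem D9918 : act 1 n8325 = n9918 := rfl
theorem F31759 : act 3 n9918 = n8329 := d8_2 (iv F26451) D9918 (iv D8329)
theorem F31760 : act 7 n9918 = n8365 := d12_2 (iv F26452) D9918 F26609
def n9919 : Q := act 2 n8329
theorem D9919 : act 2 n8329 = n9919 := rfl
theorem F31761 : act 1 n9919 = n8347 := d7_1 D9919 (iv D8347) (iv D6730) (iv F21058) D8329
theorem F31762 : act 4 n9919 = n8332 := d14_2 (iv F26468) D9919 (iv D8332)
theorem F31763 : act 7 n9919 = n8359 := d17_2 (iv F26469) D9919 F26590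
def n9920 : Q := act 3 n8332
theorem D9920 : act 3 n8332 = n9920 := rfl
theorem F31764 : act 1 n9920 = n8353 := d8_1 D9920 (iv D8353) (iv F26478)
def n9921 : Q := act 6 n8337
theorem D9921 : act 6 n8337 = n9921 := rfl
theorem F31765 : act 1 n9921 = n8356 := d11_1 D9921 (iv D8356) (iv F26502)
theorem F31766 : act 5 n9921 = n9921 := d25_1 D9921 (iv D9921) (iv D8337) F21121 D8337
def n9922 : Q := act 7 n8337
theorem D9922 : act 7 n8337 = n9922 := rfl
theorem F31767 : act 0 n9922 = n9868 := d6_1 D9922 (iv F31574) F31110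
theorem F31768 : act 1 n9922 = n8357 := d12_1 D9922 (iv D8357) (iv F26502)
theorem F31769 : act 3 n9922 = n9331 := d21_1 D9922 (iv D9331) (iv F25819) D9724 (iv F31106)
theorem F31770 : act 4 n9922 = n9583 := d24_1 D9922 F30551 F28376
theorem F31771 : act 5 n9922 = n8338 := d26_1 D9922 (iv D8338) D8337
def n9923 : Q := act 1 n8340
theorem D9923 : act 1 n8340 = n9923 := rfl
theorem F31772 : act 0 n9923 = n9566 := d0_1 D9923 F30483 F25032 (iv F21193) (iv F26515)
theorem F31773 : act 4 n9923 = n9564 := d9_2 (iv F26517) D9923 F30475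
theorem F31774 : act 6 n9923 = n9580 := d11_2 (iv F26518) D9923 (iv D9580)
theorem F31775 : act 7 n9923 = n9923 := d12_2 F26519 D9923 (iv D9923)
def n9924 : Q := act 2 n8341
theorem D9924 : act 2 n8341 = n9924 := rfl
theorem F31776 : act 0 n9924 = n9310 := d1_1 D9924 (iv D9310) (iv F26520)
theorem F31777 : act 5 n9924 = n8830 := d15_2 (iv F26522) D9924 (iv D8830)
theorem F31778 : act 6 n9924 = n9320 := d16_2 (iv F26523) D9924 (iv D9320)
theorem F31779 : act 7 n9924 = n9924 := d17_2 F26524 D9924 (iv D9924)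
def n9925 : Q := act 5 n8342
theorem D9925 : act 5 n8342 = n9925 := rfl
theorem F31780 : act 0 n9925 = n8362 := d4_1 D9925 (iv D8362) (iv F26525)
theorem F31781 : act 1 n9925 = n9808 := d10_1 D9925 F31395 F26126 (iv F23420) (iv F26526)
theorem F31782 : act 2 n9925 = n8343 := d15_1 D9925 (iv D8343) (iv F26527)
theorem F31783 : act 3 n9925 = n8774 := d19_1 D9925 (iv D8774) (iv F26528)
theorem F31784 : act 4 n9925 = n8348 := d22_1 D9925 (iv D8348) (iv F26529)
theorem F31785 : act 6 n9925 = n8883 := d25_2 D8342 D9925 (iv D8883) (iv D7269) (iv F21154)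
theorem F31786 : act 7 n9925 = n9807 := d26_2 F27077 D9925 F31394
def n9926 : Q := act 1 n8343
theorem D9926 : act 1 n8343 = n9926 := rfl
theorem F31787 : act 0 n9926 = n9287 := d0_1 D9926 (iv D9287) F24349 F23009 (iv F26530)
theorem F31788 : act 3 n9926 = n9318 := d8_2 F27805 D9926 F29755
theorem F31789 : act 4 n9926 = n8350 := d9_2 (iv F26531) D9926 (iv D8350)
theorem F31790 : act 5 n9926 = n8345 := d10_2 D8343 D9926 (iv D8345) (iv D6728) (iv F21158)
theorem F31791 : act 6 n9926 = n8810 := d11_2 (iv F26532) D9926 F28114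
theorem F31792 : act 7 n9719 = n9926 := d26_0 F31790 F26541 D9719
def n9927 : Q := act 7 n8343
theorem D9927 : act 7 n8343 = n9927 := rfl
theorem F31793 : act 0 n9927 = n8364 := d6_1 D9927 (iv D8364) (iv F26530)
theorem F31794 : act 1 n9927 = n9719 := d12_1 D9927 F31792 (iv D9926)
theorem F31795 : act 2 n9927 = n9807 := d17_1 D9927 (iv F31786) F31782
theorem F31796 : act 4 n9927 = n8351 := d24_1 D9927 (iv D8351) (iv F26531)
theorem F31797 : act 5 n9927 = n8344 := d26_1 D9927 (iv D8344) D8343
def n9928 : Q := act 3 n8344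
theorem D9928 : act 3 n8344 = n9928 := rfl
theorem F31798 : act 0 n9928 = n8365 := d2_1 D9928 (iv D8365) (iv F26533)
theorem F31799 : act 1 n9928 = n8346 := d8_1 D9928 (iv D8346) (iv F26534)
theorem F31800 : act 4 n9928 = n9721 := d18_2 (iv F26535) D9928 F31095 F25811 F21182
theorem F31801 : act 6 n9928 = n8537 := d20_2 (iv F26536) D9928 (iv D8537)
def n9929 : Q := act 2 n8345
theorem D9929 : act 2 n8345 = n9929 := rfl
theorem F31802 : act 0 n9929 = n9289 := d1_1 D9929 (iv D9289) (iv F26537)
theorem F31803 : act 4 n9929 = n8352 := d14_2 (iv F26539) D9929 (iv D8352)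
theorem F31804 : act 6 n9929 = n8347 := d16_2 (iv F26540) D9929 (iv D8347)
theorem F31805 : act 7 n9929 = n9717 := d17_2 (iv F26541) D9929 F31087
def n9930 : Q := act 3 n8347
theorem D9930 : act 3 n8347 = n9930 := rfl
theorem F31806 : act 0 n9930 = n9853 := d2_1 D9930 (iv D9853) (iv F26546)
theorem F31807 : act 5 n9930 = n8828 := d19_2 (iv F26548) D9930 (iv D8828)
def n9931 : Q := act 1 n8348
theorem D9931 : act 1 n8348 = n9931 := rfl
theorem F31808 : act 3 n9931 = n8758 := d8_2 (iv F26552) D9931 (iv D8758)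
theorem F31809 : act 4 n9931 = n9808 := d9_2 F31784 D9931 (iv F31781)
theorem F31810 : act 5 n9931 = n8979 := d10_2 D8348 D9931 (iv D8979) (iv D7389) (iv F21174)
theorem F31811 : act 6 n9931 = n8884 := d11_2 (iv F26553) D9931 (iv D8884)
theorem F31812 : act 7 n9806 = n9931 := d26_0 F31810 F28655 D9806
def n9932 : Q := act 7 n8348
theorem D9932 : act 7 n8348 = n9932 := rfl
theorem F31813 : act 0 n9932 = n8370 := d6_1 D9932 (iv D8370) (iv F26550)
theorem F31814 : act 1 n9932 = n9806 := d12_1 D9932 F31812 (iv D9931)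
theorem F31815 : act 2 n9932 = n8351 := d17_1 D9932 (iv D8351) (iv F26551)
theorem F31816 : act 4 n9932 = n9807 := d24_1 D9932 (iv F31786) F31784
theorem F31817 : act 5 n9932 = n8349 := d26_1 D9932 (iv D8349) D8348
def n9933 : Q := act 3 n8349
theorem D9933 : act 3 n8349 = n9933 := rfl
theorem F31818 : act 0 n9933 = n8371 := d2_1 D9933 (iv D8371) (iv F26554)
theorem F31819 : act 1 n9933 = n8933 := d8_1 D9933 F28485 (iv F26555)
theorem F31820 : act 2 n9933 = n9722 := d13_1 D9933 (iv D9722) (iv D8129) F21182 (iv F26556)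
theorem F31821 : act 6 n9933 = n8543 := d20_2 (iv F26557) D9933 (iv D8543)
theorem F31822 : act 7 n9933 = n8664 := d21_2 D8349 D9933 F27654 F22376 (iv F21176)
def n9934 : Q := act 2 n8350
theorem D9934 : act 2 n8350 = n9934 := rfl
theorem F31823 : act 0 n9934 = n9839 := d1_1 D9934 F31481 F26560
theorem F31824 : act 5 n9934 = n8352 := d15_2 (iv F26558) D9934 (iv D8352)
theorem F31825 : act 6 n9934 = n8807 := d16_2 (iv F26559) D9934 F28105
theorem F31826 : act 7 n9934 = n9718 := d17_2 F26561 D9934 F31090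
def n9935 : Q := act 6 n8351
theorem D9935 : act 6 n8351 = n9935 := rfl
theorem F31827 : act 0 n9935 = n8376 := d5_1 D9935 (iv D8376) (iv F26562)
theorem F31828 : act 1 n9935 = n8799 := d11_1 D9935 F28088 (iv F26563)
theorem F31829 : act 3 n9935 = n9715 := d20_1 D9935 F31081 F26565
theorem F31830 : act 5 n9935 = n8545 := d25_1 D9935 (iv D8545) F21950 (iv F21181) (iv F26564)
theorem F31831 : act 7 n9935 = n8798 := d27_2 D8351 D9935 F28083 (iv F22807) (iv F21178)
def n9936 : Q := act 3 n8352
theorem D9936 : act 3 n8352 = n9936 := rfl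
theorem F31832 : act 0 n9936 = n9840 := d2_1 D9936 (iv D9840) (iv F26566)
theorem F31833 : act 6 n9936 = n8353 := d20_2 (iv F26567) D9936 (iv D8353)
def n9937 : Q := act 4 n8353
theorem D9937 : act 4 n8353 = n9937 := rfl
theorem F31834 : act 0 n9937 = n9854 := d3_1 D9937 (iv D9854) (iv F26569)
theorem F31835 : act 5 n9937 = n8829 := d22_2 (iv F26570) D9937 (iv D8829)
def n9938 : Q := act 7 n8356
theorem D9938 : act 7 n8356 = n9938 := rfl
theorem F31836 : act 2 n9938 = n8885 := d17_1 D9938 (iv D8885) (iv F26577)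
theorem F31837 : act 5 n9938 = n8382 := d26_1 D9938 (iv D8382) (iv F26578)
def n9939 : Q := act 6 n8357
theorem D9939 : act 6 n8357 = n9939 := rfl
theorem F31838 : act 0 n9939 = n9873 := d5_1 D9939 F31591 (iv F26579)
theorem F31839 : act 2 n9939 = n8886 := d16_1 D9939 (iv D8886) (iv F26580)
theorem F31840 : act 3 n9939 = n9894 := d20_1 D9939 F31659 F26583
theorem F31841 : act 4 n9939 = n9595 := d23_1 D9939 (iv D9595) (iv F26581)
theorem F31842 : act 5 n9939 = n9939 := d25_1 D9939 (iv D9939) F26582 F21210 (iv F26582)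
def n9940 : Q := act 6 n8358
theorem D9940 : act 6 n8358 = n9940 := rfl
theorem F31843 : act 0 n9940 = n8771 := d5_1 D9940 (iv D8771) (iv F26584)
theorem F31844 : act 1 n9940 = n8826 := d11_1 D9940 F28169 (iv F26585)
theorem F31845 : act 2 n9940 = n8361 := d16_1 D9940 (iv D8361) (iv F26586)
theorem F31846 : act 3 n9940 = n8359 := d20_1 D9940 (iv D8359) D8358
theorem F31847 : act 4 n9940 = n8595 := d23_1 D9940 (iv D8595) (iv F26587)
theorem F31848 : act 5 n9940 = n9763 := d25_1 D9940 F31251 F25976 F23017 (iv F26588)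
def n9941 : Q := act 5 n8359
theorem D9941 : act 5 n8359 = n9941 := rfl
theorem F31849 : act 0 n9941 = n9768 := d4_1 D9941 F31262 F26863
theorem F31850 : act 1 n9941 = n8819 := d10_1 D9941 (iv D8819) F22837 D7215 (iv F26589)
theorem F31851 : act 2 n9941 = n8360 := d15_1 D9941 (iv D8360) (iv F26590)
theorem F31852 : act 3 n9941 = n9763 := d19_1 D9941 (iv F31848) F31846
theorem F31853 : act 4 n9941 = n8823 := d22_1 D9941 F28161 (iv F26591)
theorem F31854 : act 6 n9941 = n8887 := d25_2 D8359 D9941 (iv D8887) (iv D7277) (iv F21231)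
def n9942 : Q := act 5 n8361
theorem D9942 : act 5 n8361 = n9942 := rfl
theorem F31855 : act 0 n9942 = n8774 := d4_1 D9942 (iv D8774) (iv F26596)
theorem F31856 : act 2 n9942 = n9763 := d15_1 D9942 (iv F31848) F31845
theorem F31857 : act 3 n9942 = n8362 := d19_1 D9942 (iv D8362) (iv F26598)
theorem F31858 : act 4 n9942 = n8596 := d22_1 D9942 (iv D8596) (iv F26599)
theorem F31859 : act 6 n9942 = n8888 := d25_2 D8361 D9942 (iv D8888) (iv D7279) (iv F21247)
def n9943 : Q := act 7 n8361
theorem D9943 : act 7 n8361 = n9943 := rfl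
theorem F31860 : act 0 n9943 = n8775 := d6_1 D9943 (iv D8775) (iv F26596)
theorem F31861 : act 1 n9943 = n9943 := d12_1 D9943 (iv D9943) F26597
theorem F31862 : act 4 n9943 = n8597 := d24_1 D9943 (iv D8597) (iv F26599)
def n9944 : Q := act 1 n8362
theorem D9944 : act 1 n8362 = n9944 := rfl
theorem F31863 : act 2 n9944 = n9921 := d7_2 (iv F26600) D9944 F31765 F26577 F23009
theorem F31864 : act 4 n9944 = n8369 := d9_2 (iv F26601) D9944 (iv D8369)
theorem F31865 : act 5 n9944 = n9944 := d10_2 D8362 D9944 (iv D9944) (iv D8362) F21248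
theorem F31866 : act 6 n9944 = n8891 := d11_2 (iv F26602) D9944 (iv D8891)
def n9945 : Q := act 7 n8362
theorem D9945 : act 7 n8362 = n9945 := rfl
theorem F31867 : act 0 n9945 = n9807 := d6_1 D9945 (iv F31786) F31780
theorem F31868 : act 2 n9945 = n8364 := d17_1 D9945 (iv D8364) (iv F26600)
theorem F31869 : act 4 n9945 = n8370 := d24_1 D9945 (iv D8370) (iv F26601)
theorem F31870 : act 5 n9945 = n8363 := d26_1 D9945 (iv D8363) D8362
theorem F31871 : act 3 n9809 = n9945 := d19_3 F31870 (iv F27080) (iv F31396)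
def n9946 : Q := act 3 n8364
theorem D9946 : act 3 n8364 = n9946 := rfl
theorem F31872 : act 5 n9946 = n8365 := d19_2 (iv F26608) D9946 (iv D8365)
def n9947 : Q := act 6 n8364
theorem D9947 : act 6 n8364 = n9947 := rfl
theorem F31873 : act 4 n9947 = n8376 := d23_1 D9947 (iv D8376) (iv F26607)
theorem F31874 : act 5 n9947 = n8572 := d25_1 D9947 (iv D8572) F22074 (iv F21255) (iv F26608)
theorem F31875 : act 7 n9947 = n8895 := d27_2 D8364 D9947 (iv D8895) (iv D7283) (iv F21252)
def n9948 : Q := act 2 n8365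
theorem D9948 : act 2 n8365 = n9948 := rfl
theorem F31876 : act 6 n9948 = n8573 := d16_2 (iv F26610) D9948 (iv D8573)
def n9949 : Q := act 4 n8365
theorem D9949 : act 4 n8365 = n9949 := rfl
theorem F31877 : act 0 n9949 = n9721 := d3_1 D9949 (iv F31800) F31798
theorem F31878 : act 1 n9949 = n8367 := d9_1 D9949 (iv D8367) (iv F26609)
theorem F31879 : act 3 n9949 = n8378 := d18_1 D9949 (iv D8378) (iv D6759) (iv F21254) D8365
theorem F31880 : act 6 n9949 = n8574 := d23_2 (iv F26610) D9949 (iv D8574)
def n9950 : Q := act 1 n8366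
theorem D9950 : act 1 n8366 = n9950 := rfl
theorem F31881 : act 3 n9950 = n9950 := d8_2 F26612 D9950 (iv D9950)
theorem F31882 : act 6 n9950 = n8575 := d11_2 (iv F26613) D9950 (iv D8575)
def n9951 : Q := act 1 n8368
theorem D9951 : act 1 n8368 = n9951 := rfl
theorem F31883 : act 3 n9951 = n8369 := d8_2 (iv F26620) D9951 (iv D8369)
theorem F31884 : act 4 n9951 = n8598 := d9_2 (iv F26621) D9951 (iv D8598)
theorem F31885 : act 5 n9951 = n9951 := d10_2 D8368 D9951 (iv D9951) (iv D8368) F21259
theorem F31886 : act 6 n9951 = n8896 := d11_2 (iv F26622) D9951 (iv D8896)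
def n9952 : Q := act 0 n8369
theorem D9952 : act 0 n8369 = n9952 := rfl
theorem F31887 : act 5 n9952 = n9952 := d4_2 F26623 D9952 (iv D9952)
theorem F31888 : act 6 n9952 = n8899 := d5_2 (iv F26624) D9952 (iv D8899)
def n9953 : Q := act 2 n8369
theorem D9953 : act 2 n8369 = n9953 := rfl
theorem F31889 : act 1 n9953 = n8373 := d7_1 D9953 (iv D8373) (iv D6757) (iv F21263) D8369
theorem F31890 : act 4 n9953 = n9921 := d14_2 F31864 D9953 (iv F31863)
theorem F31891 : act 5 n9953 = n9953 := d15_2 F26623 D9953 (iv D9953)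
theorem F31892 : act 6 n9953 = n8900 := d16_2 (iv F26624) D9953 (iv D8900)
def n9954 : Q := act 7 n8369
theorem D9954 : act 7 n8369 = n9954 := rfl
theorem F31893 : act 1 n9954 = n8370 := d12_1 D9954 (iv D8370) D8369
theorem F31894 : act 5 n9954 = n9954 := d26_1 D9954 (iv D9954) F26623
def n9955 : Q := act 3 n8370
theorem D9955 : act 3 n8370 = n9955 := rfl
theorem F31895 : act 5 n9955 = n8371 := d19_2 (iv F26626) D9955 (iv D8371)
def n9956 : Q := act 6 n8370
theorem D9956 : act 6 n8370 = n9956 := rfl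
theorem F31896 : act 2 n9956 = n8376 := d16_1 D9956 (iv D8376) (iv F26625)
theorem F31897 : act 5 n9956 = n8581 := d25_1 D9956 (iv D8581) F22100 (iv F21267) (iv F26626)
theorem F31898 : act 7 n9956 = n8903 := d27_2 D8370 D9956 (iv D8903) (iv D7288) (iv F21264)
def n9957 : Q := act 2 n8371
theorem D9957 : act 2 n8371 = n9957 := rfl
theorem F31899 : act 0 n9957 = n9722 := d1_1 D9957 (iv F31820) F31818
theorem F31900 : act 3 n9957 = n8377 := d13_2 D8371 D9957 (iv D8377) (iv D6759) (iv F21266)
theorem F31901 : act 6 n9957 = n8582 := d16_2 (iv F26628) D9957 (iv D8582)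
def n9958 : Q := act 4 n8371
theorem D9958 : act 4 n8371 = n9958 := rfl
theorem F31902 : act 1 n9958 = n9958 := d9_1 D9958 (iv D9958) F26627
theorem F31903 : act 6 n9958 = n8583 := d23_2 (iv F26628) D9958 (iv D8583)
theorem F31904 : act 7 n9958 = n8965 := d24_2 F28415 D9958 F28608
def n9959 : Q := act 7 n8373
theorem D9959 : act 7 n8373 = n9959 := rfl
theorem F31905 : act 0 n9959 = n9841 := d6_1 D9959 F31485 F29110
theorem F31906 : act 2 n9959 = n8374 := d17_1 D9959 (iv D8374) D8373
theorem F31907 : act 4 n9959 = n9938 := d24_1 D9959 (iv D9938) (iv F26635)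
theorem F31908 : act 5 n9959 = n8379 := d26_1 D9959 (iv D8379) (iv F26636)
def n9960 : Q := act 2 n8375
theorem D9960 : act 2 n8375 = n9960 := rfl
theorem F31909 : act 0 n9960 = n9720 := d1_1 D9960 (iv D9720) (iv F26642)
theorem F31910 : act 5 n9960 = n8377 := d15_2 (iv F26644) D9960 (iv D8377)
theorem F31911 : act 6 n9714 = n9960 := d25_0 F31910 F26648 (iv F27245) F27246 (iv F31079)
theorem F31912 : act 1 n9960 = n9708 := d11_1 F31911 F31057 D9714
theorem F31913 : act 4 n9960 = n9715 := d23_1 F31911 F31081 (iv F31078)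
def n9961 : Q := act 4 n8375
theorem D9961 : act 4 n8375 = n9961 := rfl
theorem F31914 : act 0 n9961 = n9714 := d3_1 D9961 F31078 (iv F26642)
theorem F31915 : act 1 n9961 = n9826 := d9_1 D9961 F31444 (iv F26643)
theorem F31916 : act 2 n9961 = n9715 := d14_1 D9961 (iv F31913) (iv D9960)
theorem F31917 : act 5 n9961 = n8378 := d22_2 (iv F26644) D9961 (iv D8378)
theorem F31918 : act 6 n9720 = n9961 := d25_0 F31917 F26651 (iv F27238) F27239 (iv F31094)
def n9962 : Q := act 6 n8375
theorem D9962 : act 6 n8375 = n9962 := rfl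
theorem F31919 : act 0 n9962 = n9715 := d5_1 D9962 F31081 (iv F26642)
theorem F31920 : act 1 n9962 = n9833 := d11_1 D9962 F31471 (iv F26643)
theorem F31921 : act 2 n9962 = n9714 := d16_1 D9962 F31911 (iv D9960)
theorem F31922 : act 3 n9962 = n8376 := d20_1 D9962 (iv D8376) D8375
theorem F31923 : act 4 n9962 = n9720 := d23_1 D9962 F31918 (iv D9961)
theorem F31924 : act 5 n9962 = n8584 := d25_1 D9962 (iv D8584) F22103 (iv F21274) (iv F26644)
def n9963 : Q := act 1 n8377
theorem D9963 : act 1 n8377 = n9963 := rfl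
theorem F31925 : act 0 n9963 = n9963 := d0_1 D9963 (iv D9963) F26647 F25813 (iv F26647)
theorem F31926 : act 2 n9963 = n8380 := d7_2 D8377 D9963 (iv D8380) (iv D6763) (iv F21273)
theorem F31927 : act 5 n9963 = n9169 := d10_2 F31910 D9963 F29260 D9708 (iv F31912)
theorem F31928 : act 6 n9963 = n8585 := d11_2 (iv F26648) D9963 (iv D8585)
theorem F31929 : act 7 n9963 = n9168 := d12_2 F31141 D9963 (iv F31137)
theorem F31930 : act 4 n9171 = n9963 := d24_3 F31929 F29257 D9171
def n9964 : Q := act 4 n8377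
theorem D9964 : act 4 n8377 = n9964 := rfl
theorem F31931 : act 0 n9964 = n8584 := d3_1 D9964 F27380 (iv F26647)
theorem F31932 : act 1 n9964 = n9171 := d9_1 D9964 F31930 (iv D9963)
theorem F31933 : act 2 n9964 = n8378 := d14_1 D9964 (iv D8378) D8377
theorem F31934 : act 5 n9964 = n9715 := d22_2 F31910 D9964 (iv F31913)
theorem F31935 : act 6 n9964 = n8544 := d23_2 (iv F26648) D9964 F27232
theorem F31936 : act 7 n9964 = n9170 := d24_2 F31141 D9964 (iv F31139)
theorem F31937 : act 3 n8545 = n9964 := d21_5 F31936 F29263 F23966 (iv F23677) (iv F27235)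
def n9965 : Q := act 3 n8379
theorem D9965 : act 3 n8379 = n9965 := rfl
theorem F31938 : act 0 n9965 = n9859 := d2_1 D9965 (iv D9859) (iv F26652)
theorem F31939 : act 1 n9965 = n9965 := d8_1 D9965 (iv D9965) F26653
theorem F31940 : act 2 n9965 = n9861 := d13_1 D9965 (iv D9861) (iv D8263) F21285 (iv F26654)
theorem F31941 : act 6 n9965 = n9965 := d20_2 F26655 D9965 (iv D9965)
def n9966 : Q := act 3 n8382
theorem D9966 : act 3 n8382 = n9966 := rfl
theorem F31942 : act 1 n9966 = n9966 := d8_1 D9966 (iv D9966) F26665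
theorem F31943 : act 6 n9966 = n9966 := d20_2 F26668 D9966 (iv D9966)
theorem F31944 : act 7 n9966 = n9218 := d21_2 D8382 D9966 F29429 F24110 F23987
theorem F31945 : act 2 n9966 = n9412 := d29_1 D9966 F30004 (iv F30051) F30052 F25449 F26138 (iv D8220) (iv D6608) (iv D5046) F11390 (iv F15626) D6592 F20717 F16530 (iv F17190) (iv D5490) F12631 F8907 D2884 D4073 (iv F13936) F13935 F9984 D4397 (iv F14026) (iv F18760) (iv F23986) F23987 D8382
def n9967 : Q := act 3 n8384
theorem D9967 : act 3 n8384 = n9967 := rfl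
theorem F31946 : act 0 n9967 = n9734 := d2_1 D9967 (iv D9734) (iv F26672)
theorem F31947 : act 1 n9967 = n9360 := d8_1 D9967 F29857 F29492
theorem F31948 : act 2 n9967 = n8667 := d13_1 D9967 (iv D8667) F22381 (iv F21322) (iv F26673)
theorem F31949 : act 5 n9967 = n8763 := d19_2 (iv F26674) D9967 F27999
theorem F31950 : act 6 n9967 = n9358 := d20_2 F29479 D9967 F29851
theorem F31951 : act 7 n9967 = n8914 := d21_2 D8384 D9967 (iv D8914) (iv D7303) (iv F21314)
def n9968 : Q := act 1 n8385
theorem D9968 : act 1 n8385 = n9968 := rfl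
theorem F31952 : act 5 n9968 = n9968 := d10_2 D8385 D9968 (iv D9968) (iv D8385) F21317
theorem F31953 : act 7 n9968 = n9705 := d12_2 (iv F26677) D9968 (iv D9705)
def n9969 : Q := act 5 n8386
theorem D9969 : act 5 n8386 = n9969 := rfl
theorem F31954 : act 0 n9969 = n9739 := d4_1 D9969 (iv D9739) (iv F26678)
theorem F31955 : act 3 n9969 = n8682 := d19_1 D9969 (iv D8682) (iv F26680)
theorem F31956 : act 6 n9969 = n8793 := d25_2 D8386 D9969 (iv D8793) (iv D7188) (iv F21323)
theorem F31957 : act 7 n9969 = n8387 := d26_2 (iv F26681) D9969 (iv D8387)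
def n9970 : Q := act 1 n8387
theorem D9970 : act 1 n8387 = n9970 := rfl
theorem F31958 : act 5 n9970 = n9970 := d10_2 D8387 D9970 (iv D9970) (iv D8387) F21325
theorem F31959 : act 6 n9970 = n8388 := d11_2 (iv F26683) D9970 (iv D8388)
def n9971 : Q := act 2 n8388
theorem D9971 : act 2 n8388 = n9971 := rfl
theorem F31960 : act 5 n9971 = n8389 := d15_2 (iv F26684) D9971 (iv D8389)
theorem F31961 : act 7 n9971 = n9720 := d17_2 (iv F26685) D9971 (iv D9720)
def n9972 : Q := act 3 n8389
theorem D9972 : act 3 n8389 = n9972 := rfl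
theorem F31962 : act 0 n9972 = n9612 := d2_1 D9972 (iv F31138) F31136
theorem F31963 : act 1 n9972 = n9972 := d8_1 D9972 (iv D9972) F26686
theorem F31964 : act 2 n9972 = n8681 := d13_1 D9972 F27703 (iv F25857) F25858 D8389
theorem F31965 : act 6 n9972 = n9972 := d20_2 F26687 D9972 (iv D9972)
theorem F31966 : act 7 n8678 = n9972 := d17_0 F31964 (iv D8681) (iv F27696)
def n9973 : Q := act 4 n8390
theorem D9973 : act 4 n8390 = n9973 := rfl
theorem F31967 : act 0 n9973 = n9503 := d3_1 D9973 F30288 (iv F26689)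
theorem F31968 : act 1 n9973 = n9973 := d9_1 D9973 (iv D9973) F26690
theorem F31969 : act 2 n9973 = n8411 := d14_1 D9973 (iv D8411) (iv F26691)
theorem F31970 : act 3 n9973 = n9973 := d18_1 D9973 (iv D9973) (iv D8390) F21332 D8390
theorem F31971 : act 5 n9973 = n9973 := d22_2 F26692 D9973 (iv D9973)
theorem F31972 : act 7 n9973 = n9483 := d24_2 (iv F29325) D9973 F30218
theorem F31973 : act 6 n9973 = n8529 := d30_6 F14137 D6041 (iv F19932) D8005 (iv F30217) (iv F31972) (iv D8529) (iv D6924) (iv D5363) (iv F16744) F16748 (iv D5207) (iv D3826) F8265 F8266 F8267 (iv F7875) F7874 (iv F7755) F7753 (iv F8791) F8792 (iv D2834) (iv F6479) F6478 (iv F7096) (iv F10162) D4560 F14146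
def n9974 : Q := act 6 n8390
theorem D9974 : act 6 n8390 = n9974 := rfl
theorem F31974 : act 0 n9974 = n9687 := d5_1 D9974 (iv D9687) (iv F26689)
theorem F31975 : act 1 n9974 = n9974 := d11_1 D9974 (iv D9974) F26690
theorem F31976 : act 2 n9974 = n8412 := d16_1 D9974 (iv D8412) (iv F26691)
theorem F31977 : act 3 n9974 = n8391 := d20_1 D9974 (iv D8391) D8390
theorem F31978 : act 4 n9974 = n8529 := d23_1 D9974 (iv F31973) (iv D9973)
theorem F31979 : act 7 n9974 = n9578 := d27_2 (iv F29325) D9974 (iv F30536) F29231 D9187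
theorem F31980 : act 5 n8526 = n9974 := d26_3 F31979 (iv D9578) (iv F27157)
def n9975 : Q := act 5 n8391
theorem D9975 : act 5 n8391 = n9975 := rfl
theorem F31981 : act 0 n9975 = n9688 := d4_1 D9975 (iv D9688) (iv F26693)
theorem F31982 : act 2 n9975 = n8392 := d15_1 D9975 (iv D8392) (iv F26695)
theorem F31983 : act 3 n9975 = n8526 := d19_1 D9975 F31980 F31977
theorem F31984 : act 4 n9975 = n9975 := d22_1 D9975 (iv D9975) F26696
theorem F31985 : act 6 n9975 = n9975 := d25_2 D8391 D9975 (iv D9975) (iv D8391) F21333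
theorem F31986 : act 1 n8527 = n9975 := d8_3 F31983 (iv D8526) D8527
def n9976 : Q := act 5 n8393
theorem D9976 : act 5 n8393 = n9976 := rfl
theorem F31987 : act 0 n9976 = n8397 := d4_1 D9976 (iv D8397) (iv F26702)
theorem F31988 : act 3 n9976 = n8394 := d19_1 D9976 (iv D8394) D8393
theorem F31989 : act 4 n9976 = n8431 := d22_1 D9976 (iv D8431) (iv F26704)
theorem F31990 : act 7 n9976 = n9716 := d26_2 F26883 D9976 F31084
def n9977 : Q := act 6 n8394
theorem D9977 : act 6 n8394 = n9977 := rfl
theorem F31991 : act 0 n9977 = n8399 := d5_1 D9977 (iv D8399) (iv F26706)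
theorem F31992 : act 2 n9977 = n9977 := d16_1 D9977 (iv D9977) F26707
theorem F31993 : act 4 n9977 = n8395 := d23_1 D9977 (iv D8395) (iv F26708)
def n9978 : Q := act 5 n8395
theorem D9978 : act 5 n8395 = n9978 := rfl
theorem F31994 : act 0 n9978 = n8401 := d4_1 D9978 (iv D8401) (iv F26710)
theorem F31995 : act 2 n9978 = n9978 := d15_1 D9978 (iv D9978) F26711
theorem F31996 : act 3 n9978 = n8437 := d19_1 D9978 F26850 (iv F26712)
theorem F31997 : act 6 n9978 = n8396 := d25_2 D8395 D9978 (iv D8396) (iv D6780) D6779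
def n9979 : Q := act 7 n8395
theorem D9979 : act 7 n8395 = n9979 := rfl
theorem F31998 : act 0 n9979 = n8402 := d6_1 D9979 (iv D8402) (iv F26710)
theorem F31999 : act 2 n9979 = n9979 := d17_1 D9979 (iv D9979) F26711
def n9980 : Q := act 6 n8397
theorem D9980 : act 6 n8397 = n9980 := rfl
theorem F32000 : act 1 n9980 = n8401 := d11_1 D9980 F26734 (iv F26716)
theorem F32001 : act 3 n9980 = n8399 := d20_1 D9980 (iv D8399) (iv F26717)
theorem F32002 : act 4 n9980 = n8434 := d23_1 D9980 F26841 (iv F26718)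
theorem F32003 : act 5 n9980 = n8433 := d25_1 D9980 (iv D8433) (iv D6823) F21352 D8397
def n9981 : Q := act 6 n8398
theorem D9981 : act 6 n8398 = n9981 := rfl
theorem F32004 : act 0 n9981 = n9759 := d5_1 D9981 F31241 F26880
theorem F32005 : act 1 n9981 = n8404 := d11_1 D9981 (iv D8404) (iv F26720)
theorem F32006 : act 3 n9981 = n9829 := d20_1 D9981 (iv D9829) (iv F26721)
theorem F32007 : act 4 n9981 = n8426 := d23_1 D9981 F26822 (iv F26722)
theorem F32008 : act 7 n9981 = n8424 := d27_2 D8398 D9981 (iv D8424) F21464 F21352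
def n9982 : Q := act 5 n8399
theorem D9982 : act 5 n8399 = n9982 := rfl
theorem F32009 : act 1 n9982 = n8434 := d10_1 D9982 (iv D8434) F21499 (iv F21514) (iv F26724)
theorem F32010 : act 2 n9982 = n9982 := d15_1 D9982 (iv D9982) F26725
theorem F32011 : act 3 n9982 = n8433 := d19_1 D9982 (iv F32003) F32001
theorem F32012 : act 4 n9982 = n8401 := d22_1 D9982 (iv D8401) (iv F26726)
theorem F32013 : act 6 n9982 = n8400 := d25_2 D8399 D9982 (iv D8400) (iv D6783) D6782
def n9983 : Q := act 7 n8399
theorem D9983 : act 7 n8399 = n9983 := rfl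
theorem F32014 : act 1 n9983 = n8440 := d12_1 D9983 (iv D8440) (iv F26724)
theorem F32015 : act 2 n9983 = n9983 := d17_1 D9983 (iv D9983) F26725
theorem F32016 : act 4 n9983 = n8402 := d24_1 D9983 (iv D8402) (iv F26726)
theorem F32017 : act 6 n9983 = n9852 := d27_1 D9983 (iv D9852) (iv D8253) (iv F21356) D8399
def n9984 : Q := act 7 n8401
theorem D9984 : act 7 n8401 = n9984 := rfl
theorem F32018 : act 2 n9984 = n9984 := d17_1 D9984 (iv D9984) F26732
theorem F32019 : act 5 n9984 = n8402 := d26_1 D9984 (iv D8402) D8401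
def n9985 : Q := act 3 n8402
theorem D9985 : act 3 n8402 = n9985 := rfl
theorem F32020 : act 1 n9985 = n8442 := d8_1 D9985 (iv D8442) (iv F26735)
theorem F32021 : act 7 n9985 = n9563 := d21_2 D8402 D9985 (iv D9563) (iv D7907) (iv F21364)
def n9986 : Q := act 6 n8403
theorem D9986 : act 6 n8403 = n9986 := rfl
theorem F32022 : act 0 n9986 = n9982 := d5_1 D9986 F32013 (iv F26737)
theorem F32023 : act 1 n9986 = n9836 := d11_1 D9986 (iv D9836) (iv F26738)
theorem F32024 : act 2 n9986 = n9986 := d16_1 D9986 (iv D9986) F26739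
theorem F32025 : act 3 n9986 = n9294 := d20_1 D9986 F29690 (iv F26740)
theorem F32026 : act 4 n9986 = n9978 := d23_1 D9986 F31997 (iv F26741)
theorem F32027 : act 5 n9986 = n9977 := d25_1 D9986 (iv D9977) (iv D8394) (iv F21371) (iv F26742)
def n9987 : Q := act 5 n8405
theorem D9987 : act 5 n8405 = n9987 := rfl
theorem F32028 : act 0 n9987 = n9987 := d4_1 D9987 (iv D9987) F26747
theorem F32029 : act 1 n9987 = n9230 := d10_1 D9987 (iv D9230) F24141 F21410 (iv F26748)
theorem F32030 : act 3 n9987 = n9987 := d19_1 D9987 (iv D9987) F26749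
theorem F32031 : act 4 n9987 = n8422 := d22_1 D9987 F26811 (iv F26750)
theorem F32032 : act 6 n9987 = n9987 := d25_2 D8405 D9987 (iv D9987) (iv D8405) F21380
theorem F32033 : act 7 n9987 = n8420 := d26_2 (iv F26751) D9987 (iv D8420)
def n9988 : Q := act 6 n8406
theorem D9988 : act 6 n8406 = n9988 := rfl
theorem F32034 : act 0 n9988 = n8448 := d5_1 D9988 (iv D8448) (iv F26752)
theorem F32035 : act 1 n9988 = n8407 := d11_1 D9988 (iv D8407) D8406
theorem F32036 : act 2 n9988 = n8890 := d16_1 D9988 (iv D8890) (iv F26753)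
theorem F32037 : act 3 n9988 = n9849 := d20_1 D9988 F31516 F26837
theorem F32038 : act 4 n9988 = n8408 := d23_1 D9988 (iv D8408) (iv F26754)
theorem F32039 : act 7 n9988 = n9769 := d27_2 (iv F26755) D9988 (iv D9769) (iv D8181) F23017
def n9989 : Q := act 5 n8408
theorem D9989 : act 5 n8408 = n9989 := rfl
theorem F32040 : act 0 n9989 = n8450 := d4_1 D9989 (iv D8450) (iv F26761)
theorem F32041 : act 3 n9989 = n9686 := d19_1 D9989 (iv D9686) (iv F26763)
def n9990 : Q := act 5 n8409
theorem D9990 : act 5 n8409 = n9990 := rfl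
theorem F32042 : act 0 n9990 = n8413 := d4_1 D9990 (iv D8413) (iv F26764)
theorem F32043 : act 2 n9990 = n8410 := d15_1 D9990 (iv D8410) (iv F26765)
theorem F32044 : act 4 n9990 = n9243 := d22_1 D9990 (iv D9243) (iv F26766)
theorem F32045 : act 6 n9990 = n9990 := d25_2 D8409 D9990 (iv D9990) (iv D8409) F21414
def n9991 : Q := act 6 n8411
theorem D9991 : act 6 n8411 = n9991 := rfl
theorem F32046 : act 0 n9991 = n9504 := d5_1 D9991 (iv D9504) (iv F26770)
theorem F32047 : act 1 n9991 = n8469 := d11_1 D9991 (iv D8469) (iv F26771)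
theorem F32048 : act 2 n9991 = n8529 := d16_1 D9991 (iv F31973) F31969
theorem F32049 : act 3 n9991 = n9467 := d20_1 D9991 (iv D9467) (iv F26772)
theorem F32050 : act 4 n9991 = n8412 := d23_1 D9991 (iv D8412) D8411
theorem F32051 : act 5 n9991 = n8514 := d29_5 F26945 F21635 (iv F26771) F26773 D9991 (iv D8514) (iv D6908) (iv F21834) F21837 F21337 (iv F21422) F21421 D6866 F21640 (iv D5790) F13402 F13403 F9568 D4332 D5793 D7383 F23398 (iv D6050) (iv D4568) (iv F14161) (iv F17951) (iv F19352) (iv F24684) (iv F26947)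
def n9992 : Q := act 5 n8412
theorem D9992 : act 5 n8412 = n9992 := rfl
theorem F32052 : act 1 n9992 = n8510 := d10_1 D9992 (iv F30462) F30459 (iv D8470) (iv F26775)
theorem F32053 : act 2 n9992 = n8526 := d15_1 D9992 F31980 F31976
theorem F32054 : act 3 n9992 = n8413 := d19_1 D9992 (iv D8413) (iv F26776)
theorem F32055 : act 4 n9992 = n8514 := d22_1 D9992 (iv F32051) F32050
theorem F32056 : act 6 n9992 = n9992 := d25_2 D8412 D9992 (iv D9992) (iv D8412) F21420
theorem F32057 : act 7 n9312 = n9992 := d17_0 F32053 F27157 (iv F29739)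
def n9993 : Q := act 7 n8412
theorem D9993 : act 7 n8412 = n9993 := rfl
theorem F32058 : act 1 n9993 = n8471 := d12_1 D9993 (iv D8471) (iv F26775)
theorem F32059 : act 2 n9993 = n9578 := d17_1 D9993 (iv F31979) F31976
theorem F32060 : act 5 n9993 = n9312 := d26_1 D9993 F32057 (iv D9992)
def n9994 : Q := act 1 n8413
theorem D9994 : act 1 n8413 = n9994 := rfl
theorem F32061 : act 2 n9994 = n9994 := d7_2 (iv F26777) D9994 (iv D9994) F26777 F21423
theorem F32062 : act 3 n9994 = n8510 := d8_2 F32054 D9994 (iv F32052)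
theorem F32063 : act 5 n9994 = n8472 := d10_2 D8413 D9994 (iv D8472) (iv D6866) (iv F21421)
theorem F32064 : act 6 n9994 = n9994 := d11_2 F26778 D9994 (iv D9994)
theorem F32065 : act 0 n8511 = n9994 := d2_3 F32062 F27107 D8511
def n9995 : Q := act 7 n8413
theorem D9995 : act 7 n8413 = n9995 := rfl
theorem F32066 : act 2 n9995 = n8415 := d17_1 D9995 (iv D8415) (iv F26777)
theorem F32067 : act 4 n9995 = n9521 := d24_1 D9995 (iv F30334) F29462
theorem F32068 : act 5 n9995 = n8414 := d26_1 D9995 (iv D8414) D8413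
theorem F32069 : act 6 n9520 = n9995 := d25_0 F32068 (iv F28322) F28321 (iv F24872) (iv F30330)
def n9996 : Q := act 3 n8414
theorem D9996 : act 3 n8414 = n9996 := rfl
theorem F32070 : act 1 n9996 = n8474 := d8_1 D9996 (iv D8474) (iv F26779)
def n9997 : Q := act 0 n8416
theorem D9997 : act 0 n8416 = n9997 := rfl
theorem F32071 : act 1 n9997 = n9997 := d0_2 D8416 D9997 (iv D9997) (iv D8416) F21432
theorem F32072 : act 3 n9997 = n9943 := d2_2 F28020 D9997 F31860
theorem F32073 : act 4 n9997 = n8984 := d3_2 (iv F26786) D9997 (iv D8984)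
theorem F32074 : act 6 n9997 = n8980 := d5_2 (iv F26787) D9997 (iv D8980)
theorem F32075 : act 7 n9997 = n8500 := d6_2 (iv F26788) D9997 (iv D8500)
def n9998 : Q := act 2 n8416
theorem D9998 : act 2 n8416 = n9998 := rfl
theorem F32076 : act 1 n9998 = n8423 := d7_1 D9998 (iv D8423) (iv D6811) (iv F21433) D8416
theorem F32077 : act 4 n9998 = n8985 := d14_2 (iv F26786) D9998 (iv D8985)
theorem F32078 : act 6 n9998 = n8981 := d16_2 (iv F26787) D9998 (iv D8981)
theorem F32079 : act 7 n9998 = n8501 := d17_2 (iv F26788) D9998 (iv D8501)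
def n9999 : Q := act 6 n8417
theorem D9999 : act 6 n8417 = n9999 := rfl
theorem F32080 : act 0 n9999 = n9999 := d5_1 D9999 (iv D9999) F26789
theorem F32081 : act 2 n9999 = n8524 := d16_1 D9999 (iv D8524) (iv F26790)
theorem F32082 : act 3 n9999 = n8418 := d20_1 D9999 (iv D8418) D8417
theorem F32083 : act 4 n9999 = n9496 := d23_1 D9999 F31611 F31608
theorem F32084 : act 5 n9497 = n9999 := d22_0 F32083 F30265 (iv F30268)
theorem F32085 : act 7 n9495 = n9999 := d24_0 F32083 (iv D9496) D9495
def n10000 : Q := act 5 n8418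
theorem D10000 : act 5 n8418 = n10000 := rfl
theorem F32086 : act 0 n10000 = n10000 := d4_1 D10000 (iv D10000) F26793
theorem F32087 : act 2 n10000 = n8420 := d15_1 D10000 (iv D8420) (iv F26794)
theorem F32088 : act 3 n10000 = n9497 := d19_1 D10000 F32084 F32082
theorem F32089 : act 4 n10000 = n8419 := d22_1 D10000 (iv D8419) (iv F26795)
theorem F32090 : act 6 n10000 = n8948 := d25_2 D8418 D10000 (iv D8948) (iv D7335) (iv F21439)
def n10001 : Q := act 1 n8419
theorem D10001 : act 1 n8419 = n10001 := rfl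
theorem F32091 : act 6 n10001 = n8997 := d11_2 (iv F26798) D10001 (iv D8997)
def n10002 : Q := act 2 n8421
theorem D10002 : act 2 n8421 = n10002 := rfl
theorem F32092 : act 0 n10002 = n9995 := d1_1 D10002 F32066 F26806
theorem F32093 : act 5 n10002 = n8428 := d15_2 (iv F26804) D10002 (iv D8428)
theorem F32094 : act 6 n10002 = n8998 := d16_2 (iv F26805) D10002 (iv D8998)
theorem F32095 : act 7 n10002 = n9990 := d17_2 (iv F26807) D10002 F32043
def n10003 : Q := act 3 n8423
theorem D10003 : act 3 n8423 = n10003 := rfl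
theorem F32096 : act 5 n10003 = n8430 := d19_2 (iv F26814) D10003 (iv D8430)
theorem F32097 : act 6 n10003 = n8999 := d20_2 (iv F26815) D10003 (iv D8999)
def n10004 : Q := act 5 n8424
theorem D10004 : act 5 n8424 = n10004 := rfl
theorem F32098 : act 0 n10004 = n9758 := d4_1 D10004 (iv D9758) (iv F26817)
theorem F32099 : act 3 n10004 = n9755 := d19_1 D10004 (iv D9755) (iv F26819)
theorem F32100 : act 4 n10004 = n8425 := d22_1 D10004 (iv D8425) (iv F26820)
def n10005 : Q := act 1 n8425
theorem D10005 : act 1 n8425 = n10005 := rfl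
theorem F32101 : act 5 n10005 = n8427 := d10_2 D8425 D10005 (iv D8427) (iv D6816) (iv F21465)
theorem F32102 : act 7 n9989 = n10005 := d26_0 F32101 F26824 D9989
def n10006 : Q := act 7 n8425
theorem D10006 : act 7 n8425 = n10006 := rfl
theorem F32103 : act 1 n10006 = n9989 := d12_1 D10006 F32102 (iv D10005)
theorem F32104 : act 5 n10006 = n8426 := d26_1 D10006 (iv D8426) D8425
def n10007 : Q := act 2 n8427
theorem D10007 : act 2 n8427 = n10007 := rfl
theorem F32105 : act 0 n10007 = n9801 := d1_1 D10007 F31380 F26893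
theorem F32106 : act 1 n10007 = n8428 := d7_1 D10007 (iv D8428) (iv D6818) (iv F21471) D8427
theorem F32107 : act 6 n10007 = n9304 := d16_2 (iv F26823) D10007 (iv D9304)
theorem F32108 : act 7 n10007 = n9698 := d17_2 (iv F26824) D10007 F31022
def n10008 : Q := act 3 n8428
theorem D10008 : act 3 n8428 = n10008 := rfl
theorem F32109 : act 0 n10008 = n9996 := d2_1 D10008 (iv D9996) (iv F26825)
theorem F32110 : act 2 n10008 = n8430 := d13_1 D10008 (iv D8430) (iv D6820) (iv F21479) D8428
theorem F32111 : act 6 n10008 = n9305 := d20_2 (iv F26826) D10008 (iv D9305)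
def n10009 : Q := act 1 n8429
theorem D10009 : act 1 n8429 = n10009 := rfl
theorem F32112 : act 2 n10009 = n8445 := d7_2 D8429 D10009 (iv D8445) (iv D6837) (iv F21482)
theorem F32113 : act 4 n10009 = n9312 := d9_2 (iv F26829) D10009 (iv D9312)
theorem F32114 : act 6 n10009 = n9306 := d11_2 (iv F26830) D10009 (iv D9306)
theorem F32115 : act 7 n10009 = n8514 := d12_2 (iv F26831) D10009 (iv D8514)
def n10010 : Q := act 3 n8429
theorem D10010 : act 3 n8429 = n10010 := rfl
theorem F32116 : act 0 n10010 = n8430 := d2_1 D10010 (iv D8430) (iv F26828)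
theorem F32117 : act 2 n10010 = n9996 := d13_1 D10010 (iv D9996) F26780 (iv F21483) D8429
theorem F32118 : act 6 n10010 = n9307 := d20_2 (iv F26830) D10010 (iv D9307)
def n10011 : Q := act 4 n8430
theorem D10011 : act 4 n8430 = n10011 := rfl
theorem F32119 : act 3 n10011 = n9314 := d18_1 D10011 (iv D9314) (iv D7702) (iv F21487) D8430
theorem F32120 : act 6 n10011 = n9308 := d23_2 (iv F26832) D10011 (iv D9308)
def n10012 : Q := act 7 n8430
theorem D10012 : act 7 n8430 = n10012 := rfl
theorem F32121 : act 3 n10012 = n8517 := d21_1 D10012 (iv D8517) (iv D6909) (iv F21489) D8430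
def n10013 : Q := act 7 n8431
theorem D10013 : act 7 n8431 = n10013 := rfl
theorem F32122 : act 0 n10013 = n8436 := d6_1 D10013 (iv D8436) (iv F26833)
theorem F32123 : act 1 n10013 = n9976 := d12_1 D10013 F31990 F31083
theorem F32124 : act 3 n10013 = n9700 := d21_1 D10013 F31032 (iv D8358) (iv F21511) (iv F26834)
theorem F32125 : act 4 n10013 = n9716 := d24_1 D10013 (iv F31990) F31989
theorem F32126 : act 5 n10013 = n8432 := d26_1 D10013 (iv D8432) D8431
def n10014 : Q := act 7 n8434
theorem D10014 : act 7 n8434 = n10014 := rfl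
theorem F32127 : act 5 n10014 = n8435 := d26_1 D10014 (iv D8435) D8434
def n10015 : Q := act 3 n8435
theorem D10015 : act 3 n8435 = n10015 := rfl
theorem F32128 : act 1 n10015 = n9563 := d8_1 D10015 (iv D9563) (iv F26842)
theorem F32129 : act 7 n10015 = n8442 := d21_2 D8435 D10015 (iv D8442) (iv D6832) (iv F21500)
def n10016 : Q := act 6 n8436
theorem D10016 : act 6 n8436 = n10016 := rfl
theorem F32130 : act 1 n10016 = n9978 := d11_1 D10016 F31997 (iv F26843)
theorem F32131 : act 3 n10016 = n9803 := d20_1 D10016 (iv D9803) (iv F26844)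
theorem F32132 : act 4 n10016 = n9836 := d23_1 D10016 (iv D9836) (iv F26845)
def n10017 : Q := act 7 n8437
theorem D10017 : act 7 n8437 = n10017 := rfl
theorem F32133 : act 0 n10017 = n8440 := d6_1 D10017 (iv D8440) (iv F26847)
theorem F32134 : act 2 n10017 = n8939 := d17_1 D10017 (iv D8939) (iv F26848)
theorem F32135 : act 4 n10017 = n8439 := d24_1 D10017 (iv D8439) (iv F26849)
theorem F32136 : act 5 n10017 = n9562 := d26_1 D10017 (iv D9562) (iv F26850)
def n10018 : Q := act 7 n8438
theorem D10018 : act 7 n8438 = n10018 := rfl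
theorem F32137 : act 0 n10018 = n8441 := d6_1 D10018 (iv D8441) (iv F26851)
theorem F32138 : act 1 n10018 = n9929 := d12_1 D10018 F31805 F31086
theorem F32139 : act 2 n10018 = n8940 := d17_1 D10018 (iv D8940) (iv F26852)
theorem F32140 : act 4 n10018 = n9562 := d24_1 D10018 (iv D9562) (iv F26853)
theorem F32141 : act 5 n10018 = n8439 := d26_1 D10018 (iv D8439) D8438
theorem F32142 : act 6 n10018 = n9919 := d27_1 D10018 F31763 (iv D8359) (iv F21511) (iv F26854)
def n10019 : Q := act 3 n8439
theorem D10019 : act 3 n8439 = n10019 := rfl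
theorem F32143 : act 0 n10019 = n8442 := d2_1 D10019 (iv D8442) (iv F26855)
def n10020 : Q := act 3 n8440
theorem D10020 : act 3 n8440 = n10020 := rfl
theorem F32144 : act 5 n10020 = n9563 := d19_2 (iv F26859) D10020 (iv D9563)
def n10021 : Q := act 3 n8441
theorem D10021 : act 3 n8441 = n10021 := rfl
theorem F32145 : act 5 n10021 = n8442 := d19_2 (iv F26862) D10021 (iv D8442)
def n10022 : Q := act 6 n8441
theorem D10022 : act 6 n8441 = n10022 := rfl
theorem F32146 : act 0 n10022 = n9919 := d5_1 D10022 (iv F32142) F32137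
theorem F32147 : act 2 n10022 = n8944 := d16_1 D10022 (iv D8944) (iv F26860)
theorem F32148 : act 4 n10022 = n9301 := d23_1 D10022 F29709 (iv F26861)
theorem F32149 : act 7 n10022 = n8443 := d27_2 D8441 D10022 (iv D8443) (iv D6833) (iv F21517)
def n10023 : Q := act 2 n8442
theorem D10023 : act 2 n8442 = n10023 := rfl
theorem F32150 : act 3 n10023 = n8945 := d13_2 D8442 D10023 (iv D8945) (iv D7332) (iv F21518)
def n10024 : Q := act 4 n8442
theorem D10024 : act 4 n8442 = n10024 := rfl
def n10025 : Q := act 5 n8445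
theorem D10025 : act 5 n8445 = n10025 := rfl
theorem F32151 : act 1 n10025 = n10025 := d10_1 D10025 (iv D10025) (iv D8445) F21536 D8445
theorem F32152 : act 4 n10025 = n9578 := d22_1 D10025 (iv D9578) (iv F26871)
theorem F32153 : act 7 n10025 = n8529 := d26_2 (iv F26873) D10025 (iv D8529)
def n10026 : Q := act 2 n8447
theorem D10026 : act 2 n8447 = n10026 := rfl
theorem F32154 : act 0 n10026 = n9632 := d1_1 D10026 F30730 (iv F26880)
theorem F32155 : act 1 n10026 = n10026 := d7_1 D10026 (iv D10026) (iv D8447) F21548 D8447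
theorem F32156 : act 4 n10026 = n9078 := d14_2 (iv F26882) D10026 F28968
theorem F32157 : act 6 n10026 = n9872 := d16_2 F31241 D10026 F31587
theorem F32158 : act 7 n10026 = n9080 := d17_2 (iv F26883) D10026 F28978
def n10027 : Q := act 5 n8448
theorem D10027 : act 5 n8448 = n10027 := rfl
theorem F32159 : act 1 n10027 = n9686 := d10_1 D10027 (iv D9686) F25602 (iv F21569) (iv F26884)
theorem F32160 : act 3 n10027 = n10006 := d19_1 D10027 F32104 (iv F26885)
theorem F32161 : act 4 n10027 = n8450 := d22_1 D10027 (iv D8450) (iv F26886)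
def n10028 : Q := act 7 n8448
theorem D10028 : act 7 n8448 = n10028 := rfl
theorem F32162 : act 0 n10028 = n9769 := d6_1 D10028 (iv F32039) F32034
theorem F32163 : act 1 n10028 = n8449 := d12_1 D10028 (iv D8449) (iv F26884)
theorem F32164 : act 3 n10028 = n9746 := d21_1 D10028 (iv D9746) F25915 D8426 (iv F26885)
theorem F32165 : act 4 n10028 = n8451 := d24_1 D10028 (iv D8451) (iv F26886)
theorem F32166 : act 6 n10028 = n9753 := d27_1 D10028 F31220 F25982 (iv F21564) D8448
def n10029 : Q := act 1 n8450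
theorem D10029 : act 1 n8450 = n10029 := rfl
theorem F32167 : act 4 n10029 = n9686 := d9_2 F32161 D10029 (iv F32159)
theorem F32168 : act 5 n10029 = n8452 := d10_2 D8450 D10029 (iv D8452) (iv D6846) (iv F21570)
theorem F32169 : act 7 n9276 = n10029 := d26_0 F32168 F26898 D9276
def n10030 : Q := act 7 n8450
theorem D10030 : act 7 n8450 = n10030 := rfl
theorem F32170 : act 0 n10030 = n10005 := d6_1 D10030 (iv F32102) F32040
theorem F32171 : act 1 n10030 = n9276 := d12_1 D10030 F32169 (iv D10029)
theorem F32172 : act 5 n10030 = n8451 := d26_1 D10030 (iv D8451) D8450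
theorem F32173 : act 3 n9302 = n10030 := d19_3 F32172 (iv F26895) (iv F29710)
def n10031 : Q := act 6 n8453
theorem D10031 : act 6 n8453 = n10031 := rfl
theorem F32174 : act 0 n10031 = n8464 := d5_1 D10031 (iv D8464) (iv F26899)
theorem F32175 : act 1 n10031 = n9057 := d11_1 D10031 (iv D9057) (iv F26900)
theorem F32176 : act 2 n10031 = n9465 := d16_1 D10031 (iv D9465) (iv F26901)
theorem F32177 : act 3 n10031 = n8454 := d20_1 D10031 (iv D8454) D8453
def n10032 : Q := act 5 n8454
theorem D10032 : act 5 n8454 = n10032 := rfl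
theorem F32178 : act 0 n10032 = n8465 := d4_1 D10032 (iv D8465) (iv F26904)
theorem F32179 : act 2 n10032 = n8455 := d15_1 D10032 (iv D8455) (iv F26905)
theorem F32180 : act 4 n10032 = n8457 := d22_1 D10032 (iv D8457) (iv F26906)
theorem F32181 : act 6 n10032 = n8950 := d25_2 D8454 D10032 (iv D8950) (iv D7341) (iv F21589)
def n10033 : Q := act 7 n8454
theorem D10033 : act 7 n8454 = n10033 := rfl
theorem F32182 : act 0 n10033 = n8466 := d6_1 D10033 (iv D8466) (iv F26904)
theorem F32183 : act 2 n10033 = n8456 := d17_1 D10033 (iv D8456) (iv F26905)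
theorem F32184 : act 4 n10033 = n8458 := d24_1 D10033 (iv D8458) (iv F26906)
theorem F32185 : act 6 n10033 = n9877 := d27_1 D10033 F31604 F26374 F21872 D8454
def n10034 : Q := act 1 n8457
theorem D10034 : act 1 n8457 = n10034 := rfl
theorem F32186 : act 6 n10034 = n8955 := d11_2 (iv F26919) D10034 (iv D8955)
def n10035 : Q := act 7 n8457
theorem D10035 : act 7 n8457 = n10035 := rfl
theorem F32187 : act 0 n10035 = n8473 := d6_1 D10035 (iv D8473) (iv F26917)
theorem F32188 : act 2 n10035 = n8460 := d17_1 D10035 (iv D8460) (iv F26918)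
theorem F32189 : act 5 n10035 = n8458 := d26_1 D10035 (iv D8458) D8457
def n10036 : Q := act 3 n8458
theorem D10036 : act 3 n8458 = n10036 := rfl
theorem F32190 : act 0 n10036 = n8474 := d2_1 D10036 (iv D8474) (iv F26920)
theorem F32191 : act 2 n10036 = n9277 := d13_1 D10036 (iv D9277) (iv D7675) F21606 (iv F26921)
def n10037 : Q := act 4 n8461
theorem D10037 : act 4 n8461 = n10037 := rfl
theorem F32192 : act 0 n10037 = n9464 := d3_1 D10037 F30148 (iv F26932)
theorem F32193 : act 1 n10037 = n10037 := d9_1 D10037 (iv D10037) F26933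
theorem F32194 : act 2 n10037 = n8463 := d14_1 D10037 (iv D8463) (iv F26934)
theorem F32195 : act 3 n10037 = n10037 := d18_1 D10037 (iv D10037) (iv D8461) F21614 D8461
theorem F32196 : act 5 n10037 = n8959 := d22_2 (iv F26935) D10037 (iv D8959)
theorem F32197 : act 7 n10037 = n9440 := d24_2 (iv F26936) D10037 (iv D9440)
def n10038 : Q := act 6 n8463
theorem D10038 : act 6 n8463 = n10038 := rfl
theorem F32198 : act 1 n10038 = n9467 := d11_1 D10038 (iv D9467) (iv F26944)
theorem F32199 : act 3 n10038 = n8469 := d20_1 D10038 (iv D8469) (iv F26945)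
theorem F32200 : act 4 n10038 = n8464 := d23_1 D10038 (iv D8464) D8463
def n10039 : Q := act 5 n8464
theorem D10039 : act 5 n8464 = n10039 := rfl
theorem F32201 : act 2 n10039 = n9604 := d15_1 D10039 F30629 F28500
theorem F32202 : act 3 n10039 = n8465 := d19_1 D10039 (iv D8465) (iv F26949)
theorem F32203 : act 6 n10039 = n8964 := d25_2 D8464 D10039 (iv D8964) (iv D7369) (iv F21621)
def n10040 : Q := act 1 n8465
theorem D10040 : act 1 n8465 = n10040 := rfl
theorem F32204 : act 2 n10040 = n10040 := d7_2 (iv F26950) D10040 (iv D10040) F26950 F21625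
theorem F32205 : act 4 n10040 = n8472 := d9_2 (iv F26951) D10040 (iv D8472)
theorem F32206 : act 6 n10040 = n8966 := d11_2 (iv F26952) D10040 (iv D8966)
def n10041 : Q := act 7 n8465
theorem D10041 : act 7 n8465 = n10041 := rfl
theorem F32207 : act 2 n10041 = n8467 := d17_1 D10041 (iv D8467) (iv F26950)
theorem F32208 : act 4 n10041 = n8473 := d24_1 D10041 (iv D8473) (iv F26951)
theorem F32209 : act 5 n10041 = n8466 := d26_1 D10041 (iv D8466) D8465
def n10042 : Q := act 3 n8466
theorem D10042 : act 3 n8466 = n10042 := rfl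
theorem F32210 : act 2 n10042 = n10015 := d13_1 D10042 (iv D10015) F26963 (iv D8468) (iv F26953)
theorem F32211 : act 7 n10042 = n10023 := d21_2 D8466 D10042 F32150 F28521 F26949
def n10043 : Q := act 3 n8467
theorem D10043 : act 3 n8467 = n10043 := rfl
theorem F32212 : act 0 n10043 = n9143 := d2_1 D10043 (iv F29271) (iv F29276)
theorem F32213 : act 1 n10043 = n10043 := d8_1 D10043 (iv D10043) F26955
theorem F32214 : act 4 n10043 = n9145 := d18_2 (iv F26956) D10043 F29179 F26978 (iv D8475)
theorem F32215 : act 5 n10043 = n8468 := d19_2 (iv F26957) D10043 (iv D8468)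
theorem F32216 : act 7 n10043 = n9611 := d21_2 D8467 D10043 F30657 (iv F26943) F26940
theorem F32217 : act 2 n10014 = n10043 := d17_3 F32216 F30656 D10014
def n10044 : Q := act 5 n8469
theorem D10044 : act 5 n8469 = n10044 := rfl
theorem F32218 : act 1 n10044 = n8508 := d10_1 D10044 F27105 D8514 (iv F32051) F32047
theorem F32219 : act 2 n10044 = n10044 := d15_1 D10044 (iv D10044) F26964
theorem F32220 : act 4 n10044 = n8470 := d22_1 D10044 (iv D8470) (iv F26965)
theorem F32221 : act 6 n10044 = n8576 := d25_2 D8469 D10044 F27360 F22095 (iv F21636)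
theorem F32222 : act 7 n9096 = n10044 := d27_0 F32221 (iv D8576) F22091 D7501 D9096
def n10045 : Q := act 7 n8469
theorem D10045 : act 7 n8469 = n10045 := rfl
theorem F32223 : act 2 n10045 = n10045 := d17_1 D10045 (iv D10045) F26964
theorem F32224 : act 4 n10045 = n8471 := d24_1 D10045 (iv D8471) (iv F26965)
theorem F32225 : act 5 n10045 = n9096 := d26_1 D10045 F32222 (iv D10044)
theorem F32226 : act 6 n10045 = n9100 := d27_1 D10045 F29037 F23768 F23082 D8469
def n10046 : Q := act 3 n8471
theorem D10046 : act 3 n8471 = n10046 := rfl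
theorem F32227 : act 7 n10046 = n8474 := d21_2 D8471 D10046 (iv D8474) (iv D6867) (iv F21638)
def n10047 : Q := act 0 n8472
theorem D10047 : act 0 n8472 = n10047 := rfl
theorem F32228 : act 2 n10047 = n10047 := d1_2 F26970 D10047 (iv D10047)
theorem F32229 : act 3 n10047 = n8502 := d2_2 (iv F30464) D10047 (iv F30458)
theorem F32230 : act 5 n10047 = n8511 := d4_2 F32063 D10047 F32065
theorem F32231 : act 6 n10047 = n8974 := d5_2 (iv F26971) D10047 (iv D8974)
def n10048 : Q := act 7 n8472
theorem D10048 : act 7 n8472 = n10048 := rfl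
theorem F32232 : act 1 n10048 = n8473 := d12_1 D10048 (iv D8473) D8472
theorem F32233 : act 2 n10048 = n10048 := d17_1 D10048 (iv D10048) F26970
def n10049 : Q := act 3 n8473
theorem D10049 : act 3 n8473 = n10049 := rfl
theorem F32234 : act 5 n10049 = n8474 := d19_2 (iv F26973) D10049 (iv D8474)
def n10050 : Q := act 6 n8473
theorem D10050 : act 6 n8473 = n10050 := rfl
theorem F32235 : act 2 n10050 = n8476 := d16_1 D10050 (iv D8476) (iv F26972)
theorem F32236 : act 7 n10050 = n8977 := d27_2 D8473 D10050 (iv D8977) (iv D7379) (iv F21640)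
def n10051 : Q := act 2 n8474
theorem D10051 : act 2 n8474 = n10051 := rfl
theorem F32237 : act 0 n10051 = n9277 := d1_1 D10051 (iv F32191) F32190
theorem F32238 : act 3 n10051 = n8477 := d13_2 D8474 D10051 (iv D8477) (iv D6869) (iv F21641)
def n10052 : Q := act 4 n8474
theorem D10052 : act 4 n8474 = n10052 := rfl
def n10053 : Q := act 2 n8475
theorem D10053 : act 2 n8475 = n10053 := rfl
theorem F32239 : act 0 n10053 = n9119 := d1_1 D10053 (iv D9119) (iv F26974)
theorem F32240 : act 4 n10053 = n9149 := d14_2 F26978 D10053 (iv D9149)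
theorem F32241 : act 5 n10053 = n8477 := d15_2 (iv F26976) D10053 (iv D8477)
theorem F32242 : act 7 n10053 = n10053 := d17_2 F26977 D10053 (iv D10053)
def n10054 : Q := act 6 n8475
theorem D10054 : act 6 n8475 = n10054 := rfl
theorem F32243 : act 0 n10054 = n9118 := d5_1 D10054 F29088 (iv F26974)
theorem F32244 : act 1 n10054 = n10054 := d11_1 D10054 (iv D10054) F26975
theorem F32245 : act 3 n10054 = n8476 := d20_1 D10054 (iv D8476) D8475
theorem F32246 : act 4 n10054 = n9137 := d23_1 D10054 F29149 F26978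
def n10055 : Q := act 1 n8477
theorem D10055 : act 1 n8477 = n10055 := rfl
theorem F32247 : act 0 n10055 = n9306 := d0_1 D10055 (iv D9306) F24383 (iv F24326) (iv F26981)
theorem F32248 : act 2 n10055 = n8478 := d7_2 D8477 D10055 (iv D8478) (iv D6870) (iv F21645)
theorem F32249 : act 4 n10055 = n9295 := d9_2 (iv F26982) D10055 (iv D9295)
theorem F32250 : act 7 n10055 = n10055 := d12_2 F26983 D10055 (iv D10055)
def n10056 : Q := act 5 n8478
theorem D10056 : act 5 n8478 = n10056 := rfl
theorem F32251 : act 0 n10056 = n9575 := d4_1 D10056 (iv D9575) (iv F26984)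
theorem F32252 : act 1 n10056 = n10056 := d10_1 D10056 (iv D10056) (iv D8478) F21651 D8478
theorem F32253 : act 3 n10056 = n10025 := d19_1 D10056 (iv D10025) (iv F26985)
theorem F32254 : act 4 n10056 = n9572 := d22_1 D10056 (iv D9572) (iv F26986)
theorem F32255 : act 7 n10056 = n10056 := d26_2 F26987 D10056 (iv D10056)
def n10057 : Q := act 6 n8479
theorem D10057 : act 6 n8479 = n10057 := rfl
theorem F32256 : act 0 n10057 = n10057 := d5_1 D10057 (iv D10057) F26988
theorem F32257 : act 1 n10057 = n8533 := d11_1 D10057 (iv D8533) (iv F26989)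
theorem F32258 : act 2 n10057 = n10057 := d16_1 D10057 (iv D10057) F26990
theorem F32259 : act 3 n10057 = n8530 := d20_1 D10057 (iv D8530) (iv F26991)
theorem F32260 : act 4 n10057 = n8480 := d23_1 D10057 (iv D8480) D8479
def n10058 : Q := act 5 n8480
theorem D10058 : act 5 n8480 = n10058 := rfl
theorem F32261 : act 0 n10058 = n10058 := d4_1 D10058 (iv D10058) F26994
theorem F32262 : act 2 n10058 = n10058 := d15_1 D10058 (iv D10058) F26995
theorem F32263 : act 3 n10058 = n8481 := d19_1 D10058 (iv D8481) (iv F26996)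
theorem F32264 : act 6 n10058 = n8932 := d25_2 D8480 D10058 (iv D8932) (iv D7319) (iv F21655)
theorem F32265 : act 7 n10058 = n10057 := d31_1 D10058 F32260 F26995 (iv D8480) (iv D6871) F16526 (iv D4280) (iv D3059) (iv D2099) F4477 (iv D970) D971 D1452 F4580 (iv F4168) F4171 F4169 F4170 (iv D886) (iv F2760) F2759 (iv F3061) D1417 D2101 D3063 (iv F12140) (iv F16524) D6872 (iv F26996)
def n10059 : Q := act 7 n8480
theorem D10059 : act 7 n8480 = n10059 := rfl
theorem F32266 : act 0 n10059 = n10059 := d6_1 D10059 (iv D10059) F26994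
theorem F32267 : act 1 n10059 = n8957 := d12_1 D10059 F31306 F31302
theorem F32268 : act 2 n10059 = n10059 := d17_1 D10059 (iv D10059) F26995
theorem F32269 : act 3 n10059 = n8494 := d21_1 D10059 (iv D8494) F21695 (iv F21660) (iv F26996)
theorem F32270 : act 4 n10059 = n10058 := d24_1 D10059 F32265 F32260
theorem F32271 : act 5 n10059 = n10057 := d26_1 D10059 (iv F32265) (iv D10058)
theorem F32272 : act 6 n10059 = n8489 := d27_1 D10059 (iv D8489) (iv D6877) (iv F21656) D8480
def n10060 : Q := act 1 n8481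
theorem D10060 : act 1 n8481 = n10060 := rfl
theorem F32273 : act 4 n10060 = n8935 := d9_2 (iv F26999) D10060 (iv D8935)
theorem F32274 : act 6 n10060 = n8934 := d11_2 (iv F27000) D10060 (iv D8934)
theorem F32275 : act 7 n10060 = n8495 := d12_2 (iv F27001) D10060 (iv D8495)
def n10061 : Q := act 6 n8482
theorem D10061 : act 6 n8482 = n10061 := rfl
theorem F32276 : act 0 n10061 = n8577 := d5_1 D10061 F27363 (iv F27002)
theorem F32277 : act 1 n10061 = n8485 := d11_1 D10061 (iv D8485) (iv F27003)
theorem F32278 : act 2 n10061 = n9692 := d16_1 D10061 F30995 F27006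
theorem F32279 : act 3 n10061 = n8483 := d20_1 D10061 (iv D8483) D8482
theorem F32280 : act 4 n10061 = n8949 := d23_1 D10061 (iv D8949) (iv F27004)
theorem F32281 : act 7 n10061 = n8543 := d27_2 (iv F27005) D10061 (iv F31821) F31822 (iv D8664)
def n10062 : Q := act 5 n8483
theorem D10062 : act 5 n8483 = n10062 := rfl
theorem F32282 : act 0 n10062 = n8576 := d4_1 D10062 F27360 (iv F27007)
theorem F32283 : act 2 n10062 = n10062 := d15_1 D10062 (iv D10062) F27009
theorem F32284 : act 4 n10062 = n8491 := d22_1 D10062 (iv D8491) (iv F27010)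
theorem F32285 : act 7 n10062 = n8540 := d26_2 (iv F27011) D10062 (iv D8540)
def n10063 : Q := act 6 n8484
theorem D10063 : act 6 n8484 = n10063 := rfl
theorem F32286 : act 0 n10063 = n10063 := d5_1 D10063 (iv D10063) F27012
theorem F32287 : act 1 n10063 = n8949 := d11_1 D10063 (iv D8949) (iv F27013)
theorem F32288 : act 2 n10063 = n10063 := d16_1 D10063 (iv D10063) F27014
theorem F32289 : act 3 n10063 = n8492 := d20_1 D10063 (iv D8492) (iv F27015)
theorem F32290 : act 4 n10063 = n8485 := d23_1 D10063 (iv D8485) D8484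
def n10064 : Q := act 5 n8485
theorem D10064 : act 5 n8485 = n10064 := rfl
theorem F32291 : act 0 n10064 = n10064 := d4_1 D10064 (iv D10064) F27018
theorem F32292 : act 2 n10064 = n10064 := d15_1 D10064 (iv D10064) F27019
theorem F32293 : act 3 n10064 = n8486 := d19_1 D10064 (iv D8486) (iv F27020)
theorem F32294 : act 6 n10064 = n8488 := d25_2 D8485 D10064 (iv D8488) (iv D6877) (iv F21667)
theorem F32295 : act 7 n10064 = n10063 := d31_1 D10064 F32290 F27019 (iv D8485) (iv D6874) F16534 (iv D3913) (iv D2750) (iv D1871) (iv F5735) (iv D1841) F3940 D1504 F4745 (iv F4715) F4718 F4716 F4717 (iv D1004) (iv F3060) (iv F3938) F3941 D1261 D1873 D2756 (iv F12130) (iv F16532) D6875 (iv F27020)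
def n10065 : Q := act 7 n8485
theorem D10065 : act 7 n8485 = n10065 := rfl
theorem F32296 : act 0 n10065 = n10065 := d6_1 D10065 (iv D10065) F27018
theorem F32297 : act 1 n10065 = n8543 := d12_1 D10065 (iv F32281) F32277
theorem F32298 : act 2 n10065 = n10065 := d17_1 D10065 (iv D10065) F27019
theorem F32299 : act 3 n10065 = n8532 := d21_1 D10065 (iv D8532) F21913 (iv F21672) (iv F27020)
theorem F32300 : act 4 n10065 = n10064 := d24_1 D10065 F32295 F32290
theorem F32301 : act 5 n10065 = n10063 := d26_1 D10065 (iv F32295) (iv D10064)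
theorem F32302 : act 6 n10065 = n8933 := d27_1 D10065 (iv D8933) (iv D7319) (iv F21668) D8485
def n10066 : Q := act 1 n8486
theorem D10066 : act 1 n8486 = n10066 := rfl
theorem F32303 : act 4 n10066 = n8495 := d9_2 (iv F27023) D10066 (iv D8495)
theorem F32304 : act 6 n10066 = n8490 := d11_2 (iv F27024) D10066 (iv D8490)
theorem F32305 : act 7 n10066 = n8935 := d12_2 (iv F27025) D10066 (iv D8935)
def n10067 : Q := act 1 n8488
theorem D10067 : act 1 n8488 = n10067 := rfl
theorem F32306 : act 3 n10067 = n8490 := d8_2 (iv F27032) D10067 (iv D8490)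
theorem F32307 : act 4 n10067 = n9933 := d9_2 F28486 D10067 F31819
theorem F32308 : act 0 n9958 = n10067 := d3_3 F32307 F31818 D9958
def n10068 : Q := act 0 n8490
theorem D10068 : act 0 n8490 = n10068 := rfl
theorem F32309 : act 1 n10068 = n10068 := d0_2 D8490 D10068 (iv D10068) (iv D8490) F21679
theorem F32310 : act 3 n10068 = n9958 := d2_2 F32306 D10068 F32308
theorem F32311 : act 4 n10068 = n8500 := d3_2 (iv F27036) D10068 (iv D8500)
theorem F32312 : act 7 n10068 = n8984 := d6_2 (iv F27037) D10068 (iv D8984)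
def n10069 : Q := act 2 n8490
theorem D10069 : act 2 n8490 = n10069 := rfl
theorem F32313 : act 1 n10069 = n8502 := d7_1 D10069 (iv D8502) (iv D6890) (iv F21680) D8490
theorem F32314 : act 4 n10069 = n8501 := d14_2 (iv F27036) D10069 (iv D8501)
theorem F32315 : act 7 n10069 = n8985 := d17_2 (iv F27037) D10069 (iv D8985)
def n10070 : Q := act 1 n8491
theorem D10070 : act 1 n8491 = n10070 := rfl
theorem F32316 : act 3 n10070 = n8955 := d8_2 (iv F27040) D10070 (iv D8955)
theorem F32317 : act 5 n10070 = n8495 := d10_2 D8491 D10070 (iv D8495) (iv D6882) (iv F21684)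
def n10071 : Q := act 2 n8495
theorem D10071 : act 2 n8495 = n10071 := rfl
theorem F32318 : act 1 n10071 = n8504 := d7_1 D10071 (iv D8504) (iv D6893) (iv F21697) D8495
theorem F32319 : act 6 n10071 = n8501 := d16_2 (iv F27053) D10071 (iv D8501)
def n10072 : Q := act 2 n8500
theorem D10072 : act 2 n8500 = n10072 := rfl
theorem F32320 : act 0 n10072 = n8501 := d1_1 D10072 (iv D8501) D8500
theorem F32321 : act 3 n10072 = n9948 := d13_2 (iv F27080) D10072 (iv D9948) (iv D8365) (iv F26604)
def n10073 : Q := act 3 n8501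
theorem D10073 : act 3 n8501 = n10073 := rfl
theorem F32322 : act 0 n10073 = n9948 := d2_1 D10073 (iv F32321) F32320
theorem F32323 : act 1 n10073 = n8509 := d8_1 D10073 (iv D8509) (iv F27081)
theorem F32324 : act 2 n10073 = n9928 := d13_1 D10073 (iv D9928) (iv F27074) F27075 D8501
def n10074 : Q := act 3 n8504
theorem D10074 : act 3 n8504 = n10074 := rfl
theorem F32325 : act 5 n10074 = n10074 := d19_2 F27090 D10074 (iv D10074)
theorem F32326 : act 6 n10074 = n8509 := d20_2 (iv F27091) D10074 (iv D8509)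
def n10075 : Q := act 2 n8506
theorem D10075 : act 2 n8506 = n10075 := rfl
theorem F32327 : act 0 n10075 = n8507 := d1_1 D10075 (iv D8507) D8506
theorem F32328 : act 4 n10075 = n10075 := d14_2 F27099 D10075 (iv D10075)
theorem F32329 : act 5 n10075 = n8512 := d15_2 (iv F27100) D10075 (iv D8512)
theorem F32330 : act 7 n10075 = n9975 := d17_2 (iv F27101) D10075 F31982
def n10076 : Q := act 3 n8507
theorem D10076 : act 3 n8507 = n10076 := rfl
theorem F32331 : act 1 n10076 = n9590 := d8_1 D10076 (iv F30575) F27277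
theorem F32332 : act 2 n10076 = n8509 := d13_1 D10076 (iv D8509) (iv D6900) (iv F21748) D8507
theorem F32333 : act 5 n10076 = n8513 := d19_2 (iv F27103) D10076 (iv D8513)
theorem F32334 : act 7 n10076 = n9586 := d21_2 F30971 D10076 F30560 (iv F31722) (iv F31723)
theorem F32335 : act 4 n9588 = n10076 := d24_3 F32334 (iv D9586) D9588
def n10077 : Q := act 3 n8508
theorem D10077 : act 3 n8508 = n10077 := rfl
theorem F32336 : act 0 n10077 = n8509 := d2_1 D10077 (iv D8509) (iv F27104)
theorem F32337 : act 5 n10077 = n8515 := d19_2 (iv F27105) D10077 (iv D8515)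
def n10078 : Q := act 4 n8509
theorem D10078 : act 4 n8509 = n10078 := rfl
theorem F32338 : act 2 n10078 = n9588 := d14_1 D10078 F32335 F32332
theorem F32339 : act 5 n10078 = n8516 := d22_2 (iv F27106) D10078 (iv D8516)
theorem F32340 : act 7 n9585 = n10078 := d17_0 F32338 (iv D9588) D9585
def n10079 : Q := act 7 n8509
theorem D10079 : act 7 n8509 = n10079 := rfl
theorem F32341 : act 2 n10079 = n9586 := d17_1 D10079 (iv F32334) F32332
theorem F32342 : act 4 n10079 = n9585 := d24_1 D10079 F32340 (iv D10078)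
theorem F32343 : act 5 n10079 = n8517 := d26_1 D10079 (iv D8517) (iv F27106)
def n10080 : Q := act 4 n8511
theorem D10080 : act 4 n8511 = n10080 := rfl
theorem F32344 : act 2 n10080 = n10080 := d14_1 D10080 (iv D10080) F27111
theorem F32345 : act 3 n10080 = n8516 := d18_1 D10080 (iv D8516) (iv D6909) (iv F21824) D8511
theorem F32346 : act 6 n10080 = n10080 := d23_2 F27112 D10080 (iv D10080)
def n10081 : Q := act 7 n8511
theorem D10081 : act 7 n8511 = n10081 := rfl
theorem F32347 : act 2 n10081 = n10081 := d17_1 D10081 (iv D10081) F27111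
theorem F32348 : act 3 n10081 = n9315 := d21_1 D10081 (iv D9315) (iv D7702) (iv F21826) D8511
def n10082 : Q := act 3 n8512
theorem D10082 : act 3 n8512 = n10082 := rfl
theorem F32349 : act 0 n10082 = n8513 := d2_1 D10082 (iv D8513) (iv F27113)
theorem F32350 : act 1 n10082 = n10082 := d8_1 D10082 (iv D10082) F27114
theorem F32351 : act 2 n10082 = n8515 := d13_1 D10082 (iv D8515) (iv D6908) (iv F21834) D8512
theorem F32352 : act 6 n10082 = n10082 := d20_2 F27116 D10082 (iv D10082)
def n10083 : Q := act 4 n8513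
theorem D10083 : act 4 n8513 = n10083 := rfl
theorem F32353 : act 1 n10083 = n9598 := d9_1 D10083 F30991 F30986
theorem F32354 : act 2 n10083 = n8516 := d14_1 D10083 (iv D8516) (iv F27118)
theorem F32355 : act 3 n10083 = n10083 := d18_1 D10083 (iv D10083) (iv D8513) F21838 D8513
theorem F32356 : act 5 n10083 = n9588 := d22_2 F32333 D10083 F32335
theorem F32357 : act 6 n10083 = n10083 := d23_2 F27119 D10083 (iv D10083)
theorem F32358 : act 7 n9587 = n10083 := d31_1 D9587 (iv D10083) F27118 F21842 (iv D6909) (iv F21757) (iv F26816) F26813 (iv D7411) F18238 F14503 F14502 (iv D3388) (iv F10412) (iv F14462) (iv D4679) D4678 F14460 D6189 (iv F24729) F24728 D9467 (iv F32049) F32051 (iv F32115) F32113 F29739 F25040 D7935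
def n10084 : Q := act 7 n8513
theorem D10084 : act 7 n8513 = n10084 := rfl
theorem F32359 : act 1 n10084 = n9130 := d12_1 D10084 (iv F30990) F30986
theorem F32360 : act 2 n10084 = n8517 := d17_1 D10084 (iv D8517) (iv F27118)
theorem F32361 : act 3 n10084 = n9164 := d21_1 D10084 (iv F30967) F30966 (iv F25622) D8513
theorem F32362 : act 4 n10084 = n9587 := d24_1 D10084 F32358 (iv D10083)
theorem F32363 : act 5 n10084 = n9586 := d26_1 D10084 (iv F32334) F32333
theorem F32364 : act 6 n9128 = n10084 := d30_0 F32363 F30559 (iv F30553) F30554 F26501 (iv D6724) (iv D5145) F11591 (iv F9484) F9485 F6679 (iv F4602) (iv D1074) F2378 (iv F3435) F4610 (iv F6283) D2974 (iv F10067) (iv F14041) (iv F18876) (iv F24161) D9233 F29479 F26674 D8789 F28052 (iv F29116) F29117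
def n10085 : Q := act 3 n8514
theorem D10085 : act 3 n8514 = n10085 := rfl
theorem F32365 : act 0 n10085 = n9505 := d2_1 D10085 (iv F31546) F31542
theorem F32366 : act 1 n10085 = n8515 := d8_1 D10085 (iv D8515) D8514
theorem F32367 : act 2 n10085 = n10085 := d13_1 D10085 (iv D10085) F27120 F21893 (iv F27120)
theorem F32368 : act 4 n10085 = n9472 := d18_2 F32055 D10085 F30174 F29462 (iv F32054)
theorem F32369 : act 5 n10085 = n9467 := d19_2 F32051 D10085 (iv F32049)
theorem F32370 : act 6 n10085 = n10085 := d20_2 F27121 D10085 (iv D10085)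
def n10086 : Q := act 4 n8515
theorem D10086 : act 4 n8515 = n10086 := rfl
theorem F32371 : act 0 n10086 = n8516 := d3_1 D10086 (iv D8516) (iv F27122)
theorem F32372 : act 1 n10086 = n9472 := d9_1 D10086 (iv F32368) F32366
theorem F32373 : act 6 n10086 = n10086 := d23_2 F27123 D10086 (iv D10086)
def n10087 : Q := act 7 n8515
theorem D10087 : act 7 n8515 = n10087 := rfl
theorem F32374 : act 0 n10087 = n8517 := d6_1 D10087 (iv D8517) (iv F27122)
def n10088 : Q := act 7 n8516
theorem D10088 : act 7 n8516 = n10088 := rfl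
theorem F32375 : act 2 n10088 = n9587 := d17_1 D10088 F32358 F32354
theorem F32376 : act 4 n10088 = n8517 := d24_1 D10088 (iv D8517) D8516
theorem F32377 : act 5 n10088 = n9585 := d26_1 D10088 F32340 F32339
def n10089 : Q := act 6 n8517
theorem D10089 : act 6 n8517 = n10089 := rfl
theorem F32378 : act 1 n10089 = n9123 := d11_1 D10089 F31556 F31554
theorem F32379 : act 2 n10089 = n9128 := d16_1 D10089 F32364 F32360
theorem F32380 : act 7 n10089 = n10089 := d27_2 D8517 D10089 (iv D10089) (iv D8517) F21842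
def n10090 : Q := act 6 n8520
theorem D10090 : act 6 n8520 = n10090 := rfl
theorem F32381 : act 1 n10090 = n9437 := d11_1 D10090 F30071 F29016
theorem F32382 : act 3 n10090 = n8521 := d20_1 D10090 (iv D8521) D8520
theorem F32383 : act 4 n10090 = n9435 := d23_1 D10090 (iv F30357) F30356
def n10091 : Q := act 1 n8525
theorem D10091 : act 1 n8525 = n10091 := rfl
theorem F32384 : act 3 n10091 = n9628 := d8_2 (iv F27151) D10091 F30717
theorem F32385 : act 4 n10091 = n9000 := d9_2 (iv F27152) D10091 (iv D9000)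
theorem F32386 : act 5 n10091 = n9526 := d10_2 D8525 D10091 F30352 F24958 F22606
theorem F32387 : act 6 n10091 = n9007 := d11_2 (iv F27153) D10091 (iv D9007)
theorem F32388 : act 7 n10091 = n10091 := d12_2 F27154 D10091 (iv D10091)
theorem F32389 : act 0 n9528 = n10091 := d4_3 F32386 F30351 D9528
def n10092 : Q := act 7 n8527
theorem D10092 : act 7 n8527 = n10092 := rfl
theorem F32390 : act 0 n10092 = n8528 := d6_1 D10092 (iv D8528) (iv F27158)
theorem F32391 : act 1 n10092 = n10075 := d12_1 D10092 F32330 (iv F31986)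
theorem F32392 : act 2 n10092 = n10092 := d17_1 D10092 (iv D10092) F27159
theorem F32393 : act 3 n10092 = n9579 := d21_1 D10092 (iv D9579) (iv D7928) (iv F21888) D8527
theorem F32394 : act 4 n10092 = n10092 := d24_1 D10092 (iv D10092) F27160
theorem F32395 : act 5 n10092 = n10092 := d26_1 D10092 (iv D10092) F27161
theorem F32396 : act 6 n10092 = n8586 := d31_4 F27161 D10092 F32394 F32392 F30638 F30635 F27286 F27285 F22000 (iv F21227) (iv D6744) F16036 F15253 (iv D3579) D3578 D4933 F15264 D4936 D6508 F20388 (iv F19620) F19624 (iv F16389) F16391 F16393 (iv F16723) D6922 F21887 D8527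
def n10093 : Q := act 5 n8533
theorem D10093 : act 5 n8533 = n10093 := rfl
theorem F32397 : act 0 n10093 = n8565 := d4_1 D10093 (iv D8565) (iv F27189)
theorem F32398 : act 2 n10093 = n8962 := d15_1 D10093 F28595 (iv F27190)
theorem F32399 : act 3 n10093 = n8534 := d19_1 D10093 (iv D8534) (iv F27191)
theorem F32400 : act 6 n10093 = n9055 := d25_2 D8533 D10093 (iv D9055) (iv D7465) (iv F21920)
theorem F32401 : act 7 n8971 = n10093 := d17_0 F32398 F28597 D8971
def n10094 : Q := act 7 n8533
theorem D10094 : act 7 n8533 = n10094 := rfl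
theorem F32402 : act 0 n10094 = n8566 := d6_1 D10094 (iv D8566) (iv F27189)
theorem F32403 : act 1 n10094 = n10058 := d12_1 D10094 F32265 F32257
theorem F32404 : act 2 n10094 = n8969 := d17_1 D10094 F28625 (iv F27190)
theorem F32405 : act 3 n10094 = n10060 := d21_1 D10094 F32275 F27201 (iv D8535) (iv F27191)
theorem F32406 : act 4 n10094 = n8957 := d24_1 D10094 F31306 F31305
theorem F32407 : act 5 n10094 = n8971 := d26_1 D10094 F32401 (iv D10093)
def n10095 : Q := act 3 n8536
theorem D10095 : act 3 n8536 = n10095 := rfl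
theorem F32408 : act 0 n10095 = n8571 := d2_1 D10095 (iv D8571) (iv F27202)
theorem F32409 : act 1 n10095 = n9600 := d8_1 D10095 (iv D9600) (iv F27203)
theorem F32410 : act 4 n10095 = n8582 := d18_2 (iv F27204) D10095 F27374 (iv F27232) (iv D8544)
theorem F32411 : act 5 n10095 = n8537 := d19_2 (iv F27205) D10095 (iv D8537)
theorem F32412 : act 7 n10095 = n8960 := d21_2 D8536 D10095 F28586 (iv F23299) (iv F21926)
theorem F32413 : act 2 n8583 = n10095 := d17_3 F32412 F28585 (iv F27376)
def n10096 : Q := act 6 n8536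
theorem D10096 : act 6 n8536 = n10096 := rfl
theorem F32414 : act 0 n10096 = n8572 := d5_1 D10096 (iv D8572) (iv F27202)
theorem F32415 : act 1 n10096 = n9174 := d11_1 D10096 F29281 (iv F27203)
theorem F32416 : act 2 n10096 = n10034 := d16_1 D10096 F32186 F28562
theorem F32417 : act 4 n10096 = n8545 := d23_1 D10096 (iv D8545) (iv F27204)
theorem F32418 : act 7 n10096 = n9062 := d27_2 D8536 D10096 (iv D9062) (iv D7469) (iv F21928)
def n10097 : Q := act 2 n8537
theorem D10097 : act 2 n8537 = n10097 := rfl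
theorem F32419 : act 0 n10097 = n8573 := d1_1 D10097 (iv D8573) (iv F27206)
theorem F32420 : act 3 n10097 = n10071 := d13_2 D8537 D10097 (iv D10071) F27201 F27198
theorem F32421 : act 5 n10097 = n8583 := d15_2 F32411 D10097 F32413
theorem F32422 : act 6 n10097 = n10073 := d16_2 F31801 D10097 F32324
theorem F32423 : act 7 n10097 = n8964 := d17_2 (iv F27208) D10097 F28604
theorem F32424 : act 1 n10097 = n10074 := d29_2 D8537 D10097 F32325 F32326 F27106 (iv F26256) (iv F31539) (iv D9859) F26253 F23852 (iv F22728) F22727 D7173 F22738 (iv D5605) F12875 F9604 (iv F9624) (iv F10433) F10430 D3508 (iv F14907) (iv F19891) F23317 F23316 F19744 (iv D6307) (iv F16793) D6934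
theorem F32425 : act 4 n8580 = n10097 := d22_3 F32421 (iv D8583) (iv F27371)
def n10098 : Q := act 4 n8537
theorem D10098 : act 4 n8537 = n10098 := rfl
theorem F32426 : act 0 n10098 = n8574 := d3_1 D10098 (iv D8574) (iv F27206)
theorem F32427 : act 1 n10098 = n8539 := d9_1 D10098 (iv D8539) (iv F27207)
theorem F32428 : act 2 n10098 = n8580 := d14_1 D10098 F32425 (iv D10097)
theorem F32429 : act 3 n10098 = n8547 := d18_1 D10098 (iv D8547) (iv D6941) (iv F21931) D8537
theorem F32430 : act 5 n10098 = n8582 := d22_2 F32411 D10098 (iv F32410)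
theorem F32431 : act 6 n10098 = n9721 := d23_2 F31801 D10098 (iv F31800)
theorem F32432 : act 7 n10098 = n9603 := d24_2 (iv F27208) D10098 (iv D9603)
def n10099 : Q := act 1 n8538
theorem D10099 : act 1 n8538 = n10099 := rfl
theorem F32433 : act 2 n10099 = n10074 := d7_2 D8538 D10099 (iv F32424) (iv D10097) F27207
theorem F32434 : act 3 n10099 = n8555 := d8_2 (iv F27210) D10099 (iv D8555)
theorem F32435 : act 5 n10099 = n10099 := d10_2 (iv F27211) D10099 (iv D10099) F27211 F21999
theorem F32436 : act 6 n10099 = n10076 := d11_2 F30574 D10099 F32331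
theorem F32437 : act 7 n10099 = n9605 := d12_2 (iv F27212) D10099 (iv D9605)
def n10100 : Q := act 1 n8540
theorem D10100 : act 1 n8540 = n10100 := rfl
theorem F32438 : act 3 n10100 = n8541 := d8_2 (iv F27220) D10100 (iv D8541)
theorem F32439 : act 5 n10100 = n8935 := d10_2 D8540 D10100 (iv D8935) (iv D7321) (iv F21936)
theorem F32440 : act 6 n10100 = n9064 := d11_2 (iv F27221) D10100 (iv D9064)
def n10101 : Q := act 3 n8542
theorem D10101 : act 3 n8542 = n10101 := rfl
theorem F32441 : act 0 n10101 = n8580 := d2_1 D10101 (iv D8580) (iv F27223)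
theorem F32442 : act 2 n10101 = n8574 := d13_1 D10101 F27354 F27231 (iv D8544) (iv F27224)
theorem F32443 : act 5 n10101 = n8543 := d19_2 (iv F27225) D10101 (iv D8543)
theorem F32444 : act 4 n8573 = n10101 := d14_0 F32442 (iv D8574) D8573
def n10102 : Q := act 6 n8542
theorem D10102 : act 6 n8542 = n10102 := rfl
theorem F32445 : act 0 n10102 = n8581 := d5_1 D10102 (iv D8581) (iv F27223)
theorem F32446 : act 1 n10102 = n10032 := d11_1 D10102 F32181 F28535
theorem F32447 : act 2 n10102 = n8545 := d16_1 D10102 (iv D8545) (iv F27224)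
theorem F32448 : act 4 n10102 = n10034 := d23_1 D10102 F32186 F28563
theorem F32449 : act 7 n10102 = n9071 := d27_2 D8542 D10102 (iv D9071) (iv D7475) (iv F21941)
def n10103 : Q := act 2 n8543
theorem D10103 : act 2 n8543 = n10103 := rfl
theorem F32450 : act 0 n10103 = n8582 := d1_1 D10103 (iv D8582) (iv F27226)
theorem F32451 : act 1 n10103 = n10103 := d7_1 D10103 (iv D10103) (iv F32297) F32298 F32297
theorem F32452 : act 3 n10103 = n8546 := d13_2 D8543 D10103 (iv D8546) (iv D6941) (iv F21943)
theorem F32453 : act 5 n10103 = n8574 := d15_2 F32443 D10103 (iv F32442)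
theorem F32454 : act 6 n10103 = n9722 := d16_2 F31821 D10103 (iv F31820)
theorem F32455 : act 7 n10103 = n9692 := d17_2 F32281 D10103 (iv F32278)
theorem F32456 : act 4 n8571 = n10103 := d31_2 F27310 (iv F27349) (iv D10103) (iv F31821) (iv D9933) (iv F31817) (iv D9932) (iv F31784) F31782 F26532 F23003 F22502 (iv D5528) (iv F17300) (iv F20594) (iv D6560) D6558 F20818 (iv F26184) (iv D8236) F20787 D6643 F20866 D6905 F25648 F25645 (iv F27314) (iv D8561) D8560
def n10104 : Q := act 4 n8543
theorem D10104 : act 4 n8543 = n10104 := rfl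
theorem F32457 : act 0 n10104 = n8583 := d3_1 D10104 (iv D8583) (iv F27226)
theorem F32458 : act 1 n10104 = n10064 := d9_1 D10104 (iv F32300) F32297
theorem F32459 : act 2 n10104 = n8571 := d14_1 D10104 F32456 (iv D10103)
theorem F32460 : act 3 n10104 = n10066 := d18_1 D10104 F32303 F27201 F27199 D8543
theorem F32461 : act 5 n10104 = n8573 := d22_2 F32443 D10104 F32444
theorem F32462 : act 6 n10104 = n10067 := d23_2 F31821 D10104 F32307
theorem F32463 : act 7 n10104 = n8949 := d24_2 F32281 D10104 (iv F32280)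
def n10105 : Q := act 4 n8548
theorem D10105 : act 4 n8548 = n10105 := rfl
theorem F32464 : act 0 n10105 = n10105 := d3_1 D10105 (iv D10105) F27248
theorem F32465 : act 1 n10105 = n8556 := d9_1 D10105 (iv D8556) (iv F27249)
theorem F32466 : act 2 n10105 = n10105 := d14_1 D10105 (iv D10105) F27250
theorem F32467 : act 3 n10105 = n10105 := d18_1 D10105 (iv D10105) (iv D8548) F21970 D8548
theorem F32468 : act 5 n10105 = n10105 := d22_2 F27251 D10105 (iv D10105)
theorem F32469 : act 6 n10105 = n9272 := d23_2 (iv F27252) D10105 F29609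
def n10106 : Q := act 7 n8548
theorem D10106 : act 7 n8548 = n10106 := rfl
theorem F32470 : act 0 n10106 = n10106 := d6_1 D10106 (iv D10106) F27248
theorem F32471 : act 1 n10106 = n8558 := d12_1 D10106 (iv D8558) (iv F27249)
theorem F32472 : act 2 n10106 = n10106 := d17_1 D10106 (iv D10106) F27250
theorem F32473 : act 5 n10106 = n10106 := d26_1 D10106 (iv D10106) F27251
def n10107 : Q := act 3 n8549
theorem D10107 : act 3 n8549 = n10107 := rfl
theorem F32474 : act 0 n10107 = n10107 := d2_1 D10107 (iv D10107) F27253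
theorem F32475 : act 1 n10107 = n8559 := d8_1 D10107 (iv D8559) (iv F27254)
theorem F32476 : act 5 n10107 = n10107 := d19_2 F27257 D10107 (iv D10107)
theorem F32477 : act 6 n10107 = n9144 := d20_2 (iv F27258) D10107 F29175
theorem F32478 : act 4 n9148 = n10107 := d23_3 F32477 F29176 D9148
def n10108 : Q := act 2 n8550
theorem D10108 : act 2 n8550 = n10108 := rfl
theorem F32479 : act 0 n10108 = n10108 := d1_1 D10108 (iv D10108) F27259
theorem F32480 : act 1 n10108 = n9710 := d7_1 D10108 F31064 F25767 (iv F21985) (iv F27260)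
theorem F32481 : act 4 n10108 = n9709 := d14_2 F27263 D10108 F31059
theorem F32482 : act 5 n10108 = n10108 := d15_2 F27261 D10108 (iv D10108)
theorem F32483 : act 7 n10108 = n10108 := d17_2 F27262 D10108 (iv D10108)
def n10109 : Q := act 0 n8555
theorem D10109 : act 0 n8555 = n10109 := rfl
theorem F32484 : act 1 n10109 = n8586 := d0_2 D8555 D10109 (iv D8586) (iv D6988) (iv F22003)
theorem F32485 : act 2 n10109 = n9685 := d1_2 (iv F27287) D10109 F30957
theorem F32486 : act 4 n10109 = n10109 := d3_2 F27288 D10109 (iv D10109)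
theorem F32487 : act 5 n10109 = n10109 := d4_2 F27289 D10109 (iv D10109)
theorem F32488 : act 6 n10109 = n10075 := d5_2 (iv F27290) D10109 F32327
theorem F32489 : act 7 n10109 = n10109 := d6_2 F27291 D10109 (iv D10109)
def n10110 : Q := act 6 n8556
theorem D10110 : act 6 n8556 = n10110 := rfl
theorem F32490 : act 0 n10110 = n9275 := d5_1 D10110 (iv F29624) (iv F27292)
theorem F32491 : act 1 n10110 = n9272 := d11_1 D10110 (iv F32469) F32465
theorem F32492 : act 2 n10110 = n8564 := d16_1 D10110 (iv D8564) (iv F27293)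
theorem F32493 : act 3 n10110 = n10110 := d20_1 D10110 (iv D10110) F27294
theorem F32494 : act 4 n10110 = n8557 := d23_1 D10110 (iv D8557) D8556
theorem F32495 : act 5 n10110 = n9274 := d25_1 D10110 (iv F30920) F30922 (iv D9075) (iv F27295)
theorem F32496 : act 7 n8978 = n10110 := d30_29 (iv D10110) F27295 F23682 F23683 F18462 D5903 D7500 (iv F26095) (iv F28124) F28125 F24007 (iv F29231) F30536 (iv D9578) (iv D7927) (iv D6276) (iv F19637) F19640 F19639 F14687 F10616 D3481 D4804 (iv F17534) F17533 F13408 (iv F18148) D7383 (iv F28649)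
def n10111 : Q := act 7 n8557
theorem D10111 : act 7 n8557 = n10111 := rfl
theorem F32497 : act 0 n10111 = n8969 := d6_1 D10111 F28625 (iv F27296)
theorem F32498 : act 1 n10111 = n9268 := d12_1 D10111 F29589 (iv F27297)
theorem F32499 : act 2 n10111 = n8566 := d17_1 D10111 (iv D8566) (iv F27298)
theorem F32500 : act 3 n10111 = n8952 := d21_1 D10111 (iv D8952) F23219 (iv F22027) (iv F27299)
theorem F32501 : act 4 n10111 = n8978 := d24_1 D10111 F32496 F32494
theorem F32502 : act 5 n10111 = n8953 := d26_1 D10111 F28554 F27300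
def n10112 : Q := act 3 n8558
theorem D10112 : act 3 n8558 = n10112 := rfl
theorem F32503 : act 0 n10112 = n9608 := d2_1 D10112 (iv D9608) (iv F27301)
theorem F32504 : act 2 n10112 = n10013 := d13_1 D10112 F32124 F31030 F25751 (iv F27302)
theorem F32505 : act 5 n10112 = n9078 := d19_2 (iv F27303) D10112 (iv D9078)
theorem F32506 : act 7 n10112 = n8559 := d21_2 D8558 D10112 (iv D8559) (iv D6956) D6954
def n10113 : Q := act 6 n8558
theorem D10113 : act 6 n8558 = n10113 := rfl
theorem F32507 : act 0 n10113 = n9609 := d5_1 D10113 (iv D9609) (iv F27301)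
theorem F32508 : act 2 n10113 = n8567 := d16_1 D10113 (iv D8567) (iv F27302)
def n10114 : Q := act 4 n8559
theorem D10114 : act 4 n8559 = n10114 := rfl
theorem F32509 : act 0 n10114 = n9610 := d3_1 D10114 (iv D9610) (iv F27304)
theorem F32510 : act 1 n10114 = n9148 := d9_1 D10114 F32478 F32475
theorem F32511 : act 2 n10114 = n9976 := d14_1 D10114 F31989 (iv F27305)
theorem F32512 : act 3 n10114 = n10114 := d18_1 D10114 (iv D10114) (iv D8559) F22015 D8559
theorem F32513 : act 5 n10114 = n9080 := d22_2 (iv F27306) D10114 (iv D9080)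
theorem F32514 : act 6 n10114 = n9147 := d23_2 (iv F27307) D10114 F29184
def n10115 : Q := act 2 n8560
theorem D10115 : act 2 n8560 = n10115 := rfl
theorem F32515 : act 0 n10115 = n8964 := d1_1 D10115 F28604 (iv F27308)
theorem F32516 : act 1 n10115 = n10101 := d7_1 D10115 F32442 F27353 F22081 (iv F27309)
theorem F32517 : act 3 n10115 = n8950 := d13_2 D8560 D10115 F28536 F23219 (iv F22035)
theorem F32518 : act 5 n10115 = n8949 := d15_2 (iv F27310) D10115 F28532
theorem F32519 : act 7 n10115 = n8573 := d17_2 (iv F27311) D10115 (iv D8573)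
def n10116 : Q := act 6 n8560
theorem D10116 : act 6 n8560 = n10116 := rfl
theorem F32520 : act 0 n10116 = n9604 := d5_1 D10116 (iv D9604) (iv F27308)
theorem F32521 : act 1 n10116 = n8562 := d11_1 D10116 (iv D8562) (iv F27309)
theorem F32522 : act 3 n10116 = n8561 := d20_1 D10116 (iv D8561) D8560
theorem F32523 : act 4 n10116 = n9950 := d23_1 D10116 F31882 F27356
theorem F32524 : act 5 n10116 = n9465 := d25_1 D10116 (iv D9465) F24722 (iv F25673) (iv F27310)
def n10117 : Q := act 7 n8565
theorem D10117 : act 7 n8565 = n10117 := rfl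
theorem F32525 : act 0 n10117 = n8971 := d6_1 D10117 F32401 F32397
theorem F32526 : act 1 n10117 = n9642 := d12_1 D10117 (iv F30938) F30933
theorem F32527 : act 2 n10117 = n8953 := d17_1 D10117 F28554 (iv F27331)
theorem F32528 : act 4 n10117 = n8976 := d24_1 D10117 F30932 F30930
theorem F32529 : act 5 n10117 = n8566 := d26_1 D10117 (iv D8566) D8565
theorem F32530 : act 3 n10117 = n9649 := d29_10 F3503 (iv F4686) D2196 (iv F8689) D3988 D5397 F16877 (iv F22066) (iv F27332) D10117 F30793 (iv D8935) (iv D7321) (iv D5742) F13247 (iv F12632) F12633 D4071 F12645 (iv D2885) (iv F7885) F7884 (iv F7839) D3619 (iv F11164) (iv D3262) (iv D2262) (iv F4867) F4869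
theorem F32531 : act 6 n9640 = n10117 := d20_0 F32530 (iv D9649) (iv F30760)
def n10118 : Q := act 3 n8566
theorem D10118 : act 3 n8566 = n10118 := rfl
theorem F32532 : act 0 n10118 = n10060 := d2_1 D10118 (iv F32405) F32402
theorem F32533 : act 1 n10118 = n10118 := d8_1 D10118 (iv D10118) F27334
theorem F32534 : act 2 n10118 = n10100 := d13_1 D10118 F32438 (iv F28548) (iv F32500) F32499
theorem F32535 : act 4 n10118 = n8968 := d18_2 (iv F27335) D10118 (iv D8968) F23360 D7380
theorem F32536 : act 5 n10118 = n9649 := d19_2 F32529 D10118 (iv F32530)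
theorem F32537 : act 7 n10118 = n8570 := d21_2 D8566 D10118 (iv D8570) (iv D6968) (iv F22063)
def n10119 : Q := act 6 n8566
theorem D10119 : act 6 n8566 = n10119 := rfl
theorem F32538 : act 1 n10119 = n10119 := d11_1 D10119 (iv D10119) F27334
theorem F32539 : act 4 n10119 = n8750 := d23_1 D10119 F27961 (iv F27335)
theorem F32540 : act 7 n10119 = n8567 := d27_2 D8566 D10119 (iv D8567) (iv D6966) D6965
def n10120 : Q := act 5 n8567
theorem D10120 : act 5 n8567 = n10120 := rfl
theorem F32541 : act 6 n10120 = n9085 := d25_2 D8567 D10120 (iv D9085) (iv D7491) (iv F22065)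
def n10121 : Q := act 3 n8569
theorem D10121 : act 3 n8569 = n10121 := rfl
theorem F32542 : act 0 n10121 = n10070 := d2_1 D10121 F32316 (iv F28565)
theorem F32543 : act 1 n10121 = n9651 := d8_1 D10121 F30805 F28635
theorem F32544 : act 2 n10121 = n10066 := d13_1 D10121 (iv F32460) F32459 (iv D8571) (iv F27341)
theorem F32545 : act 4 n10121 = n10071 := d18_2 (iv F27342) D10121 (iv F32420) (iv F32425) (iv D8580)
theorem F32546 : act 5 n10121 = n8570 := d19_2 (iv F27343) D10121 (iv D8570)
theorem F32547 : act 7 n10121 = n9649 := d21_2 D8569 D10121 (iv F32530) (iv D10117) F27332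
theorem F32548 : act 6 n10069 = n10121 := d27_5 F32547 (iv D9649) F25385 (iv F28668) (iv F32315)
def n10122 : Q := act 6 n8569
theorem D10122 : act 6 n8569 = n10122 := rfl
theorem F32549 : act 0 n10122 = n10034 := d5_1 D10122 F32186 (iv F28565)
theorem F32550 : act 1 n10122 = n10047 := d11_1 D10122 F32231 F28635
theorem F32551 : act 2 n10122 = n8572 := d16_1 D10122 (iv D8572) (iv F27341)
theorem F32552 : act 3 n10122 = n10069 := d20_1 D10122 F32548 (iv D10121)
theorem F32553 : act 4 n10122 = n8581 := d23_1 D10122 (iv D8581) (iv F27342)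
theorem F32554 : act 7 n10122 = n9089 := d27_2 D8569 D10122 (iv D9089) (iv D7493) (iv F22068)
def n10123 : Q := act 2 n8570
theorem D10123 : act 2 n8570 = n10123 := rfl
theorem F32555 : act 0 n10123 = n10071 := d1_1 D10123 (iv D10071) (iv F27344)
theorem F32556 : act 3 n10123 = n8573 := d13_2 D8570 D10123 (iv D8573) (iv D6970) (iv F22070)
theorem F32557 : act 5 n10123 = n10066 := d15_2 F32546 D10123 (iv F32544)
theorem F32558 : act 6 n10123 = n10072 := d16_2 (iv F27346) D10123 (iv D10072)
theorem F32559 : act 7 n10123 = n10100 := d17_2 F32537 D10123 (iv F32534)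
theorem F32560 : act 1 n10062 = n10123 := d30_2 D8483 D10062 (iv D10123) (iv D8570) (iv D6968) (iv D5396) F12392 F9795 (iv D2362) F5050 (iv F7042) D3269 D4543 F14079 D5140 F20418 (iv D6515) (iv D4948) F11069 F11067 F9116 (iv D2956) (iv D2016) (iv F6152) F6151 (iv F8903) (iv F12629) (iv F16528) D6873
theorem F32561 : act 4 n10123 = n10070 := d9_2 (iv F32284) F32560 (iv D10070)
def n10124 : Q := act 4 n8570
theorem D10124 : act 4 n8570 = n10124 := rfl
theorem F32562 : act 0 n10124 = n10066 := d3_1 D10124 F32303 (iv F27344)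
theorem F32563 : act 1 n10124 = n10124 := d9_1 D10124 (iv D10124) F27345
theorem F32564 : act 2 n10124 = n10070 := d14_1 D10124 (iv F32561) (iv D10123)
theorem F32565 : act 3 n10124 = n8583 := d18_1 D10124 (iv D8583) (iv D6978) (iv F22071) D8570
theorem F32566 : act 5 n10124 = n10071 := d22_2 F32546 D10124 (iv F32545)
theorem F32567 : act 6 n10124 = n10068 := d23_2 (iv F27346) D10124 F32311
theorem F32568 : act 7 n10124 = n8968 := d24_2 F32537 D10124 (iv F32535)
def n10125 : Q := act 6 n8571
theorem D10125 : act 6 n8571 = n10125 := rfl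
theorem F32569 : act 1 n10125 = n10125 := d11_1 D10125 (iv D10125) F27347
theorem F32570 : act 2 n10125 = n10067 := d16_1 D10125 (iv F32462) F32459
theorem F32571 : act 3 n10125 = n8572 := d20_1 D10125 (iv D8572) D8571
theorem F32572 : act 4 n10125 = n9722 := d23_1 D10125 (iv F32454) (iv F32456)
theorem F32573 : act 7 n10125 = n9401 := d27_2 (iv F27349) D10125 F29976 F24565 (iv F25673)
def n10126 : Q := act 1 n8573
theorem D10126 : act 1 n8573 = n10126 := rfl
theorem F32574 : act 2 n10126 = n8575 := d7_2 D8573 D10126 (iv D8575) (iv D6971) (iv F22075)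
theorem F32575 : act 3 n10126 = n10062 := d8_2 F32556 D10126 F32560
theorem F32576 : act 4 n10126 = n10115 := d9_2 (iv F32444) D10126 F32516
theorem F32577 : act 5 n10126 = n10061 := d10_2 F32461 D10126 F32277 D10064 (iv F32458)
theorem F32578 : act 7 n10126 = n10101 := d12_2 F32519 D10126 (iv F32516)
def n10127 : Q := act 3 n8576
theorem D10127 : act 3 n8576 = n10127 := rfl
theorem F32579 : act 0 n10127 = n10126 := d2_1 D10127 F32575 F32282
theorem F32580 : act 4 n10127 = n8964 := d18_2 (iv F27359) D10127 F28605 F23357 (iv F23375)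
theorem F32581 : act 5 n10127 = n8577 := d19_2 (iv F27360) D10127 (iv D8577)
theorem F32582 : act 7 n10127 = n8580 := d21_2 D8576 D10127 (iv D8580) (iv D6977) (iv F22090)
theorem F32583 : act 2 n9603 = n10127 := d30_3 F19762 (iv F25156) (iv F30625) (iv D10127) (iv D8576) F22091 (iv D5904) F13688 F10458 F7574 D2460 F7584 (iv F10844) (iv F15032) F15033 D6416 F21816 F19533 F19309 (iv F19813) D7975 (iv F29256) (iv F31929) F31928 F27384 F25701 F20292 (iv F25133) F25135
def n10128 : Q := act 2 n8577
theorem D10128 : act 2 n8577 = n10128 := rfl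
theorem F32584 : act 0 n10128 = n9692 := d1_1 D10128 (iv F32278) F32276
theorem F32585 : act 3 n10128 = n10128 := d13_2 D8577 D10128 (iv D10128) (iv D8577) F22093
theorem F32586 : act 4 n10128 = n8960 := d14_2 (iv F27362) D10128 F28585
theorem F32587 : act 5 n10128 = n9603 := d15_2 F32581 D10128 F32583
theorem F32588 : act 6 n10128 = n8959 := d16_2 (iv F27363) D10128 F28580
theorem F32589 : act 7 n10128 = n8582 := d17_2 (iv F27364) D10128 (iv D8582)
theorem F32590 : act 1 n9602 = n10128 := d30_2 F25143 (iv F30623) (iv D10128) (iv D8577) (iv D6975) (iv D5401) F12401 F9803 F7311 (iv D1684) F3639 D1685 D2459 D3521 F10838 F21765 (iv F14569) F14568 F14394 D4798 (iv F19674) D7941 (iv F26659) F26658 F25668 F25659 (iv F25702) (iv F30617) F30619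
def n10129 : Q := act 3 n8579
theorem D10129 : act 3 n8579 = n10129 := rfl
theorem F32591 : act 1 n10129 = n8580 := d8_1 D10129 (iv D8580) (iv F27368)
theorem F32592 : act 4 n10129 = n10074 := d18_2 F28637 D10129 (iv D10074) (iv F30802) F30805
theorem F32593 : act 5 n10129 = n10129 := d19_2 F27370 D10129 (iv D10129)
theorem F32594 : act 6 n10078 = n10129 := d31_4 F32363 (iv F32334) (iv F32335) (iv F32338) (iv D10129) F27370 (iv D8579) (iv F27338) F27337 F27340 (iv F25560) F25561 (iv F25523) (iv D8057) (iv D6410) D6412 F20080 D6413 F20082 (iv F20063) (iv F24899) F24901 (iv F30370) (iv D9532) D9533 F30375 F28052 D9164 (iv F32361)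
def n10130 : Q := act 6 n8579
theorem D10130 : act 6 n8579 = n10130 := rfl
theorem F32595 : act 0 n10130 = n10040 := d5_1 D10130 F32206 F28609
theorem F32596 : act 1 n10130 = n8581 := d11_1 D10130 (iv D8581) (iv F27368)
theorem F32597 : act 2 n10130 = n10130 := d16_1 D10130 (iv D10130) F27369
theorem F32598 : act 3 n10130 = n10078 := d20_1 D10130 F32594 (iv D10129)
theorem F32599 : act 4 n10130 = n10047 := d23_1 D10130 F32231 F28637
theorem F32600 : act 7 n10130 = n9104 := d27_2 D8579 D10130 (iv D9104) (iv D7506) (iv F22098)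
theorem F32601 : act 5 n10080 = n10130 := d22_0 F32599 F32230 D10080
def n10131 : Q := act 6 n8580
theorem D10131 : act 6 n8580 = n10131 := rfl
theorem F32602 : act 1 n10131 = n10078 := d11_1 D10131 F32594 F32591
theorem F32603 : act 2 n10131 = n9721 := d16_1 D10131 (iv F32431) F32428
theorem F32604 : act 3 n10131 = n8581 := d20_1 D10131 (iv D8581) D8580
theorem F32605 : act 4 n10131 = n10073 := d23_1 D10131 (iv F32422) (iv F32425)
def n10132 : Q := act 1 n8582
theorem D10132 : act 1 n8582 = n10132 := rfl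
theorem F32606 : act 0 n10132 = n10132 := d0_1 D10132 (iv D10132) (iv F32450) F32451 F32450
theorem F32607 : act 2 n10132 = n10132 := d7_2 D8582 D10132 (iv D10132) (iv D8582) F22101
theorem F32608 : act 3 n10132 = n8585 := d8_2 (iv F27374) D10132 (iv D8585)
theorem F32609 : act 4 n10132 = n9600 := d9_2 F32410 D10132 (iv F32409)
theorem F32610 : act 5 n10132 = n9601 := d10_2 F32430 D10132 F30615 (iv F27215) (iv F32427)
theorem F32611 : act 7 n10132 = n9602 := d12_2 F32589 D10132 F32590
def n10133 : Q := act 3 n8587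
theorem D10133 : act 3 n8587 = n10133 := rfl
theorem F32612 : act 0 n10133 = n8755 := d2_1 D10133 (iv D8755) (iv F27390)
theorem F32613 : act 1 n10133 = n9258 := d8_1 D10133 F29552 (iv F27391)
theorem F32614 : act 6 n10133 = n8898 := d20_2 (iv F27394) D10133 (iv D8898)
theorem F32615 : act 7 n10133 = n9099 := d21_2 D8587 D10133 F29035 F23765 (iv F22151)
def n10134 : Q := act 5 n8588
theorem D10134 : act 5 n8588 = n10134 := rfl
theorem F32616 : act 0 n10134 = n8589 := d4_1 D10134 (iv D8589) (iv F27395)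
theorem F32617 : act 1 n10134 = n9532 := d10_1 D10134 (iv D9532) F24895 F22818 (iv F27396)
theorem F32618 : act 2 n10134 = n10134 := d15_1 D10134 (iv D10134) F27397
theorem F32619 : act 3 n10134 = n9534 := d19_1 D10134 F30378 F28126
theorem F32620 : act 4 n10134 = n9239 := d22_1 D10134 (iv D9239) (iv F27398)
theorem F32621 : act 6 n10134 = n10134 := d25_2 D8588 D10134 (iv D10134) (iv D8588) F22156
def n10135 : Q := act 7 n8588
theorem D10135 : act 7 n8588 = n10135 := rfl
theorem F32622 : act 0 n10135 = n8590 := d6_1 D10135 (iv D8590) (iv F27395)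
theorem F32623 : act 1 n10135 = n8759 := d12_1 D10135 (iv D8759) (iv F27396)
theorem F32624 : act 2 n10135 = n10135 := d17_1 D10135 (iv D10135) F27397
theorem F32625 : act 4 n10135 = n9238 := d24_1 D10135 F29494 (iv F27398)
theorem F32626 : act 6 n10135 = n9235 := d27_1 D10135 (iv D9235) (iv D7629) (iv F22157) D8588
def n10136 : Q := act 7 n8589
theorem D10136 : act 7 n8589 = n10136 := rfl
theorem F32627 : act 1 n10136 = n9487 := d12_1 D10136 F30235 (iv F27399)
theorem F32628 : act 2 n10136 = n10136 := d17_1 D10136 (iv D10136) F27400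
theorem F32629 : act 4 n10136 = n9259 := d24_1 D10136 F29555 (iv F27401)
theorem F32630 : act 5 n10136 = n8590 := d26_1 D10136 (iv D8590) D8589
def n10137 : Q := act 3 n8590
theorem D10137 : act 3 n8590 = n10137 := rfl
theorem F32631 : act 1 n10137 = n8591 := d8_1 D10137 (iv D8591) (iv F27403)
theorem F32632 : act 6 n10137 = n9251 := d20_2 (iv F27406) D10137 (iv D9251)
def n10138 : Q := act 4 n8591
theorem D10138 : act 4 n8591 = n10138 := rfl
theorem F32633 : act 0 n10138 = n8764 := d3_1 D10138 (iv D8764) (iv F27407)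
theorem F32634 : act 2 n10138 = n9796 := d14_1 D10138 (iv D9796) (iv F27408)
def n10139 : Q := act 6 n8591
theorem D10139 : act 6 n8591 = n10139 := rfl
theorem F32635 : act 0 n10139 = n8765 := d5_1 D10139 (iv D8765) (iv F27407)
theorem F32636 : act 1 n10139 = n9251 := d11_1 D10139 (iv F32632) F32631
theorem F32637 : act 2 n10139 = n9797 := d16_1 D10139 (iv D9797) (iv F27408)
theorem F32638 : act 3 n10139 = n8592 := d20_1 D10139 (iv D8592) D8591
def n10140 : Q := act 5 n8592
theorem D10140 : act 5 n8592 = n10140 := rfl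
theorem F32639 : act 0 n10140 = n8766 := d4_1 D10140 (iv D8766) (iv F27409)
theorem F32640 : act 2 n10140 = n8603 := d15_1 D10140 (iv D8603) (iv F27411)
theorem F32641 : act 4 n10140 = n8897 := d22_1 D10140 F28371 (iv F27412)
theorem F32642 : act 6 n10140 = n9453 := d25_2 D8592 D10140 F30121 F24705 F23096
theorem F32643 : act 7 n10140 = n8594 := d26_2 (iv F27413) D10140 (iv D8594)
def n10141 : Q := act 5 n8593
theorem D10141 : act 5 n8593 = n10141 := rfl
theorem F32644 : act 0 n10141 = n8768 := d4_1 D10141 (iv D8768) (iv F27414)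
theorem F32645 : act 2 n10141 = n9762 := d15_1 D10141 F31249 (iv F27416)
theorem F32646 : act 3 n10141 = n8594 := d19_1 D10141 (iv D8594) (iv F27417)
theorem F32647 : act 4 n10141 = n8888 := d22_1 D10141 (iv D8888) (iv F27418)
theorem F32648 : act 6 n10141 = n8596 := d25_2 D8593 D10141 (iv D8596) (iv D6999) (iv F22166)
def n10142 : Q := act 1 n8594
theorem D10142 : act 1 n8594 = n10142 := rfl
theorem F32649 : act 4 n10142 = n8896 := d9_2 (iv F27421) D10142 (iv D8896)
theorem F32650 : act 5 n10142 = n9249 := d10_2 D8594 D10142 (iv D9249) (iv D7641) (iv F22168)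
theorem F32651 : act 6 n10142 = n8598 := d11_2 (iv F27422) D10142 (iv D8598)
def n10143 : Q := act 5 n8595
theorem D10143 : act 5 n8595 = n10143 := rfl
theorem F32652 : act 0 n10143 = n8772 := d4_1 D10143 (iv D8772) (iv F27423)
theorem F32653 : act 1 n10143 = n9760 := d10_1 D10143 (iv D9760) (iv F26223) (iv F27487) F27484
theorem F32654 : act 2 n10143 = n8596 := d15_1 D10143 (iv D8596) (iv F27424)
theorem F32655 : act 3 n10143 = n8607 := d19_1 D10143 (iv D8607) (iv F27425)
theorem F32656 : act 4 n10143 = n9763 := d22_1 D10143 (iv F31848) F31847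
theorem F32657 : act 6 n10143 = n9762 := d25_2 D8595 D10143 F31249 F25995 F25880
def n10144 : Q := act 7 n8595
theorem D10144 : act 7 n8595 = n10144 := rfl
theorem F32658 : act 0 n10144 = n8773 := d6_1 D10144 (iv D8773) (iv F27423)
theorem F32659 : act 2 n10144 = n8597 := d17_1 D10144 (iv D8597) (iv F27424)
theorem F32660 : act 3 n9399 = n10144 := d30_4 F24596 F24559 (iv F24553) D9399 (iv D10144) (iv D8595) (iv F25880) (iv D8146) F20494 F15439 F15441 D5227 (iv F16329) (iv F21451) (iv F25458) F25459 (iv F25426) (iv D8033) (iv F25379) (iv F27831) F27832 F27822 (iv F22991) F22990 F18482 (iv F23743) F23744 D9024 F28798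
def n10145 : Q := act 1 n8596
theorem D10145 : act 1 n8596 = n10145 := rfl
theorem F32661 : act 3 n10145 = n8598 := d8_2 (iv F27427) D10145 (iv D8598)
theorem F32662 : act 5 n10145 = n10145 := d10_2 D8596 D10145 (iv D10145) (iv D8596) F22174
def n10146 : Q := act 7 n8596
theorem D10146 : act 7 n8596 = n10146 := rfl
theorem F32663 : act 0 n10146 = n8777 := d6_1 D10146 (iv D8777) (iv F27426)
theorem F32664 : act 3 n10146 = n9394 := d21_1 D10146 (iv D9394) F24546 F23099 (iv F27427)
theorem F32665 : act 5 n10146 = n8597 := d26_1 D10146 (iv D8597) D8596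
def n10147 : Q := act 0 n8598
theorem D10147 : act 0 n8598 = n10147 := rfl
theorem F32666 : act 1 n10147 = n8778 := d0_2 D8598 D10147 (iv D8778) (iv D7179) (iv F22176)
theorem F32667 : act 5 n10147 = n10147 := d4_2 F27431 D10147 (iv D10147)
def n10148 : Q := act 2 n8598
theorem D10148 : act 2 n8598 = n10148 := rfl
theorem F32668 : act 1 n10148 = n8610 := d7_1 D10148 (iv D8610) (iv D7011) (iv F22177) D8598
theorem F32669 : act 5 n10148 = n10148 := d15_2 F27431 D10148 (iv D10148)
def n10149 : Q := act 2 n8599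
theorem D10149 : act 2 n8599 = n10149 := rfl
theorem F32670 : act 0 n10149 = n8780 := d1_1 D10149 (iv D8780) (iv F27432)
theorem F32671 : act 4 n10149 = n9811 := d14_2 (iv F27434) D10149 (iv D9811)
theorem F32672 : act 7 n10149 = n10149 := d17_2 F27435 D10149 (iv D10149)
def n10150 : Q := act 6 n8599
theorem D10150 : act 6 n8599 = n10150 := rfl
theorem F32673 : act 0 n10150 = n8782 := d5_1 D10150 (iv D8782) (iv F27432)
theorem F32674 : act 1 n10150 = n10150 := d11_1 D10150 (iv D10150) F27433
theorem F32675 : act 3 n10150 = n8600 := d20_1 D10150 (iv D8600) D8599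
theorem F32676 : act 4 n10150 = n9812 := d23_1 D10150 (iv D9812) (iv F27434)
theorem F32677 : act 7 n8657 = n10150 := d21_0 F32675 F27440 F22184 D7058 D8657
def n10151 : Q := act 5 n8600
theorem D10151 : act 5 n8600 = n10151 := rfl
theorem F32678 : act 0 n10151 = n8783 := d4_1 D10151 (iv D8783) (iv F27436)
theorem F32679 : act 2 n10151 = n8897 := d15_1 D10151 F28371 (iv F27438)
theorem F32680 : act 4 n10151 = n8603 := d22_1 D10151 (iv D8603) (iv F27439)
theorem F32681 : act 7 n10151 = n8601 := d26_2 (iv F27440) D10151 (iv D8601)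
def n10152 : Q := act 1 n8601
theorem D10152 : act 1 n8601 = n10152 := rfl
theorem F32682 : act 3 n10152 = n8655 := d8_2 (iv F27443) D10152 (iv D8655)
theorem F32683 : act 4 n10152 = n8606 := d9_2 (iv F27444) D10152 (iv D8606)
theorem F32684 : act 5 n10152 = n10152 := d10_2 D8601 D10152 (iv D10152) (iv D8601) F22182
theorem F32685 : act 6 n10152 = n8602 := d11_2 (iv F27445) D10152 (iv D8602)
def n10153 : Q := act 2 n8602
theorem D10153 : act 2 n8602 = n10153 := rfl
theorem F32686 : act 4 n10153 = n8610 := d14_2 (iv F27446) D10153 (iv D8610)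
theorem F32687 : act 5 n10153 = n8618 := d15_2 (iv F27447) D10153 (iv D8618)
def n10154 : Q := act 1 n8603
theorem D10154 : act 1 n8603 = n10154 := rfl
theorem F32688 : act 3 n10154 = n9828 := d8_2 (iv F27449) D10154 (iv D9828)
theorem F32689 : act 5 n10154 = n10154 := d10_2 D8603 D10154 (iv D10154) (iv D8603) F22189
theorem F32690 : act 7 n10154 = n8606 := d12_2 (iv F27450) D10154 (iv D8606)
def n10155 : Q := act 5 n8604
theorem D10155 : act 5 n8604 = n10155 := rfl
theorem F32691 : act 0 n10155 = n8795 := d4_1 D10155 (iv D8795) (iv F27451)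
theorem F32692 : act 1 n10155 = n9758 := d10_1 D10155 (iv D9758) F25965 D8178 (iv F27452)
theorem F32693 : act 2 n10155 = n8605 := d15_1 D10155 (iv D8605) (iv F27453)
theorem F32694 : act 3 n10155 = n9762 := d19_1 D10155 F31249 (iv F27454)
theorem F32695 : act 6 n10155 = n8607 := d25_2 D8604 D10155 (iv D8607) (iv D7008) (iv F22193)
theorem F32696 : act 7 n10155 = n9830 := d26_2 (iv F27455) D10155 (iv D9830)
def n10156 : Q := act 2 n8606
theorem D10156 : act 2 n8606 = n10156 := rfl
theorem F32697 : act 5 n10156 = n10156 := d15_2 F27460 D10156 (iv D10156)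
theorem F32698 : act 6 n10156 = n8610 := d16_2 (iv F27461) D10156 (iv D8610)
def n10157 : Q := act 7 n8607
theorem D10157 : act 7 n8607 = n10157 := rfl
theorem F32699 : act 0 n10157 = n8807 := d6_1 D10157 (iv D8807) (iv F27462)
theorem F32700 : act 2 n10157 = n8609 := d17_1 D10157 (iv D8609) (iv F27463)
theorem F32701 : act 5 n10157 = n8608 := d26_1 D10157 (iv D8608) D8607
theorem F32702 : act 6 n10157 = n9839 := d27_1 D10157 (iv D9839) (iv F31460) (iv F32696) F32695
def n10158 : Q := act 3 n8608
theorem D10158 : act 3 n8608 = n10158 := rfl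
theorem F32703 : act 0 n10158 = n8808 := d2_1 D10158 (iv D8808) (iv F27464)
theorem F32704 : act 2 n10158 = n9372 := d13_1 D10158 (iv D9372) F24490 F22652 (iv F27465)
theorem F32705 : act 6 n10158 = n8616 := d20_2 (iv F27466) D10158 (iv D8616)
theorem F32706 : act 7 n10158 = n9399 := d21_2 D8608 D10158 F32660 (iv D10144) F27425
def n10159 : Q := act 3 n8610
theorem D10159 : act 3 n8610 = n10159 := rfl
theorem F32707 : act 2 n10159 = n9825 := d13_1 D10159 F31442 F29639 F25230 D8610
theorem F32708 : act 5 n10159 = n8619 := d19_2 (iv F27471) D10159 (iv D8619)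
theorem F32709 : act 7 n9822 = n10159 := d26_0 F32708 (iv F27507) D9822
def n10160 : Q := act 5 n8611
theorem D10160 : act 5 n8611 = n10160 := rfl
theorem F32710 : act 0 n10160 = n9276 := d4_1 D10160 (iv D9276) (iv F27472)
theorem F32711 : act 1 n10160 = n9848 := d10_1 D10160 (iv D9848) F26215 (iv F24982) (iv F27473)
theorem F32712 : act 2 n10160 = n8620 := d15_1 D10160 (iv D8620) (iv F27474)
theorem F32713 : act 3 n10160 = n9299 := d19_1 D10160 (iv D9299) (iv F27475)
theorem F32714 : act 4 n10160 = n10155 := d22_1 D10160 (iv D10155) (iv F27476)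
theorem F32715 : act 6 n10160 = n8612 := d25_2 D8611 D10160 (iv D8612) (iv D7015) D7014
def n10161 : Q := act 7 n8612
theorem D10161 : act 7 n8612 = n10161 := rfl
theorem F32716 : act 1 n10161 = n9850 := d12_1 D10161 (iv D9850) (iv F27477)
theorem F32717 : act 2 n10161 = n8622 := d17_1 D10161 (iv D8622) (iv F27478)
theorem F32718 : act 4 n10161 = n10157 := d24_1 D10161 (iv D10157) (iv F27479)
theorem F32719 : act 5 n10161 = n8613 := d26_1 D10161 (iv D8613) D8612
def n10162 : Q := act 3 n8613
theorem D10162 : act 3 n8613 = n10162 := rfl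
theorem F32720 : act 1 n10162 = n8616 := d8_1 D10162 (iv D8616) (iv F27480)
theorem F32721 : act 7 n10162 = n9920 := d21_2 D8613 D10162 (iv D9920) F26479 F22857
def n10163 : Q := act 7 n8614
theorem D10163 : act 7 n8614 = n10163 := rfl
theorem F32722 : act 0 n10163 = n8827 := d6_1 D10163 (iv D8827) (iv F27483)
theorem F32723 : act 1 n10163 = n10144 := d12_1 D10163 (iv D10144) (iv F27484)
theorem F32724 : act 2 n10163 = n10163 := d17_1 D10163 (iv D10163) F27485
theorem F32725 : act 5 n10163 = n9852 := d26_1 D10163 (iv D9852) (iv F27487)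
theorem F32726 : act 6 n10163 = n9979 := d27_1 D10163 (iv D9979) (iv D8395) (iv F22234) D8614
def n10164 : Q := act 3 n8615
theorem D10164 : act 3 n8615 = n10164 := rfl
theorem F32727 : act 0 n10164 = n8828 := d2_1 D10164 (iv D8828) (iv F27488)
theorem F32728 : act 1 n10164 = n10158 := d8_1 D10164 (iv D10158) (iv F27489)
theorem F32729 : act 5 n10164 = n9853 := d19_2 (iv F27492) D10164 (iv D9853)
theorem F32730 : act 6 n10164 = n10162 := d20_2 (iv F27493) D10164 (iv D10162)
def n10165 : Q := act 4 n8616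
theorem D10165 : act 4 n8616 = n10165 := rfl
theorem F32731 : act 0 n10165 = n8829 := d3_1 D10165 (iv D8829) (iv F27494)
theorem F32732 : act 5 n10165 = n9854 := d22_2 (iv F27495) D10165 (iv D9854)
theorem F32733 : act 7 n10165 = n9937 := d24_2 (iv F27496) D10165 (iv D9937)
def n10166 : Q := act 2 n8617
theorem D10166 : act 2 n8617 = n10166 := rfl
theorem F32734 : act 0 n10166 = n8830 := d1_1 D10166 (iv D8830) (iv F27497)
theorem F32735 : act 1 n10166 = n9522 := d7_1 D10166 F30335 F24874 F22273 (iv F27498)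
theorem F32736 : act 5 n10166 = n9310 := d15_2 (iv F27499) D10166 (iv D9310)
theorem F32737 : act 7 n10166 = n10166 := d17_2 F27500 D10166 (iv D10166)
def n10167 : Q := act 3 n8618
theorem D10167 : act 3 n8618 = n10167 := rfl
theorem F32738 : act 1 n10167 = n10167 := d8_1 D10167 (iv D10167) F27501
theorem F32739 : act 6 n10167 = n10167 := d20_2 F27503 D10167 (iv D10167)
theorem F32740 : act 7 n10167 = n10054 := d21_2 F28468 D10167 F32245 F26980 F28469
def n10168 : Q := act 1 n8620
theorem D10168 : act 1 n8620 = n10168 := rfl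
theorem F32741 : act 2 n10168 = n9873 := d7_2 F32712 D10168 (iv D9873) (iv F31508) (iv F32711)
theorem F32742 : act 3 n10168 = n8629 := d8_2 (iv F27508) D10168 (iv D8629)
theorem F32743 : act 4 n10168 = n9617 := d9_2 (iv F27509) D10168 F30676
theorem F32744 : act 5 n10168 = n10168 := d10_2 D8620 D10168 (iv D10168) (iv D8620) F22251
theorem F32745 : act 6 n10168 = n8621 := d11_2 (iv F27510) D10168 (iv D8621)
theorem F32746 : act 0 n8886 = n10168 := d5_3 F32745 (iv F27515) D8886
def n10169 : Q := act 2 n8623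
theorem D10169 : act 2 n8623 = n10169 := rfl
theorem F32747 : act 0 n10169 = n8716 := d1_1 D10169 F27817 (iv F27520)
theorem F32748 : act 4 n10169 = n9334 := d14_2 F27524 D10169 (iv D9334)
theorem F32749 : act 6 n10169 = n10166 := d16_2 (iv F27522) D10169 (iv D10166)
theorem F32750 : act 7 n10169 = n8637 := d17_2 (iv F27523) D10169 (iv D8637)
def n10170 : Q := act 1 n8624
theorem D10170 : act 1 n8624 = n10170 := rfl
theorem F32751 : act 5 n10170 = n9157 := d10_2 D8624 D10170 (iv D9157) (iv D7554) (iv F22275)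
theorem F32752 : act 6 n10170 = n8626 := d11_2 (iv F27527) D10170 (iv D8626)
def n10171 : Q := act 7 n8624
theorem D10171 : act 7 n8624 = n10171 := rfl
theorem F32753 : act 0 n10171 = n8630 := d6_1 D10171 (iv D8630) (iv F27525)
theorem F32754 : act 2 n10171 = n9192 := d17_1 D10171 (iv D9192) (iv F27526)
theorem F32755 : act 4 n10171 = n9627 := d24_1 D10171 F30715 F27601
theorem F32756 : act 5 n10171 = n8625 := d26_1 D10171 (iv D8625) D8624
def n10172 : Q := act 3 n8625
theorem D10172 : act 3 n8625 = n10172 := rfl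
theorem F32757 : act 0 n10172 = n8631 := d2_1 D10172 (iv D8631) (iv F27528)
theorem F32758 : act 1 n10172 = n9159 := d8_1 D10172 (iv D9159) (iv F27529)
theorem F32759 : act 6 n10172 = n10172 := d20_2 F27532 D10172 (iv D10172)
def n10173 : Q := act 2 n8626
theorem D10173 : act 2 n8626 = n10173 := rfl
theorem F32760 : act 0 n10173 = n9018 := d1_1 D10173 F28784 F28362
theorem F32761 : act 5 n10173 = n8647 := d15_2 (iv F27533) D10173 (iv D8647)
theorem F32762 : act 7 n10173 = n8686 := d17_2 F27534 D10173 F27717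
def n10174 : Q := act 6 n8627
theorem D10174 : act 6 n8627 = n10174 := rfl
theorem F32763 : act 0 n10174 = n8636 := d5_1 D10174 (iv D8636) (iv F27535)
theorem F32764 : act 1 n10174 = n8692 := d11_1 D10174 F27742 (iv F27536)
theorem F32765 : act 3 n10174 = n8708 := d20_1 D10174 F27796 F27538
theorem F32766 : act 5 n10174 = n10174 := d25_1 D10174 (iv D10174) F27537 F22280 (iv F27537)
def n10175 : Q := act 0 n8628
theorem D10175 : act 0 n8628 = n10175 := rfl
theorem F32767 : act 3 n10175 = n9619 := d2_2 (iv F27539) D10175 F30681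
theorem F32768 : act 4 n10175 = n8632 := d3_2 (iv F27540) D10175 (iv D8632)
theorem F32769 : act 5 n10175 = n8639 := d4_2 (iv F27541) D10175 (iv D8639)
def n10176 : Q := act 0 n8629
theorem D10176 : act 0 n8629 = n10176 := rfl
theorem F32770 : act 3 n10176 = n8886 := d2_2 F32742 D10176 F32746
theorem F32771 : act 5 n10176 = n10176 := d4_2 F27542 D10176 (iv D10176)
theorem F32772 : act 6 n10176 = n8632 := d5_2 (iv F27543) D10176 (iv D8632)
def n10177 : Q := act 2 n8629
theorem D10177 : act 2 n8629 = n10177 := rfl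
theorem F32773 : act 1 n10177 = n8741 := d7_1 D10177 F27933 F22679 F22344 D8629
theorem F32774 : act 3 n10177 = n9895 := d13_2 F32742 D10177 (iv D9895) (iv F31589) (iv F32741)
theorem F32775 : act 4 n10177 = n8748 := d14_2 F27621 D10177 F27956
theorem F32776 : act 5 n10177 = n10177 := d15_2 F27542 D10177 (iv D10177)
theorem F32777 : act 6 n10177 = n8633 := d16_2 (iv F27543) D10177 (iv D8633)
def n10178 : Q := act 7 n8629
theorem D10178 : act 7 n8629 = n10178 := rfl
theorem F32778 : act 1 n10178 = n8630 := d12_1 D10178 (iv D8630) D8629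
theorem F32779 : act 5 n10178 = n10178 := d26_1 D10178 (iv D10178) F27542
def n10179 : Q := act 3 n8630
theorem D10179 : act 3 n8630 = n10179 := rfl
theorem F32780 : act 5 n10179 = n8631 := d19_2 (iv F27544) D10179 (iv D8631)
def n10180 : Q := act 6 n8630
theorem D10180 : act 6 n8630 = n10180 := rfl
theorem F32781 : act 5 n10180 = n10180 := d25_1 D10180 (iv D10180) F27544 F22287 (iv F27544)
theorem F32782 : act 7 n10180 = n8636 := d27_2 D8630 D10180 (iv D8636) (iv D7035) (iv F22285)
def n10181 : Q := act 2 n8631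
theorem D10181 : act 2 n8631 = n10181 := rfl
theorem F32783 : act 4 n10181 = n9430 := d14_2 F31423 D10181 (iv F31422)
theorem F32784 : act 6 n10181 = n10181 := d16_2 F27546 D10181 (iv D10181)
theorem F32785 : act 1 n10181 = n9428 := d29_2 D8631 D10181 (iv D9428) (iv D7791) F19287 (iv F24580) F24581 (iv D7072) (iv D5496) F12635 (iv F17182) (iv F20704) (iv D6590) F15625 (iv F15633) (iv D5040) F11385 F7976 D2591 D3697 D5056 D6626 (iv F20804) D6835 (iv F24982) (iv F27473) F27474 F22252 D7033
def n10182 : Q := act 2 n8632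
theorem D10182 : act 2 n8632 = n10182 := rfl
theorem F32786 : act 0 n10182 = n8633 := d1_1 D10182 (iv D8633) D8632
theorem F32787 : act 3 n10182 = n9900 := d13_2 (iv F27547) D10182 (iv D9900) F26583 F26580
theorem F32788 : act 5 n10182 = n8641 := d15_2 (iv F27548) D10182 (iv D8641)
def n10183 : Q := act 7 n8632
theorem D10183 : act 7 n8632 = n10183 := rfl
theorem F32789 : act 0 n10183 = n8634 := d6_1 D10183 (iv D8634) D8632
theorem F32790 : act 1 n10183 = n8689 := d12_1 D10183 (iv F28365) F28363
theorem F32791 : act 3 n10183 = n8700 := d21_1 D10183 F27772 F23008 D7275 (iv F27547)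
theorem F32792 : act 5 n10183 = n8642 := d26_1 D10183 (iv D8642) (iv F27548)
theorem F32793 : act 6 n9004 = n10183 := d25_0 F32792 (iv F27576) (iv F28727) F28728 (iv F28741)
def n10184 : Q := act 7 n8633
theorem D10184 : act 7 n8633 = n10184 := rfl
theorem F32794 : act 2 n10184 = n8634 := d17_1 D10184 (iv D8634) D8633
theorem F32795 : act 5 n10184 = n8643 := d26_1 D10184 (iv D8643) (iv F27550)
def n10185 : Q := act 6 n8634
theorem D10185 : act 6 n8634 = n10185 := rfl
theorem F32796 : act 0 n10185 = n9004 := d5_1 D10185 F32793 F32789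
theorem F32797 : act 1 n10185 = n8636 := d11_1 D10185 (iv D8636) (iv F27551)
theorem F32798 : act 3 n10185 = n9892 := d20_1 D10185 F31654 F29753
theorem F32799 : act 5 n10185 = n9008 := d25_1 D10185 F28756 (iv D7877) F22303 (iv F27552)
def n10186 : Q := act 2 n8635
theorem D10186 : act 2 n8635 = n10186 := rfl
theorem F32800 : act 0 n10186 = n8711 := d1_1 D10186 (iv D8711) (iv F27553)
theorem F32801 : act 5 n10186 = n8637 := d15_2 (iv F27554) D10186 (iv D8637)
def n10187 : Q := act 4 n8635
theorem D10187 : act 4 n8635 = n10187 := rfl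
theorem F32802 : act 0 n10187 = n8707 := d3_1 D10187 F27792 (iv F27553)
theorem F32803 : act 1 n10187 = n9898 := d9_1 D10187 F31667 F29751
theorem F32804 : act 5 n10187 = n8638 := d22_2 (iv F27554) D10187 (iv D8638)
theorem F32805 : act 7 n10187 = n9332 := d24_2 (iv F29749) D10187 F29795
theorem F32806 : act 6 n9896 = n10187 := d27_5 F32805 F29797 (iv D8301) (iv F26354) D9896
def n10188 : Q := act 6 n8635
theorem D10188 : act 6 n8635 = n10188 := rfl
theorem F32807 : act 0 n10188 = n8708 := d5_1 D10188 F27796 (iv F27553)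
theorem F32808 : act 1 n10188 = n9892 := d11_1 D10188 F31654 F29751
theorem F32809 : act 3 n10188 = n8636 := d20_1 D10188 (iv D8636) D8635
theorem F32810 : act 4 n10188 = n9896 := d23_1 D10188 F32806 (iv D10187)
theorem F32811 : act 5 n10188 = n10188 := d25_1 D10188 (iv D10188) F27554 F22292 (iv F27554)
theorem F32812 : act 7 n10188 = n9891 := d27_2 (iv F29749) D10188 F31650 F26352 (iv F29748)
def n10189 : Q := act 4 n8637
theorem D10189 : act 4 n8637 = n10189 := rfl
theorem F32813 : act 0 n10189 = n8715 := d3_1 D10189 F27813 (iv F27556)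
theorem F32814 : act 2 n10189 = n8638 := d14_1 D10189 (iv D8638) D8637
theorem F32815 : act 6 n10189 = n10189 := d23_2 F27557 D10189 (iv D10189)
theorem F32816 : act 7 n10189 = n9334 := d24_2 F32750 D10189 (iv F32748)
def n10190 : Q := act 2 n8639
theorem D10190 : act 2 n8639 = n10190 := rfl
theorem F32817 : act 0 n10190 = n8640 := d1_1 D10190 (iv D8640) D8639
theorem F32818 : act 1 n10190 = n10189 := d7_1 D10190 F32814 F27559 (iv F22317) (iv F27562)
theorem F32819 : act 4 n10190 = n8641 := d14_2 (iv F27564) D10190 (iv D8641)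
theorem F32820 : act 6 n10190 = n10190 := d16_2 F27565 D10190 (iv D10190)
def n10191 : Q := act 3 n8640
theorem D10191 : act 3 n8640 = n10191 := rfl
theorem F32821 : act 1 n10191 = n8645 := d8_1 D10191 (iv D8645) (iv F27566)
theorem F32822 : act 2 n10191 = n10167 := d13_1 D10191 (iv D10167) (iv D8618) (iv F22293) D8640
theorem F32823 : act 4 n10191 = n9236 := d18_2 (iv F27567) D10191 F29486 F24179 (iv F22300)
theorem F32824 : act 6 n10191 = n10191 := d20_2 F27568 D10191 (iv D10191)
def n10192 : Q := act 7 n8641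
theorem D10192 : act 7 n8641 = n10192 := rfl
theorem F32825 : act 0 n10192 = n8643 := d6_1 D10192 (iv D8643) (iv F27569)
theorem F32826 : act 1 n10192 = n10169 := d12_1 D10192 F32750 (iv F27570)
theorem F32827 : act 2 n10192 = n8642 := d17_1 D10192 (iv D8642) D8641
theorem F32828 : act 6 n10192 = n9522 := d30_6 F23822 F21111 (iv F20976) D8307 (iv F27571) D10192 (iv F30338) F30247 F24802 F19431 (iv F21723) (iv F25405) F25404 F25401 (iv F27022) (iv F32293) F32295 (iv D10063) F27016 (iv F26081) F26082 D9608 F30648 D9611 F30658 F26241 F21009 F18551 D7521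
def n10193 : Q := act 7 n8645
theorem D10193 : act 7 n8645 = n10193 := rfl
theorem F32829 : act 0 n10193 = n9250 := d6_1 D10193 (iv D9250) (iv F27586)
theorem F32830 : act 2 n10193 = n10193 := d17_1 D10193 (iv D10193) F27587
theorem F32831 : act 4 n10193 = n9237 := d24_1 D10193 (iv D9237) (iv F27588)
theorem F32832 : act 5 n10193 = n9235 := d26_1 D10193 (iv D9235) (iv F27589)
def n10194 : Q := act 4 n8646
theorem D10194 : act 4 n8646 = n10194 := rfl
theorem F32833 : act 2 n10194 = n9248 := d14_1 D10194 (iv D9248) (iv F27591)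
theorem F32834 : act 6 n10194 = n9518 := d23_2 (iv F27592) D10194 (iv D9518)
theorem F32835 : act 7 n10194 = n9908 := d24_2 (iv F27593) D10194 (iv D9908)
def n10195 : Q := act 3 n8647
theorem D10195 : act 3 n8647 = n10195 := rfl
theorem F32836 : act 0 n10195 = n9019 := d2_1 D10195 (iv D9019) (iv F27594)
theorem F32837 : act 1 n10195 = n8651 := d8_1 D10195 (iv D8651) (iv F27595)
theorem F32838 : act 6 n10195 = n9023 := d20_2 (iv F27596) D10195 (iv D9023)
def n10196 : Q := act 1 n8648
theorem D10196 : act 1 n8648 = n10196 := rfl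
theorem F32839 : act 3 n10196 = n8784 := d8_2 (iv F27600) D10196 (iv D8784)
theorem F32840 : act 4 n10196 = n10170 := d9_2 (iv F27601) D10196 (iv D10170)
theorem F32841 : act 5 n10196 = n9155 := d10_2 D8648 D10196 (iv D9155) (iv D7552) (iv F22334)
theorem F32842 : act 6 n10196 = n8785 := d11_2 (iv F27602) D10196 (iv D8785)
def n10197 : Q := act 2 n8649
theorem D10197 : act 2 n8649 = n10197 := rfl
theorem F32843 : act 0 n10197 = n9371 := d1_1 D10197 F29879 F27918
theorem F32844 : act 5 n10197 = n8650 := d15_2 (iv F27604) D10197 (iv D8650)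
theorem F32845 : act 7 n10197 = n8684 := d17_2 (iv F27605) D10197 F27712
def n10198 : Q := act 3 n8650
theorem D10198 : act 3 n8650 = n10198 := rfl
theorem F32846 : act 0 n10198 = n9372 := d2_1 D10198 (iv D9372) (iv F27606)
theorem F32847 : act 1 n10198 = n9023 := d8_1 D10198 (iv D9023) (iv F27607)
theorem F32848 : act 2 n10198 = n8808 := d13_1 D10198 (iv D8808) F22794 (iv F22340) D8650
theorem F32849 : act 6 n10198 = n8651 := d20_2 (iv F27608) D10198 (iv D8651)
theorem F32850 : act 7 n10198 = n9032 := d21_2 (iv F27609) D10198 (iv D9032) (iv D7441) (iv F22424)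
def n10199 : Q := act 4 n8651
theorem D10199 : act 4 n8651 = n10199 := rfl
theorem F32851 : act 2 n10199 = n8829 := d14_1 D10199 (iv D8829) (iv F27610)
def n10200 : Q := act 3 n8652
theorem D10200 : act 3 n8652 = n10200 := rfl
theorem F32852 : act 5 n10200 = n8653 := d19_2 (iv F27613) D10200 (iv D8653)
def n10201 : Q := act 6 n8652
theorem D10201 : act 6 n8652 = n10201 := rfl
theorem F32853 : act 2 n10201 = n10180 := d16_1 D10201 (iv D10180) (iv F27611)
theorem F32854 : act 4 n10201 = n8658 := d23_1 D10201 (iv D8658) (iv F27612)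
theorem F32855 : act 5 n10201 = n10201 := d25_1 D10201 (iv D10201) F27613 F22350 (iv F27613)
theorem F32856 : act 7 n10201 = n9727 := d27_2 D8652 D10201 (iv D9727) (iv D8134) (iv F22346)
def n10202 : Q := act 2 n8653
theorem D10202 : act 2 n8653 = n10202 := rfl
theorem F32857 : act 1 n10202 = n9495 := d7_1 D10202 F30258 (iv F27620) (iv D8654) (iv F27614)
theorem F32858 : act 3 n10202 = n10181 := d13_2 D8653 D10202 (iv D10181) (iv D8631) (iv F22348)
theorem F32859 : act 4 n10202 = n9490 := d14_2 F30821 D10202 (iv F30820)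
theorem F32860 : act 6 n10202 = n10202 := d16_2 F27615 D10202 (iv D10202)
def n10203 : Q := act 0 n8655
theorem D10203 : act 0 n8655 = n10203 := rfl
theorem F32861 : act 4 n10203 = n10176 := d3_2 (iv F27621) D10203 (iv D10176)
theorem F32862 : act 5 n10203 = n10203 := d4_2 F27622 D10203 (iv D10203)
theorem F32863 : act 6 n10203 = n10175 := d5_2 (iv F27623) D10203 (iv D10175)
def n10204 : Q := act 7 n8655
theorem D10204 : act 7 n8655 = n10204 := rfl
theorem F32864 : act 1 n10204 = n8656 := d12_1 D10204 (iv D8656) D8655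
theorem F32865 : act 4 n10204 = n10178 := d24_1 D10204 (iv D10178) (iv F27621)
theorem F32866 : act 5 n10204 = n10204 := d26_1 D10204 (iv D10204) F27622
def n10205 : Q := act 3 n8656
theorem D10205 : act 3 n8656 = n10205 := rfl
theorem F32867 : act 5 n10205 = n8657 := d19_2 (iv F27626) D10205 (iv D8657)
def n10206 : Q := act 6 n8656
theorem D10206 : act 6 n8656 = n10206 := rfl
theorem F32868 : act 2 n10206 = n8658 := d16_1 D10206 (iv D8658) (iv F27624)
theorem F32869 : act 4 n10206 = n10180 := d23_1 D10206 (iv D10180) (iv F27625)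
theorem F32870 : act 5 n10206 = n10206 := d25_1 D10206 (iv D10206) F27626 F22359 (iv F27626)
theorem F32871 : act 7 n10206 = n9615 := d27_2 D8656 D10206 (iv D9615) F25200 (iv F22355)
def n10207 : Q := act 4 n8657
theorem D10207 : act 4 n8657 = n10207 := rfl
theorem F32872 : act 1 n10207 = n10207 := d9_1 D10207 (iv D10207) F27627
theorem F32873 : act 2 n10207 = n9468 := d14_1 D10207 F30774 F30771
theorem F32874 : act 3 n10207 = n9818 := d18_1 D10207 F31423 (iv D8631) (iv F22358) D8657
theorem F32875 : act 6 n10207 = n10207 := d23_2 F27628 D10207 (iv D10207)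
theorem F32876 : act 7 n10207 = n9812 := d24_2 (iv F32677) D10207 (iv F32676)
def n10208 : Q := act 3 n8659
theorem D10208 : act 3 n8659 = n10208 := rfl
theorem F32877 : act 5 n10208 = n8755 := d19_2 (iv F27632) D10208 (iv D8755)
def n10209 : Q := act 6 n8659
theorem D10209 : act 6 n8659 = n10209 := rfl
theorem F32878 : act 0 n10209 = n9451 := d5_1 D10209 F30116 F28406
theorem F32879 : act 1 n10209 = n9063 := d11_1 D10209 (iv F31300) F31296
theorem F32880 : act 2 n10209 = n8675 := d16_1 D10209 (iv D8675) (iv F27630)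
theorem F32881 : act 4 n10209 = n8668 := d23_1 D10209 (iv D8668) (iv F27631)
theorem F32882 : act 7 n10209 = n8661 := d27_2 D8659 D10209 (iv D8661) (iv D7062) D7061
def n10210 : Q := act 6 n8660
theorem D10210 : act 6 n8660 = n10210 := rfl
theorem F32883 : act 0 n10210 = n9443 := d5_1 D10210 (iv D9443) (iv F27633)
theorem F32884 : act 1 n10210 = n9054 := d11_1 D10210 (iv D9054) (iv F27634)
theorem F32885 : act 2 n10210 = n9462 := d16_1 D10210 F30141 (iv F27635)
theorem F32886 : act 3 n10210 = n8661 := d20_1 D10210 (iv D8661) D8660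
theorem F32887 : act 4 n10210 = n9044 := d23_1 D10210 (iv D9044) (iv F27636)
def n10211 : Q := act 5 n8661
theorem D10211 : act 5 n8661 = n10211 := rfl
theorem F32888 : act 0 n10211 = n9450 := d4_1 D10211 (iv D9450) (iv F27638)
theorem F32889 : act 2 n10211 = n8677 := d15_1 D10211 (iv D8677) (iv F27640)
theorem F32890 : act 4 n10211 = n8669 := d22_1 D10211 (iv D8669) (iv F27641)
theorem F32891 : act 6 n10211 = n8665 := d25_2 D8661 D10211 (iv D8665) (iv D7064) (iv F22371)
def n10212 : Q := act 6 n8662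
theorem D10212 : act 6 n8662 = n10212 := rfl
theorem F32892 : act 1 n10212 = n10212 := d11_1 D10212 (iv D10212) F27642
theorem F32893 : act 2 n10212 = n8664 := d16_1 D10212 (iv D8664) D8662
theorem F32894 : act 3 n10212 = n8678 := d20_1 D10212 (iv D8678) (iv F27643)
theorem F32895 : act 4 n10212 = n9401 := d23_1 D10212 F29976 F27646
theorem F32896 : act 7 n10212 = n9722 := d27_2 (iv F27645) D10212 (iv F32454) F32455 F30995
def n10213 : Q := act 6 n8663
theorem D10213 : act 6 n8663 = n10213 := rfl
theorem F32897 : act 0 n10213 = n8965 := d5_1 D10213 (iv D8965) (iv F27647)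
theorem F32898 : act 1 n10213 = n8931 := d11_1 D10213 (iv D8931) (iv F27648)
theorem F32899 : act 2 n10213 = n9401 := d16_1 D10213 F29976 (iv F27649)
theorem F32900 : act 3 n10213 = n8670 := d20_1 D10213 (iv D8670) (iv F27650)
theorem F32901 : act 4 n10213 = n8664 := d23_1 D10213 (iv D8664) D8663
theorem F32902 : act 7 n10213 = n10067 := d27_2 (iv F27652) D10213 (iv F32462) F32463 (iv D8949)
def n10214 : Q := act 5 n8664
theorem D10214 : act 5 n8664 = n10214 := rfl
theorem F32903 : act 3 n10214 = n8665 := d19_1 D10214 (iv D8665) (iv F27654)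
def n10215 : Q := act 1 n8665
theorem D10215 : act 1 n8665 = n10215 := rfl
theorem F32904 : act 4 n10215 = n8673 := d9_2 (iv F27656) D10215 (iv D8673)
theorem F32905 : act 5 n10215 = n8934 := d10_2 D8665 D10215 (iv D8934) (iv D7320) (iv F22373)
theorem F32906 : act 7 n10215 = n8758 := d12_2 (iv F27657) D10215 (iv D8758)
def n10216 : Q := act 3 n8666
theorem D10216 : act 3 n8666 = n10216 := rfl
theorem F32907 : act 0 n10216 = n9099 := d2_1 D10216 F29035 (iv F27658)
theorem F32908 : act 1 n10216 = n8667 := d8_1 D10216 (iv D8667) (iv F27659)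
theorem F32909 : act 6 n10216 = n9066 := d20_2 (iv F27661) D10216 (iv D9066)
theorem F32910 : act 7 n10216 = n8755 := d21_2 D8666 D10216 (iv D8755) (iv D7163) (iv F22380)
theorem F32911 : act 2 n9204 = n10216 := d16_3 F32909 (iv F28924) D9204
def n10217 : Q := act 4 n8667
theorem D10217 : act 4 n8667 = n10217 := rfl
theorem F32912 : act 5 n10217 = n8764 := d22_2 (iv F27662) D10217 (iv D8764)
def n10218 : Q := act 6 n8667
theorem D10218 : act 6 n8667 = n10218 := rfl
theorem F32913 : act 0 n10218 = n9454 := d5_1 D10218 F30123 F28420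
theorem F32914 : act 1 n10218 = n9066 := d11_1 D10218 (iv F32909) F32908
theorem F32915 : act 2 n10218 = n9358 := d16_1 D10218 (iv F31950) F31948
theorem F32916 : act 3 n10218 = n8668 := d20_1 D10218 (iv D8668) D8667
theorem F32917 : act 7 n9050 = n10218 := d21_0 F32916 F27666 F22386 D7459 D9050
def n10219 : Q := act 5 n8668
theorem D10219 : act 5 n8668 = n10219 := rfl
theorem F32918 : act 0 n10219 = n9453 := d4_1 D10219 F30121 (iv F27663)
theorem F32919 : act 2 n10219 = n8682 := d15_1 D10219 (iv D8682) (iv F27665)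
theorem F32920 : act 6 n10219 = n8766 := d25_2 D8668 D10219 (iv D8766) (iv D7170) (iv F22382)
theorem F32921 : act 7 n10219 = n8669 := d26_2 (iv F27666) D10219 (iv D8669)
def n10220 : Q := act 1 n8669
theorem D10220 : act 1 n8669 = n10220 := rfl
theorem F32922 : act 3 n10220 = n9048 := d8_2 (iv F27669) D10220 (iv D9048)
theorem F32923 : act 5 n10220 = n9064 := d10_2 D8669 D10220 (iv D9064) (iv D7472) (iv F22384)
theorem F32924 : act 6 n10220 = n8673 := d11_2 (iv F27670) D10220 (iv D8673)
def n10221 : Q := act 5 n8670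
theorem D10221 : act 5 n8670 = n10221 := rfl
theorem F32925 : act 0 n10221 = n9387 := d4_1 D10221 (iv D9387) (iv F27671)
theorem F32926 : act 2 n10221 = n9027 := d15_1 D10221 (iv D9027) (iv F27673)
theorem F32927 : act 4 n10221 = n8671 := d22_1 D10221 (iv D8671) (iv F27674)
theorem F32928 : act 6 n10221 = n9045 := d25_2 D8670 D10221 (iv D9045) (iv D7455) (iv F22390)
def n10222 : Q := act 1 n8671
theorem D10222 : act 1 n8671 = n10222 := rfl
theorem F32929 : act 3 n10222 = n8673 := d8_2 (iv F27677) D10222 (iv D8673)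
theorem F32930 : act 5 n10222 = n8936 := d10_2 D8671 D10222 (iv D8936) (iv D7323) (iv F22392)
theorem F32931 : act 6 n10222 = n9048 := d11_2 (iv F27678) D10222 (iv D9048)
def n10223 : Q := act 7 n8671
theorem D10223 : act 7 n8671 = n10223 := rfl
theorem F32932 : act 0 n10223 = n9394 := d6_1 D10223 (iv D9394) (iv F27675)
theorem F32933 : act 2 n10223 = n9031 := d17_1 D10223 (iv D9031) (iv F27676)
theorem F32934 : act 3 n10223 = n8777 := d21_1 D10223 (iv D8777) F22746 (iv F22396) (iv F27677)
theorem F32935 : act 5 n10223 = n8672 := d26_1 D10223 (iv D8672) D8671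
def n10224 : Q := act 0 n8673
theorem D10224 : act 0 n8673 = n10224 := rfl
theorem F32936 : act 5 n10224 = n8937 := d4_2 (iv F27683) D10224 (iv D8937)
theorem F32937 : act 7 n10224 = n8778 := d6_2 (iv F27684) D10224 (iv D8778)
def n10225 : Q := act 2 n8674
theorem D10225 : act 2 n8674 = n10225 := rfl
theorem F32938 : act 5 n10225 = n8780 := d15_2 (iv F27686) D10225 (iv D8780)
theorem F32939 : act 7 n10225 = n10225 := d17_2 F27687 D10225 (iv D10225)
def n10226 : Q := act 6 n8674
theorem D10226 : act 6 n8674 = n10226 := rfl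
theorem F32940 : act 1 n10226 = n10226 := d11_1 D10226 (iv D10226) F27685
theorem F32941 : act 3 n10226 = n8675 := d20_1 D10226 (iv D8675) D8674
def n10227 : Q := act 5 n8675
theorem D10227 : act 5 n8675 = n10227 := rfl
theorem F32942 : act 4 n10227 = n8682 := d22_1 D10227 (iv D8682) (iv F27689)
theorem F32943 : act 6 n10227 = n8783 := d25_2 D8675 D10227 (iv D8783) (iv D7181) (iv F22399)
theorem F32944 : act 7 n10227 = n8677 := d26_2 (iv F27690) D10227 (iv D8677)
def n10228 : Q := act 5 n8676
theorem D10228 : act 5 n8676 = n10228 := rfl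
theorem F32945 : act 3 n10228 = n8677 := d19_1 D10228 (iv D8677) (iv F27692)
theorem F32946 : act 6 n10228 = n8680 := d25_2 D8676 D10228 (iv D8680) (iv D7076) (iv F22401)
def n10229 : Q := act 7 n8676
theorem D10229 : act 7 n8676 = n10229 := rfl
theorem F32947 : act 1 n10229 = n10229 := d12_1 D10229 (iv D10229) F27691
theorem F32948 : act 4 n10229 = n9966 := d24_1 D10229 F31944 F29430
theorem F32949 : act 6 n10229 = n10229 := d27_1 D10229 (iv D10229) (iv D8676) F22402 D8676
def n10230 : Q := act 5 n8678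
theorem D10230 : act 5 n8678 = n10230 := rfl
theorem F32950 : act 2 n10230 = n8680 := d15_1 D10230 (iv D8680) (iv F27696)
def n10231 : Q := act 5 n8679
theorem D10231 : act 5 n8679 = n10231 := rfl
theorem F32951 : act 3 n10231 = n8685 := d19_1 D10231 (iv D8685) (iv F27698)
theorem F32952 : act 4 n10231 = n8680 := d22_1 D10231 (iv D8680) (iv F27699)
def n10232 : Q := act 7 n8680
theorem D10232 : act 7 n8680 = n10232 := rfl
theorem F32953 : act 0 n10232 = n9614 := d6_1 D10232 F30668 F28450
theorem F32954 : act 3 n10232 = n8786 := d21_1 D10232 (iv D8786) F22757 (iv F22413) (iv F27700)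
theorem F32955 : act 5 n10232 = n8681 := d26_1 D10232 (iv D8681) D8680
def n10233 : Q := act 6 n8687
theorem D10233 : act 6 n8687 = n10233 := rfl
theorem F32956 : act 0 n10233 = n8690 := d5_1 D10233 (iv D8690) (iv F27719)
theorem F32957 : act 1 n10233 = n8718 := d11_1 D10233 (iv D8718) (iv F27720)
theorem F32958 : act 2 n10233 = n9879 := d16_1 D10233 (iv D9879) (iv F27721)
theorem F32959 : act 3 n10233 = n8688 := d20_1 D10233 (iv D8688) D8687
theorem F32960 : act 4 n10233 = n8695 := d23_1 D10233 (iv D8695) (iv F27722)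
theorem F32961 : act 7 n9655 = n10233 := d30_29 (iv D10233) F27723 F23487 (iv F23185) (iv D7334) (iv D5757) F13305 (iv F16307) (iv F21458) F21459 (iv F21359) F21361 (iv D6780) D6779 F25748 (iv D8108) (iv D6484) (iv D4918) (iv F11812) D5200 (iv F18888) F18889 F18890 (iv D4685) D4684 D6196 D7841 (iv F25434) D9655
def n10234 : Q := act 5 n8688
theorem D10234 : act 5 n8688 = n10234 := rfl
theorem F32962 : act 0 n10234 = n8691 := d4_1 D10234 (iv D8691) (iv F27725)
theorem F32963 : act 2 n10234 = n9016 := d15_1 D10234 (iv D9016) (iv F27727)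
theorem F32964 : act 4 n10234 = n8689 := d22_1 D10234 (iv D8689) (iv F27728)
theorem F32965 : act 6 n10234 = n9003 := d25_2 D8688 D10234 (iv D9003) (iv D7413) (iv F22442)
def n10235 : Q := act 5 n8690
theorem D10235 : act 5 n8690 = n10235 := rfl
theorem F32966 : act 1 n10235 = n10232 := d10_1 D10235 F32955 F27702 (iv F22465) (iv F27733)
theorem F32967 : act 2 n10235 = n9888 := d15_1 D10235 (iv D9888) (iv F27734)
theorem F32968 : act 3 n10235 = n8691 := d19_1 D10235 (iv D8691) (iv F27735)
theorem F32969 : act 4 n10235 = n8703 := d22_1 D10235 (iv D8703) (iv F27736)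
theorem F32970 : act 6 n10235 = n9886 := d25_2 D8690 D10235 (iv D9886) (iv D8289) (iv F22451)
theorem F32971 : act 7 n10235 = n9659 := d26_2 F27737 D10235 (iv D9659)
def n10236 : Q := act 6 n8693
theorem D10236 : act 6 n8693 = n10236 := rfl
theorem F32972 : act 0 n10236 = n8701 := d5_1 D10236 (iv D8701) (iv F27743)
theorem F32973 : act 1 n10236 = n9999 := d11_1 D10236 (iv D9999) (iv F27744)
theorem F32974 : act 2 n10236 = n8695 := d16_1 D10236 (iv D8695) D8693
theorem F32975 : act 3 n10236 = n9865 := d20_1 D10236 (iv D9865) (iv F27745)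
theorem F32976 : act 4 n10236 = n9879 := d23_1 D10236 (iv D9879) (iv F27746)
theorem F32977 : act 7 n10202 = n10236 := d24_0 F32976 (iv F31615) (iv F32859)
def n10237 : Q := act 6 n8694
theorem D10237 : act 6 n8694 = n10237 := rfl
theorem F32978 : act 0 n10237 = n8702 := d5_1 D10237 (iv D8702) (iv F27749)
theorem F32979 : act 1 n10237 = n8986 := d11_1 D10237 (iv D8986) (iv F27750)
theorem F32980 : act 2 n10237 = n9864 := d16_1 D10237 (iv D9864) (iv F27751)
theorem F32981 : act 3 n10237 = n8696 := d20_1 D10237 (iv D8696) (iv F27752)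
theorem F32982 : act 4 n10237 = n9002 := d23_1 D10237 (iv D9002) (iv F27753)
theorem F32983 : act 7 n9665 = n10237 := d17_0 F32980 (iv F31561) F31716
def n10238 : Q := act 5 n8695
theorem D10238 : act 5 n8695 = n10238 := rfl
theorem F32984 : act 0 n10238 = n8703 := d4_1 D10238 (iv D8703) (iv F27755)
theorem F32985 : act 3 n10238 = n8697 := d19_1 D10238 (iv D8697) (iv F27757)
theorem F32986 : act 7 n10238 = n10200 := d26_2 F27758 D10238 F32852
def n10239 : Q := act 5 n8696
theorem D10239 : act 5 n8696 = n10239 := rfl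
theorem F32987 : act 0 n10239 = n8705 := d4_1 D10239 (iv D8705) (iv F27759)
theorem F32988 : act 1 n10239 = n9884 := d10_1 D10239 F31628 F28679 (iv D8987) (iv F27760)
theorem F32989 : act 4 n10239 = n8698 := d22_1 D10239 (iv D8698) (iv F27761)
theorem F32990 : act 6 n10239 = n8697 := d25_2 D8696 D10239 (iv D8697) (iv D7096) D7095
theorem F32991 : act 7 n9883 = n10239 := d27_0 F32990 F27764 (iv F25816) F26326 (iv F31625)
def n10240 : Q := act 7 n8696
theorem D10240 : act 7 n8696 = n10240 := rfl
theorem F32992 : act 0 n10240 = n8706 := d6_1 D10240 (iv D8706) (iv F27759)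
theorem F32993 : act 1 n10240 = n8988 := d12_1 D10240 (iv D8988) (iv F27760)
theorem F32994 : act 4 n10240 = n8699 := d24_1 D10240 (iv D8699) (iv F27761)
theorem F32995 : act 5 n10240 = n9883 := d26_1 D10240 F32991 (iv D10239)
theorem F32996 : act 6 n10240 = n8939 := d27_1 D10240 (iv D8939) (iv D7327) (iv F22471) D8696
theorem F32997 : act 3 n10001 = n10240 := d20_3 F32996 (iv F28720) (iv F32091)
def n10241 : Q := act 1 n8697
theorem D10241 : act 1 n8697 = n10241 := rfl
theorem F32998 : act 0 n10241 = n9898 := d0_1 D10241 (iv F32803) F32802 (iv D8707) (iv F27762)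
theorem F32999 : act 4 n10241 = n8700 := d9_2 (iv F27763) D10241 (iv D8700)
theorem F33000 : act 5 n10241 = n8725 := d10_2 D8697 D10241 (iv D8725) (iv D7124) (iv F22474)
theorem F33001 : act 6 n10241 = n9884 := d11_2 F32990 D10241 (iv F32988)
theorem F33002 : act 7 n10241 = n8740 := d12_2 (iv F27764) D10241 F27929
def n10242 : Q := act 1 n8698
theorem D10242 : act 1 n8698 = n10242 := rfl
theorem F33003 : act 0 n10242 = n9892 := d0_1 D10242 (iv F32808) F32807 (iv D8708) (iv F27765)
theorem F33004 : act 3 n10242 = n9004 := d8_2 (iv F27766) D10242 (iv D9004)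
theorem F33005 : act 4 n10242 = n9884 := d9_2 F32989 D10242 (iv F32988)
theorem F33006 : act 5 n10242 = n8989 := d10_2 D8698 D10242 (iv D8989) (iv D7399) (iv F22478)
theorem F33007 : act 6 n10242 = n8700 := d11_2 (iv F27767) D10242 (iv D8700)
theorem F33008 : act 7 n9881 = n10242 := d27_0 F33007 F27772 (iv F24400) (iv F26314) (iv F31621)
def n10243 : Q := act 7 n8698
theorem D10243 : act 7 n8698 = n10243 := rfl
theorem F33009 : act 0 n10243 = n8709 := d6_1 D10243 (iv D8709) (iv F27765)
theorem F33010 : act 1 n10243 = n9881 := d12_1 D10243 F33008 (iv D10242)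
theorem F33011 : act 4 n10243 = n9883 := d24_1 D10243 F32991 F32989
theorem F33012 : act 5 n10243 = n8699 := d26_1 D10243 (iv D8699) D8698
theorem F33013 : act 6 n10243 = n9882 := d27_1 D10243 F31624 F26595 F23026 (iv F27767)
def n10244 : Q := act 5 n8701
theorem D10244 : act 5 n8701 = n10244 := rfl
theorem F33014 : act 2 n10244 = n8703 := d15_1 D10244 (iv D8703) (iv F27774)
theorem F33015 : act 3 n10244 = n9871 := d19_1 D10244 (iv D9871) (iv F27775)
theorem F33016 : act 4 n10244 = n9888 := d22_1 D10244 (iv D9888) (iv F27776)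
theorem F33017 : act 6 n10244 = n9870 := d25_2 D8701 D10244 (iv D9870) (iv D8271) F22485
def n10245 : Q := act 7 n8701
theorem D10245 : act 7 n8701 = n10245 := rfl
theorem F33018 : act 0 n10245 = n10202 := d6_1 D10245 F32977 F32972
theorem F33019 : act 1 n10245 = n10245 := d12_1 D10245 (iv D10245) F27773
theorem F33020 : act 2 n10245 = n8704 := d17_1 D10245 (iv D8704) (iv F27774)
theorem F33021 : act 4 n10245 = n9658 := d24_1 D10245 F30834 (iv F27776)
theorem F33022 : act 6 n10245 = n10245 := d27_1 D10245 (iv D10245) (iv D8701) F22484 D8701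
def n10246 : Q := act 5 n8702
theorem D10246 : act 5 n8702 = n10246 := rfl
theorem F33023 : act 2 n10246 = n9870 := d15_1 D10246 (iv D9870) (iv F27778)
theorem F33024 : act 3 n10246 = n8705 := d19_1 D10246 (iv D8705) (iv F27779)
theorem F33025 : act 4 n10246 = n9886 := d22_1 D10246 (iv D9886) (iv F27780)
theorem F33026 : act 6 n10246 = n8703 := d25_2 D8702 D10246 (iv D8703) (iv D7101) D7100
def n10247 : Q := act 1 n8703
theorem D10247 : act 1 n8703 = n10247 := rfl
theorem F33027 : act 3 n10247 = n8707 := d8_2 (iv F27781) D10247 (iv D8707)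
theorem F33028 : act 4 n10247 = n10232 := d9_2 F32969 D10247 (iv F32966)
theorem F33029 : act 5 n10247 = n8714 := d10_2 D8703 D10247 (iv D8714) (iv D7108) (iv F22491)
theorem F33030 : act 7 n10231 = n10247 := d26_0 F33029 F27811 D10231
def n10248 : Q := act 7 n8703
theorem D10248 : act 7 n8703 = n10248 := rfl
theorem F33031 : act 0 n10248 = n10200 := d6_1 D10248 (iv F32986) F32984
theorem F33032 : act 1 n10248 = n10231 := d12_1 D10248 F33030 (iv D10247)
theorem F33033 : act 3 n10248 = n9192 := d21_1 D10248 (iv D9192) F24037 (iv F22496) (iv F27781)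
theorem F33034 : act 4 n10248 = n9659 := d24_1 D10248 (iv F32971) F32969
theorem F33035 : act 5 n10248 = n8704 := d26_1 D10248 (iv D8704) D8703
def n10249 : Q := act 1 n8705
theorem D10249 : act 1 n8705 = n10249 := rfl
theorem F33036 : act 0 n10249 = n9896 := d0_1 D10249 F31663 (iv F31626) (iv F32988) F32987
theorem F33037 : act 2 n10249 = n10145 := d7_2 F31242 D10249 (iv D10145) (iv F32654) F32653
theorem F33038 : act 4 n10249 = n8708 := d9_2 (iv F27787) D10249 (iv D8708)
theorem F33039 : act 5 n10249 = n10249 := d10_2 D8705 D10249 (iv D10249) (iv D8705) F22493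
theorem F33040 : act 6 n10249 = n8707 := d11_2 (iv F27788) D10249 (iv D8707)
theorem F33041 : act 7 n9894 = n10249 := d27_0 F33040 F27794 (iv F29789) (iv F29790) (iv F31659)
def n10250 : Q := act 7 n8705
theorem D10250 : act 7 n8705 = n10250 := rfl
theorem F33042 : act 0 n10250 = n9883 := d6_1 D10250 F32991 F32987
theorem F33043 : act 1 n10250 = n9894 := d12_1 D10250 F33041 (iv D10249)
theorem F33044 : act 4 n10250 = n8709 := d24_1 D10250 (iv D8709) (iv F27787)
theorem F33045 : act 5 n10250 = n8706 := d26_1 D10250 (iv D8706) D8705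
theorem F33046 : act 6 n10250 = n9331 := d27_1 D10250 (iv D9331) F24432 (iv F22496) (iv F27788)
def n10251 : Q := act 3 n8706
theorem D10251 : act 3 n8706 = n10251 := rfl
theorem F33047 : act 0 n10251 = n10001 := d2_1 D10251 F32997 F32992
theorem F33048 : act 1 n10251 = n10251 := d8_1 D10251 (iv D10251) F27789
theorem F33049 : act 6 n10251 = n8942 := d20_2 (iv F27791) D10251 (iv D8942)
def n10252 : Q := act 2 n8707
theorem D10252 : act 2 n8707 = n10252 := rfl
theorem F33050 : act 1 n10252 = n10141 := d7_1 D10252 F32645 (iv D9762) F25969 D8707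
theorem F33051 : act 4 n10252 = n8711 := d14_2 (iv F27792) D10252 (iv D8711)
theorem F33052 : act 5 n10252 = n8715 := d15_2 (iv F27793) D10252 (iv D8715)
theorem F33053 : act 6 n10252 = n10145 := d16_2 F33040 D10252 (iv F33037)
theorem F33054 : act 7 n10252 = n9333 := d17_2 (iv F27794) D10252 (iv D9333)
theorem F33055 : act 3 n10142 = n10252 := d20_3 F33053 F32661 (iv F32651)
def n10253 : Q := act 2 n8708
theorem D10253 : act 2 n8708 = n10253 := rfl
theorem F33056 : act 1 n10253 = n9942 := d7_1 D10253 F31856 (iv D9763) F25972 D8708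
theorem F33057 : act 4 n10253 = n10145 := d14_2 F33038 D10253 (iv F33037)
theorem F33058 : act 5 n10253 = n10253 := d15_2 F27795 D10253 (iv D10253)
theorem F33059 : act 6 n10253 = n8711 := d16_2 (iv F27796) D10253 (iv D8711)
theorem F33060 : act 3 n9944 = n10253 := d28_2 (iv D9952) (iv F31864) (iv D10253) (iv D8708) (iv D7104) (iv D5526) (iv F17288) (iv F22470) (iv F27752) F27751 F26259 F21042 D8322 F26438 (iv F21081) F21080 F15876 F11624 D3804 F11742 (iv F10126) F10128 F8164 (iv F11212) (iv F14000) F14002 (iv F17811) (iv F20618) F20620 F15526 F11279 F9184 F6360 F4413 (iv D945) F2104 (iv F3041) D1410 (iv F6448) F6450 (iv F9285) D4227 F13086 F9287 (iv F12748) (iv F17293) D7098 (iv F27767) F27765 (iv F27787) (iv F33024) F33023 F31579 F31443 F26159 F26156 D9593 F30587 (iv F29501) F29500 (iv F28374) (iv F31888)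
def n10254 : Q := act 7 n8708
theorem D10254 : act 7 n8708 = n10254 := rfl
theorem F33061 : act 0 n10254 = n9891 := d6_1 D10254 (iv F32812) F32807
theorem F33062 : act 1 n10254 = n8709 := d12_1 D10254 (iv D8709) D8708
theorem F33063 : act 4 n10254 = n9894 := d24_1 D10254 F33041 F33038
theorem F33064 : act 5 n10254 = n10254 := d26_1 D10254 (iv D10254) F27795
theorem F33065 : act 6 n10254 = n9893 := d27_1 D10254 F31657 F29757 (iv D8712) (iv F27796)
def n10255 : Q := act 3 n8709
theorem D10255 : act 3 n8709 = n10255 := rfl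
theorem F33066 : act 5 n10255 = n8710 := d19_2 (iv F27797) D10255 (iv D8710)
def n10256 : Q := act 6 n8709
theorem D10256 : act 6 n8709 = n10256 := rfl
theorem F33067 : act 0 n10256 = n9882 := d5_1 D10256 (iv F33013) F33009
theorem F33068 : act 1 n10256 = n9893 := d11_1 D10256 (iv F33065) F33062
theorem F33069 : act 4 n10256 = n9331 := d23_1 D10256 (iv F33046) F33044
theorem F33070 : act 5 n10256 = n8944 := d25_1 D10256 (iv D8944) F23177 (iv F22499) (iv F27797)
theorem F33071 : act 7 n10256 = n8713 := d27_2 D8709 D10256 (iv D8713) (iv D7107) (iv F22497)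
def n10257 : Q := act 4 n8710
theorem D10257 : act 4 n8710 = n10257 := rfl
theorem F33072 : act 1 n10257 = n10257 := d9_1 D10257 (iv D10257) F27798
theorem F33073 : act 6 n10257 = n8946 := d23_2 (iv F27799) D10257 (iv D8946)
def n10258 : Q := act 7 n8711
theorem D10258 : act 7 n8711 = n10258 := rfl
theorem F33074 : act 2 n10258 = n8712 := d17_1 D10258 (iv D8712) D8711
theorem F33075 : act 4 n10258 = n9333 := d24_1 D10258 (iv F33054) F33051
theorem F33076 : act 5 n10258 = n8716 := d26_1 D10258 (iv D8716) (iv F27800)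
def n10259 : Q := act 2 n8714
theorem D10259 : act 2 n8714 = n10259 := rfl
theorem F33077 : act 1 n10259 = n10259 := d7_1 D10259 (iv D10259) (iv D8714) F22504 D8714
theorem F33078 : act 4 n10259 = n9972 := d14_2 (iv F27809) D10259 F31964
theorem F33079 : act 6 n10259 = n10259 := d16_2 F27810 D10259 (iv D10259)
theorem F33080 : act 7 n10259 = n9408 := d17_2 (iv F27811) D10259 F29994
def n10260 : Q := act 3 n8716
theorem D10260 : act 3 n8716 = n10260 := rfl
theorem F33081 : act 1 n10260 = n8717 := d8_1 D10260 (iv D8717) (iv F27816)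
def n10261 : Q := act 4 n8717
theorem D10261 : act 4 n8717 = n10261 := rfl
theorem F33082 : act 0 n10261 = n10194 := d3_1 D10261 (iv D10194) (iv F27819)
theorem F33083 : act 2 n10261 = n8881 := d14_1 D10261 (iv D8881) (iv F27820)
theorem F33084 : act 3 n10261 = n9338 := d18_1 D10261 (iv D9338) (iv D7722) (iv F22528) D8717
def n10262 : Q := act 5 n8720
theorem D10262 : act 5 n8720 = n10262 := rfl
theorem F33085 : act 0 n10262 = n8728 := d4_1 D10262 (iv D8728) (iv F27830)
theorem F33086 : act 1 n10262 = n9626 := d10_1 D10262 F30712 F25296 (iv F25379) (iv F27831)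
theorem F33087 : act 2 n10262 = n9434 := d15_1 D10262 F30060 (iv F27832)
theorem F33088 : act 3 n10262 = n8723 := d19_1 D10262 (iv D8723) (iv F27833)
theorem F33089 : act 4 n10262 = n9561 := d22_1 D10262 F30467 (iv F27834)
theorem F33090 : act 6 n10262 = n8721 := d25_2 D8720 D10262 (iv D8721) (iv D7121) D7120
theorem F33091 : act 7 n10262 = n8963 := d26_2 F27835 D10262 (iv F28603)
def n10263 : Q := act 1 n8721
theorem D10263 : act 1 n8721 = n10263 := rfl
theorem F33092 : act 0 n10263 = n10090 := d0_1 D10263 F32381 F30067 F24632 (iv F27836)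
theorem F33093 : act 3 n10263 = n8725 := d8_2 (iv F27837) D10263 (iv D8725)
theorem F33094 : act 6 n10263 = n9626 := d11_2 F33090 D10263 (iv F33086)
theorem F33095 : act 7 n10263 = n8744 := d12_2 (iv F27838) D10263 F27942
def n10264 : Q := act 2 n8729
theorem D10264 : act 2 n8729 = n10264 := rfl
theorem F33096 : act 0 n10264 = n9012 := d1_1 D10264 (iv D9012) (iv F27883)
theorem F33097 : act 4 n10264 = n10166 := d14_2 (iv F27885) D10264 (iv D10166)
theorem F33098 : act 5 n10264 = n9907 := d15_2 (iv F27886) D10264 F31700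
theorem F33099 : act 6 n10264 = n9334 := d16_2 (iv F27887) D10264 (iv D9334)
theorem F33100 : act 7 n10264 = n10264 := d17_2 F27888 D10264 (iv D10264)
def n10265 : Q := act 5 n8730
theorem D10265 : act 5 n8730 = n10265 := rfl
theorem F33101 : act 0 n10265 = n8741 := d4_1 D10265 (iv D8741) (iv F27889)
theorem F33102 : act 1 n10265 = n10223 := d10_1 D10265 F32935 F27680 (iv F23433) (iv F27890)
theorem F33103 : act 2 n10265 = n8731 := d15_1 D10265 (iv D8731) (iv F27891)
theorem F33104 : act 4 n10265 = n8735 := d22_1 D10265 (iv D8735) (iv F27892)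
theorem F33105 : act 6 n10265 = n9903 := d25_2 D8730 D10265 F31687 F26374 (iv F22624)
theorem F33106 : act 7 n10265 = n10222 := d26_2 F28494 D10265 F32930
def n10266 : Q := act 1 n8731
theorem D10266 : act 1 n8731 = n10266 := rfl
theorem F33107 : act 0 n10266 = n9191 := d0_1 D10266 (iv D9191) F24036 (iv F22679) (iv F27893)
theorem F33108 : act 3 n10266 = n9332 := d8_2 (iv F27894) D10266 F29794
theorem F33109 : act 4 n10266 = n8737 := d9_2 (iv F27895) D10266 (iv D8737)
theorem F33110 : act 5 n10266 = n8733 := d10_2 D8731 D10266 (iv D8733) (iv D7139) (iv F22627)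
theorem F33111 : act 6 n10266 = n9902 := d11_2 (iv F27896) D10266 F31679
theorem F33112 : act 7 n8908 = n10266 := d27_0 F33111 F31682 F29300 (iv F28876) F28875
def n10267 : Q := act 7 n8731
theorem D10267 : act 7 n8731 = n10267 := rfl
theorem F33113 : act 0 n10267 = n8743 := d6_1 D10267 (iv D8743) (iv F27893)
theorem F33114 : act 1 n10267 = n8908 := d12_1 D10267 F33112 (iv D10266)
theorem F33115 : act 2 n10267 = n10222 := d17_1 D10267 (iv F33106) F33103
theorem F33116 : act 4 n10267 = n8738 := d24_1 D10267 (iv D8738) (iv F27895)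
theorem F33117 : act 5 n10267 = n8732 := d26_1 D10267 (iv D8732) D8731
def n10268 : Q := act 3 n8732
theorem D10268 : act 3 n8732 = n10268 := rfl
theorem F33118 : act 0 n10268 = n8744 := d2_1 D10268 (iv D8744) (iv F27897)
theorem F33119 : act 1 n10268 = n8734 := d8_1 D10268 (iv D8734) (iv F27898)
theorem F33120 : act 2 n10268 = n9640 := d13_1 D10268 F30760 F25384 (iv F28492) F28491
theorem F33121 : act 4 n10268 = n8928 := d18_2 (iv F27899) D10268 F28462 F23133 (iv F22649)
theorem F33122 : act 6 n10268 = n8953 := d20_2 (iv F27900) D10268 (iv D8953)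
theorem F33123 : act 7 n10268 = n10090 := d21_2 D8732 D10268 F32382 F27136 (iv F22628)
def n10269 : Q := act 1 n8735
theorem D10269 : act 1 n8735 = n10269 := rfl
theorem F33124 : act 3 n10269 = n8982 := d8_2 (iv F27913) D10269 (iv D8982)
theorem F33125 : act 4 n10269 = n10223 := d9_2 F33104 D10269 (iv F33102)
theorem F33126 : act 5 n10269 = n8983 := d10_2 D8735 D10269 (iv D8983) (iv D7394) (iv F22643)
theorem F33127 : act 7 n10221 = n10269 := d26_0 F33126 F28664 D10221
def n10270 : Q := act 7 n8735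
theorem D10270 : act 7 n8735 = n10270 := rfl
theorem F33128 : act 0 n10270 = n8749 := d6_1 D10270 (iv D8749) (iv F27911)
theorem F33129 : act 1 n10270 = n10221 := d12_1 D10270 F33127 (iv D10269)
theorem F33130 : act 2 n10270 = n8738 := d17_1 D10270 (iv D8738) (iv F27912)
theorem F33131 : act 4 n10270 = n10222 := d24_1 D10270 (iv F33106) F33104
theorem F33132 : act 5 n10270 = n8736 := d26_1 D10270 (iv D8736) D8735
def n10271 : Q := act 4 n8739
theorem D10271 : act 4 n8739 = n10271 := rfl
theorem F33133 : act 0 n10271 = n10199 := d3_1 D10271 (iv D10199) (iv F27926)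
theorem F33134 : act 2 n10271 = n10165 := d14_1 D10271 (iv D10165) (iv F27927)
def n10272 : Q := act 7 n8741
theorem D10272 : act 7 n8741 = n10272 := rfl
theorem F33135 : act 0 n10272 = n10222 := d6_1 D10272 (iv F33106) F33101
theorem F33136 : act 2 n10272 = n8743 := d17_1 D10272 (iv D8743) (iv F27933)
theorem F33137 : act 4 n10272 = n8749 := d24_1 D10272 (iv D8749) (iv F27934)
theorem F33138 : act 5 n10272 = n8742 := d26_1 D10272 (iv D8742) D8741
theorem F33139 : act 3 n10224 = n10272 := d19_3 F33138 (iv F28497) (iv F32936)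
def n10273 : Q := act 3 n8743
theorem D10273 : act 3 n8743 = n10273 := rfl
theorem F33140 : act 1 n10273 = n10200 := d8_1 D10273 (iv D10200) (iv F27939)
theorem F33141 : act 5 n10273 = n8744 := d19_2 (iv F27941) D10273 (iv D8744)
def n10274 : Q := act 6 n8743
theorem D10274 : act 6 n8743 = n10274 := rfl
theorem F33142 : act 1 n10274 = n10201 := d11_1 D10274 (iv D10201) (iv F27939)
theorem F33143 : act 4 n10274 = n8752 := d23_1 D10274 (iv D8752) (iv F27940)
theorem F33144 : act 5 n10274 = n8970 := d25_1 D10274 (iv D8970) F23363 (iv F22683) (iv F27941)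
def n10275 : Q := act 2 n8744
theorem D10275 : act 2 n8744 = n10275 := rfl
theorem F33145 : act 0 n10275 = n9640 := d1_1 D10275 (iv F33120) F33118
theorem F33146 : act 1 n10275 = n9679 := d7_1 D10275 F30923 F30706 (iv D8745) (iv F27942)
theorem F33147 : act 3 n10275 = n9646 := d13_2 D8744 D10275 F30781 F28497 F27936
theorem F33148 : act 6 n10275 = n8971 := d16_2 (iv F27943) D10275 (iv D8971)
def n10276 : Q := act 4 n8744
theorem D10276 : act 4 n8744 = n10276 := rfl
theorem F33149 : act 0 n10276 = n8928 := d3_1 D10276 (iv F33121) F33118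
theorem F33150 : act 1 n10276 = n8746 := d9_1 D10276 (iv D8746) (iv F27942)
theorem F33151 : act 3 n10276 = n8754 := d18_1 D10276 (iv D8754) (iv D7159) (iv F22682) D8744
theorem F33152 : act 6 n10276 = n8972 := d23_2 (iv F27943) D10276 (iv D8972)
def n10277 : Q := act 1 n8747
theorem D10277 : act 1 n8747 = n10277 := rfl
theorem F33153 : act 3 n10277 = n8748 := d8_2 (iv F27954) D10277 (iv D8748)
theorem F33154 : act 4 n10277 = n9968 := d9_2 (iv F27955) D10277 (iv D9968)
theorem F33155 : act 5 n10277 = n10277 := d10_2 D8747 D10277 (iv D10277) (iv D8747) F22688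
def n10278 : Q := act 0 n8748
theorem D10278 : act 0 n8748 = n10278 := rfl
theorem F33156 : act 2 n10278 = n10203 := d1_2 (iv F27956) D10278 (iv D10203)
theorem F33157 : act 5 n10278 = n10278 := d4_2 F27957 D10278 (iv D10278)
def n10279 : Q := act 7 n8748
theorem D10279 : act 7 n8748 = n10279 := rfl
theorem F33158 : act 1 n10279 = n8749 := d12_1 D10279 (iv D8749) D8748
theorem F33159 : act 2 n10279 = n10204 := d17_1 D10279 (iv D10204) (iv F27956)
theorem F33160 : act 5 n10279 = n10279 := d26_1 D10279 (iv D10279) F27957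
def n10280 : Q := act 3 n8749
theorem D10280 : act 3 n8749 = n10280 := rfl
theorem F33161 : act 5 n10280 = n8750 := d19_2 (iv F27959) D10280 (iv D8750)
def n10281 : Q := act 6 n8749
theorem D10281 : act 6 n8749 = n10281 := rfl
theorem F33162 : act 2 n10281 = n8752 := d16_1 D10281 (iv D8752) (iv F27958)
theorem F33163 : act 5 n10281 = n8977 := d25_1 D10281 (iv D8977) F23379 (iv F22695) (iv F27959)
def n10282 : Q := act 2 n8750
theorem D10282 : act 2 n8750 = n10282 := rfl
theorem F33164 : act 0 n10282 = n8930 := d1_1 D10282 (iv F31346) F31344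
theorem F33165 : act 3 n10282 = n8753 := d13_2 D8750 D10282 (iv D8753) (iv D7159) (iv F22694)
theorem F33166 : act 6 n10282 = n8978 := d16_2 (iv F27961) D10282 (iv D8978)
theorem F33167 : act 1 n10282 = n9270 := d28_4 (iv F28495) F27937 D8750 D10282 (iv D9270) (iv D7660) F18986 F18988 (iv D5885) (iv D4416) (iv D3169) (iv D2189) (iv D1482) (iv D991) D992 (iv F3185) F2510 F1744 F970 (iv D304) F550 F551 (iv F871) (iv D271) (iv F866) (iv F1370) D661 (iv F3150) F3152 (iv D721) F1610 F859 (iv F1362) D654 F2157 F1372 F1407 F516 F288 F166 F91 F89 (iv F160) D78 D148 D274 D497 D743 (iv F3507) (iv F5055) F5054 (iv F6801) (iv F9797) D4425 (iv F16879) (iv F21924) F21927 F16806 (iv F21940) D8541 (iv F28543) F28544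
def n10283 : Q := act 2 n8751
theorem D10283 : act 2 n8751 = n10283 := rfl
theorem F33168 : act 0 n10283 = n8927 := d1_1 D10283 (iv D8927) (iv F27962)
theorem F33169 : act 1 n10283 = n8920 := d7_1 D10283 (iv F30110) (iv F30807) F30808 (iv F27963)
theorem F33170 : act 5 n10283 = n8753 := d15_2 (iv F27964) D10283 (iv D8753)
theorem F33171 : act 7 n10283 = n9618 := d17_2 (iv F27965) D10283 F30680
theorem F33172 : act 4 n8926 = n10283 := d22_3 F33170 (iv F27972) (iv F28458)
theorem F33173 : act 6 n8924 = n10283 := d25_0 F33170 F27970 (iv F23400) (iv F23134) (iv F28453)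
def n10284 : Q := act 4 n8751
theorem D10284 : act 4 n8751 = n10284 := rfl
theorem F33174 : act 0 n10284 = n8924 := d3_1 D10284 F28452 (iv F27962)
theorem F33175 : act 1 n10284 = n9656 := d9_1 D10284 F30825 (iv F27963)
theorem F33176 : act 2 n10284 = n8926 := d14_1 D10284 F33172 (iv D10283)
theorem F33177 : act 5 n10284 = n8754 := d22_2 (iv F27964) D10284 (iv D8754)
theorem F33178 : act 7 n10284 = n9619 := d24_2 (iv F27965) D10284 F30683
theorem F33179 : act 6 n8927 = n10284 := d25_0 F33177 F27976 (iv F23401) (iv F23137) (iv F28460)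
def n10285 : Q := act 6 n8751
theorem D10285 : act 6 n8751 = n10285 := rfl
theorem F33180 : act 0 n10285 = n8926 := d5_1 D10285 F28459 (iv F27962)
theorem F33181 : act 1 n10285 = n9657 := d11_1 D10285 (iv D9657) (iv F27963)
theorem F33182 : act 2 n10285 = n8924 := d16_1 D10285 F33173 (iv D10283)
theorem F33183 : act 3 n10285 = n8752 := d20_1 D10285 (iv D8752) D8751
theorem F33184 : act 4 n10285 = n8927 := d23_1 D10285 F33179 (iv D10284)
theorem F33185 : act 5 n10285 = n8929 := d25_1 D10285 F28467 F23383 (iv F22700) (iv F27964)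
theorem F33186 : act 7 n10153 = n10285 := d26_0 F33185 F28468 (iv F32687)
def n10286 : Q := act 2 n8755
theorem D10286 : act 2 n8755 = n10286 := rfl
theorem F33187 : act 1 n10286 = n9021 := d7_1 D10286 (iv F30230) F30229 (iv F31143) F31142
theorem F33188 : act 3 n10286 = n8780 := d13_2 D8755 D10286 (iv D8780) (iv D7180) (iv F22714)
theorem F33189 : act 7 n10286 = n9204 := d17_2 F32910 D10286 F32911
theorem F33190 : act 6 n8842 = n10286 := d27_5 F33189 (iv D9204) (iv D7601) (iv F22888) D8842
def n10287 : Q := act 4 n8755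
theorem D10287 : act 4 n8755 = n10287 := rfl
theorem F33191 : act 3 n10287 = n8764 := d18_1 D10287 (iv D8764) (iv D7169) (iv F22715) D8755
def n10288 : Q := act 6 n8755
theorem D10288 : act 6 n8755 = n10288 := rfl
theorem F33192 : act 0 n10288 = n8898 := d5_1 D10288 (iv F32614) F32612
theorem F33193 : act 2 n10288 = n8842 := d16_1 D10288 F33190 (iv D10286)
theorem F33194 : act 3 n10288 = n8756 := d20_1 D10288 (iv D8756) D8755
theorem F33195 : act 7 n10288 = n8839 := d27_2 F32910 D10288 F28204 (iv F28923) (iv F32909)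
def n10289 : Q := act 5 n8756
theorem D10289 : act 5 n8756 = n10289 := rfl
theorem F33196 : act 0 n10289 = n8897 := d4_1 D10289 F28371 (iv F27978)
theorem F33197 : act 2 n10289 = n8783 := d15_1 D10289 (iv D8783) (iv F27979)
theorem F33198 : act 4 n10289 = n8766 := d22_1 D10289 (iv D8766) (iv F27980)
theorem F33199 : act 7 n10289 = n8757 := d26_2 (iv F27981) D10289 (iv D8757)
def n10290 : Q := act 1 n8757
theorem D10290 : act 1 n8757 = n10290 := rfl
theorem F33200 : act 3 n10290 = n8884 := d8_2 (iv F27984) D10290 (iv D8884)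
theorem F33201 : act 4 n10290 = n8770 := d9_2 (iv F27985) D10290 (iv D8770)
theorem F33202 : act 6 n10290 = n8758 := d11_2 (iv F27986) D10290 (iv D8758)
def n10291 : Q := act 0 n8758
theorem D10291 : act 0 n8758 = n10291 := rfl
theorem F33203 : act 4 n10291 = n8778 := d3_2 (iv F27987) D10291 (iv D8778)
theorem F33204 : act 5 n10291 = n8980 := d4_2 (iv F27988) D10291 (iv D8980)
def n10292 : Q := act 2 n8758
theorem D10292 : act 2 n8758 = n10292 := rfl
theorem F33205 : act 1 n10292 = n8788 := d7_1 D10292 (iv D8788) (iv D7185) (iv F22720) D8758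
theorem F33206 : act 4 n10292 = n8779 := d14_2 (iv F27987) D10292 (iv D8779)
theorem F33207 : act 5 n10292 = n8981 := d15_2 (iv F27988) D10292 (iv D8981)
def n10293 : Q := act 3 n8759
theorem D10293 : act 3 n8759 = n10293 := rfl
theorem F33208 : act 0 n10293 = n8760 := d2_1 D10293 (iv D8760) (iv F27989)
def n10294 : Q := act 2 n8760
theorem D10294 : act 2 n8760 = n10294 := rfl
theorem F33209 : act 3 n10294 = n9123 := d13_2 D8760 D10294 (iv D9123) (iv D7528) (iv F22726)
def n10295 : Q := act 4 n8760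
theorem D10295 : act 4 n8760 = n10295 := rfl
theorem F33210 : act 1 n10295 = n8764 := d9_1 D10295 (iv D8764) (iv F27992)
def n10296 : Q := act 6 n8760
theorem D10296 : act 6 n8760 = n10296 := rfl
theorem F33211 : act 1 n10296 = n8765 := d11_1 D10296 (iv D8765) (iv F27992)
theorem F33212 : act 3 n10296 = n8761 := d20_1 D10296 (iv D8761) D8760
def n10297 : Q := act 5 n8761
theorem D10297 : act 5 n8761 = n10297 := rfl
theorem F33213 : act 2 n10297 = n9125 := d15_1 D10297 (iv D9125) (iv F27994)
theorem F33214 : act 7 n10297 = n8762 := d26_2 (iv F27995) D10297 (iv D8762)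
def n10298 : Q := act 1 n8762
theorem D10298 : act 1 n8762 = n10298 := rfl
theorem F33215 : act 5 n10298 = n8770 := d10_2 D8762 D10298 (iv D8770) (iv D7173) (iv F22727)
theorem F33216 : act 6 n10298 = n8982 := d11_2 (iv F27997) D10298 (iv D8982)
def n10299 : Q := act 1 n8763
theorem D10299 : act 1 n8763 = n10299 := rfl
theorem F33217 : act 3 n10299 = n8789 := d8_2 (iv F27999) D10299 (iv D8789)
theorem F33218 : act 7 n10299 = n10137 := d12_2 (iv F28000) D10299 F32631
def n10300 : Q := act 4 n8763
theorem D10300 : act 4 n8763 = n10300 := rfl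
theorem F33219 : act 0 n10300 = n9796 := d3_1 D10300 (iv D9796) (iv F27998)
theorem F33220 : act 2 n10300 = n8764 := d14_1 D10300 (iv D8764) D8763
theorem F33221 : act 7 n10300 = n10138 := d24_2 (iv F28000) D10300 (iv D10138)
def n10301 : Q := act 6 n8763
theorem D10301 : act 6 n8763 = n10301 := rfl
theorem F33222 : act 0 n10301 = n9797 := d5_1 D10301 (iv D9797) (iv F27998)
theorem F33223 : act 2 n10301 = n8765 := d16_1 D10301 (iv D8765) D8763
theorem F33224 : act 3 n10301 = n8791 := d20_1 D10301 (iv D8791) (iv F27999)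
def n10302 : Q := act 6 n8764
theorem D10302 : act 6 n8764 = n10302 := rfl
theorem F33225 : act 4 n10302 = n8765 := d23_1 D10302 (iv D8765) D8764
def n10303 : Q := act 5 n8765
theorem D10303 : act 5 n8765 = n10303 := rfl
theorem F33226 : act 3 n10303 = n8766 := d19_1 D10303 (iv D8766) (iv F28001)
def n10304 : Q := act 7 n8765
theorem D10304 : act 7 n8765 = n10304 := rfl
theorem F33227 : act 3 n10304 = n8769 := d21_1 D10304 (iv D8769) F22736 (iv F22730) (iv F28001)
def n10305 : Q := act 1 n8766
theorem D10305 : act 1 n8766 = n10305 := rfl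
theorem F33228 : act 7 n10305 = n8770 := d12_2 (iv F28003) D10305 (iv D8770)
def n10306 : Q := act 5 n8767
theorem D10306 : act 5 n8767 = n10306 := rfl
theorem F33229 : act 0 n10306 = n8888 := d4_1 D10306 (iv D8888) (iv F28004)
theorem F33230 : act 2 n10306 = n9766 := d15_1 D10306 F31256 (iv F28006)
theorem F33231 : act 3 n10306 = n8883 := d19_1 D10306 (iv D8883) (iv F28007)
theorem F33232 : act 4 n10306 = n8768 := d22_1 D10306 (iv D8768) (iv F28008)
theorem F33233 : act 6 n10306 = n8774 := d25_2 D8767 D10306 (iv D8774) (iv D7176) (iv F22735)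
def n10307 : Q := act 7 n8767
theorem D10307 : act 7 n8767 = n10307 := rfl
theorem F33234 : act 0 n10307 = n8889 := d6_1 D10307 (iv D8889) (iv F28004)
theorem F33235 : act 1 n10307 = n9877 := d12_1 D10307 F31604 (iv F28005)
theorem F33236 : act 2 n10307 = n9753 := d17_1 D10307 F31220 (iv F28006)
theorem F33237 : act 4 n10307 = n8769 := d24_1 D10307 (iv D8769) (iv F28008)
def n10308 : Q := act 1 n8768
theorem D10308 : act 1 n8768 = n10308 := rfl
theorem F33238 : act 3 n10308 = n8770 := d8_2 (iv F28009) D10308 (iv D8770)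
theorem F33239 : act 6 n10308 = n8776 := d11_2 (iv F28010) D10308 (iv D8776)
def n10309 : Q := act 7 n8768
theorem D10309 : act 7 n8768 = n10309 := rfl
theorem F33240 : act 5 n10309 = n8769 := d26_1 D10309 (iv D8769) D8768
def n10310 : Q := act 0 n8770
theorem D10310 : act 0 n8770 = n10310 := rfl
theorem F33241 : act 6 n10310 = n8778 := d5_2 (iv F28011) D10310 (iv D8778)
def n10311 : Q := act 2 n8770
theorem D10311 : act 2 n8770 = n10311 := rfl
theorem F33242 : act 1 n10311 = n8801 := d7_1 D10311 (iv D8801) (iv D7194) (iv F22737) D8770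
theorem F33243 : act 6 n10311 = n8779 := d16_2 (iv F28011) D10311 (iv D8779)
def n10312 : Q := act 5 n8771
theorem D10312 : act 5 n8771 = n10312 := rfl
theorem F33244 : act 0 n10312 = n9763 := d4_1 D10312 (iv F31848) F31843
theorem F33245 : act 2 n10312 = n8774 := d15_1 D10312 (iv D8774) (iv F28012)
theorem F33246 : act 3 n10312 = n9768 := d19_1 D10312 F31262 (iv F28013)
theorem F33247 : act 4 n10312 = n8772 := d22_1 D10312 (iv D8772) (iv F28014)
theorem F33248 : act 6 n10312 = n9766 := d25_2 D8771 D10312 F31256 F25982 (iv F22741)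
def n10313 : Q := act 7 n8771
theorem D10313 : act 7 n8771 = n10313 := rfl
theorem F33249 : act 2 n10313 = n8775 := d17_1 D10313 (iv D8775) (iv F28012)
theorem F33250 : act 4 n10313 = n8773 := d24_1 D10313 (iv D8773) (iv F28014)
def n10314 : Q := act 1 n8772
theorem D10314 : act 1 n8772 = n10314 := rfl
theorem F33251 : act 3 n10314 = n8806 := d8_2 (iv F28016) D10314 (iv D8806)
def n10315 : Q := act 7 n8772
theorem D10315 : act 7 n8772 = n10315 := rfl
theorem F33252 : act 2 n10315 = n8777 := d17_1 D10315 (iv D8777) (iv F28015)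
theorem F33253 : act 5 n10315 = n8773 := d26_1 D10315 (iv D8773) D8772
def n10316 : Q := act 3 n8773
theorem D10316 : act 3 n8773 = n10316 := rfl
theorem F33254 : act 0 n10316 = n9399 := d2_1 D10316 F32660 F32658
theorem F33255 : act 2 n10316 = n9032 := d13_1 D10316 (iv D9032) (iv F27681) F27682 (iv F28017)
theorem F33256 : act 7 n10316 = n8808 := d21_2 D8773 D10316 (iv D8808) (iv D7198) (iv F22743)
def n10317 : Q := act 1 n8774
theorem D10317 : act 1 n8774 = n10317 := rfl
theorem F33257 : act 3 n10317 = n9808 := d8_2 F31783 D10317 (iv F31781)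
theorem F33258 : act 4 n10317 = n8776 := d9_2 (iv F28018) D10317 (iv D8776)
theorem F33259 : act 5 n10317 = n8991 := d10_2 D8774 D10317 (iv D8991) (iv D7401) (iv F22744)
theorem F33260 : act 7 n9737 = n10317 := d26_0 F33259 F28703 D9737
def n10318 : Q := act 7 n8774
theorem D10318 : act 7 n8774 = n10318 := rfl
theorem F33261 : act 1 n10318 = n9737 := d12_1 D10318 F33260 (iv D10317)
theorem F33262 : act 3 n10318 = n9738 := d21_1 D10318 F31162 (iv F31393) (iv F31786) F31783
theorem F33263 : act 4 n10318 = n8777 := d24_1 D10318 (iv D8777) (iv F28018)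
theorem F33264 : act 5 n10318 = n8775 := d26_1 D10318 (iv D8775) D8774
def n10319 : Q := act 0 n8776
theorem D10319 : act 0 n8776 = n10319 := rfl
theorem F33265 : act 3 n10319 = n8778 := d2_2 (iv F28022) D10319 (iv D8778)
theorem F33266 : act 5 n10319 = n8992 := d4_2 (iv F28023) D10319 (iv D8992)
theorem F33267 : act 2 n8867 = n10319 := d15_3 F33266 F28707 (iv F28292)
theorem F33268 : act 7 n8866 = n10319 := d26_0 F33266 (iv F28706) (iv F28289)
def n10320 : Q := act 2 n8776
theorem D10320 : act 2 n8776 = n10320 := rfl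
theorem F33269 : act 0 n10320 = n8867 := d1_1 D10320 F33267 (iv D10319)
theorem F33270 : act 5 n10320 = n8993 := d15_2 (iv F28023) D10320 (iv D8993)
theorem F33271 : act 7 n8865 = n10320 := d26_0 F33270 (iv F28711) (iv F28286)
def n10321 : Q := act 7 n8776
theorem D10321 : act 7 n8776 = n10321 := rfl
theorem F33272 : act 0 n10321 = n8866 := d6_1 D10321 F33268 (iv D10319)
theorem F33273 : act 1 n10321 = n8777 := d12_1 D10321 (iv D8777) D8776
theorem F33274 : act 2 n10321 = n8865 := d17_1 D10321 F33271 (iv D10320)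
theorem F33275 : act 3 n10321 = n10265 := d21_1 D10321 F33106 F32929 F27684 (iv F28022)
theorem F33276 : act 4 n10321 = n9737 := d24_1 D10321 F33260 F33258
theorem F33277 : act 5 n10321 = n8994 := d26_1 D10321 (iv D8994) (iv F28023)
theorem F33278 : act 6 n8872 = n10321 := d25_0 F33277 F28717 F23589 (iv F22964) (iv F28301)
def n10322 : Q := act 6 n8777
theorem D10322 : act 6 n8777 = n10322 := rfl
theorem F33279 : act 1 n10322 = n8872 := d11_1 D10322 F33278 F33273
def n10323 : Q := act 2 n8778
theorem D10323 : act 2 n8778 = n10323 := rfl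
theorem F33280 : act 0 n10323 = n8779 := d1_1 D10323 (iv D8779) D8778
theorem F33281 : act 5 n10323 = n8995 := d15_2 (iv F28025) D10323 (iv D8995)
def n10324 : Q := act 3 n8779
theorem D10324 : act 3 n8779 = n10324 := rfl
theorem F33282 : act 1 n10324 = n8813 := d8_1 D10324 (iv D8813) (iv F28026)
theorem F33283 : act 5 n10324 = n8996 := d19_2 (iv F28027) D10324 (iv D8996)
def n10325 : Q := act 4 n8780
theorem D10325 : act 4 n8780 = n10325 := rfl
theorem F33284 : act 0 n10325 = n9811 := d3_1 D10325 (iv F32671) F32670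
theorem F33285 : act 1 n10325 = n9677 := d9_1 D10325 F30913 F30756
theorem F33286 : act 2 n10325 = n8781 := d14_1 D10325 (iv D8781) D8780
theorem F33287 : act 7 n10325 = n10325 := d24_2 F28028 D10325 (iv D10325)
def n10326 : Q := act 6 n8781
theorem D10326 : act 6 n8781 = n10326 := rfl
theorem F33288 : act 0 n10326 = n9812 := d5_1 D10326 (iv D9812) (iv F28029)
theorem F33289 : act 1 n10326 = n9152 := d11_1 D10326 (iv D9152) (iv F28030)
theorem F33290 : act 3 n10326 = n8792 := d20_1 D10326 (iv D8792) (iv F28031)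
theorem F33291 : act 4 n10326 = n8782 := d23_1 D10326 (iv D8782) D8781
def n10327 : Q := act 5 n8782
theorem D10327 : act 5 n8782 = n10327 := rfl
theorem F33292 : act 3 n10327 = n8783 := d19_1 D10327 (iv D8783) (iv F28034)
def n10328 : Q := act 1 n8783
theorem D10328 : act 1 n8783 = n10328 := rfl
theorem F33293 : act 4 n10328 = n8794 := d9_2 (iv F28035) D10328 (iv D8794)
theorem F33294 : act 5 n10328 = n9154 := d10_2 D8783 D10328 (iv D9154) (iv D7551) (iv F22751)
theorem F33295 : act 7 n10328 = n8784 := d12_2 (iv F28036) D10328 (iv D8784)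
def n10329 : Q := act 0 n8784
theorem D10329 : act 0 n8784 = n10329 := rfl
theorem F33296 : act 4 n10329 = n8800 := d3_2 (iv F28037) D10329 (iv D8800)
theorem F33297 : act 5 n10329 = n9113 := d4_2 (iv F28038) D10329 F29068
theorem F33298 : act 6 n10329 = n8787 := d5_2 (iv F28039) D10329 (iv D8787)
def n10330 : Q := act 2 n8784
theorem D10330 : act 2 n8784 = n10330 := rfl
theorem F33299 : act 4 n10330 = n8801 := d14_2 (iv F28037) D10330 (iv D8801)
theorem F33300 : act 5 n10330 = n9156 := d15_2 (iv F28038) D10330 (iv D9156)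
theorem F33301 : act 6 n10330 = n8788 := d16_2 (iv F28039) D10330 (iv D8788)
def n10331 : Q := act 0 n8785
theorem D10331 : act 0 n8785 = n10331 := rfl
theorem F33302 : act 1 n10331 = n10175 := d0_2 D8785 D10331 (iv D10175) (iv D8628) (iv F22756)
theorem F33303 : act 3 n10331 = n8787 := d2_2 (iv F28040) D10331 (iv D8787)
theorem F33304 : act 4 n10331 = n8894 := d3_2 (iv F28041) D10331 F28362
theorem F33305 : act 5 n10331 = n8831 := d4_2 (iv F28042) D10331 (iv D8831)
theorem F33306 : act 7 n10331 = n10234 := d6_2 F28043 D10331 F32962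
def n10332 : Q := act 2 n8785
theorem D10332 : act 2 n8785 = n10332 := rfl
theorem F33307 : act 4 n10332 = n10173 := d14_2 (iv F28041) D10332 (iv D10173)
theorem F33308 : act 5 n10332 = n8832 := d15_2 (iv F28042) D10332 (iv D8832)
theorem F33309 : act 7 n10332 = n8862 := d17_2 F28043 D10332 F28275
def n10333 : Q := act 6 n8786
theorem D10333 : act 6 n8786 = n10333 := rfl
theorem F33310 : act 0 n10333 = n9615 := d5_1 D10333 (iv D9615) (iv F28044)
theorem F33311 : act 1 n10333 = n8861 := d11_1 D10333 F28274 (iv F28045)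
theorem F33312 : act 4 n10333 = n10174 := d23_1 D10333 (iv D10174) (iv F28046)
theorem F33313 : act 5 n10333 = n10333 := d25_1 D10333 (iv D10333) F28047 F22762 (iv F28047)
def n10334 : Q := act 2 n8787
theorem D10334 : act 2 n8787 = n10334 := rfl
theorem F33314 : act 0 n10334 = n8788 := d1_1 D10334 (iv D8788) D8787
theorem F33315 : act 4 n10334 = n8812 := d14_2 (iv F28048) D10334 (iv D8812)
theorem F33316 : act 5 n10334 = n8833 := d15_2 (iv F28049) D10334 (iv D8833)
theorem F33317 : act 7 n10334 = n9452 := d17_2 F30826 D10334 (iv F30824)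
theorem F33318 : act 1 n9453 = n10334 := d30_2 (iv F24705) (iv F30121) (iv D10334) (iv F33303) F33306 F32965 (iv D9003) F23491 F18248 (iv F18038) F18040 (iv D5758) (iv F16293) F16291 (iv F16314) F16315 F15576 (iv F12026) D4877 D6442 F20163 F17642 (iv D4921) (iv F12903) (iv F16172) F16170 (iv F21313) F21314 D7303
def n10335 : Q := act 3 n8788
theorem D10335 : act 3 n8788 = n10335 := rfl
theorem F33319 : act 5 n10335 = n8834 := d19_2 (iv F28051) D10335 (iv D8834)
def n10336 : Q := act 0 n8789
theorem D10336 : act 0 n8789 = n10336 := rfl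
theorem F33320 : act 1 n10336 = n9792 := d0_2 D8789 D10336 F31352 F26096 (iv F22765)
theorem F33321 : act 2 n10336 = n9161 := d1_2 (iv F28052) D10336 (iv D9161)
theorem F33322 : act 7 n10336 = n8814 := d6_2 (iv F28053) D10336 (iv D8814)
theorem F33323 : act 6 n9993 = n10336 := d27_5 F33322 F28127 (iv F25729) D8412 D9993
def n10337 : Q := act 5 n8789
theorem D10337 : act 5 n8789 = n10337 := rfl
theorem F33324 : act 2 n10337 = n9163 := d15_1 D10337 (iv D9163) (iv F28052)
theorem F33325 : act 7 n10337 = n8815 := d26_2 (iv F28053) D10337 (iv D8815)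
def n10338 : Q := act 6 n8789
theorem D10338 : act 6 n8789 = n10338 := rfl
theorem F33326 : act 0 n10338 = n9993 := d5_1 D10338 F33323 (iv D10336)
theorem F33327 : act 1 n10338 = n8791 := d11_1 D10338 (iv D8791) D8789
theorem F33328 : act 2 n10338 = n9164 := d16_1 D10338 (iv D9164) (iv F28052)
theorem F33329 : act 7 n10338 = n9697 := d27_2 (iv F28053) D10338 (iv D9697) (iv D8105) (iv F22815)
def n10339 : Q := act 3 n8790
theorem D10339 : act 3 n8790 = n10339 := rfl
theorem F33330 : act 0 n10339 = n9783 := d2_1 D10339 (iv D9783) (iv F28054)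
theorem F33331 : act 5 n10339 = n10293 := d19_2 (iv F28056) D10339 (iv D10293)
def n10340 : Q := act 6 n8790
theorem D10340 : act 6 n8790 = n10340 := rfl
theorem F33332 : act 0 n10340 = n9784 := d5_1 D10340 (iv D9784) (iv F28054)
theorem F33333 : act 2 n10340 = n8792 := d16_1 D10340 (iv D8792) (iv F28055)
theorem F33334 : act 4 n10340 = n8791 := d23_1 D10340 (iv D8791) D8790
theorem F33335 : act 7 n10340 = n9693 := d27_2 (iv F28057) D10340 (iv D9693) (iv D8101) (iv F22819)
def n10341 : Q := act 5 n8791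
theorem D10341 : act 5 n8791 = n10341 := rfl
theorem F33336 : act 0 n10341 = n9798 := d4_1 D10341 (iv D9798) (iv F28058)
theorem F33337 : act 2 n10341 = n8793 := d15_1 D10341 (iv D8793) (iv F28059)
theorem F33338 : act 7 n10341 = n9699 := d26_2 (iv F28060) D10341 (iv D9699)
def n10342 : Q := act 5 n8792
theorem D10342 : act 5 n8792 = n10342 := rfl
theorem F33339 : act 0 n10342 = n9813 := d4_1 D10342 (iv D9813) (iv F28061)
theorem F33340 : act 4 n10342 = n8793 := d22_1 D10342 (iv D8793) (iv F28063)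
theorem F33341 : act 7 n10342 = n9708 := d26_2 (iv F28064) D10342 (iv D9708)
def n10343 : Q := act 1 n8793
theorem D10343 : act 1 n8793 = n10343 := rfl
theorem F33342 : act 3 n10343 = n8794 := d8_2 (iv F28066) D10343 (iv D8794)
theorem F33343 : act 5 n10343 = n9170 := d10_2 D8793 D10343 (iv D9170) (iv D7564) (iv F22771)
theorem F33344 : act 7 n10343 = n9715 := d12_2 (iv F28067) D10343 (iv D9715)
def n10344 : Q := act 0 n8794
theorem D10344 : act 0 n8794 = n10344 := rfl
theorem F33345 : act 5 n10344 = n9114 := d4_2 (iv F28068) D10344 F29071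
theorem F33346 : act 7 n10344 = n8800 := d6_2 (iv F28069) D10344 (iv D8800)
theorem F33347 : act 2 n8896 = n10344 := d15_3 F33345 F29568 (iv F28370)
def n10345 : Q := act 2 n8794
theorem D10345 : act 2 n8794 = n10345 := rfl
theorem F33348 : act 0 n10345 = n8896 := d1_1 D10345 F33347 (iv D10344)
theorem F33349 : act 5 n10345 = n9172 := d15_2 (iv F28068) D10345 (iv D9172)
theorem F33350 : act 7 n10345 = n8801 := d17_2 (iv F28069) D10345 (iv D8801)
theorem F33351 : act 3 n8899 = n10345 := d19_3 F33349 F29567 (iv F28374)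
def n10346 : Q := act 1 n8795
theorem D10346 : act 1 n8795 = n10346 := rfl
theorem F33352 : act 4 n10346 = n10030 := d9_2 F29627 D10346 F32171
theorem F33353 : act 5 n10346 = n10028 := d10_2 D8795 D10346 F32163 F26891 F24321
theorem F33354 : act 6 n10346 = n8806 := d11_2 (iv F28071) D10346 (iv D8806)
theorem F33355 : act 7 n10346 = n10027 := d12_2 F30964 D10346 F32159
def n10347 : Q := act 1 n8796
theorem D10347 : act 1 n8796 = n10347 := rfl
theorem F33356 : act 0 n10347 = n8895 := d0_1 D10347 F28366 F32746 (iv D10168) (iv F28072)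
theorem F33357 : act 3 n10347 = n10170 := d8_2 (iv F28073) D10347 (iv D10170)
theorem F33358 : act 4 n10347 = n8798 := d9_2 (iv F28074) D10347 (iv D8798)
theorem F33359 : act 5 n10347 = n9062 := d10_2 D8796 D10347 F28913 (iv D7568) (iv F22777)
theorem F33360 : act 6 n10347 = n8809 := d11_2 (iv F28075) D10347 (iv D8809)
def n10348 : Q := act 7 n8796
theorem D10348 : act 7 n8796 = n10348 := rfl
theorem F33361 : act 0 n10348 = n9831 := d6_1 D10348 F31463 (iv F28072)
theorem F33362 : act 2 n10348 = n10029 := d17_1 D10348 (iv F32169) F29625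
theorem F33363 : act 4 n10348 = n8799 := d24_1 D10348 (iv D8799) (iv F28074)
theorem F33364 : act 5 n10348 = n8797 := d26_1 D10348 (iv D8797) D8796
theorem F33365 : act 6 n10348 = n9719 := d27_1 D10348 F31792 F31791 (iv D8810) (iv F28075)
def n10349 : Q := act 3 n8797
theorem D10349 : act 3 n8797 = n10349 := rfl
theorem F33366 : act 0 n10349 = n9816 := d2_1 D10349 F31416 (iv F28076)
theorem F33367 : act 1 n10349 = n9175 := d8_1 D10349 (iv D9175) (iv F28077)
theorem F33368 : act 4 n10349 = n9707 := d18_2 (iv F28079) D10349 F31054 F25763 (iv F22784)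
theorem F33369 : act 6 n10349 = n8816 := d20_2 (iv F28080) D10349 (iv D8816)
theorem F33370 : act 7 n10349 = n10172 := d21_2 D8797 D10349 (iv D10172) (iv D8625) (iv F22778)
def n10350 : Q := act 2 n8798
theorem D10350 : act 2 n8798 = n10350 := rfl
theorem F33371 : act 0 n10350 = n8903 := d1_1 D10350 F28381 F28084
theorem F33372 : act 5 n10350 = n9071 := d15_2 (iv F28082) D10350 F28940
theorem F33373 : act 6 n10350 = n8811 := d16_2 (iv F28083) D10350 (iv D8811)
def n10351 : Q := act 2 n8800
theorem D10351 : act 2 n8800 = n10351 := rfl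
theorem F33374 : act 0 n10351 = n8801 := d1_1 D10351 (iv D8801) D8800
theorem F33375 : act 5 n10351 = n9112 := d15_2 (iv F28090) D10351 F29067
theorem F33376 : act 6 n10351 = n8812 := d16_2 (iv F28091) D10351 (iv D8812)
theorem F33377 : act 7 n10351 = n8896 := d17_2 F33346 D10351 F33347
theorem F33378 : act 1 n10351 = n8897 := d29_2 (iv F28089) D10351 F28371 (iv F27394) (iv F28409) (iv F30211) F30212 F25314 (iv F24666) (iv F25499) (iv F30874) F30873 (iv D9669) (iv D8051) F20058 D8050 F25490 F25491 (iv F25631) F25629 F25628 F24025 F20325 D6488 D8117 D9714 (iv F31921) F31922 F26646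
def n10352 : Q := act 3 n8801
theorem D10352 : act 3 n8801 = n10352 := rfl
theorem F33379 : act 5 n10352 = n9176 := d19_2 (iv F28092) D10352 (iv D9176)
theorem F33380 : act 6 n10352 = n8813 := d20_2 (iv F28093) D10352 (iv D8813)
def n10353 : Q := act 1 n8802
theorem D10353 : act 1 n8802 = n10353 := rfl
theorem F33381 : act 5 n10353 = n8806 := d10_2 D8802 D10353 (iv D8806) (iv D7197) (iv F22788)
def n10354 : Q := act 7 n8802
theorem D10354 : act 7 n8802 = n10354 := rfl
theorem F33382 : act 2 n10354 = n8837 := d17_1 D10354 (iv D8837) (iv F28094)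
theorem F33383 : act 5 n10354 = n8803 := d26_1 D10354 (iv D8803) D8802
def n10355 : Q := act 3 n8803
theorem D10355 : act 3 n8803 = n10355 := rfl
theorem F33384 : act 1 n10355 = n8808 := d8_1 D10355 (iv D8808) (iv F28095)
theorem F33385 : act 6 n10355 = n8825 := d20_2 (iv F28097) D10355 (iv D8825)
def n10356 : Q := act 1 n8804
theorem D10356 : act 1 n8804 = n10356 := rfl
theorem F33386 : act 4 n10356 = n8806 := d9_2 (iv F28100) D10356 (iv D8806)
theorem F33387 : act 6 n10356 = n10030 := d11_2 F29628 D10356 F32171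
def n10357 : Q := act 7 n8804
theorem D10357 : act 7 n8804 = n10357 := rfl
theorem F33388 : act 0 n10357 = n10161 := d6_1 D10357 (iv D10161) (iv F28098)
theorem F33389 : act 2 n10357 = n8810 := d17_1 D10357 (iv D8810) (iv F28099)
theorem F33390 : act 4 n10357 = n8807 := d24_1 D10357 (iv D8807) (iv F28100)
theorem F33391 : act 5 n10357 = n8805 := d26_1 D10357 (iv D8805) D8804
def n10358 : Q := act 3 n8805
theorem D10358 : act 3 n8805 = n10358 := rfl
theorem F33392 : act 0 n10358 = n10162 := d2_1 D10358 (iv D10162) (iv F28101)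
theorem F33393 : act 2 n10358 = n10260 := d13_1 D10358 (iv D10260) F27817 (iv F22801) (iv F28102)
theorem F33394 : act 6 n10358 = n8828 := d20_2 (iv F28104) D10358 (iv D8828)
def n10359 : Q := act 0 n8806
theorem D10359 : act 0 n8806 = n10359 := rfl
def n10360 : Q := act 2 n8806
theorem D10360 : act 2 n8806 = n10360 := rfl
theorem F33395 : act 1 n10360 = n8811 := d7_1 D10360 (iv D8811) (iv D7201) (iv F22793) D8806
theorem F33396 : act 7 n8884 = n10360 := d12_0 F33395 F28120 D8884
def n10361 : Q := act 7 n8806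
theorem D10361 : act 7 n8806 = n10361 := rfl
theorem F33397 : act 1 n10361 = n8807 := d12_1 D10361 (iv D8807) D8806
theorem F33398 : act 2 n10361 = n8884 := d17_1 D10361 F33396 (iv D10360)
def n10362 : Q := act 3 n8807
theorem D10362 : act 3 n8807 = n10362 := rfl
theorem F33399 : act 5 n10362 = n8808 := d19_2 (iv F28106) D10362 (iv D8808)
def n10363 : Q := act 4 n8808
theorem D10363 : act 4 n8808 = n10363 := rfl
theorem F33400 : act 6 n10363 = n8829 := d23_2 (iv F28107) D10363 (iv D8829)
def n10364 : Q := act 2 n8809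
theorem D10364 : act 2 n8809 = n10364 := rfl
theorem F33401 : act 0 n10364 = n8892 := d1_1 D10364 F28357 (iv F28108)
theorem F33402 : act 4 n10364 = n8811 := d14_2 (iv F28110) D10364 (iv D8811)
theorem F33403 : act 5 n10364 = n8838 := d15_2 (iv F28111) D10364 (iv D8838)
theorem F33404 : act 7 n10364 = n8883 := d17_2 F28112 D10364 F28334
def n10365 : Q := act 3 n8811
theorem D10365 : act 3 n8811 = n10365 := rfl
theorem F33405 : act 0 n10365 = n8902 := d2_1 D10365 (iv D8902) (iv F28118)
theorem F33406 : act 2 n10365 = n8813 := d13_1 D10365 (iv D8813) (iv D7204) (iv F22804) D8811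
theorem F33407 : act 5 n10365 = n8839 := d19_2 (iv F28119) D10365 (iv D8839)
def n10366 : Q := act 1 n8812
theorem D10366 : act 1 n8812 = n10366 := rfl
theorem F33408 : act 4 n10366 = n9453 := d9_2 F33315 D10366 F33318
theorem F33409 : act 5 n10366 = n9451 := d10_2 (iv F28122) D10366 F30113 F24766 F24660
theorem F33410 : act 6 n10366 = n8897 := d11_2 F33376 D10366 (iv F33378)
theorem F33411 : act 7 n10366 = n9450 := d12_2 F30810 D10366 (iv F30807)
def n10367 : Q := act 3 n8812
theorem D10367 : act 3 n8812 = n10367 := rfl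
theorem F33412 : act 0 n10367 = n8813 := d2_1 D10367 (iv D8813) (iv F28121)
theorem F33413 : act 2 n10367 = n8902 := d13_1 D10367 (iv D8902) F23048 (iv F22810) D8812
theorem F33414 : act 5 n10367 = n8840 := d19_2 (iv F28122) D10367 (iv D8840)
def n10368 : Q := act 4 n8813
theorem D10368 : act 4 n8813 = n10368 := rfl
theorem F33415 : act 5 n10368 = n8841 := d22_2 (iv F28123) D10368 (iv D8841)
def n10369 : Q := act 7 n8813
theorem D10369 : act 7 n8813 = n10369 := rfl
theorem F33416 : act 5 n10369 = n8842 := d26_1 D10369 (iv D8842) (iv F28123)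
def n10370 : Q := act 2 n8816
theorem D10370 : act 2 n8816 = n10370 := rfl
theorem F33417 : act 0 n10370 = n9814 := d1_1 D10370 F31407 (iv F28131)
theorem F33418 : act 1 n10370 = n10370 := d7_1 D10370 (iv D10370) F28132 F24029 (iv F28132)
theorem F33419 : act 3 n10370 = n10026 := d13_2 D8816 D10370 (iv D10026) F26881 (iv F22829)
theorem F33420 : act 4 n10370 = n9706 := d14_2 (iv F28133) D10370 (iv D9706)
theorem F33421 : act 5 n10370 = n9710 := d15_2 (iv F28134) D10370 F31064
theorem F33422 : act 7 n10370 = n10370 := d17_2 F28135 D10370 (iv D10370)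
def n10371 : Q := act 1 n8817
theorem D10371 : act 1 n8817 = n10371 := rfl
theorem F33423 : act 4 n10371 = n10353 := d9_2 (iv F28138) D10371 (iv D10353)
theorem F33424 : act 5 n10371 = n10356 := d10_2 D8817 D10371 (iv D10356) (iv D8804) (iv F22833)
def n10372 : Q := act 7 n8817
theorem D10372 : act 7 n8817 = n10372 := rfl
theorem F33425 : act 0 n10372 = n8824 := d6_1 D10372 (iv D8824) (iv F28136)
theorem F33426 : act 2 n10372 = n8846 := d17_1 D10372 (iv D8846) (iv F28137)
theorem F33427 : act 4 n10372 = n10354 := d24_1 D10372 (iv D10354) (iv F28138)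
theorem F33428 : act 5 n10372 = n8818 := d26_1 D10372 (iv D8818) D8817
def n10373 : Q := act 3 n8818
theorem D10373 : act 3 n8818 = n10373 := rfl
theorem F33429 : act 0 n10373 = n8825 := d2_1 D10373 (iv D8825) (iv F28139)
theorem F33430 : act 1 n10373 = n10358 := d8_1 D10373 (iv D10358) (iv F28140)
theorem F33431 : act 2 n10373 = n8877 := d13_1 D10373 (iv D8877) F22970 (iv F22897) (iv F28141)
def n10374 : Q := act 7 n8819
theorem D10374 : act 7 n8819 = n10374 := rfl
theorem F33432 : act 0 n10374 = n10354 := d6_1 D10374 (iv D10354) (iv F28143)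
theorem F33433 : act 2 n10374 = n8849 := d17_1 D10374 (iv D8849) (iv F28144)
theorem F33434 : act 4 n10374 = n8824 := d24_1 D10374 (iv D8824) (iv F28146)
theorem F33435 : act 5 n10374 = n8820 := d26_1 D10374 (iv D8820) D8819
def n10375 : Q := act 3 n8820
theorem D10375 : act 3 n8820 = n10375 := rfl
theorem F33436 : act 0 n10375 = n10355 := d2_1 D10375 (iv D10355) (iv F28148)
theorem F33437 : act 1 n10375 = n8828 := d8_1 D10375 (iv D8828) (iv F28149)
theorem F33438 : act 2 n10375 = n9448 := d13_1 D10375 (iv D9448) F24691 (iv F22909) (iv F28150)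
theorem F33439 : act 6 n10375 = n10373 := d20_2 (iv F28152) D10375 (iv D10373)
theorem F33440 : act 7 n10375 = n9765 := d21_2 D8820 D10375 (iv D9765) (iv D8174) (iv F22839)
def n10376 : Q := act 7 n8821
theorem D10376 : act 7 n8821 = n10376 := rfl
theorem F33441 : act 1 n10376 = n9755 := d12_1 D10376 F31229 F29699
theorem F33442 : act 2 n10376 = n8851 := d17_1 D10376 (iv D8851) (iv F28153)
theorem F33443 : act 4 n10376 = n9752 := d24_1 D10376 (iv D9752) (iv F28154)
theorem F33444 : act 5 n10376 = n8822 := d26_1 D10376 (iv D8822) D8821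
def n10377 : Q := act 3 n8824
theorem D10377 : act 3 n8824 = n10377 := rfl
theorem F33445 : act 5 n10377 = n8825 := d19_2 (iv F28163) D10377 (iv D8825)
def n10378 : Q := act 6 n8824
theorem D10378 : act 6 n8824 = n10378 := rfl
theorem F33446 : act 2 n10378 = n8853 := d16_1 D10378 (iv D8853) (iv F28162)
def n10379 : Q := act 2 n8825
theorem D10379 : act 2 n8825 = n10379 := rfl
theorem F33447 : act 0 n10379 = n8877 := d1_1 D10379 (iv F33431) F33429
theorem F33448 : act 3 n10379 = n8854 := d13_2 D8825 D10379 (iv D8854) (iv D7240) (iv F22846)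
def n10380 : Q := act 4 n8825
theorem D10380 : act 4 n8825 = n10380 := rfl
theorem F33449 : act 1 n10380 = n8829 := d9_1 D10380 (iv D8829) (iv F28164)
def n10381 : Q := act 7 n8826
theorem D10381 : act 7 n8826 = n10381 := rfl
theorem F33450 : act 0 n10381 = n9852 := d6_1 D10381 (iv D9852) (iv F28165)
theorem F33451 : act 2 n10381 = n10381 := d17_1 D10381 (iv D10381) F28166
theorem F33452 : act 4 n10381 = n10163 := d24_1 D10381 (iv D10163) (iv F28168)
theorem F33453 : act 5 n10381 = n8827 := d26_1 D10381 (iv D8827) D8826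
def n10382 : Q := act 3 n8827
theorem D10382 : act 3 n8827 = n10382 := rfl
theorem F33454 : act 1 n10382 = n9765 := d8_1 D10382 (iv D9765) (iv F28170)
theorem F33455 : act 6 n10382 = n9985 := d20_2 (iv F28172) D10382 (iv D9985)
theorem F33456 : act 7 n10382 = n8828 := d21_2 D8827 D10382 (iv D8828) (iv D7216) (iv F22849)
def n10383 : Q := act 2 n8828
theorem D10383 : act 2 n8828 = n10383 := rfl
theorem F33457 : act 1 n10383 = n9477 := d7_1 D10383 (iv D9477) (iv F30105) (iv F33438) F33437
theorem F33458 : act 3 n10383 = n8830 := d13_2 D8828 D10383 (iv D8830) (iv D7219) (iv F22854)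
theorem F33459 : act 6 n10383 = n10260 := d16_2 F33394 D10383 (iv F33393)
def n10384 : Q := act 4 n8828
theorem D10384 : act 4 n8828 = n10384 := rfl
theorem F33460 : act 3 n10384 = n8829 := d18_1 D10384 (iv D8829) (iv D7218) (iv F22855) D8828
def n10385 : Q := act 3 n8832
theorem D10385 : act 3 n8832 = n10385 := rfl
theorem F33461 : act 1 n10385 = n9220 := d8_1 D10385 (iv D9220) (iv F28181)
theorem F33462 : act 2 n10385 = n8834 := d13_1 D10385 (iv D8834) (iv D7222) (iv F22862) D8832
theorem F33463 : act 6 n10385 = n9194 := d20_2 (iv F28183) D10385 (iv D9194)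
theorem F33464 : act 7 n10385 = n8864 := d21_2 (iv F28184) D10385 (iv D8864) (iv D7250) (iv F22942)
def n10386 : Q := act 3 n8833
theorem D10386 : act 3 n8833 = n10386 := rfl
theorem F33465 : act 0 n10386 = n8834 := d2_1 D10386 (iv D8834) (iv F28185)
theorem F33466 : act 1 n10386 = n9484 := d8_1 D10386 (iv D9484) (iv F28186)
theorem F33467 : act 6 n10386 = n9116 := d20_2 (iv F28188) D10386 (iv D9116)
theorem F33468 : act 7 n10386 = n9491 := d21_2 (iv F28189) D10386 (iv D9491) (iv D7848) (iv F24774)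
def n10387 : Q := act 4 n8834
theorem D10387 : act 4 n8834 = n10387 := rfl
theorem F33469 : act 1 n10387 = n9014 := d9_1 D10387 (iv D9014) (iv F28190)
theorem F33470 : act 3 n10387 = n8841 := d18_1 D10387 (iv D8841) (iv D7229) (iv F22870) D8834
theorem F33471 : act 6 n10387 = n9195 := d23_2 (iv F28191) D10387 (iv D9195)
def n10388 : Q := act 7 n8834
theorem D10388 : act 7 n8834 = n10388 := rfl
theorem F33472 : act 0 n10388 = n9491 := d6_1 D10388 (iv F33468) F33465
theorem F33473 : act 1 n10388 = n9015 := d12_1 D10388 (iv D9015) (iv F28190)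
theorem F33474 : act 2 n10388 = n8864 := d17_1 D10388 (iv F33464) F33462
theorem F33475 : act 3 n10388 = n9489 := d21_1 D10388 (iv D9489) F25416 F25415 D8834
theorem F33476 : act 6 n10388 = n9038 := d27_1 D10388 F28839 (iv F29362) (iv D9196) (iv F28191)
def n10389 : Q := act 7 n8835
theorem D10389 : act 7 n8835 = n10389 := rfl
theorem F33477 : act 5 n10389 = n8836 := d26_1 D10389 (iv D8836) D8835
def n10390 : Q := act 3 n8836
theorem D10390 : act 3 n8836 = n10390 := rfl
theorem F33478 : act 1 n10390 = n9202 := d8_1 D10390 (iv D9202) (iv F28194)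
theorem F33479 : act 6 n10390 = n8852 := d20_2 (iv F28195) D10390 (iv D8852)
theorem F33480 : act 7 n10390 = n9019 := d21_2 D8836 D10390 (iv D9019) (iv D7430) (iv F22873)
def n10391 : Q := act 6 n8837
theorem D10391 : act 6 n8837 = n10391 := rfl
theorem F33481 : act 1 n10391 = n8857 := d11_1 D10391 F28264 (iv F28196)
theorem F33482 : act 5 n10391 = n8853 := d25_1 D10391 (iv D8853) F22921 (iv F22876) (iv F28197)
def n10392 : Q := act 3 n8838
theorem D10392 : act 3 n8838 = n10392 := rfl
theorem F33483 : act 0 n10392 = n8893 := d2_1 D10392 (iv D8893) (iv F28198)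
theorem F33484 : act 1 n10392 = n10379 := d8_1 D10392 F33448 F28254
theorem F33485 : act 2 n10392 = n10195 := d13_1 D10392 (iv D10195) (iv D8647) (iv F22878) D8838
theorem F33486 : act 6 n10392 = n9060 := d20_2 (iv F28200) D10392 (iv D9060)
def n10393 : Q := act 4 n8839
theorem D10393 : act 4 n8839 = n10393 := rfl
theorem F33487 : act 0 n10393 = n8904 := d3_1 D10393 (iv D8904) (iv F28202)
theorem F33488 : act 2 n10393 = n8841 := d14_1 D10393 (iv D8841) (iv F28203)
theorem F33489 : act 6 n10393 = n9072 := d23_2 (iv F28204) D10393 (iv D9072)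
def n10394 : Q := act 4 n8840
theorem D10394 : act 4 n8840 = n10394 := rfl
theorem F33490 : act 0 n10394 = n8841 := d3_1 D10394 (iv D8841) (iv F28205)
theorem F33491 : act 2 n10394 = n8904 := d14_1 D10394 (iv D8904) (iv F28206)
theorem F33492 : act 6 n10394 = n9109 := d23_2 (iv F28207) D10394 (iv D9109)
def n10395 : Q := act 7 n8840
theorem D10395 : act 7 n8840 = n10395 := rfl
theorem F33493 : act 0 n10395 = n8842 := d6_1 D10395 (iv D8842) (iv F28205)
theorem F33494 : act 2 n10395 = n8898 := d17_1 D10395 F28373 (iv F28206)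
def n10396 : Q := act 7 n8841
theorem D10396 : act 7 n8841 = n10396 := rfl
theorem F33495 : act 1 n10396 = n9020 := d12_1 D10396 (iv D9020) (iv F28208)
theorem F33496 : act 4 n10396 = n8842 := d24_1 D10396 (iv D8842) D8841
def n10397 : Q := act 1 n8843
theorem D10397 : act 1 n8843 = n10397 := rfl
theorem F33497 : act 0 n10397 = n8875 := d0_1 D10397 F28310 (iv F28248) (iv D8850) (iv F28211)
theorem F33498 : act 3 n10397 = n8853 := d8_2 (iv F28212) D10397 F28252
theorem F33499 : act 4 n10397 = n9348 := d9_2 (iv F28213) D10397 F29829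
theorem F33500 : act 6 n10397 = n8845 := d11_2 (iv F28214) D10397 (iv D8845)
def n10398 : Q := act 7 n8843
theorem D10398 : act 7 n8843 = n10398 := rfl
theorem F33501 : act 0 n10398 = n8851 := d6_1 D10398 (iv D8851) (iv F28211)
theorem F33502 : act 4 n10398 = n10389 := d24_1 D10398 (iv D10389) (iv F28213)
theorem F33503 : act 5 n10398 = n8844 := d26_1 D10398 (iv D8844) D8843
def n10399 : Q := act 3 n8844
theorem D10399 : act 3 n8844 = n10399 := rfl
theorem F33504 : act 0 n10399 = n8852 := d2_1 D10399 (iv D8852) (iv F28215)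
theorem F33505 : act 7 n10399 = n8860 := d21_2 D8844 D10399 (iv D8860) (iv D7245) (iv F22890)
def n10400 : Q := act 2 n8845
theorem D10400 : act 2 n8845 = n10400 := rfl
theorem F33506 : act 0 n10400 = n8874 := d1_1 D10400 F28307 (iv F28217)
theorem F33507 : act 4 n10400 = n9354 := d14_2 (iv F28219) D10400 (iv D9354)
theorem F33508 : act 5 n10400 = n8854 := d15_2 (iv F28220) D10400 (iv D8854)
theorem F33509 : act 7 n10400 = n8872 := d17_2 F28221 D10400 (iv D8872)
def n10401 : Q := act 6 n8846
theorem D10401 : act 6 n8846 = n10401 := rfl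
theorem F33510 : act 0 n10401 = n8853 := d5_1 D10401 (iv D8853) (iv F28222)
theorem F33511 : act 1 n10401 = n8865 := d11_1 D10401 F28287 (iv F28223)
theorem F33512 : act 3 n10401 = n8875 := d20_1 D10401 (iv D8875) (iv F28224)
theorem F33513 : act 4 n10401 = n10391 := d23_1 D10401 (iv D10391) (iv F28225)
def n10402 : Q := act 7 n8847
theorem D10402 : act 7 n8847 = n10402 := rfl
theorem F33514 : act 0 n10402 = n10389 := d6_1 D10402 (iv D10389) (iv F28227)
theorem F33515 : act 1 n10402 = n9346 := d12_1 D10402 (iv D9346) (iv F28228)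
theorem F33516 : act 2 n10402 = n9752 := d17_1 D10402 (iv D9752) (iv F28229)
theorem F33517 : act 4 n10402 = n8851 := d24_1 D10402 (iv D8851) (iv F28231)
theorem F33518 : act 5 n10402 = n8848 := d26_1 D10402 (iv D8848) D8847
def n10403 : Q := act 3 n8848
theorem D10403 : act 3 n8848 = n10403 := rfl
theorem F33519 : act 0 n10403 = n10390 := d2_1 D10403 (iv D10390) (iv F28233)
theorem F33520 : act 1 n10403 = n9208 := d8_1 D10403 (iv D9208) (iv F28234)
theorem F33521 : act 6 n10403 = n10399 := d20_2 (iv F28237) D10403 (iv D10399)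
theorem F33522 : act 7 n10403 = n10195 := d21_2 D8848 D10403 (iv D10195) F27597 (iv F22902)
def n10404 : Q := act 6 n8849
theorem D10404 : act 6 n8849 = n10404 := rfl
theorem F33523 : act 0 n10404 = n10391 := d5_1 D10404 (iv D10391) (iv F28238)
theorem F33524 : act 1 n10404 = n8855 := d11_1 D10404 F28259 (iv F28239)
theorem F33525 : act 3 n10404 = n9449 := d20_1 D10404 (iv D9449) (iv F28240)
theorem F33526 : act 4 n10404 = n8853 := d23_1 D10404 (iv D8853) (iv F28241)
theorem F33527 : act 5 n10404 = n10401 := d25_1 D10404 (iv D10401) F28226 (iv F22911) (iv F28242)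
def n10405 : Q := act 7 n8850
theorem D10405 : act 7 n8850 = n10405 := rfl
theorem F33528 : act 0 n10405 = n8869 := d6_1 D10405 F28296 (iv F28248)
theorem F33529 : act 1 n10405 = n8851 := d12_1 D10405 (iv D8851) D8850
theorem F33530 : act 2 n10405 = n10241 := d17_1 D10405 F33002 F28247
theorem F33531 : act 4 n10405 = n9346 := d24_1 D10405 (iv D9346) (iv F28244)
theorem F33532 : act 5 n10405 = n9035 := d26_1 D10405 F28835 (iv F28245)
theorem F33533 : act 6 n10405 = n8859 := d27_1 D10405 (iv D8859) F22934 F22919 (iv F28246)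
def n10406 : Q := act 3 n8851
theorem D10406 : act 3 n8851 = n10406 := rfl
theorem F33534 : act 5 n10406 = n8852 := d19_2 (iv F28249) D10406 (iv D8852)
theorem F33535 : act 7 n10406 = n8868 := d21_2 D8851 D10406 (iv D8868) (iv D7252) (iv F22912)
def n10407 : Q := act 6 n8851
theorem D10407 : act 6 n8851 = n10407 := rfl
theorem F33536 : act 1 n10407 = n8859 := d11_1 D10407 (iv F33533) F33529
theorem F33537 : act 7 n10407 = n8853 := d27_2 D8851 D10407 (iv D8853) (iv D7239) (iv F22913)
def n10408 : Q := act 2 n8852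
theorem D10408 : act 2 n8852 = n10408 := rfl
theorem F33538 : act 7 n10408 = n8870 := d17_2 (iv F28251) D10408 (iv D8870)
def n10409 : Q := act 4 n8852
theorem D10409 : act 4 n8852 = n10409 := rfl
theorem F33539 : act 1 n10409 = n9211 := d9_1 D10409 (iv D9211) (iv F28250)
theorem F33540 : act 7 n10409 = n8871 := d24_2 (iv F28251) D10409 (iv D8871)
def n10410 : Q := act 7 n8855
theorem D10410 : act 7 n8855 = n10410 := rfl
theorem F33541 : act 0 n10410 = n8863 := d6_1 D10410 (iv D8863) (iv F28257)
theorem F33542 : act 2 n10410 = n10242 := d17_1 D10410 (iv F33008) F31619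
theorem F33543 : act 4 n10410 = n8859 := d24_1 D10410 (iv D8859) (iv F28258)
theorem F33544 : act 5 n10410 = n8856 := d26_1 D10410 (iv D8856) D8855
theorem F33545 : act 6 n10410 = n9346 := d27_1 D10410 (iv D9346) F24452 (iv F22930) (iv F28259)
def n10411 : Q := act 3 n8856
theorem D10411 : act 3 n8856 = n10411 := rfl
theorem F33546 : act 0 n10411 = n8864 := d2_1 D10411 (iv D8864) (iv F28260)
theorem F33547 : act 2 n10411 = n9491 := d13_1 D10411 (iv D9491) F24797 (iv F28687) (iv F28691)
theorem F33548 : act 6 n10411 = n9029 := d20_2 (iv F28262) D10411 (iv D9029)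
def n10412 : Q := act 7 n8857
theorem D10412 : act 7 n8857 = n10412 := rfl
theorem F33549 : act 0 n10412 = n9214 := d6_1 D10412 (iv D9214) (iv F28263)
theorem F33550 : act 2 n10412 = n10317 := d17_1 D10412 (iv F33260) F31157
theorem F33551 : act 4 n10412 = n10320 := d24_1 D10412 (iv F33271) F28285
theorem F33552 : act 5 n10412 = n8858 := d26_1 D10412 (iv D8858) D8857
def n10413 : Q := act 3 n8858
theorem D10413 : act 3 n8858 = n10413 := rfl
theorem F33553 : act 0 n10413 = n9215 := d2_1 D10413 (iv D9215) (iv F28265)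
theorem F33554 : act 1 n10413 = n8860 := d8_1 D10413 (iv D8860) (iv F28266)
theorem F33555 : act 6 n10413 = n9032 := d20_2 (iv F28267) D10413 (iv D9032)
def n10414 : Q := act 3 n8859
theorem D10414 : act 3 n8859 = n10414 := rfl
theorem F33556 : act 0 n10414 = n8868 := d2_1 D10414 (iv D8868) (iv F28268)
theorem F33557 : act 5 n10414 = n8860 := d19_2 (iv F28269) D10414 (iv D8860)
def n10415 : Q := act 2 n8860
theorem D10415 : act 2 n8860 = n10415 := rfl
theorem F33558 : act 0 n10415 = n8870 := d1_1 D10415 (iv D8870) (iv F28270)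
theorem F33559 : act 6 n10415 = n9036 := d16_2 (iv F28271) D10415 (iv D9036)
def n10416 : Q := act 4 n8860
theorem D10416 : act 4 n8860 = n10416 := rfl
theorem F33560 : act 0 n10416 = n8871 := d3_1 D10416 (iv D8871) (iv F28270)
theorem F33561 : act 6 n10416 = n9037 := d23_2 (iv F28271) D10416 (iv D9037)
def n10417 : Q := act 3 n8863
theorem D10417 : act 3 n8863 = n10417 := rfl
theorem F33562 : act 5 n10417 = n8864 := d19_2 (iv F28280) D10417 (iv D8864)
theorem F33563 : act 6 n10417 = n9351 := d20_2 (iv F28281) D10417 (iv D9351)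
def n10418 : Q := act 4 n8864
theorem D10418 : act 4 n8864 = n10418 := rfl
theorem F33564 : act 1 n10418 = n9223 := d9_1 D10418 (iv D9223) (iv F28282)
theorem F33565 : act 3 n10418 = n8871 := d18_1 D10418 (iv D8871) (iv D7253) (iv F22948) D8864
theorem F33566 : act 6 n10418 = n9039 := d23_2 (iv F28283) D10418 (iv D9039)
def n10419 : Q := act 3 n8867
theorem D10419 : act 3 n8867 = n10419 := rfl
theorem F33567 : act 1 n10419 = n8868 := d8_1 D10419 (iv D8868) (iv F28291)
theorem F33568 : act 5 n10419 = n9224 := d19_2 (iv F28292) D10419 (iv D9224)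
def n10420 : Q := act 6 n8867
theorem D10420 : act 6 n8867 = n10420 := rfl
theorem F33569 : act 1 n10420 = n8869 := d11_1 D10420 (iv D8869) (iv F28291)
theorem F33570 : act 4 n10420 = n9350 := d23_1 D10420 F29835 F29417
theorem F33571 : act 7 n10420 = n8875 := d27_2 D8867 D10420 (iv D8875) (iv D7256) (iv F22951)
def n10421 : Q := act 2 n8868
theorem D10421 : act 2 n8868 = n10421 := rfl
theorem F33572 : act 5 n10421 = n8870 := d15_2 (iv F28293) D10421 (iv D8870)
def n10422 : Q := act 4 n8868
theorem D10422 : act 4 n8868 = n10422 := rfl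
theorem F33573 : act 5 n10422 = n8871 := d22_2 (iv F28293) D10422 (iv D8871)
def n10423 : Q := act 6 n8868
theorem D10423 : act 6 n8868 = n10423 := rfl
theorem F33574 : act 3 n10423 = n8869 := d20_1 D10423 (iv D8869) D8868
theorem F33575 : act 5 n10423 = n9042 := d25_1 D10423 (iv D9042) F23582 (iv F22954) (iv F28293)
def n10424 : Q := act 4 n8870
theorem D10424 : act 4 n8870 = n10424 := rfl
theorem F33576 : act 2 n10424 = n8871 := d14_1 D10424 (iv D8871) D8870
theorem F33577 : act 6 n10424 = n9043 := d23_2 (iv F28297) D10424 (iv D9043)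
def n10425 : Q := act 7 n8873
theorem D10425 : act 7 n8873 = n10425 := rfl
theorem F33578 : act 1 n10425 = n10184 := d12_1 D10425 (iv D10184) (iv F28302)
theorem F33579 : act 2 n10425 = n9725 := d17_1 D10425 (iv D9725) (iv F28303)
theorem F33580 : act 4 n10425 = n9775 := d24_1 D10425 (iv D9775) F28306
theorem F33581 : act 5 n10425 = n8876 := d26_1 D10425 (iv D8876) (iv F28304)
def n10426 : Q := act 3 n8874
theorem D10426 : act 3 n8874 = n10426 := rfl
theorem F33582 : act 5 n10426 = n8877 := d19_2 (iv F28309) D10426 (iv D8877)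
def n10427 : Q := act 6 n8874
theorem D10427 : act 6 n8874 = n10427 := rfl
theorem F33583 : act 2 n10427 = n8875 := d16_1 D10427 (iv D8875) (iv F28307)
theorem F33584 : act 4 n10427 = n9349 := d23_1 D10427 F29833 (iv F28308)
def n10428 : Q := act 3 n8876
theorem D10428 : act 3 n8876 = n10428 := rfl
theorem F33585 : act 1 n10428 = n8879 := d8_1 D10428 (iv D8879) (iv F28312)
theorem F33586 : act 6 n10428 = n10042 := d20_2 (iv F28315) D10428 (iv D10042)
theorem F33587 : act 7 n10428 = n8877 := d21_2 D8876 D10428 (iv D8877) (iv D7260) D7259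
def n10429 : Q := act 4 n8877
theorem D10429 : act 4 n8877 = n10429 := rfl
theorem F33588 : act 1 n10429 = n8881 := d9_1 D10429 (iv D8881) (iv F28316)
theorem F33589 : act 3 n10429 = n9357 := d18_1 D10429 (iv D9357) (iv D7735) (iv F22971) D8877
def n10430 : Q := act 3 n8878
theorem D10430 : act 3 n8878 = n10430 := rfl
theorem F33590 : act 0 n10430 = n9305 := d2_1 D10430 (iv D9305) (iv F28317)
theorem F33591 : act 1 n10430 = n9776 := d8_1 D10430 (iv D9776) (iv F28318)
theorem F33592 : act 2 n10430 = n9307 := d13_1 D10430 (iv D9307) (iv D7697) F22983 (iv F28319)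
theorem F33593 : act 5 n10430 = n9337 := d19_2 (iv F28321) D10430 (iv D9337)
theorem F33594 : act 6 n10430 = n9996 := d20_2 (iv F28322) D10430 (iv D9996)
def n10431 : Q := act 4 n8879
theorem D10431 : act 4 n8879 = n10431 := rfl
theorem F33595 : act 5 n10431 = n10194 := d22_2 (iv F28323) D10431 (iv D10194)
theorem F33596 : act 7 n10431 = n8881 := d24_2 (iv F28324) D10431 (iv D8881)
def n10432 : Q := act 6 n8879
theorem D10432 : act 6 n8879 = n10432 := rfl
theorem F33597 : act 1 n10432 = n10042 := d11_1 D10432 (iv F33586) F33585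
theorem F33598 : act 3 n10432 = n8880 := d20_1 D10432 (iv D8880) D8879
def n10433 : Q := act 1 n8882
theorem D10433 : act 1 n8882 = n10433 := rfl
theorem F33599 : act 4 n10433 = n10322 := d9_2 (iv F28332) D10433 F33279
theorem F33600 : act 5 n10433 = n8884 := d10_2 D8882 D10433 (iv D8884) (iv D7271) (iv F22993)
theorem F33601 : act 6 n10433 = n10318 := d11_2 F31159 D10433 F33261
def n10434 : Q := act 1 n8883
theorem D10434 : act 1 n8883 = n10434 := rfl
theorem F33602 : act 4 n10434 = n8884 := d9_2 (iv F28335) D10434 (iv D8884)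
theorem F33603 : act 5 n10434 = n10322 := d10_2 D8883 D10434 F33279 F28301 (iv F22999)
theorem F33604 : act 6 n10434 = n9808 := d11_2 F31785 D10434 (iv F31781)
def n10435 : Q := act 0 n8884
theorem D10435 : act 0 n8884 = n10435 := rfl
theorem F33605 : act 1 n10435 = n8899 := d0_2 D8884 D10435 (iv D8899) (iv D7287) (iv F23005)
def n10436 : Q := act 3 n8885
theorem D10436 : act 3 n8885 = n10436 := rfl
theorem F33606 : act 0 n10436 = n9890 := d2_1 D10436 F31645 F29662
theorem F33607 : act 1 n10436 = n9946 := d8_1 D10436 (iv D9946) (iv F28336)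
theorem F33608 : act 5 n10436 = n8905 := d19_2 (iv F28338) D10436 (iv D8905)
theorem F33609 : act 7 n10436 = n9880 := d21_2 D8885 D10436 F31617 F26314 F24399
def n10437 : Q := act 6 n8885
theorem D10437 : act 6 n8885 = n10437 := rfl
theorem F33610 : act 1 n10437 = n9947 := d11_1 D10437 (iv D9947) (iv F28336)
theorem F33611 : act 4 n10437 = n9621 := d23_1 D10437 F30690 (iv F28337)
theorem F33612 : act 5 n10437 = n10437 := d25_1 D10437 (iv D10437) F28338 F23060 (iv F28338)
theorem F33613 : act 7 n10437 = n8886 := d27_2 D8885 D10437 (iv D8886) (iv D7275) D7274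
def n10438 : Q := act 7 n8888
theorem D10438 : act 7 n8888 = n10438 := rfl
theorem F33614 : act 1 n10438 = n10258 := d12_1 D10438 (iv D10258) (iv F28346)
theorem F33615 : act 2 n10438 = n9767 := d17_1 D10438 (iv D9767) (iv F28347)
theorem F33616 : act 5 n10438 = n8889 := d26_1 D10438 (iv D8889) D8888
def n10439 : Q := act 3 n8889
theorem D10439 : act 3 n8889 = n10439 := rfl
theorem F33617 : act 1 n10439 = n9241 := d8_1 D10439 (iv D9241) (iv F28349)
theorem F33618 : act 2 n10439 = n10390 := d13_1 D10439 (iv D10390) (iv F31212) F31213 (iv F28350)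
theorem F33619 : act 7 n10439 = n8893 := d21_2 D8889 D10439 (iv D8893) (iv D7282) (iv F23029)
theorem F33620 : act 6 n10408 = n10439 := d27_5 F33619 F28361 F23735 (iv F28297) (iv F33538)
def n10440 : Q := act 6 n8889
theorem D10440 : act 6 n8889 = n10440 := rfl
theorem F33621 : act 1 n10440 = n9242 := d11_1 D10440 (iv D9242) (iv F28349)
theorem F33622 : act 2 n10440 = n9769 := d16_1 D10440 (iv D9769) (iv F28350)
theorem F33623 : act 3 n10440 = n10408 := d20_1 D10440 F33620 (iv D10439)
theorem F33624 : act 4 n10440 = n10007 := d23_1 D10440 F32107 F29718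
theorem F33625 : act 7 n10440 = n8890 := d27_2 D8889 D10440 (iv D8890) (iv D7280) D7279
def n10441 : Q := act 5 n8890
theorem D10441 : act 5 n8890 = n10441 := rfl
theorem F33626 : act 3 n10441 = n9085 := d19_1 D10441 (iv D9085) (iv F28352)
def n10442 : Q := act 0 n8891
theorem D10442 : act 0 n8891 = n10442 := rfl
theorem F33627 : act 2 n10442 = n9726 := d1_2 (iv F28353) D10442 F31110
theorem F33628 : act 3 n10442 = n10186 := d2_2 (iv F28354) D10442 F32800
theorem F33629 : act 4 n10442 = n8899 := d3_2 (iv F28355) D10442 (iv D8899)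
theorem F33630 : act 5 n10442 = n9244 := d4_2 (iv F28356) D10442 (iv D9244)
def n10443 : Q := act 7 n8891
theorem D10443 : act 7 n8891 = n10443 := rfl
theorem F33631 : act 1 n10443 = n8892 := d12_1 D10443 (iv D8892) D8891
theorem F33632 : act 2 n10443 = n9922 := d17_1 D10443 (iv D9922) (iv F28353)
theorem F33633 : act 4 n10443 = n8901 := d24_1 D10443 (iv D8901) (iv F28355)
theorem F33634 : act 5 n10443 = n9245 := d26_1 D10443 (iv D9245) (iv F28356)
def n10444 : Q := act 3 n8892
theorem D10444 : act 3 n8892 = n10444 := rfl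
theorem F33635 : act 5 n10444 = n8893 := d19_2 (iv F28359) D10444 (iv D8893)
def n10445 : Q := act 6 n8892
theorem D10445 : act 6 n8892 = n10445 := rfl
theorem F33636 : act 2 n10445 = n8895 := d16_1 D10445 (iv D8895) (iv F28357)
theorem F33637 : act 4 n10445 = n8903 := d23_1 D10445 (iv D8903) (iv F28358)
theorem F33638 : act 5 n10445 = n9089 := d25_1 D10445 (iv D9089) F23732 (iv F23037) (iv F28359)
def n10446 : Q := act 4 n8893
theorem D10446 : act 4 n8893 = n10446 := rfl
theorem F33639 : act 1 n10446 = n9248 := d9_1 D10446 (iv D9248) (iv F28360)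
theorem F33640 : act 3 n10446 = n8904 := d18_1 D10446 (iv D8904) (iv D7289) (iv F23036) D8893
theorem F33641 : act 6 n10446 = n9090 := d23_2 (iv F28361) D10446 (iv D9090)
def n10447 : Q := act 6 n8894
theorem D10447 : act 6 n8894 = n10447 := rfl
theorem F33642 : act 0 n10447 = n10170 := d5_1 D10447 F32752 (iv F28362)
theorem F33643 : act 1 n10447 = n10176 := d11_1 D10447 F32772 (iv F28363)
theorem F33644 : act 2 n10447 = n9396 := d16_1 D10447 F29969 F28784
theorem F33645 : act 3 n10447 = n8895 := d20_1 D10447 (iv D8895) D8894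
theorem F33646 : act 5 n10447 = n9091 := d25_1 D10447 (iv D9091) F23737 (iv F23043) (iv F28364)
theorem F33647 : act 7 n10447 = n9395 := d27_2 (iv F28365) D10447 F29966 F24713 (iv F27732)
def n10448 : Q := act 3 n8897
theorem D10448 : act 3 n8897 = n10448 := rfl
theorem F33648 : act 5 n10448 = n8898 := d19_2 (iv F28371) D10448 (iv D8898)
theorem F33649 : act 7 n10448 = n8902 := d21_2 D8897 D10448 (iv D8902) (iv D7288) (iv F23045)
def n10449 : Q := act 4 n8898
theorem D10449 : act 4 n8898 = n10449 := rfl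
theorem F33650 : act 1 n10449 = n9257 := d9_1 D10449 (iv D9257) (iv F28372)
theorem F33651 : act 7 n10449 = n8904 := d24_2 (iv F28373) D10449 (iv D8904)
def n10450 : Q := act 2 n8899
theorem D10450 : act 2 n8899 = n10450 := rfl
theorem F33652 : act 0 n10450 = n8900 := d1_1 D10450 (iv D8900) D8899
theorem F33653 : act 4 n10450 = n9726 := d14_2 F33629 D10450 (iv F33627)
theorem F33654 : act 5 n10450 = n9261 := d15_2 (iv F28374) D10450 (iv D9261)
def n10451 : Q := act 7 n8899
theorem D10451 : act 7 n8899 = n10451 := rfl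
theorem F33655 : act 0 n10451 = n8901 := d6_1 D10451 (iv D8901) D8899
theorem F33656 : act 5 n10451 = n9262 := d26_1 D10451 (iv D9262) (iv F28374)
def n10452 : Q := act 3 n8901
theorem D10452 : act 3 n8901 = n10452 := rfl
theorem F33657 : act 1 n10452 = n8902 := d8_1 D10452 (iv D8902) (iv F28378)
theorem F33658 : act 5 n10452 = n9263 := d19_2 (iv F28379) D10452 (iv D9263)
def n10453 : Q := act 6 n8901
theorem D10453 : act 6 n8901 = n10453 := rfl
theorem F33659 : act 1 n10453 = n8903 := d11_1 D10453 (iv D8903) (iv F28378)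
def n10454 : Q := act 4 n8902
theorem D10454 : act 4 n8902 = n10454 := rfl
theorem F33660 : act 5 n10454 = n8904 := d22_2 (iv F28380) D10454 (iv D8904)
def n10455 : Q := act 6 n8902
theorem D10455 : act 6 n8902 = n10455 := rfl
theorem F33661 : act 3 n10455 = n8903 := d20_1 D10455 (iv D8903) D8902
theorem F33662 : act 5 n10455 = n9107 := d25_1 D10455 (iv D9107) F23774 (iv F23051) (iv F28380)
def n10456 : Q := act 2 n8905
theorem D10456 : act 2 n8905 = n10456 := rfl
theorem F33663 : act 0 n10456 = n9887 := d1_1 D10456 F31635 (iv F28385)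
theorem F33664 : act 3 n10456 = n9412 := d13_2 D8905 D10456 (iv F31945) (iv D9966) F26666
theorem F33665 : act 4 n10456 = n9665 := d14_2 F31527 D10456 (iv F31716)
theorem F33666 : act 6 n10456 = n10456 := d16_2 F28387 D10456 (iv D10456)
theorem F33667 : act 7 n10456 = n9002 := d17_2 (iv F28388) D10456 F28735
theorem F33668 : act 1 n10456 = n9006 := d29_2 D8905 D10456 F28750 (iv D8041) F20028 (iv F25302) F26071 (iv D8198) (iv D6594) (iv F20706) F20705 F20704 (iv D5488) F12630 D4146 (iv F15442) F15443 F11220 D3639 F13881 F13880 F9977 (iv F9137) D4186 F12960 (iv F14305) (iv F19143) F19144 D7293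
def n10457 : Q := act 1 n8906
theorem D10457 : act 1 n8906 = n10457 := rfl
theorem F33669 : act 0 n10457 = n10457 := d0_1 D10457 (iv D10457) F28389 F24572 (iv F28389)
theorem F33670 : act 2 n10457 = n8909 := d7_2 D8906 D10457 (iv D8909) (iv D7297) (iv F23062)
theorem F33671 : act 3 n10457 = n9377 := d8_2 (iv F28390) D10457 F29896
theorem F33672 : act 4 n10457 = n8921 := d9_2 (iv F28391) D10457 (iv D8921)
theorem F33673 : act 5 n10457 = n10457 := d10_2 (iv F28392) D10457 (iv D10457) F28392 F24510
theorem F33674 : act 7 n10457 = n10457 := d12_2 F28393 D10457 (iv D10457)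
theorem F33675 : act 6 n10457 = n9622 := d30_6 D5832 D7419 (iv F25284) (iv F29897) (iv F33671) F33674 F30694 D9623 F30696 F25368 F20000 F17716 (iv F18701) (iv F23905) (iv D7547) (iv F23897) D9147 (iv F32514) F32513 F28977 F28978 (iv D8393) F21342 (iv D6529) (iv F17660) F17658 F15504 (iv F17273) F17274
def n10458 : Q := act 6 n8906
theorem D10458 : act 6 n8906 = n10458 := rfl
theorem F33676 : act 0 n10458 = n9408 := d5_1 D10458 (iv D9408) (iv F28389)
theorem F33677 : act 1 n10458 = n9622 := d11_1 D10458 (iv F33675) (iv D10457)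
theorem F33678 : act 2 n10458 = n8907 := d16_1 D10458 (iv D8907) D8906
theorem F33679 : act 3 n10458 = n9378 := d20_1 D10458 (iv D9378) (iv F28390)
theorem F33680 : act 4 n10458 = n8922 := d23_1 D10458 (iv D8922) (iv F28391)
def n10459 : Q := act 5 n8907
theorem D10459 : act 5 n8907 = n10459 := rfl
theorem F33681 : act 0 n10459 = n10231 := d4_1 D10459 (iv D10231) (iv F28394)
theorem F33682 : act 3 n10459 = n8908 := d19_1 D10459 (iv D8908) (iv F28396)
theorem F33683 : act 4 n10459 = n8923 := d22_1 D10459 (iv D8923) (iv F28397)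
def n10460 : Q := act 3 n8910
theorem D10460 : act 3 n8910 = n10460 := rfl
theorem F33684 : act 0 n10460 = n10208 := d2_1 D10460 (iv D10208) (iv F28406)
theorem F33685 : act 5 n10460 = n10133 := d19_2 (iv F28409) D10460 (iv D10133)
def n10461 : Q := act 1 n8911
theorem D10461 : act 1 n8911 = n10461 := rfl
theorem F33686 : act 0 n10461 = n10461 := d0_1 D10461 (iv D10461) F28410 F27642 (iv F28410)
theorem F33687 : act 2 n10461 = n10461 := d7_2 D8911 D10461 (iv D10461) (iv D8911) F23088
theorem F33688 : act 3 n10461 = n8921 := d8_2 (iv F28411) D10461 (iv D8921)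
theorem F33689 : act 5 n10461 = n10461 := d10_2 F30082 D10461 (iv D10461) (iv F30082) F30079
def n10462 : Q := act 6 n8911
theorem D10462 : act 6 n8911 = n10462 := rfl
theorem F33690 : act 0 n10462 = n10212 := d5_1 D10462 (iv D10212) (iv F28410)
theorem F33691 : act 2 n10462 = n8912 := d16_1 D10462 (iv D8912) D8911
theorem F33692 : act 3 n10462 = n8922 := d20_1 D10462 (iv D8922) (iv F28411)
theorem F33693 : act 7 n10462 = n9957 := d27_2 (iv F28582) D10462 F31901 (iv F32589) F32588
def n10463 : Q := act 5 n8912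
theorem D10463 : act 5 n8912 = n10463 := rfl
theorem F33694 : act 0 n10463 = n10214 := d4_1 D10463 (iv D10214) (iv F28412)
theorem F33695 : act 3 n10463 = n8913 := d19_1 D10463 (iv D8913) (iv F28414)
theorem F33696 : act 7 n10463 = n9955 := d26_2 (iv F28415) D10463 F31895
def n10464 : Q := act 1 n8913
theorem D10464 : act 1 n8913 = n10464 := rfl
theorem F33697 : act 2 n10464 = n9657 := d7_2 (iv F28417) D10464 (iv F33181) F33182 (iv D8924)
theorem F33698 : act 4 n10464 = n8915 := d9_2 (iv F28418) D10464 (iv D8915)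
theorem F33699 : act 5 n10464 = n10464 := d10_2 D8913 D10464 (iv D10464) (iv D8913) F23090
theorem F33700 : act 6 n10464 = n9652 := d11_2 F30112 D10464 F30807
theorem F33701 : act 7 n10464 = n9951 := d12_2 (iv F28419) D10464 (iv D9951)
theorem F33702 : act 0 n9654 = n10464 := d5_3 F33700 F30806 D9654
def n10465 : Q := act 4 n8914
theorem D10465 : act 4 n8914 = n10465 := rfl
theorem F33703 : act 0 n10465 = n10217 := d3_1 D10465 (iv D10217) (iv F28420)
theorem F33704 : act 5 n10465 = n10138 := d22_2 (iv F28421) D10465 (iv D10138)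
def n10466 : Q := act 0 n8915
theorem D10466 : act 0 n8915 = n10466 := rfl
theorem F33705 : act 1 n10466 = n10224 := d0_2 D8915 D10466 (iv D10224) (iv D8673) (iv F23097)
theorem F33706 : act 4 n10466 = n9654 := d3_2 F33698 D10466 F33702
theorem F33707 : act 5 n10466 = n10466 := d4_2 F28422 D10466 (iv D10466)
theorem F33708 : act 6 n10466 = n9653 := d5_2 F30119 D10466 F30811
theorem F33709 : act 7 n10466 = n10147 := d6_2 (iv F28423) D10466 (iv D10147)
theorem F33710 : act 2 n9660 = n10466 := d16_3 F33708 F30812 D9660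
def n10467 : Q := act 2 n8915
theorem D10467 : act 2 n8915 = n10467 := rfl
theorem F33711 : act 0 n10467 = n9660 := d1_1 D10467 F33710 (iv D10466)
theorem F33712 : act 1 n10467 = n8927 := d7_1 D10467 (iv D8927) (iv D7313) (iv F23098) D8915
theorem F33713 : act 4 n10467 = n9657 := d14_2 F33698 D10467 (iv F33697)
theorem F33714 : act 5 n10467 = n10467 := d15_2 F28422 D10467 (iv D10467)
theorem F33715 : act 6 n10467 = n9656 := d16_2 F30119 D10467 F30824
theorem F33716 : act 7 n10467 = n10148 := d17_2 (iv F28423) D10467 (iv D10148)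
def n10468 : Q := act 2 n8916
theorem D10468 : act 2 n8916 = n10468 := rfl
theorem F33717 : act 0 n10468 = n10225 := d1_1 D10468 (iv D10225) (iv F28424)
theorem F33718 : act 4 n10468 = n9123 := d14_2 (iv F28426) D10468 (iv D9123)
theorem F33719 : act 5 n10468 = n10149 := d15_2 (iv F28427) D10468 (iv D10149)
theorem F33720 : act 7 n10468 = n10468 := d17_2 F28428 D10468 (iv D10468)
def n10469 : Q := act 6 n8916
theorem D10469 : act 6 n8916 = n10469 := rfl
theorem F33721 : act 0 n10469 = n10226 := d5_1 D10469 (iv D10226) (iv F28424)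
theorem F33722 : act 1 n10469 = n9131 := d11_1 D10469 (iv D9131) (iv F28425)
theorem F33723 : act 3 n10469 = n8917 := d20_1 D10469 (iv D8917) D8916
theorem F33724 : act 4 n10469 = n9124 := d23_1 D10469 (iv D9124) (iv F28426)
def n10470 : Q := act 5 n8917
theorem D10470 : act 5 n8917 = n10470 := rfl
theorem F33725 : act 0 n10470 = n10227 := d4_1 D10470 (iv D10227) (iv F28429)
theorem F33726 : act 1 n10470 = n9618 := d10_1 D10470 (iv D9618) F25233 F24264 (iv F28430)
theorem F33727 : act 2 n10470 = n10366 := d15_1 D10470 F33409 F30114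
theorem F33728 : act 4 n10470 = n8925 := d22_1 D10470 (iv D8925) (iv F28431)
theorem F33729 : act 6 n10470 = n10151 := d25_2 D8917 D10470 (iv D10151) (iv D8600) (iv F23103)
theorem F33730 : act 7 n10470 = n8920 := d26_2 (iv F28432) D10470 (iv D8920)
def n10471 : Q := act 6 n8918
theorem D10471 : act 6 n8918 = n10471 := rfl
theorem F33731 : act 0 n10471 = n9410 := d5_1 D10471 (iv D9410) (iv F28433)
theorem F33732 : act 1 n10471 = n10471 := d11_1 D10471 (iv D10471) F28434
theorem F33733 : act 2 n10471 = n8919 := d16_1 D10471 (iv D8919) D8918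
theorem F33734 : act 4 n10471 = n9379 := d23_1 D10471 (iv D9379) (iv F28435)
def n10472 : Q := act 5 n8919
theorem D10472 : act 5 n8919 = n10472 := rfl
theorem F33735 : act 0 n10472 = n10228 := d4_1 D10472 (iv D10228) (iv F28438)
theorem F33736 : act 3 n10472 = n8920 := d19_1 D10472 (iv D8920) (iv F28440)
theorem F33737 : act 6 n10472 = n8923 := d25_2 D8919 D10472 (iv D8923) (iv D7309) (iv F23106)
def n10473 : Q := act 7 n8919
theorem D10473 : act 7 n8919 = n10473 := rfl
theorem F33738 : act 0 n10473 = n10229 := d6_1 D10473 (iv D10229) (iv F28438)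
theorem F33739 : act 1 n10473 = n9271 := d12_1 D10473 (iv D9271) (iv F28439)
theorem F33740 : act 6 n10473 = n10473 := d27_1 D10473 (iv D10473) (iv D8919) F23107 D8919
def n10474 : Q := act 5 n8922
theorem D10474 : act 5 n8922 = n10474 := rfl
theorem F33741 : act 0 n10474 = n10230 := d4_1 D10474 (iv D10230) (iv F28448)
theorem F33742 : act 2 n10474 = n8923 := d15_1 D10474 (iv D8923) (iv F28449)
def n10475 : Q := act 1 n8923
theorem D10475 : act 1 n8923 = n10475 := rfl
theorem F33743 : act 3 n10475 = n8924 := d8_2 (iv F28451) D10475 (iv D8924)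
theorem F33744 : act 5 n10475 = n8928 := d10_2 D8923 D10475 (iv D8928) (iv D7315) (iv F23114)
def n10476 : Q := act 1 n8925
theorem D10476 : act 1 n8925 = n10476 := rfl
theorem F33745 : act 2 n10476 = n9619 := d7_2 F30120 D10476 F30682 D10334 (iv F33318)
theorem F33746 : act 4 n10476 = n9618 := d9_2 F33728 D10476 (iv F33726)
theorem F33747 : act 5 n10476 = n9273 := d10_2 D8925 D10476 (iv D9273) (iv D7664) (iv F23120)
theorem F33748 : act 6 n10476 = n10154 := d11_2 (iv F28456) D10476 (iv D10154)
theorem F33749 : act 7 n10476 = n8926 := d12_2 (iv F28457) D10476 (iv D8926)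
theorem F33750 : act 0 n10153 = n10476 := d6_3 F33749 (iv F33180) (iv F33186)
def n10477 : Q := act 3 n8927
theorem D10477 : act 3 n8927 = n10477 := rfl
theorem F33751 : act 5 n10477 = n8930 := d19_2 (iv F28460) D10477 (iv D8930)
def n10478 : Q := act 2 n8928
theorem D10478 : act 2 n8928 = n10478 := rfl
theorem F33752 : act 1 n10478 = n9641 := d7_1 D10478 F30762 F25361 F24649 D8928
theorem F33753 : act 3 n10478 = n8977 := d13_2 (iv F28462) D10478 F28647 F28469 (iv D8929)
theorem F33754 : act 4 n10478 = n9640 := d14_2 F33121 D10478 (iv F33120)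
theorem F33755 : act 6 n10478 = n8976 := d16_2 (iv F28463) D10478 F28645
def n10479 : Q := act 4 n8930
theorem D10479 : act 4 n8930 = n10479 := rfl
theorem F33756 : act 1 n10479 = n10479 := d9_1 D10479 (iv D10479) F28470
theorem F33757 : act 3 n10479 = n8970 := d18_1 D10479 F28627 F28469 F28466 D8930
theorem F33758 : act 6 n10479 = n8969 := d23_2 (iv F28471) D10479 F28623
theorem F33759 : act 7 n10479 = n9609 := d24_2 F31337 D10479 (iv F31336)
def n10480 : Q := act 1 n8932
theorem D10480 : act 1 n8932 = n10480 := rfl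
theorem F33760 : act 3 n10480 = n8934 := d8_2 (iv F28480) D10480 (iv D8934)
theorem F33761 : act 4 n10480 = n9790 := d9_2 (iv F28481) D10480 F31345
theorem F33762 : act 6 n10480 = n10094 := d11_2 F32264 D10480 F32403
theorem F33763 : act 7 n10480 = n9788 := d12_2 (iv F28482) D10480 F31339
theorem F33764 : act 2 n10480 = n10479 := d30_3 D7319 D8932 D10480 F33757 (iv F29310) F29309 F26957 F21628 (iv F20395) (iv F21128) F21131 (iv D6721) F15932 F11667 (iv F13099) (iv F17134) D7047 (iv F22325) (iv F22538) F22535 F18231 F13477 (iv F12136) (iv D3919) (iv F12131) F12128 (iv F16532) D6874 F21668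
theorem F33765 : act 0 n10119 = n10480 := d6_3 F33763 F31338 (iv F32540)
def n10481 : Q := act 0 n8934
theorem D10481 : act 0 n8934 = n10481 := rfl
theorem F33766 : act 1 n10481 = n10481 := d0_2 D8934 D10481 (iv D10481) (iv D8934) F23145
theorem F33767 : act 2 n10481 = n9064 := d1_2 F30786 D10481 (iv F30784)
theorem F33768 : act 3 n10481 = n10119 := d2_2 F33760 D10481 F33765
theorem F33769 : act 4 n10481 = n8937 := d3_2 (iv F28488) D10481 (iv D8937)
theorem F33770 : act 6 n10481 = n10118 := d5_2 F32274 D10481 F32532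
theorem F33771 : act 7 n10481 = n8980 := d6_2 (iv F28489) D10481 (iv D8980)
def n10482 : Q := act 4 n8938
theorem D10482 : act 4 n8938 = n10482 := rfl
theorem F33772 : act 1 n10482 = n10482 := d9_1 D10482 (iv D10482) F28499
theorem F33773 : act 2 n10482 = n10038 := d14_1 D10482 F32200 (iv F28500)
theorem F33774 : act 3 n10482 = n10482 := d18_1 D10482 (iv D10482) (iv D8938) F23161 D8938
theorem F33775 : act 6 n10482 = n10037 := d23_2 (iv F28501) D10482 (iv D10037)
theorem F33776 : act 7 n10482 = n8946 := d24_2 (iv F28502) D10482 (iv D8946)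
def n10483 : Q := act 3 n8940
theorem D10483 : act 3 n8940 = n10483 := rfl
theorem F33777 : act 0 n10483 = n8943 := d2_1 D10483 (iv D8943) (iv F28507)
theorem F33778 : act 1 n10483 = n9917 := d8_1 D10483 F31755 (iv F28508)
theorem F33779 : act 5 n10483 = n8941 := d19_2 (iv F28510) D10483 (iv D8941)
theorem F33780 : act 6 n10483 = n9918 := d20_2 (iv F28511) D10483 F31759
theorem F33781 : act 7 n10483 = n10116 := d21_2 D8940 D10483 F32522 F27317 (iv F23168)
def n10484 : Q := act 2 n8941
theorem D10484 : act 2 n8941 = n10484 := rfl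
theorem F33782 : act 0 n10484 = n8945 := d1_1 D10484 (iv D8945) (iv F28512)
theorem F33783 : act 7 n10484 = n10031 := d17_2 F30153 D10484 F32176
def n10485 : Q := act 4 n8941
theorem D10485 : act 4 n8941 = n10485 := rfl
theorem F33784 : act 0 n10485 = n8946 := d3_1 D10485 (iv D8946) (iv F28512)
def n10486 : Q := act 2 n8942
theorem D10486 : act 2 n8942 = n10486 := rfl
theorem F33785 : act 5 n10486 = n9565 := d15_2 (iv F28514) D10486 (iv D9565)
theorem F33786 : act 7 n10486 = n10486 := d17_2 F28515 D10486 (iv D10486)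
def n10487 : Q := act 4 n8942
theorem D10487 : act 4 n8942 = n10487 := rfl
theorem F33787 : act 1 n10487 = n10487 := d9_1 D10487 (iv D10487) F28513
theorem F33788 : act 3 n10487 = n8946 := d18_1 D10487 (iv D8946) (iv D7332) (iv F23174) D8942
theorem F33789 : act 5 n10487 = n9566 := d22_2 (iv F28514) D10487 (iv D9566)
theorem F33790 : act 7 n10487 = n10487 := d24_2 F28515 D10487 (iv D10487)
def n10488 : Q := act 2 n8943
theorem D10488 : act 2 n8943 = n10488 := rfl
theorem F33791 : act 5 n10488 = n8945 := d15_2 (iv F28516) D10488 (iv D8945)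
theorem F33792 : act 7 n10488 = n10039 := d17_2 (iv F30630) D10488 F32201
def n10489 : Q := act 4 n8943
theorem D10489 : act 4 n8943 = n10489 := rfl
theorem F33793 : act 1 n10489 = n9576 := d9_1 D10489 F30528 F30503
theorem F33794 : act 3 n10489 = n9566 := d18_1 D10489 (iv D9566) (iv D7909) (iv F23176) D8943
theorem F33795 : act 5 n10489 = n8946 := d22_2 (iv F28516) D10489 (iv D8946)
theorem F33796 : act 6 n9582 = n10489 := d20_0 F33794 F30485 D9582
def n10490 : Q := act 6 n8943
theorem D10490 : act 6 n8943 = n10490 := rfl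
theorem F33797 : act 0 n10490 = n9918 := d5_1 D10490 (iv F33780) F33777
theorem F33798 : act 1 n10490 = n9584 := d11_1 D10490 F30556 F30503
theorem F33799 : act 3 n10490 = n8944 := d20_1 D10490 (iv D8944) D8943
theorem F33800 : act 4 n10490 = n9582 := d23_1 D10490 F33796 (iv D10489)
theorem F33801 : act 7 n10490 = n9928 := d27_2 (iv F30630) D10490 F31801 F27208 D9604
def n10491 : Q := act 4 n8945
theorem D10491 : act 4 n8945 = n10491 := rfl
theorem F33802 : act 2 n10491 = n8946 := d14_1 D10491 (iv D8946) D8945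
theorem F33803 : act 7 n10491 = n10038 := d24_2 (iv F28521) D10491 F32200
def n10492 : Q := act 5 n8947
theorem D10492 : act 5 n8947 = n10492 := rfl
theorem F33804 : act 0 n10492 = n10492 := d4_1 D10492 (iv D10492) F28523
theorem F33805 : act 2 n10492 = n9005 := d15_1 D10492 (iv D9005) (iv F28525)
theorem F33806 : act 3 n10492 = n8948 := d19_1 D10492 (iv D8948) (iv F28526)
theorem F33807 : act 4 n10492 = n9498 := d22_1 D10492 (iv F31751) F31750
theorem F33808 : act 6 n10492 = n9497 := d25_2 D8947 D10492 F32084 (iv D9999) F26791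
theorem F33809 : act 7 n10492 = n9499 := d31_1 D10492 F30277 F24825 (iv D6394) D6393 F20031 F20032 D6395 F20035 F16220 F11943 F8383 F6548 F4619 F3262 (iv F3263) (iv F3266) F3267 (iv F4723) (iv F6512) (iv F8345) (iv D2708) D2707 F8342 (iv F9607) (iv F13309) (iv F18034) D7335 (iv F28526)
theorem F33810 : act 1 n10485 = n10492 := d9_3 F33807 F30270 D10485
def n10493 : Q := act 7 n8947
theorem D10493 : act 7 n8947 = n10493 := rfl
theorem F33811 : act 0 n10493 = n10493 := d6_1 D10493 (iv D10493) F28523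
theorem F33812 : act 1 n10493 = n9267 := d12_1 D10493 F29583 (iv F28524)
theorem F33813 : act 2 n10493 = n9006 := d17_1 D10493 (iv D9006) (iv F28525)
theorem F33814 : act 3 n10493 = n10493 := d21_1 D10493 (iv D10493) F28526 F23191 (iv F28526)
theorem F33815 : act 4 n10493 = n9500 := d24_1 D10493 F31752 F31750
theorem F33816 : act 5 n10493 = n9499 := d26_1 D10493 (iv F33809) (iv D10492)
theorem F33817 : act 6 n10493 = n10493 := d27_1 D10493 (iv D10493) (iv D8947) F23186 D8947
def n10494 : Q := act 1 n8948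
theorem D10494 : act 1 n8948 = n10494 := rfl
theorem F33818 : act 3 n10494 = n10485 := d8_2 F33806 D10494 F33810
theorem F33819 : act 4 n10494 = n8997 := d9_2 (iv F28529) D10494 (iv D8997)
theorem F33820 : act 5 n10494 = n9923 := d10_2 D8948 D10494 (iv D9923) (iv D8340) (iv F23188)
theorem F33821 : act 7 n10494 = n10494 := d12_2 F28530 D10494 (iv D10494)
theorem F33822 : act 0 n10487 = n10494 := d4_3 F33820 F31772 (iv F33789)
def n10495 : Q := act 3 n8956
theorem D10495 : act 3 n8956 = n10495 := rfl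
theorem F33823 : act 0 n10495 = n8976 := d2_1 D10495 (iv D8976) (iv F28567)
theorem F33824 : act 1 n10495 = n10093 := d8_1 D10495 F32399 (iv F28568)
theorem F33825 : act 2 n10495 = n8972 := d13_1 D10495 F28630 F23403 F23240 (iv F28569)
theorem F33826 : act 5 n10495 = n8957 := d19_2 (iv F28571) D10495 (iv D8957)
theorem F33827 : act 4 n8971 = n10495 := d22_3 F33826 (iv F32406) F32407
def n10496 : Q := act 4 n8958
theorem D10496 : act 4 n8958 = n10496 := rfl
theorem F33828 : act 0 n10496 = n10496 := d3_1 D10496 (iv D10496) F28574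
theorem F33829 : act 1 n10496 = n8959 := d9_1 D10496 (iv D8959) (iv F28575)
theorem F33830 : act 2 n10496 = n10496 := d14_1 D10496 (iv D10496) F28576
theorem F33831 : act 3 n10496 = n10496 := d18_1 D10496 (iv D10496) (iv D8958) F23251 D8958
theorem F33832 : act 5 n10496 = n10496 := d22_2 F28577 D10496 (iv D10496)
theorem F33833 : act 6 n10496 = n9602 := d23_2 (iv F28578) D10496 (iv D9602)
theorem F33834 : act 7 n10461 = n10496 := d31_1 F33689 (iv D10496) F28576 F28578 (iv D7956) F19739 (iv D4778) F10642 (iv F14755) (iv D4776) F10636 (iv F10732) (iv F10733) (iv F14140) F14139 D4565 F14156 F14158 D6046 F18984 (iv F18978) (iv F19880) D7988 F25255 (iv F25261) (iv F25262) (iv F30673) F30674 (iv F33688)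
def n10497 : Q := act 7 n8958
theorem D10497 : act 7 n8958 = n10497 := rfl
theorem F33835 : act 0 n10497 = n10497 := d6_1 D10497 (iv D10497) F28574
theorem F33836 : act 1 n10497 = n8961 := d12_1 D10497 (iv D8961) (iv F28575)
theorem F33837 : act 2 n10497 = n10497 := d17_1 D10497 (iv D10497) F28576
theorem F33838 : act 3 n10497 = n9376 := d21_1 D10497 (iv F29894) F25285 F23254 D8958
theorem F33839 : act 4 n10497 = n10461 := d24_1 D10497 F33834 (iv D10496)
theorem F33840 : act 5 n10497 = n10497 := d26_1 D10497 (iv D10497) F28577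
def n10498 : Q := act 6 n8961
theorem D10498 : act 6 n8961 = n10498 := rfl
theorem F33841 : act 0 n10498 = n9401 := d5_1 D10498 F29976 (iv F28588)
theorem F33842 : act 2 n10498 = n8965 := d16_1 D10498 (iv D8965) (iv F28589)
theorem F33843 : act 3 n10498 = n9381 := d20_1 D10498 (iv D9381) (iv F28590)
theorem F33844 : act 4 n10498 = n10462 := d23_1 D10498 (iv D10462) (iv F28591)
def n10499 : Q := act 1 n8964
theorem D10499 : act 1 n8964 = n10499 := rfl
theorem F33845 : act 0 n10499 = n10129 := d0_1 D10499 F32591 (iv F32441) (iv F32516) F32515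
theorem F33846 : act 2 n10499 = n9605 := d7_2 (iv F28604) D10499 (iv D9605) (iv D7961) (iv F25146)
theorem F33847 : act 3 n10499 = n8966 := d8_2 (iv F28605) D10499 (iv D8966)
theorem F33848 : act 5 n10499 = n10499 := d10_2 D8964 D10499 (iv D10499) (iv D8964) F23350
theorem F33849 : act 7 n10499 = n10074 := d12_2 F32423 D10499 (iv F32424)
def n10500 : Q := act 5 n8965
theorem D10500 : act 5 n8965 = n10500 := rfl
theorem F33850 : act 3 n10500 = n9387 := d19_1 D10500 (iv D9387) (iv F28607)
theorem F33851 : act 4 n10500 = n10463 := d22_1 D10500 (iv D10463) (iv F28608)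
theorem F33852 : act 6 n10500 = n9444 := d25_2 D8965 D10500 (iv D9444) (iv D7812) (iv F23355)
def n10501 : Q := act 3 n8967
theorem D10501 : act 3 n8967 = n10501 := rfl
theorem F33853 : act 0 n10501 = n10100 := d2_1 D10501 F32438 (iv F28614)
theorem F33854 : act 1 n10501 = n9650 := d8_1 D10501 F30796 (iv F28615)
theorem F33855 : act 2 n10501 = n10060 := d13_1 D10501 (iv F32405) F32404 (iv D8969) (iv F28616)
theorem F33856 : act 4 n10501 = n9649 := d18_2 (iv F28617) D10501 (iv F32530) F32528 (iv D8976)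
theorem F33857 : act 5 n10501 = n8968 := d19_2 (iv F28618) D10501 (iv D8968)
theorem F33858 : act 6 n10501 = n9647 := d20_2 F28927 D10501 (iv F30788)
theorem F33859 : act 7 n10501 = n10071 := d21_2 D8967 D10501 (iv F32420) F32423 F28605
def n10502 : Q := act 2 n8968
theorem D10502 : act 2 n8968 = n10502 := rfl
theorem F33860 : act 0 n10502 = n9649 := d1_1 D10502 F30793 (iv F28619)
theorem F33861 : act 3 n10502 = n8971 := d13_2 D8968 D10502 (iv D8971) (iv D7374) (iv F23359)
theorem F33862 : act 4 n10502 = n10100 := d14_2 F32535 D10502 (iv F32534)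
theorem F33863 : act 5 n10502 = n10060 := d15_2 F33857 D10502 (iv F33855)
theorem F33864 : act 6 n10502 = n9646 := d16_2 (iv F28621) D10502 F30781
theorem F33865 : act 7 n10502 = n10070 := d17_2 F32568 D10502 (iv F32564)
theorem F33866 : act 1 n10502 = n9683 := d28_4 F23230 (iv F23360) D8968 D10502 F30949 (iv D8194) F20709 (iv D5400) (iv D3990) (iv D2812) (iv D1917) (iv D1289) F2813 (iv D867) D868 D1290 D1919 F5974 F4190 F4191 F4187 F4189 F4188 (iv D1313) F2904 F2024 (iv D517) F936 F544 (iv D162) (iv F540) (iv F863) (iv F1368) D658 (iv F3140) F3142 F2272 (iv D503) F894 (iv F1507) (iv F1510) F891 (iv F865) D485 D729 D1082 D1598 D2342 (iv F10359) (iv F13606) (iv F14430) F14429 (iv F19224) D7758 (iv F29938) F29934 F24593 (iv F28806) (iv F32926) (iv F33129) F33132 F27917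
def n10503 : Q := act 1 n8971
theorem D10503 : act 1 n8971 = n10503 := rfl
theorem F33867 : act 0 n10503 = n9680 := d0_1 D10503 F30927 (iv F30766) (iv F32526) F32525
theorem F33868 : act 2 n10503 = n8973 := d7_2 D8971 D10503 (iv D8973) (iv D7375) (iv F23364)
theorem F33869 : act 3 n10503 = n9683 := d8_2 F33861 D10503 (iv F33866)
theorem F33870 : act 4 n10503 = n10093 := d9_2 (iv F33827) D10503 (iv F33824)
theorem F33871 : act 5 n10503 = n9779 := d10_2 F32407 D10503 F31302 D10058 (iv F32403)
theorem F33872 : act 6 n10503 = n9679 := d11_2 F33148 D10503 (iv F33146)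
theorem F33873 : act 7 n10503 = n10495 := d12_2 (iv F32401) D10503 F33824
def n10504 : Q := act 0 n8979
theorem D10504 : act 0 n8979 = n10504 := rfl
theorem F33874 : act 1 n10504 = n10504 := d0_2 D8979 D10504 (iv D10504) (iv D8979) F23421
theorem F33875 : act 3 n10504 = n8980 := d2_2 (iv F28652) D10504 (iv D8980)
theorem F33876 : act 4 n10504 = n9704 := d3_2 (iv F28653) D10504 F31043
theorem F33877 : act 6 n10504 = n9943 := d5_2 (iv F28654) D10504 F31860
theorem F33878 : act 7 n10504 = n9702 := d6_2 (iv F28655) D10504 F31037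
def n10505 : Q := act 2 n8979
theorem D10505 : act 2 n8979 = n10505 := rfl
theorem F33879 : act 1 n10505 = n10017 := d7_1 D10505 F32134 F28504 F26471 D8979
theorem F33880 : act 4 n10505 = n9805 := d14_2 (iv F28653) D10505 F31390
theorem F33881 : act 6 n10505 = n10313 := d16_2 (iv F28654) D10505 F33249
theorem F33882 : act 7 n10505 = n9803 := d17_2 (iv F28655) D10505 F31384
def n10506 : Q := act 2 n8980
theorem D10506 : act 2 n8980 = n10506 := rfl
theorem F33883 : act 0 n10506 = n8981 := d1_1 D10506 (iv D8981) D8980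
theorem F33884 : act 4 n10506 = n8995 := d14_2 (iv F28657) D10506 (iv D8995)
theorem F33885 : act 7 n10506 = n9064 := d17_2 F33771 D10506 (iv F33767)
theorem F33886 : act 1 n9065 = n10506 := d30_2 F27661 (iv F28921) (iv D10506) (iv F33875) F33878 (iv D9702) F25752 F23030 F18905 F18854 (iv D6010) (iv F15528) F15527 (iv D4095) (iv F12697) F17129 (iv D5471) (iv D4044) (iv F9953) (iv F13794) F13824 (iv D4461) (iv D3201) D3200 F9876 (iv F12877) (iv F17552) (iv F22380) D8666
def n10507 : Q := act 3 n8981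
theorem D10507 : act 3 n8981 = n10507 := rfl
theorem F33887 : act 1 n10507 = n8999 := d8_1 D10507 (iv D8999) (iv F28658)
def n10508 : Q := act 0 n8982
theorem D10508 : act 0 n8982 = n10508 := rfl
theorem F33888 : act 5 n10508 = n8984 := d4_2 (iv F28660) D10508 (iv D8984)
def n10509 : Q := act 2 n8982
theorem D10509 : act 2 n8982 = n10509 := rfl
theorem F33889 : act 1 n10509 = n9282 := d7_1 D10509 (iv D9282) (iv D7679) (iv F23429) D8982
theorem F33890 : act 5 n10509 = n8985 := d15_2 (iv F28660) D10509 (iv D8985)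
def n10510 : Q := act 2 n8984
theorem D10510 : act 2 n8984 = n10510 := rfl
theorem F33891 : act 0 n10510 = n8985 := d1_1 D10510 (iv D8985) D8984
theorem F33892 : act 6 n10510 = n8995 := d16_2 (iv F28666) D10510 (iv D8995)
def n10511 : Q := act 3 n8985
theorem D10511 : act 3 n8985 = n10511 := rfl
theorem F33893 : act 1 n10511 = n9001 := d8_1 D10511 (iv D9001) (iv F28667)
theorem F33894 : act 6 n10511 = n8996 := d20_2 (iv F28668) D10511 (iv D8996)
def n10512 : Q := act 3 n8993
theorem D10512 : act 3 n8993 = n10512 := rfl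
theorem F33895 : act 0 n10512 = n9224 := d2_1 D10512 (iv D9224) (iv F28708)
theorem F33896 : act 1 n10512 = n10411 := d8_1 D10512 (iv D10411) (iv F28709)
theorem F33897 : act 2 n10512 = n8996 := d13_1 D10512 (iv D8996) (iv D7406) (iv F23464) D8993
theorem F33898 : act 7 n10512 = n9042 := d21_2 F28711 D10512 F28847 F23584 (iv F23594)
def n10513 : Q := act 3 n8995
theorem D10513 : act 3 n8995 = n10513 := rfl
theorem F33899 : act 0 n10513 = n8996 := d2_1 D10513 (iv D8996) (iv F28718)
theorem F33900 : act 2 n10513 = n9224 := d13_1 D10513 (iv D9224) (iv F28707) F28705 D8995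
def n10514 : Q := act 4 n8996
theorem D10514 : act 4 n8996 = n10514 := rfl
theorem F33901 : act 1 n10514 = n9009 := d9_1 D10514 (iv D9009) (iv F28719)
def n10515 : Q := act 7 n8996
theorem D10515 : act 7 n8996 = n10515 := rfl
theorem F33902 : act 1 n10515 = n9010 := d12_1 D10515 (iv D9010) (iv F28719)
theorem F33903 : act 2 n10515 = n9042 := d17_1 D10515 (iv F33898) F33897
theorem F33904 : act 6 n9040 = n10515 := d16_0 F33903 (iv D9042) D9040
def n10516 : Q := act 2 n8997
theorem D10516 : act 2 n8997 = n10516 := rfl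
theorem F33905 : act 0 n10516 = n10486 := d1_1 D10516 (iv D10486) F28722
theorem F33906 : act 1 n10516 = n8998 := d7_1 D10516 (iv D8998) (iv D7408) (iv F23473) D8997
theorem F33907 : act 7 n10516 = n10516 := d17_2 F28721 D10516 (iv D10516)
def n10517 : Q := act 3 n8998
theorem D10517 : act 3 n8998 = n10517 := rfl
theorem F33908 : act 2 n10517 = n8999 := d13_1 D10517 (iv D8999) (iv D7409) (iv F23475) D8998
theorem F33909 : act 5 n10517 = n9013 := d19_2 (iv F28723) D10517 (iv D9013)
def n10518 : Q := act 4 n8999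
theorem D10518 : act 4 n8999 = n10518 := rfl
theorem F33910 : act 3 n10518 = n9009 := d18_1 D10518 (iv D9009) (iv D7418) (iv F23478) D8999
theorem F33911 : act 5 n10518 = n9014 := d22_2 (iv F28725) D10518 (iv D9014)
def n10519 : Q := act 7 n8999
theorem D10519 : act 7 n8999 = n10519 := rfl
theorem F33912 : act 0 n10519 = n9103 := d6_1 D10519 (iv F30451) F30448
theorem F33913 : act 3 n10519 = n9102 := d21_1 D10519 (iv D9102) F25390 F25389 D8999
theorem F33914 : act 5 n10519 = n9015 := d26_1 D10519 (iv D9015) (iv F28725)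
def n10520 : Q := act 4 n9001
theorem D10520 : act 4 n9001 = n10520 := rfl
theorem F33915 : act 5 n10520 = n9314 := d22_2 (iv F28731) D10520 (iv D9314)
theorem F33916 : act 6 n10520 = n9009 := d23_2 (iv F28732) D10520 (iv D9009)
def n10521 : Q := act 7 n9001
theorem D10521 : act 7 n9001 = n10521 := rfl
theorem F33917 : act 5 n10521 = n9315 := d26_1 D10521 (iv D9315) (iv F28731)
def n10522 : Q := act 5 n9002
theorem D10522 : act 5 n9002 = n10522 := rfl
theorem F33918 : act 0 n10522 = n9886 := d4_1 D10522 (iv D9886) (iv F28733)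
theorem F33919 : act 2 n10522 = n9880 := d15_1 D10522 (iv D9880) (iv F28735)
theorem F33920 : act 3 n10522 = n9003 := d19_1 D10522 (iv D9003) (iv F28736)
def n10523 : Q := act 1 n9003
theorem D10523 : act 1 n9003 = n10523 := rfl
theorem F33921 : act 4 n10523 = n9004 := d9_2 (iv F28739) D10523 (iv D9004)
theorem F33922 : act 5 n10523 = n9007 := d10_2 D9003 D10523 (iv D9007) (iv D7416) (iv F23491)
theorem F33923 : act 7 n10523 = n9413 := d12_2 (iv F28740) D10523 (iv D9413)
def n10524 : Q := act 1 n9005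
theorem D10524 : act 1 n9005 = n10524 := rfl
theorem F33924 : act 3 n10524 = n9007 := d8_2 (iv F28743) D10524 (iv D9007)
theorem F33925 : act 4 n10524 = n9629 := d9_2 (iv F28744) D10524 F30720
theorem F33926 : act 6 n10524 = n9628 := d11_2 (iv F28745) D10524 F30717
theorem F33927 : act 7 n10524 = n9631 := d12_2 (iv F28746) D10524 F30727
theorem F33928 : act 0 n9899 = n10524 := d5_3 F33926 F30716 (iv F31671)
def n10525 : Q := act 0 n9007
theorem D10525 : act 0 n9007 = n10525 := rfl
theorem F33929 : act 1 n10525 = n10525 := d0_2 D9007 D10525 (iv D10525) (iv D9007) F23498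
theorem F33930 : act 3 n10525 = n9899 := d2_2 F33924 D10525 F33928
theorem F33931 : act 4 n10525 = n9008 := d3_2 (iv F28752) D10525 (iv D9008)
theorem F33932 : act 6 n10525 = n9528 := d5_2 F32387 D10525 F32389
theorem F33933 : act 7 n10525 = n9432 := d6_2 (iv F28753) D10525 (iv D9432)
def n10526 : Q := act 7 n9009
theorem D10526 : act 7 n9009 = n10526 := rfl
theorem F33934 : act 4 n10526 = n9010 := d24_1 D10526 (iv D9010) D9009
theorem F33935 : act 5 n10526 = n9020 := d26_1 D10526 (iv D9020) (iv F28757)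
def n10527 : Q := act 6 n9010
theorem D10527 : act 6 n9010 = n10527 := rfl
theorem F33936 : act 1 n10527 = n9040 := d11_1 D10527 F33904 F33902
theorem F33937 : act 3 n10527 = n9672 := d20_1 D10527 F30894 F30743
theorem F33938 : act 5 n10527 = n9675 := d29_5 (iv F33194) F33193 F28210 (iv F28758) D10527 F30904 (iv F30297) F30036 (iv F30319) F30317 (iv D7870) F19462 F19463 F17112 (iv F17813) F17812 (iv F20387) (iv F21029) (iv D6695) F15815 F11533 F8102 (iv F9151) (iv F12945) F12944 (iv F13081) (iv F17835) (iv F22718) (iv F27981)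
def n10528 : Q := act 2 n9011
theorem D10528 : act 2 n9011 = n10528 := rfl
theorem F33939 : act 0 n10528 = n9907 := d1_1 D10528 F31700 (iv F28759)
theorem F33940 : act 4 n10528 = n9924 := d14_2 (iv F28761) D10528 (iv D9924)
theorem F33941 : act 5 n10528 = n9012 := d15_2 (iv F28762) D10528 (iv D9012)
theorem F33942 : act 6 n10528 = n9905 := d16_2 (iv F28763) D10528 F31693
theorem F33943 : act 7 n10528 = n10528 := d17_2 F28764 D10528 (iv D10528)
def n10529 : Q := act 3 n9012
theorem D10529 : act 3 n9012 = n10529 := rfl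
theorem F33944 : act 1 n10529 = n9013 := d8_1 D10529 (iv D9013) (iv F28765)
theorem F33945 : act 2 n10529 = n9220 := d13_1 D10529 (iv D9220) F24112 (iv F23520) D9012
theorem F33946 : act 6 n10529 = n9335 := d20_2 (iv F28767) D10529 (iv D9335)
theorem F33947 : act 7 n10529 = n9222 := d29_9 F19032 F14234 (iv D3328) (iv F9641) D4372 D5837 D7423 D9012 D10529 F29444 (iv D9222) (iv F28282) (iv F33562) F33563 F29836 (iv F28786) F28787 (iv D8893) (iv D7282) (iv F23029) F23028 (iv D6566) (iv D5004) (iv D3650) (iv F11148) D4969 F15398 F17630 (iv F19033)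
def n10530 : Q := act 4 n9013
theorem D10530 : act 4 n9013 = n10530 := rfl
theorem F33948 : act 2 n10530 = n9014 := d14_1 D10530 (iv D9014) (iv F28769)
theorem F33949 : act 6 n10530 = n9338 := d23_2 (iv F28770) D10530 (iv D9338)
def n10531 : Q := act 7 n9013
theorem D10531 : act 7 n9013 = n10531 := rfl
theorem F33950 : act 0 n10531 = n9545 := d6_1 D10531 F30411 F30348
theorem F33951 : act 1 n10531 = n9222 := d12_1 D10531 (iv F33947) F33944
theorem F33952 : act 2 n10531 = n9015 := d17_1 D10531 (iv D9015) (iv F28769)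
theorem F33953 : act 3 n10531 = n10531 := d21_1 D10531 (iv D10531) (iv D9013) F23525 D9013
theorem F33954 : act 6 n9420 = n10531 := d11_0 F33951 F29446 D9420
def n10532 : Q := act 7 n9014
theorem D10532 : act 7 n9014 = n10532 := rfl
theorem F33955 : act 0 n10532 = n9546 := d6_1 D10532 F30437 F30433
theorem F33956 : act 4 n10532 = n9015 := d24_1 D10532 (iv D9015) D9014
def n10533 : Q := act 6 n9015
theorem D10533 : act 6 n9015 = n10533 := rfl
theorem F33957 : act 0 n10533 = n9547 := d5_1 D10533 (iv D9547) (iv F28773)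
theorem F33958 : act 1 n10533 = n9038 := d11_1 D10533 (iv F33476) F33473
theorem F33959 : act 2 n10533 = n9420 := d16_1 D10533 F33954 F33952
theorem F33960 : act 3 n10533 = n9544 := d20_1 D10533 (iv D9544) (iv F28774)
theorem F33961 : act 7 n10533 = n9345 := d27_2 D9015 D10533 (iv D9345) (iv D7726) (iv F23526)
def n10534 : Q := act 7 n9016
theorem D10534 : act 7 n9016 = n10534 := rfl
theorem F33962 : act 0 n10534 = n10332 := d6_1 D10534 F33309 (iv F28775)
theorem F33963 : act 2 n10534 = n10331 := d17_1 D10534 F33306 F32963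
theorem F33964 : act 4 n10534 = n9018 := d24_1 D10534 (iv D9018) (iv F28777)
theorem F33965 : act 5 n10534 = n9017 := d26_1 D10534 (iv D9017) D9016
theorem F33966 : act 6 n10534 = n9417 := d27_1 D10534 F30017 F24594 (iv F23537) (iv F28778)
def n10535 : Q := act 3 n9017
theorem D10535 : act 3 n9017 = n10535 := rfl
theorem F33967 : act 0 n10535 = n10385 := d2_1 D10535 (iv D10385) (iv F28779)
theorem F33968 : act 1 n10535 = n9042 := d8_1 D10535 F28847 (iv F28780)
theorem F33969 : act 2 n10535 = n10386 := d13_1 D10535 (iv D10386) (iv D8833) (iv F28177) (iv F28781)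
theorem F33970 : act 6 n10535 = n9024 := d20_2 (iv F28783) D10535 (iv D9024)
theorem F33971 : act 7 n10535 = n10411 := d21_2 D9017 D10535 (iv D10411) (iv D8856) (iv F23532)
def n10536 : Q := act 3 n9018
theorem D10536 : act 3 n9018 = n10536 := rfl
theorem F33972 : act 2 n10536 = n10444 := d13_1 D10536 (iv D10444) F28357 D8894 (iv F28784)
theorem F33973 : act 5 n10536 = n9019 := d19_2 (iv F28785) D10536 (iv D9019)
def n10537 : Q := act 4 n9019
theorem D10537 : act 4 n9019 = n10537 := rfl
theorem F33974 : act 1 n10537 = n9353 := d9_1 D10537 (iv D9353) (iv F28786)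
theorem F33975 : act 2 n10537 = n10446 := d14_1 D10537 (iv D10446) (iv F28787)
theorem F33976 : act 6 n10537 = n9026 := d23_2 (iv F28788) D10537 (iv D9026)
def n10538 : Q := act 3 n9020
theorem D10538 : act 3 n9020 = n10538 := rfl
def n10539 : Q := act 6 n9020
theorem D10539 : act 6 n9020 = n10539 := rfl
theorem F33977 : act 4 n10539 = n9021 := d23_1 D10539 (iv D9021) (iv F28789)
theorem F33978 : act 7 n10539 = n9369 := d27_2 D9020 D10539 (iv D9369) (iv D7742) (iv F23542)
def n10540 : Q := act 5 n9021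
theorem D10540 : act 5 n9021 = n10540 := rfl
theorem F33979 : act 3 n10540 = n9676 := d19_1 D10540 F30909 F30758
theorem F33980 : act 6 n10540 = n9675 := d25_2 D9021 D10540 (iv F33938) (iv D10527) F28758
theorem F33981 : act 7 n10540 = n9370 := d26_2 (iv F28790) D10540 (iv D9370)
def n10541 : Q := act 3 n9022
theorem D10541 : act 3 n9022 = n10541 := rfl
theorem F33982 : act 0 n10541 = n9025 := d2_1 D10541 (iv D9025) (iv F28791)
theorem F33983 : act 5 n10541 = n9023 := d19_2 (iv F28793) D10541 (iv D9023)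
theorem F33984 : act 7 n10541 = n9034 := d21_2 D9022 D10541 (iv D9034) (iv D7443) (iv F23544)
def n10542 : Q := act 4 n9023
theorem D10542 : act 4 n9023 = n10542 := rfl
theorem F33985 : act 0 n10542 = n9026 := d3_1 D10542 (iv D9026) (iv F28794)
theorem F33986 : act 7 n10542 = n9037 := d24_2 (iv F28795) D10542 (iv D9037)
def n10543 : Q := act 4 n9024
theorem D10543 : act 4 n9024 = n10543 := rfl
theorem F33987 : act 1 n10543 = n9041 := d9_1 D10543 (iv D9041) (iv F28796)
theorem F33988 : act 3 n10543 = n9026 := d18_1 D10543 (iv D9026) (iv D7437) (iv F23549) D9024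
theorem F33989 : act 5 n10543 = n9415 := d22_2 (iv F28797) D10543 (iv D9415)
theorem F33990 : act 7 n10543 = n9419 := d24_2 (iv F28798) D10543 (iv D9419)
def n10544 : Q := act 4 n9025
theorem D10544 : act 4 n9025 = n10544 := rfl
theorem F33991 : act 1 n10544 = n9419 := d9_1 D10544 (iv D9419) (iv F28799)
theorem F33992 : act 3 n10544 = n9415 := d18_1 D10544 (iv D9415) (iv D7780) (iv F23552) D9025
theorem F33993 : act 5 n10544 = n9026 := d22_2 (iv F28800) D10544 (iv D9026)
theorem F33994 : act 7 n10544 = n9041 := d24_2 (iv F28801) D10544 (iv D9041)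
def n10545 : Q := act 7 n9027
theorem D10545 : act 7 n9027 = n10545 := rfl
theorem F33995 : act 0 n10545 = n9389 := d6_1 D10545 (iv D9389) (iv F28804)
theorem F33996 : act 1 n10545 = n9371 := d12_1 D10545 (iv D9371) (iv F28805)
theorem F33997 : act 2 n10545 = n10269 := d17_1 D10545 (iv F33127) F32926
theorem F33998 : act 4 n10545 = n9031 := d24_1 D10545 (iv D9031) (iv F28807)
theorem F33999 : act 5 n10545 = n9028 := d26_1 D10545 (iv D9028) D9027
def n10546 : Q := act 3 n9028
theorem D10546 : act 3 n9028 = n10546 := rfl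
theorem F34000 : act 0 n10546 = n9390 := d2_1 D10546 (iv D9390) (iv F28809)
theorem F34001 : act 1 n10546 = n9029 := d8_1 D10546 (iv D9029) (iv F28810)
theorem F34002 : act 2 n10546 = n10511 := d13_1 D10546 (iv D10511) (iv D8985) (iv F28661) (iv F28811)
theorem F34003 : act 6 n10546 = n10512 := d20_2 (iv F28813) D10546 (iv D10512)
theorem F34004 : act 7 n10546 = n9402 := d21_2 D9028 D10546 (iv D9402) (iv D7769) (iv F23558)
def n10547 : Q := act 2 n9029
theorem D10547 : act 2 n9029 = n10547 := rfl
theorem F34005 : act 0 n10547 = n9038 := d1_1 D10547 (iv D9038) (iv F28814)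
theorem F34006 : act 1 n10547 = n9494 := d7_1 D10547 F30254 (iv F33893) (iv F34002) F34001
theorem F34007 : act 3 n10547 = n9492 := d13_2 D9029 D10547 F30248 F28726 F27126
theorem F34008 : act 5 n10547 = n9373 := d15_2 (iv F28815) D10547 (iv D9373)
theorem F34009 : act 6 n10547 = n9491 := d16_2 F33548 D10547 (iv F33547)
theorem F34010 : act 7 n10547 = n9403 := d17_2 (iv F28816) D10547 (iv D9403)
def n10548 : Q := act 4 n9029
theorem D10548 : act 4 n9029 = n10548 := rfl
theorem F34011 : act 0 n10548 = n9039 := d3_1 D10548 (iv D9039) (iv F28814)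
theorem F34012 : act 3 n10548 = n9037 := d18_1 D10548 (iv D9037) (iv D7444) (iv F23561) D9029
theorem F34013 : act 5 n10548 = n9374 := d22_2 (iv F28815) D10548 (iv D9374)
theorem F34014 : act 7 n10548 = n9404 := d24_2 (iv F28816) D10548 (iv D9404)
def n10549 : Q := act 7 n9030
theorem D10549 : act 7 n9030 = n10549 := rfl
theorem F34015 : act 1 n10549 = n9031 := d12_1 D10549 (iv D9031) D9030
theorem F34016 : act 2 n10549 = n10266 := d17_1 D10549 (iv F33112) F28820
theorem F34017 : act 4 n10549 = n9371 := d24_1 D10549 (iv D9371) (iv F28817)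
theorem F34018 : act 5 n10549 = n9033 := d26_1 D10549 (iv D9033) (iv F28818)
theorem F34019 : act 6 n10549 = n9201 := d27_1 D10549 (iv D9201) F24072 F23621 (iv F28819)
def n10550 : Q := act 3 n9031
theorem D10550 : act 3 n9031 = n10550 := rfl
theorem F34020 : act 0 n10550 = n9397 := d2_1 D10550 (iv D9397) (iv F28821)
theorem F34021 : act 5 n10550 = n9032 := d19_2 (iv F28822) D10550 (iv D9032)
def n10551 : Q := act 6 n9031
theorem D10551 : act 6 n9031 = n10551 := rfl
theorem F34022 : act 0 n10551 = n9398 := d5_1 D10551 (iv D9398) (iv F28821)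
theorem F34023 : act 1 n10551 = n9201 := d11_1 D10551 (iv F34019) F34015
theorem F34024 : act 7 n10551 = n9052 := d27_2 D9031 D10551 (iv D9052) (iv D7461) (iv F23564)
def n10552 : Q := act 4 n9032
theorem D10552 : act 4 n9032 = n10552 := rfl
theorem F34025 : act 0 n10552 = n9400 := d3_1 D10552 (iv D9400) (iv F28823)
theorem F34026 : act 1 n10552 = n9037 := d9_1 D10552 (iv D9037) (iv F28824)
def n10553 : Q := act 3 n9033
theorem D10553 : act 3 n9033 = n10553 := rfl
theorem F34027 : act 1 n10553 = n9034 := d8_1 D10553 (iv D9034) (iv F28825)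
theorem F34028 : act 6 n10553 = n9209 := d20_2 (iv F28828) D10553 (iv D9209)
def n10554 : Q := act 2 n9034
theorem D10554 : act 2 n9034 = n10554 := rfl
theorem F34029 : act 0 n10554 = n9040 := d1_1 D10554 (iv D9040) (iv F28829)
theorem F34030 : act 5 n10554 = n9036 := d15_2 (iv F28830) D10554 (iv D9036)
def n10555 : Q := act 4 n9034
theorem D10555 : act 4 n9034 = n10555 := rfl
theorem F34031 : act 0 n10555 = n9041 := d3_1 D10555 (iv D9041) (iv F28829)
theorem F34032 : act 3 n10555 = n9374 := d18_1 D10555 (iv D9374) (iv D7746) (iv F23571) D9034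
theorem F34033 : act 5 n10555 = n9037 := d22_2 (iv F28830) D10555 (iv D9037)
def n10556 : Q := act 6 n9034
theorem D10556 : act 6 n9034 = n10556 := rfl
theorem F34034 : act 0 n10556 = n9042 := d5_1 D10556 (iv D9042) (iv F28829)
theorem F34035 : act 1 n10556 = n9209 := d11_1 D10556 (iv F34028) F34027
theorem F34036 : act 3 n10556 = n9035 := d20_1 D10556 (iv D9035) D9034
theorem F34037 : act 7 n9224 = n10556 := d21_0 F34036 F28835 F23577 D7618 D9224
def n10557 : Q := act 1 n9036
theorem D10557 : act 1 n9036 = n10557 := rfl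
def n10558 : Q := act 4 n9036
theorem D10558 : act 4 n9036 = n10558 := rfl
theorem F34038 : act 0 n10558 = n9043 := d3_1 D10558 (iv D9043) (iv F28836)
theorem F34039 : act 2 n10558 = n9037 := d14_1 D10558 (iv D9037) D9036
def n10559 : Q := act 4 n9038
theorem D10559 : act 4 n9038 = n10559 := rfl
theorem F34040 : act 2 n10559 = n9039 := d14_1 D10559 (iv D9039) D9038
theorem F34041 : act 5 n10559 = n9375 := d22_2 (iv F28838) D10559 (iv D9375)
theorem F34042 : act 7 n10559 = n9422 := d24_2 (iv F28839) D10559 (iv D9422)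
def n10560 : Q := act 4 n9040
theorem D10560 : act 4 n9040 = n10560 := rfl
theorem F34043 : act 2 n10560 = n9041 := d14_1 D10560 (iv D9041) D9040
theorem F34044 : act 5 n10560 = n9043 := d22_2 (iv F28844) D10560 (iv D9043)
def n10561 : Q := act 6 n9041
theorem D10561 : act 6 n9041 = n10561 := rfl
theorem F34045 : act 3 n10561 = n9353 := d20_1 D10561 F29840 (iv F28845)
theorem F34046 : act 4 n10561 = n9042 := d23_1 D10561 (iv D9042) D9041
def n10562 : Q := act 3 n9043
theorem D10562 : act 3 n9043 = n10562 := rfl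
def n10563 : Q := act 5 n9044
theorem D10563 : act 5 n9044 = n10563 := rfl
theorem F34047 : act 0 n10563 = n9444 := d4_1 D10563 (iv D9444) (iv F28849)
theorem F34048 : act 2 n10563 = n9461 := d15_1 D10563 F30138 (iv F28851)
theorem F34049 : act 3 n10563 = n9045 := d19_1 D10563 (iv D9045) (iv F28852)
def n10564 : Q := act 7 n9044
theorem D10564 : act 7 n9044 = n10564 := rfl
theorem F34050 : act 0 n10564 = n9445 := d6_1 D10564 (iv D9445) (iv F28849)
theorem F34051 : act 1 n10564 = n9056 := d12_1 D10564 (iv D9056) (iv F28850)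
theorem F34052 : act 2 n10564 = n9463 := d17_1 D10564 (iv D9463) (iv F28851)
theorem F34053 : act 6 n10564 = n10484 := d27_1 D10564 F33783 (iv D10031) F26903 D9044
theorem F34054 : act 3 n10557 = n10564 := d8_0 F34051 (iv F28892) D10557
def n10565 : Q := act 1 n9045
theorem D10565 : act 1 n9045 = n10565 := rfl
theorem F34055 : act 2 n10565 = n9439 := d7_2 (iv F28854) D10565 (iv D9439) F24667 (iv F23606)
theorem F34056 : act 4 n10565 = n9048 := d9_2 (iv F28855) D10565 (iv D9048)
theorem F34057 : act 5 n10565 = n9058 := d10_2 D9045 D10565 (iv D9058) (iv D7467) (iv F23602)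
theorem F34058 : act 6 n10565 = n10270 := d11_2 F32928 D10565 F33129
theorem F34059 : act 0 n10281 = n10565 := d5_3 F34058 F33128 D10281
def n10566 : Q := act 7 n9045
theorem D10566 : act 7 n9045 = n10566 := rfl
theorem F34060 : act 0 n10566 = n9447 := d6_1 D10566 (iv D9447) (iv F28853)
theorem F34061 : act 2 n10566 = n9047 := d17_1 D10566 (iv D9047) (iv F28854)
theorem F34062 : act 4 n10566 = n9049 := d24_1 D10566 (iv D9049) (iv F28855)
theorem F34063 : act 5 n10566 = n9046 := d26_1 D10566 (iv D9046) D9045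
def n10567 : Q := act 3 n9046
theorem D10567 : act 3 n9046 = n10567 := rfl
theorem F34064 : act 0 n10567 = n9448 := d2_1 D10567 (iv D9448) (iv F28856)
theorem F34065 : act 1 n10567 = n9060 := d8_1 D10567 (iv D9060) (iv F28857)
theorem F34066 : act 2 n10567 = n10355 := d13_1 D10567 (iv D10355) F28096 (iv F23611) (iv F28858)
theorem F34067 : act 6 n10567 = n10379 := d20_2 (iv F28860) D10567 F33448
theorem F34068 : act 7 n10567 = n10557 := d21_2 D9046 D10567 F34054 (iv D10564) F28852
def n10568 : Q := act 6 n9047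
theorem D10568 : act 6 n9047 = n10568 := rfl
theorem F34069 : act 0 n10568 = n9449 := d5_1 D10568 (iv D9449) (iv F28861)
theorem F34070 : act 1 n10568 = n9199 := d11_1 D10568 F29375 (iv F28862)
theorem F34071 : act 3 n10568 = n10391 := d20_1 D10568 (iv D10391) (iv F28863)
theorem F34072 : act 4 n10568 = n9052 := d23_1 D10568 (iv D9052) (iv F28864)
theorem F34073 : act 5 n10568 = n10397 := d25_1 D10568 F33500 F28220 (iv F23613) (iv F28865)
def n10569 : Q := act 0 n9048
theorem D10569 : act 0 n9048 = n10569 := rfl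
theorem F34074 : act 1 n10569 = n9455 := d0_2 D9048 D10569 (iv D9455) (iv D7819) (iv F23614)
theorem F34075 : act 4 n10569 = n10281 := d3_2 F34056 D10569 F34059
theorem F34076 : act 5 n10569 = n9067 := d4_2 (iv F28866) D10569 (iv D9067)
theorem F34077 : act 6 n10569 = n10272 := d5_2 F32931 D10569 F33135
theorem F34078 : act 2 n10274 = n10569 := d16_3 F34077 F33136 D10274
def n10570 : Q := act 2 n9048
theorem D10570 : act 2 n9048 = n10570 := rfl
theorem F34079 : act 0 n10570 = n10274 := d1_1 D10570 F34078 (iv D10569)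
theorem F34080 : act 1 n10570 = n9051 := d7_1 D10570 (iv D9051) (iv D7460) (iv F23615) D9048
theorem F34081 : act 4 n10570 = n9439 := d14_2 F34056 D10570 (iv F34055)
theorem F34082 : act 5 n10570 = n9068 := d15_2 (iv F28866) D10570 (iv D9068)
theorem F34083 : act 6 n10570 = n10267 := d16_2 F32931 D10570 F33115
theorem F34084 : act 7 n9180 = n10570 := d27_0 F34083 (iv D10267) F27896 (iv F31597) (iv F31598)
def n10571 : Q := act 7 n9048
theorem D10571 : act 7 n9048 = n10571 := rfl
theorem F34085 : act 1 n10571 = n9049 := d12_1 D10571 (iv D9049) D9048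
theorem F34086 : act 2 n10571 = n9180 := d17_1 D10571 F34084 (iv D10570)
theorem F34087 : act 5 n10571 = n9069 := d26_1 D10571 (iv D9069) (iv F28866)
def n10572 : Q := act 3 n9049
theorem D10572 : act 3 n9049 = n10572 := rfl
theorem F34088 : act 0 n10572 = n9458 := d2_1 D10572 (iv D9458) (iv F28867)
theorem F34089 : act 2 n10572 = n9355 := d13_1 D10572 (iv D9355) (iv D7733) F23625 (iv F28868)
theorem F34090 : act 5 n10572 = n9050 := d19_2 (iv F28869) D10572 (iv D9050)
def n10573 : Q := act 6 n9049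
theorem D10573 : act 6 n9049 = n10573 := rfl
theorem F34091 : act 0 n10573 = n9459 := d5_1 D10573 (iv D9459) (iv F28867)
theorem F34092 : act 2 n10573 = n9052 := d16_1 D10573 (iv D9052) (iv F28868)
def n10574 : Q := act 4 n9050
theorem D10574 : act 4 n9050 = n10574 := rfl
theorem F34093 : act 0 n10574 = n9460 := d3_1 D10574 (iv D9460) (iv F28870)
theorem F34094 : act 1 n10574 = n9072 := d9_1 D10574 (iv D9072) (iv F28871)
theorem F34095 : act 2 n10574 = n9357 := d14_1 D10574 (iv D9357) (iv F28872)
def n10575 : Q := act 3 n9051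
theorem D10575 : act 3 n9051 = n10575 := rfl
theorem F34096 : act 4 n10575 = n10472 := d18_2 (iv F28873) D10575 F33736 F28442 (iv F24668)
theorem F34097 : act 5 n10575 = n9053 := d19_2 (iv F28874) D10575 (iv D9053)
theorem F34098 : act 6 n10575 = n10459 := d20_2 (iv F28875) D10575 F33682
def n10576 : Q := act 7 n9053
theorem D10576 : act 7 n9053 = n10576 := rfl
theorem F34099 : act 0 n10576 = n9966 := d6_1 D10576 F31944 F29426
theorem F34100 : act 1 n10576 = n9074 := d12_1 D10576 (iv D9074) (iv F28880)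
theorem F34101 : act 3 n10576 = n9140 := d21_1 D10576 (iv D9140) F23877 (iv F23629) D9053
theorem F34102 : act 4 n10576 = n10473 := d24_1 D10576 (iv D10473) (iv F28881)
theorem F34103 : act 6 n10576 = n10576 := d27_1 D10576 (iv D10576) F28882 F23633 (iv F28882)
def n10577 : Q := act 7 n9054
theorem D10577 : act 7 n9054 = n10577 := rfl
theorem F34104 : act 0 n10577 = n9081 := d6_1 D10577 (iv D9081) (iv F28883)
theorem F34105 : act 2 n10577 = n9628 := d17_1 D10577 (iv D9628) (iv F28884)
theorem F34106 : act 4 n10577 = n9056 := d24_1 D10577 (iv D9056) (iv F28886)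
def n10578 : Q := act 1 n9055
theorem D10578 : act 1 n9055 = n10578 := rfl
theorem F34107 : act 0 n10578 = n10478 := d0_1 D10578 F33752 F30761 F25558 (iv F28887)
theorem F34108 : act 2 n10578 = n10276 := d7_2 (iv F28888) D10578 F33150 (iv F28600) F28599
theorem F34109 : act 3 n10578 = n9058 := d8_2 (iv F28889) D10578 (iv D9058)
theorem F34110 : act 4 n10578 = n10275 := d9_2 F30925 D10578 F33146
theorem F34111 : act 6 n10578 = n10495 := d11_2 F32400 D10578 F33824
def n10579 : Q := act 7 n9055
theorem D10579 : act 7 n9055 = n10579 := rfl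
theorem F34112 : act 0 n10579 = n9083 := d6_1 D10579 (iv D9083) (iv F28887)
theorem F34113 : act 2 n10579 = n9626 := d17_1 D10579 (iv D9626) (iv F28888)
theorem F34114 : act 5 n10579 = n9056 := d26_1 D10579 (iv D9056) D9055
theorem F34115 : act 3 n10554 = n10579 := d19_3 F34114 (iv F28892) (iv F34030)
def n10580 : Q := act 6 n9056
theorem D10580 : act 6 n9056 = n10580 := rfl
theorem F34116 : act 0 n10580 = n9084 := d5_1 D10580 (iv D9084) (iv F28890)
theorem F34117 : act 1 n10580 = n10484 := d11_1 D10580 (iv F34053) F34051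
theorem F34118 : act 2 n10580 = n9629 := d16_1 D10580 (iv D9629) (iv F28891)
theorem F34119 : act 3 n10580 = n10415 := d20_1 D10580 F33559 F28892
theorem F34120 : act 7 n10580 = n9057 := d27_2 D9056 D10580 (iv D9057) (iv D7466) D7465
def n10581 : Q := act 5 n9057
theorem D10581 : act 5 n9057 = n10581 := rfl
theorem F34121 : act 0 n10581 = n9085 := d4_1 D10581 (iv D9085) (iv F28893)
theorem F34122 : act 2 n10581 = n9634 := d15_1 D10581 (iv D9634) (iv F28894)
def n10582 : Q := act 7 n9058
theorem D10582 : act 7 n9058 = n10582 := rfl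
theorem F34123 : act 0 n10582 = n10050 := d6_1 D10582 F32236 F28898
theorem F34124 : act 1 n10582 = n9059 := d12_1 D10582 (iv D9059) D9058
theorem F34125 : act 2 n10582 = n9181 := d17_1 D10582 F29305 (iv F28895)
theorem F34126 : act 4 n10582 = n9069 := d24_1 D10582 (iv D9069) (iv F28896)
theorem F34127 : act 6 n10582 = n10035 := d27_1 D10582 (iv D10035) F26919 D8956 (iv F28897)
def n10583 : Q := act 3 n9059
theorem D10583 : act 3 n9059 = n10583 := rfl
theorem F34128 : act 0 n10583 = n9088 := d2_1 D10583 (iv D9088) (iv F28899)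
theorem F34129 : act 2 n10583 = n10541 := d13_1 D10583 (iv D10541) F28911 (iv D9061) (iv F28900)
theorem F34130 : act 5 n10583 = n9060 := d19_2 (iv F28902) D10583 (iv D9060)
theorem F34131 : act 7 n10583 = n10554 := d21_2 D9059 D10583 F34115 (iv D10579) F28889
def n10584 : Q := act 6 n9059
theorem D10584 : act 6 n9059 = n10584 := rfl
theorem F34132 : act 0 n10584 = n9089 := d5_1 D10584 (iv D9089) (iv F28899)
theorem F34133 : act 1 n10584 = n10035 := d11_1 D10584 (iv F34127) F34124
theorem F34134 : act 2 n10584 = n9062 := d16_1 D10584 (iv D9062) (iv F28900)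
theorem F34135 : act 4 n10584 = n9071 := d23_1 D10584 (iv D9071) (iv F28901)
theorem F34136 : act 7 n10584 = n10034 := d27_2 D9059 D10584 F32186 (iv F28566) F27195
def n10585 : Q := act 4 n9060
theorem D10585 : act 4 n9060 = n10585 := rfl
theorem F34137 : act 0 n10585 = n9090 := d3_1 D10585 (iv D9090) (iv F28903)
theorem F34138 : act 2 n10585 = n10542 := d14_1 D10585 (iv D10542) (iv F28904)
theorem F34139 : act 3 n10585 = n9072 := d18_1 D10585 (iv D9072) (iv D7476) (iv F23647) D9060
theorem F34140 : act 7 n10585 = n10558 := d24_2 (iv F28905) D10585 (iv D10558)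
def n10586 : Q := act 3 n9063
theorem D10586 : act 3 n9063 = n10586 := rfl
theorem F34141 : act 0 n10586 = n9093 := d2_1 D10586 (iv D9093) (iv F28915)
def n10587 : Q := act 3 n9065
theorem D10587 : act 3 n9065 = n10587 := rfl
theorem F34142 : act 0 n10587 = n9095 := d2_1 D10587 (iv D9095) (iv F28919)
theorem F34143 : act 5 n10587 = n9066 := d19_2 (iv F28921) D10587 (iv D9066)
theorem F34144 : act 7 n10587 = n9070 := d21_2 D9065 D10587 (iv D9070) (iv D7475) (iv F23663)
theorem F34145 : act 2 n9184 = n10587 := d17_3 F34144 F28937 D9184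
def n10588 : Q := act 6 n9065
theorem D10588 : act 6 n9065 = n10588 := rfl
theorem F34146 : act 0 n10588 = n9096 := d5_1 D10588 (iv D9096) (iv F28919)
theorem F34147 : act 2 n10588 = n10588 := d16_1 D10588 (iv D10588) F28920
def n10589 : Q := act 4 n9066
theorem D10589 : act 4 n9066 = n10589 := rfl
theorem F34148 : act 0 n10589 = n9098 := d3_1 D10589 (iv D9098) (iv F28922)
theorem F34149 : act 2 n10589 = n9203 := d14_1 D10589 F29384 F28924
theorem F34150 : act 7 n10589 = n9072 := d24_2 (iv F28923) D10589 (iv D9072)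
def n10590 : Q := act 7 n9067
theorem D10590 : act 7 n9067 = n10590 := rfl
theorem F34151 : act 0 n10590 = n9069 := d6_1 D10590 (iv D9069) D9067
theorem F34152 : act 1 n10590 = n9102 := d12_1 D10590 (iv D9102) (iv F28925)
theorem F34153 : act 2 n10590 = n9182 := d17_1 D10590 F29310 F28928
theorem F34154 : act 4 n10590 = n10050 := d24_1 D10590 F32236 (iv F28926)
theorem F34155 : act 6 n10590 = n10041 := d27_1 D10590 (iv D10041) F26952 D8967 (iv F28927)
def n10591 : Q := act 3 n9068
theorem D10591 : act 3 n9068 = n10591 := rfl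
theorem F34156 : act 0 n10591 = n10479 := d2_1 D10591 F33757 (iv F28929)
theorem F34157 : act 1 n10591 = n9073 := d8_1 D10591 (iv D9073) (iv F28930)
theorem F34158 : act 2 n10591 = n10119 := d13_1 D10591 (iv F33768) F33767 F28918 D9068
theorem F34159 : act 4 n10591 = n10282 := d18_2 (iv F28931) D10591 F33165 (iv F27972) (iv F25248)
theorem F34160 : act 6 n10591 = n10111 := d20_2 (iv F28932) D10591 F32500
theorem F34161 : act 7 n10591 = n10113 := d30_5 D4412 D5880 D7474 D9068 D10591 (iv D10113) F27303 F23691 F23692 (iv F23031) (iv D7280) D7279 D8888 F28346 (iv D8711) F27538 (iv D8627) (iv F27527) (iv D8624) F22275 F18630 F13799 F9886 (iv D3203) (iv F9879) (iv F12880) (iv F17555) F17556 F13079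
def n10592 : Q := act 3 n9069
theorem D10592 : act 3 n9069 = n10592 := rfl
theorem F34162 : act 1 n10592 = n9070 := d8_1 D10592 (iv D9070) (iv F28934)
def n10593 : Q := act 6 n9069
theorem D10593 : act 6 n9069 = n10593 := rfl
theorem F34163 : act 0 n10593 = n10041 := d5_1 D10593 (iv F34155) F34151
theorem F34164 : act 1 n10593 = n9071 := d11_1 D10593 (iv D9071) (iv F28934)
theorem F34165 : act 2 n10593 = n9173 := d16_1 D10593 F29274 (iv F28935)
theorem F34166 : act 4 n10593 = n10035 := d23_1 D10593 (iv F34127) F34126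
theorem F34167 : act 7 n10593 = n10032 := d27_2 D9069 D10593 F32181 (iv F28538) F27222
theorem F34168 : act 5 n10033 = n10593 := d26_3 F34167 (iv D10032) D10033
def n10594 : Q := act 4 n9070
theorem D10594 : act 4 n9070 = n10594 := rfl
theorem F34169 : act 0 n10594 = n9106 := d3_1 D10594 (iv D9106) (iv F28936)
theorem F34170 : act 2 n10594 = n9183 := d14_1 D10594 (iv D9183) (iv F28937)
theorem F34171 : act 5 n10594 = n9072 := d22_2 (iv F28938) D10594 (iv D9072)
def n10595 : Q := act 6 n9070
theorem D10595 : act 6 n9070 = n10595 := rfl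
theorem F34172 : act 0 n10595 = n9107 := d5_1 D10595 (iv D9107) (iv F28936)
theorem F34173 : act 2 n10595 = n9176 := d16_1 D10595 F29286 (iv F28937)
theorem F34174 : act 3 n10595 = n9071 := d20_1 D10595 (iv D9071) D9070
def n10596 : Q := act 7 n9073
theorem D10596 : act 7 n9073 = n10596 := rfl
theorem F34175 : act 0 n10596 = n10596 := d6_1 D10596 (iv D10596) F28943
theorem F34176 : act 1 n10596 = n10113 := d12_1 D10596 (iv F34161) F34157
theorem F34177 : act 2 n10596 = n10596 := d17_1 D10596 (iv D10596) F28944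
theorem F34178 : act 3 n10596 = n9142 := d21_1 D10596 (iv D9142) F23881 (iv F23674) D9073
theorem F34179 : act 5 n10596 = n9074 := d26_1 D10596 (iv D9074) (iv F28945)
theorem F34180 : act 6 n10596 = n10106 := d27_1 D10596 (iv D10106) F27252 (iv F29589) F29588
def n10597 : Q := act 6 n9076
theorem D10597 : act 6 n9076 = n10597 := rfl
theorem F34181 : act 0 n10597 = n9631 := d5_1 D10597 (iv D9631) (iv F28956)
theorem F34182 : act 1 n10597 = n10597 := d11_1 D10597 (iv D10597) F28957
theorem F34183 : act 2 n10597 = n9082 := d16_1 D10597 (iv D9082) (iv F28958)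
theorem F34184 : act 4 n10597 = n9079 := d23_1 D10597 (iv D9079) (iv F28959)
theorem F34185 : act 7 n10597 = n9899 := d27_2 D9076 D10597 F31671 F28955 (iv D9075)
def n10598 : Q := act 5 n9079
theorem D10598 : act 5 n9079 = n10598 := rfl
theorem F34186 : act 0 n10598 = n9634 := d4_1 D10598 (iv D9634) (iv F28971)
theorem F34187 : act 2 n10598 = n9085 := d15_1 D10598 (iv D9085) (iv F28973)
theorem F34188 : act 3 n10598 = n9874 := d19_1 D10598 F31592 (iv F28974)
theorem F34189 : act 7 n10598 = n9897 := d26_2 (iv F28975) D10598 F31665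
def n10599 : Q := act 3 n9081
theorem D10599 : act 3 n9081 = n10599 := rfl
theorem F34190 : act 1 n10599 = n9501 := d8_1 D10599 (iv D9501) (iv F28981)
theorem F34191 : act 4 n10599 = n10562 := d18_2 (iv F28983) D10599 (iv D10562) (iv D9043) F23725
theorem F34192 : act 7 n10599 = n9093 := d21_2 D9081 D10599 (iv D9093) (iv D7499) (iv F23718)
def n10600 : Q := act 6 n9081
theorem D10600 : act 6 n9081 = n10600 := rfl
theorem F34193 : act 1 n10600 = n9502 := d11_1 D10600 (iv D9502) (iv F28981)
theorem F34194 : act 2 n10600 = n9899 := d16_1 D10600 F31671 (iv F28982)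
theorem F34195 : act 4 n10600 = n9084 := d23_1 D10600 (iv D9084) (iv F28983)
theorem F34196 : act 7 n10600 = n9082 := d27_2 D9081 D10600 (iv D9082) (iv D7488) D7487
def n10601 : Q := act 5 n9082
theorem D10601 : act 5 n9082 = n10601 := rfl
theorem F34197 : act 4 n10601 = n9085 := d22_1 D10601 (iv D9085) (iv F28985)
def n10602 : Q := act 6 n9083
theorem D10602 : act 6 n9083 = n10602 := rfl
theorem F34198 : act 1 n10602 = n9636 := d11_1 D10602 (iv F30894) F30891
theorem F34199 : act 2 n10602 = n10090 := d16_1 D10602 (iv D10090) (iv F28986)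
theorem F34200 : act 3 n10602 = n10515 := d20_1 D10602 (iv F33904) F28988
theorem F34201 : act 7 n10602 = n9640 := d27_2 D9083 D10602 F32531 (iv D10117) F27333
def n10603 : Q := act 5 n9084
theorem D10603 : act 5 n9084 = n10603 := rfl
theorem F34202 : act 2 n10603 = n9897 := d15_1 D10603 F31665 (iv F28990)
theorem F34203 : act 3 n10603 = n10421 := d19_1 D10603 F33572 (iv F28991)
theorem F34204 : act 7 n10603 = n9085 := d26_2 (iv F28992) D10603 (iv D9085)
def n10604 : Q := act 1 n9085
theorem D10604 : act 1 n9085 = n10604 := rfl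
theorem F34205 : act 5 n10604 = n9511 := d10_2 D9085 D10604 (iv D9511) (iv D7863) (iv F23726)
def n10605 : Q := act 7 n9086
theorem D10605 : act 7 n9086 = n10605 := rfl
theorem F34206 : act 0 n10605 = n9087 := d6_1 D10605 (iv D9087) D9086
theorem F34207 : act 1 n10605 = n10050 := d12_1 D10605 F32236 (iv F28993)
theorem F34208 : act 2 n10605 = n10605 := d17_1 D10605 (iv D10605) F28994
theorem F34209 : act 4 n10605 = n9102 := d24_1 D10605 (iv D9102) (iv F28995)
theorem F34210 : act 5 n10605 = n9512 := d26_1 D10605 (iv D9512) (iv F28996)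
theorem F34211 : act 6 n10605 = n10048 := d27_1 D10605 (iv D10048) F26971 D8975 (iv F28997)
def n10606 : Q := act 3 n9087
theorem D10606 : act 3 n9087 = n10606 := rfl
theorem F34212 : act 1 n10606 = n9088 := d8_1 D10606 (iv D9088) (iv F28998)
theorem F34213 : act 5 n10606 = n9513 := d19_2 (iv F29001) D10606 (iv D9513)
theorem F34214 : act 7 n10606 = n10527 := d21_2 D9087 D10606 F33937 F30895 F25560
theorem F34215 : act 6 n10521 = n10606 := d27_5 F34214 (iv D10527) (iv D9010) (iv F28732) D10521
def n10607 : Q := act 6 n9087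
theorem D10607 : act 6 n9087 = n10607 := rfl
theorem F34216 : act 0 n10607 = n10048 := d5_1 D10607 (iv F34211) F34206
theorem F34217 : act 1 n10607 = n9089 := d11_1 D10607 (iv D9089) (iv F28998)
theorem F34218 : act 2 n10607 = n10607 := d16_1 D10607 (iv D10607) F28999
theorem F34219 : act 3 n10607 = n10521 := d20_1 D10607 F34215 (iv D10606)
theorem F34220 : act 4 n10607 = n9104 := d23_1 D10607 (iv D9104) (iv F29000)
theorem F34221 : act 7 n10607 = n10047 := d27_2 D9087 D10607 F32231 (iv F28639) F27340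
theorem F34222 : act 5 n10081 = n10607 := d26_3 F34221 F32230 D10081
def n10608 : Q := act 4 n9088
theorem D10608 : act 4 n9088 = n10608 := rfl
theorem F34223 : act 2 n10608 = n10544 := d14_1 D10608 (iv D10544) (iv F29002)
theorem F34224 : act 3 n10608 = n9106 := d18_1 D10608 (iv D9106) (iv D7507) (iv F23731) D9088
theorem F34225 : act 5 n10608 = n9090 := d22_2 (iv F29003) D10608 (iv D9090)
theorem F34226 : act 7 n10608 = n10560 := d24_2 (iv F29004) D10608 (iv D10560)
def n10609 : Q := act 6 n9088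
theorem D10609 : act 6 n9088 = n10609 := rfl
theorem F34227 : act 1 n10609 = n10521 := d11_1 D10609 F34215 F34212
theorem F34228 : act 2 n10609 = n9402 := d16_1 D10609 F29978 (iv F29002)
theorem F34229 : act 3 n10609 = n9089 := d20_1 D10609 (iv D9089) D9088
theorem F34230 : act 7 n10609 = n10511 := d27_2 (iv F29004) D10609 F33894 D10515 (iv F33904)
def n10610 : Q := act 2 n9093
theorem D10610 : act 2 n9093 = n10610 := rfl
theorem F34231 : act 3 n10610 = n10610 := d13_2 D9093 D10610 (iv D10610) (iv D9093) F23753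
def n10611 : Q := act 4 n9093
theorem D10611 : act 4 n9093 = n10611 := rfl
theorem F34232 : act 1 n10611 = n9530 := d9_1 D10611 (iv D9530) (iv F29021)
theorem F34233 : act 3 n10611 = n9098 := d18_1 D10611 (iv D9098) (iv D7502) (iv F23754) D9093
theorem F34234 : act 7 n10611 = n10562 := d24_2 F34192 D10611 (iv F34191)
def n10612 : Q := act 6 n9093
theorem D10612 : act 6 n9093 = n10612 := rfl
theorem F34235 : act 1 n10612 = n9531 := d11_1 D10612 (iv D9531) (iv F29021)
theorem F34236 : act 3 n10612 = n9094 := d20_1 D10612 (iv D9094) D9093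
theorem F34237 : act 7 n10339 = n10612 := d21_0 F34236 F29025 F23757 (iv F28057) D10339
def n10613 : Q := act 2 n9095
theorem D10613 : act 2 n9095 = n10613 := rfl
theorem F34238 : act 0 n10613 = n9184 := d1_1 D10613 F34145 F34142
theorem F34239 : act 3 n10613 = n10613 := d13_2 D9095 D10613 (iv D10613) (iv D9095) F23759
theorem F34240 : act 5 n10613 = n9097 := d15_2 (iv F29026) D10613 (iv D9097)
theorem F34241 : act 7 n10613 = n9105 := d17_2 (iv F29027) D10613 (iv D9105)
def n10614 : Q := act 4 n9095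
theorem D10614 : act 4 n9095 = n10614 := rfl
theorem F34242 : act 5 n10614 = n9098 := d22_2 (iv F29026) D10614 (iv D9098)
theorem F34243 : act 7 n10614 = n9106 := d24_2 (iv F29027) D10614 (iv D9106)
def n10615 : Q := act 6 n9095
theorem D10615 : act 6 n9095 = n10615 := rfl
theorem F34244 : act 3 n10615 = n9096 := d20_1 D10615 (iv D9096) D9095
def n10616 : Q := act 1 n9097
theorem D10616 : act 1 n9097 = n10616 := rfl
theorem F34245 : act 0 n10616 = n9364 := d0_1 D10616 F29864 F24481 (iv F24075) (iv F29029)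
theorem F34246 : act 2 n10616 = n9537 := d7_2 D9097 D10616 (iv D9537) (iv D7885) (iv F23761)
theorem F34247 : act 3 n10616 = n10616 := d8_2 F29030 D10616 (iv D10616)
theorem F34248 : act 7 n10616 = n9108 := d12_2 (iv F29031) D10616 (iv D9108)
def n10617 : Q := act 4 n9097
theorem D10617 : act 4 n9097 = n10617 := rfl
theorem F34249 : act 0 n10617 = n9203 := d3_1 D10617 F29384 (iv F29029)
theorem F34250 : act 2 n10617 = n9098 := d14_1 D10617 (iv D9098) D9097
theorem F34251 : act 7 n10617 = n9109 := d24_2 (iv F29031) D10617 (iv D9109)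
def n10618 : Q := act 6 n9097
theorem D10618 : act 6 n9097 = n10618 := rfl
theorem F34252 : act 0 n10618 = n9204 := d5_1 D10618 (iv D9204) (iv F29029)
theorem F34253 : act 2 n10618 = n9099 := d16_1 D10618 (iv D9099) D9097
theorem F34254 : act 3 n10618 = n10618 := d20_1 D10618 (iv D10618) F29030
def n10619 : Q := act 6 n9098
theorem D10619 : act 6 n9098 = n10619 := rfl
theorem F34255 : act 1 n10619 = n9540 := d11_1 D10619 (iv D9540) (iv F29032)
theorem F34256 : act 4 n10619 = n9099 := d23_1 D10619 (iv D9099) D9098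
def n10620 : Q := act 5 n9099
theorem D10620 : act 5 n9099 = n10620 := rfl
theorem F34257 : act 3 n10620 = n9100 := d19_1 D10620 (iv D9100) (iv F29035)
theorem F34258 : act 7 n10620 = n10460 := d26_2 F32615 D10620 F33685
def n10621 : Q := act 1 n9100
theorem D10621 : act 1 n9100 = n10621 := rfl
theorem F34259 : act 0 n10621 = n9533 := d0_1 D10621 F30373 F28054 (iv F31308) F31307
theorem F34260 : act 4 n10621 = n10336 := d9_2 F31354 D10621 F33320
theorem F34261 : act 5 n10621 = n9542 := d10_2 D9100 D10621 (iv D9542) (iv D7888) (iv F23763)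
theorem F34262 : act 7 n10621 = n9101 := d12_2 (iv F29037) D10621 (iv D9101)
def n10622 : Q := act 6 n9102
theorem D10622 : act 6 n9102 = n10622 := rfl
theorem F34263 : act 0 n10622 = n9104 := d5_1 D10622 (iv D9104) (iv F29043)
theorem F34264 : act 1 n10622 = n10041 := d11_1 D10622 (iv F34155) F34152
theorem F34265 : act 2 n10622 = n10622 := d16_1 D10622 (iv D10622) F29044
theorem F34266 : act 4 n10622 = n10048 := d23_1 D10622 (iv F34211) F34209
theorem F34267 : act 7 n10622 = n10040 := d27_2 D9102 D10622 F32206 (iv F28613) F27367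
def n10623 : Q := act 2 n9103
theorem D10623 : act 2 n9103 = n10623 := rfl
theorem F34268 : act 3 n10623 = n10623 := d13_2 D9103 D10623 (iv D10623) (iv D9103) F23772
theorem F34269 : act 5 n10623 = n9545 := d15_2 (iv F29047) D10623 (iv D9545)
def n10624 : Q := act 4 n9103
theorem D10624 : act 4 n9103 = n10624 := rfl
theorem F34270 : act 1 n10624 = n9106 := d9_1 D10624 (iv D9106) (iv F29046)
theorem F34271 : act 5 n10624 = n9546 := d22_2 (iv F29047) D10624 (iv D9546)
def n10625 : Q := act 6 n9103
theorem D10625 : act 6 n9103 = n10625 := rfl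
theorem F34272 : act 1 n10625 = n9107 := d11_1 D10625 (iv D9107) (iv F29046)
theorem F34273 : act 3 n10625 = n9104 := d20_1 D10625 (iv D9104) D9103
def n10626 : Q := act 5 n9104
theorem D10626 : act 5 n9104 = n10626 := rfl
theorem F34274 : act 2 n10626 = n10626 := d15_1 D10626 (iv D10626) F29049
theorem F34275 : act 4 n10626 = n10081 := d22_1 D10626 F34222 F34220
theorem F34276 : act 6 n10626 = n9548 := d25_2 D9104 D10626 (iv D9548) (iv D7892) (iv F23773)
theorem F34277 : act 7 n10626 = n10080 := d26_2 F32600 D10626 F32601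
def n10627 : Q := act 1 n9105
theorem D10627 : act 1 n9105 = n10627 := rfl
theorem F34278 : act 3 n10627 = n9110 := d8_2 (iv F29051) D10627 (iv D9110)
theorem F34279 : act 6 n9255 = n10627 := d20_0 F34278 F29571 D9255
def n10628 : Q := act 4 n9105
theorem D10628 : act 4 n9105 = n10628 := rfl
theorem F34280 : act 0 n10628 = n9183 := d3_1 D10628 (iv D9183) (iv F29050)
theorem F34281 : act 2 n10628 = n9106 := d14_1 D10628 (iv D9106) D9105
theorem F34282 : act 5 n10628 = n9109 := d22_2 (iv F29052) D10628 (iv D9109)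
def n10629 : Q := act 6 n9105
theorem D10629 : act 6 n9105 = n10629 := rfl
theorem F34283 : act 0 n10629 = n9176 := d5_1 D10629 F29286 (iv F29050)
theorem F34284 : act 1 n10629 = n9255 := d11_1 D10629 F34279 (iv D10627)
theorem F34285 : act 2 n10629 = n9107 := d16_1 D10629 (iv D9107) D9105
theorem F34286 : act 3 n10629 = n9112 := d20_1 D10629 (iv D9112) (iv F29051)
theorem F34287 : act 7 n9263 = n10629 := d21_0 F34286 F29570 F24214 D7650 D9263
def n10630 : Q := act 6 n9106
theorem D10630 : act 6 n9106 = n10630 := rfl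
theorem F34288 : act 4 n10630 = n9107 := d23_1 D10630 (iv D9107) D9106
def n10631 : Q := act 7 n9107
theorem D10631 : act 7 n9107 = n10631 := rfl
theorem F34289 : act 2 n10631 = n9263 := d17_1 D10631 F34287 F34285
def n10632 : Q := act 4 n9108
theorem D10632 : act 4 n9108 = n10632 := rfl
theorem F34290 : act 0 n10632 = n9362 := d3_1 D10632 (iv D9362) (iv F29055)
theorem F34291 : act 1 n10632 = n9109 := d9_1 D10632 (iv D9109) D9108
theorem F34292 : act 2 n10632 = n9554 := d14_1 D10632 (iv D9554) (iv F29056)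
def n10633 : Q := act 3 n9109
theorem D10633 : act 3 n9109 = n10633 := rfl
theorem F34293 : act 0 n10633 = n9195 := d2_1 D10633 F29358 (iv F29058)
theorem F34294 : act 2 n10633 = n10543 := d13_1 D10633 F33988 (iv F29008) F29009 (iv F29059)
theorem F34295 : act 4 n10633 = n9116 := d18_2 D9109 D10633 (iv D9116) (iv D7515) (iv F23777)
def n10634 : Q := act 0 n9110
theorem D10634 : act 0 n9110 = n10634 := rfl
theorem F34296 : act 1 n10634 = n9149 := d0_2 D9110 D10634 F29189 F23905 (iv F23779)
theorem F34297 : act 2 n10634 = n10634 := d1_2 F29060 D10634 (iv D10634)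
theorem F34298 : act 6 n10634 = n9237 := d5_2 (iv F29571) D10634 F29488
theorem F34299 : act 7 n10634 = n10634 := d6_2 F29061 D10634 (iv D10634)
def n10635 : Q := act 4 n9110
theorem D10635 : act 4 n9110 = n10635 := rfl
theorem F34300 : act 1 n10635 = n9111 := d9_1 D10635 (iv D9111) D9110
theorem F34301 : act 2 n10635 = n10635 := d14_1 D10635 (iv D10635) F29060
theorem F34302 : act 6 n10635 = n9250 := d23_2 (iv F29571) D10635 F29540
theorem F34303 : act 7 n10635 = n10635 := d24_2 F29061 D10635 (iv D10635)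
def n10636 : Q := act 6 n9111
theorem D10636 : act 6 n9111 = n10636 := rfl
theorem F34304 : act 0 n10636 = n9156 := d5_1 D10636 F29217 (iv F29062)
theorem F34305 : act 1 n10636 = n9250 := d11_1 D10636 (iv F34302) F34300
theorem F34306 : act 2 n10636 = n9113 := d16_1 D10636 (iv D9113) (iv F29063)
theorem F34307 : act 4 n10636 = n9112 := d23_1 D10636 (iv D9112) D9111
theorem F34308 : act 7 n9249 = n10636 := d30_29 (iv D10636) F29064 (iv F29075) F29076 (iv F25513) F25516 D8068 F25567 F25680 (iv D8094) (iv D6464) (iv D4895) F10931 (iv D2484) (iv F7635) (iv F10887) (iv F11903) F11905 (iv D3831) F8282 F5752 (iv F6530) F6531 (iv F8946) D4091 D5530 D7110 D8715 (iv F29536)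
def n10637 : Q := act 7 n9113
theorem D10637 : act 7 n9113 = n10637 := rfl
theorem F34309 : act 0 n10637 = n9154 := d6_1 D10637 F29213 (iv F29068)
theorem F34310 : act 1 n10637 = n10637 := d12_1 D10637 (iv D10637) F29069
theorem F34311 : act 2 n10637 = n9249 := d17_1 D10637 F34308 F34306
theorem F34312 : act 3 n10637 = n10259 := d21_1 D10637 F33080 F29995 (iv F29992) F29990
theorem F34313 : act 4 n10637 = n9114 := d24_1 D10637 (iv D9114) (iv F29070)
theorem F34314 : act 6 n10637 = n10637 := d27_1 D10637 (iv D10637) (iv D9113) F23785 D9113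
def n10638 : Q := act 3 n9115
theorem D10638 : act 3 n9115 = n10638 := rfl
theorem F34315 : act 0 n10638 = n9340 := d2_1 D10638 (iv D9340) (iv F29074)
theorem F34316 : act 1 n10638 = n9116 := d8_1 D10638 (iv D9116) (iv F29075)
theorem F34317 : act 2 n10638 = n10527 := d13_1 D10638 F33937 F30892 F25513 (iv F29076)
theorem F34318 : act 6 n10638 = n9484 := d20_2 (iv F29077) D10638 (iv D9484)
def n10639 : Q := act 1 n9117
theorem D10639 : act 1 n9117 = n10639 := rfl
theorem F34319 : act 3 n10639 = n9273 := d8_2 (iv F29083) D10639 (iv D9273)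
theorem F34320 : act 4 n10639 = n9134 := d9_2 (iv F29084) D10639 (iv D9134)
theorem F34321 : act 6 n10639 = n10639 := d11_2 F29085 D10639 (iv D10639)
theorem F34322 : act 7 n10639 = n9118 := d12_2 (iv F29086) D10639 (iv D9118)
theorem F34323 : act 0 n10167 = n10639 := d6_3 F34322 (iv F32243) (iv F32740)
def n10640 : Q := act 2 n9118
theorem D10640 : act 2 n9118 = n10640 := rfl
theorem F34324 : act 1 n10640 = n9156 := d7_1 D10640 (iv D9156) (iv D7553) (iv F23829) D9118
theorem F34325 : act 4 n10640 = n9138 := d14_2 (iv F29087) D10640 (iv D9138)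
theorem F34326 : act 6 n10640 = n9119 := d16_2 (iv F29088) D10640 (iv D9119)
def n10641 : Q := act 3 n9119
theorem D10641 : act 3 n9119 = n10641 := rfl
theorem F34327 : act 1 n10641 = n9160 := d8_1 D10641 (iv D9160) (iv F29089)
theorem F34328 : act 5 n10641 = n9277 := d19_2 (iv F29091) D10641 (iv D9277)
def n10642 : Q := act 2 n9120
theorem D10642 : act 2 n9120 = n10642 := rfl
theorem F34329 : act 0 n10642 = n9123 := d1_1 D10642 (iv D9123) (iv F29093)
theorem F34330 : act 4 n10642 = n10225 := d14_2 (iv F29095) D10642 (iv D10225)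
theorem F34331 : act 5 n10642 = n10325 := d15_2 (iv F29096) D10642 F33286
theorem F34332 : act 7 n10642 = n10642 := d17_2 F29097 D10642 (iv D10642)
def n10643 : Q := act 6 n9120
theorem D10643 : act 6 n9120 = n10643 := rfl
theorem F34333 : act 0 n10643 = n9124 := d5_1 D10643 (iv D9124) (iv F29093)
theorem F34334 : act 1 n10643 = n10643 := d11_1 D10643 (iv D10643) F29094
theorem F34335 : act 3 n10643 = n9121 := d20_1 D10643 (iv D9121) D9120
theorem F34336 : act 4 n10643 = n10226 := d23_1 D10643 (iv D10226) (iv F29095)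
theorem F34337 : act 7 n9965 = n10643 := d30_29 (iv D10643) F29096 F28030 (iv F29196) F29197 (iv F25222) F20086 F20085 (iv D6414) (iv F19496) (iv F24222) (iv F29555) F30861 F30859 (iv D9110) (iv D7511) (iv D5910) (iv D4433) (iv F12406) (iv D3992) F8696 F5971 F5972 D2814 (iv F11717) (iv F16081) (iv F21283) (iv F26654) D9965
def n10644 : Q := act 5 n9121
theorem D10644 : act 5 n9121 = n10644 := rfl
theorem F34338 : act 0 n10644 = n9125 := d4_1 D10644 (iv D9125) (iv F29098)
theorem F34339 : act 4 n10644 = n9969 := d22_1 D10644 (iv D9969) (iv F29100)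
theorem F34340 : act 6 n10644 = n10342 := d25_2 D9121 D10644 (iv D10342) (iv D8792) (iv F23840)
theorem F34341 : act 7 n10644 = n9122 := d26_2 (iv F29101) D10644 (iv D9122)
def n10645 : Q := act 1 n9122
theorem D10645 : act 1 n9122 = n10645 := rfl
theorem F34342 : act 3 n10645 = n9953 := d8_2 (iv F29103) D10645 F31889
theorem F34343 : act 4 n10645 = n9970 := d9_2 (iv F29104) D10645 (iv D9970)
theorem F34344 : act 5 n10645 = n10645 := d10_2 D9122 D10645 (iv D10645) (iv D9122) F23842
theorem F34345 : act 6 n10645 = n9278 := d11_2 (iv F29105) D10645 (iv D9278)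
def n10646 : Q := act 5 n9124
theorem D10646 : act 5 n9124 = n10646 := rfl
theorem F34346 : act 3 n10646 = n9125 := d19_1 D10646 (iv D9125) (iv F29108)
def n10647 : Q := act 1 n9125
theorem D10647 : act 1 n9125 = n10647 := rfl
theorem F34347 : act 5 n10647 = n9134 := d10_2 D9125 D10647 (iv D9134) (iv D7535) (iv F23847)
theorem F34348 : act 7 n10647 = n9127 := d12_2 (iv F29109) D10647 (iv D9127)
def n10648 : Q := act 1 n9126
theorem D10648 : act 1 n9126 = n10648 := rfl
theorem F34349 : act 3 n10648 = n9127 := d8_2 (iv F29112) D10648 (iv D9127)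
theorem F34350 : act 4 n10648 = n9876 := d9_2 F29155 D10648 F31599
theorem F34351 : act 5 n10648 = n9135 := d10_2 D9126 D10648 (iv D9135) (iv D7536) (iv F23850)
theorem F34352 : act 6 n10648 = n9279 := d11_2 (iv F29113) D10648 (iv D9279)
def n10649 : Q := act 0 n9127
theorem D10649 : act 0 n9127 = n10649 := rfl
theorem F34353 : act 5 n10649 = n9137 := d4_2 (iv F29114) D10649 (iv D9137)
theorem F34354 : act 6 n10649 = n9281 := d5_2 (iv F29115) D10649 (iv D9281)
def n10650 : Q := act 2 n9127
theorem D10650 : act 2 n9127 = n10650 := rfl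
theorem F34355 : act 5 n10650 = n9138 := d15_2 (iv F29114) D10650 (iv D9138)
theorem F34356 : act 6 n10650 = n9282 := d16_2 (iv F29115) D10650 (iv D9282)
def n10651 : Q := act 0 n9128
theorem D10651 : act 0 n9128 = n10651 := rfl
theorem F34357 : act 1 n10651 = n10651 := d0_2 D9128 D10651 (iv D10651) (iv D9128) F23854
theorem F34358 : act 3 n10651 = n9161 := d2_2 (iv F29116) D10651 (iv D9161)
theorem F34359 : act 7 n10651 = n10651 := d6_2 F29117 D10651 (iv D10651)
def n10652 : Q := act 4 n9128
theorem D10652 : act 4 n9128 = n10652 := rfl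
theorem F34360 : act 1 n10652 = n9129 := d9_1 D10652 (iv D9129) D9128
theorem F34361 : act 6 n10652 = n9587 := d23_2 (iv F32364) D10652 (iv F32362)
theorem F34362 : act 7 n10652 = n10652 := d24_2 F29117 D10652 (iv D10652)
theorem F34363 : act 3 n9589 = n10652 := d20_3 F34361 F30563 D9589
theorem F34364 : act 5 n10652 = n10651 := d19_2 (iv F30568) F34363 F34358
def n10653 : Q := act 5 n9128
theorem D10653 : act 5 n9128 = n10653 := rfl
theorem F34365 : act 0 n10653 = n10652 := d4_1 D10653 F34364 (iv D10651)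
theorem F34366 : act 1 n10653 = n10653 := d10_1 D10653 (iv D10653) (iv D9128) F23856 D9128
theorem F34367 : act 3 n10653 = n9163 := d19_1 D10653 (iv D9163) (iv F29116)
theorem F34368 : act 4 n10653 = n10651 := d22_1 D10653 (iv F34364) (iv D10652)
theorem F34369 : act 7 n10653 = n10653 := d26_2 F29117 D10653 (iv D10653)
def n10654 : Q := act 7 n9131
theorem D10654 : act 7 n9131 = n10654 := rfl
theorem F34370 : act 0 n10654 = n10654 := d6_1 D10654 (iv D10654) F29129
theorem F34371 : act 2 n10654 = n9598 := d17_1 D10654 (iv D9598) (iv F29130)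
theorem F34372 : act 3 n10654 = n9271 := d21_1 D10654 (iv D9271) F24267 (iv F24263) (iv F29131)
theorem F34373 : act 4 n10654 = n9133 := d24_1 D10654 (iv D9133) (iv F29132)
theorem F34374 : act 5 n10654 = n9596 := d26_1 D10654 (iv D9596) F29133
theorem F34375 : act 6 n10654 = n10654 := d27_1 D10654 (iv D10654) (iv D9131) F23861 D9131
def n10655 : Q := act 1 n9132
theorem D10655 : act 1 n9132 = n10655 := rfl
theorem F34376 : act 2 n10655 = n9593 := d7_2 (iv F29135) D10655 F30586 F25103 (iv F25110)
theorem F34377 : act 3 n10655 = n9134 := d8_2 (iv F29136) D10655 (iv D9134)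
theorem F34378 : act 4 n10655 = n9592 := d9_2 (iv F29137) D10655 F30582
theorem F34379 : act 6 n10655 = n10655 := d11_2 F29138 D10655 (iv D10655)
theorem F34380 : act 0 n9904 = n10655 := d3_3 F34378 F30581 (iv F31689)
def n10656 : Q := act 7 n9132
theorem D10656 : act 7 n9132 = n10656 := rfl
theorem F34381 : act 0 n10656 = n10656 := d6_1 D10656 (iv D10656) F29134
theorem F34382 : act 2 n10656 = n9597 := d17_1 D10656 (iv D9597) (iv F29135)
theorem F34383 : act 3 n10656 = n9136 := d21_1 D10656 (iv D9136) F23869 (iv F23867) (iv F29136)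
theorem F34384 : act 4 n10656 = n9596 := d24_1 D10656 (iv D9596) (iv F29137)
theorem F34385 : act 5 n10656 = n9133 := d26_1 D10656 (iv D9133) D9132
theorem F34386 : act 6 n10108 = n10656 := d31_10 D9132 D10656 F34384 F30593 (iv F25800) F25798 F25799 F25801 F27263 D10108 F34383 F29147 (iv D7537) (iv F18605) F18603 (iv D4458) (iv D3198) (iv F9865) (iv D3197) (iv F9852) F9851 D3200 F9874 F9876 D4460 F13784 (iv F13764) D5934 (iv F23863)
def n10657 : Q := act 0 n9134
theorem D10657 : act 0 n9134 = n10657 := rfl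
theorem F34387 : act 1 n10657 = n10657 := d0_2 D9134 D10657 (iv D10657) (iv D9134) F23864
theorem F34388 : act 3 n10657 = n9904 := d2_2 F34377 D10657 F34380
theorem F34389 : act 4 n10657 = n10167 := d3_2 F34320 D10657 F34323
theorem F34390 : act 6 n10657 = n10657 := d5_2 F29142 D10657 (iv D10657)
theorem F34391 : act 7 n10657 = n9137 := d6_2 (iv F29143) D10657 (iv D9137)
theorem F34392 : act 2 n9236 = n10657 := d14_3 F34389 (iv F32822) F32823
def n10658 : Q := act 2 n9134
theorem D10658 : act 2 n9134 = n10658 := rfl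
theorem F34393 : act 0 n10658 = n9236 := d1_1 D10658 F34392 (iv D10657)
theorem F34394 : act 1 n10658 = n9172 := d7_1 D10658 (iv D9172) (iv D7566) (iv F23865) D9134
theorem F34395 : act 3 n10658 = n9240 := d13_2 F34377 D10658 F29501 (iv F30587) (iv F34376)
theorem F34396 : act 6 n10658 = n10658 := d16_2 F29142 D10658 (iv D10658)
theorem F34397 : act 7 n10658 = n9138 := d17_2 (iv F29143) D10658 (iv D9138)
def n10659 : Q := act 0 n9135
theorem D10659 : act 0 n9135 = n10659 := rfl
theorem F34398 : act 1 n10659 = n10659 := d0_2 D9135 D10659 (iv D10659) (iv D9135) F23868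
theorem F34399 : act 3 n10659 = n9137 := d2_2 (iv F29144) D10659 (iv D9137)
theorem F34400 : act 6 n10659 = n9145 := d5_2 (iv F29145) D10659 (iv D9145)
def n10660 : Q := act 2 n9135
theorem D10660 : act 2 n9135 = n10660 := rfl
theorem F34401 : act 6 n10660 = n9146 := d16_2 (iv F29145) D10660 (iv D9146)
def n10661 : Q := act 7 n9135
theorem D10661 : act 7 n9135 = n10661 := rfl
theorem F34402 : act 1 n10661 = n9136 := d12_1 D10661 (iv D9136) D9135
def n10662 : Q := act 6 n9136
theorem D10662 : act 6 n9136 = n10662 := rfl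
theorem F34403 : act 0 n10662 = n10662 := d5_1 D10662 (iv D10662) F29146
theorem F34404 : act 2 n10662 = n10107 := d16_1 D10662 F32477 F29174
theorem F34405 : act 3 n10662 = n10108 := d20_1 D10662 F34386 F34383
theorem F34406 : act 5 n10662 = n10662 := d25_1 D10662 (iv D10662) F29147 F23872 (iv F29147)
theorem F34407 : act 7 n10662 = n9148 := d27_2 D9136 D10662 (iv D9148) (iv D7545) (iv F23870)
def n10663 : Q := act 2 n9137
theorem D10663 : act 2 n9137 = n10663 := rfl
theorem F34408 : act 0 n10663 = n9138 := d1_1 D10663 (iv D9138) D9137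
theorem F34409 : act 6 n10663 = n9149 := d16_2 (iv F29149) D10663 (iv D9149)
theorem F34410 : act 7 n10663 = n9236 := d17_2 F34391 D10663 F34392
theorem F34411 : act 1 n9237 = n10663 := d12_3 F34410 (iv D9236) D9237
def n10664 : Q := act 3 n9138
theorem D10664 : act 3 n9138 = n10664 := rfl
theorem F34412 : act 1 n10664 = n9176 := d8_1 D10664 (iv D9176) (iv F29150)
theorem F34413 : act 6 n10664 = n9150 := d20_2 (iv F29151) D10664 (iv D9150)
def n10665 : Q := act 7 n9139
theorem D10665 : act 7 n9139 = n10665 := rfl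
theorem F34414 : act 0 n10665 = n9938 := d6_1 D10665 (iv D9938) (iv F29152)
theorem F34415 : act 2 n10665 = n9288 := d17_1 D10665 (iv D9288) (iv F29153)
theorem F34416 : act 4 n10665 = n9841 := d24_1 D10665 F31485 (iv F29155)
theorem F34417 : act 5 n10665 = n9140 := d26_1 D10665 (iv D9140) D9139
def n10666 : Q := act 0 n9141
theorem D10666 : act 0 n9141 = n10666 := rfl
theorem F34418 : act 1 n10666 = n10666 := d0_2 D9141 D10666 (iv D10666) (iv D9141) F23879
theorem F34419 : act 3 n10666 = n9182 := d2_2 (iv F29162) D10666 (iv D9182)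
theorem F34420 : act 4 n10666 = n10659 := d3_2 (iv F29163) D10666 (iv D10659)
theorem F34421 : act 6 n10666 = n10043 := d5_2 F29170 D10666 F32212
def n10667 : Q := act 2 n9141
theorem D10667 : act 2 n9141 = n10667 := rfl
theorem F34422 : act 1 n10667 = n9146 := d7_1 D10667 (iv D9146) (iv D7544) (iv F23880) D9141
theorem F34423 : act 4 n10667 = n10660 := d14_2 (iv F29163) D10667 (iv D10660)
def n10668 : Q := act 7 n9141
theorem D10668 : act 7 n9141 = n10668 := rfl
theorem F34424 : act 1 n10668 = n9142 := d12_1 D10668 (iv D9142) D9141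
theorem F34425 : act 3 n10668 = n10113 := d21_1 D10668 (iv F34161) (iv D10591) (iv F28933) (iv F29162)
theorem F34426 : act 4 n10668 = n10661 := d24_1 D10668 (iv D10661) (iv F29163)
theorem F34427 : act 6 n10668 = n10112 := d27_1 D10668 F32506 F27307 F29171 F29170
def n10669 : Q := act 6 n9142
theorem D10669 : act 6 n9142 = n10669 := rfl
theorem F34428 : act 0 n10669 = n10669 := d5_1 D10669 (iv D10669) F29164
theorem F34429 : act 1 n10669 = n10112 := d11_1 D10669 (iv F34427) F34424
theorem F34430 : act 2 n10669 = n9148 := d16_1 D10669 (iv D9148) (iv F29165)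
theorem F34431 : act 3 n10669 = n10106 := d20_1 D10669 (iv F34180) F34178
theorem F34432 : act 4 n10669 = n10662 := d23_1 D10669 (iv D10662) (iv F29166)
theorem F34433 : act 5 n10669 = n10669 := d25_1 D10669 (iv D10669) F29167 F23886 (iv F29167)
theorem F34434 : act 7 n10669 = n10107 := d27_2 D9142 D10669 F32477 (iv D9144) F23890
def n10670 : Q := act 2 n9143
theorem D10670 : act 2 n9143 = n10670 := rfl
theorem F34435 : act 0 n10670 = n10014 := d1_1 D10670 F32217 F32212
theorem F34436 : act 1 n10670 = n10660 := d7_1 D10670 (iv D10660) (iv D9135) (iv F23888) D9143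
theorem F34437 : act 4 n10670 = n9146 := d14_2 (iv F29168) D10670 (iv D9146)
theorem F34438 : act 5 n10670 = n9290 := d15_2 (iv F29169) D10670 (iv D9290)
theorem F34439 : act 6 n10670 = n10667 := d16_2 (iv F29170) D10670 (iv D10667)
theorem F34440 : act 7 n10670 = n9835 := d17_2 F29171 D10670 F31475
def n10671 : Q := act 2 n9145
theorem D10671 : act 2 n9145 = n10671 := rfl
theorem F34441 : act 0 n10671 = n9146 := d1_1 D10671 (iv D9146) D9145
theorem F34442 : act 4 n10671 = n10014 := d14_2 F32214 D10671 F32217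
theorem F34443 : act 5 n10671 = n9291 := d15_2 (iv F29180) D10671 (iv D9291)
theorem F34444 : act 1 n9984 = n10671 := d10_5 F34443 F29676 F26862 (iv F26735) (iv F32019)
theorem F34445 : act 7 n9980 = n10671 := d26_0 F34443 (iv F29678) (iv F32003)
def n10672 : Q := act 7 n9145
theorem D10672 : act 7 n9145 = n10672 := rfl
theorem F34446 : act 0 n10672 = n9147 := d6_1 D10672 (iv D9147) D9145
theorem F34447 : act 1 n10672 = n10672 := d12_1 D10672 (iv D10672) F29178
theorem F34448 : act 2 n10672 = n9980 := d17_1 D10672 F34445 (iv D10671)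
theorem F34449 : act 3 n10672 = n10672 := d21_1 D10672 (iv D10672) F29179 F23904 (iv F29179)
theorem F34450 : act 4 n10672 = n9611 := d24_1 D10672 (iv F32216) F32214
theorem F34451 : act 5 n10672 = n9292 := d26_1 D10672 (iv D9292) (iv F29180)
theorem F34452 : act 6 n9610 = n10672 := d25_0 F34451 F29684 F25182 (iv F25311) (iv F30653)
def n10673 : Q := act 3 n9146
theorem D10673 : act 3 n9146 = n10673 := rfl
theorem F34453 : act 2 n10673 = n9150 := d13_1 D10673 (iv D9150) (iv D7547) (iv F23897) D9146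
theorem F34454 : act 5 n10673 = n9293 := d19_2 (iv F29181) D10673 (iv D9293)
def n10674 : Q := act 7 n9146
theorem D10674 : act 7 n9146 = n10674 := rfl
theorem F34455 : act 0 n10674 = n9980 := d6_1 D10674 F34445 F34441
theorem F34456 : act 2 n10674 = n9147 := d17_1 D10674 (iv D9147) D9146
theorem F34457 : act 4 n10674 = n9835 := d24_1 D10674 (iv F34440) F34437
theorem F34458 : act 5 n10674 = n9294 := d26_1 D10674 (iv D9294) (iv F29181)
theorem F34459 : act 6 n10674 = n9976 := d30_6 F22888 (iv F24005) (iv F29192) (iv F34453) (iv D10673) D10674 (iv D9976) F26703 F21386 (iv D6790) F16227 (iv D4971) F11148 D3648 F11259 (iv F12671) (iv F17254) (iv F19914) (iv F25277) F25275 D7994 (iv F30692) F30695 F29210 (iv D9153) (iv F28033) (iv F30747) F30748 (iv D8842)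
theorem F34460 : act 3 n9977 = n10674 := d20_3 F34459 F31988 D9977
def n10675 : Q := act 3 n9149
theorem D10675 : act 3 n9149 = n10675 := rfl
theorem F34461 : act 0 n10675 = n9150 := d2_1 D10675 (iv D9150) (iv F29189)
theorem F34462 : act 5 n10675 = n9296 := d19_2 (iv F29190) D10675 (iv D9296)
def n10676 : Q := act 4 n9150
theorem D10676 : act 4 n9150 = n10676 := rfl
theorem F34463 : act 1 n10676 = n9183 := d9_1 D10676 (iv D9183) (iv F29192)
theorem F34464 : act 5 n10676 = n9297 := d22_2 (iv F29193) D10676 (iv D9297)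
def n10677 : Q := act 7 n9150
theorem D10677 : act 7 n9150 = n10677 := rfl
theorem F34465 : act 1 n10677 = n9184 := d12_1 D10677 (iv D9184) (iv F29192)
theorem F34466 : act 3 n10677 = n10677 := d21_1 D10677 (iv D10677) (iv D9150) F23907 D9150
theorem F34467 : act 5 n10677 = n9298 := d26_1 D10677 (iv D9298) (iv F29193)
def n10678 : Q := act 1 n9153
theorem D10678 : act 1 n9153 = n10678 := rfl
theorem F34468 : act 2 n10678 = n9613 := d7_2 (iv F29207) D10678 F30663 F25202 (iv F25209)
theorem F34469 : act 3 n10678 = n9154 := d8_2 (iv F29208) D10678 (iv D9154)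
theorem F34470 : act 4 n10678 = n9612 := d9_2 (iv F29209) D10678 F30659
theorem F34471 : act 6 n10678 = n10678 := d11_2 F29210 D10678 (iv D10678)
theorem F34472 : act 7 n10678 = n10458 := d12_2 F30695 D10678 F33677
theorem F34473 : act 0 n10259 = n10678 := d6_3 F34472 F33676 (iv F33080)
def n10679 : Q := act 2 n9154
theorem D10679 : act 2 n9154 = n10679 := rfl
theorem F34474 : act 0 n10679 = n9249 := d1_1 D10679 (iv F34311) F34309
theorem F34475 : act 3 n10679 = n10189 := d13_2 F34469 D10679 F32814 (iv F30664) (iv F34468)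
theorem F34476 : act 4 n10679 = n9172 := d14_2 (iv F29211) D10679 (iv D9172)
theorem F34477 : act 6 n10679 = n10679 := d16_2 F29212 D10679 (iv D10679)
theorem F34478 : act 7 n10679 = n9156 := d17_2 (iv F29213) D10679 (iv D9156)
def n10680 : Q := act 3 n9156
theorem D10680 : act 3 n9156 = n10680 := rfl
theorem F34479 : act 6 n10680 = n9160 := d20_2 (iv F29217) D10680 (iv D9160)
def n10681 : Q := act 3 n9158
theorem D10681 : act 3 n9158 = n10681 := rfl
theorem F34480 : act 0 n10681 = n10681 := d2_1 D10681 (iv D10681) F29222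
theorem F34481 : act 1 n10681 = n10498 := d8_1 D10681 F33843 F29913
theorem F34482 : act 2 n10681 = n10681 := d13_1 D10681 (iv D10681) F29223 F23943 (iv F29223)
theorem F34483 : act 5 n10681 = n9159 := d19_2 (iv F29225) D10681 (iv D9159)
theorem F34484 : act 6 n10681 = n10497 := d20_2 F29893 D10681 F33838
def n10682 : Q := act 4 n9159
theorem D10682 : act 4 n9159 = n10682 := rfl
theorem F34485 : act 0 n10682 = n10682 := d3_1 D10682 (iv D10682) F29226
theorem F34486 : act 2 n10682 = n10682 := d14_1 D10682 (iv D10682) F29227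
theorem F34487 : act 3 n10682 = n9624 := d18_1 D10682 (iv D9624) F25264 (iv F23932) D9159
theorem F34488 : act 6 n10682 = n10682 := d23_2 F29228 D10682 (iv D10682)
def n10683 : Q := act 4 n9160
theorem D10683 : act 4 n9160 = n10683 := rfl
theorem F34489 : act 3 n10683 = n9183 := d18_1 D10683 (iv D9183) (iv D7578) (iv F23946) D9160
theorem F34490 : act 5 n10683 = n9195 := d22_2 (iv F29229) D10683 (iv D9195)
def n10684 : Q := act 4 n9161
theorem D10684 : act 4 n9161 = n10684 := rfl
theorem F34491 : act 0 n10684 = n9162 := d3_1 D10684 (iv D9162) D9161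
theorem F34492 : act 1 n10684 = n10684 := d9_1 D10684 (iv D10684) F29230
theorem F34493 : act 2 n10684 = n10621 := d14_1 D10684 F34260 F33321
theorem F34494 : act 6 n10684 = n10025 := d23_2 (iv F30536) D10684 F32152
theorem F34495 : act 7 n10684 = n9185 := d24_2 (iv F29231) D10684 (iv D9185)
def n10685 : Q := act 3 n9162
theorem D10685 : act 3 n9162 = n10685 := rfl
theorem F34496 : act 1 n10685 = n9165 := d8_1 D10685 (iv D9165) (iv F29232)
theorem F34497 : act 4 n10685 = n9589 := d18_2 D9162 D10685 F34363 (iv D10652) F29116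
theorem F34498 : act 7 n10685 = n9543 := d21_2 (iv F29233) D10685 (iv F30885) (iv D9670) F25497
theorem F34499 : act 2 n9542 = n10685 := d30_3 D6228 D7888 D9542 (iv D10685) F29233 F24894 F24893 F24890 F24021 F18713 D7585 (iv F29262) (iv F31927) (iv D9963) (iv D8377) (iv D6759) (iv D5178) (iv D3796) F8158 (iv D2072) F4423 F3364 F3365 D1099 F3509 (iv F5058) (iv F7313) (iv F10459) D4704
theorem F34500 : act 5 n10685 = n10684 := d15_2 F34261 F34499 F34493
theorem F34501 : act 6 n9575 = n10685 := d25_0 F34500 F34494 (iv D10025) F26872 D9575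
def n10686 : Q := act 5 n9162
theorem D10686 : act 5 n9162 = n10686 := rfl
theorem F34502 : act 0 n10686 = n10685 := d4_1 D10686 F34500 F34491
theorem F34503 : act 1 n10686 = n10686 := d10_1 D10686 (iv D10686) F29232 F23952 (iv F29232)
theorem F34504 : act 3 n10686 = n10684 := d19_1 D10686 (iv F34500) (iv D10685)
theorem F34505 : act 4 n10686 = n9163 := d22_1 D10686 (iv D9163) D9162
theorem F34506 : act 7 n10686 = n9188 := d26_2 (iv F29233) D10686 (iv D9188)
theorem F34507 : act 6 n10686 = n10056 := d30_6 F29596 F29595 F29591 (iv F30874) F30875 (iv F34506) (iv D10056) (iv D8478) (iv D6870) (iv D5303) (iv D3906) (iv D2744) (iv D1866) F3989 F3113 F3114 (iv F4313) F4312 D1966 D2874 D4060 F17006 (iv D5432) D5431 (iv F17949) F17946 (iv F18968) (iv F24251) D9269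
def n10687 : Q := act 6 n9162
theorem D10687 : act 6 n9162 = n10687 := rfl
theorem F34508 : act 0 n10687 = n10025 := d5_1 D10687 (iv F34494) F34491
theorem F34509 : act 1 n10687 = n9166 := d11_1 D10687 (iv D9166) (iv F29232)
theorem F34510 : act 3 n10687 = n9575 := d20_1 D10687 F34501 (iv D10685)
theorem F34511 : act 4 n10687 = n9164 := d23_1 D10687 (iv D9164) D9162
theorem F34512 : act 5 n10687 = n9574 := d25_1 D10687 F30520 D10056 (iv F34507) (iv D10686)
theorem F34513 : act 7 n10687 = n9913 := d27_2 (iv F29233) D10687 (iv F31736) F30290 (iv F24894)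
def n10688 : Q := act 3 n9169
theorem D10688 : act 3 n9169 = n10688 := rfl
theorem F34514 : act 0 n10688 = n10688 := d2_1 D10688 (iv D10688) F29259
theorem F34515 : act 1 n10688 = n9707 := d8_1 D10688 F31054 (iv F29260)
theorem F34516 : act 2 n10688 = n10688 := d13_1 D10688 (iv D10688) (iv F30973) F30974 F30973
theorem F34517 : act 4 n10688 = n9175 := d18_2 (iv F29261) D10688 (iv D9175) F23979 (iv F23963)
theorem F34518 : act 6 n10688 = n9190 := d20_2 (iv F29262) D10688 (iv D9190)
theorem F34519 : act 7 n10688 = n10682 := d21_2 D9169 D10688 F34487 F30705 F29203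
def n10689 : Q := act 3 n9174
theorem D10689 : act 3 n9174 = n10689 := rfl
theorem F34520 : act 0 n10689 = n10689 := d2_1 D10689 (iv D10689) F29277
theorem F34521 : act 2 n10689 = n10689 := d13_1 D10689 (iv D10689) F29278 F26923 (iv F29278)
theorem F34522 : act 5 n10689 = n9175 := d19_2 (iv F29280) D10689 (iv D9175)
theorem F34523 : act 6 n10689 = n9600 := d20_2 (iv F29281) D10689 (iv D9600)
theorem F34524 : act 7 n10689 = n10681 := d21_2 D9174 D10689 (iv D10681) (iv D9158) (iv F23974)
def n10690 : Q := act 4 n9176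
theorem D10690 : act 4 n9176 = n10690 := rfl
theorem F34525 : act 6 n10690 = n9183 := d23_2 (iv F29286) D10690 (iv D9183)
def n10691 : Q := act 7 n9176
theorem D10691 : act 7 n9176 = n10691 := rfl
theorem F34526 : act 0 n10691 = n9263 := d6_1 D10691 F34287 F34283
theorem F34527 : act 3 n10691 = n9262 := d21_1 D10691 (iv D9262) (iv F29567) F29270 D9176
def n10692 : Q := act 1 n9177
theorem D10692 : act 1 n9177 = n10692 := rfl
theorem F34528 : act 2 n10692 = n10174 := d7_2 (iv F29288) D10692 F32764 F27740 (iv F24062)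
theorem F34529 : act 3 n10692 = n9921 := d8_2 (iv F29289) D10692 F31765
theorem F34530 : act 5 n10692 = n10692 := d10_2 D9177 D10692 (iv D10692) (iv D9177) F23985
theorem F34531 : act 6 n10692 = n9724 := d11_2 (iv F29290) D10692 F31103
theorem F34532 : act 0 n9727 = n10692 := d5_3 F34531 F31102 D9727
def n10693 : Q := act 1 n9178
theorem D10693 : act 1 n9178 = n10693 := rfl
theorem F34533 : act 3 n10693 = n9740 := d8_2 (iv F29292) D10693 (iv D9740)
theorem F34534 : act 4 n10693 = n9180 := d9_2 (iv F29293) D10693 (iv D9180)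
theorem F34535 : act 5 n10693 = n9181 := d10_2 D9178 D10693 (iv D9181) (iv D7576) (iv F23988)
theorem F34536 : act 6 n10693 = n9741 := d11_2 (iv F29294) D10693 (iv D9741)
theorem F34537 : act 7 n10693 = n9439 := d12_2 (iv F29295) D10693 (iv D9439)
theorem F34538 : act 0 n9777 = n10693 := d6_3 F34537 (iv F30077) (iv F31294)
def n10694 : Q := act 0 n9180
theorem D10694 : act 0 n9180 = n10694 := rfl
theorem F34539 : act 1 n10694 = n9727 := d0_2 D9180 D10694 F34532 (iv D10692) F29287
theorem F34540 : act 4 n10694 = n9777 := d3_2 F34534 D10694 F34538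
theorem F34541 : act 5 n10694 = n9182 := d4_2 (iv F29301) D10694 (iv D9182)
theorem F34542 : act 6 n10694 = n9725 := d5_2 (iv F31598) D10694 (iv F31593)
theorem F34543 : act 7 n10694 = n10274 := d6_2 (iv F34084) D10694 (iv F34079)
def n10695 : Q := act 7 n9183
theorem D10695 : act 7 n9183 = n10695 := rfl
theorem F34544 : act 4 n10695 = n9184 := d24_1 D10695 (iv D9184) D9183
theorem F34545 : act 5 n10695 = n9203 := d26_1 D10695 (iv D9203) (iv F29311)
def n10696 : Q := act 6 n9184
theorem D10696 : act 6 n9184 = n10696 := rfl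
theorem F34546 : act 3 n10696 = n10696 := d20_1 D10696 (iv D10696) F29312
def n10697 : Q := act 2 n9191
theorem D10697 : act 2 n9191 = n10697 := rfl
theorem F34547 : act 0 n10697 = n10549 := d1_1 D10697 F34016 F33107
theorem F34548 : act 4 n10697 = n10197 := d14_2 (iv F29342) D10697 (iv D10197)
theorem F34549 : act 5 n10697 = n9193 := d15_2 (iv F29343) D10697 (iv D9193)
theorem F34550 : act 7 n10697 = n9221 := d17_2 F29344 D10697 F29440
def n10698 : Q := act 6 n9192
theorem D10698 : act 6 n9192 = n10698 := rfl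
theorem F34551 : act 0 n10698 = n10201 := d5_1 D10698 (iv D10201) (iv F29345)
theorem F34552 : act 1 n10698 = n9219 := d11_1 D10698 F29434 (iv F29346)
theorem F34553 : act 4 n10698 = n9630 := d23_1 D10698 (iv D9630) (iv F29347)
theorem F34554 : act 5 n10698 = n10698 := d25_1 D10698 (iv D10698) F29348 F24042 (iv F29348)
theorem F34555 : act 7 n10698 = n10692 := d27_2 D9192 D10698 F34531 (iv D9724) F25820
def n10699 : Q := act 3 n9193
theorem D10699 : act 3 n9193 = n10699 := rfl
theorem F34556 : act 0 n10699 = n10553 := d2_1 D10699 (iv D10553) (iv F29349)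
theorem F34557 : act 1 n10699 = n9194 := d8_1 D10699 (iv D9194) (iv F29350)
theorem F34558 : act 2 n10699 = n9335 := d13_1 D10699 (iv D9335) (iv D7720) (iv F24043) D9193
theorem F34559 : act 6 n10699 = n9220 := d20_2 (iv F29352) D10699 (iv D9220)
theorem F34560 : act 7 n10699 = n9416 := d21_2 (iv F29353) D10699 F30014 F24591 (iv F24118)
def n10700 : Q := act 4 n9194
theorem D10700 : act 4 n9194 = n10700 := rfl
theorem F34561 : act 0 n10700 = n10543 := d3_1 D10700 (iv D10543) (iv F29354)
theorem F34562 : act 2 n10700 = n9195 := d14_1 D10700 (iv D9195) (iv F29355)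
theorem F34563 : act 3 n10700 = n10542 := d18_1 D10700 (iv D10542) (iv D9023) (iv F24048) D9194
theorem F34564 : act 7 n10700 = n9423 := d24_2 (iv F29356) D10700 F30032
def n10701 : Q := act 7 n9195
theorem D10701 : act 7 n9195 = n10701 := rfl
theorem F34565 : act 1 n10701 = n9344 := d12_1 D10701 (iv D9344) (iv F29357)
theorem F34566 : act 2 n10701 = n9423 := d17_1 D10701 (iv F34564) F34562
theorem F34567 : act 4 n10701 = n9196 := d24_1 D10701 (iv D9196) D9195
theorem F34568 : act 6 n9422 = n10701 := d23_0 F34567 F29362 D9422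
def n10702 : Q := act 7 n9197
theorem D10702 : act 7 n9197 = n10702 := rfl
theorem F34569 : act 0 n10702 = n9201 := d6_1 D10702 (iv D9201) (iv F29363)
theorem F34570 : act 1 n10702 = n10173 := d12_1 D10702 F32762 (iv F29364)
theorem F34571 : act 2 n10702 = n9723 := d17_1 D10702 (iv F31101) (iv F29365)
theorem F34572 : act 5 n10702 = n9198 := d26_1 D10702 (iv D9198) D9197
theorem F34573 : act 6 n10702 = n10697 := d27_1 D10702 F34550 F29443 F24123 (iv F29367)
def n10703 : Q := act 3 n9198
theorem D10703 : act 3 n9198 = n10703 := rfl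
theorem F34574 : act 0 n10703 = n9202 := d2_1 D10703 (iv D9202) (iv F29368)
theorem F34575 : act 1 n10703 = n9730 := d8_1 D10703 (iv D9730) (iv F29369)
theorem F34576 : act 6 n10703 = n9207 := d20_2 (iv F29371) D10703 (iv D9207)
theorem F34577 : act 7 n10703 = n9347 := d21_2 D9198 D10703 (iv D9347) (iv D7728) (iv F24060)
def n10704 : Q := act 7 n9199
theorem D10704 : act 7 n9199 = n10704 := rfl
theorem F34578 : act 2 n10704 = n9742 := d17_1 D10704 (iv D9742) (iv F29372)
theorem F34579 : act 4 n10704 = n9201 := d24_1 D10704 (iv D9201) (iv F29374)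
theorem F34580 : act 5 n10704 = n9200 := d26_1 D10704 (iv D9200) D9199
theorem F34581 : act 6 n10704 = n9371 := d27_1 D10704 (iv D9371) F24488 (iv F24070) (iv F29375)
def n10705 : Q := act 3 n9200
theorem D10705 : act 3 n9200 = n10705 := rfl
theorem F34582 : act 1 n10705 = n10399 := d8_1 D10705 (iv D10399) (iv F29376)
theorem F34583 : act 2 n10705 = n9840 := d13_1 D10705 (iv D9840) F26192 (iv F25907) (iv F29377)
theorem F34584 : act 6 n10705 = n9208 := d20_2 (iv F29379) D10705 (iv D9208)
theorem F34585 : act 7 n10705 = n10413 := d21_2 D9200 D10705 (iv D10413) (iv D8858) (iv F24066)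
def n10706 : Q := act 3 n9201
theorem D10706 : act 3 n9201 = n10706 := rfl
theorem F34586 : act 5 n10706 = n9202 := d19_2 (iv F29380) D10706 (iv D9202)
theorem F34587 : act 7 n10706 = n9351 := d21_2 D9201 D10706 (iv D9351) (iv D7730) (iv F24071)
def n10707 : Q := act 4 n9202
theorem D10707 : act 4 n9202 = n10707 := rfl
theorem F34588 : act 6 n10707 = n9211 := d23_2 (iv F29381) D10707 (iv D9211)
theorem F34589 : act 7 n10707 = n9353 := d24_2 (iv F29382) D10707 (iv D9353)
def n10708 : Q := act 3 n9203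
theorem D10708 : act 3 n9203 = n10708 := rfl
theorem F34590 : act 1 n10708 = n9368 := d8_1 D10708 (iv D9368) (iv F29383)
theorem F34591 : act 4 n10708 = n10708 := d18_2 (iv F29384) D10708 (iv D10708) F29384 F24076
def n10709 : Q := act 6 n9203
theorem D10709 : act 6 n9203 = n10709 := rfl
theorem F34592 : act 1 n10709 = n9369 := d11_1 D10709 (iv D9369) (iv F29383)
theorem F34593 : act 4 n10709 = n9204 := d23_1 D10709 (iv D9204) (iv F29384)
def n10710 : Q := act 5 n9204
theorem D10710 : act 5 n9204 = n10710 := rfl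
theorem F34594 : act 3 n10710 = n10710 := d19_1 D10710 (iv D10710) F29386
def n10711 : Q := act 7 n9205
theorem D10711 : act 7 n9205 = n10711 := rfl
theorem F34595 : act 0 n10711 = n10704 := d6_1 D10711 (iv D10704) (iv F29387)
theorem F34596 : act 1 n10711 = n10332 := d12_1 D10711 F33309 (iv F29388)
theorem F34597 : act 2 n10711 = n9728 := d17_1 D10711 (iv F31118) (iv F29389)
theorem F34598 : act 4 n10711 = n10702 := d24_1 D10711 (iv D10702) (iv F29391)
theorem F34599 : act 5 n10711 = n9206 := d26_1 D10711 (iv D9206) D9205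
theorem F34600 : act 6 n10711 = n10197 := d27_1 D10711 F32845 F27714 (iv F24158) (iv F29392)
def n10712 : Q := act 3 n9206
theorem D10712 : act 3 n9206 = n10712 := rfl
theorem F34601 : act 0 n10712 = n10705 := d2_1 D10712 (iv D10705) (iv F29393)
theorem F34602 : act 1 n10712 = n9207 := d8_1 D10712 (iv D9207) (iv F29394)
theorem F34603 : act 2 n10712 = n9936 := d13_1 D10712 (iv D9936) (iv D8352) (iv F25861) (iv F29395)
theorem F34604 : act 6 n10712 = n9730 := d20_2 (iv F29397) D10712 (iv D9730)
theorem F34605 : act 7 n10712 = n9215 := d21_2 D9206 D10712 (iv D9215) (iv D7609) (iv F24080)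
def n10713 : Q := act 2 n9207
theorem D10713 : act 2 n9207 = n10713 := rfl
theorem F34606 : act 0 n10713 = n9210 := d1_1 D10713 (iv D9210) (iv F29398)
theorem F34607 : act 3 n10713 = n10528 := d13_2 D9207 D10713 (iv D10528) F28760 (iv F25849)
theorem F34608 : act 5 n10713 = n10529 := d15_2 F29437 D10713 F33945
theorem F34609 : act 7 n10713 = n9216 := d17_2 (iv F29399) D10713 (iv D9216)
def n10714 : Q := act 4 n9207
theorem D10714 : act 4 n9207 = n10714 := rfl
theorem F34610 : act 0 n10714 = n9211 := d3_1 D10714 (iv D9211) (iv F29398)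
theorem F34611 : act 7 n10714 = n9217 := d24_2 (iv F29399) D10714 (iv D9217)
def n10715 : Q := act 4 n9208
theorem D10715 : act 4 n9208 = n10715 := rfl
theorem F34612 : act 2 n10715 = n9854 := d14_1 D10715 (iv D9854) (iv F29400)
theorem F34613 : act 3 n10715 = n9211 := d18_1 D10715 (iv D9211) (iv D7606) (iv F24084) D9208
theorem F34614 : act 5 n10715 = n10271 := d22_2 (iv F29401) D10715 (iv D10271)
theorem F34615 : act 7 n10715 = n10199 := d24_2 (iv F29402) D10715 (iv D10199)
def n10716 : Q := act 2 n9209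
theorem D10716 : act 2 n9209 = n10716 := rfl
theorem F34616 : act 0 n10716 = n10529 := d1_1 D10716 F33945 F29436
theorem F34617 : act 3 n10716 = n10264 := d13_2 D9209 D10716 (iv D10264) F27884 (iv F24086)
theorem F34618 : act 5 n10716 = n9210 := d15_2 (iv F29403) D10716 (iv D9210)
theorem F34619 : act 7 n10716 = n9225 := d17_2 (iv F29404) D10716 (iv D9225)
def n10717 : Q := act 4 n9209
theorem D10717 : act 4 n9209 = n10717 := rfl
theorem F34620 : act 3 n10717 = n10271 := d18_1 D10717 (iv D10271) (iv D8739) (iv F24087) D9209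
theorem F34621 : act 5 n10717 = n9211 := d22_2 (iv F29403) D10717 (iv D9211)
theorem F34622 : act 7 n10717 = n9226 := d24_2 (iv F29404) D10717 (iv D9226)
def n10718 : Q := act 4 n9210
theorem D10718 : act 4 n9210 = n10718 := rfl
theorem F34623 : act 2 n10718 = n9211 := d14_1 D10718 (iv D9211) D9210
theorem F34624 : act 7 n10718 = n9228 := d24_2 (iv F29405) D10718 (iv D9228)
def n10719 : Q := act 1 n9212
theorem D10719 : act 1 n9212 = n10719 := rfl
theorem F34625 : act 2 n10719 = n9891 := d7_2 (iv F29407) D10719 (iv D9891) F26343 (iv F24093)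
theorem F34626 : act 3 n10719 = n9968 := d8_2 (iv F29408) D10719 (iv D9968)
theorem F34627 : act 4 n10719 = n9895 := d9_2 (iv F29409) D10719 F31660
theorem F34628 : act 5 n10719 = n10719 := d10_2 D9212 D10719 (iv D10719) (iv D9212) F24090
theorem F34629 : act 6 n10719 = n9234 := d11_2 (iv F29410) D10719 (iv D9234)
def n10720 : Q := act 7 n9212
theorem D10720 : act 7 n9212 = n10720 := rfl
theorem F34630 : act 0 n10720 = n10317 := d6_1 D10720 (iv F33260) F31156
theorem F34631 : act 2 n10720 = n9214 := d17_1 D10720 (iv D9214) (iv F29407)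
theorem F34632 : act 4 n10720 = n10319 := d24_1 D10720 (iv F33268) (iv F29409)
theorem F34633 : act 5 n10720 = n9213 := d26_1 D10720 (iv D9213) D9212
def n10721 : Q := act 3 n9214
theorem D10721 : act 3 n9214 = n10721 := rfl
theorem F34634 : act 1 n10721 = n10417 := d8_1 D10721 (iv D10417) (iv F29416)
theorem F34635 : act 5 n10721 = n9215 := d19_2 (iv F29418) D10721 (iv D9215)
def n10722 : Q := act 2 n9215
theorem D10722 : act 2 n9215 = n10722 := rfl
theorem F34636 : act 6 n10722 = n9399 := d16_2 (iv F29420) D10722 (iv D9399)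
theorem F34637 : act 7 n10722 = n9936 := d17_2 F34605 D10722 (iv F34603)
def n10723 : Q := act 4 n9215
theorem D10723 : act 4 n9215 = n10723 := rfl
theorem F34638 : act 1 n10723 = n9217 := d9_1 D10723 (iv D9217) (iv F29419)
theorem F34639 : act 6 n10723 = n9400 := d23_2 (iv F29420) D10723 (iv D9400)
def n10724 : Q := act 1 n9216
theorem D10724 : act 1 n9216 = n10724 := rfl
theorem F34640 : act 3 n10724 = n10724 := d8_2 F29422 D10724 (iv D10724)
theorem F34641 : act 6 n10724 = n9405 := d11_2 (iv F29423) D10724 (iv D9405)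
def n10725 : Q := act 4 n9216
theorem D10725 : act 4 n9216 = n10725 := rfl
theorem F34642 : act 0 n10725 = n9228 := d3_1 D10725 (iv D9228) (iv F29421)
theorem F34643 : act 2 n10725 = n9217 := d14_1 D10725 (iv D9217) D9216
theorem F34644 : act 6 n10725 = n9406 := d23_2 (iv F29423) D10725 (iv D9406)
def n10726 : Q := act 5 n9218
theorem D10726 : act 5 n9218 = n10726 := rfl
theorem F34645 : act 0 n10726 = n10575 := d4_1 D10726 F34097 (iv F29426)
theorem F34646 : act 2 n10726 = n9411 := d15_1 D10726 (iv D9411) (iv F29428)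
theorem F34647 : act 3 n10726 = n9219 := d19_1 D10726 (iv D9219) (iv F29429)
theorem F34648 : act 4 n10726 = n10228 := d22_1 D10726 (iv D10228) (iv F29430)
theorem F34649 : act 6 n10726 = n10231 := d25_2 D9218 D10726 (iv D10231) (iv D8679) (iv F24104)
def n10727 : Q := act 4 n9220
theorem D10727 : act 4 n9220 = n10727 := rfl
theorem F34650 : act 0 n10727 = n10717 := d3_1 D10727 (iv D10717) (iv F29436)
theorem F34651 : act 3 n10727 = n10199 := d18_1 D10727 (iv D10199) (iv D8651) (iv F24113) D9220
theorem F34652 : act 5 n10727 = n10714 := d22_2 (iv F29437) D10727 (iv D10714)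
theorem F34653 : act 7 n10727 = n9223 := d24_2 (iv F29438) D10727 (iv D9223)
def n10728 : Q := act 4 n9222
theorem D10728 : act 4 n9222 = n10728 := rfl
theorem F34654 : act 2 n10728 = n9223 := d14_1 D10728 (iv D9223) D9222
theorem F34655 : act 5 n10728 = n10725 := d22_2 (iv F29445) D10728 (iv D10725)
theorem F34656 : act 6 n10728 = n9421 := d23_2 (iv F29446) D10728 (iv D9421)
def n10729 : Q := act 4 n9224
theorem D10729 : act 4 n9224 = n10729 := rfl
theorem F34657 : act 1 n10729 = n9226 := d9_1 D10729 (iv D9226) (iv F29450)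
theorem F34658 : act 3 n10729 = n10723 := d18_1 D10729 (iv D10723) (iv D9215) (iv F24131) D9224
def n10730 : Q := act 1 n9225
theorem D10730 : act 1 n9225 = n10730 := rfl
theorem F34659 : act 3 n10730 = n10730 := d8_2 F29452 D10730 (iv D10730)
def n10731 : Q := act 4 n9225
theorem D10731 : act 4 n9225 = n10731 := rfl
theorem F34660 : act 0 n10731 = n10728 := d3_1 D10731 (iv D10728) (iv F29451)
theorem F34661 : act 2 n10731 = n9226 := d14_1 D10731 (iv D9226) D9225
theorem F34662 : act 5 n10731 = n9228 := d22_2 (iv F29453) D10731 (iv D9228)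
def n10732 : Q := act 0 n9227
theorem D10732 : act 0 n9227 = n10732 := rfl
theorem F34663 : act 3 n10732 = n10732 := d2_2 F29457 D10732 (iv D10732)
theorem F34664 : act 6 n10732 = n9424 := d5_2 (iv F29458) D10732 (iv D9424)
def n10733 : Q := act 4 n9227
theorem D10733 : act 4 n9227 = n10733 := rfl
theorem F34665 : act 1 n10733 = n9228 := d9_1 D10733 (iv D9228) D9227
theorem F34666 : act 6 n10733 = n9425 := d23_2 (iv F29458) D10733 (iv D9425)
def n10734 : Q := act 5 n9227
theorem D10734 : act 5 n9227 = n10734 := rfl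
theorem F34667 : act 3 n10734 = n10734 := d19_1 D10734 (iv D10734) F29457
def n10735 : Q := act 3 n9228
theorem D10735 : act 3 n9228 = n10735 := rfl
theorem F34668 : act 4 n10735 = n10735 := d18_2 D9228 D10735 (iv D10735) (iv D9228) F24134
theorem F34669 : act 6 n10735 = n9427 := d20_2 (iv F29460) D10735 (iv D9427)
def n10736 : Q := act 1 n9229
theorem D10736 : act 1 n9229 = n10736 := rfl
theorem F34670 : act 2 n10736 = n10736 := d7_2 (iv F29461) D10736 (iv D10736) F29461 F24144
theorem F34671 : act 3 n10736 = n10086 := d8_2 F30174 D10736 F32372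
theorem F34672 : act 4 n10736 = n9994 := d9_2 (iv F29462) D10736 (iv D9994)
theorem F34673 : act 5 n10736 = n10040 := d10_2 D9229 D10736 (iv D10040) (iv D8465) (iv F24137)
theorem F34674 : act 6 n10736 = n10736 := d11_2 F29463 D10736 (iv D10736)
theorem F34675 : act 0 n10736 = n10080 := d28_7 (iv F26937) F26941 F26940 (iv F26950) D10040 (iv F34673) F34674 (iv D10080) (iv D8511) (iv D6903) (iv D5335) (iv D3930) (iv D2762) F5849 F4038 D1273 D1892 D2779 D3953 F12256 (iv F16731) F16735 F16734 F13735 (iv D3192) F6845 F6533 F6529 (iv D1433) (iv F4523) (iv D1431) F3080 F3082 F3635 (iv F5232) F5234 F5233 F4495 (iv F3953) D1849 (iv F8289) F8286 F5699 F4109 F2862 F1966 F1213 (iv D379) F685 (iv F758) D425 D645 D962 D1439 D2129 (iv F9526) (iv F13349) F13348 F10929 D4894 (iv F20224) (iv F25647)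
def n10737 : Q := act 1 n9231
theorem D10737 : act 1 n9231 = n10737 := rfl
theorem F34676 : act 0 n10737 = n9732 := d0_1 D10737 (iv F31292) F34538 (iv D10693) (iv F29468)
theorem F34677 : act 2 n10737 = n10333 := d7_2 (iv F29469) D10737 F33311 F28272 (iv F24155)
theorem F34678 : act 3 n10737 = n9970 := d8_2 (iv F29470) D10737 (iv D9970)
theorem F34679 : act 4 n10737 = n10692 := d9_2 (iv F29471) D10737 (iv D10692)
theorem F34680 : act 5 n10737 = n10737 := d10_2 D9231 D10737 (iv D10737) (iv D9231) F24149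
theorem F34681 : act 6 n10737 = n9729 := d11_2 (iv F29472) D10737 F31120
theorem F34682 : act 7 n10737 = n9630 := d12_2 (iv F29473) D10737 F30724
def n10738 : Q := act 1 n9232
theorem D10738 : act 1 n9232 = n10738 := rfl
theorem F34683 : act 3 n10738 = n9234 := d8_2 (iv F29475) D10738 (iv D9234)
theorem F34684 : act 5 n10738 = n9236 := d10_2 D9232 D10738 (iv D9236) (iv D7630) (iv F24159)
theorem F34685 : act 6 n10738 = n9968 := d11_2 (iv F29476) D10738 (iv D9968)
def n10739 : Q := act 7 n9232
theorem D10739 : act 7 n9232 = n10739 := rfl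
theorem F34686 : act 2 n10739 = n9969 := d17_1 D10739 F31957 (iv F29474)
theorem F34687 : act 5 n10739 = n9233 := d26_1 D10739 (iv D9233) D9232
theorem F34688 : act 6 n10739 = n10341 := d27_1 D10739 F33338 F31027 (iv F26677) (iv F29476)
def n10740 : Q := act 0 n9234
theorem D10740 : act 0 n9234 = n10740 := rfl
theorem F34689 : act 2 n10740 = n9893 := d1_2 (iv F29480) D10740 (iv D9893)
theorem F34690 : act 4 n10740 = n9900 := d3_2 (iv F29481) D10740 F31672
theorem F34691 : act 5 n10740 = n9240 := d4_2 (iv F29482) D10740 (iv D9240)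
def n10741 : Q := act 3 n9235
theorem D10741 : act 3 n9235 = n10741 := rfl
theorem F34692 : act 0 n10741 = n9251 := d2_1 D10741 (iv D9251) (iv F29483)
theorem F34693 : act 7 n10741 = n10430 := d21_2 D9235 D10741 (iv D10430) (iv D8878) (iv F24166)
def n10742 : Q := act 5 n9238
theorem D10742 : act 5 n9238 = n10742 := rfl
theorem F34694 : act 0 n10742 = n9259 := d4_1 D10742 (iv D9259) (iv F29491)
theorem F34695 : act 1 n10742 = n10337 := d10_1 D10742 (iv D10337) (iv D8789) (iv F26674) (iv F29492)
theorem F34696 : act 2 n10742 = n10742 := d15_1 D10742 (iv D10742) F29493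
theorem F34697 : act 7 n10742 = n9239 := d26_2 (iv F29494) D10742 (iv D9239)
def n10743 : Q := act 4 n9241
theorem D10743 : act 4 n9241 = n10743 := rfl
theorem F34698 : act 0 n10743 = n10431 := d3_1 D10743 (iv D10431) (iv F29504)
theorem F34699 : act 2 n10743 = n9908 := d14_1 D10743 (iv D9908) (iv F29505)
theorem F34700 : act 5 n10743 = n10261 := d22_2 (iv F29506) D10743 (iv D10261)
theorem F34701 : act 7 n10743 = n9248 := d24_2 (iv F29507) D10743 (iv D9248)
def n10744 : Q := act 6 n9241
theorem D10744 : act 6 n9241 = n10744 := rfl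
theorem F34702 : act 0 n10744 = n10432 := d5_1 D10744 (iv D10432) (iv F29504)
theorem F34703 : act 1 n10744 = n10408 := d11_1 D10744 F33620 F33617
theorem F34704 : act 2 n10744 = n9909 := d16_1 D10744 (iv D9909) (iv F29505)
theorem F34705 : act 3 n10744 = n9242 := d20_1 D10744 (iv D9242) D9241
theorem F34706 : act 7 n10744 = n9509 := d27_2 (iv F29507) D10744 (iv D9509) F24836 (iv F24201)
def n10745 : Q := act 5 n9242
theorem D10745 : act 5 n9242 = n10745 := rfl
theorem F34707 : act 0 n10745 = n9521 := d4_1 D10745 F30333 (iv F29508)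
theorem F34708 : act 2 n10745 = n9480 := d15_1 D10745 F30205 (iv F29509)
theorem F34709 : act 4 n10745 = n10002 := d22_1 D10745 F32093 (iv F29510)
theorem F34710 : act 6 n10745 = n9479 := d25_2 D9242 D10745 F30199 F24761 (iv F24188)
theorem F34711 : act 7 n10745 = n9243 := d26_2 (iv F29511) D10745 (iv D9243)
def n10746 : Q := act 1 n9243
theorem D10746 : act 1 n9243 = n10746 := rfl
theorem F34712 : act 3 n10746 = n9511 := d8_2 (iv F29514) D10746 (iv D9511)
theorem F34713 : act 6 n10746 = n10746 := d11_2 F29515 D10746 (iv D10746)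
def n10747 : Q := act 3 n9245
theorem D10747 : act 3 n9245 = n10747 := rfl
theorem F34714 : act 1 n10747 = n9246 := d8_1 D10747 (iv D9246) (iv F29521)
theorem F34715 : act 7 n10747 = n10260 := d21_2 D9245 D10747 (iv D10260) (iv D8716) (iv F24193)
def n10748 : Q := act 4 n9246
theorem D10748 : act 4 n9246 = n10748 := rfl
theorem F34716 : act 0 n10748 = n9908 := d3_1 D10748 (iv D9908) (iv F29524)
theorem F34717 : act 2 n10748 = n10431 := d14_1 D10748 (iv D10431) (iv F29525)
theorem F34718 : act 3 n10748 = n9265 := d18_1 D10748 (iv D9265) (iv D7651) (iv F24198) D9246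
theorem F34719 : act 5 n10748 = n9248 := d22_2 (iv F29526) D10748 (iv D9248)
theorem F34720 : act 7 n10748 = n10261 := d24_2 (iv F29527) D10748 (iv D10261)
def n10749 : Q := act 6 n9246
theorem D10749 : act 6 n9246 = n10749 := rfl
theorem F34721 : act 0 n10749 = n9909 := d5_1 D10749 (iv D9909) (iv F29524)
theorem F34722 : act 2 n10749 = n10432 := d16_1 D10749 (iv D10432) (iv F29525)
theorem F34723 : act 3 n10749 = n9247 := d20_1 D10749 (iv D9247) D9246
theorem F34724 : act 5 n10749 = n9517 := d25_1 D10749 (iv D9517) F24848 (iv F24201) (iv F29526)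
theorem F34725 : act 7 n10749 = n10732 := d27_2 (iv F29527) D10749 F34664 (iv F30193) F30192
def n10750 : Q := act 4 n9251
theorem D10750 : act 4 n9251 = n10750 := rfl
theorem F34726 : act 3 n10750 = n9257 := d18_1 D10750 (iv D9257) (iv D7645) (iv F24213) D9251
def n10751 : Q := act 4 n9255
theorem D10751 : act 4 n9255 = n10751 := rfl
theorem F34727 : act 5 n10751 = n9257 := d22_2 (iv F29547) D10751 (iv D9257)
theorem F34728 : act 7 n10751 = n9265 := d24_2 (iv F29548) D10751 (iv D9265)
def n10752 : Q := act 6 n9257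
theorem D10752 : act 6 n9257 = n10752 := rfl
theorem F34729 : act 4 n10752 = n9258 := d23_1 D10752 (iv D9258) D9257
theorem F34730 : act 7 n10752 = n9540 := d27_2 (iv F29551) D10752 (iv D9540) F24907 (iv F24233)
def n10753 : Q := act 5 n9258
theorem D10753 : act 5 n9258 = n10753 := rfl
theorem F34731 : act 3 n10753 = n9259 := d19_1 D10753 (iv D9259) (iv F29552)
theorem F34732 : act 7 n10753 = n9541 := d26_2 (iv F29553) D10753 (iv D9541)
def n10754 : Q := act 6 n9262
theorem D10754 : act 6 n9262 = n10754 := rfl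
theorem F34733 : act 0 n10754 = n9264 := d5_1 D10754 (iv D9264) (iv F29572)
theorem F34734 : act 1 n10754 = n9924 := d11_1 D10754 F31778 (iv F29763)
theorem F34735 : act 2 n10754 = n9923 := d16_1 D10754 F31774 F30541
theorem F34736 : act 7 n10754 = n10754 := d27_2 D9262 D10754 (iv D10754) (iv D9262) F24224
def n10755 : Q := act 4 n9263
theorem D10755 : act 4 n9263 = n10755 := rfl
theorem F34737 : act 1 n10755 = n9265 := d9_1 D10755 (iv D9265) (iv F29573)
def n10756 : Q := act 6 n9263
theorem D10756 : act 6 n9263 = n10756 := rfl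
theorem F34738 : act 1 n10756 = n9266 := d11_1 D10756 (iv D9266) (iv F29573)
theorem F34739 : act 3 n10756 = n9264 := d20_1 D10756 (iv D9264) D9263
def n10757 : Q := act 5 n9264
theorem D10757 : act 5 n9264 = n10757 := rfl
theorem F34740 : act 1 n10757 = n9548 := d10_1 D10757 (iv D9548) F24915 (iv F24231) (iv F29574)
theorem F34741 : act 2 n10757 = n10487 := d15_1 D10757 F33789 F30484
theorem F34742 : act 4 n10757 = n10486 := d22_1 D10757 F33785 (iv F30482)
theorem F34743 : act 7 n10757 = n10757 := d26_2 F29575 D10757 (iv D10757)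
def n10758 : Q := act 6 n9265
theorem D10758 : act 6 n9265 = n10758 := rfl
theorem F34744 : act 4 n10758 = n9266 := d23_1 D10758 (iv D9266) D9265
theorem F34745 : act 5 n10758 = n9552 := d25_1 D10758 (iv D9552) F24921 (iv F24233) (iv F29576)
def n10759 : Q := act 7 n9266
theorem D10759 : act 7 n9266 = n10759 := rfl
theorem F34746 : act 3 n10759 = n10759 := d21_1 D10759 (iv D10759) F29577 F24232 (iv F29577)
theorem F34747 : act 5 n10759 = n9553 := d26_1 D10759 (iv D9553) (iv F29578)
def n10760 : Q := act 7 n9270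
theorem D10760 : act 7 n9270 = n10760 := rfl
theorem F34748 : act 0 n10760 = n10760 := d6_1 D10760 (iv D10760) F29597
theorem F34749 : act 2 n10760 = n10760 := d17_1 D10760 (iv D10760) F29598
theorem F34750 : act 3 n10760 = n9596 := d21_1 D10760 (iv D9596) F25107 (iv F24273) (iv F29599)
theorem F34751 : act 4 n10760 = n10596 := d24_1 D10760 (iv D10596) (iv F29600)
theorem F34752 : act 5 n10760 = n9271 := d26_1 D10760 (iv D9271) D9270
def n10761 : Q := act 4 n9277
theorem D10761 : act 4 n9277 = n10761 := rfl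
theorem F34753 : act 1 n10761 = n9308 := d9_1 D10761 (iv D9308) (iv F29629)
theorem F34754 : act 3 n10761 = n9297 := d18_1 D10761 (iv D9297) (iv D7691) (iv F24327) D9277
def n10762 : Q := act 7 n9277
theorem D10762 : act 7 n9277 = n10762 := rfl
theorem F34755 : act 1 n10762 = n9309 := d12_1 D10762 (iv D9309) (iv F29629)
theorem F34756 : act 3 n10762 = n10762 := d21_1 D10762 (iv D10762) (iv D9277) F24328 D9277
def n10763 : Q := act 0 n9278
theorem D10763 : act 0 n9278 = n10763 := rfl
theorem F34757 : act 1 n10763 = n9281 := d0_2 D9278 D10763 (iv D9281) (iv D7679) (iv F24329)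
theorem F34758 : act 3 n10763 = n10450 := d2_2 (iv F29630) D10763 F33652
theorem F34759 : act 4 n10763 = n9731 := d3_2 (iv F29631) D10763 F31129
theorem F34760 : act 5 n10763 = n9567 := d4_2 (iv F29632) D10763 (iv D9567)
theorem F34761 : act 7 n10763 = n9961 := d6_2 F31080 D10763 F31914
theorem F34762 : act 2 n10343 = n10763 := d17_3 F34761 F31916 (iv F33344)
def n10764 : Q := act 2 n9278
theorem D10764 : act 2 n9278 = n10764 := rfl
theorem F34763 : act 0 n10764 = n10343 := d1_1 D10764 F34762 (iv D10763)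
theorem F34764 : act 3 n10764 = n10344 := d13_2 (iv F29630) D10764 (iv F33347) F28369 D8900
theorem F34765 : act 4 n10764 = n9971 := d14_2 (iv F29631) D10764 (iv D9971)
theorem F34766 : act 5 n10764 = n9568 := d15_2 (iv F29632) D10764 (iv D9568)
theorem F34767 : act 7 n10764 = n9962 := d17_2 F31080 D10764 F31921
def n10765 : Q := act 0 n9279
theorem D10765 : act 0 n9279 = n10765 := rfl
theorem F34768 : act 1 n10765 = n10450 := d0_2 D9279 D10765 F33652 F28375 (iv F24332)
theorem F34769 : act 3 n10765 = n9281 := d2_2 (iv F29633) D10765 (iv D9281)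
theorem F34770 : act 4 n10765 = n9869 := d3_2 (iv F29634) D10765 F31575
theorem F34771 : act 5 n10765 = n9283 := d4_2 (iv F29635) D10765 (iv D9283)
theorem F34772 : act 7 n10765 = n9866 := d6_2 F29636 D10765 F31566
def n10766 : Q := act 2 n9279
theorem D10766 : act 2 n9279 = n10766 := rfl
theorem F34773 : act 1 n10766 = n10157 := d7_1 D10766 F32700 F27468 (iv F24333) D9279
theorem F34774 : act 4 n10766 = n9850 := d14_2 (iv F29634) D10766 F31517
theorem F34775 : act 5 n10766 = n9284 := d15_2 (iv F29635) D10766 (iv D9284)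
theorem F34776 : act 7 n10766 = n9847 := d17_2 F29636 D10766 F31503
def n10767 : Q := act 6 n9280
theorem D10767 : act 6 n9280 = n10767 := rfl
theorem F34777 : act 0 n10767 = n9595 := d5_1 D10767 (iv D9595) (iv F29637)
theorem F34778 : act 1 n10767 = n9871 := d11_1 D10767 F31585 (iv F29638)
theorem F34779 : act 2 n10767 = n9617 := d16_1 D10767 (iv D9617) (iv F29639)
theorem F34780 : act 4 n10767 = n9873 := d23_1 D10767 F31591 (iv F29640)
theorem F34781 : act 5 n10767 = n10767 := d25_1 D10767 (iv D10767) F29641 F24339 (iv F29641)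
def n10768 : Q := act 2 n9281
theorem D10768 : act 2 n9281 = n10768 := rfl
theorem F34782 : act 0 n10768 = n9282 := d1_1 D10768 (iv D9282) D9281
theorem F34783 : act 1 n10768 = n10341 := d7_1 D10768 F33337 D10343 F34762 F34757
theorem F34784 : act 5 n10768 = n9285 := d15_2 (iv F29642) D10768 (iv D9285)
def n10769 : Q := act 3 n9282
theorem D10769 : act 3 n9282 = n10769 := rfl
theorem F34785 : act 5 n10769 = n9286 := d19_2 (iv F29643) D10769 (iv D9286)
def n10770 : Q := act 2 n9283
theorem D10770 : act 2 n9283 = n10770 := rfl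
theorem F34786 : act 0 n10770 = n9284 := d1_1 D10770 (iv D9284) D9283
theorem F34787 : act 1 n10770 = n10022 := d7_1 D10770 F32147 F28518 F26497 (iv F29644)
theorem F34788 : act 4 n10770 = n9846 := d14_2 (iv F29646) D10770 F31500
theorem F34789 : act 6 n10770 = n9291 := d16_2 (iv F29647) D10770 (iv D9291)
theorem F34790 : act 7 n10770 = n9844 := d17_2 (iv F29648) D10770 F31491
def n10771 : Q := act 3 n9284
theorem D10771 : act 3 n9284 = n10771 := rfl
theorem F34791 : act 1 n10771 = n9853 := d8_1 D10771 (iv D9853) (iv F29649)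
theorem F34792 : act 2 n10771 = n9286 := d13_1 D10771 (iv D9286) (iv D7682) (iv F24341) D9284
theorem F34793 : act 6 n10771 = n9293 := d20_2 (iv F29651) D10771 (iv D9293)
def n10772 : Q := act 1 n9285
theorem D10772 : act 1 n9285 = n10772 := rfl
theorem F34794 : act 0 n10772 = n9312 := d0_1 D10772 (iv D9312) F24394 (iv F24347) (iv F29653)
theorem F34795 : act 2 n10772 = n9569 := d7_2 D9285 D10772 (iv D9569) (iv D7915) (iv F24345)
theorem F34796 : act 5 n10772 = n10338 := d10_2 F34784 D10772 F33327 D10341 (iv F34783)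
theorem F34797 : act 6 n10772 = n9295 := d11_2 (iv F29654) D10772 (iv D9295)
def n10773 : Q := act 3 n9285
theorem D10773 : act 3 n9285 = n10773 := rfl
theorem F34798 : act 0 n10773 = n9286 := d2_1 D10773 (iv D9286) (iv F29653)
theorem F34799 : act 6 n10773 = n9296 := d20_2 (iv F29654) D10773 (iv D9296)
def n10774 : Q := act 4 n9286
theorem D10774 : act 4 n9286 = n10774 := rfl
theorem F34800 : act 1 n10774 = n9314 := d9_1 D10774 (iv D9314) (iv F29655)
theorem F34801 : act 6 n10774 = n9297 := d23_2 (iv F29656) D10774 (iv D9297)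
def n10775 : Q := act 7 n9286
theorem D10775 : act 7 n9286 = n10775 := rfl
theorem F34802 : act 1 n10775 = n9315 := d12_1 D10775 (iv D9315) (iv F29655)
def n10776 : Q := act 2 n9287
theorem D10776 : act 2 n9287 = n10776 := rfl
theorem F34803 : act 4 n10776 = n9839 := d14_2 (iv F29658) D10776 F31481
theorem F34804 : act 5 n10776 = n9289 := d15_2 (iv F29659) D10776 (iv D9289)
theorem F34805 : act 6 n10776 = n10161 := d16_2 (iv F29660) D10776 F32717
theorem F34806 : act 7 n10776 = n9837 := d17_2 F29661 D10776 F31479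
def n10777 : Q := act 6 n9288
theorem D10777 : act 6 n9288 = n10777 := rfl
theorem F34807 : act 0 n10777 = n10437 := d5_1 D10777 (iv D10437) (iv F29662)
theorem F34808 : act 1 n10777 = n9831 := d11_1 D10777 F31462 (iv F29663)
theorem F34809 : act 4 n10777 = n9832 := d23_1 D10777 F31466 (iv F29664)
theorem F34810 : act 5 n10777 = n10777 := d25_1 D10777 (iv D10777) F29665 F24355 (iv F29665)
theorem F34811 : act 7 n10777 = n10168 := d27_2 D9288 D10777 F32745 (iv F27516) (iv F24351)
def n10778 : Q := act 3 n9289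
theorem D10778 : act 3 n9289 = n10778 := rfl
theorem F34812 : act 1 n10778 = n9293 := d8_1 D10778 (iv D9293) (iv F29666)
theorem F34813 : act 2 n10778 = n9321 := d13_1 D10778 (iv D9321) (iv D7708) (iv F24356) D9289
theorem F34814 : act 6 n10778 = n9853 := d20_2 (iv F29668) D10778 (iv D9853)
def n10779 : Q := act 3 n9290
theorem D10779 : act 3 n9290 = n10779 := rfl
theorem F34815 : act 0 n10779 = n10015 := d2_1 D10779 (iv D10015) (iv F29670)
theorem F34816 : act 1 n10779 = n9840 := d8_1 D10779 (iv D9840) (iv F29671)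
theorem F34817 : act 6 n10779 = n9851 := d20_2 (iv F29673) D10779 (iv D9851)
theorem F34818 : act 7 n10779 = n10019 := d21_2 (iv F29674) D10779 (iv D10019) (iv D8439) (iv F26188)
def n10780 : Q := act 3 n9291
theorem D10780 : act 3 n9291 = n10780 := rfl
theorem F34819 : act 0 n10780 = n9293 := d2_1 D10780 (iv D9293) (iv F29675)
theorem F34820 : act 1 n10780 = n10021 := d8_1 D10780 (iv D10021) (iv F29676)
theorem F34821 : act 2 n10780 = n9296 := d13_1 D10780 (iv D9296) (iv D7690) (iv F24364) D9291
def n10781 : Q := act 4 n9293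
theorem D10781 : act 4 n9293 = n10781 := rfl
theorem F34822 : act 2 n10781 = n9297 := d14_1 D10781 (iv D9297) (iv F29685)
def n10782 : Q := act 7 n9293
theorem D10782 : act 7 n9293 = n10782 := rfl
theorem F34823 : act 2 n10782 = n9298 := d17_1 D10782 (iv D9298) (iv F29685)
def n10783 : Q := act 3 n9295
theorem D10783 : act 3 n9295 = n10783 := rfl
theorem F34824 : act 0 n10783 = n9324 := d2_1 D10783 (iv D9324) (iv F29691)
theorem F34825 : act 1 n10783 = n9296 := d8_1 D10783 (iv D9296) D9295
def n10784 : Q := act 5 n9295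
theorem D10784 : act 5 n9295 = n10784 := rfl
theorem F34826 : act 0 n10784 = n9325 := d4_1 D10784 (iv D9325) (iv F29691)
theorem F34827 : act 2 n10784 = n9572 := d15_1 D10784 (iv D9572) (iv F29692)
theorem F34828 : act 6 n10784 = n10337 := d25_2 F34797 D10784 (iv D10337) D10338 (iv F34796)
theorem F34829 : act 7 n10784 = n10784 := d26_2 F29693 D10784 (iv D10784)
def n10785 : Q := act 4 n9296
theorem D10785 : act 4 n9296 = n10785 := rfl
theorem F34830 : act 0 n10785 = n9297 := d3_1 D10785 (iv D9297) (iv F29694)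
def n10786 : Q := act 7 n9296
theorem D10786 : act 7 n9296 = n10786 := rfl
theorem F34831 : act 0 n10786 = n9298 := d6_1 D10786 (iv D9298) (iv F29694)
theorem F34832 : act 3 n10786 = n10786 := d21_1 D10786 (iv D10786) (iv D9296) F24370 D9296
def n10787 : Q := act 7 n9297
theorem D10787 : act 7 n9297 = n10787 := rfl
theorem F34833 : act 1 n10787 = n9328 := d12_1 D10787 (iv D9328) (iv F29695)
theorem F34834 : act 4 n10787 = n9298 := d24_1 D10787 (iv D9298) D9297
def n10788 : Q := act 6 n9298
theorem D10788 : act 6 n9298 = n10788 := rfl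
theorem F34835 : act 1 n10788 = n9329 := d11_1 D10788 (iv D9329) (iv F29696)
theorem F34836 : act 3 n10788 = n10788 := d20_1 D10788 (iv D10788) F29697
def n10789 : Q := act 1 n9300
theorem D10789 : act 1 n9300 = n10789 := rfl
theorem F34837 : act 0 n10789 = n10371 := d0_1 D10789 (iv D10371) F28136 D8823 (iv F29703)
theorem F34838 : act 3 n10789 = n10356 := d8_2 (iv F29705) D10789 (iv D10356)
theorem F34839 : act 6 n10789 = n9302 := d11_2 (iv F29706) D10789 (iv D9302)
def n10790 : Q := act 7 n9300
theorem D10790 : act 7 n9300 = n10790 := rfl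
theorem F34840 : act 0 n10790 = n9885 := d6_1 D10790 F31631 (iv F29703)
theorem F34841 : act 2 n10790 = n9331 := d17_1 D10790 (iv D9331) (iv F29704)
theorem F34842 : act 5 n10790 = n9301 := d26_1 D10790 (iv D9301) D9300
def n10791 : Q := act 3 n9301
theorem D10791 : act 3 n9301 = n10791 := rfl
theorem F34843 : act 0 n10791 = n9920 := d2_1 D10791 (iv D9920) (iv F29707)
theorem F34844 : act 2 n10791 = n10747 := d13_1 D10791 (iv D10747) F29522 F26505 (iv F29708)
theorem F34845 : act 6 n10791 = n9563 := d20_2 (iv F29709) D10791 (iv D9563)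
theorem F34846 : act 7 n10791 = n10358 := d21_2 D9301 D10791 (iv D10358) (iv D8805) (iv F24378)
def n10792 : Q := act 0 n9302
theorem D10792 : act 0 n9302 = n10792 := rfl
theorem F34847 : act 1 n10792 = n9745 := d0_2 D9302 D10792 F31187 (iv F29699) F29698
theorem F34848 : act 3 n10792 = n10005 := d2_2 (iv F32173) D10792 (iv F32170)
theorem F34849 : act 5 n10792 = n9303 := d4_2 (iv F29710) D10792 (iv D9303)
theorem F34850 : act 6 n10792 = n10371 := d5_2 F34839 D10792 (iv F34837)
theorem F34851 : act 7 n10792 = n9770 := d6_2 F31250 D10792 F31266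
theorem F34852 : act 2 n10309 = n10792 := d17_3 F34851 F31267 D10309
def n10793 : Q := act 2 n9302
theorem D10793 : act 2 n9302 = n10793 := rfl
theorem F34853 : act 0 n10793 = n10309 := d1_1 D10793 F34852 (iv D10792)
theorem F34854 : act 1 n10793 = n9333 := d7_1 D10793 (iv D9333) (iv D7718) (iv F24379) D9302
theorem F34855 : act 4 n10793 = n10438 := d14_2 F31258 D10793 F33615
theorem F34856 : act 5 n10793 = n9304 := d15_2 (iv F29710) D10793 (iv D9304)
theorem F34857 : act 7 n10793 = n10141 := d17_2 F31250 D10793 F32645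
def n10794 : Q := act 3 n9304
theorem D10794 : act 3 n9304 = n10794 := rfl
theorem F34858 : act 0 n10794 = n10304 := d2_1 D10794 F33227 (iv F29716)
theorem F34859 : act 1 n10794 = n9305 := d8_1 D10794 (iv D9305) (iv F29717)
theorem F34860 : act 7 n10794 = n10139 := d21_2 (iv F29719) D10794 F32638 F27413 (iv F27417)
def n10795 : Q := act 4 n9305
theorem D10795 : act 4 n9305 = n10795 := rfl
theorem F34861 : act 2 n10795 = n9308 := d14_1 D10795 (iv D9308) (iv F29720)
theorem F34862 : act 3 n10795 = n10743 := d18_1 D10795 (iv D10743) (iv D9241) (iv F24380) D9305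
theorem F34863 : act 5 n10795 = n9338 := d22_2 (iv F29721) D10795 (iv D9338)
theorem F34864 : act 7 n10795 = n10750 := d24_2 (iv F29722) D10795 (iv D10750)
def n10796 : Q := act 3 n9306
theorem D10796 : act 3 n9306 = n10796 := rfl
theorem F34865 : act 1 n10796 = n9307 := d8_1 D10796 (iv D9307) D9306
def n10797 : Q := act 5 n9306
theorem D10797 : act 5 n9306 = n10797 := rfl
theorem F34866 : act 1 n10797 = n9341 := d10_1 D10797 (iv D9341) (iv D7723) (iv F24385) D9306
theorem F34867 : act 2 n10797 = n9575 := d15_1 D10797 (iv D9575) (iv F29723)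
theorem F34868 : act 4 n10797 = n9325 := d22_1 D10797 (iv D9325) (iv F29724)
theorem F34869 : act 7 n10797 = n10797 := d26_2 F29725 D10797 (iv D10797)
theorem F34870 : act 6 n10797 = n9542 := d29_4 (iv F22983) D7697 D9306 D10797 (iv F34261) (iv D10621) F29036 (iv F34257) F34258 (iv D10460) F28407 F23101 F18985 D7659 (iv F24264) (iv F25233) (iv D7982) (iv D6332) F14854 F13132 (iv F17527) F17526 D7156 (iv F26032) (iv D8189) (iv F22972) F22973 F17809 D7264
def n10798 : Q := act 4 n9307
theorem D10798 : act 4 n9307 = n10798 := rfl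
theorem F34871 : act 0 n10798 = n9308 := d3_1 D10798 (iv D9308) (iv F29726)
theorem F34872 : act 3 n10798 = n9326 := d18_1 D10798 (iv D9326) (iv D7711) (iv F24384) D9307
theorem F34873 : act 5 n10798 = n9342 := d22_2 (iv F29727) D10798 (iv D9342)
def n10799 : Q := act 7 n9307
theorem D10799 : act 7 n9307 = n10799 := rfl
theorem F34874 : act 0 n10799 = n9309 := d6_1 D10799 (iv D9309) (iv F29726)
theorem F34875 : act 2 n10799 = n10741 := d17_1 D10799 F34693 F33592
theorem F34876 : act 3 n10799 = n10799 := d21_1 D10799 (iv D10799) (iv D9307) F24386 D9307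
theorem F34877 : act 5 n10799 = n9343 := d26_1 D10799 (iv D9343) (iv F29727)
def n10800 : Q := act 7 n9308
theorem D10800 : act 7 n9308 = n10800 := rfl
theorem F34878 : act 2 n10800 = n10750 := d17_1 D10800 (iv F34864) F34861
theorem F34879 : act 4 n10800 = n9309 := d24_1 D10800 (iv D9309) D9308
theorem F34880 : act 5 n10800 = n9344 := d26_1 D10800 (iv D9344) (iv F29729)
def n10801 : Q := act 6 n9309
theorem D10801 : act 6 n9309 = n10801 := rfl
theorem F34881 : act 2 n10801 = n10137 := d16_1 D10801 F32632 (iv F29730)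
theorem F34882 : act 3 n10801 = n10801 := d20_1 D10801 (iv D10801) F29731
def n10802 : Q := act 3 n9310
theorem D10802 : act 3 n9310 = n10802 := rfl
theorem F34883 : act 1 n10802 = n9311 := d8_1 D10802 (iv D9311) (iv F29733)
theorem F34884 : act 2 n10802 = n9853 := d13_1 D10802 (iv D9853) F26227 (iv F24388) D9310
theorem F34885 : act 6 n10802 = n9321 := d20_2 (iv F29734) D10802 (iv D9321)
def n10803 : Q := act 4 n9311
theorem D10803 : act 4 n9311 = n10803 := rfl
theorem F34886 : act 0 n10803 = n10758 := d3_1 D10803 F34744 (iv F29736)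
theorem F34887 : act 2 n10803 = n9314 := d14_1 D10803 (iv D9314) (iv F29737)
theorem F34888 : act 6 n10803 = n9322 := d23_2 (iv F29738) D10803 (iv D9322)
def n10804 : Q := act 7 n9311
theorem D10804 : act 7 n9311 = n10804 := rfl
theorem F34889 : act 0 n10804 = n10759 := d6_1 D10804 (iv D10759) (iv F29736)
theorem F34890 : act 2 n10804 = n9315 := d17_1 D10804 (iv D9315) (iv F29737)
theorem F34891 : act 3 n10804 = n10804 := d21_1 D10804 (iv D10804) (iv D9311) F24393 D9311
def n10805 : Q := act 3 n9312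
theorem D10805 : act 3 n9312 = n10805 := rfl
theorem F34892 : act 1 n10805 = n9313 := d8_1 D10805 (iv D9313) D9312
theorem F34893 : act 6 n10805 = n9324 := d20_2 (iv F29740) D10805 (iv D9324)
def n10806 : Q := act 4 n9313
theorem D10806 : act 4 n9313 = n10806 := rfl
theorem F34894 : act 0 n10806 = n9314 := d3_1 D10806 (iv D9314) (iv F29741)
theorem F34895 : act 2 n10806 = n10758 := d14_1 D10806 F34744 (iv F29742)
theorem F34896 : act 6 n10806 = n9326 := d23_2 (iv F29743) D10806 (iv D9326)
def n10807 : Q := act 7 n9313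
theorem D10807 : act 7 n9313 = n10807 := rfl
theorem F34897 : act 0 n10807 = n9315 := d6_1 D10807 (iv D9315) (iv F29741)
theorem F34898 : act 2 n10807 = n10759 := d17_1 D10807 (iv D10759) (iv F29742)
def n10808 : Q := act 7 n9314
theorem D10808 : act 7 n9314 = n10808 := rfl
theorem F34899 : act 4 n10808 = n9315 := d24_1 D10808 (iv D9315) D9314
def n10809 : Q := act 6 n9315
theorem D10809 : act 6 n9315 = n10809 := rfl
theorem F34900 : act 7 n10809 = n9329 := d27_2 D9315 D10809 (iv D9329) (iv D7713) (iv F24396)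
def n10810 : Q := act 2 n9316
theorem D10810 : act 2 n9316 = n10810 := rfl
theorem F34901 : act 0 n10810 = n10258 := d1_1 D10810 F33074 (iv F29745)
theorem F34902 : act 1 n10810 = n9349 := d7_1 D10810 (iv D9349) (iv D7729) (iv F24402) D9316
theorem F34903 : act 5 n10810 = n10169 := d15_2 (iv F29747) D10810 (iv D10169)
theorem F34904 : act 6 n10810 = n9319 := d16_2 (iv F29748) D10810 (iv D9319)
theorem F34905 : act 7 n10810 = n10186 := d17_2 F29749 D10810 (iv D10186)
def n10811 : Q := act 2 n9318
theorem D10811 : act 2 n9318 = n10811 := rfl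
theorem F34906 : act 0 n10811 = n9319 := d1_1 D10811 (iv D9319) D9318
theorem F34907 : act 5 n10811 = n9320 := d15_2 (iv F29756) D10811 (iv D9320)
theorem F34908 : act 6 n10811 = n10258 := d16_2 (iv F29757) D10811 F33074
theorem F34909 : act 7 n10811 = n10740 := d17_2 F31657 D10811 F34689
def n10812 : Q := act 3 n9319
theorem D10812 : act 3 n9319 = n10812 := rfl
theorem F34910 : act 1 n10812 = n9355 := d8_1 D10812 (iv D9355) (iv F29758)
theorem F34911 : act 5 n10812 = n9321 := d19_2 (iv F29759) D10812 (iv D9321)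
def n10813 : Q := act 3 n9320
theorem D10813 : act 3 n9320 = n10813 := rfl
theorem F34912 : act 0 n10813 = n9321 := d2_1 D10813 (iv D9321) (iv F29761)
theorem F34913 : act 1 n10813 = n10691 := d8_1 D10813 F34527 F29763
theorem F34914 : act 7 n10813 = n10664 := d21_2 (iv F29762) D10813 (iv D10664) (iv F34397) F34395
def n10814 : Q := act 4 n9321
theorem D10814 : act 4 n9321 = n10814 := rfl
theorem F34915 : act 1 n10814 = n9322 := d9_1 D10814 (iv D9322) (iv F29764)
def n10815 : Q := act 7 n9321
theorem D10815 : act 7 n9321 = n10815 := rfl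
theorem F34916 : act 0 n10815 = n10664 := d6_1 D10815 (iv F34914) F34912
theorem F34917 : act 1 n10815 = n9323 := d12_1 D10815 (iv D9323) (iv F29764)
theorem F34918 : act 3 n10815 = n10663 := d21_1 D10815 F34410 F29486 (iv F24413) D9321
theorem F34919 : act 6 n10675 = n10815 := d20_0 F34918 F34409 D10675
def n10816 : Q := act 7 n9322
theorem D10816 : act 7 n9322 = n10816 := rfl
theorem F34920 : act 0 n10816 = n10751 := d6_1 D10816 F34728 (iv F29765)
theorem F34921 : act 2 n10816 = n9328 := d17_1 D10816 (iv D9328) (iv F29766)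
theorem F34922 : act 4 n10816 = n9323 := d24_1 D10816 (iv D9323) D9322
theorem F34923 : act 5 n10816 = n9359 := d26_1 D10816 (iv D9359) (iv F29767)
def n10817 : Q := act 6 n9323
theorem D10817 : act 6 n9323 = n10817 := rfl
theorem F34924 : act 0 n10817 = n10627 := d5_1 D10817 (iv F34279) (iv F29768)
theorem F34925 : act 1 n10817 = n10675 := d11_1 D10817 F34919 F34917
theorem F34926 : act 2 n10817 = n9329 := d16_1 D10817 (iv D9329) (iv F29769)
theorem F34927 : act 3 n10817 = n10634 := d20_1 D10817 F34298 (iv F29770)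
def n10818 : Q := act 2 n9324
theorem D10818 : act 2 n9324 = n10818 := rfl
theorem F34928 : act 1 n10818 = n10631 := d7_1 D10818 F34289 F29573 (iv F24420) (iv F29772)
theorem F34929 : act 3 n10818 = n9585 := d13_2 D9324 D10818 (iv D9585) (iv D7935) (iv F24417)
theorem F34930 : act 7 n10625 = n10818 := d21_0 F34929 F32340 (iv F32598) F32600 (iv F34273)
def n10819 : Q := act 4 n9324
theorem D10819 : act 4 n9324 = n10819 := rfl
theorem F34931 : act 1 n10819 = n9326 := d9_1 D10819 (iv D9326) (iv F29772)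
def n10820 : Q := act 5 n9324
theorem D10820 : act 5 n9324 = n10820 := rfl
theorem F34932 : act 1 n10820 = n9363 := d10_1 D10820 (iv D9363) F24476 (iv F24421) (iv F29772)
theorem F34933 : act 3 n10820 = n9325 := d19_1 D10820 (iv D9325) D9324
def n10821 : Q := act 7 n9324
theorem D10821 : act 7 n9324 = n10821 := rfl
theorem F34934 : act 1 n10821 = n9327 := d12_1 D10821 (iv D9327) (iv F29772)
theorem F34935 : act 2 n10821 = n10625 := d17_1 D10821 F34930 (iv D10818)
theorem F34936 : act 3 n10821 = n10821 := d21_1 D10821 (iv D10821) (iv D9324) F24418 D9324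
theorem F34937 : act 6 n10623 = n10821 := d16_0 F34935 (iv D10625) D10623
def n10822 : Q := act 6 n9325
theorem D10822 : act 6 n9325 = n10822 := rfl
theorem F34938 : act 0 n10822 = n10337 := d5_1 D10822 (iv F34828) F34826
theorem F34939 : act 1 n10822 = n9365 := d11_1 D10822 (iv D9365) (iv F29773)
theorem F34940 : act 2 n10822 = n9589 := d16_1 D10822 (iv D9589) (iv F29774)
theorem F34941 : act 4 n10822 = n9542 := d23_1 D10822 (iv F34870) F34868
theorem F34942 : act 5 n10822 = n10336 := d25_1 D10822 (iv F33323) F32060 F29740 D9325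
theorem F34943 : act 7 n9534 = n10822 := d30_29 (iv D10822) (iv D9325) (iv D7710) (iv D6098) F14270 (iv D4551) F10112 (iv D3273) F7049 (iv F6414) (iv F8892) D4062 F12624 (iv F12837) (iv F17529) (iv F22694) D8750 (iv F31010) (iv D9695) F25717 F23720 F19448 D7858 F24830 D7882 D9532 (iv F32617) F32618 F32619
def n10823 : Q := act 7 n9326
theorem D10823 : act 7 n9326 = n10823 := rfl
theorem F34944 : act 0 n10823 = n9328 := d6_1 D10823 (iv D9328) (iv F29776)
theorem F34945 : act 2 n10823 = n10751 := d17_1 D10823 F34728 (iv F29777)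
theorem F34946 : act 4 n10823 = n9327 := d24_1 D10823 (iv D9327) D9326
theorem F34947 : act 5 n10823 = n9366 := d26_1 D10823 (iv D9366) (iv F29778)
def n10824 : Q := act 6 n9327
theorem D10824 : act 6 n9327 = n10824 := rfl
theorem F34948 : act 0 n10824 = n9329 := d5_1 D10824 (iv D9329) (iv F29779)
theorem F34949 : act 1 n10824 = n10623 := d11_1 D10824 F34937 F34934
theorem F34950 : act 2 n10824 = n10627 := d16_1 D10824 (iv F34279) (iv F29780)
theorem F34951 : act 3 n10824 = n10824 := d20_1 D10824 (iv D10824) F29781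
def n10825 : Q := act 3 n9328
theorem D10825 : act 3 n9328 = n10825 := rfl
theorem F34952 : act 4 n10825 = n10825 := d18_2 (iv F29783) D10825 (iv D10825) F29783 F24423
theorem F34953 : act 5 n10825 = n9368 := d19_2 (iv F29784) D10825 (iv D9368)
def n10826 : Q := act 6 n9328
theorem D10826 : act 6 n9328 = n10826 := rfl
theorem F34954 : act 4 n10826 = n9329 := d23_1 D10826 (iv D9329) (iv F29783)
def n10827 : Q := act 5 n9329
theorem D10827 : act 5 n9329 = n10827 := rfl
theorem F34955 : act 3 n10827 = n10827 := d19_1 D10827 (iv D10827) F29785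
theorem F34956 : act 6 n10827 = n9370 := d25_2 D9329 D10827 (iv D9370) (iv D7743) (iv F24424)
def n10828 : Q := act 2 n9330
theorem D10828 : act 2 n9330 = n10828 := rfl
theorem F34957 : act 0 n10828 = n9901 := d1_1 D10828 F31675 (iv F29786)
theorem F34958 : act 4 n10828 = n10811 := d14_2 (iv F29787) D10828 (iv D10811)
theorem F34959 : act 5 n10828 = n9905 := d15_2 (iv F29788) D10828 F31693
theorem F34960 : act 6 n10828 = n9333 := d16_2 (iv F29789) D10828 (iv D9333)
theorem F34961 : act 7 n10828 = n9900 := d17_2 F29790 D10828 (iv D9900)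
def n10829 : Q := act 2 n9332
theorem D10829 : act 2 n9332 = n10829 := rfl
theorem F34962 : act 0 n10829 = n9333 := d1_1 D10829 (iv D9333) D9332
theorem F34963 : act 1 n10829 = n10427 := d7_1 D10829 F33583 F28310 (iv F26368) (iv F29794)
theorem F34964 : act 4 n10829 = n10810 := d14_2 (iv F29795) D10829 (iv D10810)
theorem F34965 : act 5 n10829 = n9334 := d15_2 (iv F29796) D10829 (iv D9334)
theorem F34966 : act 6 n10829 = n9901 := d16_2 (iv F29797) D10829 F31675
def n10830 : Q := act 3 n9333
theorem D10830 : act 3 n9333 = n10830 := rfl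
theorem F34967 : act 5 n10830 = n9335 := d19_2 (iv F29798) D10830 (iv D9335)
def n10831 : Q := act 1 n9334
theorem D10831 : act 1 n9334 = n10831 := rfl
theorem F34968 : act 0 n10831 = n9336 := d0_1 D10831 (iv D9336) F24439 (iv F24438) (iv F29799)
theorem F34969 : act 2 n10831 = n9433 := d7_2 D9334 D10831 (iv D9433) (iv D7795) (iv F24437)
theorem F34970 : act 4 n10831 = n10192 := d9_2 F32748 D10831 F32826
theorem F34971 : act 7 n10831 = n10190 := d12_2 F32816 D10831 F32818
def n10832 : Q := act 3 n9334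
theorem D10832 : act 3 n9334 = n10832 := rfl
theorem F34972 : act 0 n10832 = n9335 := d2_1 D10832 (iv D9335) (iv F29799)
theorem F34973 : act 2 n10832 = n10553 := d13_1 D10832 (iv D10553) F28826 F27902 D9334
theorem F34974 : act 6 n10832 = n10716 := d20_2 F33099 D10832 F34617
theorem F34975 : act 7 n10832 = n10680 := d21_2 F32816 D10832 (iv D10680) (iv F34478) F34475
def n10833 : Q := act 4 n9335
theorem D10833 : act 4 n9335 = n10833 := rfl
theorem F34976 : act 1 n10833 = n9338 := d9_1 D10833 (iv D9338) (iv F29800)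
def n10834 : Q := act 7 n9335
theorem D10834 : act 7 n9335 = n10834 := rfl
theorem F34977 : act 0 n10834 = n10680 := d6_1 D10834 (iv F34975) F34972
theorem F34978 : act 1 n10834 = n9339 := d12_1 D10834 (iv D9339) (iv F29800)
theorem F34979 : act 2 n10834 = n9416 := d17_1 D10834 (iv F34560) F34558
theorem F34980 : act 3 n10834 = n10636 := d21_1 D10834 (iv F34308) F29536 F27815 D9335
theorem F34981 : act 6 n10834 = n9414 := d27_1 D10834 F30010 (iv F29446) (iv F33947) F33946
def n10835 : Q := act 3 n9336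
theorem D10835 : act 3 n9336 = n10835 := rfl
theorem F34982 : act 1 n10835 = n9337 := d8_1 D10835 (iv D9337) D9336
def n10836 : Q := act 5 n9336
theorem D10836 : act 5 n9336 = n10836 := rfl
theorem F34983 : act 1 n10836 = n9775 := d10_1 D10836 F31290 (iv F28318) F28321 D9336
theorem F34984 : act 2 n10836 = n9436 := d15_1 D10836 (iv D9436) (iv F29801)
theorem F34985 : act 4 n10836 = n10184 := d22_1 D10836 F32795 (iv F29802)
theorem F34986 : act 7 n10836 = n9774 := d26_2 (iv F29803) D10836 F31287
def n10837 : Q := act 4 n9337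
theorem D10837 : act 4 n9337 = n10837 := rfl
theorem F34987 : act 0 n10837 = n9338 := d3_1 D10837 (iv D9338) (iv F29804)
theorem F34988 : act 2 n10837 = n9342 := d14_1 D10837 (iv D9342) (iv F29805)
theorem F34989 : act 3 n10837 = n10194 := d18_1 D10837 (iv D10194) (iv D8646) (iv F24440) D9337
def n10838 : Q := act 7 n9337
theorem D10838 : act 7 n9337 = n10838 := rfl
theorem F34990 : act 0 n10838 = n9339 := d6_1 D10838 (iv D9339) (iv F29804)
theorem F34991 : act 2 n10838 = n9343 := d17_1 D10838 (iv D9343) (iv F29805)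
theorem F34992 : act 3 n10838 = n10193 := d21_1 D10838 (iv D10193) (iv D8645) (iv F24441) D9337
theorem F34993 : act 5 n10838 = n10741 := d26_1 D10838 F34693 F33593
def n10839 : Q := act 7 n9338
theorem D10839 : act 7 n9338 = n10839 := rfl
theorem F34994 : act 2 n10839 = n9344 := d17_1 D10839 (iv D9344) (iv F29806)
theorem F34995 : act 3 n10839 = n10751 := d21_1 D10839 F34728 (iv F34718) F34720 F33084
theorem F34996 : act 4 n10839 = n9339 := d24_1 D10839 (iv D9339) D9338
theorem F34997 : act 5 n10839 = n10750 := d26_1 D10839 (iv F34864) F34863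
def n10840 : Q := act 6 n9339
theorem D10840 : act 6 n9339 = n10840 := rfl
theorem F34998 : act 1 n10840 = n9414 := d11_1 D10840 (iv F34981) F34978
theorem F34999 : act 2 n10840 = n9345 := d16_1 D10840 (iv D9345) (iv F29807)
theorem F35000 : act 3 n10840 = n10635 := d20_1 D10840 F34302 (iv F29808)
theorem F35001 : act 7 n10840 = n9420 := d27_2 D9339 D10840 F33954 (iv D10531) F28770
def n10841 : Q := act 2 n9340
theorem D10841 : act 2 n9340 = n10841 := rfl
theorem F35002 : act 0 n10841 = n10527 := d1_1 D10841 (iv F34317) F34315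
theorem F35003 : act 3 n10841 = n9438 := d13_2 D9340 D10841 (iv D9438) (iv D7800) (iv F24443)
theorem F35004 : act 6 n10841 = n9535 := d16_2 (iv F29811) D10841 (iv D9535)
def n10842 : Q := act 4 n9340
theorem D10842 : act 4 n9340 = n10842 := rfl
theorem F35005 : act 1 n10842 = n9342 := d9_1 D10842 (iv D9342) (iv F29810)
theorem F35006 : act 3 n10842 = n9362 := d18_1 D10842 (iv D9362) (iv D7738) (iv F24444) D9340
theorem F35007 : act 6 n10842 = n9536 := d23_2 (iv F29811) D10842 (iv D9536)
def n10843 : Q := act 5 n9340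
theorem D10843 : act 5 n9340 = n10843 := rfl
theorem F35008 : act 3 n10843 = n9341 := d19_1 D10843 (iv D9341) D9340
theorem F35009 : act 6 n10843 = n9541 := d25_2 (iv F29811) D10843 (iv D9541) (iv D7887) (iv F24902)
def n10844 : Q := act 7 n9340
theorem D10844 : act 7 n9340 = n10844 := rfl
theorem F35010 : act 1 n10844 = n9343 := d12_1 D10844 (iv D9343) (iv F29810)
theorem F35011 : act 3 n10844 = n10844 := d21_1 D10844 (iv D10844) (iv D9340) F24446 D9340
theorem F35012 : act 6 n10844 = n9553 := d27_1 D10844 (iv D9553) (iv D7895) (iv F24903) (iv F29811)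
def n10845 : Q := act 7 n9342
theorem D10845 : act 7 n9342 = n10845 := rfl
theorem F35013 : act 0 n10845 = n9344 := d6_1 D10845 (iv D9344) (iv F29816)
theorem F35014 : act 4 n10845 = n9343 := d24_1 D10845 (iv D9343) D9342
def n10846 : Q := act 6 n9343
theorem D10846 : act 6 n9343 = n10846 := rfl
theorem F35015 : act 0 n10846 = n9345 := d5_1 D10846 (iv D9345) (iv F29818)
theorem F35016 : act 1 n10846 = n9553 := d11_1 D10846 (iv F35012) F35010
theorem F35017 : act 3 n10846 = n10846 := d20_1 D10846 (iv D10846) F29819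
theorem F35018 : act 7 n10846 = n9547 := d27_2 D9343 D10846 (iv D9547) (iv F24955) F24954
def n10847 : Q := act 3 n9344
theorem D10847 : act 3 n9344 = n10847 := rfl
theorem F35019 : act 4 n10847 = n10847 := d18_2 (iv F29820) D10847 (iv D10847) F29820 F24449
theorem F35020 : act 7 n10847 = n9368 := d21_2 D9344 D10847 (iv D9368) (iv D7742) (iv F24448)
def n10848 : Q := act 6 n9344
theorem D10848 : act 6 n9344 = n10848 := rfl
theorem F35021 : act 1 n10848 = n9422 := d11_1 D10848 F34568 F34565
theorem F35022 : act 4 n10848 = n9345 := d23_1 D10848 (iv D9345) (iv F29820)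
def n10849 : Q := act 5 n9345
theorem D10849 : act 5 n9345 = n10849 := rfl
theorem F35023 : act 1 n10849 = n9426 := d10_1 D10849 (iv D9426) (iv D7789) (iv F24600) (iv F29821)
theorem F35024 : act 3 n10849 = n10849 := d19_1 D10849 (iv D10849) F29822
def n10850 : Q := act 3 n9346
theorem D10850 : act 3 n9346 = n10850 := rfl
theorem F35025 : act 0 n10850 = n9351 := d2_1 D10850 (iv D9351) (iv F29823)
theorem F35026 : act 5 n10850 = n9347 := d19_2 (iv F29825) D10850 (iv D9347)
def n10851 : Q := act 2 n9347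
theorem D10851 : act 2 n9347 = n10851 := rfl
theorem F35027 : act 0 n10851 = n9352 := d1_1 D10851 (iv D9352) (iv F29826)
theorem F35028 : act 3 n10851 = n10192 := d13_2 D9347 D10851 F32827 F27575 (iv F24455)
theorem F35029 : act 6 n10851 = n9373 := d16_2 (iv F29828) D10851 (iv D9373)
def n10852 : Q := act 4 n9347
theorem D10852 : act 4 n9347 = n10852 := rfl
theorem F35030 : act 0 n10852 = n9353 := d3_1 D10852 (iv D9353) (iv F29826)
theorem F35031 : act 1 n10852 = n10271 := d9_1 D10852 (iv D10271) (iv F29827)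
theorem F35032 : act 6 n10852 = n9374 := d23_2 (iv F29828) D10852 (iv D9374)
def n10853 : Q := act 2 n9348
theorem D10853 : act 2 n9348 = n10853 := rfl
theorem F35033 : act 0 n10853 = n9349 := d1_1 D10853 (iv D9349) D9348
theorem F35034 : act 5 n10853 = n10573 := d15_2 (iv F29831) D10853 F34092
theorem F35035 : act 6 n10853 = n9354 := d16_2 (iv F29832) D10853 (iv D9354)
def n10854 : Q := act 7 n9348
theorem D10854 : act 7 n9348 = n10854 := rfl
theorem F35036 : act 0 n10854 = n9350 := d6_1 D10854 (iv D9350) D9348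
theorem F35037 : act 1 n10854 = n10389 := d12_1 D10854 (iv D10389) (iv F29829)
theorem F35038 : act 5 n10854 = n10551 := d26_1 D10854 F34024 (iv F29831)
theorem F35039 : act 6 n10854 = n10412 := d27_1 D10854 (iv D10412) F28264 (iv F24463) (iv F29832)
def n10855 : Q := act 3 n9349
theorem D10855 : act 3 n9349 = n10855 := rfl
theorem F35040 : act 6 n10855 = n9355 := d20_2 (iv F29833) D10855 (iv D9355)
def n10856 : Q := act 7 n9349
theorem D10856 : act 7 n9349 = n10856 := rfl
theorem F35041 : act 1 n10856 = n10186 := d12_1 D10856 (iv F34905) F34902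
theorem F35042 : act 2 n10856 = n9350 := d17_1 D10856 (iv D9350) D9349
theorem F35043 : act 6 n10856 = n10720 := d27_1 D10856 (iv D10720) F29410 (iv F24465) (iv F29833)
def n10857 : Q := act 3 n9350
theorem D10857 : act 3 n9350 = n10857 := rfl
theorem F35044 : act 1 n10857 = n9351 := d8_1 D10857 (iv D9351) (iv F29834)
theorem F35045 : act 6 n10857 = n10721 := d20_2 (iv F29835) D10857 (iv D10721)
def n10858 : Q := act 2 n9351
theorem D10858 : act 2 n9351 = n10858 := rfl
theorem F35046 : act 3 n10858 = n10184 := d13_2 D9351 D10858 F32794 (iv F29753) F29752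
theorem F35047 : act 5 n10858 = n9352 := d15_2 (iv F29836) D10858 (iv D9352)
def n10859 : Q := act 4 n9351
theorem D10859 : act 4 n9351 = n10859 := rfl
theorem F35048 : act 5 n10859 = n9353 := d22_2 (iv F29836) D10859 (iv D9353)
def n10860 : Q := act 4 n9352
theorem D10860 : act 4 n9352 = n10860 := rfl
theorem F35049 : act 1 n10860 = n10194 := d9_1 D10860 (iv D10194) (iv F29837)
theorem F35050 : act 2 n10860 = n9353 := d14_1 D10860 (iv D9353) D9352
theorem F35051 : act 6 n10860 = n9375 := d23_2 (iv F29839) D10860 (iv D9375)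
def n10861 : Q := act 1 n9354
theorem D10861 : act 1 n9354 = n10861 := rfl
theorem F35052 : act 2 n10861 = n10353 := d7_2 D9354 D10861 (iv D10353) F28094 (iv F24460)
theorem F35053 : act 5 n10861 = n10360 := d10_2 (iv F29842) D10861 F33395 F28119 (iv F24467)
theorem F35054 : act 7 n10861 = n10433 := d12_2 (iv F29843) D10861 (iv D10433)
def n10862 : Q := act 3 n9354
theorem D10862 : act 3 n9354 = n10862 := rfl
theorem F35055 : act 0 n10862 = n9355 := d2_1 D10862 (iv D9355) (iv F29841)
theorem F35056 : act 2 n10862 = n9458 := d13_1 D10862 (iv D9458) F24707 (iv F24461) D9354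
theorem F35057 : act 5 n10862 = n9356 := d19_2 (iv F29842) D10862 (iv D9356)
def n10863 : Q := act 4 n9355
theorem D10863 : act 4 n9355 = n10863 := rfl
theorem F35058 : act 5 n10863 = n9357 := d22_2 (iv F29844) D10863 (iv D9357)
def n10864 : Q := act 7 n9355
theorem D10864 : act 7 n9355 = n10864 := rfl
theorem F35059 : act 3 n10864 = n10739 := d21_1 D10864 (iv D10739) F29475 (iv F24465) D9355
theorem F35060 : act 5 n10864 = n9358 := d26_1 D10864 (iv D9358) (iv F29844)
def n10865 : Q := act 4 n9356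
theorem D10865 : act 4 n9356 = n10865 := rfl
theorem F35061 : act 0 n10865 = n9357 := d3_1 D10865 (iv D9357) (iv F29845)
theorem F35062 : act 1 n10865 = n10393 := d9_1 D10865 (iv D10393) (iv F29846)
theorem F35063 : act 2 n10865 = n9460 := d14_1 D10865 (iv D9460) (iv F29847)
theorem F35064 : act 6 n10865 = n10574 := d23_2 (iv F29848) D10865 (iv D10574)
def n10866 : Q := act 7 n9356
theorem D10866 : act 7 n9356 = n10866 := rfl
theorem F35065 : act 0 n10866 = n9358 := d6_1 D10866 (iv D9358) (iv F29845)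
theorem F35066 : act 1 n10866 = n10288 := d12_1 D10866 F33195 (iv F29846)
theorem F35067 : act 2 n10866 = n9454 := d17_1 D10866 F30124 (iv F29847)
theorem F35068 : act 3 n10866 = n9735 := d21_1 D10866 F31150 F25889 (iv F24469) D9356
theorem F35069 : act 6 n10866 = n9734 := d27_1 D10866 F31145 D10218 (iv F32917) (iv F29848)
def n10867 : Q := act 7 n9357
theorem D10867 : act 7 n9357 = n10867 := rfl
theorem F35070 : act 1 n10867 = n9359 := d12_1 D10867 (iv D9359) (iv F29849)
theorem F35071 : act 4 n10867 = n9358 := d24_1 D10867 (iv D9358) D9357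
def n10868 : Q := act 3 n9359
theorem D10868 : act 3 n9359 = n10868 := rfl
theorem F35072 : act 0 n10868 = n10750 := d2_1 D10868 F34726 (iv F29852)
theorem F35073 : act 4 n10868 = n10741 := d18_2 (iv F29854) D10868 (iv D10741) F29485 (iv F24475)
def n10869 : Q := act 6 n9359
theorem D10869 : act 6 n9359 = n10869 := rfl
theorem F35074 : act 0 n10869 = n10752 := d5_1 D10869 (iv D10752) (iv F29852)
theorem F35075 : act 2 n10869 = n9369 := d16_1 D10869 (iv D9369) (iv F29853)
theorem F35076 : act 4 n10869 = n9360 := d23_1 D10869 (iv D9360) (iv F29854)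
def n10870 : Q := act 5 n9360
theorem D10870 : act 5 n9360 = n10870 := rfl
theorem F35077 : act 0 n10870 = n10753 := d4_1 D10870 (iv D10753) (iv F29855)
theorem F35078 : act 2 n10870 = n9370 := d15_1 D10870 (iv D9370) (iv F29856)
theorem F35079 : act 3 n10870 = n10742 := d19_1 D10870 (iv D10742) (iv F29857)
def n10871 : Q := act 4 n9361
theorem D10871 : act 4 n9361 = n10871 := rfl
theorem F35080 : act 0 n10871 = n9554 := d3_1 D10871 (iv D9554) (iv F29858)
theorem F35081 : act 1 n10871 = n10394 := d9_1 D10871 (iv D10394) (iv F29859)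
theorem F35082 : act 2 n10871 = n9362 := d14_1 D10871 (iv D9362) D9361
theorem F35083 : act 6 n10871 = n10632 := d23_2 (iv F29861) D10871 (iv D10632)
def n10872 : Q := act 7 n9361
theorem D10872 : act 7 n9361 = n10872 := rfl
theorem F35084 : act 0 n10872 = n9537 := d6_1 D10872 F30388 (iv F29858)
theorem F35085 : act 1 n10872 = n10395 := d12_1 D10872 (iv D10395) (iv F29859)
theorem F35086 : act 2 n10872 = n9364 := d17_1 D10872 (iv D9364) D9361
theorem F35087 : act 3 n10872 = n9673 := d21_1 D10872 F30899 F25576 (iv F24662) (iv F29860)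
def n10873 : Q := act 5 n9362
theorem D10873 : act 5 n9362 = n10873 := rfl
theorem F35088 : act 4 n10873 = n9363 := d22_1 D10873 (iv D9363) D9362
def n10874 : Q := act 7 n9362
theorem D10874 : act 7 n9362 = n10874 := rfl
theorem F35089 : act 1 n10874 = n9366 := d12_1 D10874 (iv D9366) (iv F29862)
theorem F35090 : act 4 n10874 = n9364 := d24_1 D10874 (iv D9364) D9362
def n10875 : Q := act 6 n9363
theorem D10875 : act 6 n9363 = n10875 := rfl
theorem F35091 : act 3 n10875 = n9365 := d20_1 D10875 (iv D9365) (iv F29863)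
theorem F35092 : act 5 n10875 = n9531 := d25_1 D10875 (iv D9531) F24925 F24924 D9363
def n10876 : Q := act 7 n9363
theorem D10876 : act 7 n9363 = n10876 := rfl
theorem F35093 : act 3 n10876 = n10876 := d21_1 D10876 (iv D10876) F29863 F24478 (iv F29863)
theorem F35094 : act 5 n10876 = n9364 := d26_1 D10876 (iv D9364) D9363
def n10877 : Q := act 6 n9364
theorem D10877 : act 6 n9364 = n10877 := rfl
theorem F35095 : act 1 n10877 = n9367 := d11_1 D10877 (iv D9367) (iv F29864)
theorem F35096 : act 3 n10877 = n10877 := d20_1 D10877 (iv D10877) F29865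
def n10878 : Q := act 3 n9366
theorem D10878 : act 3 n9366 = n10878 := rfl
theorem F35097 : act 0 n10878 = n9368 := d2_1 D10878 (iv D9368) (iv F29870)
theorem F35098 : act 4 n10878 = n10878 := d18_2 (iv F29872) D10878 (iv D10878) F29872 F24483
def n10879 : Q := act 6 n9366
theorem D10879 : act 6 n9366 = n10879 := rfl
theorem F35099 : act 0 n10879 = n9369 := d5_1 D10879 (iv D9369) (iv F29870)
theorem F35100 : act 2 n10879 = n10752 := d16_1 D10879 (iv D10752) (iv F29871)
theorem F35101 : act 4 n10879 = n9367 := d23_1 D10879 (iv D9367) (iv F29872)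
def n10880 : Q := act 5 n9367
theorem D10880 : act 5 n9367 = n10880 := rfl
theorem F35102 : act 0 n10880 = n9370 := d4_1 D10880 (iv D9370) (iv F29873)
theorem F35103 : act 2 n10880 = n10753 := d15_1 D10880 (iv D10753) (iv F29874)
theorem F35104 : act 3 n10880 = n10880 := d19_1 D10880 (iv D10880) F29875
def n10881 : Q := act 2 n9368
theorem D10881 : act 2 n9368 = n10881 := rfl
theorem F35105 : act 4 n10881 = n10881 := d14_2 F29876 D10881 (iv D10881)
def n10882 : Q := act 6 n9368
theorem D10882 : act 6 n9368 = n10882 := rfl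
theorem F35106 : act 3 n10882 = n9369 := d20_1 D10882 (iv D9369) D9368
theorem F35107 : act 4 n10882 = n10882 := d23_1 D10882 (iv D10882) F29876
def n10883 : Q := act 5 n9369
theorem D10883 : act 5 n9369 = n10883 := rfl
theorem F35108 : act 4 n10883 = n9370 := d22_1 D10883 (iv D9370) (iv F29877)
def n10884 : Q := act 1 n9370
theorem D10884 : act 1 n9370 = n10884 := rfl
theorem F35109 : act 3 n10884 = n10884 := d8_2 F29878 D10884 (iv D10884)
def n10885 : Q := act 3 n9371
theorem D10885 : act 3 n9371 = n10885 := rfl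
theorem F35110 : act 5 n10885 = n9372 := d19_2 (iv F29880) D10885 (iv D9372)
theorem F35111 : act 7 n10885 = n9397 := d21_2 D9371 D10885 (iv D9397) (iv D7766) (iv F24487)
def n10886 : Q := act 4 n9372
theorem D10886 : act 4 n9372 = n10886 := rfl
theorem F35112 : act 1 n10886 = n9374 := d9_1 D10886 (iv D9374) (iv F29881)
theorem F35113 : act 6 n10886 = n10271 := d23_2 (iv F29882) D10886 (iv D10271)
theorem F35114 : act 7 n10886 = n9400 := d24_2 (iv F29883) D10886 (iv D9400)
def n10887 : Q := act 1 n9373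
theorem D10887 : act 1 n9373 = n10887 := rfl
theorem F35115 : act 0 n10887 = n10383 := d0_1 D10887 F33457 F30190 F24852 (iv F29884)
theorem F35116 : act 2 n10887 = n10164 := d7_2 D9373 D10887 F32728 F32704 F29881
theorem F35117 : act 3 n10887 = n10166 := d8_2 F30336 D10887 F32735
theorem F35118 : act 5 n10887 = n10802 := d10_2 F34008 D10887 F34883 (iv F30256) (iv F34006)
theorem F35119 : act 7 n10887 = n9405 := d12_2 (iv F29885) D10887 (iv D9405)
def n10888 : Q := act 4 n9373
theorem D10888 : act 4 n9373 = n10888 := rfl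
theorem F35120 : act 0 n10888 = n9375 := d3_1 D10888 (iv D9375) (iv F29884)
theorem F35121 : act 2 n10888 = n9374 := d14_1 D10888 (iv D9374) D9373
theorem F35122 : act 7 n10888 = n9406 := d24_2 (iv F29885) D10888 (iv D9406)
def n10889 : Q := act 3 n9375
theorem D10889 : act 3 n9375 = n10889 := rfl
def n10890 : Q := act 5 n9378
theorem D10890 : act 5 n9378 = n10890 := rfl
theorem F35123 : act 0 n10890 = n9409 := d4_1 D10890 (iv D9409) (iv F29901)
theorem F35124 : act 1 n10890 = n9627 := d10_1 D10890 (iv D9627) (iv D7996) (iv F25281) (iv F29902)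
theorem F35125 : act 2 n10890 = n9386 := d15_1 D10890 (iv D9386) (iv F29903)
theorem F35126 : act 6 n10890 = n9380 := d25_2 D9378 D10890 (iv D9380) (iv D7753) (iv F24508)
theorem F35127 : act 7 n10890 = n10196 := d26_2 (iv F29904) D10890 F32841
def n10891 : Q := act 5 n9379
theorem D10891 : act 5 n9379 = n10891 := rfl
theorem F35128 : act 0 n10891 = n9411 := d4_1 D10891 (iv D9411) (iv F29905)
theorem F35129 : act 2 n10891 = n10575 := d15_1 D10891 F34097 (iv F29907)
theorem F35130 : act 3 n10891 = n9380 := d19_1 D10891 (iv D9380) (iv F29908)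
def n10892 : Q := act 7 n9379
theorem D10892 : act 7 n9379 = n10892 := rfl
theorem F35131 : act 0 n10892 = n9412 := d6_1 D10892 (iv D9412) (iv F29905)
theorem F35132 : act 1 n10892 = n10892 := d12_1 D10892 (iv D10892) F29906
theorem F35133 : act 2 n10892 = n10576 := d17_1 D10892 (iv D10576) (iv F29907)
theorem F35134 : act 3 n10892 = n9887 := d21_1 D10892 (iv D9887) F26335 (iv F24516) (iv F29908)
theorem F35135 : act 6 n10892 = n10892 := d27_1 D10892 (iv D10892) (iv D9379) F24512 D9379
def n10893 : Q := act 1 n9380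
theorem D10893 : act 1 n9380 = n10893 := rfl
theorem F35136 : act 2 n10893 = n9630 := d7_2 (iv F29910) D10893 F30724 F27708 (iv F24532)
theorem F35137 : act 5 n10893 = n10893 := d10_2 D9380 D10893 (iv D10893) (iv D9380) F24514
theorem F35138 : act 6 n10893 = n9627 := d11_2 F35126 D10893 (iv F35124)
theorem F35139 : act 7 n10893 = n10333 := d12_2 (iv F29911) D10893 F33311
theorem F35140 : act 0 n10206 = n10893 := d6_3 F35139 F33310 (iv F32871)
def n10894 : Q := act 5 n9381
theorem D10894 : act 5 n9381 = n10894 := rfl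
theorem F35141 : act 0 n10894 = n9395 := d4_1 D10894 F29965 (iv F29912)
theorem F35142 : act 1 n10894 = n10171 := d10_1 D10894 F32756 F27529 (iv F29225) (iv F29913)
theorem F35143 : act 2 n10894 = n9382 := d15_1 D10894 (iv D9382) (iv F29914)
theorem F35144 : act 4 n10894 = n10890 := d22_1 D10894 (iv D10890) (iv F29915)
theorem F35145 : act 6 n10894 = n9442 := d25_2 D9381 D10894 (iv D9442) (iv D7809) (iv F24519)
theorem F35146 : act 7 n10894 = n10170 := d26_2 (iv F29916) D10894 F32751
def n10895 : Q := act 7 n9382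
theorem D10895 : act 7 n9382 = n10895 := rfl
theorem F35147 : act 0 n10895 = n9396 := d6_1 D10895 (iv D9396) (iv F29917)
theorem F35148 : act 1 n10895 = n10697 := d12_1 D10895 F34550 (iv F29918)
theorem F35149 : act 2 n10895 = n10170 := d17_1 D10895 (iv F35146) F35143
theorem F35150 : act 5 n10895 = n9383 := d26_1 D10895 (iv D9383) D9382
theorem F35151 : act 6 n10895 = n10173 := d27_1 D10895 F32762 F27718 (iv F24682) (iv F29920)
def n10896 : Q := act 3 n9383
theorem D10896 : act 3 n9383 = n10896 := rfl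
theorem F35152 : act 0 n10896 = n9402 := d2_1 D10896 (iv D9402) (iv F29921)
theorem F35153 : act 1 n10896 = n9384 := d8_1 D10896 (iv D9384) (iv F29922)
theorem F35154 : act 6 n10896 = n10541 := d20_2 (iv F29924) D10896 (iv D10541)
theorem F35155 : act 7 n10896 = n9390 := d21_2 D9383 D10896 (iv D9390) (iv D7761) (iv F24523)
def n10897 : Q := act 4 n9384
theorem D10897 : act 4 n9384 = n10897 := rfl
theorem F35156 : act 0 n10897 = n9415 := d3_1 D10897 (iv D9415) (iv F29925)
theorem F35157 : act 2 n10897 = n10683 := d14_1 D10897 (iv D10683) (iv F29926)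
theorem F35158 : act 5 n10897 = n10700 := d22_2 (iv F29927) D10897 (iv D10700)
theorem F35159 : act 7 n10897 = n9392 := d24_2 (iv F29928) D10897 (iv D9392)
def n10898 : Q := act 6 n9384
theorem D10898 : act 6 n9384 = n10898 := rfl
theorem F35160 : act 0 n10898 = n9416 := d5_1 D10898 (iv D9416) (iv F29925)
theorem F35161 : act 1 n10898 = n10541 := d11_1 D10898 (iv F35154) F35153
theorem F35162 : act 2 n10898 = n10680 := d16_1 D10898 F34479 (iv F29926)
theorem F35163 : act 3 n10898 = n9385 := d20_1 D10898 (iv D9385) D9384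
theorem F35164 : act 7 n10898 = n10553 := d27_2 (iv F29928) D10898 F34028 F29404 (iv F24544)
def n10899 : Q := act 5 n9385
theorem D10899 : act 5 n9385 = n10899 := rfl
theorem F35165 : act 0 n10899 = n9417 := d4_1 D10899 (iv D9417) (iv F29929)
theorem F35166 : act 1 n10899 = n10197 := d10_1 D10899 F32844 F27607 (iv F28793) (iv F29930)
theorem F35167 : act 2 n10899 = n10196 := d15_1 D10899 F32841 (iv F29931)
theorem F35168 : act 4 n10899 = n10895 := d22_1 D10899 F35150 (iv F29932)
theorem F35169 : act 6 n10899 = n10332 := d25_2 D9385 D10899 F33308 F28183 (iv F24526)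
theorem F35170 : act 7 n10899 = n9386 := d26_2 (iv F29933) D10899 (iv D9386)
def n10900 : Q := act 1 n9387
theorem D10900 : act 1 n9387 = n10900 := rfl
theorem F35171 : act 0 n10900 = n10279 := d0_1 D10900 F33158 (iv F33128) F33129 F32925
theorem F35172 : act 4 n10900 = n9393 := d9_2 (iv F29940) D10900 (iv D9393)
theorem F35173 : act 5 n10900 = n10900 := d10_2 D9387 D10900 (iv D10900) (iv D9387) F24535
theorem F35174 : act 6 n10900 = n9446 := d11_2 (iv F29941) D10900 (iv D9446)
theorem F35175 : act 7 n10278 = n10900 := d6_0 F35171 (iv D10279) D10278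
def n10901 : Q := act 7 n9387
theorem D10901 : act 7 n9387 = n10901 := rfl
theorem F35176 : act 0 n10901 = n10269 := d6_1 D10901 (iv F33127) F32925
theorem F35177 : act 1 n10901 = n10278 := d12_1 D10901 F35175 (iv D10900)
theorem F35178 : act 2 n10901 = n9389 := d17_1 D10901 (iv D9389) (iv F29939)
theorem F35179 : act 4 n10901 = n9394 := d24_1 D10901 (iv D9394) (iv F29940)
theorem F35180 : act 5 n10901 = n9388 := d26_1 D10901 (iv D9388) D9387
theorem F35181 : act 3 n10508 = n10901 := d19_3 F35180 (iv F29947) (iv F33888)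
def n10902 : Q := act 3 n9389
theorem D10902 : act 3 n9389 = n10902 := rfl
theorem F35182 : act 5 n10902 = n9390 := d19_2 (iv F29949) D10902 (iv D9390)
def n10903 : Q := act 6 n9389
theorem D10903 : act 6 n9389 = n10903 := rfl
theorem F35183 : act 1 n10903 = n10534 := d11_1 D10903 F33966 F30015
theorem F35184 : act 4 n10903 = n9398 := d23_1 D10903 (iv D9398) (iv F29948)
theorem F35185 : act 5 n10903 = n10420 := d25_1 D10903 (iv D10420) F28292 (iv F24542) (iv F29949)
theorem F35186 : act 7 n10903 = n9449 := d27_2 D9389 D10903 (iv D9449) (iv D7815) (iv F24539)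
def n10904 : Q := act 2 n9390
theorem D10904 : act 2 n9390 = n10904 := rfl
theorem F35187 : act 0 n10904 = n10511 := d1_1 D10904 (iv F34002) F34000
theorem F35188 : act 3 n10904 = n10510 := d13_2 D9390 D10904 (iv D10510) F29947 F29944
theorem F35189 : act 6 n10904 = n10513 := d16_2 (iv F29951) D10904 F33900
def n10905 : Q := act 4 n9390
theorem D10905 : act 4 n9390 = n10905 := rfl
theorem F35190 : act 1 n10905 = n9392 := d9_1 D10905 (iv D9392) (iv F29950)
theorem F35191 : act 3 n10905 = n9400 := d18_1 D10905 (iv D9400) (iv D7767) (iv F24541) D9390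
theorem F35192 : act 6 n10905 = n10729 := d23_2 (iv F29951) D10905 (iv D10729)
def n10906 : Q := act 1 n9391
theorem D10906 : act 1 n9391 = n10906 := rfl
theorem F35193 : act 3 n10906 = n10906 := d8_2 F29953 D10906 (iv D10906)
theorem F35194 : act 5 n10906 = n10762 := d10_2 (iv F29954) D10906 F34755 F29732 (iv F29359)
theorem F35195 : act 6 n10906 = n10730 := d11_2 (iv F29955) D10906 (iv D10730)
theorem F35196 : act 7 n10906 = n10641 := d12_2 (iv F29956) D10906 F34327
def n10907 : Q := act 4 n9391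
theorem D10907 : act 4 n9391 = n10907 := rfl
theorem F35197 : act 0 n10907 = n9421 := d3_1 D10907 (iv D9421) (iv F29952)
theorem F35198 : act 2 n10907 = n9392 := d14_1 D10907 (iv D9392) D9391
theorem F35199 : act 5 n10907 = n10701 := d22_2 (iv F29954) D10907 F34567
theorem F35200 : act 6 n10907 = n10731 := d23_2 (iv F29955) D10907 (iv D10731)
theorem F35201 : act 7 n10907 = n10683 := d24_2 (iv F29956) D10907 (iv D10683)
def n10908 : Q := act 0 n9393
theorem D10908 : act 0 n9393 = n10908 := rfl
theorem F35202 : act 1 n10908 = n10272 := d0_2 D9393 D10908 F33135 (iv D10222) F27675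
theorem F35203 : act 3 n10908 = n10466 := d2_2 (iv F29960) D10908 (iv D10466)
theorem F35204 : act 4 n10908 = n10279 := d3_2 F35172 D10908 (iv F35171)
theorem F35205 : act 5 n10908 = n10908 := d4_2 F29961 D10908 (iv D10908)
theorem F35206 : act 6 n10908 = n9455 := d5_2 (iv F29962) D10908 (iv D9455)
theorem F35207 : act 7 n10177 = n10908 := d30_29 F35206 F30125 F24790 F19498 (iv F21811) F20004 F18283 (iv F19126) (iv F24326) (iv D7675) F21606 (iv D6855) (iv D5288) F12050 (iv D3088) (iv F9503) (iv F13325) (iv F16605) F16602 F16604 (iv F16625) F16626 F12196 (iv F11450) D5088 D6671 D8296 D9895 (iv F32774)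
theorem F35208 : act 2 n10178 = n10908 := d31_3 F27622 D10204 F32865 F35206 (iv F30813) (iv D9653) F25415 F22870 (iv D5650) F12946 F13638 (iv F18418) (iv D5883) (iv F18392) (iv F23643) (iv F27195) (iv F32399) (iv D10093) D10094 F32406 F28573 (iv F28471) (iv D8930) (iv F28460) F28461 (iv F32686) (iv D10153) (iv F32685) F32682
def n10909 : Q := act 2 n9393
theorem D10909 : act 2 n9393 = n10909 := rfl
theorem F35209 : act 0 n10909 = n10178 := d1_1 D10909 F35208 (iv D10908)
theorem F35210 : act 1 n10909 = n9395 := d7_1 D10909 (iv D9395) (iv D7765) (iv F24545) D9393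
theorem F35211 : act 5 n10909 = n10909 := d15_2 F29961 D10909 (iv D10909)
theorem F35212 : act 6 n10909 = n9456 := d16_2 (iv F29962) D10909 (iv D9456)
theorem F35213 : act 7 n10176 = n10909 := d27_0 F35212 (iv F30129) F32793 (iv D10183) (iv F32772)
def n10910 : Q := act 7 n9393
theorem D10910 : act 7 n9393 = n10910 := rfl
theorem F35214 : act 0 n10910 = n10177 := d6_1 D10910 F35207 (iv D10908)
theorem F35215 : act 1 n10910 = n9394 := d12_1 D10910 (iv D9394) D9393
theorem F35216 : act 2 n10910 = n10176 := d17_1 D10910 F35213 (iv D10909)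
theorem F35217 : act 4 n10910 = n10278 := d24_1 D10910 F35175 F35172
theorem F35218 : act 5 n10910 = n10910 := d26_1 D10910 (iv D10910) F29961
theorem F35219 : act 6 n10910 = n10182 := d30_6 (iv F23137) (iv F28460) (iv F33712) (iv D10467) (iv F29960) D10910 F32788 F27570 (iv D8637) (iv D7036) (iv D5460) (iv D4032) D4031 F12526 F12612 (iv F14287) F14289 F13287 D5750 (iv F21700) F21701 (iv F21675) (iv F26993) D10057 (iv F32271) F32267 F28573 (iv D7670) F19019
def n10911 : Q := act 6 n9394
theorem D10911 : act 6 n9394 = n10911 := rfl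
theorem F35220 : act 1 n10911 = n10182 := d11_1 D10911 (iv F35219) F35215
theorem F35221 : act 2 n10911 = n9398 := d16_1 D10911 (iv D9398) (iv F29963)
theorem F35222 : act 5 n10911 = n10856 := d25_1 D10911 F35043 F34633 F29415 (iv F29964)
theorem F35223 : act 7 n10911 = n9459 := d27_2 D9394 D10911 (iv D9459) (iv D7820) (iv F24547)
def n10912 : Q := act 3 n9395
theorem D10912 : act 3 n9395 = n10912 := rfl
theorem F35224 : act 5 n10912 = n9401 := d19_2 (iv F29965) D10912 (iv D9401)
theorem F35225 : act 6 n10912 = n9461 := d20_2 (iv F29966) D10912 (iv D9461)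
def n10913 : Q := act 3 n9396
theorem D10913 : act 3 n9396 = n10913 := rfl
theorem F35226 : act 1 n10913 = n9397 := d8_1 D10913 (iv D9397) (iv F29967)
theorem F35227 : act 5 n10913 = n9402 := d19_2 (iv F29968) D10913 (iv D9402)
theorem F35228 : act 6 n10913 = n10536 := d20_2 (iv F29969) D10913 (iv D10536)
def n10914 : Q := act 2 n9397
theorem D10914 : act 2 n9397 = n10914 := rfl
theorem F35229 : act 5 n10914 = n9399 := d15_2 (iv F29970) D10914 (iv D9399)
def n10915 : Q := act 4 n9397
theorem D10915 : act 4 n9397 = n10915 := rfl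
theorem F35230 : act 5 n10915 = n9400 := d22_2 (iv F29970) D10915 (iv D9400)
def n10916 : Q := act 6 n9397
theorem D10916 : act 6 n9397 = n10916 := rfl
theorem F35231 : act 1 n10916 = n10536 := d11_1 D10916 (iv F35228) F35226
theorem F35232 : act 3 n10916 = n9398 := d20_1 D10916 (iv D9398) D9397
theorem F35233 : act 5 n10916 = n10857 := d25_1 D10916 F35045 F34635 F29420 (iv F29970)
def n10917 : Q := act 1 n9399
theorem D10917 : act 1 n9399 = n10917 := rfl
theorem F35234 : act 2 n10917 = n9405 := d7_2 D9399 D10917 (iv D9405) (iv D7771) (iv F24553)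
theorem F35235 : act 3 n10917 = n10163 := d8_2 (iv F32660) D10917 F32723
theorem F35236 : act 7 n10917 = n10164 := d12_2 F32706 D10917 F32728
theorem F35237 : act 0 n10382 = n10917 := d6_3 F35236 F32727 (iv F33456)
def n10918 : Q := act 4 n9399
theorem D10918 : act 4 n9399 = n10918 := rfl
theorem F35238 : act 2 n10918 = n9400 := d14_1 D10918 (iv D9400) D9399
def n10919 : Q := act 4 n9402
theorem D10919 : act 4 n9402 = n10919 := rfl
theorem F35239 : act 1 n10919 = n9404 := d9_1 D10919 (iv D9404) (iv F29977)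
theorem F35240 : act 6 n10919 = n10544 := d23_2 (iv F29978) D10919 (iv D10544)
def n10920 : Q := act 1 n9403
theorem D10920 : act 1 n9403 = n10920 := rfl
theorem F35241 : act 0 n10920 = n9553 := d0_1 D10920 (iv F35016) F35015 F29821 (iv F29979)
theorem F35242 : act 2 n10920 = n10521 := d7_2 D9403 D10920 (iv F34227) F34228 F29977
theorem F35243 : act 3 n10920 = n10920 := d8_2 F29980 D10920 (iv D10920)
theorem F35244 : act 7 n10920 = n9494 := d12_2 F34010 D10920 (iv F34006)
theorem F35245 : act 5 n10804 = n10920 := d26_3 F35244 F30256 D10804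
def n10921 : Q := act 4 n9403
theorem D10921 : act 4 n9403 = n10921 := rfl
theorem F35246 : act 0 n10921 = n9422 := d3_1 D10921 (iv D9422) (iv F29979)
theorem F35247 : act 2 n10921 = n9404 := d14_1 D10921 (iv D9404) D9403
theorem F35248 : act 5 n10921 = n9406 := d22_2 (iv F29981) D10921 (iv D9406)
def n10922 : Q := act 0 n9405
theorem D10922 : act 0 n9405 = n10922 := rfl
theorem F35249 : act 1 n10922 = n9424 := d0_2 D9405 D10922 (iv D9424) (iv D7789) (iv F24560)
theorem F35250 : act 2 n10922 = n10382 := d1_2 F35234 D10922 F35237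
theorem F35251 : act 3 n10922 = n10922 := d2_2 F29984 D10922 (iv D10922)
theorem F35252 : act 7 n10922 = n10383 := d6_2 F35119 D10922 (iv F35115)
def n10923 : Q := act 4 n9405
theorem D10923 : act 4 n9405 = n10923 := rfl
theorem F35253 : act 1 n10923 = n9406 := d9_1 D10923 (iv D9406) D9405
def n10924 : Q := act 5 n9405
theorem D10924 : act 5 n9405 = n10924 := rfl
theorem F35254 : act 1 n10924 = n10804 := d10_1 D10924 F35245 (iv D10920) F29981 D9405
theorem F35255 : act 3 n10924 = n10924 := d19_1 D10924 (iv D10924) F29984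
theorem F35256 : act 7 n10924 = n10802 := d26_2 F35119 D10924 (iv F35118)
def n10925 : Q := act 3 n9406
theorem D10925 : act 3 n9406 = n10925 := rfl
theorem F35257 : act 0 n10925 = n9427 := d2_1 D10925 (iv D9427) (iv F29985)
theorem F35258 : act 4 n10925 = n10925 := d18_2 D9406 D10925 (iv D10925) (iv D9406) F24561
def n10926 : Q := act 5 n9407
theorem D10926 : act 5 n9407 = n10926 := rfl
theorem F35259 : act 0 n10926 = n10196 := d4_1 D10926 F32841 (iv F29987)
theorem F35260 : act 2 n10926 = n9417 := d15_1 D10926 (iv D9417) (iv F29989)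
theorem F35261 : act 3 n10926 = n10329 := d19_1 D10926 F33297 (iv F29990)
theorem F35262 : act 4 n10926 = n10447 := d22_1 D10926 F33646 (iv F29991)
theorem F35263 : act 6 n10926 = n10331 := d25_2 D9407 D10926 F33305 F28179 (iv F24570)
theorem F35264 : act 7 n10926 = n9409 := d26_2 (iv F29992) D10926 (iv D9409)
theorem F35265 : act 1 n10203 = n10926 := d11_3 F35263 F33302 (iv F32863)
def n10927 : Q := act 5 n9408
theorem D10927 : act 5 n9408 = n10927 := rfl
theorem F35266 : act 2 n10927 = n10231 := d15_1 D10927 (iv D10231) (iv F29994)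
theorem F35267 : act 3 n10927 = n9409 := d19_1 D10927 (iv D9409) (iv F29995)
theorem F35268 : act 4 n10927 = n10230 := d22_1 D10927 (iv D10230) (iv F29996)
theorem F35269 : act 6 n10927 = n9411 := d25_2 D9408 D10927 (iv D9411) (iv D7778) (iv F24574)
def n10928 : Q := act 1 n9409
theorem D10928 : act 1 n9409 = n10928 := rfl
theorem F35270 : act 0 n10928 = n10204 := d0_1 D10928 F32864 (iv F30713) (iv F35124) F35123
theorem F35271 : act 2 n10928 = n10900 := d7_2 (iv F29997) D10928 (iv D10900) F29939 (iv F24592)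
theorem F35272 : act 4 n10928 = n10909 := d9_2 (iv F29998) D10928 F35210
theorem F35273 : act 5 n10928 = n10928 := d10_2 D9409 D10928 (iv D10928) (iv D9409) F24577
theorem F35274 : act 6 n10928 = n9413 := d11_2 (iv F29999) D10928 (iv D9413)
theorem F35275 : act 7 n10928 = n10203 := d12_2 F35264 D10928 F35265
def n10929 : Q := act 5 n9410
theorem D10929 : act 5 n9410 = n10929 := rfl
theorem F35276 : act 2 n10929 = n10228 := d15_1 D10929 (iv D10228) (iv F30001)
theorem F35277 : act 4 n10929 = n9411 := d22_1 D10929 (iv D9411) (iv F30002)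
theorem F35278 : act 6 n10929 = n10230 := d25_2 D9410 D10929 (iv D10230) (iv D8678) (iv F24582)
def n10930 : Q := act 7 n9410
theorem D10930 : act 7 n9410 = n10930 := rfl
theorem F35279 : act 1 n10930 = n9429 := d12_1 D10930 (iv D9429) (iv F30000)
theorem F35280 : act 2 n10930 = n10229 := d17_1 D10930 (iv D10229) (iv F30001)
theorem F35281 : act 4 n10930 = n9412 := d24_1 D10930 (iv D9412) (iv F30002)
theorem F35282 : act 6 n10930 = n10930 := d27_1 D10930 (iv D10930) (iv D9410) F24583 D9410
def n10931 : Q := act 1 n9411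
theorem D10931 : act 1 n9411 = n10931 := rfl
theorem F35283 : act 3 n10931 = n9413 := d8_2 (iv F30003) D10931 (iv D9413)
theorem F35284 : act 5 n10931 = n9430 := d10_2 D9411 D10931 (iv D9430) (iv D7792) (iv F24584)
def n10932 : Q := act 7 n9411
theorem D10932 : act 7 n9411 = n10932 := rfl
theorem F35285 : act 5 n10932 = n9412 := d26_1 D10932 (iv D9412) D9411
def n10933 : Q := act 0 n9413
theorem D10933 : act 0 n9413 = n10933 := rfl
theorem F35286 : act 1 n10933 = n10206 := d0_2 D9413 D10933 F35140 (iv D10893) F29909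
theorem F35287 : act 5 n10933 = n9432 := d4_2 (iv F30006) D10933 (iv D9432)
theorem F35288 : act 6 n10933 = n10204 := d5_2 F35274 D10933 (iv F35270)
def n10934 : Q := act 4 n9414
theorem D10934 : act 4 n9414 = n10934 := rfl
theorem F35289 : act 0 n10934 = n10683 := d3_1 D10934 (iv D10683) (iv F30007)
theorem F35290 : act 2 n10934 = n9415 := d14_1 D10934 (iv D9415) D9414
theorem F35291 : act 3 n10934 = n10628 := d18_1 D10934 (iv D10628) F29051 D9111 (iv F30008)
theorem F35292 : act 5 n10934 = n10633 := d22_2 (iv F30009) D10934 F34295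
theorem F35293 : act 7 n10934 = n9421 := d24_2 (iv F30010) D10934 (iv D9421)
def n10935 : Q := act 6 n9415
theorem D10935 : act 6 n9415 = n10935 := rfl
theorem F35294 : act 1 n10935 = n9423 := d11_1 D10935 (iv D9423) (iv F30011)
theorem F35295 : act 3 n10935 = n10919 := d20_1 D10935 F35240 F33992
theorem F35296 : act 4 n10935 = n9416 := d23_1 D10935 (iv D9416) D9415
def n10936 : Q := act 5 n9416
theorem D10936 : act 5 n9416 = n10936 := rfl
theorem F35297 : act 1 n10936 = n10902 := d10_1 D10936 F35182 F29950 (iv F24604) (iv F30013)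
theorem F35298 : act 3 n10936 = n9417 := d19_1 D10936 (iv D9417) (iv F30014)
def n10937 : Q := act 1 n9418
theorem D10937 : act 1 n9418 = n10937 := rfl
theorem F35299 : act 0 n10937 = n10844 := d0_1 D10937 F35010 F29818 (iv F29359) (iv F30018)
theorem F35300 : act 2 n10937 = n10606 := d7_2 D9418 D10937 F34212 F29002 F28799
theorem F35301 : act 3 n10937 = n10937 := d8_2 F30019 D10937 (iv D10937)
theorem F35302 : act 6 n10937 = n10920 := d11_2 (iv F30021) D10937 (iv D10920)
theorem F35303 : act 7 n10937 = n10638 := d12_2 (iv F30022) D10937 F34316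
def n10938 : Q := act 4 n9418
theorem D10938 : act 4 n9418 = n10938 := rfl
theorem F35304 : act 0 n10938 = n10701 := d3_1 D10938 F34567 (iv F30018)
theorem F35305 : act 2 n10938 = n9419 := d14_1 D10938 (iv D9419) D9418
theorem F35306 : act 5 n10938 = n9421 := d22_2 (iv F30020) D10938 (iv D9421)
theorem F35307 : act 6 n10938 = n10921 := d23_2 (iv F30021) D10938 (iv D10921)
theorem F35308 : act 7 n10938 = n10633 := d24_2 (iv F30022) D10938 F34295
def n10939 : Q := act 0 n9420
theorem D10939 : act 0 n9420 = n10939 := rfl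
theorem F35309 : act 2 n10939 = n9547 := d1_2 F33959 D10939 (iv F33957)
theorem F35310 : act 3 n10939 = n10939 := d2_2 F30026 D10939 (iv D10939)
theorem F35311 : act 6 n10939 = n9545 := d5_2 (iv F33954) D10939 (iv F33950)
def n10940 : Q := act 4 n9420
theorem D10940 : act 4 n9420 = n10940 := rfl
theorem F35312 : act 1 n10940 = n9421 := d9_1 D10940 (iv D9421) D9420
def n10941 : Q := act 5 n9420
theorem D10941 : act 5 n9420 = n10941 := rfl
theorem F35313 : act 3 n10941 = n10941 := d19_1 D10941 (iv D10941) F30026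
def n10942 : Q := act 3 n9421
theorem D10942 : act 3 n9421 = n10942 := rfl
theorem F35314 : act 2 n10942 = n9427 := d13_1 D10942 (iv D9427) F24606 (iv F24598) (iv F30027)
theorem F35315 : act 4 n10942 = n10942 := d18_2 D9421 D10942 (iv D10942) (iv D9421) F24597
def n10943 : Q := act 3 n9422
theorem D10943 : act 3 n9422 = n10943 := rfl
theorem F35316 : act 4 n10943 = n10943 := d18_2 D9422 D10943 (iv D10943) (iv D9422) F24599
theorem F35317 : act 5 n10943 = n9427 := d19_2 (iv F30029) D10943 (iv D9427)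
def n10944 : Q := act 4 n9424
theorem D10944 : act 4 n9424 = n10944 := rfl
theorem F35318 : act 0 n10944 = n9425 := d3_1 D10944 (iv D9425) D9424
def n10945 : Q := act 5 n9424
theorem D10945 : act 5 n9424 = n10945 := rfl
theorem F35319 : act 0 n10945 = n9426 := d4_1 D10945 (iv D9426) D9424
theorem F35320 : act 3 n10945 = n10945 := d19_1 D10945 (iv D10945) F30034
def n10946 : Q := act 3 n9425
theorem D10946 : act 3 n9425 = n10946 := rfl
theorem F35321 : act 1 n10946 = n9427 := d8_1 D10946 (iv D9427) (iv F30035)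
theorem F35322 : act 4 n10946 = n10946 := d18_2 D9425 D10946 (iv D10946) (iv D9425) F24605
def n10947 : Q := act 5 n9425
theorem D10947 : act 5 n9425 = n10947 := rfl
theorem F35323 : act 4 n10947 = n9426 := d22_1 D10947 (iv D9426) D9425
def n10948 : Q := act 6 n9426
theorem D10948 : act 6 n9426 = n10948 := rfl
theorem F35324 : act 3 n10948 = n10948 := d20_1 D10948 (iv D10948) F30036
def n10949 : Q := act 7 n9427
theorem D10949 : act 7 n9427 = n10949 := rfl
theorem F35325 : act 4 n10949 = n10949 := d24_1 D10949 (iv D10949) F30037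
def n10950 : Q := act 7 n9428
theorem D10950 : act 7 n9428 = n10950 := rfl
theorem F35326 : act 0 n10950 = n10950 := d6_1 D10950 (iv D10950) F30038
theorem F35327 : act 2 n10950 = n10950 := d17_1 D10950 (iv D10950) F30039
theorem F35328 : act 3 n10950 = n9663 := d21_1 D10950 F30851 (iv F32082) (iv F32085) F30259
theorem F35329 : act 4 n10950 = n9431 := d24_1 D10950 (iv D9431) (iv F30040)
theorem F35330 : act 5 n10950 = n9429 := d26_1 D10950 (iv D9429) D9428
theorem F35331 : act 6 n10950 = n9662 := d30_6 (iv F27947) F27946 F27620 (iv F30258) F30259 D10950 F30846 (iv F31406) F31407 F26140 F20782 (iv F17032) F17031 F12486 F8779 (iv D2835) (iv D1938) (iv F4466) F4465 (iv F4905) D2285 F7093 D3292 D4564 D6045 (iv F23406) F23407 (iv F23371) F23373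
def n10951 : Q := act 3 n9429
theorem D10951 : act 3 n9429 = n10951 := rfl
theorem F35332 : act 0 n10951 = n10951 := d2_1 D10951 (iv D10951) F30042
theorem F35333 : act 4 n10951 = n9664 := d18_2 (iv F30044) D10951 F30854 (iv F28749) F28748
theorem F35334 : act 5 n10951 = n9663 := d19_2 F35330 D10951 (iv F35328)
theorem F35335 : act 6 n10951 = n10951 := d20_2 F30045 D10951 (iv D10951)
theorem F35336 : act 7 n10951 = n10000 := d21_2 D9429 D10951 F32088 (iv D9497) F24814
theorem F35337 : act 2 n10951 = n9987 := d29_1 D10951 F32029 (iv D9230) (iv D7623) F18856 F18853 (iv F21390) (iv F21553) (iv D6841) F16407 F12030 F8422 D3090 (iv F13359) (iv D4316) (iv F13353) (iv F18065) (iv F21686) (iv F26053) (iv F31304) F31303 F29620 F29623 (iv F30709) F30708 F25292 (iv F24813) F24814 D9429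
def n10952 : Q := act 0 n9430
theorem D10952 : act 0 n9430 = n10952 := rfl
theorem F35338 : act 1 n10952 = n10952 := d0_2 D9430 D10952 (iv D10952) (iv D9430) F24610
theorem F35339 : act 3 n10952 = n9432 := d2_2 (iv F30046) D10952 (iv D9432)
theorem F35340 : act 6 n10952 = n10952 := d5_2 F30047 D10952 (iv D10952)
def n10953 : Q := act 3 n9433
theorem D10953 : act 3 n9433 = n10953 := rfl
theorem F35341 : act 0 n10953 = n9435 := d2_1 D10953 (iv D9435) (iv F30055)
theorem F35342 : act 1 n10953 = n9434 := d8_1 D10953 (iv D9434) D9433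
theorem F35343 : act 4 n10953 = n10263 := d18_2 (iv F30056) D10953 F33093 F27860 (iv F27575)
theorem F35344 : act 7 n10953 = n10276 := d21_2 (iv F30057) D10953 F33151 F27977 (iv F27563)
def n10954 : Q := act 5 n9433
theorem D10954 : act 5 n9433 = n10954 := rfl
theorem F35345 : act 0 n10954 = n9436 := d4_1 D10954 (iv D9436) (iv F30055)
theorem F35346 : act 1 n10954 = n10234 := d10_1 D10954 (iv D10234) F27726 (iv F24620) D9433
theorem F35347 : act 4 n10954 = n10183 := d22_1 D10954 F32792 (iv F30056)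
theorem F35348 : act 6 n10954 = n10523 := d25_2 F30353 D10954 F33922 (iv F32387) F32386
theorem F35349 : act 7 n10954 = n10175 := d26_2 (iv F30057) D10954 F32769
def n10955 : Q := act 2 n9435
theorem D10955 : act 2 n9435 = n10955 := rfl
theorem F35350 : act 1 n10955 = n9438 := d7_1 D10955 (iv D9438) F24638 (iv F24629) (iv F30062)
theorem F35351 : act 4 n10955 = n10602 := d14_2 F32383 D10955 F34199
theorem F35352 : act 6 n10955 = n9671 := d16_2 F30357 D10955 F30886
theorem F35353 : act 7 n10955 = n10478 := d17_2 (iv F30063) D10955 (iv D10478)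
def n10956 : Q := act 5 n9435
theorem D10956 : act 5 n9435 = n10956 := rfl
theorem F35354 : act 1 n10956 = n9614 := d10_1 D10956 (iv D9614) F25196 (iv F24630) (iv F30062)
theorem F35355 : act 3 n10956 = n9436 := d19_1 D10956 (iv D9436) D9435
theorem F35356 : act 7 n10956 = n10475 := d26_2 (iv F30063) D10956 F33744
def n10957 : Q := act 6 n9436
theorem D10957 : act 6 n9436 = n10957 := rfl
theorem F35357 : act 0 n10957 = n10523 := d5_1 D10957 (iv F35348) F35345
theorem F35358 : act 1 n10957 = n9615 := d11_1 D10957 (iv D9615) (iv F30064)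
theorem F35359 : act 4 n10957 = n10185 := d23_1 D10957 (iv D10185) (iv F30065)
theorem F35360 : act 5 n10957 = n10525 := d25_1 D10957 F33932 (iv D9528) F24878 D9436
theorem F35361 : act 7 n10957 = n10933 := d27_2 (iv F30066) D10957 F35288 (iv D10204) F27623
def n10958 : Q := act 6 n9440
theorem D10958 : act 6 n9440 = n10958 := rfl
theorem F35362 : act 0 n10958 = n9462 := d5_1 D10958 F30141 (iv F30078)
theorem F35363 : act 1 n10958 = n10958 := d11_1 D10958 (iv D10958) F30079
theorem F35364 : act 2 n10958 = n9443 := d16_1 D10958 (iv D9443) (iv F30080)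
theorem F35365 : act 3 n10958 = n10471 := d20_1 D10958 (iv D10471) (iv F30081)
theorem F35366 : act 4 n10958 = n9441 := d23_1 D10958 (iv D9441) D9440
theorem F35367 : act 7 n10958 = n10257 := d27_2 F32197 D10958 F33073 (iv F33776) F33775
def n10959 : Q := act 5 n9441
theorem D10959 : act 5 n9441 = n10959 := rfl
theorem F35368 : act 0 n10959 = n9461 := d4_1 D10959 F30138 (iv F30083)
theorem F35369 : act 2 n10959 = n9444 := d15_1 D10959 (iv D9444) (iv F30085)
theorem F35370 : act 3 n10959 = n9442 := d19_1 D10959 (iv D9442) (iv F30086)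
theorem F35371 : act 7 n10959 = n10255 := d26_2 (iv F30087) D10959 F33066
def n10960 : Q := act 1 n9442
theorem D10960 : act 1 n9442 = n10960 := rfl
theorem F35372 : act 2 n10960 = n10698 := d7_2 (iv F30089) D10960 F34552 F29432 (iv F24679)
theorem F35373 : act 4 n10960 = n10893 := d9_2 (iv F30090) D10960 (iv D10893)
theorem F35374 : act 5 n10960 = n10960 := d10_2 D9442 D10960 (iv D10960) (iv D9442) F24674
theorem F35375 : act 6 n10960 = n10171 := d11_2 F35145 D10960 (iv F35142)
theorem F35376 : act 7 n10960 = n10174 := d12_2 (iv F30091) D10960 F32764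
theorem F35377 : act 0 n10180 = n10960 := d6_3 F35376 F32763 (iv F32782)
def n10961 : Q := act 5 n9443
theorem D10961 : act 5 n9443 = n10961 := rfl
theorem F35378 : act 3 n10961 = n9450 := d19_1 D10961 (iv D9450) (iv F30093)
theorem F35379 : act 4 n10961 = n9444 := d22_1 D10961 (iv D9444) (iv F30094)
theorem F35380 : act 6 n10961 = n10463 := d25_2 D9443 D10961 (iv D10463) (iv D8912) (iv F24685)
def n10962 : Q := act 7 n9443
theorem D10962 : act 7 n9443 = n10962 := rfl
theorem F35381 : act 1 n10962 = n9466 := d12_1 D10962 (iv D9466) (iv F30092)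
theorem F35382 : act 2 n10962 = n10257 := d17_1 D10962 (iv F35367) F35364
theorem F35383 : act 4 n10962 = n9445 := d24_1 D10962 (iv D9445) (iv F30094)
theorem F35384 : act 6 n10962 = n10491 := d27_1 D10962 F33803 (iv D10038) F26947 D9443
def n10963 : Q := act 1 n9444
theorem D10963 : act 1 n9444 = n10963 := rfl
theorem F35385 : act 3 n10963 = n9446 := d8_2 (iv F30095) D10963 (iv D9446)
theorem F35386 : act 5 n10963 = n9468 := d10_2 D9444 D10963 (iv D9468) (iv D7829) (iv F24686)
def n10964 : Q := act 7 n9444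
theorem D10964 : act 7 n9444 = n10964 := rfl
theorem F35387 : act 2 n10964 = n10255 := d17_1 D10964 (iv F35371) F35369
theorem F35388 : act 5 n10964 = n9445 := d26_1 D10964 (iv D9445) D9444
def n10965 : Q := act 3 n9445
theorem D10965 : act 3 n9445 = n10965 := rfl
theorem F35389 : act 0 n10965 = n10557 := d2_1 D10965 F34054 F34050
theorem F35390 : act 1 n10965 = n9470 := d8_1 D10965 (iv D9470) (iv F30096)
theorem F35391 : act 2 n10965 = n9765 := d13_1 D10965 (iv D9765) F25974 D8710 (iv F30097)
theorem F35392 : act 6 n10965 = n10023 := d20_2 (iv F30098) D10965 F32150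
theorem F35393 : act 7 n10965 = n9448 := d21_2 D9445 D10965 (iv D9448) (iv D7814) (iv F24687)
def n10966 : Q := act 0 n9446
theorem D10966 : act 0 n9446 = n10966 := rfl
theorem F35394 : act 1 n10966 = n10281 := d0_2 D9446 D10966 F34059 (iv D10565) F28853
theorem F35395 : act 2 n10966 = n10933 := d1_2 (iv F30099) D10966 (iv D10933)
theorem F35396 : act 4 n10966 = n9455 := d3_2 (iv F30100) D10966 (iv D9455)
theorem F35397 : act 5 n10966 = n9473 := d4_2 (iv F30101) D10966 (iv D9473)
theorem F35398 : act 6 n10966 = n10279 := d5_2 F35174 D10966 (iv F35171)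
def n10967 : Q := act 7 n9446
theorem D10967 : act 7 n9446 = n10967 := rfl
theorem F35399 : act 1 n10967 = n9447 := d12_1 D10967 (iv D9447) D9446
theorem F35400 : act 2 n10967 = n10523 := d17_1 D10967 F33923 (iv F30099)
theorem F35401 : act 4 n10967 = n9457 := d24_1 D10967 (iv D9457) (iv F30100)
theorem F35402 : act 5 n10967 = n9474 := d26_1 D10967 (iv D9474) (iv F30101)
def n10968 : Q := act 3 n9447
theorem D10968 : act 3 n9447 = n10968 := rfl
theorem F35403 : act 5 n10968 = n9448 := d19_2 (iv F30104) D10968 (iv D9448)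
def n10969 : Q := act 6 n9447
theorem D10969 : act 6 n9447 = n10969 := rfl
theorem F35404 : act 2 n10969 = n9449 := d16_1 D10969 (iv D9449) (iv F30102)
theorem F35405 : act 4 n10969 = n9459 := d23_1 D10969 (iv D9459) (iv F30103)
theorem F35406 : act 5 n10969 = n10427 := d25_1 D10969 (iv D10427) F28309 (iv F24693) (iv F30104)
def n10970 : Q := act 4 n9448
theorem D10970 : act 4 n9448 = n10970 := rfl
theorem F35407 : act 1 n10970 = n9478 := d9_1 D10970 (iv D9478) (iv F30105)
theorem F35408 : act 3 n10970 = n9460 := d18_1 D10970 (iv D9460) (iv D7821) (iv F24692) D9448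
theorem F35409 : act 6 n10970 = n10429 := d23_2 (iv F30106) D10970 (iv D10429)
def n10971 : Q := act 3 n9451
theorem D10971 : act 3 n9451 = n10971 := rfl
theorem F35410 : act 1 n10971 = n9481 := d8_1 D10971 (iv D9481) (iv F30113)
theorem F35411 : act 6 n10971 = n10460 := d20_2 (iv F30116) D10971 (iv D10460)
def n10972 : Q := act 3 n9453
theorem D10972 : act 3 n9453 = n10972 := rfl
theorem F35412 : act 5 n10972 = n9454 := d19_2 (iv F30121) D10972 (iv D9454)
theorem F35413 : act 7 n10972 = n9458 := d21_2 D9453 D10972 (iv D9458) (iv D7820) (iv F24701)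
def n10973 : Q := act 4 n9454
theorem D10973 : act 4 n9454 = n10973 := rfl
theorem F35414 : act 1 n10973 = n9485 := d9_1 D10973 (iv D9485) (iv F30122)
theorem F35415 : act 6 n10973 = n10465 := d23_2 (iv F30123) D10973 (iv D10465)
theorem F35416 : act 7 n10973 = n9460 := d24_2 (iv F30124) D10973 (iv D9460)
def n10974 : Q := act 2 n9455
theorem D10974 : act 2 n9455 = n10974 := rfl
theorem F35417 : act 0 n10974 = n9456 := d1_1 D10974 (iv D9456) D9455
theorem F35418 : act 1 n10974 = n10180 := d7_1 D10974 (iv F32853) (iv F33142) F34078 F34074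
theorem F35419 : act 4 n10974 = n10933 := d14_2 F35396 D10974 (iv F35395)
theorem F35420 : act 5 n10974 = n9488 := d15_2 (iv F30125) D10974 (iv D9488)
theorem F35421 : act 6 n10974 = n10178 := d16_2 F35206 D10974 F35208
theorem F35422 : act 7 n10185 = n10974 := d27_0 F35421 (iv D10178) F27543 D8634 D10185
def n10975 : Q := act 7 n9455
theorem D10975 : act 7 n9455 = n10975 := rfl
theorem F35423 : act 0 n10975 = n9457 := d6_1 D10975 (iv D9457) D9455
theorem F35424 : act 2 n10975 = n10185 := d17_1 D10975 F35422 (iv D10974)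
theorem F35425 : act 5 n10975 = n9489 := d26_1 D10975 (iv D9489) (iv F30125)
theorem F35426 : act 6 n10975 = n10184 := d27_1 D10975 (iv D10184) (iv F32777) F35207 F35206
def n10976 : Q := act 3 n9456
theorem D10976 : act 3 n9456 = n10976 := rfl
theorem F35427 : act 1 n10976 = n9461 := d8_1 D10976 (iv D9461) (iv F30126)
theorem F35428 : act 5 n10976 = n9490 := d19_2 (iv F30128) D10976 (iv D9490)
def n10977 : Q := act 3 n9457
theorem D10977 : act 3 n9457 = n10977 := rfl
theorem F35429 : act 1 n10977 = n9458 := d8_1 D10977 (iv D9458) (iv F30130)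
theorem F35430 : act 5 n10977 = n9491 := d19_2 (iv F30132) D10977 (iv D9491)
def n10978 : Q := act 6 n9457
theorem D10978 : act 6 n9457 = n10978 := rfl
theorem F35431 : act 0 n10978 = n10184 := d5_1 D10978 (iv F35426) F35423
theorem F35432 : act 1 n10978 = n9459 := d11_1 D10978 (iv D9459) (iv F30130)
theorem F35433 : act 2 n10978 = n10183 := d16_1 D10978 (iv F32793) (iv F30131)
theorem F35434 : act 5 n10978 = n10192 := d25_1 D10978 F32828 (iv F30338) (iv D9492) (iv F30132)
theorem F35435 : act 7 n10978 = n10182 := d27_2 D9457 D10978 (iv F35219) (iv D10910) F29962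
def n10979 : Q := act 4 n9458
theorem D10979 : act 4 n9458 = n10979 := rfl
theorem F35436 : act 5 n10979 = n9460 := d22_2 (iv F30133) D10979 (iv D9460)
def n10980 : Q := act 6 n9458
theorem D10980 : act 6 n9458 = n10980 := rfl
theorem F35437 : act 3 n10980 = n9459 := d20_1 D10980 (iv D9459) D9458
theorem F35438 : act 5 n10980 = n10855 := d25_1 D10980 F35040 F29844 (iv F24710) (iv F30133)
def n10981 : Q := act 4 n9461
theorem D10981 : act 4 n9461 = n10981 := rfl
theorem F35439 : act 3 n10981 = n10929 := d18_1 D10981 F35277 F30003 (iv F24711) D9461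
theorem F35440 : act 5 n10981 = n9462 := d22_2 (iv F30138) D10981 (iv D9462)
def n10982 : Q := act 7 n9461
theorem D10982 : act 7 n9461 = n10982 := rfl
theorem F35441 : act 0 n10982 = n10255 := d6_1 D10982 (iv F35371) F35368
theorem F35442 : act 3 n10982 = n10243 := d21_1 D10982 (iv D10243) F27766 (iv F24713) D9461
theorem F35443 : act 5 n10982 = n9463 := d26_1 D10982 (iv D9463) (iv F30138)
def n10983 : Q := act 7 n9462
theorem D10983 : act 7 n9462 = n10983 := rfl
theorem F35444 : act 0 n10983 = n10257 := d6_1 D10983 (iv F35367) F35362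
theorem F35445 : act 1 n10983 = n9497 := d12_1 D10983 (iv D9497) (iv F30139)
theorem F35446 : act 4 n10983 = n9463 := d24_1 D10983 (iv D9463) D9462
theorem F35447 : act 6 n10485 = n10983 := d23_0 F35446 (iv F30145) D10485
def n10984 : Q := act 6 n9464
theorem D10984 : act 6 n9464 = n10984 := rfl
theorem F35448 : act 0 n10984 = n10482 := d5_1 D10984 F33775 F32192
theorem F35449 : act 1 n10984 = n9499 := d11_1 D10984 (iv D9499) (iv F30146)
theorem F35450 : act 3 n10984 = n10984 := d20_1 D10984 (iv D10984) F30147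
theorem F35451 : act 4 n10984 = n9465 := d23_1 D10984 (iv D9465) (iv F30148)
theorem F35452 : act 5 n10984 = n9950 := d25_1 D10984 F31882 (iv F30994) F30995 (iv F30149)
theorem F35453 : act 7 n10984 = n10485 := d27_2 D9464 D10984 F35447 (iv D10983) F30141
def n10985 : Q := act 3 n9466
theorem D10985 : act 3 n9466 = n10985 := rfl
theorem F35454 : act 0 n10985 = n9501 := d2_1 D10985 (iv D9501) (iv F30154)
theorem F35455 : act 5 n10985 = n10872 := d19_2 F30898 D10985 F35087
theorem F35456 : act 7 n10985 = n9481 := d21_2 D9466 D10985 (iv D9481) (iv D7838) (iv F24725)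
theorem F35457 : act 2 n10876 = n10985 := d17_3 F35456 F30208 D10876
def n10986 : Q := act 6 n9466
theorem D10986 : act 6 n9466 = n10986 := rfl
theorem F35458 : act 0 n10986 = n9502 := d5_1 D10986 (iv D9502) (iv F30154)
theorem F35459 : act 1 n10986 = n10491 := d11_1 D10986 (iv F35384) F35381
theorem F35460 : act 2 n10986 = n10986 := d16_1 D10986 (iv D10986) F30155
theorem F35461 : act 4 n10986 = n9471 := d23_1 D10986 (iv D9471) (iv F30156)
theorem F35462 : act 7 n10986 = n9467 := d27_2 D9466 D10986 (iv D9467) (iv D7828) D7827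
def n10987 : Q := act 7 n9468
theorem D10987 : act 7 n9468 = n10987 := rfl
theorem F35463 : act 1 n10987 = n9469 := d12_1 D10987 (iv D9469) D9468
theorem F35464 : act 2 n10987 = n9812 := d17_1 D10987 (iv F32876) F32873
theorem F35465 : act 6 n10987 = n9811 := d30_6 D4652 D6159 D7794 (iv F24740) (iv F30160) D10987 F31399 (iv F32378) F32379 F29116 F23949 D7582 F24015 F24012 F18708 F13853 F9909 (iv D2221) F4772 F3288 F2296 D695 F2300 D724 D1074 D1588 D2329 F7204 D3356
def n10988 : Q := act 3 n9469
theorem D10988 : act 3 n9469 = n10988 := rfl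
theorem F35466 : act 0 n10988 = n9506 := d2_1 D10988 (iv D9506) (iv F30162)
theorem F35467 : act 5 n10988 = n9470 := d19_2 (iv F30164) D10988 (iv D9470)
theorem F35468 : act 7 n10988 = n9475 := d21_2 D9469 D10988 (iv D9475) (iv D7833) (iv F24733)
theorem F35469 : act 2 n10945 = n10988 := d15_3 F35467 (iv F30167) D10945
def n10989 : Q := act 6 n9469
theorem D10989 : act 6 n9469 = n10989 := rfl
theorem F35470 : act 0 n10989 = n9507 := d5_1 D10989 (iv D9507) (iv F30162)
theorem F35471 : act 1 n10989 = n9811 := d11_1 D10989 (iv F35465) F35463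
theorem F35472 : act 2 n10989 = n10989 := d16_1 D10989 (iv D10989) F30163
theorem F35473 : act 7 n10989 = n10989 := d27_2 D9469 D10989 (iv D10989) (iv D9469) F24734
def n10990 : Q := act 4 n9470
theorem D10990 : act 4 n9470 = n10990 := rfl
theorem F35474 : act 0 n10990 = n9508 := d3_1 D10990 (iv D9508) (iv F30165)
theorem F35475 : act 2 n10990 = n10944 := d14_1 D10990 (iv D10944) F30167
theorem F35476 : act 7 n10990 = n9478 := d24_2 (iv F30166) D10990 (iv D9478)
def n10991 : Q := act 6 n9470
theorem D10991 : act 6 n9470 = n10991 := rfl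
theorem F35477 : act 0 n10991 = n9509 := d5_1 D10991 (iv D9509) (iv F30165)
theorem F35478 : act 1 n10991 = n10023 := d11_1 D10991 (iv F35392) F35390
theorem F35479 : act 2 n10991 = n10732 := d16_1 D10991 F34664 F30167
theorem F35480 : act 3 n10991 = n9471 := d20_1 D10991 (iv D9471) D9470
theorem F35481 : act 7 n10991 = n10432 := d27_2 (iv F30166) D10991 (iv D10432) F28324 (iv F24748)
def n10992 : Q := act 5 n9471
theorem D10992 : act 5 n9471 = n10992 := rfl
theorem F35482 : act 0 n10992 = n9510 := d4_1 D10992 (iv D9510) (iv F30168)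
theorem F35483 : act 2 n10992 = n10992 := d15_1 D10992 (iv D10992) F30170
theorem F35484 : act 7 n10992 = n9472 := d26_2 (iv F30171) D10992 (iv D9472)
def n10993 : Q := act 7 n9473
theorem D10993 : act 7 n9473 = n10993 := rfl
theorem F35485 : act 0 n10993 = n9474 := d6_1 D10993 (iv D9474) D9473
theorem F35486 : act 1 n10993 = n9512 := d12_1 D10993 (iv D9512) (iv F30176)
theorem F35487 : act 2 n10993 = n10525 := d17_1 D10993 F33933 (iv F30177)
theorem F35488 : act 4 n10993 = n9489 := d24_1 D10993 (iv D9489) (iv F30178)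
def n10994 : Q := act 3 n9474
theorem D10994 : act 3 n9474 = n10994 := rfl
theorem F35489 : act 1 n10994 = n9475 := d8_1 D10994 (iv D9475) (iv F30180)
def n10995 : Q := act 6 n9474
theorem D10995 : act 6 n9474 = n10995 := rfl
theorem F35490 : act 1 n10995 = n9476 := d11_1 D10995 (iv D9476) (iv F30180)
theorem F35491 : act 2 n10995 = n10091 := d16_1 D10995 F32387 (iv F30181)
theorem F35492 : act 4 n10995 = n9492 := d23_1 D10995 (iv D9492) (iv F30182)
theorem F35493 : act 7 n10995 = n10995 := d27_2 D9474 D10995 (iv D10995) (iv D9474) F24742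
def n10996 : Q := act 2 n9475
theorem D10996 : act 2 n9475 = n10996 := rfl
theorem F35494 : act 0 n10996 = n9515 := d1_1 D10996 (iv D9515) (iv F30183)
theorem F35495 : act 3 n10996 = n9479 := d13_2 D9475 D10996 (iv D9479) (iv D7835) (iv F24744)
theorem F35496 : act 5 n10996 = n9477 := d15_2 (iv F30184) D10996 (iv D9477)
theorem F35497 : act 7 n10996 = n10945 := d17_2 F35468 D10996 F35469
def n10997 : Q := act 4 n9475
theorem D10997 : act 4 n9475 = n10997 := rfl
theorem F35498 : act 0 n10997 = n9516 := d3_1 D10997 (iv D9516) (iv F30183)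
theorem F35499 : act 3 n10997 = n9493 := d18_1 D10997 (iv D9493) (iv D7849) (iv F24745) D9475
theorem F35500 : act 5 n10997 = n9478 := d22_2 (iv F30184) D10997 (iv D9478)
def n10998 : Q := act 6 n9475
theorem D10998 : act 6 n9475 = n10998 := rfl
theorem F35501 : act 0 n10998 = n9517 := d5_1 D10998 (iv D9517) (iv F30183)
theorem F35502 : act 3 n10998 = n9476 := d20_1 D10998 (iv D9476) D9475
theorem F35503 : act 5 n10998 = n9909 := d25_1 D10998 (iv D9909) F26402 (iv F24748) (iv F30184)
theorem F35504 : act 7 n10734 = n10998 := d26_0 F35503 F31708 D10734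
def n10999 : Q := act 4 n9477
theorem D10999 : act 4 n9477 = n10999 := rfl
theorem F35505 : act 0 n10999 = n9518 := d3_1 D10999 (iv D9518) (iv F30190)
theorem F35506 : act 2 n10999 = n9478 := d14_1 D10999 (iv D9478) D9477
theorem F35507 : act 3 n10999 = n10530 := d18_1 D10999 (iv D10530) (iv D9013) (iv F24760) (iv F30191)
theorem F35508 : act 6 n10999 = n10261 := d23_2 (iv F30192) D10999 (iv D10261)
theorem F35509 : act 7 n10999 = n10944 := d24_2 (iv F30193) D10999 (iv D10944)
def n11000 : Q := act 1 n9479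
theorem D11000 : act 1 n9479 = n11000 := rfl
theorem F35510 : act 0 n11000 = n10757 := d0_1 D11000 F34740 F30415 (iv D9519) (iv F30197)
theorem F35511 : act 2 n11000 = n10494 := d7_2 D9479 D11000 (iv D10494) F28528 (iv F24750)
theorem F35512 : act 4 n11000 = n10516 := d9_2 (iv F30198) D11000 F33906
theorem F35513 : act 5 n11000 = n10754 := d10_2 (iv F30199) D11000 F34734 F31777 F28173
theorem F35514 : act 7 n11000 = n11000 := d12_2 F30200 D11000 (iv D11000)
def n11001 : Q := act 4 n9481
theorem D11001 : act 4 n9481 = n11001 := rfl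
theorem F35515 : act 0 n11001 = n9530 := d3_1 D11001 (iv D9530) (iv F30207)
theorem F35516 : act 2 n11001 = n10873 := d14_1 D11001 F35088 (iv F30208)
theorem F35517 : act 3 n11001 = n9485 := d18_1 D11001 (iv D9485) (iv D7843) (iv F24765) D9481
theorem F35518 : act 5 n11001 = n10871 := d22_2 (iv F30209) D11001 (iv D10871)
def n11002 : Q := act 6 n9481
theorem D11002 : act 6 n9481 = n11002 := rfl
theorem F35519 : act 0 n11002 = n9531 := d5_1 D11002 (iv D9531) (iv F30207)
theorem F35520 : act 1 n11002 = n10460 := d11_1 D11002 (iv F35411) F35410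
theorem F35521 : act 2 n11002 = n10875 := d16_1 D11002 (iv D10875) (iv F30208)
theorem F35522 : act 3 n11002 = n9482 := d20_1 D11002 (iv D9482) D9481
def n11003 : Q := act 4 n9484
theorem D11003 : act 4 n9484 = n11003 := rfl
theorem F35523 : act 0 n11003 = n9536 := d3_1 D11003 (iv D9536) (iv F30221)
theorem F35524 : act 2 n11003 = n10526 := d14_1 D11003 F33934 F30224
theorem F35525 : act 3 n11003 = n10871 := d18_1 D11003 (iv D10871) F29860 (iv F24778) D9484
theorem F35526 : act 5 n11003 = n9485 := d22_2 (iv F30222) D11003 (iv D9485)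
theorem F35527 : act 7 n11003 = n9493 := d24_2 (iv F30223) D11003 (iv D9493)
def n11004 : Q := act 6 n9485
theorem D11004 : act 6 n9485 = n11004 := rfl
theorem F35528 : act 0 n11004 = n9540 := d5_1 D11004 (iv D9540) (iv F30225)
theorem F35529 : act 1 n11004 = n10465 := d11_1 D11004 (iv F35415) F35414
theorem F35530 : act 2 n11004 = n10539 := d16_1 D11004 (iv D10539) (iv F30226)
theorem F35531 : act 4 n11004 = n9486 := d23_1 D11004 (iv D9486) D9485
theorem F35532 : act 7 n11004 = n10869 := d27_2 (iv F30227) D11004 (iv D10869) (iv D9359) (iv F24807)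
def n11005 : Q := act 5 n9486
theorem D11005 : act 5 n9486 = n11005 := rfl
theorem F35533 : act 0 n11005 = n9541 := d4_1 D11005 (iv D9541) (iv F30228)
theorem F35534 : act 2 n11005 = n10540 := d15_1 D11005 (iv D10540) (iv F30230)
theorem F35535 : act 3 n11005 = n9487 := d19_1 D11005 (iv D9487) (iv F30231)
theorem F35536 : act 7 n11005 = n10870 := d26_2 (iv F30232) D11005 (iv D10870)
def n11006 : Q := act 4 n9491
theorem D11006 : act 4 n9491 = n11006 := rfl
theorem F35537 : act 1 n11006 = n9493 := d9_1 D11006 (iv D9493) (iv F30246)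
def n11007 : Q := act 6 n9493
theorem D11007 : act 6 n9493 = n11007 := rfl
theorem F35538 : act 0 n11007 = n9552 := d5_1 D11007 (iv D9552) (iv F30250)
theorem F35539 : act 2 n11007 = n10520 := d16_1 D11007 F33916 (iv F30251)
theorem F35540 : act 4 n11007 = n9494 := d23_1 D11007 (iv D9494) D9493
theorem F35541 : act 5 n11007 = n10803 := d25_1 D11007 F34888 F29767 (iv F24807) (iv F30252)
def n11008 : Q := act 2 n9501
theorem D11008 : act 2 n9501 = n11008 := rfl
theorem F35542 : act 0 n11008 = n10876 := d1_1 D11008 F35457 F35454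
theorem F35543 : act 3 n11008 = n11008 := d13_2 D9501 D11008 (iv D11008) (iv D9501) F24827
theorem F35544 : act 5 n11008 = n10616 := d15_2 (iv F30389) D11008 F34246
theorem F35545 : act 7 n11008 = n9529 := d17_2 (iv F30282) D11008 (iv D9529)
def n11009 : Q := act 4 n9501
theorem D11009 : act 4 n9501 = n11009 := rfl
theorem F35546 : act 1 n11009 = n10562 := d9_1 D11009 (iv F34191) F34190
theorem F35547 : act 3 n11009 = n9508 := d18_1 D11009 (iv D9508) (iv D7861) (iv F24828) D9501
theorem F35548 : act 7 n11009 = n9530 := d24_2 (iv F30282) D11009 (iv D9530)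
def n11010 : Q := act 6 n9501
theorem D11010 : act 6 n9501 = n11010 := rfl
theorem F35549 : act 3 n11010 = n9502 := d20_1 D11010 (iv D9502) D9501
def n11011 : Q := act 5 n9502
theorem D11011 : act 5 n9502 = n11011 := rfl
theorem F35550 : act 2 n11011 = n11011 := d15_1 D11011 (iv D11011) F30283
theorem F35551 : act 4 n11011 = n9510 := d22_1 D11011 (iv D9510) (iv F30284)
theorem F35552 : act 7 n11011 = n9505 := d26_2 (iv F30285) D11011 (iv D9505)
def n11012 : Q := act 7 n9504
theorem D11012 : act 7 n9504 = n11012 := rfl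
theorem F35553 : act 1 n11012 = n10340 := d12_1 D11012 F33335 F30997
theorem F35554 : act 2 n11012 = n10687 := d17_1 D11012 F34513 F31733
theorem F35555 : act 4 n11012 = n10338 := d24_1 D11012 F33329 F31019
theorem F35556 : act 6 n11012 = n9533 := d27_1 D11012 (iv D9533) (iv D7882) (iv F24830) D9504
def n11013 : Q := act 4 n9506
theorem D11013 : act 4 n9506 = n11013 := rfl
theorem F35557 : act 2 n11013 = n10947 := d14_1 D11013 F35323 F30297
theorem F35558 : act 5 n11013 = n9508 := d22_2 (iv F30295) D11013 (iv D9508)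
theorem F35559 : act 7 n11013 = n9516 := d24_2 (iv F30296) D11013 (iv D9516)
def n11014 : Q := act 6 n9506
theorem D11014 : act 6 n9506 = n11014 := rfl
theorem F35560 : act 1 n11014 = n10540 := d11_1 D11014 F33980 F30904
theorem F35561 : act 2 n11014 = n10948 := d16_1 D11014 (iv D10948) F30297
theorem F35562 : act 3 n11014 = n9507 := d20_1 D11014 (iv D9507) D9506
theorem F35563 : act 7 n10884 = n11014 := d12_0 F35560 F33981 D10884
def n11015 : Q := act 5 n9507
theorem D11015 : act 5 n9507 = n11015 := rfl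
theorem F35564 : act 1 n11015 = n10225 := d10_1 D11015 F32938 (iv F30756) (iv F30909) F30906
theorem F35565 : act 2 n11015 = n11015 := d15_1 D11015 (iv D11015) F30298
theorem F35566 : act 6 n11015 = n9510 := d25_2 D9507 D11015 (iv D9510) (iv D7862) (iv F24834)
theorem F35567 : act 7 n11015 = n11015 := d26_2 F30299 D11015 (iv D11015)
def n11016 : Q := act 6 n9508
theorem D11016 : act 6 n9508 = n11016 := rfl
theorem F35568 : act 1 n11016 = n10424 := d11_1 D11016 F33577 (iv F30300)
theorem F35569 : act 2 n11016 = n10733 := d16_1 D11016 F34666 (iv F30301)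
theorem F35570 : act 4 n11016 = n9509 := d23_1 D11016 (iv D9509) D9508
def n11017 : Q := act 5 n9509
theorem D11017 : act 5 n9509 = n11017 := rfl
theorem F35571 : act 2 n11017 = n10734 := d15_1 D11017 (iv D10734) (iv F30304)
theorem F35572 : act 3 n11017 = n9510 := d19_1 D11017 (iv D9510) (iv F30305)
def n11018 : Q := act 1 n9510
theorem D11018 : act 1 n9510 = n11018 := rfl
theorem F35573 : act 6 n11018 = n10225 := d11_2 F35566 D11018 (iv F35564)
theorem F35574 : act 7 n11018 = n9511 := d12_2 (iv F30307) D11018 (iv D9511)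
theorem F35575 : act 2 n11018 = n10226 := d30_3 D7862 D9510 D11018 F32941 F27690 (iv D7073) F17212 F12637 F8920 F6516 (iv D2106) F4488 F3135 (iv F3409) (iv F4923) (iv F5405) D2539 D3619 (iv F11164) (iv D3262) (iv D2262) (iv F4867) F4869 D1617 F5056 (iv F7305) (iv F10445) (iv F14515) D6210
def n11019 : Q := act 2 n9511
theorem D11019 : act 2 n9511 = n11019 := rfl
theorem F35576 : act 1 n11019 = n11019 := d7_1 D11019 (iv D11019) (iv D9511) F24840 D9511
theorem F35577 : act 4 n11019 = n9965 := d14_2 (iv F31550) D11019 F31940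
theorem F35578 : act 6 n11019 = n11019 := d16_2 F30308 D11019 (iv D11019)
theorem F35579 : act 7 n11019 = n10226 := d17_2 F35574 D11019 (iv F35575)
theorem F35580 : act 3 n11019 = n10229 := d29_8 (iv D9078) F23692 F18465 F14517 D6211 D7863 D9511 D11019 (iv D10229) F27692 (iv F27640) F27639 (iv F25582) D9683 F30949 F26050 F21658 F16571 F16573 (iv F16580) F18460 (iv D5892) (iv D4422) (iv D3174) (iv F9789) (iv F13661) (iv F18436) D7484 (iv F28969)
def n11020 : Q := act 3 n9512
theorem D11020 : act 3 n9512 = n11020 := rfl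
theorem F35581 : act 0 n11020 = n9513 := d2_1 D11020 (iv D9513) (iv F30309)
def n11021 : Q := act 6 n9512
theorem D11021 : act 6 n9512 = n11021 := rfl
theorem F35582 : act 0 n11021 = n9514 := d5_1 D11021 (iv D9514) (iv F30309)
theorem F35583 : act 2 n11021 = n11021 := d16_1 D11021 (iv D11021) F30310
theorem F35584 : act 4 n11021 = n9544 := d23_1 D11021 (iv D9544) (iv F30311)
theorem F35585 : act 7 n11021 = n11021 := d27_2 D9512 D11021 (iv D11021) (iv D9512) F24844
def n11022 : Q := act 2 n9513
theorem D11022 : act 2 n9513 = n11022 := rfl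
theorem F35586 : act 3 n11022 = n11022 := d13_2 D9513 D11022 (iv D11022) (iv D9513) F24846
theorem F35587 : act 5 n11022 = n10937 := d15_2 F34213 D11022 F35300
theorem F35588 : act 1 n10941 = n11022 := d30_2 (iv F33954) D10941 (iv D11022) (iv D9513) (iv D7865) F19458 (iv F23729) (iv D7492) F18466 (iv F18442) D7485 F23708 F20252 F16630 F12166 F8508 (iv F8348) (iv D2708) F5740 F4744 F3269 D1505 (iv F6671) D3128 D4373 D5838 D7424 D9013 D10531
def n11023 : Q := act 4 n9513
theorem D11023 : act 4 n9513 = n11023 := rfl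
theorem F35589 : act 1 n11023 = n9516 := d9_1 D11023 (iv D9516) (iv F30312)
theorem F35590 : act 3 n11023 = n9546 := d18_1 D11023 (iv D9546) (iv D7891) (iv F24847) D9513
def n11024 : Q := act 6 n9513
theorem D11024 : act 6 n9513 = n11024 := rfl
theorem F35591 : act 1 n11024 = n9517 := d11_1 D11024 (iv D9517) (iv F30312)
theorem F35592 : act 3 n11024 = n9514 := d20_1 D11024 (iv D9514) D9513
theorem F35593 : act 5 n11024 = n10809 := d25_1 D11024 (iv D10809) (iv F33917) F34215 F34213
theorem F35594 : act 7 n11024 = n10827 := d27_2 F30905 D11024 F34956 (iv F33981) F33980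
def n11025 : Q := act 5 n9514
theorem D11025 : act 5 n9514 = n11025 := rfl
theorem F35595 : act 1 n11025 = n10486 := d10_1 D11025 F33785 F30479 F29531 (iv F30313)
theorem F35596 : act 2 n11025 = n11025 := d15_1 D11025 (iv D11025) F30314
theorem F35597 : act 3 n11025 = n10809 := d19_1 D11025 (iv F35593) F35592
theorem F35598 : act 4 n11025 = n9548 := d22_1 D11025 (iv D9548) (iv F30315)
theorem F35599 : act 6 n11025 = n10081 := d25_2 D9514 D11025 F34222 (iv D10607) F29001
theorem F35600 : act 7 n11025 = n11025 := d26_2 F30316 D11025 (iv D11025)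
def n11026 : Q := act 1 n9515
theorem D11026 : act 1 n9515 = n11026 := rfl
theorem F35601 : act 2 n11026 = n10941 := d7_2 D9515 D11026 F35588 (iv D11022) F30312
theorem F35602 : act 3 n11026 = n9519 := d8_2 (iv F30317) D11026 (iv D9519)
theorem F35603 : act 5 n11026 = n10533 := d10_2 (iv F30318) D11026 F33958 F28838 (iv F24852)
theorem F35604 : act 7 n11026 = n10849 := d12_2 (iv F30319) D11026 F35023
def n11027 : Q := act 4 n9515
theorem D11027 : act 4 n9515 = n11027 := rfl
theorem F35605 : act 2 n11027 = n9516 := d14_1 D11027 (iv D9516) D9515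
theorem F35606 : act 5 n11027 = n9518 := d22_2 (iv F30318) D11027 (iv D9518)
theorem F35607 : act 7 n11027 = n10947 := d24_2 (iv F30319) D11027 F35323
def n11028 : Q := act 6 n9515
theorem D11028 : act 6 n9515 = n11028 := rfl
theorem F35608 : act 2 n11028 = n9517 := d16_1 D11028 (iv D9517) D9515
theorem F35609 : act 3 n11028 = n9521 := d20_1 D11028 (iv D9521) (iv F30317)
theorem F35610 : act 5 n11028 = n10432 := d25_1 D11028 (iv D10432) F28323 F27592 (iv F30318)
def n11029 : Q := act 6 n9516
theorem D11029 : act 6 n9516 = n11029 := rfl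
theorem F35611 : act 3 n11029 = n9552 := d20_1 D11029 (iv D9552) (iv F30320)
theorem F35612 : act 4 n11029 = n9517 := d23_1 D11029 (iv D9517) D9516
def n11030 : Q := act 7 n9517
theorem D11030 : act 7 n9517 = n11030 := rfl
theorem F35613 : act 0 n11030 = n10734 := d6_1 D11030 F35504 F35501
theorem F35614 : act 1 n11030 = n10827 := d12_1 D11030 (iv F35594) F35591
theorem F35615 : act 3 n11030 = n11030 := d21_1 D11030 (iv D11030) F30322 F24851 (iv F30322)
theorem F35616 : act 5 n11030 = n10732 := d26_1 D11030 (iv F34725) F34724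
theorem F35617 : act 6 n11030 = n10884 := d27_1 D11030 F35563 (iv D11014) F30296 D9517
def n11031 : Q := act 3 n9518
theorem D11031 : act 3 n9518 = n11031 := rfl
theorem F35618 : act 0 n11031 = n10530 := d2_1 D11031 (iv F35507) F35505
theorem F35619 : act 1 n11031 = n10889 := d8_1 D11031 (iv D10889) (iv F30323)
theorem F35620 : act 2 n11031 = n9555 := d13_1 D11031 (iv D9555) F24927 (iv F24855) (iv F30324)
theorem F35621 : act 4 n11031 = n9525 := d18_2 D9518 D11031 (iv D9525) (iv D7874) (iv F24853)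
theorem F35622 : act 6 n11031 = n10837 := d20_2 F32834 D11031 F34989
def n11032 : Q := act 4 n9519
theorem D11032 : act 4 n9519 = n11032 := rfl
theorem F35623 : act 0 n11032 = n11025 := d3_1 D11032 F35598 F30415
theorem F35624 : act 1 n11032 = n9520 := d9_1 D11032 (iv D9520) D9519
theorem F35625 : act 2 n11032 = n11032 := d14_1 D11032 (iv D11032) F30326
theorem F35626 : act 5 n11032 = n11021 := d22_2 F30409 D11032 F35584
theorem F35627 : act 7 n11032 = n11032 := d24_2 F30327 D11032 (iv D11032)
def n11033 : Q := act 6 n9519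
theorem D11033 : act 6 n9519 = n11033 := rfl
theorem F35628 : act 0 n11033 = n10626 := d5_1 D11033 F34276 F30415
theorem F35629 : act 1 n11033 = n9521 := d11_1 D11033 (iv D9521) D9519
theorem F35630 : act 2 n11033 = n11033 := d16_1 D11033 (iv D11033) F30326
theorem F35631 : act 5 n11033 = n10622 := d25_1 D11033 (iv D10622) F29045 D9544 F30409
theorem F35632 : act 7 n10736 = n11033 := d26_0 F35631 F34267 (iv F34673)
def n11034 : Q := act 3 n9520
theorem D11034 : act 3 n9520 = n11034 := rfl
theorem F35633 : act 0 n11034 = n10517 := d2_1 D11034 (iv D10517) (iv F30328)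
theorem F35634 : act 2 n11034 = n9558 := d13_1 D11034 (iv D9558) F24935 (iv F24860) (iv F30329)
theorem F35635 : act 5 n11034 = n9525 := d19_2 (iv F30330) D11034 (iv D9525)
theorem F35636 : act 7 n10623 = n11034 := d26_0 F35635 (iv F30411) (iv F34269)
def n11035 : Q := act 4 n9522
theorem D11035 : act 4 n9522 = n11035 := rfl
theorem F35637 : act 0 n11035 = n9523 := d3_1 D11035 (iv D9523) D9522
theorem F35638 : act 1 n11035 = n10264 := d9_1 D11035 F33097 F32735
theorem F35639 : act 2 n11035 = n9526 := d14_1 D11035 (iv D9526) (iv F30335)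
theorem F35640 : act 5 n11035 = n10995 := d22_2 F30338 D11035 F35492
theorem F35641 : act 6 n11035 = n10831 := d23_2 F32828 D11035 F34970
theorem F35642 : act 7 n11035 = n11035 := d24_2 F30337 D11035 (iv D11035)
def n11036 : Q := act 3 n9523
theorem D11036 : act 3 n9523 = n11036 := rfl
theorem F35643 : act 1 n11036 = n9525 := d8_1 D11036 (iv D9525) (iv F30339)
theorem F35644 : act 4 n11036 = n10889 := d18_2 D9523 D11036 (iv D10889) (iv D9375) (iv F24868)
theorem F35645 : act 6 n11036 = n10835 := d20_2 (iv F30341) D11036 (iv D10835)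
def n11037 : Q := act 5 n9523
theorem D11037 : act 5 n9523 = n11037 := rfl
theorem F35646 : act 0 n11037 = n10995 := d4_1 D11037 (iv F35640) F35637
theorem F35647 : act 1 n11037 = n11021 := d10_1 D11037 (iv F35626) F35624 F30330 (iv F30339)
theorem F35648 : act 2 n11037 = n9528 := d15_1 D11037 (iv D9528) (iv F30340)
theorem F35649 : act 4 n11037 = n9524 := d22_1 D11037 (iv D9524) D9523
theorem F35650 : act 7 n11037 = n11037 := d26_2 F30342 D11037 (iv D11037)
theorem F35651 : act 6 n10993 = n11037 := d23_0 F35649 (iv F30347) (iv F35488)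
def n11038 : Q := act 3 n9526
theorem D11038 : act 3 n9526 = n11038 := rfl
theorem F35652 : act 0 n11038 = n9527 := d2_1 D11038 (iv D9527) (iv F30351)
theorem F35653 : act 1 n11038 = n9561 := d8_1 D11038 (iv D9561) (iv F30352)
theorem F35654 : act 4 n11038 = n9626 := d18_2 D9526 D11038 F30711 F27131 (iv F24875)
theorem F35655 : act 5 n11038 = n9628 := d19_2 F32386 D11038 (iv F32384)
theorem F35656 : act 6 n11038 = n10953 := d20_2 (iv F30353) D11038 (iv D10953)
theorem F35657 : act 7 n11038 = n9625 := d30_5 D9907 (iv F33098) (iv F35638) F35639 D11038 F30709 (iv F29623) F29620 (iv F31303) F31304 F26053 (iv D6879) (iv F20740) F20737 F15636 D5050 F15657 (iv F12483) F12482 F8761 D2837 F8775 F6061 D2843 D4034 D5462 D7039 F22300 D8309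
def n11039 : Q := act 1 n9529
theorem D11039 : act 1 n9529 = n11039 := rfl
theorem F35658 : act 3 n11039 = n9666 := d8_2 (iv F30364) D11039 (iv D9666)
theorem F35659 : act 5 n11039 = n10627 := d10_2 (iv F30365) D11039 (iv D10627) F29052 D9108
theorem F35660 : act 6 n10753 = n11039 := d25_0 F35659 (iv F34279) F29547 D9258 D10753
def n11040 : Q := act 4 n9529
theorem D11040 : act 4 n9529 = n11040 := rfl
theorem F35661 : act 0 n11040 = n10873 := d3_1 D11040 F35088 (iv F30363)
theorem F35662 : act 2 n11040 = n9530 := d14_1 D11040 (iv D9530) D9529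
theorem F35663 : act 5 n11040 = n10632 := d22_2 (iv F30365) D11040 (iv D10632)
def n11041 : Q := act 6 n9529
theorem D11041 : act 6 n9529 = n11041 := rfl
theorem F35664 : act 0 n11041 = n10875 := d5_1 D11041 (iv D10875) (iv F30363)
theorem F35665 : act 1 n11041 = n10753 := d11_1 D11041 F35660 (iv D11039)
theorem F35666 : act 2 n11041 = n9531 := d16_1 D11041 (iv D9531) D9529
theorem F35667 : act 3 n11041 = n9668 := d20_1 D11041 (iv D9668) (iv F30364)
theorem F35668 : act 5 n11041 = n11002 := d25_1 D11041 (iv D11002) F30209 F29861 (iv F30365)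
def n11042 : Q := act 6 n9530
theorem D11042 : act 6 n9530 = n11042 := rfl
theorem F35669 : act 3 n11042 = n9540 := d20_1 D11042 (iv D9540) (iv F30366)
theorem F35670 : act 4 n11042 = n9531 := d23_1 D11042 (iv D9531) D9530
def n11043 : Q := act 7 n9531
theorem D11043 : act 7 n9531 = n11043 := rfl
theorem F35671 : act 1 n11043 = n10339 := d12_1 D11043 F34237 F34235
theorem F35672 : act 3 n11043 = n9533 := d21_1 D11043 (iv D9533) F24897 (iv F24889) (iv F30367)
def n11044 : Q := act 7 n9532
theorem D11044 : act 7 n9532 = n11044 := rfl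
theorem F35673 : act 0 n11044 = n9542 := d6_1 D11044 F30399 (iv F30368)
theorem F35674 : act 2 n11044 = n10686 := d17_1 D11044 F34506 (iv F30369)
theorem F35675 : act 4 n11044 = n10337 := d24_1 D11044 F33325 (iv F30371)
theorem F35676 : act 5 n11044 = n9533 := d26_1 D11044 (iv D9533) D9532
def n11045 : Q := act 1 n9535
theorem D11045 : act 1 n9535 = n11045 := rfl
theorem F35677 : act 2 n11045 = n11036 := d7_2 D9535 D11045 F35643 F30349 F24953
theorem F35678 : act 3 n11045 = n9671 := d8_2 (iv F30382) D11045 (iv D9671)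
theorem F35679 : act 5 n11045 = n10599 := d10_2 (iv F30383) D11045 F34190 F30389 (iv D9537)
theorem F35680 : act 7 n11045 = n9549 := d12_2 (iv F30384) D11045 (iv D9549)
def n11046 : Q := act 4 n9535
theorem D11046 : act 4 n9535 = n11046 := rfl
theorem F35681 : act 0 n11046 = n10526 := d3_1 D11046 F33934 (iv F30381)
theorem F35682 : act 2 n11046 = n9536 := d14_1 D11046 (iv D9536) D9535
theorem F35683 : act 5 n11046 = n9538 := d22_2 (iv F30383) D11046 (iv D9538)
theorem F35684 : act 7 n11046 = n9550 := d24_2 (iv F30384) D11046 (iv D9550)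
def n11047 : Q := act 4 n9537
theorem D11047 : act 4 n9537 = n11047 := rfl
theorem F35685 : act 1 n11047 = n9538 := d9_1 D11047 (iv D9538) D9537
theorem F35686 : act 3 n11047 = n11013 := d18_1 D11047 (iv D11013) (iv D9506) F25519 (iv F30387)
theorem F35687 : act 5 n11047 = n11009 := d22_2 F30389 D11047 (iv D11009)
theorem F35688 : act 7 n11047 = n9554 := d24_2 (iv F30388) D11047 (iv D9554)
def n11048 : Q := act 6 n9537
theorem D11048 : act 6 n9537 = n11048 := rfl
theorem F35689 : act 1 n11048 = n9539 := d11_1 D11048 (iv D9539) D9537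
theorem F35690 : act 3 n11048 = n9674 := d20_1 D11048 (iv D9674) (iv F30387)
theorem F35691 : act 7 n11048 = n10877 := d27_2 (iv F30388) D11048 (iv D10877) (iv D9364) (iv F24924)
def n11049 : Q := act 3 n9538
theorem D11049 : act 3 n9538 = n11049 := rfl
theorem F35692 : act 0 n11049 = n10538 := d2_1 D11049 (iv D10538) (iv F30390)
theorem F35693 : act 1 n11049 = n11013 := d8_1 D11049 (iv F35686) F35685
theorem F35694 : act 4 n11049 = n9675 := d18_2 D9538 D11049 (iv D9675) (iv D8057) (iv F24905)
theorem F35695 : act 7 n11049 = n11023 := d21_2 (iv F30392) D11049 F35590 F30437 (iv D9555)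
def n11050 : Q := act 6 n9538
theorem D11050 : act 6 n9538 = n11050 := rfl
theorem F35696 : act 0 n11050 = n10539 := d5_1 D11050 (iv D10539) (iv F30390)
theorem F35697 : act 2 n11050 = n9540 := d16_1 D11050 (iv D9540) (iv F30391)
theorem F35698 : act 4 n11050 = n9539 := d23_1 D11050 (iv D9539) D9538
theorem F35699 : act 7 n11050 = n10879 := d27_2 (iv F30392) D11050 (iv D10879) (iv D9366) (iv F24928)
def n11051 : Q := act 5 n9539
theorem D11051 : act 5 n9539 = n11051 := rfl
theorem F35700 : act 0 n11051 = n10540 := d4_1 D11051 (iv D10540) (iv F30393)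
theorem F35701 : act 2 n11051 = n9541 := d15_1 D11051 (iv D9541) (iv F30394)
theorem F35702 : act 3 n11051 = n9677 := d19_1 D11051 (iv D9677) (iv F30395)
theorem F35703 : act 7 n11051 = n10880 := d26_2 (iv F30396) D11051 (iv D10880)
def n11052 : Q := act 5 n9540
theorem D11052 : act 5 n9540 = n11052 := rfl
theorem F35704 : act 4 n11052 = n9541 := d22_1 D11052 (iv D9541) (iv F30397)
def n11053 : Q := act 1 n9541
theorem D11053 : act 1 n9541 = n11053 := rfl
theorem F35705 : act 3 n11053 = n9542 := d8_2 (iv F30398) D11053 (iv D9542)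
theorem F35706 : act 7 n11053 = n11041 := d12_2 F34732 D11053 F35665
theorem F35707 : act 2 n11053 = n11043 := d30_3 D7887 D9541 D11053 F35672 (iv D9533) (iv D7882) F19486 F20306 F20303 F15224 D6486 D8113 D9708 (iv F31912) (iv D9960) (iv D8375) (iv D6758) F16074 (iv D4243) F9324 F6414 F4874 D2273 F7056 F5061 (iv F7317) (iv F10464) D4708 (iv F19493)
def n11054 : Q := act 1 n9545
theorem D11054 : act 1 n9545 = n11054 := rfl
theorem F35708 : act 0 n11054 = n10730 := d0_1 D11054 (iv D10730) F29451 (iv F33951) F33950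
theorem F35709 : act 2 n11054 = n9549 := d7_2 D9545 D11054 (iv D9549) (iv D7893) (iv F24914)
theorem F35710 : act 3 n11054 = n11054 := d8_2 F30410 D11054 (iv D11054)
theorem F35711 : act 7 n11054 = n11036 := d12_2 (iv F30411) D11054 F35643
theorem F35712 : act 5 n10610 = n11054 := d15_0 F35709 F30419 D10610
def n11055 : Q := act 4 n9545
theorem D11055 : act 4 n9545 = n11055 := rfl
theorem F35713 : act 2 n11055 = n9546 := d14_1 D11055 (iv D9546) D9545
theorem F35714 : act 7 n11055 = n11031 := d24_2 (iv F30411) D11055 F35621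
def n11056 : Q := act 6 n9546
theorem D11056 : act 6 n9546 = n11056 := rfl
theorem F35715 : act 1 n11056 = n9552 := d11_1 D11056 (iv D9552) (iv F30412)
theorem F35716 : act 4 n11056 = n9547 := d23_1 D11056 (iv D9547) D9546
def n11057 : Q := act 5 n9547
theorem D11057 : act 5 n9547 = n11057 := rfl
theorem F35717 : act 0 n11057 = n11026 := d4_1 D11057 F35603 F33957
theorem F35718 : act 3 n11057 = n9548 := d19_1 D11057 (iv D9548) (iv F30414)
def n11058 : Q := act 0 n9549
theorem D11058 : act 0 n9549 = n11058 := rfl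
theorem F35719 : act 1 n11058 = n10513 := d0_2 D9549 D11058 F33899 F28719 (iv F24918)
theorem F35720 : act 2 n11058 = n10730 := d1_2 F35709 D11058 (iv F35708)
theorem F35721 : act 3 n11058 = n9556 := d2_2 (iv F30418) D11058 (iv D9556)
theorem F35722 : act 5 n11058 = n10586 := d4_2 (iv F30419) D11058 F34141
def n11059 : Q := act 4 n9549
theorem D11059 : act 4 n9549 = n11059 := rfl
theorem F35723 : act 1 n11059 = n9550 := d9_1 D11059 (iv D9550) D9549
theorem F35724 : act 3 n11059 = n10614 := d18_1 D11059 (iv D10614) (iv D9095) F24932 (iv F30418)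
theorem F35725 : act 5 n11059 = n10611 := d22_2 (iv F30419) D11059 (iv D10611)
def n11060 : Q := act 6 n9549
theorem D11060 : act 6 n9549 = n11060 := rfl
theorem F35726 : act 1 n11060 = n9551 := d11_1 D11060 (iv D9551) D9549
theorem F35727 : act 3 n11060 = n9557 := d20_1 D11060 (iv D9557) (iv F30418)
theorem F35728 : act 5 n10046 = n11060 := d19_0 F35727 (iv F30447) D10046
theorem F35729 : act 7 n10049 = n11060 := d21_0 F35727 F30446 F26967 D8473 D10049
def n11061 : Q := act 3 n9550
theorem D11061 : act 3 n9550 = n11061 := rfl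
theorem F35730 : act 0 n11061 = n10518 := d2_1 D11061 F33910 (iv F30420)
theorem F35731 : act 1 n11061 = n10614 := d8_1 D11061 (iv F35724) F35723
theorem F35732 : act 4 n11061 = n9558 := d18_2 D9550 D11061 (iv D9558) (iv D7899) (iv F24919)
theorem F35733 : act 5 n11061 = n9555 := d19_2 (iv F30422) D11061 (iv D9555)
theorem F35734 : act 7 n10624 = n11061 := d26_0 F35733 (iv F30437) (iv F34271)
def n11062 : Q := act 6 n9550
theorem D11062 : act 6 n9550 = n11062 := rfl
theorem F35735 : act 0 n11062 = n10520 := d5_1 D11062 F33916 (iv F30420)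
theorem F35736 : act 2 n11062 = n9552 := d16_1 D11062 (iv D9552) (iv F30421)
theorem F35737 : act 4 n11062 = n9551 := d23_1 D11062 (iv D9551) D9550
theorem F35738 : act 5 n11062 = n10806 := d25_1 D11062 F34896 F29778 (iv F24928) (iv F30422)
def n11063 : Q := act 7 n9551
theorem D11063 : act 7 n9551 = n11063 := rfl
theorem F35739 : act 0 n11063 = n10521 := d6_1 D11063 (iv D10521) (iv F30423)
theorem F35740 : act 1 n11063 = n10049 := d12_1 D11063 F35729 F35726
theorem F35741 : act 2 n11063 = n9553 := d17_1 D11063 (iv D9553) (iv F30424)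
theorem F35742 : act 3 n11063 = n10048 := d21_1 D11063 (iv D10048) F30464 (iv D9560) (iv F30425)
theorem F35743 : act 5 n11063 = n10807 := d26_1 D11063 (iv D10807) (iv F30426)
def n11064 : Q := act 7 n9552
theorem D11064 : act 7 n9552 = n11064 := rfl
theorem F35744 : act 4 n11064 = n9553 := d24_1 D11064 (iv D9553) (iv F30427)
def n11065 : Q := act 6 n9556
theorem D11065 : act 6 n9556 = n11065 := rfl
theorem F35745 : act 0 n11065 = n9557 := d5_1 D11065 (iv D9557) D9556
theorem F35746 : act 1 n11065 = n10510 := d11_1 D11065 F33892 (iv F30438)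
theorem F35747 : act 2 n11065 = n11065 := d16_1 D11065 (iv D11065) F30439
theorem F35748 : act 4 n11065 = n10588 := d23_1 D11065 (iv D10588) (iv F30440)
theorem F35749 : act 5 n11065 = n9794 := d25_1 D11065 (iv D9794) (iv F31299) F31300 (iv F30441)
theorem F35750 : act 7 n11065 = n9795 := d27_2 (iv F30442) D11065 F31366 F30950 (iv D9683)
def n11066 : Q := act 6 n9558
theorem D11066 : act 6 n9558 = n11066 := rfl
theorem F35751 : act 0 n11066 = n10003 := d5_1 D11066 F32097 (iv F30448)
theorem F35752 : act 1 n11066 = n10615 := d11_1 D11066 (iv D10615) (iv F30449)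
theorem F35753 : act 3 n11066 = n9559 := d20_1 D11066 (iv D9559) D9558
theorem F35754 : act 5 n11066 = n10010 := d25_1 D11066 F32118 F29727 (iv F24954) (iv F30450)
def n11067 : Q := act 3 n9562
theorem D11067 : act 3 n9562 = n11067 := rfl
theorem F35755 : act 0 n11067 = n9563 := d2_1 D11067 (iv D9563) (iv F30470)
theorem F35756 : act 1 n11067 = n9936 := d8_1 D11067 (iv D9936) (iv F30471)
theorem F35757 : act 6 n11067 = n9920 := d20_2 (iv F30473) D11067 (iv D9920)
def n11068 : Q := act 2 n9563
theorem D11068 : act 2 n9563 = n11068 := rfl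
theorem F35758 : act 1 n11068 = n10749 := d7_1 D11068 F34722 F33597 F32210 F32128
theorem F35759 : act 3 n11068 = n9565 := d13_2 D9563 D11068 (iv D9565) (iv D7909) (iv F24968)
theorem F35760 : act 6 n11068 = n10747 := d16_2 F34845 D11068 (iv F34844)
def n11069 : Q := act 4 n9563
theorem D11069 : act 4 n9563 = n11069 := rfl
def n11070 : Q := act 2 n9564
theorem D11070 : act 2 n9564 = n11070 := rfl
theorem F35761 : act 0 n11070 = n9565 := d1_1 D11070 (iv D9565) (iv F30474)
theorem F35762 : act 1 n11070 = n10528 := d7_1 D11070 (iv D10528) (iv D9011) (iv F26432) (iv F30475)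
theorem F35763 : act 4 n11070 = n10754 := d14_2 F31773 D11070 F34735
theorem F35764 : act 5 n11070 = n10516 := d15_2 (iv F30476) D11070 (iv D10516)
theorem F35765 : act 6 n11070 = n9914 := d16_2 (iv F30477) D11070 (iv D9914)
theorem F35766 : act 7 n11070 = n11070 := d17_2 F30478 D11070 (iv D11070)
def n11071 : Q := act 2 n9571
theorem D11071 : act 2 n9571 = n11071 := rfl
theorem F35767 : act 0 n11071 = n9585 := d1_1 D11071 (iv D9585) (iv F30507)
theorem F35768 : act 1 n11071 = n10488 := d7_1 D11071 (iv D10488) (iv F30503) F30504 (iv F30508)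
theorem F35769 : act 6 n11071 = n10079 := d16_2 F30561 D11071 F32341
def n11072 : Q := act 5 n9571
theorem D11072 : act 5 n9571 = n11072 := rfl
theorem F35770 : act 0 n11072 = n9587 := d4_1 D11072 (iv D9587) (iv F30507)
theorem F35771 : act 1 n11072 = n11072 := d10_1 D11072 (iv D11072) F30508 F25013 (iv F30508)
theorem F35772 : act 3 n11072 = n9572 := d19_1 D11072 (iv D9572) D9571
theorem F35773 : act 6 n11072 = n10653 := d25_2 F30561 D11072 (iv D10653) F32364 F32363
def n11073 : Q := act 7 n9571
theorem D11073 : act 7 n9571 = n11073 := rfl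
theorem F35774 : act 0 n11073 = n9588 := d6_1 D11073 (iv D9588) (iv F30507)
theorem F35775 : act 1 n11073 = n9573 := d12_1 D11073 (iv D9573) (iv F30508)
theorem F35776 : act 3 n11073 = n11073 := d21_1 D11073 (iv D11073) (iv D9571) F25011 D9571
theorem F35777 : act 6 n11073 = n9605 := d27_1 D11073 (iv F32437) F32436 F32334 F30561
def n11074 : Q := act 2 n9574
theorem D11074 : act 2 n9574 = n11074 := rfl
theorem F35778 : act 0 n11074 = n10009 := d1_1 D11074 F32112 (iv F30518)
theorem F35779 : act 1 n11074 = n9748 := d7_1 D11074 (iv D9748) F25924 (iv F25027) (iv F30519)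
theorem F35780 : act 4 n11074 = n10772 := d14_2 F30521 D11074 F34795
theorem F35781 : act 5 n11074 = n11012 := d15_2 F34512 D11074 F35554
theorem F35782 : act 6 n11074 = n10055 := d16_2 (iv F30520) D11074 F32248
theorem F35783 : act 7 n11074 = n9860 := d17_2 F30522 D11074 F31543
def n11075 : Q := act 2 n9577
theorem D11075 : act 2 n9577 = n11075 := rfl
theorem F35784 : act 0 n11075 = n10079 := d1_1 D11075 F32341 F30558
theorem F35785 : act 4 n11075 = n11071 := d14_2 (iv F30532) D11075 (iv D11071)
theorem F35786 : act 6 n11075 = n9585 := d16_2 (iv F30533) D11075 (iv D9585)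
theorem F35787 : act 7 n10077 = n11075 := d31_1 (iv F32337) F35785 (iv D11071) (iv F30561) F30560 F30500 (iv F30967) (iv F31735) F31733 (iv D9504) (iv D7858) F19450 (iv D6208) (iv D4692) F10443 D4693 F14515 D4695 D6213 F19460 F14548 D4710 (iv F19517) F19518 (iv F21823) F21821 D6908 F21841 D8515
theorem F35788 : act 5 n11075 = n10087 := d26_1 F35787 (iv D10087) (iv F32337)
def n11076 : Q := act 5 n9577
theorem D11076 : act 5 n9577 = n11076 := rfl
theorem F35789 : act 0 n11076 = n10084 := d4_1 D11076 F32363 F30558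
theorem F35790 : act 1 n11076 = n11076 := d10_1 D11076 (iv D11076) F30531 F25043 (iv F30531)
theorem F35791 : act 2 n11076 = n10087 := d15_1 D11076 (iv F35788) (iv D11075)
theorem F35792 : act 3 n11076 = n9578 := d19_1 D11076 (iv D9578) D9577
theorem F35793 : act 4 n11076 = n11072 := d22_1 D11076 (iv D11072) (iv F30532)
theorem F35794 : act 6 n11076 = n10651 := d25_2 (iv F30533) D11076 (iv F34364) F34361 (iv D9587)
theorem F35795 : act 7 n10082 = n11076 := d30_29 F35794 (iv F34364) F34360 F29119 F23859 (iv D6046) (iv D4565) (iv D3293) F7096 F4911 F4912 D2290 D3300 D4574 D6057 (iv F23402) (iv D7381) (iv D5792) (iv F16507) (iv D5301) F12086 (iv F11918) (iv F16190) (iv F16748) F16747 F16746 (iv F21833) D8512 D10082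
def n11077 : Q := act 7 n9577
theorem D11077 : act 7 n9577 = n11077 := rfl
theorem F35796 : act 0 n11077 = n10076 := d6_1 D11077 F32334 F30558
theorem F35797 : act 1 n11077 = n9579 := d12_1 D11077 (iv D9579) (iv F30531)
theorem F35798 : act 2 n11077 = n10077 := d17_1 D11077 F35787 (iv D11075)
theorem F35799 : act 3 n11077 = n10075 := d21_1 D11077 F32330 F31983 F27157 D9577
theorem F35800 : act 4 n11077 = n11073 := d24_1 D11077 (iv D11073) (iv F30532)
theorem F35801 : act 5 n11077 = n10082 := d26_1 D11077 F35795 (iv D11076)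
def n11078 : Q := act 3 n9580
theorem D11078 : act 3 n9580 = n11078 := rfl
theorem F35802 : act 0 n11078 = n9582 := d2_1 D11078 (iv D9582) (iv F30540)
theorem F35803 : act 1 n11078 = n9581 := d8_1 D11078 (iv D9581) D9580
theorem F35804 : act 4 n11078 = n9918 := d18_2 (iv F30542) D11078 F31759 F26468 (iv F26436)
theorem F35805 : act 7 n11078 = n9949 := d21_2 (iv F30543) D11078 F31879 (iv F30491) F30488
def n11079 : Q := act 5 n9580
theorem D11079 : act 5 n9580 = n11079 := rfl
theorem F35806 : act 0 n11079 = n9583 := d4_1 D11079 (iv D9583) (iv F30540)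
theorem F35807 : act 1 n11079 = n9866 := d10_1 D11079 (iv D9866) F26268 (iv F25049) D9580
theorem F35808 : act 2 n11079 = n10451 := d15_1 D11079 F33656 (iv F30541)
theorem F35809 : act 4 n11079 = n9868 := d22_1 D11079 F31573 (iv F30542)
theorem F35810 : act 7 n11079 = n10450 := d26_2 (iv F30543) D11079 F33654
def n11080 : Q := act 2 n9582
theorem D11080 : act 2 n9582 = n11080 := rfl
theorem F35811 : act 1 n11080 = n9585 := d7_1 D11080 (iv D9585) F25065 (iv F25057) (iv F30548)
theorem F35812 : act 3 n11080 = n10631 := d13_2 D9582 D11080 F34289 (iv D9263) (iv F25054)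
theorem F35813 : act 7 n11080 = n10131 := d17_2 F31096 D11080 F32603
def n11081 : Q := act 5 n9582
theorem D11081 : act 5 n9582 = n11081 := rfl
theorem F35814 : act 1 n11081 = n9594 := d10_1 D11081 (iv D9594) F25098 (iv F25058) (iv F30548)
theorem F35815 : act 3 n11081 = n9583 := d19_1 D11081 (iv D9583) D9582
def n11082 : Q := act 6 n9583
theorem D11082 : act 6 n9583 = n11082 := rfl
theorem F35816 : act 1 n11082 = n9595 := d11_1 D11082 (iv D9595) (iv F30549)
theorem F35817 : act 2 n11082 = n10453 := d16_1 D11082 (iv D10453) (iv F30550)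
def n11083 : Q := act 6 n9588
theorem D11083 : act 6 n9588 = n11083 := rfl
theorem F35818 : act 0 n11083 = n9605 := d5_1 D11083 (iv F35777) F35774
theorem F35819 : act 1 n11083 = n9591 := d11_1 D11083 (iv D9591) (iv F30564)
theorem F35820 : act 2 n11083 = n10129 := d16_1 D11083 (iv F32594) F32338
theorem F35821 : act 3 n11083 = n11083 := d20_1 D11083 (iv D11083) F30565
theorem F35822 : act 4 n11083 = n10099 := d23_1 D11083 F32436 (iv F32335)
theorem F35823 : act 5 n11083 = n11083 := d25_1 D11083 (iv D11083) (iv F32356) F32357 F32356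
def n11084 : Q := act 5 n9592
theorem D11084 : act 5 n9592 = n11084 := rfl
theorem F35824 : act 0 n11084 = n10159 := d4_1 D11084 F32708 (iv F30581)
theorem F35825 : act 2 n11084 = n9594 := d15_1 D11084 (iv D9594) D9592
theorem F35826 : act 3 n11084 = n9618 := d19_1 D11084 (iv D9618) (iv F30583)
def n11085 : Q := act 5 n9593
theorem D11085 : act 5 n9593 = n11085 := rfl
theorem F35827 : act 0 n11085 = n9889 := d4_1 D11085 F31642 (iv F30585)
theorem F35828 : act 3 n11085 = n9893 := d19_1 D11085 F31656 (iv F30587)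
theorem F35829 : act 4 n11085 = n9594 := d22_1 D11085 (iv D9594) D9593
def n11086 : Q := act 6 n9594
theorem D11086 : act 6 n9594 = n11086 := rfl
theorem F35830 : act 3 n11086 = n9595 := d20_1 D11086 (iv D9595) (iv F30589)
theorem F35831 : act 5 n11086 = n11086 := d25_1 D11086 (iv D11086) (iv D9594) F25099 D9594
def n11087 : Q := act 7 n9595
theorem D11087 : act 7 n9595 = n11087 := rfl
theorem F35832 : act 2 n11087 = n9621 := d17_1 D11087 (iv D9621) (iv F30590)
theorem F35833 : act 5 n11087 = n11087 := d26_1 D11087 (iv D11087) F30591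
theorem F35834 : act 6 n11087 = n9959 := d27_1 D11087 (iv D9959) F26637 (iv F25101) D9595
def n11088 : Q := act 6 n9603
theorem D11088 : act 6 n9603 = n11088 := rfl
theorem F35835 : act 0 n11088 = n9950 := d5_1 D11088 F31882 (iv F30624)
theorem F35836 : act 1 n11088 = n9607 := d11_1 D11088 (iv D9607) (iv F30625)
theorem F35837 : act 3 n11088 = n11088 := d20_1 D11088 (iv D11088) F30626
theorem F35838 : act 4 n11088 = n9604 := d23_1 D11088 (iv D9604) D9603
theorem F35839 : act 5 n11088 = n10482 := d25_1 D11088 F33775 F32196 (iv F32588) F32587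
theorem F35840 : act 7 n11088 = n10489 := d27_2 F32432 D11088 (iv F33796) (iv F31096) (iv F32431)
def n11089 : Q := act 4 n9605
theorem D11089 : act 4 n9605 = n11089 := rfl
theorem F35841 : act 0 n11089 = n10099 := d3_1 D11089 (iv F35822) F35818
theorem F35842 : act 1 n11089 = n9606 := d9_1 D11089 (iv D9606) D9605
theorem F35843 : act 5 n11089 = n11089 := d22_2 F30632 D11089 (iv D11089)
theorem F35844 : act 6 n11089 = n11077 := d23_2 F35777 D11089 F35800
theorem F35845 : act 7 n11089 = n11083 := d24_2 F32437 D11089 F35822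
theorem F35846 : act 3 n10109 = n11089 := d30_4 (iv F30961) F30960 F30958 (iv F32485) F35845 (iv D11083) (iv F32356) F32353 (iv F34371) F34372 (iv D9271) (iv D7660) F18989 F14163 D4572 F14177 F14178 D6054 D7666 (iv F25570) (iv F30941) F30942 (iv D8975) (iv F26971) (iv F32063) (iv D9994) F26777 (iv F26699) (iv F27101)
def n11090 : Q := act 6 n9608
theorem D11090 : act 6 n9608 = n11090 := rfl
theorem F35847 : act 0 n11090 = n10668 := d5_1 D11090 F34427 F32503
theorem F35848 : act 1 n11090 = n11090 := d11_1 D11090 (iv D11090) F30645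
theorem F35849 : act 2 n11090 = n10016 := d16_1 D11090 (iv D10016) (iv F30646)
theorem F35850 : act 3 n11090 = n9609 := d20_1 D11090 (iv D9609) D9608
theorem F35851 : act 7 n11090 = n10666 := d27_2 (iv F30648) D11090 F34421 F32216 (iv D9611)
def n11091 : Q := act 5 n9609
theorem D11091 : act 5 n9609 = n11091 := rfl
theorem F35852 : act 6 n11091 = n9634 := d25_2 D9609 D11091 (iv D9634) (iv D8002) (iv F25169)
def n11092 : Q := act 5 n9612
theorem D11092 : act 5 n9612 = n11092 := rfl
theorem F35853 : act 2 n11092 = n9614 := d15_1 D11092 (iv D9614) D9612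
theorem F35854 : act 7 n11092 = n10474 := d26_2 (iv F30661) D11092 (iv D10474)
def n11093 : Q := act 5 n9613
theorem D11093 : act 5 n9613 = n11093 := rfl
theorem F35855 : act 0 n11093 = n10247 := d4_1 D11093 F33029 (iv F30662)
theorem F35856 : act 3 n11093 = n10187 := d19_1 D11093 F32804 (iv F30664)
theorem F35857 : act 4 n11093 = n9614 := d22_1 D11093 (iv D9614) D9613
theorem F35858 : act 7 n11093 = n10459 := d26_2 (iv F30666) D11093 (iv D10459)
def n11094 : Q := act 6 n9614
theorem D11094 : act 6 n9614 = n11094 := rfl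
theorem F35859 : act 3 n11094 = n9615 := d20_1 D11094 (iv D9615) (iv F30667)
theorem F35860 : act 5 n11094 = n11094 := d25_1 D11094 (iv D11094) (iv D9614) F25197 D9614
def n11095 : Q := act 3 n9616
theorem D11095 : act 3 n9616 = n11095 := rfl
theorem F35861 : act 0 n11095 = n11095 := d2_1 D11095 (iv D11095) F30671
theorem F35862 : act 1 n11095 = n10462 := d8_1 D11095 F33692 (iv F30672)
theorem F35863 : act 2 n11095 = n11095 := d13_1 D11095 (iv D11095) F30673 F25216 (iv F30673)
theorem F35864 : act 4 n11095 = n10681 := d18_2 F30693 D11095 (iv D10681) F29224 (iv F30692)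
theorem F35865 : act 5 n11095 = n10682 := d19_2 F30703 D11095 F34487
theorem F35866 : act 6 n11095 = n10461 := d20_2 (iv F30674) D11095 F33688
def n11096 : Q := act 6 n9618
theorem D11096 : act 6 n9618 = n11096 := rfl
theorem F35867 : act 0 n11096 = n10156 := d5_1 D11096 F32698 (iv F30679)
theorem F35868 : act 1 n11096 = n10151 := d11_1 D11096 (iv F33729) F33726
theorem F35869 : act 2 n11096 = n9620 := d16_1 D11096 (iv D9620) (iv F30680)
theorem F35870 : act 4 n11096 = n10154 := d23_1 D11096 (iv F33748) F33746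
theorem F35871 : act 5 n11096 = n11096 := d25_1 D11096 (iv D11096) (iv D9618) F25234 D9618
theorem F35872 : act 7 n11096 = n10152 := d27_2 F33171 D11096 F32685 (iv F28454) F33173
def n11097 : Q := act 6 n9619
theorem D11097 : act 6 n9619 = n11097 := rfl
theorem F35873 : act 0 n11097 = n10152 := d5_1 D11097 F32685 (iv F30681)
theorem F35874 : act 1 n11097 = n10329 := d11_1 D11097 F33298 (iv F30682)
theorem F35875 : act 2 n11097 = n10154 := d16_1 D11097 (iv F33748) F33745
theorem F35876 : act 3 n11097 = n10203 := d20_1 D11097 F32863 F32767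
theorem F35877 : act 4 n11097 = n9620 := d23_1 D11097 (iv D9620) (iv F30683)
theorem F35878 : act 5 n11097 = n11097 := d25_1 D11097 (iv D11097) (iv D9619) F25237 D9619
theorem F35879 : act 7 n11097 = n10156 := d27_2 F33178 D11097 F32698 (iv F28461) F33179
def n11098 : Q := act 7 n9620
theorem D11098 : act 7 n9620 = n11098 := rfl
theorem F35880 : act 0 n11098 = n10154 := d6_1 D11098 F32690 (iv F30684)
theorem F35881 : act 1 n11098 = n10344 := d12_1 D11098 F33346 (iv F30685)
theorem F35882 : act 2 n11098 = n10152 := d17_1 D11098 (iv F35872) F35869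
theorem F35883 : act 4 n11098 = n10156 := d24_1 D11098 (iv F35879) F35877
theorem F35884 : act 5 n11098 = n11098 := d26_1 D11098 (iv D11098) F30687
theorem F35885 : act 6 n11098 = n10153 := d27_1 D11098 F33186 (iv D10285) F27965 D9620
def n11099 : Q := act 4 n9623
theorem D11099 : act 4 n9623 = n11099 := rfl
theorem F35886 : act 0 n11099 = n10207 := d3_1 D11099 (iv D10207) F30700
theorem F35887 : act 1 n11099 = n9624 := d9_1 D11099 (iv D9624) D9623
theorem F35888 : act 2 n11099 = n9644 := d14_1 D11099 (iv D9644) (iv F30696)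
theorem F35889 : act 6 n11099 = n11099 := d23_2 F30698 D11099 (iv D11099)
theorem F35890 : act 7 n11099 = n10326 := d24_2 (iv F30699) D11099 F33291
def n11100 : Q := act 5 n9623
theorem D11100 : act 5 n9623 = n11100 := rfl
theorem F35891 : act 0 n11100 = n10205 := d4_1 D11100 F32867 F30700
theorem F35892 : act 2 n11100 = n9645 := d15_1 D11100 (iv D9645) (iv F30696)
theorem F35893 : act 3 n11100 = n9627 := d19_1 D11100 (iv D9627) (iv F30697)
theorem F35894 : act 7 n11100 = n10327 := d26_2 (iv F30699) D11100 (iv D10327)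
def n11101 : Q := act 5 n9629
theorem D11101 : act 5 n9629 = n11101 := rfl
theorem F35895 : act 0 n11101 = n9897 := d4_1 D11101 F31665 (iv F30719)
theorem F35896 : act 3 n11101 = n9884 := d19_1 D11101 F31628 (iv F30721)
theorem F35897 : act 7 n11101 = n9634 := d26_2 (iv F30722) D11101 (iv D9634)
def n11102 : Q := act 5 n9631
theorem D11102 : act 5 n9631 = n11102 := rfl
theorem F35898 : act 4 n11102 = n9634 := d22_1 D11102 (iv D9634) (iv F30728)
def n11103 : Q := act 6 n9632
theorem D11103 : act 6 n9632 = n11103 := rfl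
theorem F35899 : act 0 n11103 = n9872 := d5_1 D11103 (iv F32157) F32154
theorem F35900 : act 1 n11103 = n9663 := d11_1 D11103 (iv D9663) (iv F30729)
theorem F35901 : act 2 n11103 = n9981 := d16_1 D11103 (iv D9981) (iv F30730)
theorem F35902 : act 4 n11103 = n9633 := d23_1 D11103 (iv D9633) D9632
theorem F35903 : act 7 n11103 = n9865 := d27_2 (iv F30731) D11103 (iv D9865) F26266 (iv F25311)
def n11104 : Q := act 5 n9633
theorem D11104 : act 5 n9633 = n11104 := rfl
theorem F35904 : act 0 n11104 = n9874 := d4_1 D11104 F31592 (iv F30732)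
theorem F35905 : act 2 n11104 = n10006 := d15_1 D11104 F32104 (iv F30734)
theorem F35906 : act 3 n11104 = n9634 := d19_1 D11104 (iv D9634) (iv F30735)
theorem F35907 : act 7 n11104 = n9867 := d26_2 (iv F30736) D11104 (iv D9867)
def n11105 : Q := act 1 n9634
theorem D11105 : act 1 n9634 = n11105 := rfl
theorem F35908 : act 5 n11105 = n9665 := d10_2 D9634 D11105 (iv D9665) (iv D8044) (iv F25307)
def n11106 : Q := act 0 n9637
theorem D11106 : act 0 n9637 = n11106 := rfl
theorem F35909 : act 1 n11106 = n9673 := d0_2 D9637 D11106 (iv D9673) (iv D8056) (iv F25335)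
theorem F35910 : act 2 n11106 = n10150 := d1_2 (iv F30747) D11106 F32673
theorem F35911 : act 3 n11106 = n10395 := d2_2 (iv F30748) D11106 F33493
theorem F35912 : act 6 n11106 = n10149 := d5_2 F30750 D11106 F32670
theorem F35913 : act 7 n11106 = n9643 := d6_2 (iv F30749) D11106 (iv D9643)
theorem F35914 : act 4 n10987 = n11106 := d24_3 F35913 (iv F30774) D10987
def n11107 : Q := act 4 n9637
theorem D11107 : act 4 n9637 = n11107 := rfl
theorem F35915 : act 0 n11107 = n10987 := d3_1 D11107 F35914 (iv D11106)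
theorem F35916 : act 1 n11107 = n9638 := d9_1 D11107 (iv D9638) D9637
theorem F35917 : act 2 n11107 = n10326 := d14_1 D11107 F33291 (iv F30747)
theorem F35918 : act 6 n11107 = n10325 := d23_2 F30750 D11107 (iv D10325)
theorem F35919 : act 7 n11107 = n9644 := d24_2 (iv F30749) D11107 (iv D9644)
def n11108 : Q := act 5 n9637
theorem D11108 : act 5 n9637 = n11108 := rfl
theorem F35920 : act 2 n11108 = n10327 := d15_1 D11108 (iv D10327) (iv F30747)
theorem F35921 : act 3 n11108 = n10369 := d19_1 D11108 F33416 (iv F30748)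
theorem F35922 : act 7 n11108 = n9645 := d26_2 (iv F30749) D11108 (iv D9645)
def n11109 : Q := act 3 n9638
theorem D11109 : act 3 n9638 = n11109 := rfl
theorem F35923 : act 0 n11109 = n9675 := d2_1 D11109 (iv D9675) (iv F30751)
theorem F35924 : act 2 n11109 = n10843 := d13_1 D11109 F35008 F29812 (iv F25340) (iv F30752)
theorem F35925 : act 4 n11109 = n10538 := d18_2 D9638 D11109 (iv D10538) F28789 (iv F25336)
theorem F35926 : act 5 n11109 = n10841 := d19_2 (iv F30753) D11109 F35003
theorem F35927 : act 6 n11109 = n11051 := d20_2 F30914 D11109 F35702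
theorem F35928 : act 7 n11109 = n11020 := d21_2 (iv F30754) D11109 (iv D11020) (iv D9512) (iv F25372)
def n11110 : Q := act 5 n9640
theorem D11110 : act 5 n9640 = n11110 := rfl
theorem F35929 : act 1 n11110 = n9645 := d10_1 D11110 (iv D9645) (iv D8018) (iv F25359) D9640
theorem F35930 : act 3 n11110 = n9648 := d19_1 D11110 (iv D9648) (iv F30760)
def n11111 : Q := act 5 n9643
theorem D11111 : act 5 n9643 = n11111 := rfl
theorem F35931 : act 0 n11111 = n9645 := d4_1 D11111 (iv D9645) D9643
theorem F35932 : act 1 n11111 = n10961 := d10_1 D11111 (iv D10961) F30092 (iv F25578) (iv F30770)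
theorem F35933 : act 2 n11111 = n10205 := d15_1 D11111 F32867 (iv F30771)
theorem F35934 : act 3 n11111 = n9652 := d19_1 D11111 (iv D9652) (iv F30772)
theorem F35935 : act 4 n11111 = n10963 := d22_1 D11111 F35386 F30774
def n11112 : Q := act 5 n9644
theorem D11112 : act 5 n9644 = n11112 := rfl
theorem F35936 : act 0 n11112 = n10963 := d4_1 D11112 F35386 (iv F30775)
theorem F35937 : act 3 n11112 = n10966 := d19_1 D11112 F35397 (iv F30777)
theorem F35938 : act 4 n11112 = n9645 := d22_1 D11112 (iv D9645) D9644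
def n11113 : Q := act 6 n9645
theorem D11113 : act 6 n9645 = n11113 := rfl
theorem F35939 : act 3 n11113 = n9654 := d20_1 D11113 (iv D9654) (iv F30779)
theorem F35940 : act 5 n11113 = n11113 := d25_1 D11113 (iv D11113) (iv D9645) F25369 D9645
def n11114 : Q := act 5 n9646
theorem D11114 : act 5 n9646 = n11114 := rfl
theorem F35941 : act 0 n11114 = n9648 := d4_1 D11114 (iv D9648) D9646
theorem F35942 : act 1 n11114 = n10211 := d10_1 D11114 (iv D10211) F27639 (iv F25582) (iv F30780)
theorem F35943 : act 2 n11114 = n10224 := d15_1 D11114 F32936 (iv F30781)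
theorem F35944 : act 4 n11114 = n10220 := d22_1 D11114 F32923 F30783
theorem F35945 : act 6 n11114 = n10215 := d25_2 F33864 D11114 F32905 (iv F32274) (iv F33863)
theorem F35946 : act 7 n11114 = n10323 := d26_2 (iv F30782) D11114 F33281
def n11115 : Q := act 5 n9647
theorem D11115 : act 5 n9647 = n11115 := rfl
theorem F35947 : act 0 n11115 = n10220 := d4_1 D11115 F32923 (iv F30784)
theorem F35948 : act 1 n11115 = n9653 := d10_1 D11115 (iv D9653) F25412 (iv F25388) (iv F30785)
theorem F35949 : act 2 n11115 = n10215 := d15_1 D11115 F32905 (iv F30786)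
theorem F35950 : act 3 n11115 = n10569 := d19_1 D11115 F34076 F30788
theorem F35951 : act 4 n11115 = n9648 := d22_1 D11115 (iv D9648) D9647
theorem F35952 : act 6 n11115 = n10224 := d25_2 F33858 D11115 F32936 (iv F28621) (iv F33857)
theorem F35953 : act 7 n11115 = n10292 := d26_2 (iv F30787) D11115 F33207
def n11116 : Q := act 6 n9648
theorem D11116 : act 6 n9648 = n11116 := rfl
theorem F35954 : act 0 n11116 = n10215 := d5_1 D11116 (iv F35945) F35941
theorem F35955 : act 1 n11116 = n9654 := d11_1 D11116 (iv D9654) (iv F30789)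
theorem F35956 : act 2 n11116 = n10220 := d16_1 D11116 F32924 (iv F30790)
theorem F35957 : act 4 n11116 = n10224 := d23_1 D11116 (iv F35952) F35951
theorem F35958 : act 5 n11116 = n10481 := d25_1 D11116 F33770 F32536 (iv D9649) D9648
theorem F35959 : act 7 n10291 = n11116 := d26_0 F35958 F33771 (iv F33204)
def n11117 : Q := act 7 n9654
theorem D11117 : act 7 n9654 = n11117 := rfl
theorem F35960 : act 0 n11117 = n9951 := d6_1 D11117 (iv F33701) (iv F33702)
theorem F35961 : act 1 n11117 = n10291 := d12_1 D11117 F35959 F35955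
theorem F35962 : act 2 n11117 = n9661 := d17_1 D11117 (iv D9661) (iv F30816)
theorem F35963 : act 4 n11117 = n10147 := d24_1 D11117 (iv F33709) F33706
theorem F35964 : act 5 n11117 = n11117 := d26_1 D11117 (iv D11117) F30817
theorem F35965 : act 6 n11117 = n10345 := d27_1 D11117 F33350 F28093 (iv F25418) D9654
theorem F35966 : act 3 n9952 = n11117 := d31_29 F35964 (iv D11117) (iv F33706) (iv F33710) (iv D9660) (iv F30836) (iv D9659) F27737 F27736 (iv F27774) (iv D8701) F22482 (iv D6651) (iv F20859) (iv D6641) (iv F20787) D8237 F26188 D8438 D10018 F32140 F30472 F24971 (iv F26436) (iv F31573) (iv F31574) (iv F33653) (iv D10450) (iv F31888)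
def n11118 : Q := act 5 n9655
theorem D11118 : act 5 n9655 = n11118 := rfl
theorem F35967 : act 0 n11118 = n9659 := d4_1 D11118 (iv D9659) (iv F30818)
theorem F35968 : act 2 n11118 = n10976 := d15_1 D11118 F35428 (iv F30820)
theorem F35969 : act 3 n11118 = n9656 := d19_1 D11118 (iv D9656) D9655
theorem F35970 : act 4 n11118 = n10200 := d22_1 D11118 F32852 (iv F30821)
def n11119 : Q := act 7 n9657
theorem D11119 : act 7 n9657 = n11119 := rfl
theorem F35971 : act 0 n11119 = n9661 := d6_1 D11119 (iv D9661) (iv F30827)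
theorem F35972 : act 1 n11119 = n10153 := d12_1 D11119 F33186 F33181
theorem F35973 : act 2 n11119 = n9951 := d17_1 D11119 (iv F33701) F33697
theorem F35974 : act 4 n11119 = n10148 := d24_1 D11119 (iv F33716) F33713
theorem F35975 : act 5 n11119 = n11119 := d26_1 D11119 (iv D11119) F30829
theorem F35976 : act 6 n11119 = n10344 := d27_1 D11119 F33346 F28091 (iv F25439) D9657
def n11120 : Q := act 5 n9658
theorem D11120 : act 5 n9658 = n11120 := rfl
theorem F35977 : act 0 n11120 = n10976 := d4_1 D11120 F35428 (iv F30830)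
theorem F35978 : act 2 n11120 = n9659 := d15_1 D11120 (iv D9659) D9658
theorem F35979 : act 3 n11120 = n10974 := d19_1 D11120 F35420 (iv F30832)
theorem F35980 : act 7 n11120 = n9888 := d26_2 (iv F30834) D11120 (iv D9888)
def n11121 : Q := act 6 n9659
theorem D11121 : act 6 n9659 = n11121 := rfl
theorem F35981 : act 1 n11121 = n10228 := d11_1 D11121 F32946 (iv F30835)
theorem F35982 : act 3 n11121 = n9660 := d20_1 D11121 (iv D9660) (iv F30836)
theorem F35983 : act 5 n11121 = n11121 := d25_1 D11121 (iv D11121) (iv D9659) F25441 D9659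
def n11122 : Q := act 7 n9660
theorem D11122 : act 7 n9660 = n11122 := rfl
theorem F35984 : act 0 n11122 = n10148 := d6_1 D11122 (iv F33716) F33711
theorem F35985 : act 1 n11122 = n10227 := d12_1 D11122 F32944 (iv F30837)
theorem F35986 : act 2 n11122 = n10147 := d17_1 D11122 (iv F33709) (iv F33710)
theorem F35987 : act 4 n11122 = n9661 := d24_1 D11122 (iv D9661) (iv F30838)
theorem F35988 : act 5 n11122 = n11122 := d26_1 D11122 (iv D11122) F30839
theorem F35989 : act 6 n11122 = n10328 := d27_1 D11122 F33295 F28039 (iv F25444) D9660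
def n11123 : Q := act 3 n9661
theorem D11123 : act 3 n9661 = n11123 := rfl
theorem F35990 : act 1 n11123 = n9969 := d8_1 D11123 F31955 (iv F30840)
theorem F35991 : act 5 n11123 = n11123 := d19_2 F30841 D11123 (iv D11123)
theorem F35992 : act 6 n11123 = n10343 := d20_2 (iv F30842) D11123 F33342
theorem F35993 : act 7 n11123 = n9970 := d21_2 D9661 D11123 (iv F34678) F34682 F30725
def n11124 : Q := act 1 n9664
theorem D11124 : act 1 n9664 = n11124 := rfl
theorem F35994 : act 3 n11124 = n9665 := d8_2 (iv F30854) D11124 (iv D9665)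
theorem F35995 : act 6 n11124 = n11124 := d11_2 F30855 D11124 (iv D11124)
theorem F35996 : act 7 n11124 = n10001 := d12_2 (iv F30856) D11124 (iv D10001)
def n11125 : Q := act 0 n9666
theorem D11125 : act 0 n9666 = n11125 := rfl
theorem F35997 : act 1 n11125 = n10784 := d0_2 D9666 D11125 F34826 F29773 (iv F25474)
theorem F35998 : act 2 n11125 = n11125 := d1_2 F30858 D11125 (iv D11125)
theorem F35999 : act 5 n11125 = n10634 := d4_2 (iv F30859) D11125 (iv D10634)
theorem F36000 : act 6 n11125 = n10742 := d5_2 F30861 D11125 F34694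
theorem F36001 : act 7 n11125 = n11125 := d6_2 F30860 D11125 (iv D11125)
def n11126 : Q := act 4 n9666
theorem D11126 : act 4 n9666 = n11126 := rfl
theorem F36002 : act 1 n11126 = n9667 := d9_1 D11126 (iv D9667) D9666
theorem F36003 : act 2 n11126 = n11126 := d14_1 D11126 (iv D11126) F30858
theorem F36004 : act 5 n11126 = n10635 := d22_2 (iv F30859) D11126 (iv D10635)
theorem F36005 : act 6 n11126 = n10136 := d23_2 F30861 D11126 F32629
theorem F36006 : act 7 n11126 = n11126 := d24_2 F30860 D11126 (iv D11126)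
def n11127 : Q := act 3 n9667
theorem D11127 : act 3 n9667 = n11127 := rfl
theorem F36007 : act 0 n11127 = n10843 := d2_1 D11127 F35008 (iv F30862)
theorem F36008 : act 2 n11127 = n9675 := d13_1 D11127 (iv D9675) F25522 (iv F25479) (iv F30863)
theorem F36009 : act 5 n11127 = n10638 := d19_2 (iv F30864) D11127 (iv D10638)
theorem F36010 : act 6 n11127 = n11005 := d20_2 F30866 D11127 F35535
theorem F36011 : act 7 n11127 = n11022 := d29_9 F23825 (iv F19879) F19878 (iv F19942) (iv F23797) (iv F25480) F25478 (iv F30863) D11127 F35586 (iv D11022) F30312 F24848 (iv F24201) (iv F29526) (iv F34714) (iv F34844) (iv D10791) (iv D9301) F24378 F22791 F17609 D5646 F17701 F13629 (iv F13838) (iv F18692) F18693 (iv F23827)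
def n11128 : Q := act 0 n9671
theorem D11128 : act 0 n9671 = n11128 := rfl
theorem F36012 : act 2 n11128 = n11038 := d1_2 (iv F30886) D11128 F35652
theorem F36013 : act 4 n11128 = n10579 := d3_2 F30889 D11128 F34112
theorem F36014 : act 5 n11128 = n10577 := d4_2 (iv F30887) D11128 F34104
theorem F36015 : act 7 n11128 = n9679 := d6_2 (iv F30888) D11128 (iv D9679)
def n11129 : Q := act 6 n9673
theorem D11129 : act 6 n9673 = n11129 := rfl
theorem F36016 : act 0 n11129 = n9674 := d5_1 D11129 (iv D9674) D9673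
theorem F36017 : act 1 n11129 = n10149 := d11_1 D11129 (iv F35912) F35909
theorem F36018 : act 2 n11129 = n11129 := d16_1 D11129 (iv D11129) F30896
theorem F36019 : act 4 n11129 = n10989 := d23_1 D11129 (iv D10989) (iv F30897)
theorem F36020 : act 7 n11129 = n11129 := d27_2 (iv F30899) D11129 (iv D11129) F30899 F25579
def n11130 : Q := act 5 n9674
theorem D11130 : act 5 n9674 = n11130 := rfl
theorem F36021 : act 1 n11130 = n10642 := d10_1 D11130 F34331 F33285 (iv D9677) (iv F30900)
theorem F36022 : act 2 n11130 = n11130 := d15_1 D11130 (iv D11130) F30901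
theorem F36023 : act 4 n11130 = n11015 := d22_1 D11130 (iv D11015) (iv F30902)
theorem F36024 : act 6 n11130 = n11011 := d25_2 D9674 D11130 (iv D11011) (iv D9502) F25520
theorem F36025 : act 7 n11130 = n11130 := d26_2 F30903 D11130 (iv D11130)
def n11131 : Q := act 3 n9684
theorem D11131 : act 3 n9684 = n11131 := rfl
theorem F36026 : act 0 n11131 = n10074 := d2_1 D11131 (iv D10074) (iv F30951)
theorem F36027 : act 1 n11131 = n10127 := d8_1 D11131 (iv D10127) (iv F30952)
theorem F36028 : act 2 n11131 = n11089 := d13_1 D11131 (iv F35846) F32485 (iv D9685) (iv F30953)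
theorem F36029 : act 4 n11131 = n10499 := d18_2 (iv F30954) D11131 F33847 F28611 F25596
theorem F36030 : act 5 n11131 = n11131 := d19_2 F30955 D11131 (iv D11131)
theorem F36031 : act 6 n11131 = n10077 := d20_2 (iv F30956) D11131 (iv D10077)
theorem F36032 : act 7 n11131 = n10129 := d21_2 D9684 D11131 (iv D10129) (iv D8579) (iv F25590)
def n11132 : Q := act 5 n9693
theorem D11132 : act 5 n9693 = n11132 := rfl
theorem F36033 : act 0 n11132 = n9786 := d4_1 D11132 (iv D9786) (iv F30996)
theorem F36034 : act 1 n11132 = n9842 := d10_1 D11132 F31487 D9860 (iv F31545) (iv F30997)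
theorem F36035 : act 2 n11132 = n9708 := d15_1 D11132 (iv D9708) (iv F30998)
theorem F36036 : act 3 n11132 = n10601 := d19_1 D11132 (iv D10601) (iv F30999)
theorem F36037 : act 4 n11132 = n9699 := d22_1 D11132 (iv D9699) (iv F31000)
theorem F36038 : act 6 n11132 = n9696 := d25_2 D9693 D11132 (iv D9696) (iv D8103) (iv F25714)
def n11133 : Q := act 1 n9694
theorem D11133 : act 1 n9694 = n11133 := rfl
theorem F36039 : act 0 n11133 = n11133 := d0_1 D11133 (iv D11133) F31001 F26075 (iv F31001)
theorem F36040 : act 2 n11133 = n11133 := d7_2 D9694 D11133 (iv D11133) (iv D9694) F25716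
theorem F36041 : act 3 n11133 = n9709 := d8_2 (iv F31002) D11133 (iv D9709)
theorem F36042 : act 4 n11133 = n10106 := d9_2 (iv F31003) D11133 F32471
theorem F36043 : act 5 n11133 = n11133 := d10_2 (iv F31004) D11133 (iv D11133) F31004 F28957
theorem F36044 : act 7 n11133 = n10105 := d12_2 (iv F31005) D11133 F32465
theorem F36045 : act 6 n10760 = n11133 := d30_0 F36043 (iv D11133) (iv D9694) (iv D8102) (iv D6481) F15216 (iv F17564) (iv F22153) F22154 (iv F25726) (iv F25729) D8412 D9992 F32052 (iv D8510) F21820 F21823 F19139 F14271 F10276 D3366 D4662 (iv F14407) F10864 (iv F14872) (iv F19851) (iv F24270) (iv F29599) D10760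
def n11134 : Q := act 6 n9694
theorem D11134 : act 6 n9694 = n11134 := rfl
theorem F36046 : act 0 n11134 = n9787 := d5_1 D11134 (iv D9787) (iv F31001)
theorem F36047 : act 1 n11134 = n10760 := d11_1 D11134 F36045 (iv D11133)
theorem F36048 : act 2 n11134 = n9695 := d16_1 D11134 (iv D9695) D9694
theorem F36049 : act 3 n11134 = n9711 := d20_1 D11134 (iv D9711) (iv F31002)
theorem F36050 : act 4 n11134 = n10113 := d23_1 D11134 (iv D10113) (iv F31003)
theorem F36051 : act 7 n11134 = n10282 := d27_2 (iv F31005) D11134 F33166 F32496 (iv D10110)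
def n11135 : Q := act 5 n9695
theorem D11135 : act 5 n9695 = n11135 := rfl
theorem F36052 : act 0 n11135 = n9789 := d4_1 D11135 (iv D9789) (iv F31006)
theorem F36053 : act 3 n11135 = n9696 := d19_1 D11135 (iv D9696) (iv F31008)
theorem F36054 : act 4 n11135 = n10120 := d22_1 D11135 (iv D10120) (iv F31009)
theorem F36055 : act 6 n11135 = n10601 := d25_2 D9695 D11135 (iv D10601) (iv D9082) (iv F25717)
theorem F36056 : act 7 n11135 = n10280 := d26_2 (iv F31010) D11135 F33161
def n11136 : Q := act 1 n9696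
theorem D11136 : act 1 n9696 = n11136 := rfl
theorem F36057 : act 2 n11136 = n9833 := d7_2 (iv F31012) D11136 (iv F31920) F31921 (iv D9714)
theorem F36058 : act 4 n11136 = n9705 := d9_2 (iv F31013) D11136 (iv D9705)
theorem F36059 : act 5 n11136 = n11136 := d10_2 D9696 D11136 (iv D11136) (iv D9696) F25721
theorem F36060 : act 6 n11136 = n9842 := d11_2 F36038 D11136 (iv F36034)
theorem F36061 : act 7 n11136 = n10277 := d12_2 (iv F31014) D11136 (iv D10277)
theorem F36062 : act 0 n9834 = n11136 := d5_3 F36060 F31486 (iv F31473)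
def n11137 : Q := act 5 n9697
theorem D11137 : act 5 n9697 = n11137 := rfl
theorem F36063 : act 0 n11137 = n9992 := d4_1 D11137 (iv D9992) (iv F31015)
theorem F36064 : act 2 n11137 = n9911 := d15_1 D11137 F31720 (iv F31017)
theorem F36065 : act 3 n11137 = n9990 := d19_1 D11137 (iv D9990) (iv F31018)
theorem F36066 : act 4 n11137 = n9860 := d22_1 D11137 (iv F31545) (iv F31019)
theorem F36067 : act 6 n11137 = n11137 := d25_2 D9697 D11137 (iv D11137) (iv D9697) F25735
theorem F36068 : act 7 n11137 = n10772 := d26_2 F33329 D11137 F34796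
theorem F36069 : act 1 n11137 = n9857 := d29_6 F17642 (iv F20315) (iv F25731) F25735 D9697 D11137 (iv D9857) (iv F31526) F31561 F31559 (iv F31491) F31490 (iv F31262) (iv D9768) F25979 F20599 F15517 F11275 (iv D2606) F5532 (iv F5520) (iv F7986) F8836 (iv D2833) (iv F8759) F8757 (iv F9100) (iv F12910) D5629
def n11138 : Q := act 5 n9698
theorem D11138 : act 5 n9698 = n11138 := rfl
theorem F36070 : act 0 n11138 = n9800 := d4_1 D11138 (iv D9800) (iv F31020)
theorem F36071 : act 2 n11138 = n9989 := d15_1 D11138 (iv D9989) (iv F31022)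
theorem F36072 : act 3 n11138 = n9699 := d19_1 D11138 (iv D9699) (iv F31023)
theorem F36073 : act 4 n11138 = n10441 := d22_1 D11138 (iv D10441) (iv F31024)
theorem F36074 : act 6 n11138 = n9703 := d25_2 D9698 D11138 (iv D9703) (iv D8110) (iv F25740)
def n11139 : Q := act 1 n9699
theorem D11139 : act 1 n9699 = n11139 := rfl
theorem F36075 : act 2 n11139 = n9826 := d7_2 (iv F31026) D11139 (iv F31915) F31916 (iv D9715)
theorem F36076 : act 4 n11139 = n9842 := d9_2 F36037 D11139 (iv F36034)
theorem F36077 : act 5 n11139 = n9857 := d10_2 D9699 D11139 (iv F36069) (iv D11137) F31016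
theorem F36078 : act 6 n11139 = n9705 := d11_2 (iv F31027) D11139 (iv D9705)
theorem F36079 : act 7 n11139 = n10768 := d12_2 F33338 D11139 F34783
theorem F36080 : act 0 n9827 = n11139 := d6_3 F36079 F34782 (iv F31449)
def n11140 : Q := act 6 n9700
theorem D11140 : act 6 n9700 = n11140 := rfl
theorem F36081 : act 0 n11140 = n9803 := d5_1 D11140 (iv D9803) (iv F31028)
theorem F36082 : act 1 n11140 = n9977 := d11_1 D11140 (iv D9977) (iv F31029)
theorem F36083 : act 2 n11140 = n9702 := d16_1 D11140 (iv D9702) (iv F31030)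
theorem F36084 : act 4 n11140 = n9701 := d23_1 D11140 (iv D9701) D9700
def n11141 : Q := act 5 n9701
theorem D11141 : act 5 n9701 = n11141 := rfl
theorem F36085 : act 0 n11141 = n9804 := d4_1 D11141 (iv D9804) (iv F31033)
theorem F36086 : act 2 n11141 = n9703 := d15_1 D11141 (iv D9703) (iv F31035)
theorem F36087 : act 3 n11141 = n9718 := d19_1 D11141 (iv D9718) (iv F31036)
theorem F36088 : act 6 n11141 = n9989 := d25_2 D9701 D11141 (iv D9989) (iv D8408) (iv F25746)
def n11142 : Q := act 7 n9701
theorem D11142 : act 7 n9701 = n11142 := rfl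
theorem F36089 : act 0 n11142 = n9805 := d6_1 D11142 (iv D9805) (iv F31033)
theorem F36090 : act 1 n11142 = n9979 := d12_1 D11142 (iv D9979) (iv F31034)
theorem F36091 : act 2 n11142 = n9704 := d17_1 D11142 (iv D9704) (iv F31035)
theorem F36092 : act 3 n11142 = n10722 := d21_1 D11142 F34637 (iv D9936) F26568 (iv F31036)
theorem F36093 : act 6 n11142 = n10144 := d27_1 D11142 (iv D10144) (iv D8595) (iv F25747) D9701
def n11143 : Q := act 5 n9702
theorem D11143 : act 5 n9702 = n11143 := rfl
theorem F36094 : act 0 n11143 = n9806 := d4_1 D11143 (iv D9806) (iv F31037)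
theorem F36095 : act 3 n11143 = n10120 := d19_1 D11143 (iv D10120) (iv F31039)
theorem F36096 : act 4 n11143 = n9703 := d22_1 D11143 (iv D9703) (iv F31040)
theorem F36097 : act 6 n11143 = n10441 := d25_2 D9702 D11143 (iv D10441) (iv D8890) (iv F25752)
def n11144 : Q := act 1 n9703
theorem D11144 : act 1 n9703 = n11144 := rfl
theorem F36098 : act 3 n11144 = n9705 := d8_2 (iv F31042) D11144 (iv D9705)
theorem F36099 : act 5 n11144 = n11144 := d10_2 D9703 D11144 (iv D11144) (iv D9703) F25755
def n11145 : Q := act 7 n9703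
theorem D11145 : act 7 n9703 = n11145 := rfl
theorem F36100 : act 0 n11145 = n9808 := d6_1 D11145 (iv D9808) (iv F31041)
theorem F36101 : act 3 n11145 = n10720 := d21_1 D11145 (iv D10720) F29408 F26677 (iv F31042)
theorem F36102 : act 5 n11145 = n9704 := d26_1 D11145 (iv D9704) D9703
def n11146 : Q := act 0 n9705
theorem D11146 : act 0 n9705 = n11146 := rfl
theorem F36103 : act 1 n11146 = n9809 := d0_2 D9705 D11146 (iv D9809) (iv D8217) (iv F25757)
theorem F36104 : act 4 n11146 = n9834 := d3_2 F36058 D11146 F36062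
theorem F36105 : act 5 n11146 = n11146 := d4_2 F31047 D11146 (iv D11146)
theorem F36106 : act 6 n11146 = n9827 := d5_2 F36078 D11146 F36080
theorem F36107 : act 2 n9819 = n11146 := d16_3 F36106 (iv D9827) (iv F31427)
def n11147 : Q := act 2 n9705
theorem D11147 : act 2 n9705 = n11147 := rfl
theorem F36108 : act 0 n11147 = n9819 := d1_1 D11147 F36107 (iv D11146)
theorem F36109 : act 1 n11147 = n9720 := d7_1 D11147 (iv D9720) (iv D8123) (iv F25758) D9705
theorem F36110 : act 4 n11147 = n9833 := d14_2 F36058 D11147 (iv F36057)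
theorem F36111 : act 5 n11147 = n11147 := d15_2 F31047 D11147 (iv D11147)
theorem F36112 : act 6 n11147 = n9826 := d16_2 F36078 D11147 (iv F36075)
def n11148 : Q := act 6 n9706
theorem D11148 : act 6 n9706 = n11148 := rfl
theorem F36113 : act 0 n11148 = n9815 := d5_1 D11148 (iv D9815) (iv F31048)
theorem F36114 : act 1 n11148 = n11148 := d11_1 D11148 (iv D11148) F31049
theorem F36115 : act 2 n11148 = n9707 := d16_1 D11148 (iv D9707) D9706
theorem F36116 : act 3 n11148 = n10597 := d20_1 D11148 (iv D10597) (iv F31050)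
theorem F36117 : act 7 n10952 = n11148 := d30_29 (iv D11148) F31051 D9709 F31059 F25798 F25801 F25800 (iv F30601) (iv F32353) F32354 (iv F32345) (iv F34277) F34276 (iv D9548) F24915 F19503 (iv F19517) D7902 F24951 F20119 F20117 (iv F25594) (iv F25596) D8975 (iv F28997) F28996 (iv F30176) F30177 (iv F35339)
def n11149 : Q := act 5 n9707
theorem D11149 : act 5 n9707 = n11149 := rfl
theorem F36118 : act 0 n11149 = n9817 := d4_1 D11149 (iv D9817) (iv F31053)
theorem F36119 : act 3 n11149 = n9708 := d19_1 D11149 (iv D9708) (iv F31054)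
theorem F36120 : act 6 n11149 = n9713 := d25_2 D9707 D11149 (iv D9713) (iv D8116) (iv F25760)
def n11150 : Q := act 7 n9707
theorem D11150 : act 7 n9707 = n11150 := rfl
theorem F36121 : act 0 n11150 = n9818 := d6_1 D11150 (iv D9818) (iv F31053)
theorem F36122 : act 1 n11150 = n10682 := d12_1 D11150 (iv F34519) F34515
theorem F36123 : act 2 n11150 = n10952 := d17_1 D11150 F36117 F36115
theorem F36124 : act 3 n11150 = n11099 := d21_1 D11150 F35890 F33290 F28064 (iv F31054)
theorem F36125 : act 4 n11150 = n10172 := d24_1 D11150 (iv F33370) F33368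
theorem F36126 : act 6 n11150 = n11150 := d27_1 D11150 (iv D11150) (iv D9707) F25761 D9707
def n11151 : Q := act 3 n9710
theorem D11151 : act 3 n9710 = n11151 := rfl
theorem F36127 : act 0 n11151 = n9820 := d2_1 D11151 (iv D9820) (iv F31063)
theorem F36128 : act 1 n11151 = n10662 := d8_1 D11151 F34405 F32480
theorem F36129 : act 2 n11151 = n9716 := d13_1 D11151 (iv D9716) F25781 (iv F25768) (iv F31064)
theorem F36130 : act 4 n11151 = n10112 := d18_2 D9710 D11151 (iv D10112) (iv F31003) F31002
theorem F36131 : act 5 n11151 = n10026 := d19_2 F33421 D11151 (iv F33419)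
theorem F36132 : act 7 n11151 = n10114 := d30_5 (iv F21227) F21226 (iv F25767) (iv F31064) D11151 F32514 F29185 F24365 F19099 (iv F20839) (iv F20966) F20965 (iv D6676) (iv F20940) (iv F26334) F26335 (iv F24516) (iv D7753) (iv F24508) (iv F29896) F29897 F25285 F23254 F23253 F19739 F14762 F10648 D4781 (iv F19718)
theorem F36133 : act 6 n10661 = n11151 := d27_5 F36132 F32514 (iv D9147) (iv F29145) D10661
def n11152 : Q := act 6 n9710
theorem D11152 : act 6 n9710 = n11152 := rfl
theorem F36134 : act 0 n11152 = n9821 := d5_1 D11152 (iv D9821) (iv F31063)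
theorem F36135 : act 1 n11152 = n10656 := d11_1 D11152 (iv F34386) F32480
theorem F36136 : act 2 n11152 = n9712 := d16_1 D11152 (iv D9712) (iv F31064)
theorem F36137 : act 3 n11152 = n10661 := d20_1 D11152 F36133 (iv D11151)
theorem F36138 : act 4 n11152 = n9711 := d23_1 D11152 (iv D9711) D9710
theorem F36139 : act 7 n10655 = n11152 := d24_0 F36138 (iv F31069) (iv F34378)
def n11153 : Q := act 5 n9711
theorem D11153 : act 5 n9711 = n11153 := rfl
theorem F36140 : act 0 n11153 = n9822 := d4_1 D11153 (iv D9822) (iv F31066)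
theorem F36141 : act 2 n11153 = n9713 := d15_1 D11153 (iv D9713) (iv F31068)
theorem F36142 : act 7 n11153 = n11084 := d26_2 F31069 D11153 (iv D11084)
def n11154 : Q := act 5 n9712
theorem D11154 : act 5 n9712 = n11154 := rfl
theorem F36143 : act 0 n11154 = n9823 := d4_1 D11154 (iv D9823) (iv F31070)
theorem F36144 : act 3 n11154 = n9719 := d19_1 D11154 (iv D9719) (iv F31072)
theorem F36145 : act 4 n11154 = n9713 := d22_1 D11154 (iv D9713) (iv F31073)
theorem F36146 : act 7 n11154 = n11085 := d26_2 F31074 D11154 (iv D11085)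
def n11155 : Q := act 1 n9713
theorem D11155 : act 1 n9713 = n11155 := rfl
theorem F36147 : act 3 n11155 = n9714 := d8_2 (iv F31076) D11155 (iv D9714)
theorem F36148 : act 5 n11155 = n9721 := d10_2 D9713 D11155 (iv D9721) (iv D8127) (iv F25771)
theorem F36149 : act 7 n11155 = n11081 := d12_2 (iv F31077) D11155 F35814
def n11156 : Q := act 6 n9716
theorem D11156 : act 6 n9716 = n11156 := rfl
theorem F36150 : act 0 n11156 = n9836 := d5_1 D11156 (iv D9836) (iv F31082)
theorem F36151 : act 1 n11156 = n9835 := d11_1 D11156 F31477 (iv F31083)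
theorem F36152 : act 2 n11156 = n10661 := d16_1 D11156 F36133 F36129
theorem F36153 : act 3 n11156 = n9717 := d20_1 D11156 (iv D9717) D9716
theorem F36154 : act 7 n11156 = n10660 := d27_2 F31990 D11156 F34401 D10674 F34459
theorem F36155 : act 5 n11156 = n9838 := d29_5 (iv F21549) F21548 D8447 (iv F31084) D11156 (iv D9838) F26191 F20796 (iv F20526) (iv F25904) (iv F29372) (iv F34070) F34073 F33500 F28220 F22923 F17748 F17699 (iv F17124) F12677 F8948 (iv F7903) D3652 (iv F15408) (iv D4972) F11156 (iv F15405) (iv F20467) (iv F20470)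
def n11157 : Q := act 5 n9717
theorem D11157 : act 5 n9717 = n11157 := rfl
theorem F36156 : act 0 n11157 = n9837 := d4_1 D11157 (iv D9837) (iv F31085)
theorem F36157 : act 1 n11157 = n9804 := d10_1 D11157 (iv D9804) F26120 D8438 (iv F31086)
theorem F36158 : act 2 n11157 = n9719 := d15_1 D11157 (iv D9719) (iv F31087)
theorem F36159 : act 3 n11157 = n9838 := d19_1 D11157 (iv F36155) F36153
theorem F36160 : act 4 n11157 = n9718 := d22_1 D11157 (iv D9718) (iv F31088)
theorem F36161 : act 6 n11157 = n10029 := d25_2 D9717 D11157 F32168 F26897 (iv F25782)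
def n11158 : Q := act 1 n9718
theorem D11158 : act 1 n9718 = n11158 := rfl
theorem F36162 : act 2 n11158 = n9806 := d7_2 (iv F31090) D11158 (iv F31814) F31815 F26563
theorem F36163 : act 4 n11158 = n9804 := d9_2 F36160 D11158 (iv F36157)
theorem F36164 : act 5 n11158 = n9803 := d10_2 D9718 D11158 F31383 F26850 (iv F25785)
theorem F36165 : act 6 n11158 = n10027 := d11_2 (iv F31091) D11158 F32159
def n11159 : Q := act 3 n9720
theorem D11159 : act 3 n9720 = n11159 := rfl
theorem F36166 : act 5 n11159 = n9722 := d19_2 (iv F31094) D11159 (iv D9722)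
def n11160 : Q := act 6 n9726
theorem D11160 : act 6 n9726 = n11160 := rfl
theorem F36167 : act 0 n11160 = n9921 := d5_1 D11160 (iv D9921) (iv F31110)
theorem F36168 : act 3 n11160 = n9727 := d20_1 D11160 (iv D9727) D9726
theorem F36169 : act 5 n11160 = n11160 := d25_1 D11160 (iv D11160) F31111 F25833 (iv F31111)
def n11161 : Q := act 4 n9730
theorem D11161 : act 4 n9730 = n11161 := rfl
theorem F36170 : act 0 n11161 = n10715 := d3_1 D11161 (iv D10715) (iv F31125)
theorem F36171 : act 2 n11161 = n9937 := d14_1 D11161 (iv D9937) (iv F31126)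
theorem F36172 : act 3 n11161 = n10714 := d18_1 D11161 (iv D10714) (iv D9207) (iv F25866) D9730
theorem F36173 : act 5 n11161 = n10199 := d22_2 (iv F31127) D11161 (iv D10199)
theorem F36174 : act 7 n11161 = n10271 := d24_2 (iv F31128) D11161 (iv D10271)
def n11162 : Q := act 2 n9731
theorem D11162 : act 2 n9731 = n11162 := rfl
theorem F36175 : act 0 n11162 = n9971 := d1_1 D11162 (iv D9971) (iv F31129)
theorem F36176 : act 3 n11162 = n11092 := d13_2 D9731 D11162 F35853 F30667 (iv F25869)
theorem F36177 : act 4 n11162 = n10343 := d14_2 F34759 D11162 F34762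
theorem F36178 : act 5 n11162 = n9733 := d15_2 (iv F31130) D11162 (iv D9733)
theorem F36179 : act 7 n11162 = n9960 := d17_2 (iv F31131) D11162 (iv D9960)
theorem F36180 : act 1 n10342 = n11162 := d12_3 F36179 F31912 (iv F33341)
def n11163 : Q := act 6 n9731
theorem D11163 : act 6 n9731 = n11163 := rfl
theorem F36181 : act 0 n11163 = n9970 := d5_1 D11163 F31959 (iv F31129)
theorem F36182 : act 3 n11163 = n9732 := d20_1 D11163 (iv D9732) D9731
theorem F36183 : act 5 n11163 = n11163 := d25_1 D11163 (iv D11163) F31130 F25874 (iv F31130)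
def n11164 : Q := act 4 n9734
theorem D11164 : act 4 n9734 = n11164 := rfl
theorem F36184 : act 1 n11164 = n10287 := d9_1 D11164 (iv D10287) (iv F31142)
theorem F36185 : act 2 n11164 = n10465 := d14_1 D11164 (iv D10465) (iv F31143)
theorem F36186 : act 3 n11164 = n10295 := d18_1 D11164 (iv D10295) (iv D8760) (iv F25884) D9734
theorem F36187 : act 5 n11164 = n9796 := d22_2 (iv F31144) D11164 (iv D9796)
theorem F36188 : act 7 n11164 = n10217 := d24_2 (iv F31145) D11164 (iv D10217)
def n11165 : Q := act 5 n9735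
theorem D11165 : act 5 n9735 = n11165 := rfl
theorem F36189 : act 0 n11165 = n10739 := d4_1 D11165 F34687 (iv F31146)
theorem F36190 : act 2 n11165 = n9739 := d15_1 D11165 (iv D9739) (iv F31148)
theorem F36191 : act 4 n11165 = n10297 := d22_1 D11165 (iv D10297) (iv F31149)
theorem F36192 : act 6 n11165 = n9798 := d25_2 D9735 D11165 (iv D9798) (iv D8208) (iv F25885)
theorem F36193 : act 7 n11165 = n9736 := d26_2 (iv F31150) D11165 (iv D9736)
def n11166 : Q := act 1 n9736
theorem D11166 : act 1 n9736 = n11166 := rfl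
theorem F36194 : act 3 n11166 = n10433 := d8_2 (iv F31153) D11166 (iv D10433)
theorem F36195 : act 4 n11166 = n10298 := d9_2 (iv F31154) D11166 (iv D10298)
theorem F36196 : act 5 n11166 = n10290 := d10_2 D9736 D11166 (iv D10290) (iv D8757) (iv F25887)
theorem F36197 : act 6 n11166 = n9738 := d11_2 (iv F31155) D11166 (iv D9738)
def n11167 : Q := act 0 n9738
theorem D11167 : act 0 n9738 = n11167 := rfl
theorem F36198 : act 4 n11167 = n10508 := d3_2 (iv F31160) D11167 (iv D10508)
theorem F36199 : act 5 n11167 = n9997 := d4_2 (iv F31161) D11167 (iv D9997)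
theorem F36200 : act 7 n11167 = n9809 := d6_2 (iv F31162) D11167 (iv D9809)
def n11168 : Q := act 2 n9738
theorem D11168 : act 2 n9738 = n11168 := rfl
theorem F36201 : act 1 n11168 = n9744 := d7_1 D11168 (iv D9744) (iv D8155) (iv F25895) D9738
theorem F36202 : act 4 n11168 = n10509 := d14_2 (iv F31160) D11168 (iv D10509)
theorem F36203 : act 5 n11168 = n9998 := d15_2 (iv F31161) D11168 (iv D9998)
theorem F36204 : act 7 n11168 = n9810 := d17_2 (iv F31162) D11168 (iv D9810)
def n11169 : Q := act 1 n9739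
theorem D11169 : act 1 n9739 = n11169 := rfl
theorem F36205 : act 3 n11169 = n10476 := d8_2 (iv F31163) D11169 (iv D10476)
theorem F36206 : act 4 n11169 = n10647 := d9_2 (iv F31164) D11169 (iv D10647)
theorem F36207 : act 5 n11169 = n10639 := d10_2 D9739 D11169 (iv D10639) (iv D9117) (iv F25898)
theorem F36208 : act 6 n11169 = n9828 := d11_2 (iv F31165) D11169 (iv D9828)
theorem F36209 : act 7 n11169 = n9740 := d12_2 (iv F31166) D11169 (iv D9740)
def n11170 : Q := act 0 n9740
theorem D11170 : act 0 n9740 = n11170 := rfl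
theorem F36210 : act 1 n11170 = n11163 := d0_2 D9740 D11170 F36181 (iv D9970) F26682
theorem F36211 : act 3 n11170 = n9777 := d2_2 F34533 D11170 F34538
theorem F36212 : act 4 n11170 = n10649 := d3_2 (iv F31167) D11170 (iv D10649)
theorem F36213 : act 5 n11170 = n10054 := d4_2 (iv F31168) D11170 F32243
theorem F36214 : act 6 n11170 = n9743 := d5_2 (iv F31169) D11170 (iv D9743)
def n11171 : Q := act 2 n9740
theorem D11171 : act 2 n9740 = n11171 := rfl
theorem F36215 : act 4 n11171 = n10650 := d14_2 (iv F31167) D11171 (iv D10650)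
theorem F36216 : act 5 n11171 = n10640 := d15_2 (iv F31168) D11171 (iv D10640)
theorem F36217 : act 6 n11171 = n9744 := d16_2 (iv F31169) D11171 (iv D9744)
def n11172 : Q := act 2 n9741
theorem D11172 : act 2 n9741 = n11172 := rfl
theorem F36218 : act 0 n11172 = n9775 := d1_1 D11172 F31289 (iv F31170)
theorem F36219 : act 5 n11172 = n9747 := d15_2 (iv F31172) D11172 (iv D9747)
theorem F36220 : act 7 n11172 = n9771 := d17_2 F31173 D11172 F31272
def n11173 : Q := act 2 n9743
theorem D11173 : act 2 n9743 = n11173 := rfl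
theorem F36221 : act 0 n11173 = n9744 := d1_1 D11173 (iv D9744) D9743
theorem F36222 : act 4 n11173 = n10768 := d14_2 (iv F31181) D11173 (iv D10768)
theorem F36223 : act 5 n11173 = n9748 := d15_2 (iv F31182) D11173 (iv D9748)
theorem F36224 : act 7 n11173 = n9842 := d17_2 (iv F31183) D11173 (iv D9842)
def n11174 : Q := act 3 n9744
theorem D11174 : act 3 n9744 = n11174 := rfl
theorem F36225 : act 5 n11174 = n9749 := d19_2 (iv F31185) D11174 (iv D9749)
def n11175 : Q := act 7 n9745
theorem D11175 : act 7 n9745 = n11175 := rfl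
theorem F36226 : act 0 n11175 = n10376 := d6_1 D11175 (iv D10376) (iv F31187)
theorem F36227 : act 1 n11175 = n9770 := d12_1 D11175 (iv F34851) F34847
theorem F36228 : act 2 n11175 = n10398 := d17_1 D11175 (iv D10398) (iv F31188)
theorem F36229 : act 3 n11175 = n10346 := d21_1 D11175 F33355 F32160 (iv D10006) (iv F31189)
theorem F36230 : act 5 n11175 = n9746 := d26_1 D11175 (iv D9746) D9745
theorem F36231 : act 6 n10314 = n11175 := d20_0 F36229 F33354 (iv F33251)
def n11176 : Q := act 3 n9747
theorem D11176 : act 3 n9747 = n11176 := rfl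
theorem F36232 : act 0 n11176 = n9776 := d2_1 D11176 (iv D9776) (iv F31195)
theorem F36233 : act 1 n11176 = n10304 := d8_1 D11176 F33227 (iv F31196)
theorem F36234 : act 2 n11176 = n9749 := d13_1 D11176 (iv D9749) (iv D8160) (iv F25921) D9747
theorem F36235 : act 6 n11176 = n10036 := d20_2 (iv F31197) D11176 (iv D10036)
theorem F36236 : act 7 n11176 = n10296 := d21_2 (iv F31198) D11176 F33212 F27995 (iv F26023)
def n11177 : Q := act 3 n9748
theorem D11177 : act 3 n9748 = n11177 := rfl
theorem F36237 : act 0 n11177 = n9749 := d2_1 D11177 (iv D9749) (iv F31199)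
theorem F36238 : act 2 n11177 = n9776 := d13_1 D11177 (iv D9776) F26033 (iv F25925) D9748
theorem F36239 : act 6 n11177 = n10051 := d20_2 (iv F31201) D11177 F32238
def n11178 : Q := act 4 n9749
theorem D11178 : act 4 n9749 = n11178 := rfl
theorem F36240 : act 1 n11178 = n10011 := d9_1 D11178 (iv D10011) (iv F31203)
theorem F36241 : act 3 n11178 = n10774 := d18_1 D11178 (iv D10774) (iv D9286) (iv F25930) D9749
theorem F36242 : act 6 n11178 = n10761 := d23_2 (iv F31204) D11178 (iv D10761)
def n11179 : Q := act 7 n9749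
theorem D11179 : act 7 n9749 = n11179 := rfl
theorem F36243 : act 1 n11179 = n10012 := d12_1 D11179 (iv D10012) (iv F31203)
theorem F36244 : act 2 n11179 = n10296 := d17_1 D11179 (iv F36236) F36234
theorem F36245 : act 3 n11179 = n9863 := d21_1 D11179 (iv D9863) (iv D8264) (iv F25932) D9749
theorem F36246 : act 6 n10294 = n11179 := d20_0 F36245 (iv F31556) (iv F33209)
def n11180 : Q := act 1 n9750
theorem D11180 : act 1 n9750 = n11180 := rfl
theorem F36247 : act 0 n11180 = n9767 := d0_1 D11180 F31257 (iv F28341) F28342 (iv F31205)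
theorem F36248 : act 3 n11180 = n9752 := d8_2 (iv F31207) D11180 F31216
theorem F36249 : act 4 n11180 = n10792 := d9_2 (iv F31208) D11180 F34847
theorem F36250 : act 5 n11180 = n9753 := d10_2 D9750 D11180 F31219 F25946 (iv F25934)
theorem F36251 : act 6 n11180 = n10353 := d11_2 (iv F31209) D11180 (iv D10353)
theorem F36252 : act 7 n9766 = n11180 := d26_0 F36250 F31220 (iv F31256)
def n11181 : Q := act 7 n9750
theorem D11181 : act 7 n9750 = n11181 := rfl
theorem F36253 : act 0 n11181 = n9752 := d6_1 D11181 (iv D9752) (iv F31205)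
theorem F36254 : act 1 n11181 = n9766 := d12_1 D11181 F36252 (iv D11180)
theorem F36255 : act 2 n11181 = n10389 := d17_1 D11181 (iv D10389) (iv F31206)
theorem F36256 : act 3 n11181 = n9767 := d21_1 D11181 (iv D9767) (iv F28344) F28345 (iv F31207)
theorem F36257 : act 4 n11181 = n11175 := d24_1 D11181 (iv D11175) (iv F31208)
theorem F36258 : act 5 n11181 = n9751 := d26_1 D11181 (iv D9751) D9750
def n11182 : Q := act 6 n9752
theorem D11182 : act 6 n9752 = n11182 := rfl
theorem F36259 : act 1 n11182 = n9756 := d11_1 D11182 F31233 (iv F31216)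
theorem F36260 : act 3 n11182 = n10353 := d20_1 D11182 (iv F36251) F36248
theorem F36261 : act 5 n11182 = n10314 := d25_1 D11182 F36231 F36230 F31194 (iv F31217)
def n11183 : Q := act 5 n9754
theorem D11183 : act 5 n9754 = n11183 := rfl
theorem F36262 : act 0 n11183 = n9760 := d4_1 D11183 (iv D9760) (iv F31222)
theorem F36263 : act 2 n11183 = n10239 := d15_1 D11183 (iv D10239) (iv F31224)
theorem F36264 : act 4 n11183 = n9756 := d22_1 D11183 (iv D9756) (iv F31225)
theorem F36265 : act 6 n11183 = n9755 := d25_2 D9754 D11183 (iv D9755) (iv D8167) D8166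
def n11184 : Q := act 7 n9754
theorem D11184 : act 7 n9754 = n11184 := rfl
theorem F36266 : act 0 n11184 = n9761 := d6_1 D11184 (iv D9761) (iv F31222)
theorem F36267 : act 1 n11184 = n10313 := d12_1 D11184 (iv D10313) (iv F31223)
theorem F36268 : act 2 n11184 = n10240 := d17_1 D11184 (iv D10240) (iv F31224)
theorem F36269 : act 4 n11184 = n9757 := d24_1 D11184 (iv D9757) (iv F31225)
theorem F36270 : act 6 n11184 = n10017 := d27_1 D11184 (iv D10017) (iv D8437) (iv F25953) D9754
def n11185 : Q := act 7 n9756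
theorem D11185 : act 7 n9756 = n11185 := rfl
theorem F36271 : act 0 n11185 = n9764 := d6_1 D11185 (iv D9764) (iv F31230)
theorem F36272 : act 2 n11185 = n10243 := d17_1 D11185 (iv D10243) (iv F31231)
theorem F36273 : act 5 n11185 = n9757 := d26_1 D11185 (iv D9757) D9756
def n11186 : Q := act 3 n9757
theorem D11186 : act 3 n9757 = n11186 := rfl
theorem F36274 : act 0 n11186 = n9765 := d2_1 D11186 (iv D9765) (iv F31234)
theorem F36275 : act 1 n11186 = n10316 := d8_1 D11186 (iv D10316) (iv F31235)
theorem F36276 : act 2 n11186 = n10557 := d13_1 D11186 F34054 F34052 F30144 (iv F31236)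
theorem F36277 : act 6 n11186 = n10019 := d20_2 (iv F31237) D11186 (iv D10019)
theorem F36278 : act 7 n11186 = n10355 := d21_2 D9757 D11186 (iv D10355) (iv D8803) (iv F25962)
def n11187 : Q := act 7 n9758
theorem D11187 : act 7 n9758 = n11187 := rfl
theorem F36279 : act 1 n11187 = n9830 := d12_1 D11187 (iv F32696) F32692
theorem F36280 : act 3 n11187 = n10029 := d21_1 D11187 (iv F32169) F29626 (iv F25971) (iv F31238)
theorem F36281 : act 5 n11187 = n9759 := d26_1 D11187 (iv D9759) D9758
theorem F36282 : act 6 n11187 = n9838 := d30_6 F22516 (iv F27793) (iv D8707) (iv F25969) (iv F31238) D11187 (iv F36155) F36151 F31475 F26250 F25648 F25647 F20224 (iv D4894) F10929 (iv F13348) D5765 (iv F22638) F22637 (iv F23066) (iv F23567) (iv F24529) (iv F29933) (iv D9385) F24526 (iv F29350) (iv D9193) F24043 (iv F22517)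
def n11188 : Q := act 7 n9760
theorem D11188 : act 7 n9760 = n11188 := rfl
theorem F36283 : act 2 n11188 = n10250 := d17_1 D11188 (iv D10250) (iv F31242)
theorem F36284 : act 4 n11188 = n9764 := d24_1 D11188 (iv D9764) (iv F31243)
theorem F36285 : act 5 n11188 = n9761 := d26_1 D11188 (iv D9761) D9760
theorem F36286 : act 6 n11188 = n10790 := d27_1 D11188 (iv D10790) F29706 (iv F25971) (iv F31244)
def n11189 : Q := act 3 n9761
theorem D11189 : act 3 n9761 = n11189 := rfl
theorem F36287 : act 6 n11189 = n10020 := d20_2 (iv F31247) D11189 (iv D10020)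
theorem F36288 : act 7 n11189 = n10771 := d21_2 D9761 D11189 (iv D10771) F29652 F26212
theorem F36289 : act 2 n10775 = n11189 := d30_3 (iv F34215) F33917 (iv F34802) (iv D11189) (iv D9761) (iv D8171) (iv D6559) F15501 F11262 F7900 F7901 (iv F5754) (iv F5745) (iv F8341) D3856 F11939 (iv F13266) (iv F14979) (iv F19979) (iv F23335) F23336 D8014 F25355 F24647 F23801 (iv F25512) (iv F30892) (iv F33937) (iv F34214)
def n11190 : Q := act 7 n9763
theorem D11190 : act 7 n9763 = n11190 := rfl
theorem F36290 : act 1 n11190 = n9764 := d12_1 D11190 (iv D9764) D9763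
def n11191 : Q := act 3 n9764
theorem D11191 : act 3 n9764 = n11191 := rfl
theorem F36291 : act 5 n11191 = n9765 := d19_2 (iv F31253) D11191 (iv D9765)
def n11192 : Q := act 6 n9764
theorem D11192 : act 6 n9764 = n11192 := rfl
theorem F36292 : act 2 n11192 = n10256 := d16_1 D11192 (iv D10256) (iv F31252)
theorem F36293 : act 4 n11192 = n10790 := d23_1 D11192 (iv F36286) F36284
theorem F36294 : act 5 n11192 = n10022 := d25_1 D11192 (iv D10022) F26862 (iv F25975) (iv F31253)
theorem F36295 : act 7 n11192 = n9768 := d27_2 D9764 D11192 (iv D9768) (iv D8176) (iv F25973)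
def n11193 : Q := act 4 n9765
theorem D11193 : act 4 n9765 = n11193 := rfl
theorem F36296 : act 6 n11193 = n10024 := d23_2 (iv F31254) D11193 (iv D10024)
def n11194 : Q := act 6 n9767
theorem D11194 : act 6 n9767 = n11194 := rfl
theorem F36297 : act 0 n11194 = n10353 := d5_1 D11194 (iv F36251) F36247
theorem F36298 : act 1 n11194 = n9768 := d11_1 D11194 (iv D9768) (iv F31257)
theorem F36299 : act 4 n11194 = n10789 := d23_1 D11194 F34839 (iv F31258)
theorem F36300 : act 5 n10359 = n11194 := d4_0 F36297 F33381 D10359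
def n11195 : Q := act 5 n9769
theorem D11195 : act 5 n9769 = n11195 := rfl
theorem F36301 : act 0 n11195 = n10346 := d4_1 D11195 F33353 F32162
theorem F36302 : act 1 n11195 = n10004 := d10_1 D11195 (iv D10004) F26818 (iv F26009) (iv F31263)
theorem F36303 : act 3 n11195 = n10376 := d19_1 D11195 F33444 (iv F31264)
theorem F36304 : act 4 n11195 = n10005 := d22_1 D11195 F32101 (iv F31265)
theorem F36305 : act 6 n11195 = n10359 := d25_2 D9769 D11195 F36300 (iv D11194) F31259
def n11196 : Q := act 1 n9771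
theorem D11196 : act 1 n9771 = n11196 := rfl
theorem F36306 : act 3 n11196 = n10298 := d8_2 (iv F31273) D11196 (iv D10298)
theorem F36307 : act 5 n11196 = n10308 := d10_2 D9771 D11196 (iv D10308) (iv D8768) (iv F26021)
theorem F36308 : act 6 n11196 = n10269 := d11_2 (iv F31274) D11196 (iv D10269)
def n11197 : Q := act 1 n9772
theorem D11197 : act 1 n9772 = n11197 := rfl
theorem F36309 : act 3 n11197 = n9774 := d8_2 (iv F31277) D11197 (iv D9774)
theorem F36310 : act 4 n11197 = n10738 := d9_2 (iv F31278) D11197 (iv D10738)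
theorem F36311 : act 5 n11197 = n10191 := d10_2 D9772 D11197 F32821 F27589 (iv F26027)
theorem F36312 : act 6 n11197 = n10277 := d11_2 (iv F31279) D11197 (iv D10277)
def n11198 : Q := act 7 n9772
theorem D11198 : act 7 n9772 = n11198 := rfl
theorem F36313 : act 0 n11198 = n10297 := d6_1 D11198 F33214 (iv F31275)
theorem F36314 : act 2 n11198 = n10644 := d17_1 D11198 F34341 (iv F31276)
theorem F36315 : act 4 n11198 = n10739 := d24_1 D11198 (iv D10739) (iv F31278)
theorem F36316 : act 5 n11198 = n9773 := d26_1 D11198 (iv D9773) D9772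
def n11199 : Q := act 3 n9773
theorem D11199 : act 3 n9773 = n11199 := rfl
theorem F36317 : act 0 n11199 = n10296 := d2_1 D11199 F33212 (iv F31280)
theorem F36318 : act 1 n11199 = n10741 := d8_1 D11199 (iv D10741) (iv F31281)
theorem F36319 : act 6 n11199 = n10293 := d20_2 (iv F31284) D11199 (iv D10293)
theorem F36320 : act 7 n11199 = n9776 := d21_2 D9773 D11199 (iv D9776) (iv D8190) (iv F26029)
def n11200 : Q := act 0 n9774
theorem D11200 : act 0 n9774 = n11200 := rfl
theorem F36321 : act 2 n11200 = n10175 := d1_2 (iv F31285) D11200 (iv D10175)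
theorem F36322 : act 4 n11200 = n10182 := d3_2 (iv F31286) D11200 F32786
theorem F36323 : act 5 n11200 = n10190 := d4_2 (iv F31287) D11200 F32817
theorem F36324 : act 6 n11200 = n10278 := d5_2 (iv F31288) D11200 (iv D10278)
def n11201 : Q := act 3 n9775
theorem D11201 : act 3 n9775 = n11201 := rfl
theorem F36325 : act 5 n11201 = n9776 := d19_2 (iv F31290) D11201 (iv D9776)
def n11202 : Q := act 6 n9775
theorem D11202 : act 6 n9775 = n11202 := rfl
theorem F36326 : act 2 n11202 = n9777 := d16_1 D11202 (iv D9777) (iv F31289)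
theorem F36327 : act 5 n11202 = n10050 := d25_1 D11202 (iv D10050) F26973 (iv F26034) (iv F31290)
theorem F36328 : act 7 n11202 = n10281 := d27_2 D9775 D11202 (iv D10281) (iv D8749) (iv F26032)
def n11203 : Q := act 4 n9776
theorem D11203 : act 4 n9776 = n11203 := rfl
theorem F36329 : act 6 n11203 = n10052 := d23_2 (iv F31291) D11203 (iv D10052)
def n11204 : Q := act 3 n9778
theorem D11204 : act 3 n9778 = n11204 := rfl
theorem F36330 : act 0 n11204 = n10612 := d2_1 D11204 F34236 (iv F31295)
theorem F36331 : act 1 n11204 = n10208 := d8_1 D11204 (iv D10208) (iv F31296)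
theorem F36332 : act 5 n11204 = n9793 := d19_2 (iv F31299) D11204 (iv D9793)
theorem F36333 : act 6 n11204 = n10586 := d20_2 (iv F31300) D11204 (iv D10586)
theorem F36334 : act 7 n11204 = n9783 := d21_2 D9778 D11204 (iv D9783) (iv D8197) (iv F26040)
def n11205 : Q := act 3 n9780
theorem D11205 : act 3 n9780 = n11205 := rfl
theorem F36335 : act 0 n11205 = n10620 := d2_1 D11205 F34257 (iv F31307)
theorem F36336 : act 1 n11205 = n9783 := d8_1 D11205 (iv D9783) (iv F31308)
theorem F36337 : act 5 n11205 = n10216 := d19_2 (iv F31311) D11205 (iv D10216)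
theorem F36338 : act 7 n11205 = n10208 := d21_2 D9780 D11205 (iv D10208) (iv D8659) (iv F26057)
theorem F36339 : act 2 n10710 = n11205 := d15_3 F36337 (iv F32911) D10710
def n11206 : Q := act 6 n9780
theorem D11206 : act 6 n9780 = n11206 := rfl
theorem F36340 : act 0 n11206 = n10045 := d5_1 D11206 F32226 (iv F31307)
theorem F36341 : act 1 n11206 = n9784 := d11_1 D11206 (iv D9784) (iv F31308)
theorem F36342 : act 2 n11206 = n11206 := d16_1 D11206 (iv D11206) F31309
theorem F36343 : act 4 n11206 = n9794 := d23_1 D11206 (iv D9794) (iv F31310)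
theorem F36344 : act 5 n11206 = n10588 := d25_1 D11206 (iv D10588) F28921 (iv F27661) (iv F31311)
theorem F36345 : act 7 n11206 = n9782 := d27_2 D9780 D11206 (iv D9782) (iv D8196) D8195
def n11207 : Q := act 6 n9781
theorem D11207 : act 6 n9781 = n11207 := rfl
theorem F36346 : act 0 n11207 = n10038 := d5_1 D11207 (iv D10038) (iv F31312)
theorem F36347 : act 1 n11207 = n9785 := d11_1 D11207 (iv D9785) (iv F31313)
theorem F36348 : act 2 n11207 = n10984 := d16_1 D11207 (iv D10984) F31317
theorem F36349 : act 3 n11207 = n9782 := d20_1 D11207 (iv D9782) D9781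
theorem F36350 : act 4 n11207 = n10031 := d23_1 D11207 (iv D10031) (iv F31314)
def n11208 : Q := act 5 n9782
theorem D11208 : act 5 n9782 = n11208 := rfl
theorem F36351 : act 0 n11208 = n10044 := d4_1 D11208 (iv D10044) (iv F31318)
theorem F36352 : act 2 n11208 = n11208 := d15_1 D11208 (iv D11208) F31320
theorem F36353 : act 4 n11208 = n9795 := d22_1 D11208 (iv D9795) (iv F31321)
theorem F36354 : act 6 n11208 = n10062 := d25_2 D9782 D11208 (iv D10062) (iv D8483) (iv F26064)
theorem F36355 : act 7 n11208 = n10588 := d26_2 F36345 D11208 (iv F36344)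
theorem F36356 : act 1 n11208 = n10072 := d29_6 F12129 (iv F16532) (iv F21662) (iv F26064) D9782 D11208 (iv D10072) F27080 (iv D8363) (iv F26598) (iv F31845) F31844 (iv D8826) (iv D7214) F17660 (iv D4969) (iv D3620) (iv D2540) (iv D1739) F3743 F2702 F2424 (iv F2261) (iv F3226) F3225 (iv F4710) (iv F6026) (iv F8477) D3918
def n11209 : Q := act 2 n9783
theorem D11209 : act 2 n9783 = n11209 := rfl
theorem F36357 : act 3 n11209 = n9811 := d13_2 D9783 D11209 (iv D9811) (iv D8218) (iv F26065)
theorem F36358 : act 5 n11209 = n10294 := d15_2 (iv F31322) D11209 (iv D10294)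
def n11210 : Q := act 4 n9783
theorem D11210 : act 4 n9783 = n11210 := rfl
theorem F36359 : act 3 n11210 = n9796 := d18_1 D11210 (iv D9796) (iv D8207) (iv F26066) D9783
theorem F36360 : act 5 n11210 = n10295 := d22_2 (iv F31322) D11210 (iv D10295)
def n11211 : Q := act 6 n9783
theorem D11211 : act 6 n9783 = n11211 := rfl
theorem F36361 : act 3 n11211 = n9784 := d20_1 D11211 (iv D9784) D9783
def n11212 : Q := act 5 n9784
theorem D11212 : act 5 n9784 = n11212 := rfl
theorem F36362 : act 2 n11212 = n9813 := d15_1 D11212 (iv D9813) (iv F31323)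
theorem F36363 : act 4 n11212 = n9798 := d22_1 D11212 (iv D9798) (iv F31324)
theorem F36364 : act 6 n11212 = n10297 := d25_2 D9784 D11212 (iv D10297) (iv D8761) (iv F26067)
theorem F36365 : act 7 n11212 = n9786 := d26_2 (iv F31325) D11212 (iv D9786)
def n11213 : Q := act 5 n9785
theorem D11213 : act 5 n9785 = n11213 := rfl
theorem F36366 : act 0 n11213 = n10601 := d4_1 D11213 (iv D10601) (iv F31326)
theorem F36367 : act 2 n11213 = n11102 := d15_1 D11213 (iv D11102) (iv F31327)
theorem F36368 : act 3 n11213 = n9786 := d19_1 D11213 (iv D9786) (iv F31328)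
theorem F36369 : act 4 n11213 = n10581 := d22_1 D11213 (iv D10581) (iv F31329)
theorem F36370 : act 6 n11213 = n9789 := d25_2 D9785 D11213 (iv D9789) (iv D8202) (iv F26069)
def n11214 : Q := act 7 n9785
theorem D11214 : act 7 n9785 = n11214 := rfl
theorem F36371 : act 0 n11214 = n10600 := d6_1 D11214 F34196 (iv F31326)
theorem F36372 : act 2 n11214 = n10524 := d17_1 D11214 F33927 (iv F31327)
theorem F36373 : act 4 n11214 = n10580 := d24_1 D11214 F34120 (iv F31329)
theorem F36374 : act 6 n11214 = n10577 := d27_1 D11214 (iv D10577) (iv D9054) (iv F26070) D9785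
def n11215 : Q := act 1 n9786
theorem D11215 : act 1 n9786 = n11215 := rfl
theorem F36375 : act 0 n11215 = n9810 := d0_1 D11215 F31397 (iv F31486) (iv F36034) F36033
theorem F36376 : act 2 n11215 = n9809 := d7_2 (iv F31330) D11215 (iv F36103) (iv F36107) (iv D9819)
theorem F36377 : act 4 n11215 = n9802 := d9_2 (iv F31331) D11215 (iv D9802)
theorem F36378 : act 5 n11215 = n10072 := d10_2 D9786 D11215 (iv F36356) (iv D11208) F31319
theorem F36379 : act 6 n11215 = n9791 := d11_2 (iv F31332) D11215 (iv D9791)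
def n11216 : Q := act 5 n9787
theorem D11216 : act 5 n9787 = n11216 := rfl
theorem F36380 : act 2 n11216 = n9789 := d15_1 D11216 (iv D9789) (iv F31334)
theorem F36381 : act 3 n11216 = n9822 := d19_1 D11216 (iv D9822) (iv F31335)
theorem F36382 : act 4 n11216 = n11091 := d22_1 D11216 (iv D11091) (iv F31336)
theorem F36383 : act 6 n11216 = n11102 := d25_2 D9787 D11216 (iv D11102) (iv D9631) (iv F26077)
theorem F36384 : act 7 n11216 = n10477 := d26_2 (iv F31337) D11216 F33751
def n11217 : Q := act 5 n9788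
theorem D11217 : act 5 n9788 = n11217 := rfl
theorem F36385 : act 0 n11217 = n10120 := d4_1 D11217 (iv D10120) (iv F31338)
theorem F36386 : act 2 n11217 = n11091 := d15_1 D11217 (iv D11091) (iv F31340)
theorem F36387 : act 3 n11217 = n9806 := d19_1 D11217 (iv D9806) (iv F31341)
theorem F36388 : act 4 n11217 = n9789 := d22_1 D11217 (iv D9789) (iv F31342)
theorem F36389 : act 6 n11217 = n10581 := d25_2 D9788 D11217 (iv D10581) (iv D9057) (iv F26084)
def n11218 : Q := act 1 n9789
theorem D11218 : act 1 n9789 = n11218 := rfl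
theorem F36390 : act 3 n11218 = n9791 := d8_2 (iv F31343) D11218 (iv D9791)
theorem F36391 : act 5 n11218 = n10067 := d10_2 D9789 D11218 (iv D10067) (iv D8488) (iv F26086)
def n11219 : Q := act 7 n9789
theorem D11219 : act 7 n9789 = n11219 := rfl
theorem F36392 : act 0 n11219 = n10280 := d6_1 D11219 (iv F36056) F36052
theorem F36393 : act 2 n11219 = n10477 := d17_1 D11219 (iv F36384) F36380
theorem F36394 : act 3 n11219 = n10270 := d21_1 D11219 (iv D10270) F27913 (iv F26090) (iv F31343)
theorem F36395 : act 5 n11219 = n9790 := d26_1 D11219 (iv D9790) D9789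
def n11220 : Q := act 0 n9791
theorem D11220 : act 0 n9791 = n11220 := rfl
theorem F36396 : act 1 n11220 = n9834 := d0_2 D9791 D11220 F36062 (iv D11136) F31011
theorem F36397 : act 4 n11220 = n9809 := d3_2 (iv F31349) D11220 (iv D9809)
theorem F36398 : act 5 n11220 = n10068 := d4_2 (iv F31350) D11220 (iv D10068)
theorem F36399 : act 6 n11220 = n9810 := d5_2 F36379 D11220 (iv F36375)
theorem F36400 : act 7 n11220 = n10508 := d6_2 (iv F31351) D11220 (iv D10508)
theorem F36401 : act 2 n9802 = n11220 := d16_3 F36399 (iv D9810) (iv F31382)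
def n11221 : Q := act 2 n9791
theorem D11221 : act 2 n9791 = n11221 := rfl
theorem F36402 : act 0 n11221 = n9802 := d1_1 D11221 F36401 (iv D11220)
theorem F36403 : act 1 n11221 = n9827 := d7_1 D11221 (iv D9827) (iv D8229) (iv F26088) D9791
theorem F36404 : act 4 n11221 = n9810 := d14_2 (iv F31349) D11221 (iv D9810)
theorem F36405 : act 5 n11221 = n10069 := d15_2 (iv F31350) D11221 (iv D10069)
theorem F36406 : act 6 n11221 = n9809 := d16_2 F36379 D11221 (iv F36376)
theorem F36407 : act 7 n11221 = n10509 := d17_2 (iv F31351) D11221 (iv D10509)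
def n11222 : Q := act 3 n9792
theorem D11222 : act 3 n9792 = n11222 := rfl
theorem F36408 : act 0 n11222 = n9793 := d2_1 D11222 (iv D9793) (iv F31352)
theorem F36409 : act 5 n11222 = n10612 := d19_2 (iv F31355) D11222 F34236
theorem F36410 : act 6 n11222 = n10046 := d20_2 (iv F31356) D11222 (iv D10046)
theorem F36411 : act 7 n11222 = n10293 := d21_2 D9792 D11222 (iv D10293) (iv D8759) (iv F26093)
def n11223 : Q := act 2 n9793
theorem D11223 : act 2 n9793 = n11223 := rfl
theorem F36412 : act 1 n11223 = n10801 := d7_1 D11223 F34881 F32631 F27408 (iv F31357)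
theorem F36413 : act 3 n11223 = n11223 := d13_2 D9793 D11223 (iv D11223) (iv D9793) F26097
theorem F36414 : act 7 n11223 = n10294 := d17_2 (iv F31358) D11223 (iv D10294)
theorem F36415 : act 6 n10762 = n11223 := d27_5 F36414 F36246 (iv D11179) F31204 D10762
def n11224 : Q := act 4 n9793
theorem D11224 : act 4 n9793 = n11224 := rfl
theorem F36416 : act 1 n11224 = n9796 := d9_1 D11224 (iv D9796) (iv F31357)
theorem F36417 : act 7 n11224 = n10295 := d24_2 (iv F31358) D11224 (iv D10295)
def n11225 : Q := act 6 n9793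
theorem D11225 : act 6 n9793 = n11225 := rfl
theorem F36418 : act 0 n11225 = n10046 := d5_1 D11225 (iv F36410) F36408
theorem F36419 : act 1 n11225 = n9797 := d11_1 D11225 (iv D9797) (iv F31357)
theorem F36420 : act 2 n11225 = n10762 := d16_1 D11225 F36415 (iv D11223)
theorem F36421 : act 3 n11225 = n9794 := d20_1 D11225 (iv D9794) D9793
theorem F36422 : act 7 n11225 = n10036 := d27_2 (iv F31358) D11225 (iv F36235) F36236 (iv D10296)
def n11226 : Q := act 1 n9795
theorem D11226 : act 1 n9795 = n11226 := rfl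
theorem F36423 : act 0 n11226 = n10069 := d0_1 D11226 F32313 (iv F30458) F30459 (iv F31363)
theorem F36424 : act 3 n11226 = n10034 := d8_2 (iv F31365) D11226 (iv D10034)
theorem F36425 : act 4 n11226 = n10072 := d9_2 F36353 D11226 (iv F36356)
theorem F36426 : act 5 n11226 = n9802 := d10_2 D9795 D11226 (iv D9802) (iv D8211) (iv F26099)
theorem F36427 : act 6 n11226 = n10070 := d11_2 (iv F31366) D11226 (iv D10070)
theorem F36428 : act 7 n11226 = n10510 := d12_2 F35750 D11226 (iv F35746)
theorem F36429 : act 2 n11226 = n10068 := d29_7 (iv D3921) (iv F12121) (iv F16544) (iv F20740) D8206 D9795 D11226 F32310 F31904 F28607 F24536 F19231 (iv F14366) (iv D4649) F10310 F7193 F4972 F3444 (iv D1075) F2379 (iv F2275) (iv F2892) F2894 F2895 (iv F3419) (iv F4579) (iv F5837) D2759 (iv F12146)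
def n11227 : Q := act 6 n9796
theorem D11227 : act 6 n9796 = n11227 := rfl
theorem F36430 : act 4 n11227 = n9797 := d23_1 D11227 (iv D9797) D9796
def n11228 : Q := act 5 n9797
theorem D11228 : act 5 n9797 = n11228 := rfl
theorem F36431 : act 3 n11228 = n9798 := d19_1 D11228 (iv D9798) (iv F31368)
def n11229 : Q := act 7 n9797
theorem D11229 : act 7 n9797 = n11229 := rfl
theorem F36432 : act 1 n11229 = n10036 := d12_1 D11229 (iv F36422) F36419
theorem F36433 : act 2 n11229 = n10794 := d17_1 D11229 F34860 F32637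
theorem F36434 : act 3 n11229 = n9801 := d21_1 D11229 (iv D9801) F26113 (iv F26104) (iv F31368)
theorem F36435 : act 6 n11229 = n10304 := d27_1 D11229 (iv D10304) (iv D8765) (iv F26102) D9797
def n11230 : Q := act 1 n9798
theorem D11230 : act 1 n9798 = n11230 := rfl
theorem F36436 : act 0 n11230 = n10509 := d0_1 D11230 F33889 (iv F34782) F34783 F33336
theorem F36437 : act 5 n11230 = n10510 := d10_2 D9798 D11230 (iv F35746) F35749 F31360
theorem F36438 : act 7 n11230 = n9802 := d12_2 (iv F31370) D11230 (iv D9802)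
theorem F36439 : act 2 n11230 = n10508 := d30_3 D8208 D9798 D11230 F35181 (iv D10901) F29941 (iv D7813) F19343 F14462 F10411 D4681 F14472 (iv F15779) F15777 (iv F15769) D6682 F20985 (iv D6545) F15470 F14196 (iv D4469) (iv D3205) (iv D2216) D2215 F6865 (iv F9084) (iv F12871) (iv F15635) D6600
def n11231 : Q := act 5 n9799
theorem D11231 : act 5 n9799 = n11231 := rfl
theorem F36440 : act 0 n11231 = n10441 := d4_1 D11231 (iv D10441) (iv F31371)
theorem F36441 : act 2 n11231 = n10027 := d15_1 D11231 (iv D10027) (iv F31373)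
theorem F36442 : act 3 n11231 = n10581 := d19_1 D11231 (iv D10581) (iv F31374)
theorem F36443 : act 4 n11231 = n9800 := d22_1 D11231 (iv D9800) (iv F31375)
theorem F36444 : act 6 n11231 = n9806 := d25_2 D9799 D11231 (iv D9806) (iv D8214) (iv F26109)
def n11232 : Q := act 7 n9799
theorem D11232 : act 7 n9799 = n11232 := rfl
theorem F36445 : act 0 n11232 = n10440 := d6_1 D11232 F33625 (iv F31371)
theorem F36446 : act 1 n11232 = n10033 := d12_1 D11232 (iv D10033) (iv F31372)
theorem F36447 : act 2 n11232 = n10028 := d17_1 D11232 (iv D10028) (iv F31373)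
theorem F36448 : act 4 n11232 = n9801 := d24_1 D11232 (iv D9801) (iv F31375)
theorem F36449 : act 6 n11232 = n10307 := d27_1 D11232 (iv D10307) (iv D8767) (iv F26110) D9799
def n11233 : Q := act 1 n9800
theorem D11233 : act 1 n9800 = n11233 := rfl
theorem F36450 : act 3 n11233 = n9802 := d8_2 (iv F31377) D11233 (iv D9802)
theorem F36451 : act 5 n11233 = n10034 := d10_2 D9800 D11233 (iv D10034) (iv D8457) (iv F26111)
theorem F36452 : act 6 n11233 = n9807 := d11_2 (iv F31378) D11233 (iv D9807)
def n11234 : Q := act 7 n9800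
theorem D11234 : act 7 n9800 = n11234 := rfl
theorem F36453 : act 2 n11234 = n10030 := d17_1 D11234 (iv D10030) (iv F31376)
theorem F36454 : act 5 n11234 = n9801 := d26_1 D11234 (iv D9801) D9800
def n11235 : Q := act 7 n9804
theorem D11235 : act 7 n9804 = n11235 := rfl
theorem F36455 : act 2 n11235 = n9808 := d17_1 D11235 (iv D9808) (iv F31386)
theorem F36456 : act 5 n11235 = n9805 := d26_1 D11235 (iv D9805) D9804
def n11236 : Q := act 3 n9805
theorem D11236 : act 3 n9805 = n11236 := rfl
theorem F36457 : act 0 n11236 = n10722 := d2_1 D11236 (iv F36092) F36089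
theorem F36458 : act 1 n11236 = n10019 := d8_1 D11236 (iv D10019) (iv F31389)
theorem F36459 : act 2 n11236 = n10413 := d13_1 D11236 (iv D10413) (iv F28699) F28700 (iv F31390)
theorem F36460 : act 6 n11236 = n10316 := d20_2 (iv F31391) D11236 (iv D10316)
theorem F36461 : act 7 n11236 = n9840 := d21_2 D9805 D11236 (iv D9840) (iv D8241) (iv F26122)
def n11237 : Q := act 3 n9810
theorem D11237 : act 3 n9810 = n11237 := rfl
theorem F36462 : act 1 n11237 = n9843 := d8_1 D11237 (iv D9843) (iv F31397)
theorem F36463 : act 5 n11237 = n10073 := d19_2 (iv F31398) D11237 (iv D10073)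
def n11238 : Q := act 5 n9812
theorem D11238 : act 5 n9812 = n11238 := rfl
theorem F36464 : act 3 n11238 = n9813 := d19_1 D11238 (iv D9813) (iv F31402)
theorem F36465 : act 6 n11238 = n10646 := d25_2 D9812 D11238 (iv D10646) (iv D9124) (iv F26130)
def n11239 : Q := act 1 n9813
theorem D11239 : act 1 n9813 = n11239 := rfl
theorem F36466 : act 4 n11239 = n9828 := d9_2 (iv F31403) D11239 (iv D9828)
theorem F36467 : act 5 n11239 = n11239 := d10_2 D9813 D11239 (iv D11239) (iv D9813) F26132
theorem F36468 : act 6 n11239 = n10647 := d11_2 (iv F31404) D11239 (iv D10647)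
theorem F36469 : act 7 n11239 = n9819 := d12_2 (iv F31405) D11239 (iv D9819)
def n11240 : Q := act 6 n9814
theorem D11240 : act 6 n9814 = n11240 := rfl
theorem F36470 : act 1 n11240 = n10950 := d11_1 D11240 F35331 (iv F31406)
theorem F36471 : act 2 n11240 = n9816 := d16_1 D11240 (iv D9816) (iv F31407)
theorem F36472 : act 3 n11240 = n11103 := d20_1 D11240 (iv D11103) (iv F31408)
theorem F36473 : act 4 n11240 = n9815 := d23_1 D11240 (iv D9815) D9814
theorem F36474 : act 7 n10181 = n11240 := d30_29 (iv D11240) F31409 F26147 F26148 F20767 F15661 D5061 (iv F17046) F17043 F12508 F12496 (iv F9417) (iv D3055) F6482 (iv F7102) (iv F10169) (iv F10636) F10639 D4776 D6302 (iv F23269) F23270 D7364 F23327 (iv F22686) F22685 (iv F27614) D10202 F32858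
def n11241 : Q := act 5 n9815
theorem D11241 : act 5 n9815 = n11241 := rfl
theorem F36475 : act 1 n11241 = n10932 := d10_1 D11241 F35285 F30004 (iv F30051) (iv F31411)
theorem F36476 : act 2 n11241 = n9817 := d15_1 D11241 (iv D9817) (iv F31412)
theorem F36477 : act 3 n11241 = n11102 := d19_1 D11241 (iv D11102) (iv F31413)
theorem F36478 : act 6 n11241 = n9822 := d25_2 D9815 D11241 (iv D9822) (iv D8225) (iv F26136)
theorem F36479 : act 7 n11241 = n10931 := d26_2 F31414 D11241 F35284
def n11242 : Q := act 5 n9816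
theorem D11242 : act 5 n9816 = n11242 := rfl
theorem F36480 : act 3 n11242 = n9831 := d19_1 D11242 (iv D9831) (iv F31416)
theorem F36481 : act 4 n11242 = n9817 := d22_1 D11242 (iv D9817) (iv F31417)
theorem F36482 : act 6 n11242 = n9823 := d25_2 D9816 D11242 (iv D9823) (iv D8226) (iv F26141)
theorem F36483 : act 7 n11242 = n10179 := d26_2 F31418 D11242 F32780
def n11243 : Q := act 1 n9817
theorem D11243 : act 1 n9817 = n11243 := rfl
theorem F36484 : act 3 n11243 = n9819 := d8_2 (iv F31419) D11243 (iv D9819)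
theorem F36485 : act 5 n11243 = n11243 := d10_2 D9817 D11243 (iv D11243) (iv D9817) F26143
theorem F36486 : act 6 n11243 = n9824 := d11_2 (iv F31420) D11243 (iv D9824)
def n11244 : Q := act 7 n9817
theorem D11244 : act 7 n9817 = n11244 := rfl
theorem F36487 : act 2 n11244 = n10931 := d17_1 D11244 (iv F36479) F36476
theorem F36488 : act 4 n11244 = n10179 := d24_1 D11244 (iv F36483) F36481
theorem F36489 : act 5 n11244 = n9818 := d26_1 D11244 (iv D9818) D9817
def n11245 : Q := act 6 n9820
theorem D11245 : act 6 n9820 = n11245 := rfl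
theorem F36490 : act 0 n11245 = n10661 := d5_1 D11245 F36133 F36127
theorem F36491 : act 1 n11245 = n11245 := d11_1 D11245 (iv D11245) F31428
theorem F36492 : act 2 n11245 = n9836 := d16_1 D11245 (iv D9836) (iv F31429)
theorem F36493 : act 3 n11245 = n9821 := d20_1 D11245 (iv D9821) D9820
theorem F36494 : act 4 n11245 = n11090 := d23_1 D11245 (iv D11090) (iv F31430)
theorem F36495 : act 7 n11245 = n10659 := d27_2 F31432 D11245 F34400 D10672 (iv F34452)
def n11246 : Q := act 5 n9821
theorem D11246 : act 5 n9821 = n11246 := rfl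
theorem F36496 : act 2 n11246 = n9823 := d15_1 D11246 (iv D9823) (iv F31434)
theorem F36497 : act 4 n11246 = n9822 := d22_1 D11246 (iv D9822) (iv F31435)
def n11247 : Q := act 1 n9822
theorem D11247 : act 1 n9822 = n11247 := rfl
theorem F36498 : act 5 n11247 = n11247 := d10_2 D9822 D11247 (iv D11247) (iv D9822) F26150
theorem F36499 : act 6 n11247 = n10932 := d11_2 F36478 D11247 (iv F36475)
def n11248 : Q := act 0 n9824
theorem D11248 : act 0 n9824 = n11248 := rfl
theorem F36500 : act 3 n11248 = n9826 := d2_2 (iv F31439) D11248 (iv D9826)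
theorem F36501 : act 4 n11248 = n10436 := d3_2 F31646 D11248 F33606
theorem F36502 : act 5 n11248 = n9855 := d4_2 (iv F31440) D11248 (iv D9855)
theorem F36503 : act 2 n11105 = n11248 := d15_3 F36502 F31716 (iv F35908)
def n11249 : Q := act 2 n9824
theorem D11249 : act 2 n9824 = n11249 := rfl
theorem F36504 : act 0 n11249 = n11105 := d1_1 D11249 F36503 (iv D11248)
theorem F36505 : act 5 n11249 = n9856 := d15_2 (iv F31440) D11249 (iv D9856)
theorem F36506 : act 7 n11249 = n10246 := d17_2 F31582 D11249 F33023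
def n11250 : Q := act 6 n9825
theorem D11250 : act 6 n9825 = n11250 := rfl
theorem F36507 : act 0 n11250 = n11086 := d5_1 D11250 (iv D11086) (iv F31441)
theorem F36508 : act 1 n11250 = n10244 := d11_1 D11250 F33017 F31579
theorem F36509 : act 3 n11250 = n10767 := d20_1 D11250 (iv D10767) (iv F31442)
theorem F36510 : act 5 n11250 = n11250 := d25_1 D11250 (iv D11250) F31443 F26159 (iv F31443)
def n11251 : Q := act 3 n9827
theorem D11251 : act 3 n9827 = n11251 := rfl
theorem F36511 : act 5 n11251 = n9858 := d19_2 (iv F31448) D11251 (iv D9858)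
def n11252 : Q := act 0 n9828
theorem D11252 : act 0 n9828 = n11252 := rfl
theorem F36512 : act 1 n11252 = n10764 := d0_2 D9828 D11252 F34763 (iv D10343) F28065
theorem F36513 : act 3 n11252 = n11098 := d2_2 F32688 D11252 F35880
theorem F36514 : act 5 n11252 = n11252 := d4_2 F31450 D11252 (iv D11252)
theorem F36515 : act 7 n11252 = n9833 := d6_2 (iv F31451) D11252 (iv D9833)
theorem F36516 : act 2 n10277 = n11252 := d17_3 F36515 (iv F36057) F36061
def n11253 : Q := act 2 n9828
theorem D11253 : act 2 n9828 = n11253 := rfl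
theorem F36517 : act 0 n11253 = n10277 := d1_1 D11253 F36516 (iv D11252)
theorem F36518 : act 1 n11253 = n10508 := d7_1 D11253 (iv F36439) (iv D11230) F31369 D9828
theorem F36519 : act 3 n11253 = n10278 := d13_2 F32688 D11253 F33156 (iv F35876) F35875
theorem F36520 : act 5 n11253 = n11253 := d15_2 F31450 D11253 (iv D11253)
theorem F36521 : act 7 n11253 = n9834 := d17_2 (iv F31451) D11253 (iv D9834)
def n11254 : Q := act 5 n9829
theorem D11254 : act 5 n9829 = n11254 := rfl
theorem F36522 : act 0 n11254 = n10029 := d4_1 D11254 F32168 (iv F31452)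
theorem F36523 : act 2 n11254 = n9831 := d15_1 D11254 (iv D9831) (iv F31454)
theorem F36524 : act 4 n11254 = n9830 := d22_1 D11254 (iv D9830) (iv F31455)
theorem F36525 : act 6 n11254 = n9837 := d25_2 D9829 D11254 (iv D9837) (iv D8239) (iv F26167)
theorem F36526 : act 7 n11254 = n10160 := d26_2 (iv F31456) D11254 (iv D10160)
def n11255 : Q := act 2 n9832
theorem D11255 : act 2 n9832 = n11255 := rfl
theorem F36527 : act 0 n11255 = n11087 := d1_1 D11255 F35832 F31468
theorem F36528 : act 5 n11255 = n11255 := d15_2 F31465 D11255 (iv D11255)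
theorem F36529 : act 6 n11255 = n9841 := d16_2 (iv F31466) D11255 (iv D9841)
theorem F36530 : act 7 n11255 = n10767 := d17_2 (iv F31467) D11255 F34779
def n11256 : Q := act 3 n9834
theorem D11256 : act 3 n9834 = n11256 := rfl
theorem F36531 : act 5 n11256 = n11256 := d19_2 F31472 D11256 (iv D11256)
theorem F36532 : act 6 n11256 = n9843 := d20_2 (iv F31473) D11256 (iv D9843)
def n11257 : Q := act 5 n9836
theorem D11257 : act 5 n9836 = n11257 := rfl
theorem F36533 : act 0 n11257 = n9838 := d4_1 D11257 (iv F36155) F36150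
theorem F36534 : act 3 n11257 = n9837 := d19_1 D11257 (iv D9837) (iv F31478)
def n11258 : Q := act 7 n9836
theorem D11258 : act 7 n9836 = n11258 := rfl
theorem F36535 : act 0 n11258 = n10660 := d6_1 D11258 (iv F36154) F36150
theorem F36536 : act 2 n11258 = n10659 := d17_1 D11258 (iv F36495) F36492
theorem F36537 : act 6 n11258 = n10671 := d27_1 D11258 (iv F34445) (iv D9980) (iv F26719) D9836
def n11259 : Q := act 1 n9837
theorem D11259 : act 1 n9837 = n11259 := rfl
theorem F36538 : act 4 n11259 = n9838 := d9_2 (iv F31480) D11259 (iv D9838)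
def n11260 : Q := act 2 n9838
theorem D11260 : act 2 n9838 = n11260 := rfl
theorem F36539 : act 1 n11260 = n9841 := d7_1 D11260 (iv D9841) (iv D8243) (iv F26191) D9838
theorem F36540 : act 5 n11260 = n10661 := d15_2 F36155 D11260 (iv F36152)
theorem F36541 : act 7 n10648 = n11260 := d26_0 F36540 (iv D10661) (iv F34351)
def n11261 : Q := act 7 n9838
theorem D11261 : act 7 n9838 = n11261 := rfl
theorem F36542 : act 1 n11261 = n9839 := d12_1 D11261 (iv D9839) D9838
theorem F36543 : act 2 n11261 = n10648 := d17_1 D11261 F36541 (iv D11260)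
theorem F36544 : act 5 n11261 = n10660 := d26_1 D11261 (iv F36154) F36155
theorem F36545 : act 6 n11261 = n10766 := d27_1 D11261 F34776 F31506 D11187 F36282
def n11262 : Q := act 3 n9839
theorem D11262 : act 3 n9839 = n11262 := rfl
theorem F36546 : act 5 n11262 = n9840 := d19_2 (iv F31482) D11262 (iv D9840)
def n11263 : Q := act 4 n9840
theorem D11263 : act 4 n9840 = n11263 := rfl
theorem F36547 : act 6 n11263 = n9854 := d23_2 (iv F31483) D11263 (iv D9854)
def n11264 : Q := act 3 n9841
theorem D11264 : act 3 n9841 = n11264 := rfl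
theorem F36548 : act 2 n11264 = n9843 := d13_1 D11264 (iv D9843) (iv D8246) (iv F26195) D9841
theorem F36549 : act 5 n11264 = n9859 := d19_2 (iv F31484) D11264 (iv D9859)
theorem F36550 : act 7 n11264 = n10646 := d21_2 (iv F31485) D11264 F34346 F29109 (iv F29112)
def n11265 : Q := act 3 n9842
theorem D11265 : act 3 n9842 = n11265 := rfl
theorem F36551 : act 0 n11265 = n9843 := d2_1 D11265 (iv D9843) (iv F31486)
theorem F36552 : act 1 n11265 = n10601 := d8_1 D11265 (iv F36036) F36034
theorem F36553 : act 5 n11265 = n9861 := d19_2 (iv F31487) D11265 (iv D9861)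
theorem F36554 : act 4 n10604 = n11265 := d22_3 F36553 (iv F31550) (iv F34205)
def n11266 : Q := act 4 n9843
theorem D11266 : act 4 n9843 = n11266 := rfl
theorem F36555 : act 0 n11266 = n10604 := d3_1 D11266 F36554 F36551
theorem F36556 : act 5 n11266 = n9862 := d22_2 (iv F31488) D11266 (iv D9862)
def n11267 : Q := act 7 n9843
theorem D11267 : act 7 n9843 = n11267 := rfl
theorem F36557 : act 2 n11267 = n10646 := d17_1 D11267 (iv F36550) F36548
theorem F36558 : act 5 n11267 = n9863 := d26_1 D11267 (iv D9863) (iv F31488)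
def n11268 : Q := act 5 n9844
theorem D11268 : act 5 n9844 = n11268 := rfl
theorem F36559 : act 0 n11268 = n9847 := d4_1 D11268 (iv D9847) (iv F31489)
theorem F36560 : act 1 n11268 = n10359 := d10_1 D11268 F36300 F36298 F31262 (iv F31490)
theorem F36561 : act 2 n11268 = n9866 := d15_1 D11268 (iv D9866) (iv F31491)
theorem F36562 : act 3 n11268 = n11183 := d19_1 D11268 (iv D11183) (iv F31492)
theorem F36563 : act 4 n11268 = n9845 := d22_1 D11268 (iv D9845) (iv F31493)
theorem F36564 : act 6 n11268 = n10004 := d25_2 D9844 D11268 (iv D10004) (iv D8424) (iv F26204)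
def n11269 : Q := act 1 n9845
theorem D11269 : act 1 n9845 = n11269 := rfl
theorem F36565 : act 0 n11269 = n10356 := d0_1 D11269 (iv D10356) F28098 F27477 (iv F31494)
theorem F36566 : act 3 n11269 = n10371 := d8_2 (iv F31496) D11269 (iv D10371)
theorem F36567 : act 4 n11269 = n10359 := d9_2 F36563 D11269 (iv F36560)
theorem F36568 : act 5 n11269 = n10789 := d10_2 D9845 D11269 (iv D10789) (iv D9300) (iv F26207)
theorem F36569 : act 6 n11269 = n10005 := d11_2 (iv F31497) D11269 (iv D10005)
def n11270 : Q := act 7 n9845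
theorem D11270 : act 7 n9845 = n11270 := rfl
theorem F36570 : act 0 n11270 = n9850 := d6_1 D11270 (iv D9850) (iv F31494)
theorem F36571 : act 2 n11270 = n9869 := d17_1 D11270 (iv D9869) (iv F31495)
theorem F36572 : act 5 n11270 = n9846 := d26_1 D11270 (iv D9846) D9845
def n11271 : Q := act 3 n9846
theorem D11271 : act 3 n9846 = n11271 := rfl
theorem F36573 : act 0 n11271 = n9851 := d2_1 D11271 (iv D9851) (iv F31498)
theorem F36574 : act 1 n11271 = n10791 := d8_1 D11271 (iv D10791) (iv F31499)
theorem F36575 : act 2 n11271 = n10428 := d13_1 D11271 (iv D10428) F28313 (iv F26278) (iv F31500)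
theorem F36576 : act 6 n11271 = n10015 := d20_2 (iv F31501) D11271 (iv D10015)
theorem F36577 : act 7 n11271 = n10373 := d21_2 D9846 D11271 (iv D10373) (iv D8818) (iv F26209)
def n11272 : Q := act 7 n9848
theorem D11272 : act 7 n9848 = n11272 := rfl
theorem F36578 : act 0 n11272 = n10006 := d6_1 D11272 (iv D10006) (iv F31507)
theorem F36579 : act 1 n11272 = n11254 := d12_1 D11272 F36526 F32711
theorem F36580 : act 2 n11272 = n9874 := d17_1 D11272 (iv D9874) (iv F31508)
theorem F36581 : act 4 n11272 = n11187 := d24_1 D11272 (iv D11187) (iv F31510)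
theorem F36582 : act 5 n11272 = n9849 := d26_1 D11272 (iv D9849) D9848
theorem F36583 : act 6 n11259 = n11272 := d23_0 F36581 F36282 (iv F36538)
def n11273 : Q := act 3 n9850
theorem D11273 : act 3 n9850 = n11273 := rfl
theorem F36584 : act 5 n11273 = n9851 := d19_2 (iv F31518) D11273 (iv D9851)
theorem F36585 : act 7 n11273 = n10377 := d21_2 D9850 D11273 (iv D10377) (iv D8824) (iv F26220)
def n11274 : Q := act 6 n9850
theorem D11274 : act 6 n9850 = n11274 := rfl
theorem F36586 : act 1 n11274 = n10776 := d11_1 D11274 F34805 F32716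
theorem F36587 : act 2 n11274 = n9876 := d16_1 D11274 (iv D9876) (iv F31517)
theorem F36588 : act 4 n11274 = n11261 := d23_1 D11274 F36545 F34774
theorem F36589 : act 5 n11274 = n10667 := d25_1 D11274 (iv F34439) F34438 F29673 (iv F31518)
theorem F36590 : act 7 n11274 = n11259 := d27_2 D9850 D11274 F36583 (iv D11272) F31511
def n11275 : Q := act 2 n9851
theorem D11275 : act 2 n9851 = n11275 := rfl
theorem F36591 : act 0 n11275 = n10428 := d1_1 D11275 (iv F36575) F36573
theorem F36592 : act 3 n11275 = n9877 := d13_2 D9851 D11275 (iv D9877) (iv D8278) (iv F26222)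
theorem F36593 : act 7 n11275 = n10379 := d17_2 (iv F31520) D11275 (iv D10379)
def n11276 : Q := act 4 n9851
theorem D11276 : act 4 n9851 = n11276 := rfl
theorem F36594 : act 1 n11276 = n9854 := d9_1 D11276 (iv D9854) (iv F31519)
theorem F36595 : act 7 n11276 = n10380 := d24_2 (iv F31520) D11276 (iv D10380)
def n11277 : Q := act 3 n9852
theorem D11277 : act 3 n9852 = n11277 := rfl
theorem F36596 : act 1 n11277 = n11189 := d8_1 D11277 (iv D11189) (iv F31521)
theorem F36597 : act 5 n11277 = n10917 := d19_2 F32725 D11277 F35235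
theorem F36598 : act 7 n11277 = n9853 := d21_2 D9852 D11277 (iv D9853) (iv D8254) (iv F26225)
theorem F36599 : act 2 n10924 = n11277 := d30_3 F35302 (iv F35245) (iv F35254) (iv D11277) (iv D9852) (iv D8253) F20831 F20474 F15401 F11152 F11154 D3831 F11852 (iv F11946) (iv F14993) (iv D4846) (iv D3513) (iv F10797) (iv F14951) (iv F19955) (iv D6371) (iv F21771) (iv F19328) F19327 F18515 (iv F23796) (iv F29076) D10638 (iv F35303)
def n11278 : Q := act 4 n9853
theorem D11278 : act 4 n9853 = n11278 := rfl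
theorem F36600 : act 3 n11278 = n9854 := d18_1 D11278 (iv D9854) (iv D8255) (iv F26228) D9853
def n11279 : Q := act 3 n9856
theorem D11279 : act 3 n9856 = n11279 := rfl
theorem F36601 : act 0 n11279 = n11124 := d2_1 D11279 F35994 F31717
theorem F36602 : act 1 n11279 = n11279 := d8_1 D11279 (iv D11279) F31529
theorem F36603 : act 2 n11279 = n9858 := d13_1 D11279 (iv D9858) (iv D8258) (iv F26230) D9856
theorem F36604 : act 6 n11279 = n11279 := d20_2 F31530 D11279 (iv D11279)
theorem F36605 : act 7 n11279 = n10251 := d21_2 (iv F31531) D11279 (iv D10251) (iv D8706) (iv F27779)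
def n11280 : Q := act 3 n9857
theorem D11280 : act 3 n9857 = n11280 := rfl
theorem F36606 : act 0 n11280 = n9858 := d2_1 D11280 (iv D9858) (iv F31532)
theorem F36607 : act 1 n11280 = n9990 := d8_1 D11280 (iv F36065) F36069
theorem F36608 : act 2 n11280 = n11124 := d13_1 D11280 F35994 (iv F31716) F31526 D9857
theorem F36609 : act 4 n11280 = n10746 := d18_2 (iv F31533) D11280 F34712 F31550 (iv D9861)
theorem F36610 : act 6 n11280 = n11280 := d20_2 F31534 D11280 (iv D11280)
def n11281 : Q := act 4 n9858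
theorem D11281 : act 4 n9858 = n11281 := rfl
theorem F36611 : act 0 n11281 = n10746 := d3_1 D11281 (iv F36609) F36606
theorem F36612 : act 1 n11281 = n10080 := d9_1 D11281 (iv D10080) (iv F31536)
theorem F36613 : act 3 n11281 = n9862 := d18_1 D11281 (iv D9862) (iv D8264) (iv F26237) D9858
theorem F36614 : act 6 n11281 = n11281 := d23_2 F31537 D11281 (iv D11281)
def n11282 : Q := act 7 n9858
theorem D11282 : act 7 n9858 = n11282 := rfl
theorem F36615 : act 1 n11282 = n10081 := d12_1 D11282 (iv D10081) (iv F31536)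
theorem F36616 : act 2 n11282 = n10251 := d17_1 D11282 (iv F36605) F36603
theorem F36617 : act 3 n11282 = n10775 := d21_1 D11282 (iv D10775) (iv D9286) (iv F26239) D9858
theorem F36618 : act 6 n11282 = n10486 := d30_6 D3702 D5065 D6639 D8258 D9858 D11282 F33785 F30479 F29529 F24204 F22986 (iv D6011) F14007 F14004 F11913 (iv F12074) F12282 (iv D3959) D3958 D5364 (iv F16758) (iv D4285) (iv D3063) (iv F8479) (iv D2753) F5821 (iv F5510) F5511 D2594
def n11283 : Q := act 4 n9859
theorem D11283 : act 4 n9859 = n11283 := rfl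
theorem F36619 : act 0 n11283 = n11019 := d3_1 D11283 F35577 F31938
theorem F36620 : act 1 n11283 = n10654 := d9_1 D11283 F34373 (iv F31538)
theorem F36621 : act 2 n11283 = n9862 := d14_1 D11283 (iv D9862) (iv F31539)
theorem F36622 : act 3 n11283 = n10473 := d18_1 D11283 (iv F34102) F34101 F29160 D9859
theorem F36623 : act 6 n11283 = n11283 := d23_2 F31540 D11283 (iv D11283)
theorem F36624 : act 7 n11283 = n10469 := d24_2 (iv F31541) D11283 F33724
def n11284 : Q := act 7 n9861
theorem D11284 : act 7 n9861 = n11284 := rfl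
theorem F36625 : act 0 n11284 = n9863 := d6_1 D11284 (iv D9863) (iv F31547)
theorem F36626 : act 1 n11284 = n11011 := d12_1 D11284 F35552 (iv F31548)
theorem F36627 : act 2 n11284 = n10643 := d17_1 D11284 (iv F34337) F31940
theorem F36628 : act 4 n11284 = n11018 := d24_1 D11284 F35574 F31550
theorem F36629 : act 6 n11284 = n10642 := d30_6 (iv F16086) F16085 (iv F20869) D8263 D9861 D11284 F34331 F33285 F30912 F25532 F20082 F15027 (iv D4858) F10836 (iv F14545) (iv F18929) (iv F24220) (iv D7646) (iv F24217) (iv F29569) F29067 F23788 (iv F22106) (iv D6980) F16900 F12407 F8699 D3994 F12410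
def n11285 : Q := act 7 n9862
theorem D11285 : act 7 n9862 = n11285 := rfl
theorem F36630 : act 0 n11285 = n11018 := d6_1 D11285 F35574 (iv F31551)
theorem F36631 : act 1 n11285 = n10088 := d12_1 D11285 (iv D10088) (iv F31552)
theorem F36632 : act 2 n11285 = n10469 := d17_1 D11285 (iv F36624) F36621
theorem F36633 : act 4 n11285 = n9863 := d24_1 D11285 (iv D9863) D9862
theorem F36634 : act 6 n10468 = n11285 := d23_0 F36633 (iv F31556) (iv F33718)
def n11286 : Q := act 5 n9864
theorem D11286 : act 5 n9864 = n11286 := rfl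
theorem F36635 : act 0 n11286 = n9870 := d4_1 D11286 (iv D9870) (iv F31557)
theorem F36636 : act 3 n11286 = n9866 := d19_1 D11286 (iv D9866) (iv F31559)
theorem F36637 : act 4 n11286 = n9880 := d22_1 D11286 (iv D9880) (iv F31560)
theorem F36638 : act 7 n11286 = n11248 := d26_2 F31561 D11286 F36502
def n11287 : Q := act 5 n9865
theorem D11287 : act 5 n9865 = n11287 := rfl
theorem F36639 : act 0 n11287 = n9871 := d4_1 D11287 (iv D9871) (iv F31562)
theorem F36640 : act 2 n11287 = n10004 := d15_1 D11287 (iv D10004) (iv F31564)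
theorem F36641 : act 4 n11287 = n9867 := d22_1 D11287 (iv D9867) (iv F31565)
theorem F36642 : act 6 n11287 = n9866 := d25_2 D9865 D11287 (iv D9866) (iv D8267) D8266
def n11288 : Q := act 1 n9867
theorem D11288 : act 1 n9867 = n11288 := rfl
theorem F36643 : act 3 n11288 = n9883 := d8_2 (iv F31570) D11288 (iv D9883)
theorem F36644 : act 5 n11288 = n10001 := d10_2 D9867 D11288 (iv D10001) (iv D8419) (iv F26271)
theorem F36645 : act 6 n11288 = n9868 := d11_2 (iv F31571) D11288 (iv D9868)
def n11289 : Q := act 2 n9868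
theorem D11289 : act 2 n9868 = n11289 := rfl
theorem F36646 : act 0 n11289 = n10443 := d1_1 D11289 F33632 F31767
theorem F36647 : act 4 n11289 = n10451 := d14_2 F35809 D11289 (iv F35808)
theorem F36648 : act 5 n11289 = n9914 := d15_2 (iv F31573) D11289 (iv D9914)
theorem F36649 : act 7 n11289 = n10442 := d17_2 F31574 D11289 F33627
def n11290 : Q := act 6 n9869
theorem D11290 : act 6 n9869 = n11290 := rfl
theorem F36650 : act 0 n11290 = n9876 := d5_1 D11290 (iv D9876) (iv F31575)
theorem F36651 : act 1 n11290 = n11160 := d11_1 D11290 (iv D11160) (iv F31576)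
theorem F36652 : act 3 n11290 = n10694 := d20_1 D11290 F34542 (iv F31577)
theorem F36653 : act 5 n11290 = n10666 := d25_1 D11290 F34421 F32215 F26961 (iv F31578)
def n11291 : Q := act 7 n9871
theorem D11291 : act 7 n9871 = n11291 := rfl
theorem F36654 : act 1 n11291 = n11255 := d12_1 D11291 F36530 F34778
theorem F36655 : act 2 n11291 = n11187 := d17_1 D11291 (iv D11187) (iv F31583)
theorem F36656 : act 4 n11291 = n9874 := d24_1 D11291 (iv D9874) (iv F31584)
theorem F36657 : act 5 n11291 = n9872 := d26_1 D11291 (iv D9872) D9871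
theorem F36658 : act 6 n11291 = n11260 := d27_1 D11291 (iv F36541) F34352 (iv F29636) (iv F31585)
def n11292 : Q := act 3 n9872
theorem D11292 : act 3 n9872 = n11292 := rfl
theorem F36659 : act 0 n11292 = n11240 := d2_1 D11292 F36472 F35899
theorem F36660 : act 1 n11292 = n11292 := d8_1 D11292 (iv D11292) F31586
theorem F36661 : act 2 n11292 = n10349 := d13_1 D11292 (iv D10349) F28078 (iv F31240) (iv F31587)
theorem F36662 : act 4 n11292 = n11148 := d18_2 (iv F31588) D11292 F36116 F34184 F28974
theorem F36663 : act 6 n11292 = n10370 := d20_2 F32157 D11292 F33419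
def n11293 : Q := act 7 n9873
theorem D11293 : act 7 n9873 = n11293 := rfl
theorem F36664 : act 1 n11293 = n9874 := d12_1 D11293 (iv D9874) D9873
theorem F36665 : act 2 n11293 = n10777 := d17_1 D11293 F34811 F32741
theorem F36666 : act 4 n11293 = n11255 := d24_1 D11293 F36530 F34780
theorem F36667 : act 5 n11293 = n11293 := d26_1 D11293 (iv D11293) F31590
theorem F36668 : act 6 n11293 = n10665 := d27_1 D11293 (iv D10665) F29156 F26575 (iv F31591)
def n11294 : Q := act 6 n9874
theorem D11294 : act 6 n9874 = n11294 := rfl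
theorem F36669 : act 1 n11294 = n10665 := d11_1 D11294 (iv F36668) F36664
theorem F36670 : act 2 n11294 = n11259 := d16_1 D11294 F36583 F36580
theorem F36671 : act 4 n11294 = n11260 := d23_1 D11294 (iv F36658) F36656
theorem F36672 : act 5 n11294 = n10668 := d25_1 D11294 F34427 F32505 (iv F28970) (iv F31592)
theorem F36673 : act 7 n11294 = n9876 := d27_2 D9874 D11294 (iv D9876) (iv D8277) (iv F26288)
def n11295 : Q := act 2 n9875
theorem D11295 : act 2 n9875 = n11295 := rfl
theorem F36674 : act 0 n11295 = n10425 := d1_1 D11295 F33579 (iv F31593)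
theorem F36675 : act 1 n11295 = n10573 := d7_1 D11295 F34092 F28878 (iv F29297) (iv F31594)
theorem F36676 : act 4 n11295 = n11172 := d14_2 (iv F31595) D11295 (iv D11172)
theorem F36677 : act 5 n11295 = n9877 := d15_2 (iv F31596) D11295 (iv D9877)
theorem F36678 : act 6 n11295 = n10571 := d16_2 F31598 D11295 F34086
theorem F36679 : act 7 n11295 = n9903 := d17_2 (iv F31597) D11295 (iv D9903)
def n11296 : Q := act 5 n9879
theorem D11296 : act 5 n9879 = n11296 := rfl
theorem F36680 : act 0 n11296 = n9888 := d4_1 D11296 (iv D9888) (iv F31612)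
theorem F36681 : act 1 n11296 = n10982 := d10_1 D11296 F35443 F30143 (iv F30265) (iv F31613)
theorem F36682 : act 3 n11296 = n9881 := d19_1 D11296 (iv D9881) (iv F31614)
theorem F36683 : act 6 n11296 = n9880 := d25_2 D9879 D11296 (iv D9880) (iv D8280) D8279
theorem F36684 : act 7 n11296 = n10976 := d26_2 F31615 D11296 F35428
def n11297 : Q := act 1 n9880
theorem D11297 : act 1 n9880 = n11297 := rfl
theorem F36685 : act 3 n11297 = n9882 := d8_2 (iv F31617) D11297 (iv D9882)
theorem F36686 : act 5 n11297 = n9918 := d10_2 D9880 D11297 (iv D9918) (iv D8325) (iv F26301)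
theorem F36687 : act 6 n11297 = n10982 := d11_2 F36683 D11297 (iv F36681)
theorem F36688 : act 7 n11297 = n9946 := d12_2 F33609 D11297 (iv F33607)
def n11298 : Q := act 2 n9882
theorem D11298 : act 2 n9882 = n11298 := rfl
theorem F36689 : act 0 n11298 = n11192 := d1_1 D11298 F36292 F33067
theorem F36690 : act 1 n11298 = n10374 := d7_1 D11298 F33433 F28239 (iv F26312) D9882
theorem F36691 : act 4 n11298 = n9885 := d14_2 (iv F31622) D11298 (iv D9885)
theorem F36692 : act 5 n11298 = n9919 := d15_2 (iv F31623) D11298 (iv D9919)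
theorem F36693 : act 6 n11298 = n11185 := d16_2 F33013 D11298 F36272
theorem F36694 : act 7 n11298 = n9941 := d17_2 (iv F31624) D11298 F31851
def n11299 : Q := act 2 n9883
theorem D11299 : act 2 n9883 = n11299 := rfl
theorem F36695 : act 0 n11299 = n11188 := d1_1 D11299 F36283 F33042
theorem F36696 : act 1 n11299 = n10378 := d7_1 D11299 F33446 F28252 (iv F26320) D9883
theorem F36697 : act 4 n11299 = n11185 := d14_2 F33011 D11299 F36272
theorem F36698 : act 5 n11299 = n11184 := d15_2 F32995 D11299 F36268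
theorem F36699 : act 6 n11299 = n9885 := d16_2 (iv F31625) D11299 (iv D9885)
theorem F36700 : act 7 n11299 = n11183 := d17_2 (iv F32991) D11299 F36263
def n11300 : Q := act 3 n9885
theorem D11300 : act 3 n9885 = n11300 := rfl
theorem F36701 : act 1 n11300 = n10377 := d8_1 D11300 (iv D10377) (iv F31629)
theorem F36702 : act 5 n11300 = n9920 := d19_2 (iv F31630) D11300 (iv D9920)
def n11301 : Q := act 1 n9886
theorem D11301 : act 1 n9886 = n11301 := rfl
theorem F36703 : act 3 n11301 = n10333 := d8_2 (iv F31633) D11301 F33311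
theorem F36704 : act 5 n11301 = n11301 := d10_2 D9886 D11301 (iv D11301) (iv D9886) F26333
theorem F36705 : act 6 n11301 = n10232 := d11_2 F32970 D11301 (iv F32966)
theorem F36706 : act 0 n11094 = n11301 := d5_3 F36705 F32953 D11094
def n11302 : Q := act 7 n9886
theorem D11302 : act 7 n9886 = n11302 := rfl
theorem F36707 : act 2 n11302 = n9890 := d17_1 D11302 (iv D9890) (iv F31632)
theorem F36708 : act 4 n11302 = n11249 := d24_1 D11302 F36506 F33025
theorem F36709 : act 5 n11302 = n9887 := d26_1 D11302 (iv D9887) D9886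
def n11303 : Q := act 1 n9888
theorem D11303 : act 1 n9888 = n11303 := rfl
theorem F36710 : act 3 n11303 = n9891 := d8_2 (iv F31638) D11303 (iv D9891)
theorem F36711 : act 4 n11303 = n11250 := d9_2 F33016 D11303 F36508
theorem F36712 : act 5 n11303 = n11303 := d10_2 D9888 D11303 (iv D11303) (iv D9888) F26336
theorem F36713 : act 6 n11303 = n9889 := d11_2 (iv F31639) D11303 (iv D9889)
def n11304 : Q := act 2 n9889
theorem D11304 : act 2 n9889 = n11304 := rfl
theorem F36714 : act 4 n11304 = n10159 := d14_2 (iv F31641) D11304 F32707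
theorem F36715 : act 5 n11304 = n9904 := d15_2 (iv F31642) D11304 (iv D9904)
theorem F36716 : act 7 n11304 = n11246 := d17_2 F31643 D11304 F36496
def n11305 : Q := act 6 n9890
theorem D11305 : act 6 n9890 = n11305 := rfl
theorem F36717 : act 1 n11305 = n11242 := d11_1 D11305 F36482 (iv F31644)
theorem F36718 : act 3 n11305 = n10777 := d20_1 D11305 (iv D10777) (iv F31645)
theorem F36719 : act 4 n11305 = n11243 := d23_1 D11305 F36486 (iv F31646)
theorem F36720 : act 5 n11305 = n11305 := d25_1 D11305 (iv D11305) F31647 F26342 (iv F31647)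
def n11306 : Q := act 2 n9894
theorem D11306 : act 2 n9894 = n11306 := rfl
theorem F36721 : act 0 n11306 = n9895 := d1_1 D11306 (iv D9895) D9894
theorem F36722 : act 3 n11306 = n10910 := d13_2 F31840 D11306 F35216 F32770 (iv F31839)
theorem F36723 : act 5 n11306 = n11306 := d15_2 F31658 D11306 (iv D11306)
theorem F36724 : act 6 n11306 = n9900 := d16_2 (iv F31659) D11306 (iv D9900)
theorem F36725 : act 7 n11306 = n10145 := d17_2 (iv F33041) D11306 (iv F33037)
theorem F36726 : act 1 n10146 = n11306 := d12_3 F36725 (iv D10145) D10146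
def n11307 : Q := act 7 n9895
theorem D11307 : act 7 n9895 = n11307 := rfl
theorem F36727 : act 0 n11307 = n10145 := d6_1 D11307 (iv F36725) F36721
theorem F36728 : act 1 n11307 = n10319 := d12_1 D11307 (iv F33268) (iv F31660)
theorem F36729 : act 2 n11307 = n9896 := d17_1 D11307 (iv D9896) D9895
theorem F36730 : act 3 n11307 = n10147 := d21_1 D11307 (iv F33709) (iv F35203) (iv F35207) F32774
theorem F36731 : act 5 n11307 = n11307 := d26_1 D11307 (iv D11307) F31661
def n11308 : Q := act 3 n9896
theorem D11308 : act 3 n9896 = n11308 := rfl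
theorem F36732 : act 1 n11308 = n9897 := d8_1 D11308 (iv D9897) (iv F31663)
theorem F36733 : act 4 n11308 = n11094 := d18_2 F32810 D11308 F35859 F30669 (iv F32809)
theorem F36734 : act 5 n11308 = n11308 := d19_2 F31664 D11308 (iv D11308)
theorem F36735 : act 6 n11308 = n11093 := d20_2 (iv F32806) D11308 F35856
def n11309 : Q := act 4 n9897
theorem D11309 : act 4 n9897 = n11309 := rfl
theorem F36736 : act 1 n11309 = n11094 := d9_1 D11309 (iv F36733) F36732
theorem F36737 : act 3 n11309 = n10957 := d18_1 D11309 F35359 F32798 F31652 D9897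
theorem F36738 : act 5 n11309 = n9899 := d22_2 (iv F31665) D11309 (iv D9899)
theorem F36739 : act 6 n10956 = n11309 := d25_0 F36738 F31671 F30358 F30357 D10956
def n11310 : Q := act 6 n9897
theorem D11310 : act 6 n9897 = n11310 := rfl
theorem F36740 : act 1 n11310 = n11093 := d11_1 D11310 (iv F36735) F36732
theorem F36741 : act 3 n11310 = n9898 := d20_1 D11310 (iv D9898) D9897
theorem F36742 : act 4 n11310 = n10956 := d23_1 D11310 F36739 (iv D11309)
theorem F36743 : act 5 n11310 = n10090 := d25_1 D11310 (iv D10090) F27133 (iv F26358) (iv F31665)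
def n11311 : Q := act 1 n9900
theorem D11311 : act 1 n9900 = n11311 := rfl
theorem F36744 : act 0 n11311 = n10322 := d0_1 D11311 F33279 F28300 (iv F26360) (iv F31672)
theorem F36745 : act 3 n11311 = n10911 := d8_2 F32787 D11311 F35220
theorem F36746 : act 6 n11311 = n10146 := d11_2 F36724 D11311 F36726
def n11312 : Q := act 3 n9901
theorem D11312 : act 3 n9901 = n11312 := rfl
theorem F36747 : act 1 n11312 = n10426 := d8_1 D11312 (iv D10426) (iv F31674)
theorem F36748 : act 2 n11312 = n10706 := d13_1 D11312 (iv D10706) F31683 (iv D9902) (iv F31675)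
theorem F36749 : act 5 n11312 = n9906 := d19_2 (iv F31677) D11312 (iv D9906)
theorem F36750 : act 7 n11312 = n10858 := d21_2 D9901 D11312 F35046 (iv D10184) F27549
def n11313 : Q := act 1 n9903
theorem D11313 : act 1 n9903 = n11313 := rfl
theorem F36751 : act 0 n11313 = n10911 := d0_1 D11313 F35220 F32786 (iv F28302) (iv F31684)
theorem F36752 : act 2 n11313 = n10551 := d7_2 D9903 D11313 F34023 F31683 F31679
theorem F36753 : act 3 n11313 = n10322 := d8_2 (iv F31685) D11313 F33279
theorem F36754 : act 4 n11313 = n11196 := d9_2 (iv F31686) D11313 (iv D11196)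
theorem F36755 : act 6 n11313 = n10223 := d11_2 F33105 D11313 (iv F33102)
theorem F36756 : act 7 n11313 = n10573 := d12_2 F36679 D11313 (iv F36675)
def n11314 : Q := act 3 n9905
theorem D11314 : act 3 n9905 = n11314 := rfl
theorem F36757 : act 0 n11314 = n9906 := d2_1 D11314 (iv D9906) (iv F31692)
theorem F36758 : act 2 n11314 = n10703 := d13_1 D11314 (iv D10703) F29370 (iv F26387) (iv F31693)
theorem F36759 : act 6 n11314 = n10713 := d20_2 F33942 D11314 F34607
theorem F36760 : act 7 n11314 = n10851 := d21_2 D9905 D11314 F35028 (iv D10192) F27571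
def n11315 : Q := act 4 n9906
theorem D11315 : act 4 n9906 = n11315 := rfl
theorem F36761 : act 1 n11315 = n9908 := d9_1 D11315 (iv D9908) (iv F31695)
theorem F36762 : act 2 n11315 = n10707 := d14_1 D11315 (iv D10707) (iv F31696)
theorem F36763 : act 3 n11315 = n10814 := d18_1 D11315 (iv D10814) (iv D9321) (iv F26391) D9906
theorem F36764 : act 6 n11315 = n10718 := d23_2 F31698 D11315 (iv D10718)
theorem F36765 : act 7 n11315 = n10860 := d24_2 (iv F31697) D11315 (iv D10860)
def n11316 : Q := act 6 n9908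
theorem D11316 : act 6 n9908 = n11316 := rfl
theorem F36766 : act 1 n11316 = n10718 := d11_1 D11316 (iv F36764) F36761
theorem F36767 : act 3 n11316 = n10803 := d20_1 D11316 F34888 (iv F31704)
theorem F36768 : act 4 n11316 = n9909 := d23_1 D11316 (iv D9909) D9908
theorem F36769 : act 7 n11316 = n10733 := d27_2 F32835 D11316 F34666 (iv F30325) (iv F32834)
def n11317 : Q := act 3 n9914
theorem D11317 : act 3 n9914 = n11317 := rfl
theorem F36770 : act 0 n11317 = n10747 := d2_1 D11317 (iv D10747) (iv F31737)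
theorem F36771 : act 1 n11317 = n11314 := d8_1 D11317 (iv D11314) (iv F31738)
theorem F36772 : act 2 n11317 = n9920 := d13_1 D11317 (iv D9920) (iv D8332) (iv F26436) D9914
def n11318 : Q := act 1 n9915
theorem D11318 : act 1 n9915 = n11318 := rfl
theorem F36773 : act 0 n11318 = n10489 := d0_1 D11318 F33793 F30526 (iv F26483) (iv F31741)
theorem F36774 : act 3 n11318 = n9923 := d8_2 (iv F31743) D11318 (iv D9923)
theorem F36775 : act 4 n11318 = n10483 := d9_2 F31756 D11318 F33778
theorem F36776 : act 5 n11318 = n10485 := d10_2 D9915 D11318 F33810 (iv D10492) F28524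
theorem F36777 : act 6 n11318 = n11078 := d11_2 (iv F31744) D11318 F35803
theorem F36778 : act 7 n11318 = n9950 := d12_2 (iv F31745) D11318 (iv D9950)
def n11319 : Q := act 2 n9918
theorem D11319 : act 2 n9918 = n11319 := rfl
theorem F36779 : act 7 n11319 = n9948 := d17_2 (iv F31760) D11319 (iv D9948)
def n11320 : Q := act 3 n9919
theorem D11320 : act 3 n9919 = n11320 := rfl
theorem F36780 : act 1 n11320 = n9930 := d8_1 D11320 (iv D9930) (iv F31761)
def n11321 : Q := act 4 n9920
theorem D11321 : act 4 n9920 = n11321 := rfl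
theorem F36781 : act 1 n11321 = n9937 := d9_1 D11321 (iv D9937) (iv F31764)
def n11322 : Q := act 7 n9921
theorem D11322 : act 7 n9921 = n11322 := rfl
theorem F36782 : act 1 n11322 = n9938 := d12_1 D11322 (iv D9938) (iv F31765)
theorem F36783 : act 5 n11322 = n11322 := d26_1 D11322 (iv D11322) F31766
def n11323 : Q := act 6 n9922
theorem D11323 : act 6 n9922 = n11323 := rfl
theorem F36784 : act 0 n11323 = n11288 := d5_1 D11323 F36645 (iv F31767)
theorem F36785 : act 1 n11323 = n9939 := d11_1 D11323 (iv D9939) (iv F31768)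
theorem F36786 : act 3 n11323 = n10250 := d20_1 D11323 F33046 (iv F31769)
theorem F36787 : act 4 n11323 = n11082 := d23_1 D11323 (iv D11082) (iv F31770)
theorem F36788 : act 5 n11323 = n10251 := d25_1 D11323 F33049 F28514 F26507 (iv F31771)
def n11324 : Q := act 3 n9924
theorem D11324 : act 3 n9924 = n11324 := rfl
theorem F36789 : act 0 n11324 = n10802 := d2_1 D11324 (iv D10802) (iv F31776)
theorem F36790 : act 2 n11324 = n9930 := d13_1 D11324 (iv D9930) (iv D8347) (iv F26521) D9924
theorem F36791 : act 5 n11324 = n10383 := d19_2 (iv F31777) D11324 F33458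
theorem F36792 : act 6 n11324 = n10813 := d20_2 (iv F31778) D11324 (iv D10813)
def n11325 : Q := act 2 n9926
theorem D11325 : act 2 n9926 = n11325 := rfl
theorem F36793 : act 0 n11325 = n10776 := d1_1 D11325 (iv D10776) (iv F31787)
theorem F36794 : act 1 n11325 = n11235 := d7_1 D11325 F36455 (iv F31781) F31782 D9926
theorem F36795 : act 4 n11325 = n9934 := d14_2 (iv F31789) D11325 (iv D9934)
theorem F36796 : act 5 n11325 = n9929 := d15_2 (iv F31790) D11325 (iv D9929)
theorem F36797 : act 6 n11325 = n10357 := d16_2 (iv F31791) D11325 F33389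
theorem F36798 : act 7 n11325 = n11157 := d17_2 F31792 D11325 F36158
def n11326 : Q := act 3 n9927
theorem D11326 : act 3 n9927 = n11326 := rfl
theorem F36799 : act 0 n11326 = n9946 := d2_1 D11326 (iv D9946) (iv F31793)
theorem F36800 : act 1 n11326 = n11154 := d8_1 D11326 F36144 (iv F31794)
theorem F36801 : act 2 n11326 = n11237 := d13_1 D11326 (iv D11237) (iv D9810) (iv F31393) (iv F31795)
theorem F36802 : act 4 n11326 = n11155 := d18_2 (iv F31796) D11326 F36147 F31078 F26565
theorem F36803 : act 5 n11326 = n9928 := d19_2 (iv F31797) D11326 (iv D9928)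
def n11327 : Q := act 6 n9927
theorem D11327 : act 6 n9927 = n11327 := rfl
theorem F36804 : act 0 n11327 = n9947 := d5_1 D11327 (iv D9947) (iv F31793)
theorem F36805 : act 1 n11327 = n10348 := d11_1 D11327 F33365 (iv F31794)
theorem F36806 : act 2 n11327 = n11233 := d16_1 D11327 F36452 (iv F31795)
theorem F36807 : act 4 n11327 = n9935 := d23_1 D11327 (iv D9935) (iv F31796)
theorem F36808 : act 5 n11327 = n10096 := d25_1 D11327 (iv D10096) F27205 (iv F26536) (iv F31797)
theorem F36809 : act 7 n11327 = n10347 := d27_2 D9927 D11327 F33360 (iv F28112) (iv F26532)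
def n11328 : Q := act 3 n9929
theorem D11328 : act 3 n9929 = n11328 := rfl
theorem F36810 : act 0 n11328 = n10778 := d2_1 D11328 (iv D10778) (iv F31802)
theorem F36811 : act 2 n11328 = n10813 := d13_1 D11328 (iv D10813) (iv D9320) (iv F26538) D9929
theorem F36812 : act 6 n11328 = n9930 := d20_2 (iv F31804) D11328 (iv D9930)
def n11329 : Q := act 4 n9930
theorem D11329 : act 4 n9930 = n11329 := rfl
theorem F36813 : act 0 n11329 = n11278 := d3_1 D11329 (iv D11278) (iv F31806)
theorem F36814 : act 3 n11329 = n9937 := d18_1 D11329 (iv D9937) (iv D8353) (iv F26547) D9930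
theorem F36815 : act 5 n11329 = n10384 := d22_2 (iv F31807) D11329 (iv D10384)
def n11330 : Q := act 7 n9930
theorem D11330 : act 7 n9930 = n11330 := rfl
theorem F36816 : act 0 n11330 = n11277 := d6_1 D11330 F36598 (iv F31806)
theorem F36817 : act 3 n11330 = n10381 := d21_1 D11330 (iv D10381) F28167 (iv F26549) D9930
theorem F36818 : act 5 n11330 = n10382 := d26_1 D11330 F33456 (iv F31807)
def n11331 : Q := act 0 n9931
theorem D11331 : act 0 n9931 = n11331 := rfl
theorem F36819 : act 1 n11331 = n9952 := d0_2 D9931 D11331 (iv D9952) (iv D8369) (iv F26550)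
theorem F36820 : act 3 n11331 = n10291 := d2_2 (iv F31808) D11331 (iv D10291)
theorem F36821 : act 4 n11331 = n11145 := d3_2 (iv F31809) D11331 F36100
theorem F36822 : act 5 n11331 = n10504 := d4_2 (iv F31810) D11331 (iv D10504)
theorem F36823 : act 6 n11331 = n10435 := d5_2 (iv F31811) D11331 (iv D10435)
theorem F36824 : act 7 n11331 = n11143 := d6_2 F31812 D11331 F36094
def n11332 : Q := act 2 n9931
theorem D11332 : act 2 n9931 = n11332 := rfl
theorem F36825 : act 1 n11332 = n9934 := d7_1 D11332 (iv D9934) (iv D8350) (iv F26551) D9931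
theorem F36826 : act 4 n11332 = n11235 := d14_2 (iv F31809) D11332 F36455
theorem F36827 : act 5 n11332 = n10505 := d15_2 (iv F31810) D11332 (iv D10505)
theorem F36828 : act 6 n11332 = n10361 := d16_2 (iv F31811) D11332 F33398
theorem F36829 : act 7 n11332 = n11158 := d17_2 F31812 D11332 F36162
def n11333 : Q := act 3 n9932
theorem D11333 : act 3 n9932 = n11333 := rfl
theorem F36830 : act 0 n11333 = n9955 := d2_1 D11333 (iv D9955) (iv F31813)
theorem F36831 : act 1 n11333 = n11217 := d8_1 D11333 F36387 (iv F31814)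
theorem F36832 : act 2 n11333 = n11159 := d13_1 D11333 (iv D11159) (iv D9720) F26565 (iv F31815)
theorem F36833 : act 4 n11333 = n11218 := d18_2 (iv F31816) D11333 F36390 F31349 (iv F31393)
theorem F36834 : act 5 n11333 = n9933 := d19_2 (iv F31817) D11333 (iv D9933)
theorem F36835 : act 7 n11333 = n10214 := d21_2 D9932 D11333 F32903 F27657 (iv F26552)
def n11334 : Q := act 6 n9932
theorem D11334 : act 6 n9932 = n11334 := rfl
theorem F36836 : act 0 n11334 = n9956 := d5_1 D11334 (iv D9956) (iv F31813)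
theorem F36837 : act 1 n11334 = n11231 := d11_1 D11334 F36444 (iv F31814)
theorem F36838 : act 2 n11334 = n9935 := d16_1 D11334 (iv D9935) (iv F31815)

end Cfsg.Agent.Helper17.U6PTC
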