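import Cfsg.Agent.Helper17.U6PTC.Facts4

set_option autoImplicit false
set_option linter.all false

noncomputable section

namespace Cfsg.Agent.Helper17.U6PTC

theorem F36839 : act 4 n11334 = n11233 := d23_1 D11334 F36452 (iv F31816)
theorem F36840 : act 5 n11334 = n10102 := d25_1 D11334 (iv D10102) F27225 (iv F26557) (iv F31817)
theorem F36841 : act 7 n11334 = n10350 := d27_2 D9932 D11334 F33373 F28120 (iv F26553)
def n11335 : Q := act 3 n9934
theorem D11335 : act 3 n9934 = n11335 := rfl
theorem F36842 : act 0 n11335 = n11262 := d2_1 D11335 (iv D11262) (iv F31823)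
theorem F36843 : act 5 n11335 = n9936 := d19_2 (iv F31824) D11335 (iv D9936)
theorem F36844 : act 6 n11335 = n10362 := d20_2 (iv F31825) D11335 (iv D10362)
def n11336 : Q := act 4 n9936
theorem D11336 : act 4 n9936 = n11336 := rfl
theorem F36845 : act 0 n11336 = n11263 := d3_1 D11336 (iv D11263) (iv F31832)
theorem F36846 : act 6 n11336 = n9937 := d23_2 (iv F31833) D11336 (iv D9937)
def n11337 : Q := act 3 n9938
theorem D11337 : act 3 n9938 = n11337 := rfl
theorem F36847 : act 5 n11337 = n9966 := d19_2 (iv F31837) D11337 (iv D9966)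
theorem F36848 : act 7 n11337 = n10726 := d21_2 D9938 D11337 F34647 F29435 F29289
theorem F36849 : act 2 n11337 = n10932 := d28_3 (iv F31905) F31907 D11337 (iv F36475) (iv D11241) (iv D9815) (iv F31048) (iv F33420) F33419 (iv D10026) (iv D8447) (iv D6840) (iv D5272) (iv D3879) D3880 F12014 F11887 F8305 F5721 F5722 F5703 (iv D1834) F3923 (iv D1154) F2547 F1781 D790 F2559 F1791 F1790 (iv F1485) (iv F2234) F2236 F2237 (iv F2432) F2434 (iv F2222) (iv F3229) (iv F4720) F4722 (iv D1499) F3220 (iv F4484) D2104 D3067 D4290 F16646 D6904 F21827 F16653 (iv F20866) (iv F26187) F26186 D8240 (iv F31460) F31457 (iv F32167) (iv F36280) (iv F36655) F36654 F36528 F36529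
def n11338 : Q := act 6 n9938
theorem D11338 : act 6 n9938 = n11338 := rfl
theorem F36850 : act 0 n11338 = n11293 := d5_1 D11338 F36668 F34414
theorem F36851 : act 2 n11338 = n10437 := d16_1 D11338 (iv D10437) (iv F31836)
theorem F36852 : act 4 n11338 = n11087 := d23_1 D11338 F35834 F31907
theorem F36853 : act 5 n11338 = n11338 := d25_1 D11338 (iv D11338) F31837 F26668 (iv F31837)
theorem F36854 : act 7 n11338 = n9939 := d27_2 D9938 D11338 (iv D9939) (iv D8357) D8356
def n11339 : Q := act 7 n9940
theorem D11339 : act 7 n9940 = n11339 := rfl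
theorem F36855 : act 0 n11339 = n10313 := d6_1 D11339 (iv D10313) (iv F31843)
theorem F36856 : act 1 n11339 = n10381 := d12_1 D11339 (iv D10381) (iv F31844)
theorem F36857 : act 2 n11339 = n9943 := d17_1 D11339 (iv D9943) (iv F31845)
theorem F36858 : act 4 n11339 = n10144 := d24_1 D11339 (iv D10144) (iv F31847)
theorem F36859 : act 5 n11339 = n11190 := d26_1 D11339 (iv D11190) (iv F31848)
def n11340 : Q := act 7 n9942
theorem D11340 : act 7 n9942 = n11340 := rfl
theorem F36860 : act 0 n11340 = n10318 := d6_1 D11340 (iv D10318) (iv F31855)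
theorem F36861 : act 2 n11340 = n11190 := d17_1 D11340 (iv D11190) (iv F31856)
theorem F36862 : act 3 n11340 = n11167 := d21_1 D11340 F36200 F31871 (iv D9945) (iv F31857)
theorem F36863 : act 4 n11340 = n10146 := d24_1 D11340 (iv D10146) (iv F31858)
theorem F36864 : act 5 n11340 = n9943 := d26_1 D11340 (iv D9943) D9942
def n11341 : Q := act 0 n9944
theorem D11341 : act 0 n9944 = n11341 := rfl
theorem F36865 : act 1 n11341 = n11145 := d0_2 D9944 D11341 F36100 (iv F31781) F31780
theorem F36866 : act 2 n11341 = n11160 := d1_2 (iv F31863) D11341 F36167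
theorem F36867 : act 4 n11341 = n9952 := d3_2 (iv F31864) D11341 (iv D9952)
theorem F36868 : act 5 n11341 = n11341 := d4_2 F31865 D11341 (iv D11341)
theorem F36869 : act 6 n11341 = n10442 := d5_2 (iv F31866) D11341 (iv D10442)
theorem F36870 : act 7 n11144 = n11341 := d30_29 F36869 F33630 F29516 (iv D8307) F21211 (iv D6741) F16017 D5194 F16135 F16136 (iv F14253) F14254 F12205 D5345 D6910 (iv F21847) (iv F23141) (iv F27017) D10063 (iv F32301) F32297 D10103 F32452 F27240 F27239 (iv F31094) (iv F36109) (iv D11147) (iv F36098)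
def n11342 : Q := act 7 n9944
theorem D11342 : act 7 n9944 = n11342 := rfl
theorem F36871 : act 0 n11342 = n11144 := d6_1 D11342 F36870 (iv D11341)
theorem F36872 : act 1 n11342 = n9945 := d12_1 D11342 (iv D9945) D9944
theorem F36873 : act 2 n11342 = n11322 := d17_1 D11342 (iv D11322) (iv F31863)
theorem F36874 : act 4 n11342 = n9954 := d24_1 D11342 (iv D9954) (iv F31864)
theorem F36875 : act 5 n11342 = n11342 := d26_1 D11342 (iv D11342) F31865
theorem F36876 : act 3 n11342 = n11146 := d29_10 D1341 D1978 D2894 D4088 D5526 D7104 D8708 D10253 (iv F33060) D11342 (iv F36107) (iv D9819) (iv D8223) (iv D6609) F15648 F11392 F7990 F5850 (iv D1879) F4011 F2884 (iv F4157) D1931 F6028 (iv D1418) (iv D949) (iv D639) (iv F2044) D906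
theorem F36877 : act 6 n11342 = n11251 := d30_6 D5526 D7104 D8708 D10253 (iv F33060) D11342 F36511 F31536 F27111 (iv D8511) F21826 F19140 F14273 (iv F13929) (iv D4503) F13638 (iv D4414) (iv D3166) (iv F8635) (iv D2798) (iv F8598) (iv F12275) (iv F16736) F16737 (iv D5360) (iv F16642) F16643 F13282 (iv F12686)
def n11343 : Q := act 6 n9945
theorem D11343 : act 6 n9945 = n11343 := rfl
theorem F36878 : act 0 n11343 = n11233 := d5_1 D11343 F36452 (iv F31867)
theorem F36879 : act 1 n11343 = n11251 := d11_1 D11343 (iv F36877) F36872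
theorem F36880 : act 2 n11343 = n9947 := d16_1 D11343 (iv D9947) (iv F31868)
theorem F36881 : act 3 n11343 = n11221 := d20_1 D11343 F36406 F31871
theorem F36882 : act 4 n11343 = n9956 := d23_1 D11343 (iv D9956) (iv F31869)
theorem F36883 : act 5 n11343 = n10122 := d25_1 D11343 (iv D10122) F27343 (iv F26606) (iv F31870)
theorem F36884 : act 7 n11343 = n10445 := d27_2 D9945 D11343 (iv D10445) (iv D8892) (iv F26602)
def n11344 : Q := act 2 n9946
theorem D11344 : act 2 n9946 = n11344 := rfl
theorem F36885 : act 0 n11344 = n11237 := d1_1 D11344 (iv F36801) F36799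
theorem F36886 : act 3 n11344 = n11215 := d13_2 D9946 D11344 F36376 F31871 F31868
theorem F36887 : act 5 n11344 = n9948 := d15_2 (iv F31872) D11344 (iv D9948)
theorem F36888 : act 1 n11344 = n11213 := d28_4 F26562 (iv F26607) D9946 D11344 (iv D11213) (iv D9785) F26068 F23721 (iv F23031) (iv F26753) (iv D8406) (iv D6791) (iv F16228) F16214 F11888 F11876 F8407 F5790 F3977 F2757 F2755 (iv D649) F1352 (iv D427) F760 (iv F1347) D647 (iv F2749) F2751 (iv D785) F1767 (iv F1772) (iv F1864) F1865 F1860 F1863 F1451 F1191 F681 (iv F687) D379 F1211 (iv F1349) (iv F2139) (iv F3106) (iv F4546) D2130 (iv F9546) (iv F13355) F13358 F10880 F7657 (iv F10926) D4892 (iv F20195) F20193 F20194 (iv F25607) F25606 (iv F27234) (iv F31830) (iv D9935)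
theorem F36889 : act 6 n11218 = n11344 := d11_0 F36888 F36370 D11218
def n11345 : Q := act 4 n9946
theorem D11345 : act 4 n9946 = n11345 := rfl
theorem F36890 : act 0 n11345 = n11155 := d3_1 D11345 (iv F36802) F36799
theorem F36891 : act 1 n11345 = n11248 := d9_1 D11345 F36501 F33607
theorem F36892 : act 3 n11345 = n9961 := d18_1 D11345 (iv D9961) (iv D8375) (iv F26607) D9946
theorem F36893 : act 5 n11345 = n9949 := d22_2 (iv F31872) D11345 (iv D9949)
theorem F36894 : act 6 n11159 = n11345 := d25_0 F36893 F31880 (iv F32453) F32454 (iv F36166)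
def n11346 : Q := act 6 n9946
theorem D11346 : act 6 n9946 = n11346 := rfl
theorem F36895 : act 2 n11346 = n11218 := d16_1 D11346 F36889 (iv D11344)
theorem F36896 : act 3 n11346 = n9947 := d20_1 D11346 (iv D9947) D9946
theorem F36897 : act 4 n11346 = n11159 := d23_1 D11346 F36894 (iv D11345)
theorem F36898 : act 5 n11346 = n10125 := d25_1 D11346 (iv D10125) F27348 (iv F26610) (iv F31872)
theorem F36899 : act 7 n11346 = n10912 := d27_2 F36688 D11346 F35225 D10982 (iv F36687)
def n11347 : Q := act 1 n9948
theorem D11347 : act 1 n9948 = n11347 := rfl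
theorem F36900 : act 2 n11347 = n9950 := d7_2 D9948 D11347 (iv D9950) (iv D8366) (iv F26609)
theorem F36901 : act 3 n11347 = n11208 := d8_2 F32321 D11347 F36356
theorem F36902 : act 5 n11347 = n11207 := d10_2 F36887 D11347 F36347 D11213 (iv F36888)
theorem F36903 : act 6 n11347 = n10126 := d11_2 (iv F31876) D11347 (iv D10126)
def n11348 : Q := act 4 n9948
theorem D11348 : act 4 n9948 = n11348 := rfl
theorem F36904 : act 0 n11348 = n10131 := d3_1 D11348 F32605 F32322
theorem F36905 : act 2 n11348 = n9949 := d14_1 D11348 (iv D9949) D9948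
theorem F36906 : act 3 n11348 = n10102 := d18_1 D11348 F32448 (iv F36424) F36425 F32321
theorem F36907 : act 6 n11348 = n10101 := d23_2 (iv F31876) D11348 (iv F32444)
def n11349 : Q := act 2 n9952
theorem D11349 : act 2 n9952 = n11349 := rfl
theorem F36908 : act 0 n11349 = n9953 := d1_1 D11349 (iv D9953) D9952
theorem F36909 : act 4 n11349 = n11160 := d14_2 F36867 D11349 (iv F36866)
theorem F36910 : act 5 n11349 = n11349 := d15_2 F31887 D11349 (iv D11349)
theorem F36911 : act 6 n11349 = n10450 := d16_2 (iv F31888) D11349 (iv D10450)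
def n11350 : Q := act 7 n9952
theorem D11350 : act 7 n9952 = n11350 := rfl
theorem F36912 : act 0 n11350 = n9954 := d6_1 D11350 (iv D9954) D9952
theorem F36913 : act 1 n11350 = n11143 := d12_1 D11350 (iv F36824) F36819
theorem F36914 : act 4 n11350 = n11144 := d24_1 D11350 F36870 F36867
theorem F36915 : act 5 n11350 = n11350 := d26_1 D11350 (iv D11350) F31887
def n11351 : Q := act 7 n9953
theorem D11351 : act 7 n9953 = n11351 := rfl
theorem F36916 : act 1 n11351 = n9959 := d12_1 D11351 (iv D9959) (iv F31889)
theorem F36917 : act 2 n11351 = n9954 := d17_1 D11351 (iv D9954) D9953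
theorem F36918 : act 4 n11351 = n11322 := d24_1 D11351 (iv D11322) (iv F31890)
theorem F36919 : act 5 n11351 = n11351 := d26_1 D11351 (iv D11351) F31891
def n11352 : Q := act 3 n9954
theorem D11352 : act 3 n9954 = n11352 := rfl
theorem F36920 : act 1 n11352 = n9955 := d8_1 D11352 (iv D9955) (iv F31893)
theorem F36921 : act 4 n11352 = n11256 := d18_2 F36874 D11352 (iv D11256) (iv F36104) (iv F36876)
theorem F36922 : act 5 n11352 = n11352 := d19_2 F31894 D11352 (iv D11352)
theorem F36923 : act 6 n11266 = n11352 := d23_0 F36921 F36532 D11266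
def n11353 : Q := act 6 n9954
theorem D11353 : act 6 n9954 = n11353 := rfl
theorem F36924 : act 1 n11353 = n9956 := d11_1 D11353 (iv D9956) (iv F31893)
theorem F36925 : act 3 n11353 = n11266 := d20_1 D11353 F36923 (iv D11352)
theorem F36926 : act 4 n11353 = n11251 := d23_1 D11353 (iv F36877) F36874
theorem F36927 : act 7 n11353 = n10453 := d27_2 D9954 D11353 (iv D10453) (iv D8901) (iv F26624)
theorem F36928 : act 5 n11281 = n11353 := d22_0 F36926 F36511 D11281
def n11354 : Q := act 2 n9955
theorem D11354 : act 2 n9955 = n11354 := rfl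
theorem F36929 : act 0 n11354 = n11159 := d1_1 D11354 (iv F36832) F36830
theorem F36930 : act 3 n11354 = n9960 := d13_2 D9955 D11354 (iv D9960) (iv D8375) (iv F26625)
theorem F36931 : act 5 n11354 = n9957 := d15_2 (iv F31895) D11354 (iv D9957)
theorem F36932 : act 1 n11354 = n11149 := d28_4 (iv F31867) F31869 D9955 D11354 (iv D11149) (iv D9707) F25759 D8221 F26140 (iv F26166) F26165 (iv D6838) (iv F21388) F21385 F16239 F12021 F8411 F5795 F3984 (iv D1255) F2742 D963 (iv F3104) F2565 F1789 (iv F2251) F2252 (iv F2867) F2869 (iv D883) F1976 (iv F1950) (iv F2836) D1299 F4121 F4123 F2840 F1946 F1775 F1440 F1217 F1215 D448 D681 (iv F3121) (iv F4558) D2138 D3105 (iv F13382) F13384 F13383 F9563 (iv F13394) D5785 (iv F21627) (iv F26907) F26910 F21602 (iv F26918) D10034 (iv F36451) F36452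
theorem F36933 : act 6 n11155 = n11354 := d11_0 F36932 F36120 D11155
def n11355 : Q := act 4 n9955
theorem D11355 : act 4 n9955 = n11355 := rfl
theorem F36934 : act 0 n11355 = n11218 := d3_1 D11355 (iv F36833) F36830
theorem F36935 : act 1 n11355 = n11256 := d9_1 D11355 (iv F36921) F36920
theorem F36936 : act 3 n11355 = n11220 := d18_1 D11355 F36397 F31871 F31869 D9955
theorem F36937 : act 5 n11355 = n9958 := d22_2 (iv F31895) D11355 (iv D9958)
theorem F36938 : act 7 n11355 = n10500 := d24_2 F33696 D11355 F33851
theorem F36939 : act 6 n11355 = n11237 := d30_6 D6147 D7782 F24592 (iv F29939) (iv F33850) (iv F36938) F36463 F32323 (iv F32332) (iv D10076) (iv F30971) F30970 (iv D9688) F25619 F20191 (iv F20170) F20171 (iv D5956) F13809 D4473 F13818 F9961 F7164 F6698 D3142 F9679 F7184 (iv F10297) D4642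
def n11356 : Q := act 6 n9955
theorem D11356 : act 6 n9955 = n11356 := rfl
theorem F36940 : act 1 n11356 = n11266 := d11_1 D11356 F36923 F36920
theorem F36941 : act 2 n11356 = n11155 := d16_1 D11356 F36933 (iv D11354)
theorem F36942 : act 3 n11356 = n9956 := d20_1 D11356 (iv D9956) D9955
theorem F36943 : act 4 n11356 = n11237 := d23_1 D11356 (iv F36939) (iv D11355)
theorem F36944 : act 5 n11356 = n10131 := d25_1 D11356 (iv D10131) F27371 (iv F26628) (iv F31895)
def n11357 : Q := act 1 n9957
theorem D11357 : act 1 n9957 = n11357 := rfl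
theorem F36945 : act 0 n11357 = n11357 := d0_1 D11357 (iv D11357) F31899 F31097 (iv F31899)
theorem F36946 : act 2 n11357 = n11357 := d7_2 D9957 D11357 (iv D11357) (iv D9957) F26627
theorem F36947 : act 3 n11357 = n9963 := d8_2 (iv F31900) D11357 (iv D9963)
theorem F36948 : act 5 n11357 = n10688 := d10_2 F36931 D11357 F34515 D11149 (iv F36932)
theorem F36949 : act 6 n11357 = n10132 := d11_2 (iv F31901) D11357 (iv D10132)
theorem F36950 : act 7 n11357 = n11095 := d12_2 F33693 D11357 F35862
theorem F36951 : act 4 n10689 = n11357 := d24_3 F36950 F35864 (iv F34524)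
def n11358 : Q := act 4 n9957
theorem D11358 : act 4 n9957 = n11358 := rfl
theorem F36952 : act 0 n11358 = n10125 := d3_1 D11358 F32572 (iv F31899)
theorem F36953 : act 1 n11358 = n10689 := d9_1 D11358 F36951 (iv D11357)
theorem F36954 : act 2 n11358 = n9958 := d14_1 D11358 (iv D9958) D9957
theorem F36955 : act 3 n11358 = n10096 := d18_1 D11358 F32417 F31937 (iv D9964) (iv F31900)
theorem F36956 : act 6 n11358 = n10095 := d23_2 (iv F31901) D11358 F32410
theorem F36957 : act 7 n11358 = n10498 := d24_2 F33693 D11358 F33844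
def n11359 : Q := act 3 n9959
theorem D11359 : act 3 n9959 = n11359 := rfl
theorem F36958 : act 0 n11359 = n11264 := d2_1 D11359 (iv D11264) (iv F31905)
theorem F36959 : act 2 n11359 = n11265 := d13_1 D11359 (iv D11265) (iv D9842) F26641 (iv F31906)
theorem F36960 : act 5 n11359 = n9965 := d19_2 (iv F31908) D11359 (iv D9965)
def n11360 : Q := act 4 n9967
theorem D11360 : act 4 n9967 = n11360 := rfl
theorem F36961 : act 0 n11360 = n11164 := d3_1 D11360 (iv D11164) (iv F31946)
theorem F36962 : act 1 n11360 = n10869 := d9_1 D11360 F35076 (iv F31947)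
theorem F36963 : act 2 n11360 = n10217 := d14_1 D11360 (iv D10217) (iv F31948)
theorem F36964 : act 5 n11360 = n10300 := d22_2 (iv F31949) D11360 (iv D10300)
theorem F36965 : act 6 n11360 = n10867 := d23_2 (iv F31950) D11360 F35071
theorem F36966 : act 7 n11360 = n10465 := d24_2 (iv F31951) D11360 (iv D10465)
def n11361 : Q := act 0 n9968
theorem D11361 : act 0 n9968 = n11361 := rfl
theorem F36967 : act 1 n11361 = n11167 := d0_2 D9968 D11361 (iv D11167) (iv D9738) (iv F26675)
theorem F36968 : act 4 n11361 = n11253 := d3_2 F33154 D11361 F36517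
theorem F36969 : act 5 n11361 = n11361 := d4_2 F31952 D11361 (iv D11361)
theorem F36970 : act 7 n11361 = n11146 := d6_2 (iv F31953) D11361 (iv D11146)
theorem F36971 : act 2 n11239 = n11361 := d17_3 F36970 (iv F36107) (iv F36469)
def n11362 : Q := act 2 n9968
theorem D11362 : act 2 n9968 = n11362 := rfl
theorem F36972 : act 0 n11362 = n11239 := d1_1 D11362 F36971 (iv D11361)
theorem F36973 : act 1 n11362 = n9971 := d7_1 D11362 (iv D9971) (iv D8388) (iv F26676) D9968
theorem F36974 : act 4 n11362 = n11252 := d14_2 F33154 D11362 (iv F36516)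
theorem F36975 : act 5 n11362 = n11362 := d15_2 F31952 D11362 (iv D11362)
theorem F36976 : act 7 n11362 = n11147 := d17_2 (iv F31953) D11362 (iv D11147)
def n11363 : Q := act 2 n9970
theorem D11363 : act 2 n9970 = n11363 := rfl
theorem F36977 : act 5 n11363 = n11363 := d15_2 F31958 D11363 (iv D11363)
theorem F36978 : act 6 n11363 = n9971 := d16_2 (iv F31959) D11363 (iv D9971)
def n11364 : Q := act 3 n9971
theorem D11364 : act 3 n9971 = n11364 := rfl
theorem F36979 : act 0 n11364 = n11092 := d2_1 D11364 (iv F36176) F36175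
theorem F36980 : act 2 n11364 = n10232 := d13_1 D11364 F32954 (iv F31121) F31122 D9971
theorem F36981 : act 5 n11364 = n9972 := d19_2 (iv F31960) D11364 (iv D9972)
theorem F36982 : act 7 n11364 = n10230 := d30_5 D5204 D6774 D8388 D9971 D11364 (iv F35278) (iv D10929) F30000 F24608 (iv F24814) D9497 (iv F33808) (iv D10492) F28524 F26439 F21049 F15848 (iv D4752) F10548 F10124 F7072 (iv D1557) F3390 F2354 (iv F3053) D1413 (iv F5667) D2681 D3822
def n11365 : Q := act 7 n9977
theorem D11365 : act 7 n9977 = n11365 := rfl
theorem F36983 : act 0 n11365 = n9983 := d6_1 D11365 (iv D9983) (iv F31991)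
theorem F36984 : act 2 n11365 = n11365 := d17_1 D11365 (iv D11365) F31992
theorem F36985 : act 4 n11365 = n9979 := d24_1 D11365 (iv D9979) (iv F31993)
theorem F36986 : act 6 n11365 = n10381 := d27_1 D11365 (iv D10381) F28169 (iv F26709) D9977
def n11366 : Q := act 7 n9978
theorem D11366 : act 7 n9978 = n11366 := rfl
theorem F36987 : act 0 n11366 = n9984 := d6_1 D11366 (iv D9984) (iv F31994)
theorem F36988 : act 2 n11366 = n11366 := d17_1 D11366 (iv D11366) F31995
theorem F36989 : act 5 n11366 = n9979 := d26_1 D11366 (iv D9979) D9978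
def n11367 : Q := act 3 n9979
theorem D11367 : act 3 n9979 = n11367 := rfl
theorem F36990 : act 0 n11367 = n9985 := d2_1 D11367 (iv D9985) (iv F31998)
theorem F36991 : act 1 n11367 = n10722 := d8_1 D11367 (iv F36092) F36090
theorem F36992 : act 6 n11367 = n10917 := d20_2 F32726 D11367 F35235
theorem F36993 : act 7 n11367 = n11067 := d21_2 D9979 D11367 (iv D11067) (iv D9562) (iv F26712)
theorem F36994 : act 2 n11367 = n10724 := d29_1 D11367 (iv D10724) (iv F29445) F29446 (iv F30020) D10937 F35300 (iv D10606) (iv D9087) (iv F25560) F25559 (iv F25545) F25547 (iv F25679) F25678 F20245 (iv D6466) (iv D4896) (iv D3551) (iv F10880) (iv F14588) (iv F19551) F19556 (iv F21073) F21072 F20368 (iv F24967) (iv F26712) D9979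
def n11368 : Q := act 5 n9981
theorem D11368 : act 5 n9981 = n11368 := rfl
theorem F36995 : act 0 n11368 = n11187 := d4_1 D11368 F36281 (iv F32004)
theorem F36996 : act 3 n11368 = n11254 := d19_1 D11368 (iv D11254) (iv F32006)
theorem F36997 : act 4 n11368 = n10006 := d22_1 D11368 F32104 (iv F32007)
theorem F36998 : act 6 n11368 = n11257 := d25_2 D9981 D11368 (iv D11257) (iv D9836) (iv F26723)
theorem F36999 : act 7 n11368 = n10004 := d26_2 (iv F32008) D11368 (iv D10004)
def n11369 : Q := act 7 n9982
theorem D11369 : act 7 n9982 = n11369 := rfl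
theorem F37000 : act 1 n11369 = n10014 := d12_1 D11369 (iv D10014) (iv F32009)
theorem F37001 : act 2 n11369 = n11369 := d17_1 D11369 (iv D11369) F32010
theorem F37002 : act 4 n11369 = n9984 := d24_1 D11369 (iv D9984) (iv F32012)
theorem F37003 : act 5 n11369 = n9983 := d26_1 D11369 (iv D9983) D9982
theorem F37004 : act 6 n11369 = n11366 := d27_1 D11369 (iv D11366) F31997 (iv F26731) (iv F32013)
def n11370 : Q := act 3 n9983
theorem D11370 : act 3 n9983 = n11370 := rfl
theorem F37005 : act 1 n11370 = n10020 := d8_1 D11370 (iv D10020) (iv F32014)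
theorem F37006 : act 6 n11370 = n11277 := d20_2 (iv F32017) D11370 (iv D11277)
def n11371 : Q := act 3 n9984
theorem D11371 : act 3 n9984 = n11371 := rfl
theorem F37007 : act 5 n11371 = n9985 := d19_2 (iv F32019) D11371 (iv D9985)
theorem F37008 : act 7 n11371 = n10020 := d21_2 D9984 D11371 (iv D10020) (iv D8440) (iv F26733)
theorem F37009 : act 2 n11371 = n10788 := d29_1 D11371 F34835 D10827 F34956 (iv D9370) (iv F29385) F32911 (iv D10216) (iv D8666) F22380 F17552 F12877 F9876 (iv D3200) (iv D2213) F4758 F3292 F2369 D747 D1103 D1624 D2374 D3411 D4721 (iv F18023) F18020 (iv F21512) (iv F26733) D9984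
theorem F37010 : act 6 n10782 = n11371 := d16_0 F37009 (iv D10788) (iv F34823)
def n11372 : Q := act 6 n9984
theorem D11372 : act 6 n9984 = n11372 := rfl
theorem F37011 : act 0 n11372 = n11369 := d5_1 D11372 F37004 F36987
theorem F37012 : act 1 n11372 = n11258 := d11_1 D11372 F36537 (iv F34444)
theorem F37013 : act 2 n11372 = n11372 := d16_1 D11372 (iv D11372) F32018
theorem F37014 : act 3 n11372 = n10782 := d20_1 D11372 F37010 (iv D11371)
theorem F37015 : act 4 n11372 = n11366 := d23_1 D11372 (iv F37004) F37002
theorem F37016 : act 5 n11372 = n11365 := d25_1 D11372 F36986 F33453 F28172 (iv F32019)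
theorem F37017 : act 7 n11372 = n9986 := d27_2 D9984 D11372 (iv D9986) (iv D8403) (iv F26734)
def n11373 : Q := act 2 n9985
theorem D11373 : act 2 n9985 = n11373 := rfl
theorem F37018 : act 0 n11373 = n10724 := d1_1 D11373 (iv F36994) F36990
theorem F37019 : act 1 n11373 = n10732 := d7_1 D11373 (iv F35479) F35478 (iv D10023) (iv F32020)
theorem F37020 : act 3 n11373 = n11373 := d13_2 D9985 D11373 (iv D11373) (iv D9985) F26736
theorem F37021 : act 5 n11373 = n10788 := d15_2 F37007 D11373 (iv F37009)
theorem F37022 : act 6 n11373 = n10922 := d16_2 F33455 D11373 F35250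
theorem F37023 : act 7 n11373 = n11068 := d17_2 (iv F32021) D11373 (iv D11068)
def n11374 : Q := act 4 n9985
theorem D11374 : act 4 n9985 = n11374 := rfl
theorem F37024 : act 1 n11374 = n10024 := d9_1 D11374 (iv D10024) (iv F32020)
theorem F37025 : act 7 n11374 = n11069 := d24_2 (iv F32021) D11374 (iv D11069)
def n11375 : Q := act 5 n9988
theorem D11375 : act 5 n9988 = n11375 := rfl
theorem F37026 : act 0 n11375 = n10027 := d4_1 D11375 (iv D10027) (iv F32034)
theorem F37027 : act 1 n11375 = n11368 := d10_1 D11375 (iv D11368) F32005 (iv F26759) (iv F32035)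
theorem F37028 : act 2 n11375 = n10441 := d15_1 D11375 (iv D10441) (iv F32036)
theorem F37029 : act 3 n11375 = n11272 := d19_1 D11375 F36582 (iv F32037)
theorem F37030 : act 4 n11375 = n9989 := d22_1 D11375 (iv D9989) (iv F32038)
theorem F37031 : act 7 n11375 = n11195 := d26_2 (iv F32039) D11375 (iv D11195)
def n11376 : Q := act 7 n9991
theorem D11376 : act 7 n9991 = n11376 := rfl
theorem F37032 : act 0 n11376 = n11012 := d6_1 D11376 (iv D11012) (iv F32046)
theorem F37033 : act 1 n11376 = n10045 := d12_1 D11376 (iv D10045) (iv F32047)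
theorem F37034 : act 2 n11376 = n10025 := d17_1 D11376 F32153 (iv F32048)
theorem F37035 : act 4 n11376 = n9993 := d24_1 D11376 (iv D9993) (iv F32050)
theorem F37036 : act 5 n11376 = n10009 := d26_1 D11376 F32115 (iv F32051)
theorem F37037 : act 6 n11376 = n10621 := d27_1 D11376 F34262 F29042 (iv F26774) D9991
def n11377 : Q := act 3 n9993
theorem D11377 : act 3 n9993 = n11377 := rfl
theorem F37038 : act 1 n11377 = n10046 := d8_1 D11377 (iv D10046) (iv F32058)
theorem F37039 : act 5 n11377 = n10805 := d19_2 (iv F32060) D11377 (iv D10805)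
theorem F37040 : act 7 n11377 = n9996 := d21_2 D9993 D11377 (iv D9996) (iv D8414) (iv F26776)
def n11378 : Q := act 7 n9994
theorem D11378 : act 7 n9994 = n11378 := rfl
theorem F37041 : act 0 n11378 = n10081 := d6_1 D11378 (iv D10081) F32065
theorem F37042 : act 1 n11378 = n9995 := d12_1 D11378 (iv D9995) D9994
theorem F37043 : act 2 n11378 = n11378 := d17_1 D11378 (iv D11378) F32061
theorem F37044 : act 3 n11378 = n10807 := d21_1 D11378 (iv D10807) (iv D9313) (iv F27110) (iv F32062)
theorem F37045 : act 4 n11378 = n11033 := d24_1 D11378 (iv F35632) F34672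
theorem F37046 : act 5 n11378 = n10048 := d26_1 D11378 (iv D10048) (iv F32063)
theorem F37047 : act 6 n11032 = n11378 := d25_0 F37046 (iv F34211) F34210 D11021 (iv F35626)
def n11379 : Q := act 3 n9995
theorem D11379 : act 3 n9995 = n11379 := rfl
theorem F37048 : act 1 n11379 = n10807 := d8_1 D11379 (iv F37044) F37042
theorem F37049 : act 2 n11379 = n11066 := d13_1 D11379 F35753 F30454 F26784 (iv F32066)
theorem F37050 : act 5 n11379 = n9996 := d19_2 (iv F32068) D11379 (iv D9996)
theorem F37051 : act 6 n11379 = n11034 := d20_2 F32069 D11379 (iv D11034)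
theorem F37052 : act 7 n11379 = n10805 := d21_2 D9995 D11379 (iv D10805) F32057 F32054
def n11380 : Q := act 4 n9996
theorem D11380 : act 4 n9996 = n11380 := rfl
theorem F37053 : act 1 n11380 = n10052 := d9_1 D11380 (iv D10052) (iv F32070)
def n11381 : Q := act 2 n9997
theorem D11381 : act 2 n9997 = n11381 := rfl
theorem F37054 : act 0 n11381 = n9998 := d1_1 D11381 (iv D9998) D9997
theorem F37055 : act 4 n11381 = n10510 := d14_2 (iv F32073) D11381 (iv D10510)
theorem F37056 : act 6 n11381 = n10506 := d16_2 (iv F32074) D11381 (iv D10506)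
theorem F37057 : act 7 n11381 = n10072 := d17_2 (iv F32075) D11381 (iv D10072)
theorem F37058 : act 1 n11381 = n10588 := d29_2 (iv F32072) D11381 (iv F36344) (iv D11206) F31311 F27659 F22381 (iv F21322) (iv D6772) F16171 F11820 F9408 F7106 (iv D2289) (iv D1561) (iv D1056) (iv D714) F1597 (iv F2348) (iv F3380) D1554 D2276 D3278 D4553 F14110 (iv F16060) (iv F21249) (iv F26598) D9943
def n11382 : Q := act 3 n9998
theorem D11382 : act 3 n9998 = n11382 := rfl
theorem F37059 : act 1 n11382 = n10003 := d8_1 D11382 (iv D10003) (iv F32076)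
theorem F37060 : act 6 n11382 = n10507 := d20_2 (iv F32078) D11382 (iv D10507)
def n11383 : Q := act 1 n10000
theorem D11383 : act 1 n10000 = n11383 := rfl
theorem F37061 : act 3 n11383 = n10983 := d8_2 (iv F32088) D11383 F35445
theorem F37062 : act 4 n11383 = n10001 := d9_2 (iv F32089) D11383 (iv D10001)
theorem F37063 : act 6 n11383 = n10494 := d11_2 (iv F32090) D11383 (iv D10494)
def n11384 : Q := act 2 n10001
theorem D11384 : act 2 n10001 = n11384 := rfl
theorem F37064 : act 0 n11384 = n11282 := d1_1 D11384 F36616 F33047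
theorem F37065 : act 1 n11384 = n10002 := d7_1 D11384 (iv D10002) (iv D8421) (iv F26797) D10001
theorem F37066 : act 6 n11384 = n10516 := d16_2 (iv F32091) D11384 (iv D10516)
theorem F37067 : act 7 n11384 = n11280 := d17_2 F35996 D11384 F36608
def n11385 : Q := act 3 n10002
theorem D11385 : act 3 n10002 = n11385 := rfl
theorem F37068 : act 0 n11385 = n11379 := d2_1 D11385 (iv D11379) (iv F32092)
theorem F37069 : act 2 n11385 = n10003 := d13_1 D11385 (iv D10003) (iv D8423) (iv F26803) D10002
theorem F37070 : act 5 n11385 = n10008 := d19_2 (iv F32093) D11385 (iv D10008)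
theorem F37071 : act 6 n11385 = n10517 := d20_2 (iv F32094) D11385 (iv D10517)
def n11386 : Q := act 4 n10003
theorem D11386 : act 4 n10003 = n11386 := rfl
theorem F37072 : act 3 n11386 = n10520 := d18_1 D11386 (iv D10520) (iv D9001) (iv F26813) D10003
theorem F37073 : act 5 n11386 = n10011 := d22_2 (iv F32096) D11386 (iv D10011)
theorem F37074 : act 6 n11386 = n10518 := d23_2 (iv F32097) D11386 (iv D10518)
def n11387 : Q := act 7 n10003
theorem D11387 : act 7 n10003 = n11387 := rfl
theorem F37075 : act 3 n11387 = n10079 := d21_1 D11387 (iv D10079) (iv D8509) (iv F26816) D10003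
theorem F37076 : act 5 n11387 = n10012 := d26_1 D11387 (iv D10012) (iv F32096)
def n11388 : Q := act 2 n10005
theorem D11388 : act 2 n10005 = n11388 := rfl
theorem F37077 : act 0 n11388 = n11234 := d1_1 D11388 F36453 F32170
theorem F37078 : act 5 n11388 = n10007 := d15_2 (iv F32101) D11388 (iv D10007)
theorem F37079 : act 7 n11388 = n11138 := d17_2 F32102 D11388 F36071
def n11389 : Q := act 6 n10006
theorem D11389 : act 6 n10006 = n11389 := rfl
theorem F37080 : act 0 n11389 = n11259 := d5_1 D11389 F36583 F36578
theorem F37081 : act 1 n11389 = n11141 := d11_1 D11389 F36088 (iv F32103)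
theorem F37082 : act 3 n11389 = n11158 := d20_1 D11389 F36165 F32160
theorem F37083 : act 4 n11389 = n11257 := d23_1 D11389 (iv F36998) F36997
theorem F37084 : act 5 n11389 = n10016 := d25_1 D11389 (iv D10016) F26846 (iv F26822) (iv F32104)
def n11390 : Q := act 3 n10007
theorem D11390 : act 3 n10007 = n11390 := rfl
theorem F37085 : act 0 n11390 = n11229 := d2_1 D11390 F36434 (iv F32105)
theorem F37086 : act 1 n11390 = n10008 := d8_1 D11390 (iv D10008) (iv F32106)
theorem F37087 : act 2 n11390 = n10304 := d13_1 D11390 F33227 F29715 F29712 D10007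
theorem F37088 : act 6 n11390 = n10794 := d20_2 (iv F32107) D11390 (iv D10794)
theorem F37089 : act 7 n11390 = n10301 := d21_2 (iv F32108) D11390 F33224 F28060 (iv F31023)
def n11391 : Q := act 4 n10008
theorem D11391 : act 4 n10008 = n11391 := rfl
theorem F37090 : act 0 n11391 = n11380 := d3_1 D11391 (iv D11380) (iv F32109)
theorem F37091 : act 2 n11391 = n10011 := d14_1 D11391 (iv D10011) (iv F32110)
theorem F37092 : act 6 n11391 = n10795 := d23_2 (iv F32111) D11391 (iv D10795)
def n11392 : Q := act 7 n10008
theorem D11392 : act 7 n10008 = n11392 := rfl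
theorem F37093 : act 0 n11392 = n11377 := d6_1 D11392 F37040 (iv F32109)
theorem F37094 : act 1 n11392 = n10301 := d12_1 D11392 (iv F37089) F37086
theorem F37095 : act 2 n11392 = n10012 := d17_1 D11392 (iv D10012) (iv F32110)
theorem F37096 : act 3 n11392 = n10338 := d21_1 D11392 F33329 F31018 (iv F26827) D10008
theorem F37097 : act 6 n11392 = n10299 := d27_1 D11392 F33218 F32632 (iv F29722) (iv F32111)
def n11393 : Q := act 3 n10009
theorem D11393 : act 3 n10009 = n11393 := rfl
theorem F37098 : act 1 n11393 = n10010 := d8_1 D11393 (iv D10010) D10009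
theorem F37099 : act 6 n11393 = n10796 := d20_2 (iv F32114) D11393 (iv D10796)
def n11394 : Q := act 4 n10010
theorem D11394 : act 4 n10010 = n11394 := rfl
theorem F37100 : act 0 n11394 = n10011 := d3_1 D11394 (iv D10011) (iv F32116)
theorem F37101 : act 2 n11394 = n11380 := d14_1 D11394 (iv D11380) (iv F32117)
theorem F37102 : act 3 n11394 = n10806 := d18_1 D11394 (iv D10806) (iv D9313) (iv F26829) D10010
theorem F37103 : act 6 n11394 = n10798 := d23_2 (iv F32118) D11394 (iv D10798)
def n11395 : Q := act 7 n10010
theorem D11395 : act 7 n10010 = n11395 := rfl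
theorem F37104 : act 0 n11395 = n10012 := d6_1 D11395 (iv D10012) (iv F32116)
theorem F37105 : act 2 n11395 = n11377 := d17_1 D11395 F37040 (iv F32117)
theorem F37106 : act 3 n11395 = n10087 := d21_1 D11395 (iv D10087) (iv D8515) (iv F26831) D10010
def n11396 : Q := act 7 n10011
theorem D11396 : act 7 n10011 = n11396 := rfl
theorem F37107 : act 4 n11396 = n10012 := d24_1 D11396 (iv D10012) D10011
def n11397 : Q := act 6 n10012
theorem D11397 : act 6 n10012 = n11397 := rfl
theorem F37108 : act 1 n11397 = n10294 := d11_1 D11397 F36246 F36243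
theorem F37109 : act 2 n11397 = n10299 := d16_1 D11397 (iv F37097) F37095
theorem F37110 : act 3 n11397 = n10089 := d20_1 D11397 (iv D10089) (iv F32121)
theorem F37111 : act 7 n11397 = n10801 := d27_2 D10012 D11397 (iv D10801) (iv D9309) (iv F26832)
def n11398 : Q := act 6 n10013
theorem D11398 : act 6 n10013 = n11398 := rfl
theorem F37112 : act 0 n11398 = n10016 := d5_1 D11398 (iv D10016) (iv F32122)
theorem F37113 : act 1 n11398 = n10674 := d11_1 D11398 F34459 (iv F32123)
theorem F37114 : act 2 n11398 = n10668 := d16_1 D11398 F34427 F32504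
theorem F37115 : act 3 n11398 = n11140 := d20_1 D11398 (iv D11140) (iv F32124)
theorem F37116 : act 4 n11398 = n11156 := d23_1 D11398 (iv D11156) (iv F32125)
theorem F37117 : act 5 n11398 = n11259 := d25_1 D11398 F36583 F36582 F31516 (iv F32126)
theorem F37118 : act 7 n11398 = n10667 := d27_2 D10013 D11398 (iv F34439) F34440 F31477
def n11399 : Q := act 3 n10014
theorem D11399 : act 3 n10014 = n11399 := rfl
theorem F37119 : act 5 n11399 = n10015 := d19_2 (iv F32127) D11399 (iv D10015)
theorem F37120 : act 7 n11399 = n10021 := d21_2 D10014 D11399 (iv D10021) (iv D8441) (iv F26840)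
def n11400 : Q := act 6 n10014
theorem D11400 : act 6 n10014 = n11400 := rfl
theorem F37121 : act 0 n11400 = n10667 := d5_1 D11400 (iv F34439) F34435
theorem F37122 : act 1 n11400 = n11366 := d11_1 D11400 (iv F37004) F37000
theorem F37123 : act 2 n11400 = n10666 := d16_1 D11400 F34421 (iv F32217)
theorem F37124 : act 4 n11400 = n11258 := d23_1 D11400 F36537 F34442
theorem F37125 : act 7 n11400 = n10016 := d27_2 D10014 D11400 (iv D10016) (iv D8436) (iv F26841)
def n11401 : Q := act 4 n10015
theorem D11401 : act 4 n10015 = n11401 := rfl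
theorem F37126 : act 1 n11401 = n11069 := d9_1 D11401 (iv D11069) (iv F32128)
theorem F37127 : act 7 n11401 = n10024 := d24_2 (iv F32129) D11401 (iv D10024)
def n11402 : Q := act 3 n10017
theorem D11402 : act 3 n10017 = n11402 := rfl
theorem F37128 : act 0 n11402 = n10020 := d2_1 D11402 (iv D10020) (iv F32133)
theorem F37129 : act 5 n11402 = n11067 := d19_2 (iv F32136) D11402 (iv D11067)
def n11403 : Q := act 3 n10018
theorem D11403 : act 3 n10018 = n11403 := rfl
theorem F37130 : act 0 n11403 = n10021 := d2_1 D11403 (iv D10021) (iv F32137)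
theorem F37131 : act 1 n11403 = n11328 := d8_1 D11403 (iv D11328) (iv F32138)
theorem F37132 : act 5 n11403 = n10019 := d19_2 (iv F32141) D11403 (iv D10019)
theorem F37133 : act 6 n11403 = n11320 := d20_2 (iv F32142) D11403 (iv D11320)
def n11404 : Q := act 2 n10019
theorem D11404 : act 2 n10019 = n11404 := rfl
theorem F37134 : act 0 n11404 = n10023 := d1_1 D11404 (iv D10023) (iv F32143)
theorem F37135 : act 1 n11404 = n10415 := d7_1 D11404 (iv D10415) (iv F33554) (iv F36459) F36458
theorem F37136 : act 3 n11404 = n10484 := d13_2 D10019 D11404 (iv D10484) (iv D8941) (iv F26856)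
theorem F37137 : act 6 n11404 = n10557 := d16_2 F36277 D11404 (iv F36276)
def n11405 : Q := act 4 n10019
theorem D11405 : act 4 n10019 = n11405 := rfl
theorem F37138 : act 0 n11405 = n10024 := d3_1 D11405 (iv D10024) (iv F32143)
def n11406 : Q := act 2 n10020
theorem D11406 : act 2 n10020 = n11406 := rfl
theorem F37139 : act 3 n11406 = n10486 := d13_2 D10020 D11406 (iv D10486) (iv D8942) (iv F26857)
theorem F37140 : act 5 n11406 = n11068 := d15_2 (iv F32144) D11406 (iv D11068)
theorem F37141 : act 6 n11406 = n10775 := d16_2 F36287 D11406 F36289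
theorem F37142 : act 7 n11406 = n10788 := d17_2 F37008 D11406 (iv F37009)
theorem F37143 : act 1 n11406 = n10809 := d29_2 D10020 D11406 (iv F35593) (iv D11024) (iv F34213) F34212 F29002 (iv D9025) (iv D7436) F18310 (iv F16697) (iv F20265) F20268 (iv D6471) F15149 F10942 F8549 F5880 (iv F5761) (iv F8359) (iv F11964) (iv F16336) D6823 D8433 (iv F32003) F32000 F26732 F26733 D8440
def n11407 : Q := act 4 n10020
theorem D11407 : act 4 n10020 = n11407 := rfl
theorem F37144 : act 3 n11407 = n10024 := d18_1 D11407 (iv D10024) (iv D8442) (iv F26858) D10020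
theorem F37145 : act 5 n11407 = n11069 := d22_2 (iv F32144) D11407 (iv D11069)
def n11408 : Q := act 2 n10021
theorem D11408 : act 2 n10021 = n11408 := rfl
theorem F37146 : act 3 n11408 = n10488 := d13_2 D10021 D11408 (iv D10488) (iv D8943) (iv F26860)
theorem F37147 : act 5 n11408 = n10023 := d15_2 (iv F32145) D11408 (iv D10023)
def n11409 : Q := act 4 n10021
theorem D11409 : act 4 n10021 = n11409 := rfl
theorem F37148 : act 3 n11409 = n11069 := d18_1 D11409 (iv D11069) (iv D9563) (iv F26861) D10021
theorem F37149 : act 5 n11409 = n10024 := d22_2 (iv F32145) D11409 (iv D10024)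
def n11410 : Q := act 6 n10021
theorem D11410 : act 6 n10021 = n11410 := rfl
theorem F37150 : act 0 n11410 = n11320 := d5_1 D11410 (iv F37133) F37130
theorem F37151 : act 3 n11410 = n10022 := d20_1 D11410 (iv D10022) D10021
def n11411 : Q := act 4 n10023
theorem D11411 : act 4 n10023 = n11411 := rfl
theorem F37152 : act 2 n11411 = n10024 := d14_1 D11411 (iv D10024) D10023
def n11412 : Q := act 5 n10031
theorem D11412 : act 5 n10031 = n11412 := rfl
theorem F37153 : act 0 n11412 = n10039 := d4_1 D11412 (iv D10039) (iv F32174)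
theorem F37154 : act 2 n11412 = n10116 := d15_1 D11412 F32524 (iv F32176)
theorem F37155 : act 3 n11412 = n10032 := d19_1 D11412 (iv D10032) (iv F32177)
theorem F37156 : act 4 n11412 = n11347 := d22_1 D11412 F36902 F36350
theorem F37157 : act 6 n11412 = n10115 := d25_2 D10031 D11412 F32518 (iv D8949) (iv F26902)
theorem F37158 : act 1 n11348 = n11412 := d28_4 (iv F21272) D8378 (iv F31879) (iv F36905) (iv D11412) (iv D10031) F26899 D8463 F26945 F21635 (iv F26771) F26773 D9991 F32046 (iv F31019) F31018 F26765 F21417 (iv F16329) F16330 F11969 (iv F11892) F11891 (iv F16248) (iv F16416) (iv D5275) (iv D3882) D3879 D5270 F16400 F16215 F11858 (iv F16224) D6789 F21381 F16253 F12002 (iv F10912) (iv F12090) F12094 (iv D3907) (iv F12072) F12075 F12074 (iv F11913) (iv F14004) F14007 D6011 (iv F24140) F24143 F21418 (iv F25620) F25619 D8084 F25639 F20214 F20216 (iv F25664) (iv F25706) (iv F27228) F27229 F21953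
def n11413 : Q := act 3 n10033
theorem D11413 : act 3 n10033 = n11413 := rfl
theorem F37159 : act 0 n11413 = n10042 := d2_1 D11413 (iv D10042) (iv F32182)
theorem F37160 : act 2 n11413 = n10779 := d13_1 D11413 (iv D10779) (iv D9290) (iv F26914) (iv F32183)
theorem F37161 : act 6 n11413 = n11275 := d20_2 (iv F32185) D11413 F36592
theorem F37162 : act 7 n11413 = n11404 := d21_2 D10033 D11413 F37136 F33783 F32177
def n11414 : Q := act 3 n10035
theorem D11414 : act 3 n10035 = n11414 := rfl
theorem F37163 : act 0 n11414 = n10049 := d2_1 D11414 (iv D10049) (iv F32187)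
theorem F37164 : act 2 n11414 = n10641 := d13_1 D11414 (iv D10641) (iv D9119) F26931 (iv F32188)
theorem F37165 : act 5 n11414 = n10036 := d19_2 (iv F32189) D11414 (iv D10036)
def n11415 : Q := act 4 n10036
theorem D11415 : act 4 n10036 = n11415 := rfl
theorem F37166 : act 0 n11415 = n10052 := d3_1 D11415 (iv D10052) (iv F32190)
theorem F37167 : act 2 n11415 = n10761 := d14_1 D11415 (iv D10761) (iv F32191)
def n11416 : Q := act 5 n10038
theorem D11416 : act 5 n10038 = n11416 := rfl
theorem F37168 : act 0 n11416 = n11347 := d4_1 D11416 F36902 F36346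
theorem F37169 : act 1 n11416 = n10077 := d10_1 D11416 F32337 (iv F32366) F32369 (iv F32198)
theorem F37170 : act 2 n11416 = n11088 := d15_1 D11416 F35839 F33773
theorem F37171 : act 3 n11416 = n10044 := d19_1 D11416 (iv D10044) (iv F32199)
theorem F37172 : act 4 n11416 = n10039 := d22_1 D11416 (iv D10039) (iv F32200)
theorem F37173 : act 6 n11416 = n10127 := d25_2 D10038 D11416 F32581 F27363 (iv F26946)
def n11417 : Q := act 1 n10039
theorem D11417 : act 1 n10039 = n11417 := rfl
theorem F37174 : act 0 n11417 = n10078 := d0_1 D11417 (iv F32602) (iv F36904) F37158 F37153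
theorem F37175 : act 2 n11417 = n11073 := d7_2 (iv F32201) D11417 F35775 F30514 (iv F30627)
theorem F37176 : act 3 n11417 = n10040 := d8_2 (iv F32202) D11417 (iv D10040)
theorem F37177 : act 4 n11417 = n10077 := d9_2 F37172 D11417 (iv F37169)
theorem F37178 : act 5 n11417 = n10086 := d10_2 D10039 D11417 F32372 (iv D9472) (iv F26948)
theorem F37179 : act 6 n11417 = n10499 := d11_2 (iv F32203) D11417 (iv D10499)
theorem F37180 : act 7 n11417 = n11071 := d12_2 F33792 D11417 F35768
def n11418 : Q := act 3 n10041
theorem D11418 : act 3 n10041 = n11418 := rfl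
theorem F37181 : act 2 n11418 = n11399 := d13_1 D11418 (iv D11399) F32217 (iv D10043) (iv F32207)
theorem F37182 : act 5 n11418 = n10042 := d19_2 (iv F32209) D11418 (iv D10042)
theorem F37183 : act 7 n11418 = n11408 := d21_2 D10041 D11418 F37146 F33792 F32202
def n11419 : Q := act 4 n10042
theorem D11419 : act 4 n10042 = n11419 := rfl
theorem F37184 : act 2 n11419 = n11401 := d14_1 D11419 (iv D11401) (iv F32210)
theorem F37185 : act 3 n11419 = n10052 := d18_1 D11419 (iv D10052) (iv D8474) (iv F26954) D10042
theorem F37186 : act 7 n11419 = n11411 := d24_2 (iv F32211) D11419 (iv D11411)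
def n11420 : Q := act 3 n10045
theorem D11420 : act 3 n10045 = n11420 := rfl
theorem F37187 : act 5 n11420 = n10615 := d19_2 (iv F32225) D11420 F34244
theorem F37188 : act 6 n11420 = n10620 := d20_2 (iv F32226) D11420 F34257
def n11421 : Q := act 2 n10046
theorem D11421 : act 2 n10046 = n11421 := rfl
theorem F37189 : act 0 n11421 = n10762 := d1_1 D11421 (iv F36420) F36418
theorem F37190 : act 3 n11421 = n11421 := d13_2 D10046 D11421 (iv D11421) (iv D10046) F26969
theorem F37191 : act 7 n11421 = n10051 := d17_2 (iv F32227) D11421 (iv D10051)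
def n11422 : Q := act 4 n10046
theorem D11422 : act 4 n10046 = n11422 := rfl
theorem F37192 : act 7 n11422 = n10052 := d24_2 (iv F32227) D11422 (iv D10052)
def n11423 : Q := act 2 n10049
theorem D11423 : act 2 n10049 = n11423 := rfl
theorem F37193 : act 0 n11423 = n10641 := d1_1 D11423 (iv F37164) F37163
theorem F37194 : act 3 n11423 = n10053 := d13_2 D10049 D11423 (iv D10053) (iv D8475) (iv F26972)
theorem F37195 : act 5 n11423 = n10051 := d15_2 (iv F32234) D11423 (iv D10051)
def n11424 : Q := act 4 n10049
theorem D11424 : act 4 n10049 = n11424 := rfl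
theorem F37196 : act 5 n11424 = n10052 := d22_2 (iv F32234) D11424 (iv D10052)
def n11425 : Q := act 6 n10049
theorem D11425 : act 6 n10049 = n11425 := rfl
theorem F37197 : act 3 n11425 = n10050 := d20_1 D11425 (iv D10050) D10049
def n11426 : Q := act 1 n10051
theorem D11426 : act 1 n10051 = n11426 := rfl
theorem F37198 : act 0 n11426 = n10796 := d0_1 D11426 F34865 F29726 (iv F29629) (iv F32237)
theorem F37199 : act 2 n11426 = n11393 := d7_2 D10051 D11426 F37098 F32117 F32070
theorem F37200 : act 3 n11426 = n10055 := d8_2 (iv F32238) D11426 (iv D10055)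
def n11427 : Q := act 4 n10051
theorem D11427 : act 4 n10051 = n11427 := rfl
theorem F37201 : act 0 n11427 = n10761 := d3_1 D11427 (iv D10761) (iv F32237)
theorem F37202 : act 2 n11427 = n10052 := d14_1 D11427 (iv D10052) D10051
theorem F37203 : act 3 n11427 = n10785 := d18_1 D11427 (iv D10785) (iv D9296) (iv F26982) (iv F32238)
def n11428 : Q := act 1 n10053
theorem D11428 : act 1 n10053 = n11428 := rfl
theorem F37204 : act 0 n11428 = n10635 := d0_1 D11428 F34300 F29062 (iv F29089) (iv F32239)
theorem F37205 : act 2 n11428 = n11428 := d7_2 D10053 D11428 (iv D11428) (iv D10053) F26975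
theorem F37206 : act 4 n11428 = n10634 := d9_2 (iv F32240) D11428 F34296
theorem F37207 : act 7 n11428 = n11428 := d12_2 F32242 D11428 (iv D11428)
theorem F37208 : act 6 n10193 = n11428 := d23_0 F37206 F34298 (iv F32831)
def n11429 : Q := act 6 n10053
theorem D11429 : act 6 n10053 = n11429 := rfl
theorem F37209 : act 0 n11429 = n10640 := d5_1 D11429 F34326 (iv F32239)
theorem F37210 : act 1 n11429 = n10193 := d11_1 D11429 F37208 (iv D11428)
theorem F37211 : act 2 n11429 = n10054 := d16_1 D11429 (iv D10054) D10053
theorem F37212 : act 4 n11429 = n10663 := d23_1 D11429 F34409 (iv F32240)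
theorem F37213 : act 7 n10191 = n11429 := d30_29 (iv D11429) F32241 D10055 F32248 F26985 F26873 F21894 D8529 F27169 (iv F32048) F32049 (iv F35462) (iv D10986) (iv F30898) (iv F35909) F35910 F32675 F27440 (iv D7002) F17005 F12467 F8766 (iv F8792) F8794 D4033 D5461 D7037 D8640 D10191
def n11430 : Q := act 5 n10055
theorem D11430 : act 5 n10055 = n11430 := rfl
theorem F37214 : act 0 n11430 = n10797 := d4_1 D11430 (iv D10797) (iv F32247)
theorem F37215 : act 2 n11430 = n10056 := d15_1 D11430 (iv D10056) (iv F32248)
theorem F37216 : act 4 n11430 = n10784 := d22_1 D11430 (iv D10784) (iv F32249)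
theorem F37217 : act 6 n11430 = n11044 := d25_2 F35782 D11430 F35676 (iv F35556) (iv F35781)
theorem F37218 : act 7 n11430 = n11430 := d26_2 F32250 D11430 (iv D11430)
def n11431 : Q := act 7 n10073
theorem D11431 : act 7 n10073 = n11431 := rfl
theorem F37219 : act 0 n11431 = n11319 := d6_1 D11431 F36779 (iv F32322)
theorem F37220 : act 1 n11431 = n10079 := d12_1 D11431 (iv D10079) (iv F32323)
theorem F37221 : act 2 n11431 = n10490 := d17_1 D11431 F33801 (iv F32324)
theorem F37222 : act 4 n11431 = n11080 := d24_1 D11431 F35813 F32605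
theorem F37223 : act 6 n11431 = n10488 := d27_1 D11431 F33792 F32203 (iv F32423) F32422
def n11432 : Q := act 4 n10082
theorem D11432 : act 4 n10082 = n11432 := rfl
theorem F37224 : act 0 n11432 = n10083 := d3_1 D11432 (iv D10083) (iv F32349)
theorem F37225 : act 1 n11432 = n11432 := d9_1 D11432 (iv D11432) F32350
theorem F37226 : act 2 n11432 = n10086 := d14_1 D11432 (iv D10086) (iv F32351)
theorem F37227 : act 3 n11432 = n11432 := d18_1 D11432 (iv D11432) (iv D10082) F27115 D10082
theorem F37228 : act 5 n11432 = n11073 := d22_2 F35801 D11432 (iv F35800)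
theorem F37229 : act 6 n11432 = n11432 := d23_2 F32352 D11432 (iv D11432)
theorem F37230 : act 7 n11432 = n11072 := d24_2 (iv F35795) D11432 (iv F35793)
def n11433 : Q := act 7 n10085
theorem D11433 : act 7 n10085 = n11433 := rfl
theorem F37231 : act 0 n11433 = n11011 := d6_1 D11433 F35552 (iv F32365)
theorem F37232 : act 1 n11433 = n10087 := d12_1 D11433 (iv D10087) (iv F32366)
theorem F37233 : act 2 n11433 = n11433 := d17_1 D11433 (iv D11433) F32367
theorem F37234 : act 4 n11433 = n10992 := d24_1 D11433 F35484 (iv F32368)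
theorem F37235 : act 5 n11433 = n10986 := d26_1 D11433 F35462 (iv F32369)
def n11434 : Q := act 7 n10086
theorem D11434 : act 7 n10086 = n11434 := rfl
theorem F37236 : act 0 n11434 = n10088 := d6_1 D11434 (iv D10088) (iv F32371)
theorem F37237 : act 1 n11434 = n10992 := d12_1 D11434 F35484 (iv F32372)
theorem F37238 : act 2 n11434 = n11072 := d17_1 D11434 (iv F37230) F37226
theorem F37239 : act 4 n11434 = n10087 := d24_1 D11434 (iv D10087) D10086
theorem F37240 : act 5 n11434 = n11071 := d26_1 D11434 (iv F37180) F37178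
def n11435 : Q := act 6 n10087
theorem D11435 : act 6 n10087 = n11435 := rfl
theorem F37241 : act 0 n11435 = n10089 := d5_1 D11435 (iv D10089) (iv F32374)
theorem F37242 : act 2 n11435 = n10651 := d16_1 D11435 (iv F35794) F35791
theorem F37243 : act 7 n11435 = n11435 := d27_2 D10087 D11435 (iv D11435) (iv D10087) F27123
def n11436 : Q := act 3 n10088
theorem D11436 : act 3 n10088 = n11436 := rfl
theorem F37244 : act 2 n11436 = n10820 := d13_1 D11436 F34933 F29774 (iv F30563) (iv F32375)
theorem F37245 : act 5 n11436 = n10818 := d19_2 (iv F32377) D11436 F34929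
def n11437 : Q := act 6 n10088
theorem D11437 : act 6 n10088 = n11437 := rfl
theorem F37246 : act 1 n11437 = n10468 := d11_1 D11437 F36634 F36631
theorem F37247 : act 2 n11437 = n10652 := d16_1 D11437 F34361 (iv F32375)
theorem F37248 : act 4 n11437 = n10089 := d23_1 D11437 (iv D10089) (iv F32376)
theorem F37249 : act 5 n11437 = n11435 := d25_1 D11437 (iv D11435) (iv F35788) F35786 (iv F32377)
theorem F37250 : act 7 n11437 = n11437 := d27_2 D10088 D11437 (iv D11437) (iv D10088) F27124
def n11438 : Q := act 5 n10089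
theorem D11438 : act 5 n10089 = n11438 := rfl
theorem F37251 : act 0 n11438 = n11437 := d4_1 D11438 F37249 F37241
theorem F37252 : act 2 n11438 = n10653 := d15_1 D11438 (iv D10653) (iv F32379)
theorem F37253 : act 4 n11438 = n11435 := d22_1 D11438 (iv F37249) F37248
theorem F37254 : act 6 n11438 = n11434 := d25_2 D10089 D11438 F37240 F35769 F32343
theorem F37255 : act 7 n11438 = n11438 := d26_2 F32380 D11438 (iv D11438)
def n11439 : Q := act 5 n10113
theorem D11439 : act 5 n10113 = n11439 := rfl
theorem F37256 : act 0 n11439 = n11091 := d4_1 D11439 (iv D11091) (iv F32507)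
theorem F37257 : act 2 n11439 = n10120 := d15_1 D11439 (iv D10120) (iv F32508)
theorem F37258 : act 3 n11439 = n11294 := d19_1 D11439 F36672 F34425
theorem F37259 : act 6 n11439 = n10598 := d25_2 D10113 D11439 (iv D10598) (iv D9079) (iv F27303)
def n11440 : Q := act 5 n10119
theorem D11440 : act 5 n10119 = n11440 := rfl
theorem F37260 : act 3 n11440 = n11116 := d19_1 D11440 F35958 F33768
theorem F37261 : act 4 n11440 = n10280 := d22_1 D11440 F33161 (iv F32539)
theorem F37262 : act 6 n11440 = n11110 := d25_2 D10119 D11440 (iv D11110) F32531 F32529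
theorem F37263 : act 7 n11440 = n10120 := d26_2 (iv F32540) D11440 (iv D10120)
theorem F37264 : act 1 n11113 = n11440 := d11_3 F37262 F35929 D11113
def n11441 : Q := act 1 n10120
theorem D11441 : act 1 n10120 = n11441 := rfl
theorem F37265 : act 0 n11441 = n11352 := d0_1 D11441 F36920 (iv F36830) F36831 F36385
theorem F37266 : act 3 n11441 = n11350 := d8_2 F36095 D11441 F36913
theorem F37267 : act 5 n11441 = n11441 := d10_2 D10120 D11441 (iv D11441) (iv D10120) F27336
theorem F37268 : act 6 n11441 = n10604 := d11_2 (iv F32541) D11441 (iv D10604)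
theorem F37269 : act 7 n11441 = n11113 := d12_2 F37263 D11441 F37264
def n11442 : Q := act 2 n10133
theorem D11442 : act 2 n10133 = n11442 := rfl
theorem F37270 : act 0 n11442 = n10286 := d1_1 D11442 (iv D10286) (iv F32612)
theorem F37271 : act 3 n11442 = n10149 := d13_2 D10133 D11442 (iv D10149) (iv D8599) (iv F27392)
theorem F37272 : act 6 n11442 = n10395 := d16_2 (iv F32614) D11442 F33494
theorem F37273 : act 7 n11442 = n10618 := d17_2 (iv F32615) D11442 F34253
def n11443 : Q := act 4 n10133
theorem D11443 : act 4 n10133 = n11443 := rfl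
theorem F37274 : act 0 n11443 = n10287 := d3_1 D11443 (iv D10287) (iv F32612)
theorem F37275 : act 1 n11443 = n10752 := d9_1 D11443 F34729 (iv F32613)
theorem F37276 : act 3 n11443 = n10138 := d18_1 D11443 (iv D10138) (iv D8591) (iv F27393) D10133
theorem F37277 : act 6 n11443 = n10449 := d23_2 (iv F32614) D11443 (iv D10449)
theorem F37278 : act 7 n11443 = n10619 := d24_2 (iv F32615) D11443 F34256
def n11444 : Q := act 7 n10134
theorem D11444 : act 7 n10134 = n11444 := rfl
theorem F37279 : act 0 n11444 = n10136 := d6_1 D11444 (iv D10136) (iv F32616)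
theorem F37280 : act 1 n11444 = n11044 := d12_1 D11444 (iv D11044) (iv F32617)
theorem F37281 : act 2 n11444 = n11444 := d17_1 D11444 (iv D11444) F32618
theorem F37282 : act 4 n11444 = n10742 := d24_1 D11444 F34697 (iv F32620)
theorem F37283 : act 5 n11444 = n10135 := d26_1 D11444 (iv D10135) D10134
def n11445 : Q := act 3 n10135
theorem D11445 : act 3 n10135 = n11445 := rfl
theorem F37284 : act 0 n11445 = n10137 := d2_1 D11445 (iv D10137) (iv F32622)
theorem F37285 : act 1 n11445 = n10293 := d8_1 D11445 (iv D10293) (iv F32623)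
theorem F37286 : act 6 n11445 = n10741 := d20_2 (iv F32626) D11445 (iv D10741)
def n11446 : Q := act 3 n10136
theorem D11446 : act 3 n10136 = n11446 := rfl
theorem F37287 : act 1 n11446 = n11005 := d8_1 D11446 F35535 (iv F32627)
theorem F37288 : act 5 n11446 = n10137 := d19_2 (iv F32630) D11446 (iv D10137)
def n11447 : Q := act 4 n10137
theorem D11447 : act 4 n10137 = n11447 := rfl
theorem F37289 : act 1 n11447 = n10138 := d9_1 D11447 (iv D10138) (iv F32631)
theorem F37290 : act 3 n11447 = n10752 := d18_1 D11447 F34729 F29552 (iv F27405) D10137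
theorem F37291 : act 6 n11447 = n10750 := d23_2 (iv F32632) D11447 (iv D10750)
def n11448 : Q := act 6 n10138
theorem D11448 : act 6 n10138 = n11448 := rfl
theorem F37292 : act 0 n11448 = n10302 := d5_1 D11448 (iv D10302) (iv F32633)
theorem F37293 : act 1 n11448 = n10750 := d11_1 D11448 (iv F37291) F37289
theorem F37294 : act 2 n11448 = n11227 := d16_1 D11448 (iv D11227) (iv F32634)
theorem F37295 : act 3 n11448 = n10449 := d20_1 D11448 (iv F37277) F37276
theorem F37296 : act 4 n11448 = n10139 := d23_1 D11448 (iv D10139) D10138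
def n11449 : Q := act 5 n10139
theorem D11449 : act 5 n10139 = n11449 := rfl
theorem F37297 : act 0 n11449 = n10303 := d4_1 D11449 (iv D10303) (iv F32635)
theorem F37298 : act 2 n11449 = n11228 := d15_1 D11449 (iv D11228) (iv F32637)
theorem F37299 : act 3 n11449 = n10140 := d19_1 D11449 (iv D10140) (iv F32638)
theorem F37300 : act 6 n11449 = n10972 := d25_2 D10139 D11449 F35412 F30123 F28421
def n11450 : Q := act 1 n10140
theorem D11450 : act 1 n10140 = n11450 := rfl
theorem F37301 : act 2 n11450 = n10329 := d7_2 (iv F32640) D11450 (iv F35874) F35875 (iv D10154)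
theorem F37302 : act 4 n11450 = n10351 := d9_2 (iv F32641) D11450 F33378
theorem F37303 : act 5 n11450 = n10636 := d10_2 D10140 D11450 F34305 F29541 (iv F27410)
theorem F37304 : act 6 n11450 = n10334 := d11_2 (iv F32642) D11450 (iv F33318)
theorem F37305 : act 7 n11450 = n10142 := d12_2 (iv F32643) D11450 (iv D10142)
theorem F37306 : act 0 n10330 = n11450 := d5_3 F37304 F33314 (iv F33301)
def n11451 : Q := act 0 n10142
theorem D11451 : act 0 n10142 = n11451 := rfl
theorem F37307 : act 1 n11451 = n10310 := d0_2 D10142 D11451 (iv D10310) (iv D8770) (iv F27419)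
theorem F37308 : act 4 n11451 = n10345 := d3_2 (iv F32649) D11451 F33348
theorem F37309 : act 5 n11451 = n10679 := d4_2 (iv F32650) D11451 F34474
theorem F37310 : act 6 n11451 = n10147 := d5_2 (iv F32651) D11451 (iv D10147)
theorem F37311 : act 7 n11451 = n10330 := d6_2 F37305 D11451 F37306
theorem F37312 : act 2 n10328 = n11451 := d17_3 F37311 (iv D10330) (iv F33295)
def n11452 : Q := act 2 n10142
theorem D11452 : act 2 n10142 = n11452 := rfl
theorem F37313 : act 0 n11452 = n10328 := d1_1 D11452 F37312 (iv D11451)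
theorem F37314 : act 1 n11452 = n10156 := d7_1 D11452 (iv D10156) (iv D8606) (iv F27420) D10142
theorem F37315 : act 4 n11452 = n10344 := d14_2 (iv F32649) D11452 (iv F33347)
theorem F37316 : act 5 n11452 = n10637 := d15_2 (iv F32650) D11452 F34311
theorem F37317 : act 6 n11452 = n10148 := d16_2 (iv F32651) D11452 (iv D10148)
theorem F37318 : act 7 n11452 = n10329 := d17_2 F37305 D11452 (iv F37301)
def n11453 : Q := act 7 n10143
theorem D11453 : act 7 n10143 = n11453 := rfl
theorem F37319 : act 0 n11453 = n10315 := d6_1 D11453 (iv D10315) (iv F32652)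
theorem F37320 : act 1 n11453 = n11188 := d12_1 D11453 (iv D11188) (iv F32653)
theorem F37321 : act 2 n11453 = n10146 := d17_1 D11453 (iv D10146) (iv F32654)
theorem F37322 : act 4 n11453 = n11190 := d24_1 D11453 (iv D11190) (iv F32656)
theorem F37323 : act 5 n11453 = n10144 := d26_1 D11453 (iv D10144) D10143
theorem F37324 : act 3 n10914 = n11453 := d30_4 (iv F29978) (iv F35227) F35226 D10914 (iv D11453) F32657 F31249 (iv D8180) F20607 F15521 F15524 (iv F16325) (iv D5246) (iv F16296) (iv F21442) (iv F26318) F28680 F28678 F27845 F27840 F22563 (iv F22613) (iv F27585) F27584 F23750 F23748 F21863 D7447 (iv F28801)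
def n11454 : Q := act 3 n10148
theorem D11454 : act 3 n10148 = n11454 := rfl
theorem F37325 : act 1 n11454 = n10159 := d8_1 D11454 (iv D10159) (iv F32668)
theorem F37326 : act 5 n11454 = n11454 := d19_2 F32669 D11454 (iv D11454)
theorem F37327 : act 7 n11454 = n11247 := d30_5 D5430 D7000 D8598 D10148 D11454 F36499 F35285 F30004 F24615 (iv F28748) (iv D9006) (iv D7415) (iv F21874) F22547 (iv D7119) (iv D5546) F12743 (iv F9501) D3412 D4722 F15202 (iv D4912) (iv D3563) F7691 F7690 (iv F7732) D3570 F10998 D4010
def n11455 : Q := act 5 n10150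
theorem D11455 : act 5 n10150 = n11455 := rfl
theorem F37328 : act 0 n11455 = n10327 := d4_1 D11455 (iv D10327) (iv F32673)
theorem F37329 : act 3 n11455 = n10151 := d19_1 D11455 (iv D10151) (iv F32675)
theorem F37330 : act 4 n11455 = n11238 := d22_1 D11455 (iv D11238) (iv F32676)
theorem F37331 : act 7 n11455 = n10205 := d26_2 F32677 D11455 F32867
def n11456 : Q := act 3 n10153
theorem D11456 : act 3 n10153 = n11456 := rfl
theorem F37332 : act 0 n11456 = n11169 := d2_1 D11456 F36205 (iv F33750)
theorem F37333 : act 2 n11456 = n11197 := d13_1 D11456 F36309 F31285 F27539 D10153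
theorem F37334 : act 5 n11456 = n10167 := d19_2 (iv F32687) D11456 (iv D10167)
theorem F37335 : act 6 n11456 = n11252 := d20_2 F35885 D11456 F36513
theorem F37336 : act 7 n11456 = n11170 := d21_2 (iv F33186) D11456 F36211 F31294 (iv F33183)
def n11457 : Q := act 3 n10156
theorem D11457 : act 3 n10156 = n11457 := rfl
theorem F37337 : act 2 n11457 = n11250 := d13_1 D11457 F36509 F34779 F30677 D10156
theorem F37338 : act 5 n11457 = n11457 := d19_2 F32697 D11457 (iv D11457)
theorem F37339 : act 6 n11457 = n10159 := d20_2 (iv F32698) D11457 (iv D10159)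
def n11458 : Q := act 3 n10157
theorem D11458 : act 3 n10157 = n11458 := rfl
theorem F37340 : act 0 n11458 = n10362 := d2_1 D11458 (iv D10362) (iv F32699)
theorem F37341 : act 2 n11458 = n10885 := d13_1 D11458 (iv D10885) F29879 F27919 (iv F32700)
theorem F37342 : act 5 n11458 = n10158 := d19_2 (iv F32701) D11458 (iv D10158)
theorem F37343 : act 6 n11458 = n11262 := d20_2 (iv F32702) D11458 (iv D11262)
theorem F37344 : act 7 n11458 = n10914 := d21_2 D10157 D11458 F37324 (iv D11453) F32655
def n11459 : Q := act 4 n10158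
theorem D11459 : act 4 n10158 = n11459 := rfl
theorem F37345 : act 0 n11459 = n10363 := d3_1 D11459 (iv D10363) (iv F32703)
theorem F37346 : act 2 n11459 = n10886 := d14_1 D11459 (iv D10886) (iv F32704)
theorem F37347 : act 6 n11459 = n10165 := d23_2 (iv F32705) D11459 (iv D10165)
theorem F37348 : act 7 n11459 = n10918 := d24_2 (iv F32706) D11459 (iv D10918)
def n11460 : Q := act 3 n10161
theorem D11460 : act 3 n10161 = n11460 := rfl
theorem F37349 : act 1 n11460 = n11273 := d8_1 D11460 (iv D11273) (iv F32716)
theorem F37350 : act 5 n11460 = n10162 := d19_2 (iv F32719) D11460 (iv D10162)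
theorem F37351 : act 7 n11460 = n11300 := d21_2 D10161 D11460 (iv D11300) F31631 F28160
def n11461 : Q := act 2 n10162
theorem D11461 : act 2 n10162 = n11461 := rfl
theorem F37352 : act 0 n11461 = n10260 := d1_1 D11461 (iv F33393) F33392
theorem F37353 : act 1 n11461 = n10851 := d7_1 D11461 (iv D10851) F29827 F27927 (iv F32720)
theorem F37354 : act 3 n11461 = n10169 := d13_2 D10162 D11461 (iv D10169) (iv D8623) (iv F27481)
theorem F37355 : act 6 n11461 = n10887 := d16_2 F32730 D11461 F35116
theorem F37356 : act 7 n11461 = n11317 := d17_2 (iv F32721) D11461 F36772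
def n11462 : Q := act 4 n10162
theorem D11462 : act 4 n10162 = n11462 := rfl
theorem F37357 : act 1 n11462 = n10165 := d9_1 D11462 (iv D10165) (iv F32720)
theorem F37358 : act 3 n11462 = n11459 := d18_1 D11462 (iv D11459) (iv D10158) (iv F27482) D10162
theorem F37359 : act 7 n11462 = n11321 := d24_2 (iv F32721) D11462 (iv D11321)
def n11463 : Q := act 4 n10164
theorem D11463 : act 4 n10164 = n11463 := rfl
theorem F37360 : act 0 n11463 = n10384 := d3_1 D11463 (iv D10384) (iv F32727)
theorem F37361 : act 1 n11463 = n11459 := d9_1 D11463 (iv D11459) (iv F32728)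
theorem F37362 : act 3 n11463 = n10165 := d18_1 D11463 (iv D10165) (iv D8616) (iv F27491) D10164
theorem F37363 : act 5 n11463 = n11278 := d22_2 (iv F32729) D11463 (iv D11278)
theorem F37364 : act 6 n11463 = n11462 := d23_2 (iv F32730) D11463 (iv D11462)
def n11464 : Q := act 3 n10171
theorem D11464 : act 3 n10171 = n11464 := rfl
theorem F37365 : act 0 n11464 = n10179 := d2_1 D11464 (iv D10179) (iv F32753)
theorem F37366 : act 5 n11464 = n10172 := d19_2 (iv F32756) D11464 (iv D10172)
def n11465 : Q := act 2 n10172
theorem D11465 : act 2 n10172 = n11465 := rfl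
theorem F37367 : act 0 n11465 = n10181 := d1_1 D11465 (iv D10181) (iv F32757)
theorem F37368 : act 1 n11465 = n11465 := d7_1 D11465 (iv D11465) F32758 F29227 (iv F32758)
theorem F37369 : act 3 n11465 = n10245 := d13_2 D10172 D11465 F33020 F27784 (iv F27530)
theorem F37370 : act 4 n11465 = n10952 := d14_2 F36125 D11465 (iv F36123)
theorem F37371 : act 6 n11465 = n11465 := d16_2 F32759 D11465 (iv D11465)
theorem F37372 : act 7 n11465 = n11292 := d17_2 F33370 D11465 F36661
def n11466 : Q := act 3 n10173
theorem D11466 : act 3 n10173 = n11466 := rfl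
theorem F37373 : act 0 n11466 = n10536 := d2_1 D11466 (iv D10536) (iv F32760)
theorem F37374 : act 5 n11466 = n10195 := d19_2 (iv F32761) D11466 (iv D10195)
def n11467 : Q := act 3 n10178
theorem D11467 : act 3 n10178 = n11467 := rfl
theorem F37375 : act 1 n11467 = n10179 := d8_1 D11467 (iv D10179) (iv F32778)
theorem F37376 : act 2 n11467 = n11121 := d13_1 D11467 F35982 F33710 (iv F35203) (iv F35208)
theorem F37377 : act 5 n11467 = n11467 := d19_2 F32779 D11467 (iv D11467)
theorem F37378 : act 6 n11467 = n11120 := d20_2 F35421 D11467 F35979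
theorem F37379 : act 7 n11467 = n11305 := d21_2 D10178 D11467 F36718 F34811 F32742
def n11468 : Q := act 2 n10179
theorem D11468 : act 2 n10179 = n11468 := rfl
theorem F37380 : act 1 n11468 = n10929 := d7_1 D11468 F35276 (iv F35981) (iv F37376) F37375
theorem F37381 : act 4 n11468 = n10931 := d14_2 F36488 D11468 (iv F36487)
theorem F37382 : act 5 n11468 = n10181 := d15_2 (iv F32780) D11468 (iv D10181)
def n11469 : Q := act 6 n10179
theorem D11469 : act 6 n10179 = n11469 := rfl
theorem F37383 : act 1 n11469 = n11120 := d11_1 D11469 (iv F37378) F37375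
theorem F37384 : act 3 n11469 = n10180 := d20_1 D11469 (iv D10180) D10179
theorem F37385 : act 5 n11469 = n11469 := d25_1 D11469 (iv D11469) F32780 F27546 (iv F32780)
theorem F37386 : act 7 n11469 = n11303 := d27_2 F36483 D11469 F36713 (iv F31643) (iv F36482)
def n11470 : Q := act 4 n10186
theorem D11470 : act 4 n10186 = n11470 := rfl
theorem F37387 : act 0 n11470 = n10252 := d3_1 D11470 F33051 (iv F32800)
theorem F37388 : act 2 n11470 = n10187 := d14_1 D11470 (iv D10187) D10186
theorem F37389 : act 3 n11470 = n11451 := d18_1 D11470 F37308 (iv F33351) (iv F33629) F33628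
theorem F37390 : act 5 n11470 = n10189 := d22_2 (iv F32801) D11470 (iv D10189)
theorem F37391 : act 7 n11470 = n10829 := d24_2 F34905 D11470 F34964
theorem F37392 : act 6 n11307 = n11470 := d27_5 F37391 F34966 (iv D9901) (iv F31662) D11307
def n11471 : Q := act 6 n10186
theorem D11471 : act 6 n10186 = n11471 := rfl
theorem F37393 : act 0 n11471 = n10253 := d5_1 D11471 F33059 (iv F32800)
theorem F37394 : act 1 n11471 = n10720 := d11_1 D11471 (iv F35043) F35041
theorem F37395 : act 2 n11471 = n10188 := d16_1 D11471 (iv D10188) D10186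
theorem F37396 : act 3 n11471 = n11341 := d20_1 D11471 F36869 F33628
theorem F37397 : act 4 n11471 = n11307 := d23_1 D11471 F37392 (iv D11470)
theorem F37398 : act 5 n11471 = n11471 := d25_1 D11471 (iv D11471) F32801 F27557 (iv F32801)
theorem F37399 : act 7 n11471 = n10719 := d27_2 F34905 D11471 F34629 (iv F29760) (iv F34904)
def n11472 : Q := act 3 n10190
theorem D11472 : act 3 n10190 = n11472 := rfl
theorem F37400 : act 0 n11472 = n10191 := d2_1 D11472 (iv D10191) (iv F32817)
theorem F37401 : act 1 n11472 = n10679 := d8_1 D11472 F34475 (iv F32818)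
theorem F37402 : act 2 n11472 = n10639 := d13_1 D11472 F34319 F29611 (iv F27563) D10190
theorem F37403 : act 4 n11472 = n10658 := d18_2 (iv F32819) D11472 F34395 F29502 (iv F27571)
theorem F37404 : act 6 n11472 = n11472 := d20_2 F32820 D11472 (iv D11472)
theorem F37405 : act 7 n11472 = n10640 := d30_5 (iv F22990) F22989 (iv F27562) D10190 D11472 F34326 F29091 F24326 (iv D6088) (iv F19119) (iv F20623) F20622 F18850 F18848 (iv F20494) (iv F24976) F24978 F22212 (iv F20804) (iv F20820) F20821 F15713 F11450 D3943 D5351 (iv F20265) (iv F23712) F23713 F23716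
def n11473 : Q := act 4 n10195
theorem D11473 : act 4 n10195 = n11473 := rfl
theorem F37406 : act 0 n11473 = n10537 := d3_1 D11473 (iv D10537) (iv F32836)
theorem F37407 : act 1 n11473 = n10199 := d9_1 D11473 (iv D10199) (iv F32837)
theorem F37408 : act 6 n11473 = n10542 := d23_2 (iv F32838) D11473 (iv D10542)
def n11474 : Q := act 3 n10197
theorem D11474 : act 3 n10197 = n11474 := rfl
theorem F37409 : act 0 n11474 = n10885 := d2_1 D11474 (iv D10885) (iv F32843)
theorem F37410 : act 2 n11474 = n10362 := d13_1 D11474 (iv D10362) F28105 (iv F27603) D10197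
theorem F37411 : act 5 n11474 = n10198 := d19_2 (iv F32844) D11474 (iv D10198)
theorem F37412 : act 7 n11474 = n10550 := d21_2 (iv F32845) D11474 (iv D10550) (iv D9031) (iv F27713)
def n11475 : Q := act 4 n10198
theorem D11475 : act 4 n10198 = n11475 := rfl
theorem F37413 : act 0 n11475 = n10886 := d3_1 D11475 (iv D10886) (iv F32846)
theorem F37414 : act 1 n11475 = n10542 := d9_1 D11475 (iv D10542) (iv F32847)
theorem F37415 : act 2 n11475 = n10363 := d14_1 D11475 (iv D10363) (iv F32848)
theorem F37416 : act 6 n11475 = n10199 := d23_2 (iv F32849) D11475 (iv D10199)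
theorem F37417 : act 7 n11475 = n10552 := d24_2 (iv F32850) D11475 (iv D10552)
def n11476 : Q := act 2 n10200
theorem D11476 : act 2 n10200 = n11476 := rfl
theorem F37418 : act 3 n11476 = n11468 := d13_2 D10200 D11476 (iv D11468) (iv D10179) (iv F27611)
theorem F37419 : act 4 n11476 = n10976 := d14_2 F35970 D11476 (iv F35968)
theorem F37420 : act 5 n11476 = n10202 := d15_2 (iv F32852) D11476 (iv D10202)
theorem F37421 : act 1 n11476 = n10981 := d28_4 F25298 (iv F27612) D10200 D11476 F35440 F30141 (iv F30078) (iv D9440) (iv D7808) (iv D6173) (iv D4666) (iv D3370) F7240 F7200 F5020 F4635 F3174 (iv D663) F1374 F775 (iv F1166) D583 D870 F2820 (iv F2904) F2906 F2907 F2903 F2905 (iv D892) F2018 F2017 F1471 (iv D295) F533 F310 F190 (iv F334) (iv F515) (iv F807) D457 (iv F2270) (iv F3142) (iv F4604) (iv F6691) (iv F9668) D4385 (iv F18312) (iv F23543) F23545 F19217 F14329 (iv F19231) D7760 F24539 (iv F23605) F23608 (iv F23597) (iv F27708) (iv F30724) F30726 (iv D9630)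
def n11477 : Q := act 6 n10200
theorem D11477 : act 6 n10200 = n11477 := rfl
theorem F37422 : act 3 n11477 = n10201 := d20_1 D11477 (iv D10201) D10200
theorem F37423 : act 5 n11477 = n11477 := d25_1 D11477 (iv D11477) F32852 F27615 (iv F32852)
def n11478 : Q := act 3 n10204
theorem D11478 : act 3 n10204 = n11478 := rfl
theorem F37424 : act 1 n11478 = n10205 := d8_1 D11478 (iv D10205) (iv F32864)
theorem F37425 : act 5 n11478 = n11478 := d19_2 F32866 D11478 (iv D11478)
def n11479 : Q := act 4 n10205
theorem D11479 : act 4 n10205 = n11479 := rfl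
theorem F37426 : act 2 n11479 = n10963 := d14_1 D11479 (iv F35935) F35933
theorem F37427 : act 3 n11479 = n11244 := d18_1 D11479 F36488 (iv D10179) (iv F27625) D10205
theorem F37428 : act 5 n11479 = n10207 := d22_2 (iv F32867) D11479 (iv D10207)
theorem F37429 : act 7 n11479 = n11238 := d24_2 F37331 D11479 (iv F37330)
def n11480 : Q := act 6 n10205
theorem D11480 : act 6 n10205 = n11480 := rfl
theorem F37430 : act 3 n11480 = n10206 := d20_1 D11480 (iv D10206) D10205
theorem F37431 : act 5 n11480 = n11480 := d25_1 D11480 (iv D11480) F32867 F27628 (iv F32867)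
def n11481 : Q := act 2 n10208
theorem D11481 : act 2 n10208 = n11481 := rfl
theorem F37432 : act 3 n11481 = n10225 := d13_2 D10208 D11481 (iv D10225) (iv D8674) (iv F27630)
theorem F37433 : act 5 n11481 = n10286 := d15_2 (iv F32877) D11481 (iv D10286)
theorem F37434 : act 7 n11481 = n10710 := d17_2 F36338 D11481 F36339
def n11482 : Q := act 4 n10208
theorem D11482 : act 4 n10208 = n11482 := rfl
theorem F37435 : act 3 n11482 = n10217 := d18_1 D11482 (iv D10217) (iv D8667) (iv F27631) D10208
theorem F37436 : act 5 n11482 = n10287 := d22_2 (iv F32877) D11482 (iv D10287)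
def n11483 : Q := act 6 n10208
theorem D11483 : act 6 n10208 = n11483 := rfl
theorem F37437 : act 0 n11483 = n10971 := d5_1 D11483 F35411 F33684
theorem F37438 : act 1 n11483 = n10586 := d11_1 D11483 (iv F36333) F36331
theorem F37439 : act 3 n11483 = n10209 := d20_1 D11483 (iv D10209) D10208
def n11484 : Q := act 5 n10209
theorem D11484 : act 5 n10209 = n11484 := rfl
theorem F37440 : act 0 n11484 = n10366 := d4_1 D11484 F33409 (iv F32878)
theorem F37441 : act 1 n11484 = n10323 := d10_1 D11484 F33281 (iv F30438) F30441 (iv F32879)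
theorem F37442 : act 2 n11484 = n10227 := d15_1 D11484 (iv D10227) (iv F32880)
theorem F37443 : act 4 n11484 = n10219 := d22_1 D11484 (iv D10219) (iv F32881)
theorem F37444 : act 6 n11484 = n10289 := d25_2 D10209 D11484 (iv D10289) (iv D8756) (iv F27632)
theorem F37445 : act 7 n11484 = n10211 := d26_2 (iv F32882) D11484 (iv D10211)
def n11485 : Q := act 5 n10210
theorem D11485 : act 5 n10210 = n11485 := rfl
theorem F37446 : act 0 n11485 = n10961 := d4_1 D11485 (iv D10961) (iv F32883)
theorem F37447 : act 2 n11485 = n10981 := d15_1 D11485 F35440 (iv F32885)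
theorem F37448 : act 3 n11485 = n10211 := d19_1 D11485 (iv D10211) (iv F32886)
theorem F37449 : act 4 n11485 = n10563 := d22_1 D11485 (iv D10563) (iv F32887)
theorem F37450 : act 6 n11485 = n10214 := d25_2 D10210 D11485 (iv D10214) (iv D8664) (iv F27637)
def n11486 : Q := act 7 n10210
theorem D11486 : act 7 n10210 = n11486 := rfl
theorem F37451 : act 0 n11486 = n10962 := d6_1 D11486 (iv D10962) (iv F32883)
theorem F37452 : act 1 n11486 = n10577 := d12_1 D11486 (iv D10577) (iv F32884)
theorem F37453 : act 2 n11486 = n10983 := d17_1 D11486 (iv D10983) (iv F32885)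
theorem F37454 : act 4 n11486 = n10564 := d24_1 D11486 (iv D10564) (iv F32887)
def n11487 : Q := act 5 n10212
theorem D11487 : act 5 n10212 = n11487 := rfl
theorem F37455 : act 2 n11487 = n10214 := d15_1 D11487 (iv D10214) (iv F32893)
theorem F37456 : act 3 n11487 = n10230 := d19_1 D11487 (iv D10230) (iv F32894)
theorem F37457 : act 4 n11487 = n10912 := d22_1 D11487 F35224 (iv F32895)
theorem F37458 : act 6 n11487 = n10981 := d25_2 D10212 D11487 F35440 F30141 (iv F27644)
theorem F37459 : act 7 n11487 = n11159 := d26_2 (iv F32896) D11487 F36166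
def n11488 : Q := act 5 n10213
theorem D11488 : act 5 n10213 = n11488 := rfl
theorem F37460 : act 0 n11488 = n10500 := d4_1 D11488 (iv D10500) (iv F32897)
theorem F37461 : act 1 n11488 = n11219 := d10_1 D11488 F36395 F31345 (iv F28477) (iv F32898)
theorem F37462 : act 2 n11488 = n10912 := d15_1 D11488 F35224 (iv F32899)
theorem F37463 : act 3 n11488 = n10221 := d19_1 D11488 (iv D10221) (iv F32900)
theorem F37464 : act 4 n11488 = n10214 := d22_1 D11488 (iv D10214) (iv F32901)
theorem F37465 : act 6 n11488 = n10563 := d25_2 D10213 D11488 (iv D10563) (iv D9044) (iv F27651)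
theorem F37466 : act 7 n11488 = n11218 := d26_2 (iv F32902) D11488 F36391
def n11489 : Q := act 1 n10214
theorem D11489 : act 1 n10214 = n11489 := rfl
theorem F37467 : act 3 n11489 = n10215 := d8_2 (iv F32903) D11489 (iv D10215)
theorem F37468 : act 4 n11489 = n11219 := d9_2 F37464 D11489 (iv F37461)
theorem F37469 : act 5 n11489 = n10480 := d10_2 D10214 D11489 (iv D10480) (iv D8932) (iv F27653)
theorem F37470 : act 7 n11489 = n11217 := d12_2 F36835 D11489 (iv F36831)
theorem F37471 : act 0 n11440 = n11489 := d6_3 F37470 F36385 (iv F37263)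
def n11490 : Q := act 4 n10216
theorem D11490 : act 4 n10216 = n11490 := rfl
theorem F37472 : act 0 n11490 = n10619 := d3_1 D11490 F34256 (iv F32907)
theorem F37473 : act 1 n11490 = n10217 := d9_1 D11490 (iv D10217) (iv F32908)
theorem F37474 : act 2 n11490 = n10709 := d14_1 D11490 F34593 F32911
theorem F37475 : act 6 n11490 = n10589 := d23_2 (iv F32909) D11490 (iv D10589)
theorem F37476 : act 7 n11490 = n10287 := d24_2 (iv F32910) D11490 (iv D10287)
def n11491 : Q := act 6 n10217
theorem D11491 : act 6 n10217 = n11491 := rfl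
theorem F37477 : act 0 n11491 = n10973 := d5_1 D11491 F35415 F33703
theorem F37478 : act 1 n11491 = n10589 := d11_1 D11491 (iv F37475) F37473
theorem F37479 : act 2 n11491 = n10867 := d16_1 D11491 (iv F36965) F36963
theorem F37480 : act 4 n11491 = n10218 := d23_1 D11491 (iv D10218) D10217
theorem F37481 : act 7 n10574 = n11491 := d24_0 F37480 (iv F32917) D10574
def n11492 : Q := act 5 n10218
theorem D11492 : act 5 n10218 = n11492 := rfl
theorem F37482 : act 0 n11492 = n10972 := d4_1 D11492 F35412 (iv F32913)
theorem F37483 : act 2 n11492 = n10864 := d15_1 D11492 F35060 (iv F32915)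
theorem F37484 : act 3 n11492 = n10219 := d19_1 D11492 (iv D10219) (iv F32916)
theorem F37485 : act 6 n11492 = n10303 := d25_2 D10218 D11492 (iv D10303) (iv D8765) (iv F27662)
theorem F37486 : act 7 n11492 = n10572 := d26_2 F32917 D11492 F34090
def n11493 : Q := act 1 n10219
theorem D11493 : act 1 n10219 = n11493 := rfl
theorem F37487 : act 0 n11493 = n10292 := d0_1 D11493 F33205 (iv F33314) (iv F33318) (iv F32918)
theorem F37488 : act 2 n11493 = n10291 := d7_2 (iv F32919) D11493 (iv F35961) F35962 F30840
theorem F37489 : act 4 n11493 = n10323 := d9_2 F37443 D11493 (iv F37441)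
theorem F37490 : act 5 n11493 = n10506 := d10_2 D10219 D11493 (iv F33886) F28921 (iv F27664)
theorem F37491 : act 6 n11493 = n10305 := d11_2 (iv F32920) D11493 (iv D10305)
theorem F37492 : act 7 n11493 = n10220 := d12_2 (iv F32921) D11493 (iv D10220)
def n11494 : Q := act 5 n10226
theorem D11494 : act 5 n10226 = n11494 := rfl
theorem F37493 : act 3 n11494 = n10227 := d19_1 D11494 (iv D10227) (iv F32941)
theorem F37494 : act 6 n11494 = n10327 := d25_2 D10226 D11494 (iv D10327) (iv D8782) (iv F27686)
def n11495 : Q := act 7 n10228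
theorem D11495 : act 7 n10228 = n11495 := rfl
theorem F37495 : act 4 n11495 = n11337 := d24_1 D11495 F36848 F34648
theorem F37496 : act 5 n11495 = n10229 := d26_1 D11495 (iv D10229) D10228
def n11496 : Q := act 1 n10230
theorem D11496 : act 1 n10230 = n11496 := rfl
theorem F37497 : act 2 n11496 = n11469 := d7_2 (iv F32950) D11496 F37383 F35978 F30835
theorem F37498 : act 5 n11496 = n11496 := d10_2 D10230 D11496 (iv D11496) (iv D10230) F27695
theorem F37499 : act 6 n11496 = n11468 := d11_2 F35278 D11496 F37380
def n11497 : Q := act 5 n10233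
theorem D11497 : act 5 n10233 = n11497 := rfl
theorem F37500 : act 0 n11497 = n10235 := d4_1 D11497 (iv D10235) (iv F32956)
theorem F37501 : act 2 n11497 = n11296 := d15_1 D11497 (iv D11296) (iv F32958)
theorem F37502 : act 3 n11497 = n10234 := d19_1 D11497 (iv D10234) (iv F32959)
theorem F37503 : act 4 n11497 = n10238 := d22_1 D11497 (iv D10238) (iv F32960)
theorem F37504 : act 6 n11497 = n10522 := d25_2 D10233 D11497 (iv D10522) (iv D9002) (iv F27723)
theorem F37505 : act 7 n11497 = n11118 := d26_2 F32961 D11497 (iv D11118)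
def n11498 : Q := act 5 n10236
theorem D11498 : act 5 n10236 = n11498 := rfl
theorem F37506 : act 0 n11498 = n10244 := d4_1 D11498 (iv D10244) (iv F32972)
theorem F37507 : act 2 n11498 = n10238 := d15_1 D11498 (iv D10238) (iv F32974)
theorem F37508 : act 3 n11498 = n11287 := d19_1 D11498 (iv D11287) (iv F32975)
theorem F37509 : act 4 n11498 = n11296 := d22_1 D11498 (iv D11296) (iv F32976)
theorem F37510 : act 6 n11498 = n11286 := d25_2 D10236 D11498 (iv D11286) (iv D9864) F27748
theorem F37511 : act 7 n11498 = n11476 := d26_2 F32977 D11498 F37420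
def n11499 : Q := act 5 n10237
theorem D11499 : act 5 n10237 = n11499 := rfl
theorem F37512 : act 0 n11499 = n10246 := d4_1 D11499 (iv D10246) (iv F32978)
theorem F37513 : act 1 n11499 = n11101 := d10_1 D11499 (iv D11101) F30720 (iv F28672) (iv F32979)
theorem F37514 : act 2 n11499 = n11286 := d15_1 D11499 (iv D11286) (iv F32980)
theorem F37515 : act 3 n11499 = n10239 := d19_1 D11499 (iv D10239) (iv F32981)
theorem F37516 : act 4 n11499 = n10522 := d22_1 D11499 (iv D10522) (iv F32982)
theorem F37517 : act 6 n11499 = n10238 := d25_2 D10237 D11499 (iv D10238) (iv D8695) D8694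
theorem F37518 : act 7 n11499 = n11105 := d26_2 F32983 D11499 F35908
def n11500 : Q := act 1 n10238
theorem D11500 : act 1 n10238 = n11500 := rfl
theorem F37519 : act 0 n11500 = n11310 := d0_1 D11500 F36740 F35855 (iv D10247) (iv F32984)
theorem F37520 : act 3 n11500 = n10241 := d8_2 (iv F32985) D11500 (iv D10241)
theorem F37521 : act 5 n11500 = n10263 := d10_2 D10238 D11500 (iv D10263) (iv D8721) (iv F27756)
theorem F37522 : act 6 n11500 = n11101 := d11_2 F37517 D11500 (iv F37513)
theorem F37523 : act 7 n11500 = n10273 := d12_2 (iv F32986) D11500 F33140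
def n11501 : Q := act 7 n10244
theorem D11501 : act 7 n10244 = n11501 := rfl
theorem F37524 : act 0 n11501 = n11476 := d6_1 D11501 (iv F37511) F37506
theorem F37525 : act 2 n11501 = n10248 := d17_1 D11501 (iv D10248) (iv F33014)
theorem F37526 : act 4 n11501 = n11120 := d24_1 D11501 F35980 (iv F33016)
theorem F37527 : act 5 n11501 = n10245 := d26_1 D11501 (iv D10245) D10244
def n11502 : Q := act 1 n10246
theorem D11502 : act 1 n10246 = n11502 := rfl
theorem F37528 : act 0 n11502 = n11308 := d0_1 D11502 F36732 (iv F35895) (iv F37513) F37512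
theorem F37529 : act 2 n11502 = n11454 := d7_2 (iv F33023) D11502 F37325 F32707 (iv F31579)
theorem F37530 : act 3 n11502 = n10249 := d8_2 (iv F33024) D11502 (iv D10249)
theorem F37531 : act 4 n11502 = n11301 := d9_2 (iv F33025) D11502 (iv D11301)
theorem F37532 : act 5 n11502 = n11502 := d10_2 D10246 D11502 (iv D11502) (iv D10246) F27777
theorem F37533 : act 6 n11502 = n10247 := d11_2 (iv F33026) D11502 (iv D10247)
def n11503 : Q := act 2 n10247
theorem D11503 : act 2 n10247 = n11503 := rfl
theorem F37534 : act 1 n11503 = n11457 := d7_1 D11503 F37337 F36508 F33014 D10247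
theorem F37535 : act 3 n11503 = n11452 := d13_2 (iv F33027) D11503 (iv D11452) F33055 (iv D10252)
theorem F37536 : act 4 n11503 = n11364 := d14_2 (iv F33028) D11503 F36980
theorem F37537 : act 5 n11503 = n10259 := d15_2 (iv F33029) D11503 (iv D10259)
theorem F37538 : act 6 n11503 = n11454 := d16_2 F37533 D11503 (iv F37529)
theorem F37539 : act 7 n11503 = n10927 := d17_2 F33030 D11503 F35266
def n11504 : Q := act 6 n10248
theorem D11504 : act 6 n10248 = n11504 := rfl
theorem F37540 : act 0 n11504 = n11477 := d5_1 D11504 (iv D11477) (iv F33031)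
theorem F37541 : act 1 n11504 = n10726 := d11_1 D11504 F34649 (iv F33032)
theorem F37542 : act 3 n11504 = n10698 := d20_1 D11504 (iv D10698) (iv F33033)
theorem F37543 : act 4 n11504 = n11121 := d23_1 D11504 (iv D11121) (iv F33034)
theorem F37544 : act 5 n11504 = n11504 := d25_1 D11504 (iv D11504) F33035 F27786 (iv F33035)
def n11505 : Q := act 4 n10251
theorem D11505 : act 4 n10251 = n11505 := rfl
theorem F37545 : act 0 n11505 = n11383 := d3_1 D11505 F37062 (iv F33047)
theorem F37546 : act 1 n11505 = n11505 := d9_1 D11505 (iv D11505) F33048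
theorem F37547 : act 3 n11505 = n10257 := d18_1 D11505 (iv D10257) (iv D8710) (iv F27790) D10251
theorem F37548 : act 5 n11505 = n11082 := d22_2 F36788 D11505 (iv F36787)
theorem F37549 : act 6 n11505 = n10487 := d23_2 (iv F33049) D11505 (iv D10487)
def n11506 : Q := act 7 n10253
theorem D11506 : act 7 n10253 = n11506 := rfl
theorem F37550 : act 0 n11506 = n10719 := d6_1 D11506 (iv F37399) F37393
theorem F37551 : act 1 n11506 = n11340 := d12_1 D11506 (iv D11340) (iv F33056)
theorem F37552 : act 2 n11506 = n10254 := d17_1 D11506 (iv D10254) D10253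
theorem F37553 : act 3 n11506 = n11361 := d21_1 D11506 F36970 (iv F36876) (iv D11342) F33060
theorem F37554 : act 4 n11506 = n11306 := d24_1 D11506 F36725 (iv F33057)
theorem F37555 : act 5 n11506 = n11506 := d26_1 D11506 (iv D11506) F33058
theorem F37556 : act 6 n11506 = n10740 := d27_1 D11506 (iv F34909) F34908 (iv D10258) (iv F33059)
def n11507 : Q := act 3 n10254
theorem D11507 : act 3 n10254 = n11507 := rfl
theorem F37557 : act 0 n11507 = n11303 := d2_1 D11507 F36710 (iv F33061)
theorem F37558 : act 1 n11507 = n10255 := d8_1 D11507 (iv D10255) (iv F33062)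
theorem F37559 : act 4 n11507 = n11086 := d18_2 (iv F33063) D11507 F35830 (iv F31841) F31840
theorem F37560 : act 5 n11507 = n11507 := d19_2 F33064 D11507 (iv D11507)
theorem F37561 : act 6 n11507 = n11085 := d20_2 (iv F33065) D11507 F35828
def n11508 : Q := act 4 n10255
theorem D11508 : act 4 n10255 = n11508 := rfl
theorem F37562 : act 1 n11508 = n11086 := d9_1 D11508 (iv F37559) F37558
theorem F37563 : act 3 n11508 = n11082 := d18_1 D11508 (iv F36787) F36786 F33044 D10255
theorem F37564 : act 5 n11508 = n10257 := d22_2 (iv F33066) D11508 (iv D10257)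
theorem F37565 : act 6 n11081 = n11508 := d25_0 F37564 F33073 (iv F33795) (iv F33796) D11081
def n11509 : Q := act 6 n10255
theorem D11509 : act 6 n10255 = n11509 := rfl
theorem F37566 : act 0 n11509 = n11297 := d5_1 D11509 F36687 F35441
theorem F37567 : act 1 n11509 = n11085 := d11_1 D11509 (iv F37561) F37558
theorem F37568 : act 3 n11509 = n10256 := d20_1 D11509 (iv D10256) D10255
theorem F37569 : act 4 n11509 = n11081 := d23_1 D11509 F37565 (iv D11508)
theorem F37570 : act 5 n11509 = n10490 := d25_1 D11509 (iv D10490) F28516 (iv F27799) (iv F33066)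
theorem F37571 : act 7 n11326 = n11509 := d30_29 (iv D11509) F33066 F27798 (iv F30097) D10965 F35393 F30106 (iv F33582) (iv F36747) F36748 (iv D10706) (iv D9201) F24072 (iv D5987) F13922 F9969 F6907 F4787 (iv D1517) (iv F4333) (iv F6249) (iv F9078) D4151 (iv F15639) D6605 D8215 D9807 (iv F31795) D11326
def n11510 : Q := act 3 n10258
theorem D11510 : act 3 n10258 = n11510 := rfl
theorem F37572 : act 5 n11510 = n10260 := d19_2 (iv F33076) D11510 (iv D10260)
def n11511 : Q := act 4 n10260
theorem D11511 : act 4 n10260 = n11511 := rfl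
theorem F37573 : act 1 n11511 = n10261 := d9_1 D11511 (iv D10261) (iv F33081)
theorem F37574 : act 3 n11511 = n10833 := d18_1 D11511 (iv D10833) (iv D9335) (iv F27818) D10260
def n11512 : Q := act 2 n10263
theorem D11512 : act 2 n10263 = n11512 := rfl
theorem F37575 : act 0 n11512 = n10602 := d1_1 D11512 F34199 (iv F33092)
theorem F37576 : act 1 n11512 = n11128 := d7_1 D11512 F36012 F35653 F30466 D10263
theorem F37577 : act 6 n11512 = n10579 := d16_2 (iv F33094) D11512 F34113
theorem F37578 : act 7 n11512 = n10275 := d17_2 (iv F33095) D11512 (iv D10275)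
def n11513 : Q := act 3 n10267
theorem D11513 : act 3 n10267 = n11513 := rfl
theorem F37579 : act 0 n11513 = n10273 := d2_1 D11513 (iv D10273) (iv F33113)
theorem F37580 : act 1 n11513 = n10459 := d8_1 D11513 F33682 (iv F33114)
theorem F37581 : act 2 n11513 = n11110 := d13_1 D11513 F35930 F30790 (iv F32929) (iv F33115)
theorem F37582 : act 4 n11513 = n10475 := d18_2 (iv F33116) D11513 F33743 F28452 (iv F27924)
theorem F37583 : act 5 n11513 = n10268 := d19_2 (iv F33117) D11513 (iv D10268)
theorem F37584 : act 7 n11513 = n11310 := d21_2 D10267 D11513 F36741 F31669 (iv F27894)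
def n11514 : Q := act 2 n10273
theorem D11514 : act 2 n10273 = n11514 := rfl
theorem F37585 : act 0 n11514 = n11110 := d1_1 D11514 (iv F37581) F37579
theorem F37586 : act 1 n11514 = n11485 := d7_1 D11514 F37447 (iv F37421) (iv D11476) (iv F33140)
theorem F37587 : act 3 n11514 = n11114 := d13_2 D10273 D11514 F35943 F33139 F33136
theorem F37588 : act 5 n11514 = n10275 := d15_2 (iv F33141) D11514 (iv D10275)
theorem F37589 : act 6 n11489 = n11514 := d25_0 F37588 F33148 (iv F32407) (iv F33762) (iv F37469)
def n11515 : Q := act 4 n10273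
theorem D11515 : act 4 n10273 = n11515 := rfl
theorem F37590 : act 0 n11515 = n10475 := d3_1 D11515 (iv F37582) F37579
theorem F37591 : act 1 n11515 = n11118 := d9_1 D11515 F35970 (iv F33140)
theorem F37592 : act 3 n11515 = n10284 := d18_1 D11515 (iv D10284) (iv D8751) (iv F27940) D10273
theorem F37593 : act 5 n11515 = n10276 := d22_2 (iv F33141) D11515 (iv D10276)
theorem F37594 : act 6 n10477 = n11515 := d25_0 F37593 F33152 F28631 (iv F28471) (iv F33751)
def n11516 : Q := act 6 n10273
theorem D11516 : act 6 n10273 = n11516 := rfl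
theorem F37595 : act 1 n11516 = n11477 := d11_1 D11516 (iv D11477) (iv F33140)
theorem F37596 : act 2 n11516 = n11489 := d16_1 D11516 F37589 (iv D11514)
theorem F37597 : act 3 n11516 = n10274 := d20_1 D11516 (iv D10274) D10273
theorem F37598 : act 4 n11516 = n10477 := d23_1 D11516 F37594 (iv D11515)
theorem F37599 : act 5 n11516 = n10479 := d25_1 D11516 F33758 F28624 (iv F27943) (iv F33141)
theorem F37600 : act 7 n11516 = n11091 := d27_2 F37523 D11516 F35852 (iv F35897) (iv F37522)
def n11517 : Q := act 3 n10279
theorem D11517 : act 3 n10279 = n11517 := rfl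
theorem F37601 : act 1 n11517 = n10280 := d8_1 D11517 (iv D10280) (iv F33158)
theorem F37602 : act 4 n11517 = n11113 := d18_2 F35204 D11517 F35939 (iv F33706) (iv F35203)
theorem F37603 : act 5 n11517 = n11517 := d19_2 F33160 D11517 (iv D11517)
theorem F37604 : act 6 n11517 = n11112 := d20_2 F35398 D11517 F35937
def n11518 : Q := act 2 n10280
theorem D11518 : act 2 n10280 = n11518 := rfl
theorem F37605 : act 0 n11518 = n10477 := d1_1 D11518 (iv F36393) F36392
theorem F37606 : act 3 n11518 = n10283 := d13_2 D10280 D11518 (iv D10283) (iv D8751) (iv F27958)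
theorem F37607 : act 5 n11518 = n10282 := d15_2 (iv F33161) D11518 (iv D10282)
theorem F37608 : act 1 n11518 = n10472 := d28_4 (iv F33135) F33137 D10280 D11518 (iv D10472) (iv D8919) F23104 (iv F24103) (iv D7611) F18800 F13977 F10014 (iv F7240) F7238 (iv F6736) F6735 F4652 F3189 F2190 (iv D665) (iv F1916) D864 (iv F2800) F2482 F1717 (iv F2024) F2025 F2022 F1534 (iv D459) F820 F466 (iv F523) D289 F916 F918 F527 F294 (iv F336) F1396 F464 (iv F704) D392 D606 (iv F2820) (iv F4088) D1920 D2817 (iv F12379) F12381 F12380 F8691 (iv F12393) D5397 F16879 (iv F18389) F18392 F13635 (iv F18408) D7474 (iv F28866) (iv F32931)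
theorem F37609 : act 6 n11518 = n10475 := d31_4 D10120 (iv F37263) F37261 D11518 F33743 F28453 F23135 F22247 D7021 F22250 D8619 (iv F32708) (iv F32709) (iv F36497) F36496 (iv F36482) F36480 (iv D9831) F26175 F22253 (iv F27453) (iv D8604) (iv F25878) F25880 (iv F25747) D9700 F31030 D9702 F31039
def n11519 : Q := act 6 n10280
theorem D11519 : act 6 n10280 = n11519 := rfl
theorem F37610 : act 1 n11519 = n11112 := d11_1 D11519 (iv F37604) F37601
theorem F37611 : act 2 n11519 = n10475 := d16_1 D11519 (iv F37609) (iv D11518)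
theorem F37612 : act 3 n11519 = n10281 := d20_1 D11519 (iv D10281) D10280
theorem F37613 : act 4 n11519 = n11110 := d23_1 D11519 (iv F37262) F37261
theorem F37614 : act 5 n11519 = n10478 := d25_1 D11519 F33755 F28646 (iv F27961) (iv F33161)
def n11520 : Q := act 4 n10286
theorem D11520 : act 4 n10286 = n11520 := rfl
theorem F37615 : act 1 n11520 = n10539 := d9_1 D11520 F33977 (iv F33187)
theorem F37616 : act 2 n11520 = n10287 := d14_1 D11520 (iv D10287) D10286
theorem F37617 : act 6 n11520 = n10396 := d23_2 F33190 D11520 F33496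
theorem F37618 : act 7 n11520 = n10709 := d24_2 (iv F33189) D11520 F34593
def n11521 : Q := act 6 n10287
theorem D11521 : act 6 n10287 = n11521 := rfl
theorem F37619 : act 0 n11521 = n10449 := d5_1 D11521 (iv F37277) F37274
theorem F37620 : act 2 n11521 = n10396 := d16_1 D11521 (iv F37617) F37616
theorem F37621 : act 3 n11521 = n10302 := d20_1 D11521 (iv D10302) (iv F33191)
theorem F37622 : act 4 n11521 = n10288 := d23_1 D11521 (iv D10288) D10287
theorem F37623 : act 7 n11521 = n10393 := d27_2 F37476 D11521 F33489 (iv F34150) (iv F37475)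
def n11522 : Q := act 5 n10288
theorem D11522 : act 5 n10288 = n11522 := rfl
theorem F37624 : act 0 n11522 = n10448 := d4_1 D11522 F33648 (iv F33192)
theorem F37625 : act 2 n11522 = n10369 := d15_1 D11522 F33416 (iv F33193)
theorem F37626 : act 3 n11522 = n10289 := d19_1 D11522 (iv D10289) (iv F33194)
theorem F37627 : act 7 n11522 = n10365 := d26_2 (iv F33195) D11522 F33407
def n11523 : Q := act 1 n10289
theorem D11523 : act 1 n10289 = n11523 := rfl
theorem F37628 : act 0 n11523 = n10311 := d0_1 D11523 F33242 (iv F33374) F33378 (iv F33196)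
theorem F37629 : act 2 n11523 = n10310 := d7_2 (iv F33197) D11523 (iv F37307) (iv F37312) (iv D10328)
theorem F37630 : act 4 n11523 = n10305 := d9_2 (iv F33198) D11523 (iv D10305)
theorem F37631 : act 6 n11523 = n10323 := d11_2 F37444 D11523 (iv F37441)
theorem F37632 : act 7 n11523 = n10290 := d12_2 (iv F33199) D11523 (iv D10290)
def n11524 : Q := act 0 n10290
theorem D11524 : act 0 n10290 = n11524 := rfl
theorem F37633 : act 1 n11524 = n10345 := d0_2 D10290 D11524 F33348 (iv D8896) (iv F27982)
theorem F37634 : act 3 n11524 = n10435 := d2_2 (iv F33200) D11524 (iv D10435)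
theorem F37635 : act 4 n11524 = n10310 := d3_2 (iv F33201) D11524 (iv D10310)
theorem F37636 : act 6 n11524 = n10291 := d5_2 (iv F33202) D11524 (iv D10291)
theorem F37637 : act 7 n11524 = n10311 := d6_2 F37632 D11524 (iv F37628)
theorem F37638 : act 2 n10305 = n11524 := d17_3 F37637 (iv D10311) (iv F33228)
def n11525 : Q := act 2 n10290
theorem D11525 : act 2 n10290 = n11525 := rfl
theorem F37639 : act 0 n11525 = n10305 := d1_1 D11525 F37638 (iv D11524)
theorem F37640 : act 1 n11525 = n10330 := d7_1 D11525 (iv D10330) (iv D8784) (iv F27983) D10290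
theorem F37641 : act 4 n11525 = n10311 := d14_2 (iv F33201) D11525 (iv D10311)
theorem F37642 : act 6 n11525 = n10292 := d16_2 (iv F33202) D11525 (iv D10292)
theorem F37643 : act 7 n11525 = n10310 := d17_2 F37632 D11525 (iv F37629)
def n11526 : Q := act 3 n10292
theorem D11526 : act 3 n10292 = n11526 := rfl
theorem F37644 : act 1 n11526 = n10335 := d8_1 D11526 (iv D10335) (iv F33205)
theorem F37645 : act 5 n11526 = n10507 := d19_2 (iv F33207) D11526 (iv D10507)
def n11527 : Q := act 2 n10293
theorem D11527 : act 2 n10293 = n11527 := rfl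
theorem F37646 : act 0 n11527 = n10294 := d1_1 D11527 (iv D10294) (iv F33208)
theorem F37647 : act 3 n11527 = n10642 := d13_2 D10293 D11527 (iv D10642) (iv D9120) (iv F27990)
def n11528 : Q := act 4 n10293
theorem D11528 : act 4 n10293 = n11528 := rfl
theorem F37648 : act 0 n11528 = n10295 := d3_1 D11528 (iv D10295) (iv F33208)
theorem F37649 : act 3 n11528 = n11360 := d18_1 D11528 (iv D11360) (iv D9967) (iv F27991) D10293
def n11529 : Q := act 4 n10294
theorem D11529 : act 4 n10294 = n11529 := rfl
theorem F37650 : act 2 n11529 = n10295 := d14_1 D11529 (iv D10295) D10294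
def n11530 : Q := act 6 n10295
theorem D11530 : act 6 n10295 = n11530 := rfl
theorem F37651 : act 1 n11530 = n10302 := d11_1 D11530 (iv D10302) (iv F33210)
theorem F37652 : act 4 n11530 = n10296 := d23_1 D11530 (iv D10296) D10295
def n11531 : Q := act 5 n10296
theorem D11531 : act 5 n10296 = n11531 := rfl
theorem F37653 : act 3 n11531 = n10297 := d19_1 D11531 (iv D10297) (iv F33212)
def n11532 : Q := act 1 n10297
theorem D11532 : act 1 n10297 = n11532 := rfl
theorem F37654 : act 5 n11532 = n10305 := d10_2 D10297 D11532 (iv D10305) (iv D8766) (iv F27993)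
theorem F37655 : act 7 n11532 = n10298 := d12_2 (iv F33214) D11532 (iv D10298)
def n11533 : Q := act 0 n10298
theorem D11533 : act 0 n10298 = n11533 := rfl
theorem F37656 : act 5 n11533 = n10310 := d4_2 (iv F33215) D11533 (iv D10310)
theorem F37657 : act 6 n11533 = n10508 := d5_2 (iv F33216) D11533 (iv D10508)
def n11534 : Q := act 2 n10298
theorem D11534 : act 2 n10298 = n11534 := rfl
theorem F37658 : act 1 n11534 = n10650 := d7_1 D11534 (iv D10650) (iv D9127) (iv F27996) D10298
theorem F37659 : act 5 n11534 = n10311 := d15_2 (iv F33215) D11534 (iv D10311)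
theorem F37660 : act 6 n11534 = n10509 := d16_2 (iv F33216) D11534 (iv D10509)
def n11535 : Q := act 0 n10299
theorem D11535 : act 0 n10299 = n11535 := rfl
theorem F37661 : act 1 n11535 = n11222 := d0_2 D10299 D11535 F36408 F31357 (iv F27998)
theorem F37662 : act 3 n11535 = n10336 := d2_2 (iv F33217) D11535 (iv D10336)
theorem F37663 : act 6 n11535 = n11377 := d5_2 F37097 D11535 (iv F37093)
theorem F37664 : act 7 n11535 = n11445 := d6_2 (iv F33218) D11535 F37284
def n11536 : Q := act 4 n10299
theorem D11536 : act 4 n10299 = n11536 := rfl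
theorem F37665 : act 1 n11536 = n10300 := d9_1 D11536 (iv D10300) D10299
theorem F37666 : act 7 n11536 = n11447 := d24_2 (iv F33218) D11536 (iv D11447)
def n11537 : Q := act 5 n10299
theorem D11537 : act 5 n10299 = n11537 := rfl
theorem F37667 : act 1 n11537 = n10870 := d10_1 D11537 (iv D10870) (iv F31947) F31949 D10299
theorem F37668 : act 3 n11537 = n10337 := d19_1 D11537 (iv D10337) (iv F33217)
theorem F37669 : act 7 n11537 = n11446 := d26_2 (iv F33218) D11537 F37288
def n11538 : Q := act 3 n10300
theorem D11538 : act 3 n10300 = n11538 := rfl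
theorem F37670 : act 0 n11538 = n11210 := d2_1 D11538 F36359 (iv F33219)
theorem F37671 : act 4 n11538 = n10339 := d18_2 D10300 D11538 (iv D10339) (iv D8790) (iv F27999)
theorem F37672 : act 5 n11538 = n11528 := d19_2 F36964 D11538 F37649
def n11539 : Q := act 6 n10300
theorem D11539 : act 6 n10300 = n11539 := rfl
theorem F37673 : act 0 n11539 = n11227 := d5_1 D11539 (iv D11227) (iv F33219)
theorem F37674 : act 2 n11539 = n10302 := d16_1 D11539 (iv D10302) (iv F33220)
theorem F37675 : act 4 n11539 = n10301 := d23_1 D11539 (iv D10301) D10300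
def n11540 : Q := act 5 n10301
theorem D11540 : act 5 n10301 = n11540 := rfl
theorem F37676 : act 0 n11540 = n11228 := d4_1 D11540 (iv D11228) (iv F33222)
theorem F37677 : act 2 n11540 = n10303 := d15_1 D11540 (iv D10303) (iv F33223)
theorem F37678 : act 3 n11540 = n10341 := d19_1 D11540 (iv D10341) (iv F33224)
theorem F37679 : act 6 n11540 = n10864 := d25_2 D10301 D11540 F35060 (iv F31950) F31949
def n11541 : Q := act 5 n10302
theorem D11541 : act 5 n10302 = n11541 := rfl
theorem F37680 : act 4 n11541 = n10303 := d22_1 D11541 (iv D10303) (iv F33225)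
def n11542 : Q := act 7 n10302
theorem D11542 : act 7 n10302 = n11542 := rfl
theorem F37681 : act 4 n11542 = n10304 := d24_1 D11542 (iv D10304) (iv F33225)
def n11543 : Q := act 1 n10303
theorem D11543 : act 1 n10303 = n11543 := rfl
theorem F37682 : act 3 n11543 = n10305 := d8_2 (iv F33226) D11543 (iv D10305)
def n11544 : Q := act 7 n10303
theorem D11544 : act 7 n10303 = n11544 := rfl
theorem F37683 : act 3 n11544 = n10309 := d21_1 D11544 (iv D10309) F28009 (iv F28003) (iv F33226)
theorem F37684 : act 5 n11544 = n10304 := d26_1 D11544 (iv D10304) D10303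
def n11545 : Q := act 1 n10306
theorem D11545 : act 1 n10306 = n11545 := rfl
theorem F37685 : act 0 n11545 = n10856 := d0_1 D11545 F35041 F32800 (iv F28346) (iv F33229)
theorem F37686 : act 2 n11545 = n10854 := d7_2 (iv F33230) D11545 F35037 (iv F36255) F36254
theorem F37687 : act 3 n11545 = n10434 := d8_2 (iv F33231) D11545 (iv D10434)
theorem F37688 : act 4 n11545 = n10308 := d9_2 (iv F33232) D11545 (iv D10308)
theorem F37689 : act 5 n11545 = n11313 := d10_2 D10306 D11545 (iv D11313) F31687 (iv F28005)
theorem F37690 : act 6 n11545 = n10317 := d11_2 (iv F33233) D11545 (iv D10317)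
theorem F37691 : act 7 n10853 = n11545 := d27_0 F37690 (iv F33260) F31159 (iv F29843) (iv F35035)
def n11546 : Q := act 7 n10306
theorem D11546 : act 7 n10306 = n11546 := rfl
theorem F37692 : act 0 n11546 = n10438 := d6_1 D11546 (iv D10438) (iv F33229)
theorem F37693 : act 1 n11546 = n10853 := d12_1 D11546 F37691 (iv D11545)
theorem F37694 : act 2 n11546 = n11180 := d17_1 D11546 (iv F36252) (iv F33230)
theorem F37695 : act 4 n11546 = n10309 := d24_1 D11546 (iv D10309) (iv F33232)
theorem F37696 : act 5 n11546 = n10307 := d26_1 D11546 (iv D10307) D10306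
theorem F37697 : act 6 n11546 = n10861 := d27_1 D11546 F35054 F33601 (iv D10318) (iv F33233)
def n11547 : Q := act 3 n10307
theorem D11547 : act 3 n10307 = n11547 := rfl
theorem F37698 : act 0 n11547 = n10439 := d2_1 D11547 (iv D10439) (iv F33234)
theorem F37699 : act 1 n11547 = n11275 := d8_1 D11547 F36592 (iv F33235)
theorem F37700 : act 2 n11547 = n10403 := d13_1 D11547 (iv D10403) F28235 D9753 (iv F33236)
theorem F37701 : act 7 n11547 = n10392 := d21_2 D10307 D11547 (iv D10392) F28201 (iv F28007)
def n11548 : Q := act 0 n10308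
theorem D11548 : act 0 n10308 = n11548 := rfl
theorem F37702 : act 1 n11548 = n11470 := d0_2 D10308 D11548 F37387 F33050 F32644
theorem F37703 : act 3 n11548 = n10310 := d2_2 (iv F33238) D11548 (iv D10310)
theorem F37704 : act 4 n11548 = n10856 := d3_2 F37688 D11548 (iv F37685)
theorem F37705 : act 6 n11548 = n10319 := d5_2 (iv F33239) D11548 (iv D10319)
theorem F37706 : act 2 n10420 = n11548 := d16_3 F37705 (iv F33267) D10420
theorem F37707 : act 7 n10427 = n11548 := d27_0 F37705 (iv F33268) F28290 D8874 D10427
def n11549 : Q := act 2 n10308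
theorem D11549 : act 2 n10308 = n11549 := rfl
theorem F37708 : act 0 n11549 = n10420 := d1_1 D11549 F37706 (iv D11548)
theorem F37709 : act 1 n11549 = n10398 := d7_1 D11549 (iv F36228) F36227 F31267 D10308
theorem F37710 : act 4 n11549 = n10854 := d14_2 F37688 D11549 (iv F37686)
theorem F37711 : act 6 n11549 = n10320 := d16_2 (iv F33239) D11549 (iv D10320)
theorem F37712 : act 7 n10397 = n11549 := d27_0 F37711 (iv F33271) F28287 F28221 (iv F33500)
def n11550 : Q := act 7 n10308
theorem D11550 : act 7 n10308 = n11550 := rfl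
theorem F37713 : act 0 n11550 = n10427 := d6_1 D11550 F37707 (iv D11548)
theorem F37714 : act 1 n11550 = n10309 := d12_1 D11550 (iv D10309) D10308
theorem F37715 : act 2 n11550 = n10397 := d17_1 D11550 F37712 (iv D11549)
theorem F37716 : act 4 n11550 = n10853 := d24_1 D11550 F37691 F37688
theorem F37717 : act 6 n11550 = n10400 := d27_1 D11550 F33509 F33278 (iv D10321) (iv F33239)
def n11551 : Q := act 6 n10309
theorem D11551 : act 6 n10309 = n11551 := rfl
theorem F37718 : act 1 n11551 = n10400 := d11_1 D11551 (iv F37717) F37714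
theorem F37719 : act 2 n11551 = n10371 := d16_1 D11551 (iv F34850) (iv F34852)
theorem F37720 : act 4 n11551 = n10861 := d23_1 D11551 (iv F37697) F37695
theorem F37721 : act 7 n11551 = n10322 := d27_2 D10309 D11551 (iv D10322) (iv D8777) (iv F28010)
def n11552 : Q := act 3 n10311
theorem D11552 : act 3 n10311 = n11552 := rfl
theorem F37722 : act 1 n11552 = n10352 := d8_1 D11552 (iv D10352) (iv F33242)
theorem F37723 : act 6 n11552 = n10324 := d20_2 (iv F33243) D11552 (iv D10324)
def n11553 : Q := act 1 n10312
theorem D11553 : act 1 n10312 = n11553 := rfl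
theorem F37724 : act 0 n11553 = n11182 := d0_1 D11553 F36259 F31230 D9763 (iv F33244)
theorem F37725 : act 3 n11553 = n11194 := d8_2 (iv F33246) D11553 F36298
theorem F37726 : act 4 n11553 = n10314 := d9_2 (iv F33247) D11553 (iv D10314)
theorem F37727 : act 6 n11553 = n11181 := d11_2 (iv F33248) D11553 F36254
def n11554 : Q := act 7 n10312
theorem D11554 : act 7 n10312 = n11554 := rfl
theorem F37728 : act 0 n11554 = n11190 := d6_1 D11554 (iv D11190) (iv F33244)
theorem F37729 : act 2 n11554 = n10318 := d17_1 D11554 (iv D10318) (iv F33245)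
theorem F37730 : act 4 n11554 = n10315 := d24_1 D11554 (iv D10315) (iv F33247)
theorem F37731 : act 5 n11554 = n10313 := d26_1 D11554 (iv D10313) D10312
def n11555 : Q := act 3 n10313
theorem D11555 : act 3 n10313 = n11555 := rfl
theorem F37732 : act 2 n11555 = n11382 := d13_1 D11555 (iv D11382) (iv D9998) (iv F28020) (iv F33249)
theorem F37733 : act 7 n11555 = n11410 := d21_2 D10313 D11555 F37151 F32149 (iv F28013)
def n11556 : Q := act 0 n10314
theorem D11556 : act 0 n10314 = n11556 := rfl
theorem F37734 : act 1 n11556 = n11183 := d0_2 D10314 D11556 F36262 (iv F32653) F32652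
theorem F37735 : act 3 n11556 = n10359 := d2_2 (iv F33251) D11556 (iv D10359)
theorem F37736 : act 4 n11556 = n11182 := d3_2 F37726 D11556 (iv F37724)
theorem F37737 : act 5 n11556 = n11553 := d4_2 F36261 D11556 F37724
theorem F37738 : act 6 n11556 = n10376 := d5_2 (iv F36231) D11556 (iv F36226)
theorem F37739 : act 2 n10407 = n11556 := d16_3 F37738 F33442 D10407
theorem F37740 : act 7 n10378 = n11556 := d27_0 F37738 (iv D10376) F28155 D8824 D10378
def n11557 : Q := act 2 n10314
theorem D11557 : act 2 n10314 = n11557 := rfl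
theorem F37741 : act 0 n11557 = n10407 := d1_1 D11557 F37739 (iv D11556)
theorem F37742 : act 1 n11557 = n10320 := d7_1 D11557 (iv D10320) (iv D8776) (iv F28015) D10314
theorem F37743 : act 6 n11557 = n10398 := d16_2 (iv F36231) D11557 (iv F36228)
theorem F37744 : act 7 n10401 = n11557 := d27_0 F37743 (iv D10398) F28214 D8846 D10401
def n11558 : Q := act 7 n10314
theorem D11558 : act 7 n10314 = n11558 := rfl
theorem F37745 : act 0 n11558 = n10378 := d6_1 D11558 F37740 (iv D11556)
theorem F37746 : act 1 n11558 = n10315 := d12_1 D11558 (iv D10315) D10314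
theorem F37747 : act 2 n11558 = n10401 := d17_1 D11558 F37744 (iv D11557)
theorem F37748 : act 6 n11558 = n10372 := d27_1 D11558 (iv D10372) (iv F31190) D11175 (iv F36231)
def n11559 : Q := act 3 n10315
theorem D11559 : act 3 n10315 = n11559 := rfl
theorem F37749 : act 0 n11559 = n10914 := d2_1 D11559 F37324 F37319
theorem F37750 : act 2 n11559 = n10550 := d13_1 D11559 (iv D10550) (iv F32933) F32934 (iv F33252)
theorem F37751 : act 5 n11559 = n10316 := d19_2 (iv F33253) D11559 (iv D10316)
theorem F37752 : act 7 n11559 = n10362 := d21_2 D10315 D11559 (iv D10362) (iv D8807) (iv F28016)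
def n11560 : Q := act 6 n10315
theorem D11560 : act 6 n10315 = n11560 := rfl
theorem F37753 : act 1 n11560 = n10372 := d11_1 D11560 (iv F37748) F37746
theorem F37754 : act 2 n11560 = n10322 := d16_1 D11560 (iv D10322) (iv F33252)
theorem F37755 : act 7 n11560 = n10371 := d27_2 D10315 D11560 (iv F34850) F34851 F31270
def n11561 : Q := act 4 n10316
theorem D11561 : act 4 n10316 = n11561 := rfl
theorem F37756 : act 0 n11561 = n10918 := d3_1 D11561 (iv D10918) (iv F33254)
theorem F37757 : act 2 n11561 = n10552 := d14_1 D11561 (iv D10552) (iv F33255)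
theorem F37758 : act 7 n11561 = n10363 := d24_2 (iv F33256) D11561 (iv D10363)
def n11562 : Q := act 3 n10320
theorem D11562 : act 3 n10320 = n11562 := rfl
theorem F37759 : act 0 n11562 = n10419 := d2_1 D11562 (iv D10419) (iv F33269)
theorem F37760 : act 2 n11562 = n10324 := d13_1 D11562 (iv D10324) (iv D8779) (iv F28022) D10320
theorem F37761 : act 5 n11562 = n10512 := d19_2 (iv F33270) D11562 (iv D10512)
theorem F37762 : act 7 n11562 = n10423 := d21_2 F33271 D11562 F33574 F28296 (iv F28284)
def n11563 : Q := act 3 n10323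
theorem D11563 : act 3 n10323 = n11563 := rfl
theorem F37763 : act 0 n11563 = n10324 := d2_1 D11563 (iv D10324) (iv F33280)
theorem F37764 : act 2 n11563 = n10419 := d13_1 D11563 (iv D10419) F33267 F33265 D10323
theorem F37765 : act 5 n11563 = n10513 := d19_2 (iv F33281) D11563 (iv D10513)
def n11564 : Q := act 4 n10324
theorem D11564 : act 4 n10324 = n11564 := rfl
theorem F37766 : act 1 n11564 = n10368 := d9_1 D11564 (iv D10368) (iv F33282)
theorem F37767 : act 5 n11564 = n10514 := d22_2 (iv F33283) D11564 (iv D10514)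
def n11565 : Q := act 7 n10324
theorem D11565 : act 7 n10324 = n11565 := rfl
theorem F37768 : act 1 n11565 = n10369 := d12_1 D11565 (iv D10369) (iv F33282)
theorem F37769 : act 2 n11565 = n10423 := d17_1 D11565 (iv F37762) F37760
theorem F37770 : act 5 n11565 = n10515 := d26_1 D11565 (iv D10515) (iv F33283)
theorem F37771 : act 6 n11565 = n10421 := d30_6 D4152 D5605 D7179 D8779 D10324 D11565 F33572 (iv F30303) F30304 F29457 (iv F31708) (iv D9909) F26402 (iv F28316) (iv F33431) (iv D10373) (iv D8818) (iv D7209) (iv F20534) (iv D6543) (iv D4988) (iv D3642) (iv D2554) F5447 F3809 (iv F5502) D2586 F7971 D2942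
def n11566 : Q := act 3 n10325
theorem D11566 : act 3 n10325 = n11566 := rfl
theorem F37772 : act 0 n11566 = n11209 := d2_1 D11566 F36357 (iv F33284)
theorem F37773 : act 1 n11566 = n11051 := d8_1 D11566 F35702 (iv F33285)
theorem F37774 : act 2 n11566 = n10339 := d13_1 D11566 (iv D10339) F28055 (iv F28031) (iv F33286)
theorem F37775 : act 5 n11566 = n11527 := d19_2 F34331 D11566 F37647
def n11567 : Q := act 5 n10326
theorem D11567 : act 5 n10326 = n11567 := rfl
theorem F37776 : act 0 n11567 = n11238 := d4_1 D11567 (iv D11238) (iv F33288)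
theorem F37777 : act 1 n11567 = n11092 := d10_1 D11567 (iv D11092) F30659 F29205 (iv F33289)
theorem F37778 : act 3 n11567 = n10342 := d19_1 D11567 (iv D10342) (iv F33290)
theorem F37779 : act 4 n11567 = n10327 := d22_1 D11567 (iv D10327) (iv F33291)
def n11568 : Q := act 1 n10327
theorem D11568 : act 1 n10327 = n11568 := rfl
theorem F37780 : act 3 n11568 = n10328 := d8_2 (iv F33292) D11568 (iv D10328)
theorem F37781 : act 4 n11568 = n11092 := d9_2 F37779 D11568 (iv F37777)
theorem F37782 : act 5 n11568 = n10678 := d10_2 D10327 D11568 (iv D10678) (iv D9153) (iv F28033)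
theorem F37783 : act 2 n11568 = n11093 := d30_3 D8782 D10327 D11568 F35856 F32805 F29797 F26364 F20980 F15769 (iv F15530) (iv D5008) (iv F15408) (iv D4972) F11156 (iv F15405) (iv F20467) (iv F20470) (iv F21574) (iv D6846) (iv F21570) (iv F26112) F26113 (iv F26104) (iv D8208) (iv F25885) F25882 F22714 D7180 F22750
theorem F37784 : act 0 n11503 = n11568 := d1_3 F37783 F35855 D11503
def n11569 : Q := act 3 n10330
theorem D11569 : act 3 n10330 = n11569 := rfl
theorem F37785 : act 5 n11569 = n10680 := d19_2 (iv F33300) D11569 (iv D10680)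
theorem F37786 : act 6 n11569 = n10335 := d20_2 (iv F33301) D11569 (iv D10335)
def n11570 : Q := act 3 n10332
theorem D11570 : act 3 n10332 = n11570 := rfl
theorem F37787 : act 2 n11570 = n10335 := d13_1 D11570 (iv D10335) (iv D8788) (iv F28040) D10332
theorem F37788 : act 5 n11570 = n10385 := d19_2 (iv F33308) D11570 (iv D10385)
theorem F37789 : act 7 n11570 = n10417 := d21_2 (iv F33309) D11570 (iv D10417) (iv D8863) (iv F28276)
def n11571 : Q := act 3 n10334
theorem D11571 : act 3 n10334 = n11571 := rfl
theorem F37790 : act 0 n11571 = n10335 := d2_1 D11571 (iv D10335) (iv F33314)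
theorem F37791 : act 1 n11571 = n10972 := d8_1 D11571 (iv D10972) F33318
theorem F37792 : act 5 n11571 = n10386 := d19_2 (iv F33316) D11571 (iv D10386)
theorem F37793 : act 7 n11571 = n10977 := d21_2 (iv F33317) D11571 (iv D10977) (iv D9457) (iv F30117)
def n11572 : Q := act 4 n10335
theorem D11572 : act 4 n10335 = n11572 := rfl
theorem F37794 : act 3 n11572 = n10368 := d18_1 D11572 (iv D10368) (iv D8813) (iv F28050) D10335
theorem F37795 : act 5 n11572 = n10387 := d22_2 (iv F33319) D11572 (iv D10387)
def n11573 : Q := act 7 n10335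
theorem D11573 : act 7 n10335 = n11573 := rfl
theorem F37796 : act 0 n11573 = n10977 := d6_1 D11573 (iv F37793) F37790
theorem F37797 : act 2 n11573 = n10417 := d17_1 D11573 (iv F37789) F37787
theorem F37798 : act 3 n11573 = n10975 := d21_1 D11573 (iv D10975) (iv F30813) F30815 D10335
theorem F37799 : act 5 n11573 = n10388 := d26_1 D11573 (iv D10388) (iv F33319)
theorem F37800 : act 6 n11573 = n10858 := d30_6 D4156 D5609 D7185 D8788 D10335 D11573 F35047 F29837 F27591 (iv D7639) (iv D6025) (iv D4542) F10098 (iv F13117) (iv D4238) (iv F13109) F13292 (iv D4296) D4295 (iv F16611) (iv D5315) (iv D3916) (iv D2752) (iv F8335) F8334 (iv F9074) F9075 F6246 D2944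
def n11574 : Q := act 6 n10339
theorem D11574 : act 6 n10339 = n11574 := rfl
theorem F37801 : act 0 n11574 = n11211 := d5_1 D11574 (iv D11211) (iv F33330)
theorem F37802 : act 3 n11574 = n10340 := d20_1 D11574 (iv D10340) D10339
def n11575 : Q := act 5 n10340
theorem D11575 : act 5 n10340 = n11575 := rfl
theorem F37803 : act 0 n11575 = n11212 := d4_1 D11575 (iv D11212) (iv F33332)
theorem F37804 : act 1 n11575 = n11173 := d10_1 D11575 F36223 (iv F35779) F35781 F35553
theorem F37805 : act 2 n11575 = n10342 := d15_1 D11575 (iv D10342) (iv F33333)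
theorem F37806 : act 4 n11575 = n10341 := d22_1 D11575 (iv D10341) (iv F33334)
theorem F37807 : act 6 n11575 = n11198 := d25_2 D10340 D11575 F36316 F31284 (iv F28056)
theorem F37808 : act 7 n11575 = n11132 := d26_2 (iv F33335) D11575 (iv D11132)
def n11576 : Q := act 2 n10346
theorem D11576 : act 2 n10346 = n11576 := rfl
theorem F37809 : act 1 n11576 = n10350 := d7_1 D11576 (iv D10350) (iv D8798) (iv F28070) D10346
theorem F37810 : act 4 n11576 = n11234 := d14_2 (iv F33352) D11576 F36453
theorem F37811 : act 5 n11576 = n11232 := d15_2 (iv F33353) D11576 F36447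
theorem F37812 : act 6 n11576 = n10360 := d16_2 (iv F33354) D11576 (iv D10360)
theorem F37813 : act 7 n11576 = n11231 := d17_2 (iv F33355) D11576 F36441
def n11577 : Q := act 2 n10347
theorem D11577 : act 2 n10347 = n11577 := rfl
theorem F37814 : act 0 n11577 = n10445 := d1_1 D11577 F33636 (iv F33356)
theorem F37815 : act 1 n11577 = n11234 := d7_1 D11577 F36453 F32171 F29625 D10347
theorem F37816 : act 4 n11577 = n10350 := d14_2 (iv F33358) D11577 (iv D10350)
theorem F37817 : act 5 n11577 = n10584 := d15_2 (iv F33359) D11577 F34134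
theorem F37818 : act 6 n11577 = n10364 := d16_2 (iv F33360) D11577 (iv D10364)
theorem F37819 : act 7 n11577 = n11233 := d17_2 F36809 D11577 (iv F36806)
def n11578 : Q := act 3 n10348
theorem D11578 : act 3 n10348 = n11578 := rfl
theorem F37820 : act 0 n11578 = n11242 := d2_1 D11578 F36480 (iv F33361)
theorem F37821 : act 4 n11578 = n11149 := d18_2 (iv F33363) D11578 F36119 F31056 (iv F28086)
theorem F37822 : act 5 n11578 = n10349 := d19_2 (iv F33364) D11578 (iv D10349)
theorem F37823 : act 6 n11578 = n11154 := d20_2 (iv F33365) D11578 F36144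
theorem F37824 : act 7 n11578 = n11464 := d21_2 D10348 D11578 (iv D11464) (iv D10171) (iv F28073)
def n11579 : Q := act 3 n10350
theorem D11579 : act 3 n10350 = n11579 := rfl
theorem F37825 : act 0 n11579 = n10455 := d2_1 D11579 F33661 (iv F33371)
theorem F37826 : act 2 n11579 = n10352 := d13_1 D11579 (iv D10352) (iv D8801) (iv F28081) D10350
theorem F37827 : act 5 n11579 = n10595 := d19_2 (iv F33372) D11579 F34174
theorem F37828 : act 6 n11579 = n10365 := d20_2 (iv F33373) D11579 (iv D10365)
def n11580 : Q := act 3 n10351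
theorem D11580 : act 3 n10351 = n11580 := rfl
theorem F37829 : act 0 n11580 = n10352 := d2_1 D11580 (iv D10352) (iv F33374)
theorem F37830 : act 1 n11580 = n10448 := d8_1 D11580 (iv D10448) (iv F33378)
theorem F37831 : act 2 n11580 = n10455 := d13_1 D11580 F33661 F28381 (iv F28089) D10351
theorem F37832 : act 5 n11580 = n10629 := d19_2 (iv F33375) D11580 F34286
theorem F37833 : act 6 n11580 = n10367 := d20_2 (iv F33376) D11580 (iv D10367)
theorem F37834 : act 7 n11580 = n10452 := d21_2 (iv F33377) D11580 (iv D10452) (iv D8901) (iv F28369)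
def n11581 : Q := act 4 n10352
theorem D11581 : act 4 n10352 = n11581 := rfl
theorem F37835 : act 5 n11581 = n10690 := d22_2 (iv F33379) D11581 (iv D10690)
theorem F37836 : act 6 n11581 = n10368 := d23_2 (iv F33380) D11581 (iv D10368)
def n11582 : Q := act 7 n10352
theorem D11582 : act 7 n10352 = n11582 := rfl
theorem F37837 : act 0 n11582 = n10452 := d6_1 D11582 (iv F37834) F37829
theorem F37838 : act 3 n11582 = n10451 := d21_1 D11582 (iv D10451) F33351 F33350 D10352
theorem F37839 : act 5 n11582 = n10691 := d26_1 D11582 (iv D10691) (iv F33379)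
def n11583 : Q := act 7 n10353
theorem D11583 : act 7 n10353 = n11583 := rfl
theorem F37840 : act 1 n11583 = n10354 := d12_1 D11583 (iv D10354) D10353
theorem F37841 : act 2 n11583 = n10433 := d17_1 D11583 (iv F35054) F35052
theorem F37842 : act 4 n11583 = n11560 := d24_1 D11583 F37755 F33423
theorem F37843 : act 5 n11583 = n10361 := d26_1 D11583 (iv D10361) (iv F33381)
theorem F37844 : act 6 n11583 = n11554 := d27_1 D11583 (iv D11554) F33248 F36252 F36251
def n11584 : Q := act 3 n10354
theorem D11584 : act 3 n10354 = n11584 := rfl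
theorem F37845 : act 5 n11584 = n10355 := d19_2 (iv F33383) D11584 (iv D10355)
def n11585 : Q := act 6 n10354
theorem D11585 : act 6 n10354 = n11585 := rfl
theorem F37846 : act 1 n11585 = n11554 := d11_1 D11585 (iv F37844) F37840
theorem F37847 : act 2 n11585 = n10391 := d16_1 D11585 (iv D10391) (iv F33382)
theorem F37848 : act 4 n11585 = n11558 := d23_1 D11585 F37748 F33427
theorem F37849 : act 5 n11585 = n10378 := d25_1 D11585 (iv D10378) F28163 (iv F28097) (iv F33383)
theorem F37850 : act 7 n11585 = n11553 := d27_2 D10354 D11585 F37727 (iv D11181) F31209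
def n11586 : Q := act 4 n10355
theorem D11586 : act 4 n10355 = n11586 := rfl
theorem F37851 : act 1 n11586 = n10363 := d9_1 D11586 (iv D10363) (iv F33384)
theorem F37852 : act 6 n11586 = n10380 := d23_2 (iv F33385) D11586 (iv D10380)
def n11587 : Q := act 2 n10356
theorem D11587 : act 2 n10356 = n11587 := rfl
theorem F37853 : act 1 n11587 = n10364 := d7_1 D11587 (iv D10364) (iv D8809) (iv F28099) D10356
theorem F37854 : act 4 n11587 = n10360 := d14_2 (iv F33386) D11587 (iv D10360)
theorem F37855 : act 5 n11587 = n11551 := d15_2 F33424 D11587 F37719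
theorem F37856 : act 6 n11587 = n11234 := d16_2 (iv F33387) D11587 F36453
theorem F37857 : act 7 n10434 = n11587 := d27_0 F37856 (iv D11234) F31378 D9808 (iv F33604)
def n11588 : Q := act 7 n10356
theorem D11588 : act 7 n10356 = n11588 := rfl
theorem F37858 : act 1 n11588 = n10357 := d12_1 D11588 (iv D10357) D10356
theorem F37859 : act 2 n11588 = n10434 := d17_1 D11588 F37857 (iv D11587)
theorem F37860 : act 4 n11588 = n10361 := d24_1 D11588 (iv D10361) (iv F33386)
theorem F37861 : act 5 n11588 = n11560 := d26_1 D11588 F37755 F33424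
theorem F37862 : act 6 n11588 = n11235 := d27_1 D11588 (iv D11235) F31388 D10030 (iv F33387)
def n11589 : Q := act 3 n10357
theorem D11589 : act 3 n10357 = n11589 := rfl
theorem F37863 : act 0 n11589 = n11460 := d2_1 D11589 (iv D11460) (iv F33388)
theorem F37864 : act 2 n11589 = n11510 := d13_1 D11589 (iv D11510) F33074 (iv F28115) (iv F33389)
theorem F37865 : act 5 n11589 = n10358 := d19_2 (iv F33391) D11589 (iv D10358)
def n11590 : Q := act 4 n10358
theorem D11590 : act 4 n10358 = n11590 := rfl
theorem F37866 : act 0 n11590 = n11462 := d3_1 D11590 (iv D11462) (iv F33392)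
theorem F37867 : act 2 n11590 = n11511 := d14_1 D11590 (iv D11511) (iv F33393)
theorem F37868 : act 3 n11590 = n10363 := d18_1 D11590 (iv D10363) (iv D8808) (iv F28103) D10358
theorem F37869 : act 6 n11590 = n10384 := d23_2 (iv F33394) D11590 (iv D10384)
def n11591 : Q := act 2 n10359
theorem D11591 : act 2 n10359 = n11591 := rfl
theorem F37870 : act 0 n11591 = n10360 := d1_1 D11591 (iv D10360) D10359
theorem F37871 : act 1 n11591 = n10451 := d7_1 D11591 (iv F35808) F35807 (iv F36561) F36560
theorem F37872 : act 7 n10435 = n11591 := d12_0 F37871 (iv D10451) (iv F33605)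
def n11592 : Q := act 7 n10359
theorem D11592 : act 7 n10359 = n11592 := rfl
theorem F37873 : act 0 n11592 = n10361 := d6_1 D11592 (iv D10361) D10359
theorem F37874 : act 2 n11592 = n10435 := d17_1 D11592 F37872 (iv D11591)
def n11593 : Q := act 3 n10360
theorem D11593 : act 3 n10360 = n11593 := rfl
theorem F37875 : act 1 n11593 = n10365 := d8_1 D11593 (iv D10365) (iv F33395)
def n11594 : Q := act 3 n10361
theorem D11594 : act 3 n10361 = n11594 := rfl
theorem F37876 : act 1 n11594 = n10362 := d8_1 D11594 (iv D10362) (iv F33397)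
def n11595 : Q := act 4 n10362
theorem D11595 : act 4 n10362 = n11595 := rfl
theorem F37877 : act 5 n11595 = n10363 := d22_2 (iv F33399) D11595 (iv D10363)
def n11596 : Q := act 3 n10364
theorem D11596 : act 3 n10364 = n11596 := rfl
theorem F37878 : act 0 n11596 = n10444 := d2_1 D11596 (iv D10444) (iv F33401)
theorem F37879 : act 2 n11596 = n11466 := d13_1 D11596 (iv D11466) (iv D10173) (iv F28109) D10364
theorem F37880 : act 5 n11596 = n10392 := d19_2 (iv F33403) D11596 (iv D10392)
def n11597 : Q := act 4 n10365
theorem D11597 : act 4 n10365 = n11597 := rfl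
theorem F37881 : act 0 n11597 = n10454 := d3_1 D11597 (iv D10454) (iv F33405)
theorem F37882 : act 2 n11597 = n10368 := d14_1 D11597 (iv D10368) (iv F33406)
theorem F37883 : act 5 n11597 = n10393 := d22_2 (iv F33407) D11597 (iv D10393)
def n11598 : Q := act 3 n10366
theorem D11598 : act 3 n10366 = n11598 := rfl
theorem F37884 : act 1 n11598 = n10367 := d8_1 D11598 (iv D10367) D10366
theorem F37885 : act 5 n11598 = n10971 := d19_2 (iv F33409) D11598 (iv D10971)
theorem F37886 : act 6 n11598 = n10448 := d20_2 (iv F33410) D11598 (iv D10448)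
def n11599 : Q := act 4 n10367
theorem D11599 : act 4 n10367 = n11599 := rfl
theorem F37887 : act 0 n11599 = n10368 := d3_1 D11599 (iv D10368) (iv F33412)
theorem F37888 : act 2 n11599 = n10454 := d14_1 D11599 (iv D10454) (iv F33413)
theorem F37889 : act 5 n11599 = n10394 := d22_2 (iv F33414) D11599 (iv D10394)
def n11600 : Q := act 7 n10367
theorem D11600 : act 7 n10367 = n11600 := rfl
theorem F37890 : act 0 n11600 = n10369 := d6_1 D11600 (iv D10369) (iv F33412)
theorem F37891 : act 2 n11600 = n10448 := d17_1 D11600 F33649 (iv F33413)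
theorem F37892 : act 5 n11600 = n10395 := d26_1 D11600 (iv D10395) (iv F33414)
def n11601 : Q := act 7 n10368
theorem D11601 : act 7 n10368 = n11601 := rfl
theorem F37893 : act 4 n11601 = n10369 := d24_1 D11601 (iv D10369) D10368
theorem F37894 : act 5 n11601 = n10396 := d26_1 D11601 (iv D10396) (iv F33415)
def n11602 : Q := act 6 n10369
theorem D11602 : act 6 n10369 = n11602 := rfl
theorem F37895 : act 1 n11602 = n10421 := d11_1 D11602 (iv F37771) F37768
def n11603 : Q := act 3 n10372
theorem D11603 : act 3 n10372 = n11603 := rfl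
theorem F37896 : act 0 n11603 = n10377 := d2_1 D11603 (iv D10377) (iv F33425)
theorem F37897 : act 2 n11603 = n10426 := d13_1 D11603 (iv D10426) F28307 (iv F28224) (iv F33426)
theorem F37898 : act 5 n11603 = n10373 := d19_2 (iv F33428) D11603 (iv D10373)
def n11604 : Q := act 4 n10373
theorem D11604 : act 4 n10373 = n11604 := rfl
theorem F37899 : act 0 n11604 = n10380 := d3_1 D11604 (iv D10380) (iv F33429)
theorem F37900 : act 1 n11604 = n11590 := d9_1 D11604 (iv D11590) (iv F33430)
theorem F37901 : act 2 n11604 = n10429 := d14_1 D11604 (iv D10429) (iv F33431)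
theorem F37902 : act 3 n11604 = n11586 := d18_1 D11604 (iv D11586) (iv D10355) (iv F28142) D10373
def n11605 : Q := act 3 n10374
theorem D11605 : act 3 n10374 = n11605 := rfl
theorem F37903 : act 0 n11605 = n11584 := d2_1 D11605 (iv D11584) (iv F33432)
theorem F37904 : act 2 n11605 = n10968 := d13_1 D11605 (iv D10968) F30102 (iv F28240) (iv F33433)
theorem F37905 : act 5 n11605 = n10375 := d19_2 (iv F33435) D11605 (iv D10375)
theorem F37906 : act 7 n11605 = n11191 := d21_2 D10374 D11605 (iv D11191) (iv D9764) (iv F28145)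
def n11606 : Q := act 6 n10374
theorem D11606 : act 6 n10374 = n11606 := rfl
theorem F37907 : act 0 n11606 = n11585 := d5_1 D11606 (iv D11585) (iv F33432)
theorem F37908 : act 1 n11606 = n11185 := d11_1 D11606 (iv F36693) F36690
theorem F37909 : act 2 n11606 = n10404 := d16_1 D11606 (iv D10404) (iv F33433)
theorem F37910 : act 4 n11606 = n10378 := d23_1 D11606 (iv D10378) (iv F33434)
theorem F37911 : act 5 n11606 = n11558 := d25_1 D11606 F37748 F33428 (iv F28152) (iv F33435)
theorem F37912 : act 7 n11606 = n11182 := d27_2 D10374 D11606 (iv D11182) (iv D9752) (iv F28147)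
def n11607 : Q := act 4 n10375
theorem D11607 : act 4 n10375 = n11607 := rfl
theorem F37913 : act 0 n11607 = n11586 := d3_1 D11607 (iv D11586) (iv F33436)
theorem F37914 : act 1 n11607 = n10384 := d9_1 D11607 (iv D10384) (iv F33437)
theorem F37915 : act 2 n11607 = n10970 := d14_1 D11607 (iv D10970) (iv F33438)
theorem F37916 : act 3 n11607 = n10380 := d18_1 D11607 (iv D10380) (iv D8825) (iv F28151) D10375
theorem F37917 : act 6 n11607 = n11604 := d23_2 (iv F33439) D11607 (iv D11604)
theorem F37918 : act 7 n11607 = n11193 := d24_2 (iv F33440) D11607 (iv D11193)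
def n11608 : Q := act 2 n10377
theorem D11608 : act 2 n10377 = n11608 := rfl
theorem F37919 : act 0 n11608 = n10426 := d1_1 D11608 (iv F37897) F37896
theorem F37920 : act 3 n11608 = n10400 := d13_2 D10377 D11608 (iv D10400) F28218 (iv F28162)
theorem F37921 : act 5 n11608 = n10379 := d15_2 (iv F33445) D11608 (iv D10379)
def n11609 : Q := act 4 n10377
theorem D11609 : act 4 n10377 = n11609 := rfl
theorem F37922 : act 5 n11609 = n10380 := d22_2 (iv F33445) D11609 (iv D10380)
def n11610 : Q := act 6 n10377
theorem D11610 : act 6 n10377 = n11610 := rfl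
theorem F37923 : act 3 n11610 = n10378 := d20_1 D11610 (iv D10378) D10377
def n11611 : Q := act 4 n10379
theorem D11611 : act 4 n10379 = n11611 := rfl
theorem F37924 : act 0 n11611 = n10429 := d3_1 D11611 (iv D10429) (iv F33447)
theorem F37925 : act 2 n11611 = n10380 := d14_1 D11611 (iv D10380) D10379
theorem F37926 : act 3 n11611 = n10865 := d18_1 D11611 (iv D10865) (iv D9356) (iv F28255) (iv F33448)
def n11612 : Q := act 4 n10382
theorem D11612 : act 4 n10382 = n11612 := rfl
theorem F37927 : act 1 n11612 = n11193 := d9_1 D11612 (iv D11193) (iv F33454)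
theorem F37928 : act 6 n11612 = n11374 := d23_2 (iv F33455) D11612 (iv D11374)
theorem F37929 : act 7 n11612 = n10384 := d24_2 (iv F33456) D11612 (iv D10384)
def n11613 : Q := act 4 n10383
theorem D11613 : act 4 n10383 = n11613 := rfl
theorem F37930 : act 1 n11613 = n10999 := d9_1 D11613 (iv D10999) (iv F33457)
theorem F37931 : act 2 n11613 = n10384 := d14_1 D11613 (iv D10384) D10383
theorem F37932 : act 6 n11613 = n11511 := d23_2 (iv F33459) D11613 (iv D11511)
def n11614 : Q := act 4 n10385
theorem D11614 : act 4 n10385 = n11614 := rfl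
theorem F37933 : act 1 n11614 = n10727 := d9_1 D11614 (iv D10727) (iv F33461)
theorem F37934 : act 2 n11614 = n10387 := d14_1 D11614 (iv D10387) (iv F33462)
theorem F37935 : act 3 n11614 = n11473 := d18_1 D11614 (iv D11473) (iv D10195) (iv F28182) D10385
theorem F37936 : act 6 n11614 = n10700 := d23_2 (iv F33463) D11614 (iv D10700)
theorem F37937 : act 7 n11614 = n10418 := d24_2 (iv F33464) D11614 (iv D10418)
def n11615 : Q := act 4 n10386
theorem D11615 : act 4 n10386 = n11615 := rfl
theorem F37938 : act 0 n11615 = n10387 := d3_1 D11615 (iv D10387) (iv F33465)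
theorem F37939 : act 1 n11615 = n11003 := d9_1 D11615 (iv D11003) (iv F33466)
theorem F37940 : act 3 n11615 = n10394 := d18_1 D11615 (iv D10394) (iv D8840) (iv F28187) D10386
theorem F37941 : act 6 n11615 = n10633 := d23_2 (iv F33467) D11615 F34295
theorem F37942 : act 7 n11615 = n11006 := d24_2 (iv F33468) D11615 (iv D11006)
def n11616 : Q := act 7 n10387
theorem D11616 : act 7 n10387 = n11616 := rfl
theorem F37943 : act 0 n11616 = n11006 := d6_1 D11616 (iv F37942) F37938
theorem F37944 : act 1 n11616 = n10532 := d12_1 D11616 (iv D10532) (iv F33469)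
theorem F37945 : act 2 n11616 = n10418 := d17_1 D11616 (iv F37937) F37934
theorem F37946 : act 4 n11616 = n10388 := d24_1 D11616 (iv D10388) D10387
theorem F37947 : act 6 n11616 = n10559 := d27_1 D11616 F34042 F34568 (iv D10701) (iv F33471)
def n11617 : Q := act 3 n10389
theorem D11617 : act 3 n10389 = n11617 := rfl
theorem F37948 : act 5 n11617 = n10390 := d19_2 (iv F33477) D11617 (iv D10390)
theorem F37949 : act 7 n11617 = n10536 := d21_2 D10389 D11617 (iv D10536) (iv D9018) (iv F28192)
def n11618 : Q := act 6 n10389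
theorem D11618 : act 6 n10389 = n11618 := rfl
theorem F37950 : act 1 n11618 = n10412 := d11_1 D11618 (iv F35039) F35037
theorem F37951 : act 2 n11618 = n11553 := d16_1 D11618 F37727 F36255
theorem F37952 : act 4 n11618 = n11557 := d23_1 D11618 F37743 F33502
theorem F37953 : act 5 n11618 = n10407 := d25_1 D11618 (iv D10407) F28249 (iv F28195) (iv F33477)
theorem F37954 : act 7 n11618 = n10391 := d27_2 D10389 D11618 (iv D10391) (iv D8837) (iv F28193)
def n11619 : Q := act 4 n10390
theorem D11619 : act 4 n10390 = n11619 := rfl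
theorem F37955 : act 1 n11619 = n10707 := d9_1 D11619 (iv D10707) (iv F33478)
theorem F37956 : act 6 n11619 = n10409 := d23_2 (iv F33479) D11619 (iv D10409)
theorem F37957 : act 7 n11619 = n10537 := d24_2 (iv F33480) D11619 (iv D10537)
def n11620 : Q := act 4 n10392
theorem D11620 : act 4 n10392 = n11620 := rfl
theorem F37958 : act 0 n11620 = n10446 := d3_1 D11620 (iv D10446) (iv F33483)
theorem F37959 : act 1 n11620 = n11611 := d9_1 D11620 (iv D11611) (iv F33484)
theorem F37960 : act 2 n11620 = n11473 := d14_1 D11620 (iv D11473) (iv F33485)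
theorem F37961 : act 3 n11620 = n10393 := d18_1 D11620 (iv D10393) (iv D8839) (iv F28199) D10392
theorem F37962 : act 6 n11620 = n10585 := d23_2 (iv F33486) D11620 (iv D10585)
def n11621 : Q := act 7 n10394
theorem D11621 : act 7 n10394 = n11621 := rfl
theorem F37963 : act 0 n11621 = n10396 := d6_1 D11621 (iv D10396) (iv F33490)
theorem F37964 : act 2 n11621 = n10449 := d17_1 D11621 F33651 (iv F33491)
theorem F37965 : act 4 n11621 = n10395 := d24_1 D11621 (iv D10395) D10394
def n11622 : Q := act 3 n10396
theorem D11622 : act 3 n10396 = n11622 := rfl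
theorem F37966 : act 1 n11622 = n10538 := d8_1 D11622 (iv D10538) (iv F33495)
def n11623 : Q := act 3 n10398
theorem D11623 : act 3 n10398 = n11623 := rfl
theorem F37967 : act 0 n11623 = n10406 := d2_1 D11623 (iv D10406) (iv F33501)
theorem F37968 : act 5 n11623 = n10399 := d19_2 (iv F33503) D11623 (iv D10399)
theorem F37969 : act 7 n11623 = n10414 := d21_2 D10398 D11623 (iv D10414) (iv D8859) (iv F28212)
def n11624 : Q := act 2 n10399
theorem D11624 : act 2 n10399 = n11624 := rfl
theorem F37970 : act 0 n11624 = n10408 := d1_1 D11624 (iv D10408) (iv F33504)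
theorem F37971 : act 1 n11624 = n11413 := d7_1 D11624 F37160 F34816 (iv F34583) F34582
theorem F37972 : act 3 n11624 = n11232 := d13_2 D10399 D11624 F36447 F32164 F31193
theorem F37973 : act 6 n11624 = n11547 := d16_2 F33521 D11624 F37700
theorem F37974 : act 7 n11624 = n10415 := d17_2 (iv F33505) D11624 (iv D10415)
def n11625 : Q := act 4 n10399
theorem D11625 : act 4 n10399 = n11625 := rfl
theorem F37975 : act 0 n11625 = n10409 := d3_1 D11625 (iv D10409) (iv F33504)
theorem F37976 : act 3 n11625 = n11619 := d18_1 D11625 (iv D11619) (iv D10390) (iv F28216) D10399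
theorem F37977 : act 7 n11625 = n10416 := d24_2 (iv F33505) D11625 (iv D10416)
def n11626 : Q := act 3 n10402
theorem D11626 : act 3 n10402 = n11626 := rfl
theorem F37978 : act 0 n11626 = n11617 := d2_1 D11626 (iv D11617) (iv F33514)
theorem F37979 : act 1 n11626 = n10850 := d8_1 D11626 (iv D10850) (iv F33515)
theorem F37980 : act 5 n11626 = n10403 := d19_2 (iv F33518) D11626 (iv D10403)
theorem F37981 : act 7 n11626 = n11466 := d21_2 D10402 D11626 (iv D11466) F32762 (iv F28230)
def n11627 : Q := act 6 n10402
theorem D11627 : act 6 n10402 = n11627 := rfl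
theorem F37982 : act 0 n11627 = n11618 := d5_1 D11627 (iv D11618) (iv F33514)
theorem F37983 : act 1 n11627 = n10410 := d11_1 D11627 F33545 (iv F33515)
theorem F37984 : act 2 n11627 = n11182 := d16_1 D11627 (iv D11182) (iv F33516)
theorem F37985 : act 4 n11627 = n10407 := d23_1 D11627 (iv D10407) (iv F33517)
theorem F37986 : act 5 n11627 = n11557 := d25_1 D11627 F37743 F33503 (iv F28237) (iv F33518)
theorem F37987 : act 7 n11627 = n10404 := d27_2 D10402 D11627 (iv D10404) (iv D8849) (iv F28232)
def n11628 : Q := act 4 n10403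
theorem D11628 : act 4 n10403 = n11628 := rfl
theorem F37988 : act 0 n11628 = n11619 := d3_1 D11628 (iv D11619) (iv F33519)
theorem F37989 : act 1 n11628 = n10715 := d9_1 D11628 (iv D10715) (iv F33520)
theorem F37990 : act 3 n11628 = n10409 := d18_1 D11628 (iv D10409) (iv D8852) (iv F28236) D10403
theorem F37991 : act 6 n11628 = n11625 := d23_2 (iv F33521) D11628 (iv D11625)
theorem F37992 : act 7 n11628 = n11473 := d24_2 (iv F33522) D11628 (iv D11473)
def n11629 : Q := act 3 n10405
theorem D11629 : act 3 n10405 = n11629 := rfl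
theorem F37993 : act 0 n11629 = n10423 := d2_1 D11629 F33574 (iv F33528)
theorem F37994 : act 1 n11629 = n10406 := d8_1 D11629 (iv D10406) (iv F33529)
theorem F37995 : act 5 n11629 = n10556 := d19_2 (iv F33532) D11629 F34036
theorem F37996 : act 6 n11629 = n10414 := d20_2 (iv F33533) D11629 (iv D10414)
theorem F37997 : act 7 n11629 = n10419 := d21_2 D10405 D11629 (iv D10419) (iv D8867) (iv F28243)
def n11630 : Q := act 2 n10406
theorem D11630 : act 2 n10406 = n11630 := rfl
theorem F37998 : act 5 n11630 = n10408 := d15_2 (iv F33534) D11630 (iv D10408)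
theorem F37999 : act 7 n11630 = n10421 := d17_2 (iv F33535) D11630 (iv D10421)
def n11631 : Q := act 4 n10406
theorem D11631 : act 4 n10406 = n11631 := rfl
theorem F38000 : act 5 n11631 = n10409 := d22_2 (iv F33534) D11631 (iv D10409)
theorem F38001 : act 7 n11631 = n10422 := d24_2 (iv F33535) D11631 (iv D10422)
def n11632 : Q := act 6 n10406
theorem D11632 : act 6 n10406 = n11632 := rfl
theorem F38002 : act 1 n11632 = n10414 := d11_1 D11632 (iv F37996) F37994
theorem F38003 : act 3 n11632 = n10407 := d20_1 D11632 (iv D10407) D10406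
def n11633 : Q := act 4 n10408
theorem D11633 : act 4 n10408 = n11633 := rfl
theorem F38004 : act 2 n11633 = n10409 := d14_1 D11633 (iv D10409) D10408
theorem F38005 : act 7 n11633 = n10424 := d24_2 (iv F33538) D11633 (iv D10424)
def n11634 : Q := act 3 n10410
theorem D11634 : act 3 n10410 = n11634 := rfl
theorem F38006 : act 0 n11634 = n10417 := d2_1 D11634 (iv D10417) (iv F33541)
theorem F38007 : act 2 n11634 = n10977 := d13_1 D11634 (iv D10977) F30131 (iv F33004) (iv F33542)
theorem F38008 : act 5 n11634 = n10411 := d19_2 (iv F33544) D11634 (iv D10411)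
theorem F38009 : act 6 n11634 = n10850 := d20_2 (iv F33545) D11634 (iv D10850)
def n11635 : Q := act 4 n10411
theorem D11635 : act 4 n10411 = n11635 := rfl
theorem F38010 : act 0 n11635 = n10418 := d3_1 D11635 (iv D10418) (iv F33546)
theorem F38011 : act 2 n11635 = n11006 := d14_1 D11635 (iv D11006) (iv F33547)
theorem F38012 : act 3 n11635 = n10416 := d18_1 D11635 (iv D10416) (iv D8860) (iv F28261) D10411
theorem F38013 : act 6 n11635 = n10548 := d23_2 (iv F33548) D11635 (iv D10548)
def n11636 : Q := act 3 n10412
theorem D11636 : act 3 n10412 = n11636 := rfl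
theorem F38014 : act 0 n11636 = n10721 := d2_1 D11636 (iv D10721) (iv F33549)
theorem F38015 : act 5 n11636 = n10413 := d19_2 (iv F33552) D11636 (iv D10413)
def n11637 : Q := act 4 n10413
theorem D11637 : act 4 n10413 = n11637 := rfl
theorem F38016 : act 0 n11637 = n10723 := d3_1 D11637 (iv D10723) (iv F33553)
theorem F38017 : act 1 n11637 = n10416 := d9_1 D11637 (iv D10416) (iv F33554)
theorem F38018 : act 6 n11637 = n10552 := d23_2 (iv F33555) D11637 (iv D10552)
def n11638 : Q := act 2 n10414
theorem D11638 : act 2 n10414 = n11638 := rfl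
theorem F38019 : act 0 n11638 = n10421 := d1_1 D11638 (iv D10421) (iv F33556)
theorem F38020 : act 5 n11638 = n10415 := d15_2 (iv F33557) D11638 (iv D10415)
def n11639 : Q := act 4 n10414
theorem D11639 : act 4 n10414 = n11639 := rfl
theorem F38021 : act 0 n11639 = n10422 := d3_1 D11639 (iv D10422) (iv F33556)
theorem F38022 : act 5 n11639 = n10416 := d22_2 (iv F33557) D11639 (iv D10416)
def n11640 : Q := act 4 n10415
theorem D11640 : act 4 n10415 = n11640 := rfl
theorem F38023 : act 0 n11640 = n10424 := d3_1 D11640 (iv D10424) (iv F33558)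
theorem F38024 : act 2 n11640 = n10416 := d14_1 D11640 (iv D10416) D10415
theorem F38025 : act 6 n11640 = n10558 := d23_2 (iv F33559) D11640 (iv D10558)
def n11641 : Q := act 4 n10417
theorem D11641 : act 4 n10417 = n11641 := rfl
theorem F38026 : act 3 n11641 = n10422 := d18_1 D11641 (iv D10422) (iv D8868) (iv F28279) D10417
theorem F38027 : act 5 n11641 = n10418 := d22_2 (iv F33562) D11641 (iv D10418)
theorem F38028 : act 6 n11641 = n10859 := d23_2 (iv F33563) D11641 (iv D10859)
def n11642 : Q := act 4 n10419
theorem D11642 : act 4 n10419 = n11642 := rfl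
theorem F38029 : act 1 n11642 = n10422 := d9_1 D11642 (iv D10422) (iv F33567)
theorem F38030 : act 5 n11642 = n10729 := d22_2 (iv F33568) D11642 (iv D10729)
def n11643 : Q := act 6 n10419
theorem D11643 : act 6 n10419 = n11643 := rfl
theorem F38031 : act 1 n11643 = n10423 := d11_1 D11643 (iv D10423) (iv F33567)
theorem F38032 : act 3 n11643 = n10420 := d20_1 D11643 (iv D10420) D10419
def n11644 : Q := act 4 n10421
theorem D11644 : act 4 n10421 = n11644 := rfl
theorem F38033 : act 2 n11644 = n10422 := d14_1 D11644 (iv D10422) D10421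
theorem F38034 : act 5 n11644 = n10424 := d22_2 (iv F33572) D11644 (iv D10424)
def n11645 : Q := act 6 n10422
theorem D11645 : act 6 n10422 = n11645 := rfl
theorem F38035 : act 3 n11645 = n10859 := d20_1 D11645 (iv F38028) F38026
theorem F38036 : act 4 n11645 = n10423 := d23_1 D11645 (iv D10423) D10422
theorem F38037 : act 5 n11645 = n10561 := d25_1 D11645 (iv D10561) F28846 (iv F28299) (iv F33573)
def n11646 : Q := act 3 n10424
theorem D11646 : act 3 n10424 = n11646 := rfl
theorem F38038 : act 6 n11646 = n10562 := d20_2 (iv F33577) D11646 (iv D10562)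
def n11647 : Q := act 3 n10425
theorem D11647 : act 3 n10425 = n11647 := rfl
theorem F38039 : act 1 n11647 = n10858 := d8_1 D11647 F35046 (iv F33578)
theorem F38040 : act 5 n11647 = n10428 := d19_2 (iv F33581) D11647 (iv D10428)
theorem F38041 : act 7 n11647 = n10426 := d21_2 D10425 D11647 (iv D10426) (iv D8874) D8873
def n11648 : Q := act 6 n10425
theorem D11648 : act 6 n10425 = n11648 := rfl
theorem F38042 : act 0 n11648 = n10571 := d5_1 D11648 (iv F36678) F36674
theorem F38043 : act 1 n11648 = n10975 := d11_1 D11648 F35426 (iv F33578)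
theorem F38044 : act 2 n11648 = n10694 := d16_1 D11648 F34542 (iv F33579)
theorem F38045 : act 4 n11648 = n11202 := d23_1 D11648 (iv D11202) (iv F33580)
theorem F38046 : act 5 n11648 = n10590 := d25_1 D11648 F34155 F32209 (iv F28315) (iv F33581)
theorem F38047 : act 7 n11648 = n10569 := d27_2 D10425 D11648 F34077 (iv D10272) (iv F28305)
def n11649 : Q := act 4 n10426
theorem D11649 : act 4 n10426 = n11649 := rfl
theorem F38048 : act 3 n11649 = n10863 := d18_1 D11649 (iv D10863) (iv D9355) (iv F28308) D10426
theorem F38049 : act 5 n11649 = n10429 := d22_2 (iv F33582) D11649 (iv D10429)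
def n11650 : Q := act 6 n10426
theorem D11650 : act 6 n10426 = n11650 := rfl
theorem F38050 : act 3 n11650 = n10427 := d20_1 D11650 (iv D10427) D10426
def n11651 : Q := act 4 n10428
theorem D11651 : act 4 n10428 = n11651 := rfl
theorem F38051 : act 1 n11651 = n10431 := d9_1 D11651 (iv D10431) (iv F33585)
theorem F38052 : act 3 n11651 = n11203 := d18_1 D11651 (iv D11203) (iv D9776) (iv F28314) D10428
theorem F38053 : act 6 n11651 = n11419 := d23_2 (iv F33586) D11651 (iv D11419)
theorem F38054 : act 7 n11651 = n10429 := d24_2 (iv F33587) D11651 (iv D10429)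
def n11652 : Q := act 4 n10430
theorem D11652 : act 4 n10430 = n11652 := rfl
theorem F38055 : act 0 n11652 = n10795 := d3_1 D11652 (iv D10795) (iv F33590)
theorem F38056 : act 1 n11652 = n11203 := d9_1 D11652 (iv D11203) (iv F33591)
theorem F38057 : act 2 n11652 = n10798 := d14_1 D11652 (iv D10798) (iv F33592)
theorem F38058 : act 3 n11652 = n10431 := d18_1 D11652 (iv D10431) (iv D8879) (iv F28320) D10430
theorem F38059 : act 5 n11652 = n10837 := d22_2 (iv F33593) D11652 (iv D10837)
theorem F38060 : act 6 n11652 = n11380 := d23_2 (iv F33594) D11652 (iv D11380)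
theorem F38061 : act 7 n11652 = n10868 := d24_2 F34693 D11652 F35073
def n11653 : Q := act 6 n10431
theorem D11653 : act 6 n10431 = n11653 := rfl
theorem F38062 : act 1 n11653 = n11419 := d11_1 D11653 (iv F38053) F38051
theorem F38063 : act 3 n11653 = n11380 := d20_1 D11653 (iv F38060) F38058
theorem F38064 : act 4 n11653 = n10432 := d23_1 D11653 (iv D10432) D10431
def n11654 : Q := act 0 n10433
theorem D11654 : act 0 n10433 = n11654 := rfl
theorem F38065 : act 1 n11654 = n10740 := d0_2 D10433 D11654 (iv D10740) (iv D9234) (iv F28330)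
theorem F38066 : act 4 n11654 = n11311 := d3_2 (iv F33599) D11654 F36744
theorem F38067 : act 5 n11654 = n10435 := d4_2 (iv F33600) D11654 (iv D10435)
theorem F38068 : act 6 n11654 = n11340 := d5_2 (iv F33601) D11654 F36860
def n11655 : Q := act 0 n10434
theorem D11655 : act 0 n10434 = n11655 := rfl
theorem F38069 : act 1 n11655 = n10442 := d0_2 D10434 D11655 (iv D10442) (iv D8891) (iv F28333)
theorem F38070 : act 3 n11655 = n10856 := d2_2 F37687 D11655 (iv F37685)
theorem F38071 : act 4 n11655 = n10435 := d3_2 (iv F33602) D11655 (iv D10435)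
theorem F38072 : act 5 n11655 = n11311 := d4_2 (iv F33603) D11655 F36744
theorem F38073 : act 6 n11655 = n11145 := d5_2 (iv F33604) D11655 F36100
def n11656 : Q := act 2 n10436
theorem D11656 : act 2 n10436 = n11656 := rfl
theorem F38074 : act 0 n11656 = n11302 := d1_1 D11656 F36707 (iv F33606)
theorem F38075 : act 1 n11656 = n11102 := d7_1 D11656 (iv F36367) (iv F36888) (iv D11344) (iv F33607)
theorem F38076 : act 3 n11656 = n10932 := d13_2 D10436 D11656 (iv F36849) (iv D11337) F31836
theorem F38077 : act 4 n11656 = n11105 := d14_2 F36501 D11656 F36503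
theorem F38078 : act 5 n11656 = n10456 := d15_2 (iv F33608) D11656 (iv D10456)
theorem F38079 : act 7 n11656 = n10522 := d17_2 (iv F33609) D11656 F33919
def n11657 : Q := act 6 n10436
theorem D11657 : act 6 n10436 = n11657 := rfl
theorem F38080 : act 0 n11657 = n11305 := d5_1 D11657 (iv D11305) (iv F33606)
theorem F38081 : act 1 n11657 = n11346 := d11_1 D11657 (iv D11346) (iv F33607)
theorem F38082 : act 3 n11657 = n10437 := d20_1 D11657 (iv D10437) D10436
theorem F38083 : act 5 n11657 = n11657 := d25_1 D11657 (iv D11657) F33608 F28387 (iv F33608)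
def n11658 : Q := act 3 n10438
theorem D11658 : act 3 n10438 = n11658 := rfl
theorem F38084 : act 1 n11658 = n11510 := d8_1 D11658 (iv D11510) (iv F33614)
theorem F38085 : act 2 n11658 = n11617 := d13_1 D11658 (iv D11617) (iv F36255) F36256 (iv F33615)
theorem F38086 : act 5 n11658 = n10439 := d19_2 (iv F33616) D11658 (iv D10439)
theorem F38087 : act 7 n11658 = n10444 := d21_2 D10438 D11658 (iv D10444) (iv D8892) (iv F28348)
def n11659 : Q := act 6 n10438
theorem D11659 : act 6 n10438 = n11659 := rfl
theorem F38088 : act 0 n11659 = n10861 := d5_1 D11659 (iv F37697) F37692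
theorem F38089 : act 1 n11659 = n10811 := d11_1 D11659 F34908 (iv F33614)
theorem F38090 : act 2 n11659 = n11194 := d16_1 D11659 (iv D11194) (iv F33615)
theorem F38091 : act 7 n11659 = n11654 := d27_2 D10438 D11659 F38068 (iv D11340) F31859
theorem F38092 : act 5 n11591 = n11659 := d26_3 F38091 F38067 F37872
def n11660 : Q := act 4 n10439
theorem D11660 : act 4 n10439 = n11660 := rfl
theorem F38093 : act 1 n11660 = n10743 := d9_1 D11660 (iv D10743) (iv F33617)
theorem F38094 : act 2 n11660 = n11619 := d14_1 D11660 (iv D11619) (iv F33618)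
theorem F38095 : act 6 n11660 = n11633 := d23_2 F33620 D11660 (iv D11633)
theorem F38096 : act 7 n11660 = n10446 := d24_2 (iv F33619) D11660 (iv D10446)
def n11661 : Q := act 5 n10440
theorem D11661 : act 5 n10440 = n11661 := rfl
theorem F38097 : act 0 n11661 = n11576 := d4_1 D11661 F37811 F36445
theorem F38098 : act 2 n11661 = n11195 := d15_1 D11661 (iv D11195) (iv F33622)
theorem F38099 : act 3 n11661 = n11630 := d19_1 D11661 F37998 (iv F33623)
theorem F38100 : act 4 n11661 = n11388 := d22_1 D11661 F37078 (iv F33624)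
theorem F38101 : act 6 n11661 = n11591 := d25_2 D10440 D11661 F38092 (iv D11659) F33616
theorem F38102 : act 7 n11661 = n10441 := d26_2 (iv F33625) D11661 (iv D10441)
def n11662 : Q := act 1 n10441
theorem D11662 : act 1 n10441 = n11662 := rfl
theorem F38103 : act 0 n11662 = n11353 := d0_1 D11662 F36924 (iv F36836) F36837 F36440
theorem F38104 : act 3 n11662 = n10604 := d8_2 (iv F33626) D11662 (iv D10604)
theorem F38105 : act 5 n11662 = n10746 := d10_2 D10441 D11662 (iv D10746) (iv D9243) (iv F28351)
theorem F38106 : act 6 n11662 = n11350 := d11_2 F36097 D11662 F36913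
def n11663 : Q := act 3 n10443
theorem D11663 : act 3 n10443 = n11663 := rfl
theorem F38107 : act 1 n11663 = n10444 := d8_1 D11663 (iv D10444) (iv F33631)
theorem F38108 : act 5 n11663 = n10747 := d19_2 (iv F33634) D11663 (iv D10747)
theorem F38109 : act 7 n11663 = n11510 := d21_2 D10443 D11663 (iv D11510) (iv D10258) (iv F28354)
def n11664 : Q := act 6 n10443
theorem D11664 : act 6 n10443 = n11664 := rfl
theorem F38110 : act 1 n11664 = n10445 := d11_1 D11664 (iv D10445) (iv F33631)
theorem F38111 : act 2 n11664 = n11323 := d16_1 D11664 (iv D11323) (iv F33632)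
theorem F38112 : act 4 n11664 = n10453 := d23_1 D11664 (iv D10453) (iv F33633)
theorem F38113 : act 5 n11664 = n11282 := d25_1 D11664 F36618 F33785 F30480 (iv F33634)
theorem F38114 : act 7 n11664 = n11251 := d27_2 D10443 D11664 (iv F36877) (iv D11342) F31866
def n11665 : Q := act 4 n10444
theorem D11665 : act 4 n10444 = n11665 := rfl
theorem F38115 : act 3 n11665 = n10454 := d18_1 D11665 (iv D10454) (iv D8902) (iv F28358) D10444
theorem F38116 : act 5 n11665 = n10446 := d22_2 (iv F33635) D11665 (iv D10446)
def n11666 : Q := act 6 n10444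
theorem D11666 : act 6 n10444 = n11666 := rfl
theorem F38117 : act 2 n11666 = n10913 := d16_1 D11666 F35228 F33972
theorem F38118 : act 3 n11666 = n10445 := d20_1 D11666 (iv D10445) D10444
theorem F38119 : act 5 n11666 = n10609 := d25_1 D11666 (iv D10609) F29003 (iv F28361) (iv F33635)
def n11667 : Q := act 4 n10448
theorem D11667 : act 4 n10448 = n11667 := rfl
theorem F38120 : act 5 n11667 = n10449 := d22_2 (iv F33648) D11667 (iv D10449)
theorem F38121 : act 7 n11667 = n10454 := d24_2 (iv F33649) D11667 (iv D10454)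
def n11668 : Q := act 6 n10451
theorem D11668 : act 6 n10451 = n11668 := rfl
theorem F38122 : act 0 n11668 = n10453 := d5_1 D11668 (iv D10453) (iv F33655)
theorem F38123 : act 1 n11668 = n11661 := d11_1 D11668 F38101 F37871
theorem F38124 : act 7 n11668 = n11662 := d27_2 D10451 D11668 F38106 (iv D11350) F31888
def n11669 : Q := act 2 n10452
theorem D11669 : act 2 n10452 = n11669 := rfl
theorem F38125 : act 5 n11669 = n10631 := d15_2 (iv F33658) D11669 F34289
theorem F38126 : act 7 n11669 = n10455 := d17_2 F37834 D11669 (iv F37831)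
def n11670 : Q := act 4 n10452
theorem D11670 : act 4 n10452 = n11670 := rfl
theorem F38127 : act 1 n11670 = n10454 := d9_1 D11670 (iv D10454) (iv F33657)
theorem F38128 : act 5 n11670 = n10755 := d22_2 (iv F33658) D11670 (iv D10755)
def n11671 : Q := act 6 n10452
theorem D11671 : act 6 n10452 = n11671 := rfl
theorem F38129 : act 1 n11671 = n10455 := d11_1 D11671 (iv D10455) (iv F33657)
theorem F38130 : act 3 n11671 = n10453 := d20_1 D11671 (iv D10453) D10452
def n11672 : Q := act 5 n10453
theorem D11672 : act 5 n10453 = n11672 := rfl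
theorem F38131 : act 1 n11672 = n10626 := d10_1 D11672 (iv D10626) F29048 (iv F28382) (iv F33659)
theorem F38132 : act 2 n11672 = n11505 := d15_1 D11672 F37548 F35817
theorem F38133 : act 4 n11672 = n11282 := d22_1 D11672 (iv F38113) F38112
theorem F38134 : act 6 n11672 = n10757 := d25_2 D10453 D11672 (iv D10757) (iv D9264) (iv F28379)
theorem F38135 : act 7 n11672 = n11281 := d26_2 F36927 D11672 F36928
def n11673 : Q := act 6 n10454
theorem D11673 : act 6 n10454 = n11673 := rfl
theorem F38136 : act 4 n11673 = n10455 := d23_1 D11673 (iv D10455) D10454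
theorem F38137 : act 5 n11673 = n10630 := d25_1 D11673 (iv D10630) F29053 (iv F28384) (iv F33660)
def n11674 : Q := act 5 n10458
theorem D11674 : act 5 n10458 = n11674 := rfl
theorem F38138 : act 0 n11674 = n10927 := d4_1 D11674 (iv D10927) (iv F33676)
theorem F38139 : act 1 n11674 = n11100 := d10_1 D11674 (iv D11100) (iv D9623) (iv F30694) (iv F33677)
theorem F38140 : act 2 n11674 = n10459 := d15_1 D11674 (iv D10459) (iv F33678)
theorem F38141 : act 3 n11674 = n10890 := d19_1 D11674 (iv D10890) (iv F33679)
theorem F38142 : act 4 n11674 = n10474 := d22_1 D11674 (iv D10474) (iv F33680)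
theorem F38143 : act 6 n11674 = n10891 := d25_2 D10458 D11674 (iv D10891) (iv D9379) (iv F28392)
theorem F38144 : act 7 n11674 = n11568 := d26_2 F34472 D11674 F37782
def n11675 : Q := act 2 n10460
theorem D11675 : act 2 n10460 = n11675 := rfl
theorem F38145 : act 0 n11675 = n11481 := d1_1 D11675 (iv D11481) (iv F33684)
theorem F38146 : act 3 n11675 = n10468 := d13_2 D10460 D11675 (iv D10468) (iv D8916) (iv F28407)
theorem F38147 : act 5 n11675 = n11442 := d15_2 (iv F33685) D11675 (iv D11442)
def n11676 : Q := act 4 n10460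
theorem D11676 : act 4 n10460 = n11676 := rfl
theorem F38148 : act 0 n11676 = n11482 := d3_1 D11676 (iv D11482) (iv F33684)
theorem F38149 : act 3 n11676 = n10465 := d18_1 D11676 (iv D10465) (iv D8914) (iv F28408) D10460
theorem F38150 : act 5 n11676 = n11443 := d22_2 (iv F33685) D11676 (iv D11443)
def n11677 : Q := act 5 n10462
theorem D11677 : act 5 n10462 = n11677 := rfl
theorem F38151 : act 0 n11677 = n11487 := d4_1 D11677 (iv D11487) (iv F33690)
theorem F38152 : act 2 n11677 = n10463 := d15_1 D11677 (iv D10463) (iv F33691)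
theorem F38153 : act 3 n11677 = n10474 := d19_1 D11677 (iv D10474) (iv F33692)
theorem F38154 : act 7 n11677 = n11354 := d26_2 (iv F33693) D11677 F36931
def n11678 : Q := act 1 n10463
theorem D11678 : act 1 n10463 = n11678 := rfl
theorem F38155 : act 0 n11678 = n11113 := d0_1 D11678 F37264 F37471 (iv D11489) (iv F33694)
theorem F38156 : act 3 n11678 = n10464 := d8_2 (iv F33695) D11678 (iv D10464)
theorem F38157 : act 5 n11678 = n11678 := d10_2 D10463 D11678 (iv D11678) (iv D10463) F28413
theorem F38158 : act 6 n11678 = n11111 := d11_2 F35380 D11678 F35932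
theorem F38159 : act 7 n11678 = n11352 := d12_2 (iv F33696) D11678 F36920
theorem F38160 : act 2 n11480 = n11678 := d28_3 (iv F35377) (iv F32869) (iv F37430) (iv D11678) (iv D10463) (iv D8912) F23087 D8663 F27650 F22389 (iv D5851) (iv D4386) (iv F9674) (iv D2316) (iv F6701) (iv F9669) (iv F13505) F13504 F9637 (iv D3126) F6659 D3125 F9632 F9631 F6661 F4601 (iv D979) F2155 D660 F2172 F1529 F867 F500 (iv D147) F277 F279 D82 F290 (iv F517) (iv F809) F1398 (iv F891) (iv F1611) D721 D1069 D1580 D2317 D3340 (iv F14315) (iv F18325) (iv F23544) (iv F25276) F25275 F19896 F14906 F14904 (iv F18643) F18642 (iv F23931) (iv F27529) (iv F32756) (iv F35375)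
def n11679 : Q := act 3 n10467
theorem D11679 : act 3 n10467 = n11679 := rfl
theorem F38161 : act 0 n11679 = n11121 := d2_1 D11679 F35982 (iv F33711)
theorem F38162 : act 1 n11679 = n10477 := d8_1 D11679 (iv D10477) (iv F33712)
theorem F38163 : act 4 n11679 = n11477 := d18_2 (iv F33713) D11679 F37422 F32854 (iv F30828)
theorem F38164 : act 5 n11679 = n11679 := d19_2 F33714 D11679 (iv D11679)
theorem F38165 : act 6 n11679 = n11118 := d20_2 (iv F33715) D11679 F35969
def n11680 : Q := act 5 n10469
theorem D11680 : act 5 n10469 = n11680 := rfl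
theorem F38166 : act 0 n11680 = n11494 := d4_1 D11680 (iv D11494) (iv F33721)
theorem F38167 : act 1 n11680 = n11084 := d10_1 D11680 (iv D11084) F30582 F29133 (iv F33722)
theorem F38168 : act 3 n11680 = n10470 := d19_1 D11680 (iv D10470) (iv F33723)
theorem F38169 : act 4 n11680 = n10646 := d22_1 D11680 (iv D10646) (iv F33724)
theorem F38170 : act 6 n11680 = n11455 := d25_2 D10469 D11680 (iv D11455) (iv D10150) (iv F28427)
def n11681 : Q := act 5 n10471
theorem D11681 : act 5 n10471 = n11681 := rfl
theorem F38171 : act 0 n11681 = n10929 := d4_1 D11681 (iv D10929) (iv F33731)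
theorem F38172 : act 2 n11681 = n10472 := d15_1 D11681 (iv D10472) (iv F33733)
theorem F38173 : act 4 n11681 = n10891 := d22_1 D11681 (iv D10891) (iv F33734)
theorem F38174 : act 6 n11681 = n10474 := d25_2 D10471 D11681 (iv D10474) (iv D8922) (iv F28436)
def n11682 : Q := act 7 n10471
theorem D11682 : act 7 n10471 = n11682 := rfl
theorem F38175 : act 0 n11682 = n10930 := d6_1 D11682 (iv D10930) (iv F33731)
theorem F38176 : act 1 n11682 = n11682 := d12_1 D11682 (iv D11682) F33732
theorem F38177 : act 2 n11682 = n10473 := d17_1 D11682 (iv D10473) (iv F33733)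
theorem F38178 : act 4 n11682 = n10892 := d24_1 D11682 (iv D10892) (iv F33734)
theorem F38179 : act 6 n11682 = n11682 := d27_1 D11682 (iv D11682) (iv D10471) F28437 D10471
def n11683 : Q := act 7 n10472
theorem D11683 : act 7 n10472 = n11683 := rfl
theorem F38180 : act 0 n11683 = n11495 := d6_1 D11683 (iv D11495) (iv F33735)
theorem F38181 : act 5 n11683 = n10473 := d26_1 D11683 (iv D10473) D10472
def n11684 : Q := act 1 n10474
theorem D11684 : act 1 n10474 = n11684 := rfl
theorem F38182 : act 2 n11684 = n11112 := d7_2 (iv F33742) D11684 (iv F37610) F37611 (iv D10475)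
theorem F38183 : act 4 n11684 = n11100 := d9_2 F38142 D11684 (iv F38139)
theorem F38184 : act 5 n11684 = n11099 := d10_2 D10474 D11684 F35887 F30703 F30672
theorem F38185 : act 7 n11684 = n11567 := d12_2 F35854 D11684 F37777
theorem F38186 : act 0 n11479 = n11684 := d6_3 F38185 F37776 (iv F37429)
def n11685 : Q := act 2 n10483
theorem D11685 : act 2 n10483 = n11685 := rfl
theorem F38187 : act 0 n11685 = n10488 := d1_1 D11685 (iv D10488) (iv F33777)
theorem F38188 : act 5 n11685 = n10484 := d15_2 (iv F33779) D11685 (iv D10484)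
theorem F38189 : act 6 n11685 = n11319 := d16_2 (iv F33780) D11685 (iv D11319)
theorem F38190 : act 7 n11685 = n11412 := d17_2 (iv F33781) D11685 F37154
def n11686 : Q := act 4 n10484
theorem D11686 : act 4 n10484 = n11686 := rfl
theorem F38191 : act 0 n11686 = n10491 := d3_1 D11686 (iv D10491) (iv F33782)
theorem F38192 : act 1 n11686 = n11214 := d9_1 D11686 F36373 F34117
theorem F38193 : act 2 n11686 = n10485 := d14_1 D11686 (iv D10485) D10484
theorem F38194 : act 6 n11686 = n11486 := d23_2 F34053 D11686 F37454
theorem F38195 : act 7 n11686 = n11207 := d24_2 (iv F33783) D11686 F36350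
def n11687 : Q := act 4 n10488
theorem D11687 : act 4 n10488 = n11687 := rfl
theorem F38196 : act 1 n11687 = n11075 := d9_1 D11687 F35785 F35768
theorem F38197 : act 2 n11687 = n10489 := d14_1 D11687 (iv D10489) D10488
theorem F38198 : act 5 n11687 = n10491 := d22_2 (iv F33791) D11687 (iv D10491)
theorem F38199 : act 6 n11687 = n11080 := d23_2 F37223 D11687 (iv F37222)
theorem F38200 : act 7 n11687 = n11416 := d24_2 (iv F33792) D11687 F37172
def n11688 : Q := act 3 n10491
theorem D11688 : act 3 n10491 = n11688 := rfl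
theorem F38201 : act 7 n11688 = n11420 := d21_2 (iv F33803) D11688 (iv D11420) (iv D10045) (iv F32199)
def n11689 : Q := act 5 n10498
theorem D11689 : act 5 n10498 = n11689 := rfl
theorem F38202 : act 0 n11689 = n10912 := d4_1 D11689 F35224 (iv F33841)
theorem F38203 : act 1 n11689 = n11464 := d10_1 D11689 F37366 F32758 (iv F34483) F34481
theorem F38204 : act 2 n11689 = n10500 := d15_1 D11689 (iv D10500) (iv F33842)
theorem F38205 : act 3 n11689 = n10894 := d19_1 D11689 (iv D10894) (iv F33843)
theorem F38206 : act 4 n11689 = n11677 := d22_1 D11689 (iv D11677) (iv F33844)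
theorem F38207 : act 6 n11689 = n10959 := d25_2 D10498 D11689 (iv D10959) (iv D9441) (iv F28592)
def n11690 : Q := act 1 n10500
theorem D11690 : act 1 n10500 = n11690 := rfl
theorem F38208 : act 0 n11690 = n11517 := d0_1 D11690 F37601 (iv F36392) (iv F37461) F37460
theorem F38209 : act 3 n11690 = n10900 := d8_2 (iv F33850) D11690 (iv D10900)
theorem F38210 : act 4 n11690 = n11678 := d9_2 (iv F33851) D11690 (iv D11678)
theorem F38211 : act 5 n11690 = n11690 := d10_2 D10500 D11690 (iv D11690) (iv D10500) F28606
theorem F38212 : act 6 n11690 = n10963 := d11_2 (iv F33852) D11690 (iv D10963)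
theorem F38213 : act 7 n11690 = n11256 := d12_2 F36938 D11690 (iv F36935)
def n11691 : Q := act 2 n10504
theorem D11691 : act 2 n10504 = n11691 := rfl
theorem F38214 : act 0 n11691 = n10505 := d1_1 D11691 (iv D10505) D10504
theorem F38215 : act 4 n11691 = n11142 := d14_2 (iv F33876) D11691 F36091
theorem F38216 : act 6 n11691 = n11339 := d16_2 (iv F33877) D11691 F36857
theorem F38217 : act 7 n11691 = n11140 := d17_2 (iv F33878) D11691 F36083
theorem F38218 : act 1 n11691 = n11365 := d29_2 (iv F33875) D11691 (iv F37016) (iv D11372) F32019 F26735 F21518 D7332 (iv F28502) (iv D8938) F23160 F21617 F16489 (iv D5294) (iv D3900) F8441 D3095 F9553 D4321 D5775 F18099 (iv F18946) F18949 (iv F23680) (iv F28945) (iv F34157) F34158 (iv F33768) F33771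
def n11692 : Q := act 3 n10505
theorem D11692 : act 3 n10505 = n11692 := rfl
theorem F38219 : act 1 n11692 = n11402 := d8_1 D11692 (iv D11402) (iv F33879)
theorem F38220 : act 2 n11692 = n10507 := d13_1 D11692 (iv D10507) (iv D8981) (iv F28652) D10505
theorem F38221 : act 6 n11692 = n11555 := d20_2 (iv F33881) D11692 (iv D11555)
def n11693 : Q := act 3 n10506
theorem D11693 : act 3 n10506 = n11693 := rfl
theorem F38222 : act 0 n11693 = n10507 := d2_1 D11693 (iv D10507) (iv F33883)
theorem F38223 : act 1 n11693 = n10587 := d8_1 D11693 (iv D10587) F33886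
theorem F38224 : act 7 n11693 = n10592 := d21_2 (iv F33885) D11693 (iv D10592) (iv D9069) (iv F28918)
def n11694 : Q := act 4 n10507
theorem D11694 : act 4 n10507 = n11694 := rfl
theorem F38225 : act 1 n11694 = n10518 := d9_1 D11694 (iv D10518) (iv F33887)
theorem F38226 : act 3 n11694 = n10514 := d18_1 D11694 (iv D10514) (iv D8996) (iv F28659) D10507
def n11695 : Q := act 7 n10507
theorem D11695 : act 7 n10507 = n11695 := rfl
theorem F38227 : act 0 n11695 = n10592 := d6_1 D11695 (iv F38224) F38222
theorem F38228 : act 1 n11695 = n10519 := d12_1 D11695 (iv D10519) (iv F33887)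
theorem F38229 : act 3 n11695 = n10590 := d21_1 D11695 (iv D10590) F30788 F30787 D10507
theorem F38230 : act 6 n11695 = n11418 := d30_6 D4345 D5808 D7391 D8981 D10507 D11695 F37182 (iv F33597) (iv F34722) F34723 F29532 (iv D9247) F24199 (iv F23034) F23035 D7284 F23044 (iv D7088) (iv F17268) (iv D4360) (iv D3119) (iv D2148) (iv D1451) (iv F4477) D2101 F6497 (iv F9432) F9433 D3110
def n11696 : Q := act 3 n10509
theorem D11696 : act 3 n10509 = n11696 := rfl
theorem F38231 : act 1 n11696 = n10769 := d8_1 D11696 (iv D10769) (iv F33889)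
theorem F38232 : act 5 n11696 = n10511 := d19_2 (iv F33890) D11696 (iv D10511)
theorem F38233 : act 7 n11696 = n11666 := d21_2 F36407 D11696 F38118 (iv F36884) F36881
def n11697 : Q := act 4 n10511
theorem D11697 : act 4 n10511 = n11697 := rfl
theorem F38234 : act 1 n11697 = n10520 := d9_1 D11697 (iv D10520) (iv F33893)
theorem F38235 : act 6 n11697 = n10514 := d23_2 (iv F33894) D11697 (iv D10514)
def n11698 : Q := act 4 n10512
theorem D11698 : act 4 n10512 = n11698 := rfl
theorem F38236 : act 0 n11698 = n10729 := d3_1 D11698 (iv D10729) (iv F33895)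
theorem F38237 : act 1 n11698 = n11635 := d9_1 D11698 (iv D11635) (iv F33896)
theorem F38238 : act 2 n11698 = n10514 := d14_1 D11698 (iv D10514) (iv F33897)
theorem F38239 : act 3 n11698 = n11637 := d18_1 D11698 (iv D11637) (iv D10413) (iv F28710) D10512
theorem F38240 : act 7 n11698 = n10561 := d24_2 (iv F33898) D11698 F34046
def n11699 : Q := act 4 n10513
theorem D11699 : act 4 n10513 = n11699 := rfl
theorem F38241 : act 0 n11699 = n10514 := d3_1 D11699 (iv D10514) (iv F33899)
theorem F38242 : act 2 n11699 = n10729 := d14_1 D11699 (iv D10729) (iv F33900)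
def n11700 : Q := act 7 n10513
theorem D11700 : act 7 n10513 = n11700 := rfl
theorem F38243 : act 0 n11700 = n10515 := d6_1 D11700 (iv D10515) (iv F33899)
theorem F38244 : act 2 n11700 = n10556 := d17_1 D11700 (iv F34037) (iv F33900)
theorem F38245 : act 3 n11700 = n11512 := d21_1 D11700 F37578 F33147 F30782 D10513
theorem F38246 : act 6 n10554 = n11700 := d20_0 F38245 F37577 (iv F34115)
def n11701 : Q := act 7 n10514
theorem D11701 : act 7 n10514 = n11701 := rfl
theorem F38247 : act 1 n11701 = n10526 := d12_1 D11701 (iv D10526) (iv F33901)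
theorem F38248 : act 2 n11701 = n10561 := d17_1 D11701 (iv F38240) F38238
theorem F38249 : act 4 n11701 = n10515 := d24_1 D11701 (iv D10515) D10514
theorem F38250 : act 6 n10560 = n11701 := d23_0 F38249 (iv F33904) D10560
def n11702 : Q := act 3 n10516
theorem D11702 : act 3 n10516 = n11702 := rfl
theorem F38251 : act 0 n11702 = n11406 := d2_1 D11702 F37139 (iv F33905)
theorem F38252 : act 1 n11702 = n10517 := d8_1 D11702 (iv D10517) (iv F33906)
theorem F38253 : act 2 n11702 = n11402 := d13_1 D11702 (iv D11402) F32134 (iv F28720) D10516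
def n11703 : Q := act 4 n10517
theorem D11703 : act 4 n10517 = n11703 := rfl
theorem F38254 : act 2 n11703 = n10518 := d14_1 D11703 (iv D10518) (iv F33908)
theorem F38255 : act 5 n11703 = n10530 := d22_2 (iv F33909) D11703 (iv D10530)
def n11704 : Q := act 7 n10517
theorem D11704 : act 7 n10517 = n11704 := rfl
theorem F38256 : act 0 n11704 = n10623 := d6_1 D11704 F35636 F35633
theorem F38257 : act 2 n11704 = n10519 := d17_1 D11704 (iv D10519) (iv F33908)
theorem F38258 : act 3 n11704 = n11704 := d21_1 D11704 (iv D11704) (iv D10517) F28724 D10517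
theorem F38259 : act 5 n11704 = n10531 := d26_1 D11704 (iv D10531) (iv F33909)
def n11705 : Q := act 7 n10518
theorem D11705 : act 7 n10518 = n11705 := rfl
theorem F38260 : act 0 n11705 = n10624 := d6_1 D11705 F35734 F35730
theorem F38261 : act 4 n11705 = n10519 := d24_1 D11705 (iv D10519) D10518
theorem F38262 : act 5 n11705 = n10532 := d26_1 D11705 (iv D10532) (iv F33911)
def n11706 : Q := act 6 n10519
theorem D11706 : act 6 n10519 = n11706 := rfl
theorem F38263 : act 0 n11706 = n10625 := d5_1 D11706 (iv D10625) (iv F33912)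
theorem F38264 : act 1 n11706 = n11418 := d11_1 D11706 (iv F38230) F38228
theorem F38265 : act 3 n11706 = n10622 := d20_1 D11706 (iv D10622) (iv F33913)
def n11707 : Q := act 7 n10520
theorem D11707 : act 7 n10520 = n11707 := rfl
theorem F38266 : act 4 n11707 = n10521 := d24_1 D11707 (iv D10521) D10520
theorem F38267 : act 5 n11707 = n10808 := d26_1 D11707 (iv D10808) (iv F33915)
def n11708 : Q := act 1 n10522
theorem D11708 : act 1 n10522 = n11708 := rfl
theorem F38268 : act 0 n11708 = n11309 := d0_1 D11708 F36736 F36706 (iv D11301) (iv F33918)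
theorem F38269 : act 3 n11708 = n10523 := d8_2 (iv F33920) D11708 (iv D10523)
theorem F38270 : act 4 n11708 = n11101 := d9_2 F37516 D11708 (iv F37513)
theorem F38271 : act 5 n11708 = n10524 := d10_2 D10522 D11708 (iv D10524) (iv D9005) (iv F28734)
theorem F38272 : act 7 n11708 = n11102 := d12_2 F38079 D11708 (iv F38075)
def n11709 : Q := act 3 n10526
theorem D11709 : act 3 n10526 = n11709 := rfl
theorem F38273 : act 2 n11709 = n10842 := d13_1 D11709 F35006 (iv F35082) (iv F35525) F35524
theorem F38274 : act 4 n11709 = n10841 := d18_2 (iv F33934) D11709 F35003 (iv F30744) F30743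
theorem F38275 : act 5 n11709 = n10538 := d19_2 (iv F33935) D11709 (iv D10538)
theorem F38276 : act 6 n11046 = n11709 := d31_4 (iv F19502) (iv F24903) D9536 (iv F35682) (iv D11709) F33935 (iv D9020) (iv D7431) (iv F19422) F19423 (iv D6118) (iv F19151) F19152 F18894 (iv D5096) F11475 F11473 F8031 (iv F8963) F8961 (iv F11480) F11483 (iv F14080) (iv D4543) D4544 F14085 (iv F14096) F14097 D4708
def n11710 : Q := act 6 n10526
theorem D11710 : act 6 n10526 = n11710 := rfl
theorem F38277 : act 0 n11710 = n11709 := d5_1 D11710 (iv F38276) F35681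
theorem F38278 : act 1 n11710 = n10560 := d11_1 D11710 F38250 F38247
theorem F38279 : act 3 n11710 = n11046 := d20_1 D11710 F38276 (iv D11709)
theorem F38280 : act 4 n11710 = n10527 := d23_1 D11710 (iv D10527) (iv F33934)
theorem F38281 : act 5 n11049 = n11710 := d22_0 F38280 F33938 (iv F35694)
def n11711 : Q := act 4 n10529
theorem D11711 : act 4 n10529 = n11711 := rfl
theorem F38282 : act 1 n11711 = n10530 := d9_1 D11711 (iv D10530) (iv F33944)
theorem F38283 : act 2 n11711 = n10727 := d14_1 D11711 (iv D10727) (iv F33945)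
theorem F38284 : act 3 n11711 = n11613 := d18_1 D11711 (iv D11613) F33458 (iv F28766) D10529
theorem F38285 : act 6 n11711 = n10833 := d23_2 (iv F33946) D11711 (iv D10833)
theorem F38286 : act 7 n11711 = n10728 := d24_2 (iv F33947) D11711 (iv D10728)
def n11712 : Q := act 7 n10530
theorem D11712 : act 7 n10530 = n11712 := rfl
theorem F38287 : act 0 n11712 = n11055 := d6_1 D11712 F35714 F35618
theorem F38288 : act 1 n11712 = n10728 := d12_1 D11712 (iv F38286) F38282
theorem F38289 : act 2 n11712 = n10532 := d17_1 D11712 (iv D10532) (iv F33948)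
theorem F38290 : act 4 n11712 = n10531 := d24_1 D11712 (iv D10531) D10530
theorem F38291 : act 6 n10940 = n11712 := d23_0 F38290 (iv F33954) D10940
def n11713 : Q := act 3 n10532
theorem D11713 : act 3 n10532 = n11713 := rfl
theorem F38292 : act 0 n11713 = n11023 := d2_1 D11713 F35590 (iv F33955)
theorem F38293 : act 4 n11713 = n11020 := d18_2 (iv F33956) D11713 (iv D11020) F30311 (iv F28774)
theorem F38294 : act 7 n11713 = n10538 := d21_2 D10532 D11713 (iv D10538) (iv D9020) (iv F28771)
def n11714 : Q := act 6 n10532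
theorem D11714 : act 6 n10532 = n11714 := rfl
theorem F38295 : act 0 n11714 = n11056 := d5_1 D11714 (iv D11056) (iv F33955)
theorem F38296 : act 1 n11714 = n10559 := d11_1 D11714 (iv F37947) F37944
theorem F38297 : act 2 n11714 = n10940 := d16_1 D11714 F38291 F38289
theorem F38298 : act 4 n11714 = n10533 := d23_1 D11714 (iv D10533) (iv F33956)
theorem F38299 : act 7 n11714 = n10848 := d27_2 D10532 D11714 (iv D10848) (iv D9344) (iv F28772)
def n11715 : Q := act 3 n10534
theorem D11715 : act 3 n10534 = n11715 := rfl
theorem F38300 : act 0 n11715 = n11570 := d2_1 D11715 (iv D11570) (iv F33962)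
theorem F38301 : act 2 n11715 = n11571 := d13_1 D11715 (iv D11571) (iv D10334) (iv F33303) (iv F33963)
theorem F38302 : act 5 n11715 = n10535 := d19_2 (iv F33965) D11715 (iv D10535)
theorem F38303 : act 6 n11715 = n10936 := d20_2 (iv F33966) D11715 F35298
theorem F38304 : act 7 n11715 = n11634 := d21_2 D10534 D11715 (iv D11634) (iv D10410) (iv F28776)
def n11716 : Q := act 4 n10535
theorem D11716 : act 4 n10535 = n11716 := rfl
theorem F38305 : act 0 n11716 = n11614 := d3_1 D11716 (iv D11614) (iv F33967)
theorem F38306 : act 1 n11716 = n10561 := d9_1 D11716 F34046 (iv F33968)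
theorem F38307 : act 2 n11716 = n11615 := d14_1 D11716 (iv D11615) (iv F33969)
theorem F38308 : act 3 n11716 = n10537 := d18_1 D11716 (iv D10537) (iv D9019) (iv F28782) D10535
theorem F38309 : act 6 n11716 = n10543 := d23_2 (iv F33970) D11716 (iv D10543)
theorem F38310 : act 7 n11716 = n11635 := d24_2 (iv F33971) D11716 (iv D11635)
def n11717 : Q := act 4 n10536
theorem D11717 : act 4 n10536 = n11717 := rfl
theorem F38311 : act 2 n11717 = n11665 := d14_1 D11717 (iv D11665) (iv F33972)
theorem F38312 : act 5 n11717 = n10537 := d22_2 (iv F33973) D11717 (iv D10537)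
def n11718 : Q := act 2 n10538
theorem D11718 : act 2 n10538 = n11718 := rfl
theorem F38313 : act 3 n11718 = n10873 := d13_2 D10538 D11718 (iv F35516) F35517 F30226
theorem F38314 : act 4 n11718 = n10843 := d14_2 F35925 D11718 (iv F35924)
theorem F38315 : act 5 n11718 = n10842 := d15_2 F38275 D11718 (iv F38273)
theorem F38316 : act 6 n11052 = n11718 := d25_0 F38315 F35007 F30385 D9540 D11052
def n11719 : Q := act 6 n10538
theorem D11719 : act 6 n10538 = n11719 := rfl
theorem F38317 : act 2 n11719 = n11052 := d16_1 D11719 F38316 (iv D11718)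
theorem F38318 : act 3 n11719 = n10539 := d20_1 D11719 (iv D10539) D10538
theorem F38319 : act 4 n11719 = n11051 := d23_1 D11719 (iv F35927) F35925
theorem F38320 : act 5 n11719 = n11050 := d25_1 D11719 (iv D11050) (iv F35683) F38276 F38275
def n11720 : Q := act 5 n10539
theorem D11720 : act 5 n10539 = n11720 := rfl
theorem F38321 : act 0 n11720 = n11719 := d4_1 D11720 F38320 F35696
theorem F38322 : act 3 n11720 = n11050 := d19_1 D11720 (iv F38320) F38318
theorem F38323 : act 4 n11720 = n10540 := d22_1 D11720 (iv D10540) (iv F33977)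
theorem F38324 : act 6 n11720 = n11049 := d25_2 D10539 D11720 F38281 (iv D11710) F33935
theorem F38325 : act 7 n11720 = n10883 := d26_2 (iv F33978) D11720 (iv D10883)
def n11721 : Q := act 4 n10541
theorem D11721 : act 4 n10541 = n11721 := rfl
theorem F38326 : act 0 n11721 = n10544 := d3_1 D11721 (iv D10544) (iv F33982)
theorem F38327 : act 3 n11721 = n10897 := d18_1 D11721 (iv D10897) (iv D9384) (iv F28792) D10541
theorem F38328 : act 5 n11721 = n10542 := d22_2 (iv F33983) D11721 (iv D10542)
theorem F38329 : act 7 n11721 = n10555 := d24_2 (iv F33984) D11721 (iv D10555)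
def n11722 : Q := act 3 n10545
theorem D11722 : act 3 n10545 = n11722 := rfl
theorem F38330 : act 0 n11722 = n10902 := d2_1 D11722 (iv D10902) (iv F33995)
theorem F38331 : act 1 n11722 = n10885 := d8_1 D11722 (iv D10885) (iv F33996)
theorem F38332 : act 2 n11722 = n11696 := d13_1 D11722 (iv D11696) (iv D10509) (iv F33124) (iv F33997)
theorem F38333 : act 5 n11722 = n10546 := d19_2 (iv F33999) D11722 (iv D10546)
theorem F38334 : act 7 n11722 = n10913 := d21_2 D10545 D11722 (iv D10913) (iv D9396) (iv F28806)
def n11723 : Q := act 6 n10545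
theorem D11723 : act 6 n10545 = n11723 := rfl
theorem F38335 : act 0 n11723 = n10903 := d5_1 D11723 (iv D10903) (iv F33995)
theorem F38336 : act 1 n11723 = n10704 := d11_1 D11723 F34581 (iv F33996)
theorem F38337 : act 2 n11723 = n11196 := d16_1 D11723 F36308 (iv F33997)
theorem F38338 : act 4 n11723 = n10551 := d23_1 D11723 (iv D10551) (iv F33998)
theorem F38339 : act 5 n11723 = n11549 := d25_1 D11723 F37711 F33270 (iv F28813) (iv F33999)
theorem F38340 : act 7 n11723 = n10568 := d27_2 D10545 D11723 (iv D10568) (iv D9047) (iv F28808)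
def n11724 : Q := act 4 n10546
theorem D11724 : act 4 n10546 = n11724 := rfl
theorem F38341 : act 0 n11724 = n10905 := d3_1 D11724 (iv D10905) (iv F34000)
theorem F38342 : act 1 n11724 = n10548 := d9_1 D11724 (iv D10548) (iv F34001)
theorem F38343 : act 2 n11724 = n11697 := d14_1 D11724 (iv D11697) (iv F34002)
theorem F38344 : act 3 n11724 = n10552 := d18_1 D11724 (iv D10552) (iv D9032) (iv F28812) D10546
theorem F38345 : act 6 n11724 = n11698 := d23_2 (iv F34003) D11724 (iv D11698)
theorem F38346 : act 7 n11724 = n10919 := d24_2 (iv F34004) D11724 (iv D10919)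
def n11725 : Q := act 4 n10547
theorem D11725 : act 4 n10547 = n11725 := rfl
theorem F38347 : act 0 n11725 = n10559 := d3_1 D11725 (iv D10559) (iv F34005)
theorem F38348 : act 1 n11725 = n11007 := d9_1 D11725 F35540 (iv F34006)
theorem F38349 : act 2 n11725 = n10548 := d14_1 D11725 (iv D10548) D10547
theorem F38350 : act 5 n11725 = n10888 := d22_2 (iv F34008) D11725 (iv D10888)
theorem F38351 : act 6 n11725 = n11006 := d23_2 (iv F34009) D11725 (iv D11006)
theorem F38352 : act 7 n11725 = n10921 := d24_2 (iv F34010) D11725 (iv D10921)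
def n11726 : Q := act 3 n10549
theorem D11726 : act 3 n10549 = n11726 := rfl
theorem F38353 : act 1 n11726 = n10550 := d8_1 D11726 (iv D10550) (iv F34015)
theorem F38354 : act 5 n11726 = n10553 := d19_2 (iv F34018) D11726 (iv D10553)
theorem F38355 : act 6 n11726 = n10706 := d20_2 (iv F34019) D11726 (iv D10706)
def n11727 : Q := act 4 n10550
theorem D11727 : act 4 n10550 = n11727 := rfl
theorem F38356 : act 0 n11727 = n10915 := d3_1 D11727 (iv D10915) (iv F34020)
theorem F38357 : act 5 n11727 = n10552 := d22_2 (iv F34021) D11727 (iv D10552)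
def n11728 : Q := act 6 n10550
theorem D11728 : act 6 n10550 = n11728 := rfl
theorem F38358 : act 0 n11728 = n10916 := d5_1 D11728 (iv D10916) (iv F34020)
theorem F38359 : act 1 n11728 = n10706 := d11_1 D11728 (iv F38355) F38353
theorem F38360 : act 3 n11728 = n10551 := d20_1 D11728 (iv D10551) D10550
theorem F38361 : act 7 n10857 = n11728 := d30_29 (iv D11728) F34021 F28824 D9036 F28892 (iv D9056) (iv D7465) (iv F21920) (iv F26989) F26990 F26991 F21905 D7388 F23420 (iv F26126) (iv F31390) D11236 F36461 F31483 (iv F27495) (iv F32720) D11461 F37354 F32750 F27557 (iv F32801) (iv F35041) F35042 D10857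
def n11729 : Q := act 4 n10553
theorem D11729 : act 4 n10553 = n11729 := rfl
theorem F38362 : act 1 n11729 = n10555 := d9_1 D11729 (iv D10555) (iv F34027)
theorem F38363 : act 3 n11729 = n10886 := d18_1 D11729 (iv D10886) (iv D9372) (iv F28827) D10553
theorem F38364 : act 6 n11729 = n10717 := d23_2 (iv F34028) D11729 (iv D10717)
def n11730 : Q := act 1 n10554
theorem D11730 : act 1 n10554 = n11730 := rfl
def n11731 : Q := act 4 n10554
theorem D11731 : act 4 n10554 = n11731 := rfl
theorem F38365 : act 0 n11731 = n10560 := d3_1 D11731 (iv D10560) (iv F34029)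
theorem F38366 : act 2 n11731 = n10555 := d14_1 D11731 (iv D10555) D10554
theorem F38367 : act 5 n11731 = n10558 := d22_2 (iv F34030) D11731 (iv D10558)
def n11732 : Q := act 6 n10555
theorem D11732 : act 6 n10555 = n11732 := rfl
theorem F38368 : act 0 n11732 = n10561 := d5_1 D11732 (iv D10561) (iv F34031)
theorem F38369 : act 1 n11732 = n10717 := d11_1 D11732 (iv F38364) F38362
theorem F38370 : act 3 n11732 = n10852 := d20_1 D11732 F35032 (iv F34032)
theorem F38371 : act 4 n11732 = n10556 := d23_1 D11732 (iv D10556) D10555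
theorem F38372 : act 7 n10729 = n11732 := d24_0 F38371 (iv F34037) D10729
def n11733 : Q := act 4 n10557
theorem D11733 : act 4 n10557 = n11733 := rfl
theorem F38373 : act 1 n11733 = n10558 := d9_1 D11733 (iv D10558) D10557
def n11734 : Q := act 5 n10557
theorem D11734 : act 5 n10557 = n11734 := rfl
def n11735 : Q := act 3 n10558
theorem D11735 : act 3 n10558 = n11735 := rfl
theorem F38374 : act 0 n11735 = n10562 := d2_1 D11735 (iv D10562) (iv F34038)
def n11736 : Q := act 3 n10559
theorem D11736 : act 3 n10559 = n11736 := rfl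
theorem F38375 : act 2 n11736 = n10562 := d13_1 D11736 (iv D10562) F28848 (iv F28841) (iv F34040)
theorem F38376 : act 5 n11736 = n10889 := d19_2 (iv F34041) D11736 (iv D10889)
def n11737 : Q := act 3 n10560
theorem D11737 : act 3 n10560 = n11737 := rfl
theorem F38377 : act 1 n11737 = n11046 := d8_1 D11737 (iv F38279) F38278
theorem F38378 : act 2 n11737 = n10889 := d13_1 D11737 (iv D10889) F29888 (iv F28845) (iv F34043)
theorem F38379 : act 4 n11737 = n11045 := d18_2 D10560 D11737 F35678 (iv F30889) (iv F28988)
theorem F38380 : act 5 n11737 = n10562 := d19_2 (iv F34044) D11737 (iv D10562)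
theorem F38381 : act 7 n11737 = n11059 := d21_2 F34226 D11737 F35724 F34243 (iv F34224)
def n11738 : Q := act 1 n10563
theorem D11738 : act 1 n10563 = n11738 := rfl
theorem F38382 : act 0 n11738 = n11519 := d0_1 D11738 F37610 F35936 (iv D10963) (iv F34047)
theorem F38383 : act 2 n11738 = n11515 := d7_2 (iv F34048) D11738 F37591 F35968 F35427
theorem F38384 : act 3 n11738 = n10565 := d8_2 (iv F34049) D11738 (iv D10565)
theorem F38385 : act 4 n11738 = n11514 := d9_2 F37449 D11738 F37586
theorem F38386 : act 5 n11738 = n10578 := d10_2 D10563 D11738 (iv D10578) (iv D9055) (iv F28850)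
theorem F38387 : act 6 n11738 = n11219 := d11_2 F37465 D11738 (iv F37461)
def n11739 : Q := act 7 n10563
theorem D11739 : act 7 n10563 = n11739 := rfl
theorem F38388 : act 0 n11739 = n10964 := d6_1 D11739 (iv D10964) (iv F34047)
theorem F38389 : act 2 n11739 = n10982 := d17_1 D11739 (iv D10982) (iv F34048)
theorem F38390 : act 5 n11739 = n10564 := d26_1 D11739 (iv D10564) D10563
theorem F38391 : act 3 n11734 = n11739 := d19_3 F38390 (iv F34054) D11734
def n11740 : Q := act 7 n10565
theorem D11740 : act 7 n10565 = n11740 := rfl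
theorem F38392 : act 0 n11740 = n11202 := d6_1 D11740 F36328 F34059
theorem F38393 : act 1 n11740 = n10566 := d12_1 D11740 (iv D10566) D10565
theorem F38394 : act 2 n11740 = n10693 := d17_1 D11740 F34537 (iv F34055)
theorem F38395 : act 4 n11740 = n10571 := d24_1 D11740 (iv D10571) (iv F34056)
theorem F38396 : act 5 n11740 = n10582 := d26_1 D11740 (iv D10582) (iv F34057)
theorem F38397 : act 6 n11740 = n11172 := d27_1 D11740 F36220 F31274 D10270 (iv F34058)
def n11741 : Q := act 3 n10566
theorem D11741 : act 3 n10566 = n11741 := rfl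
theorem F38398 : act 0 n11741 = n10968 := d2_1 D11741 (iv D10968) (iv F34060)
theorem F38399 : act 2 n11741 = n11584 := d13_1 D11741 (iv D11584) F33382 (iv F28863) (iv F34061)
theorem F38400 : act 5 n11741 = n10567 := d19_2 (iv F34063) D11741 (iv D10567)
theorem F38401 : act 7 n11741 = n11734 := d21_2 D10566 D11741 F38391 (iv D11739) F34049
def n11742 : Q := act 6 n10566
theorem D11742 : act 6 n10566 = n11742 := rfl
theorem F38402 : act 0 n11742 = n10969 := d5_1 D11742 (iv D10969) (iv F34060)
theorem F38403 : act 1 n11742 = n11172 := d11_1 D11742 (iv F38397) F38393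
theorem F38404 : act 2 n11742 = n10568 := d16_1 D11742 (iv D10568) (iv F34061)
theorem F38405 : act 4 n11742 = n10573 := d23_1 D11742 (iv D10573) (iv F34062)
theorem F38406 : act 5 n11742 = n11550 := d25_1 D11742 F37717 F33508 (iv F28860) (iv F34063)
theorem F38407 : act 7 n11742 = n11196 := d27_2 D10566 D11742 F36308 (iv F33127) F32928
def n11743 : Q := act 4 n10567
theorem D11743 : act 4 n10567 = n11743 := rfl
theorem F38408 : act 0 n11743 = n10970 := d3_1 D11743 (iv D10970) (iv F34064)
theorem F38409 : act 1 n11743 = n10585 := d9_1 D11743 (iv D10585) (iv F34065)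
theorem F38410 : act 2 n11743 = n11586 := d14_1 D11743 (iv D11586) (iv F34066)
theorem F38411 : act 3 n11743 = n10574 := d18_1 D11743 (iv D10574) (iv D9050) (iv F28859) D10567
theorem F38412 : act 6 n11743 = n11611 := d23_2 (iv F34067) D11743 (iv D11611)
theorem F38413 : act 7 n11743 = n11733 := d24_2 (iv F34068) D11743 (iv D11733)
def n11744 : Q := act 3 n10570
theorem D11744 : act 3 n10570 = n11744 := rfl
theorem F38414 : act 0 n11744 = n11516 := d2_1 D11744 F37597 (iv F34079)
theorem F38415 : act 1 n11744 = n10575 := d8_1 D11744 (iv D10575) (iv F34080)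
theorem F38416 : act 2 n11744 = n11440 := d13_1 D11744 F37260 F35956 F32922 D10570
theorem F38417 : act 4 n11744 = n11518 := d18_2 (iv F34081) D11744 F37606 (iv F33172) (iv F30074)
theorem F38418 : act 5 n11744 = n10591 := d19_2 (iv F34082) D11744 (iv D10591)
theorem F38419 : act 6 n11744 = n11513 := d20_2 (iv F34083) D11744 (iv D11513)
theorem F38420 : act 7 n11744 = n11439 := d21_2 F34084 D11744 F37258 F36673 F31600
def n11745 : Q := act 3 n10571
theorem D11745 : act 3 n10571 = n11745 := rfl
theorem F38421 : act 1 n11745 = n10572 := d8_1 D11745 (iv D10572) (iv F34085)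
theorem F38422 : act 5 n11745 = n10592 := d19_2 (iv F34087) D11745 (iv D10592)
def n11746 : Q := act 4 n10572
theorem D11746 : act 4 n10572 = n11746 := rfl
theorem F38423 : act 0 n11746 = n10979 := d3_1 D11746 (iv D10979) (iv F34088)
theorem F38424 : act 2 n11746 = n10863 := d14_1 D11746 (iv D10863) (iv F34089)
theorem F38425 : act 5 n11746 = n10574 := d22_2 (iv F34090) D11746 (iv D10574)
def n11747 : Q := act 6 n10572
theorem D11747 : act 6 n10572 = n11747 := rfl
theorem F38426 : act 0 n11747 = n10980 := d5_1 D11747 (iv D10980) (iv F34088)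
theorem F38427 : act 2 n11747 = n10855 := d16_1 D11747 F35040 (iv F34089)
theorem F38428 : act 3 n11747 = n10573 := d20_1 D11747 (iv D10573) D10572
def n11748 : Q := act 7 n10575
theorem D11748 : act 7 n10575 = n11748 := rfl
theorem F38429 : act 0 n11748 = n11337 := d6_1 D11748 F36848 F34645
theorem F38430 : act 1 n11748 = n11439 := d12_1 D11748 (iv F38420) F38415
theorem F38431 : act 3 n11748 = n10665 := d21_1 D11748 (iv D10665) F29154 (iv F28876) D10575
theorem F38432 : act 4 n11748 = n11683 := d24_1 D11748 (iv D11683) (iv F34096)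
theorem F38433 : act 5 n11748 = n10576 := d26_1 D11748 (iv D10576) (iv F34097)
def n11749 : Q := act 3 n10577
theorem D11749 : act 3 n10577 = n11749 := rfl
theorem F38434 : act 0 n11749 = n10599 := d2_1 D11749 (iv D10599) (iv F34104)
theorem F38435 : act 4 n11749 = n11735 := d18_2 (iv F34106) D11749 (iv D11735) (iv D10558) F28892
theorem F38436 : act 7 n11749 = n10586 := d21_2 D10577 D11749 (iv D10586) (iv D9063) (iv F28885)
def n11750 : Q := act 7 n10578
theorem D11750 : act 7 n10578 = n11750 := rfl
theorem F38437 : act 0 n11750 = n10955 := d6_1 D11750 F35353 (iv F34107)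
theorem F38438 : act 1 n11750 = n10579 := d12_1 D11750 (iv D10579) D10578
theorem F38439 : act 2 n11750 = n10953 := d17_1 D11750 F35344 (iv F34108)
theorem F38440 : act 4 n11750 = n11512 := d24_1 D11750 F37578 (iv F34110)
theorem F38441 : act 6 n11750 = n11128 := d27_1 D11750 F36015 (iv F33872) F33873 (iv F34111)
theorem F38442 : act 3 n11730 = n11750 := d8_0 F38438 (iv F34115) D11730
def n11751 : Q := act 5 n10580
theorem D11751 : act 5 n10580 = n11751 := rfl
theorem F38443 : act 0 n11751 = n10603 := d4_1 D11751 (iv D10603) (iv F34116)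
theorem F38444 : act 2 n11751 = n11101 := d15_1 D11751 (iv D11101) (iv F34118)
theorem F38445 : act 3 n11751 = n11638 := d19_1 D11751 F38020 (iv F34119)
theorem F38446 : act 7 n11751 = n10581 := d26_2 (iv F34120) D11751 (iv D10581)
def n11752 : Q := act 1 n10581
theorem D11752 : act 1 n10581 = n11752 := rfl
theorem F38447 : act 0 n11752 = n11356 := d0_1 D11752 F36940 F36555 (iv D10604) (iv F34121)
theorem F38448 : act 2 n11752 = n11345 := d7_2 (iv F34122) D11752 F36891 (iv F36503) (iv D11105)
theorem F38449 : act 3 n11752 = n11334 := d8_2 F36442 D11752 F36837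
theorem F38450 : act 4 n11752 = n11344 := d9_2 F36369 D11752 F36888
theorem F38451 : act 5 n11752 = n11348 := d10_2 D10581 D11752 F37158 (iv D11412) F32175
theorem F38452 : act 6 n11752 = n11333 := d11_2 F36389 D11752 F36831
def n11753 : Q := act 3 n10582
theorem D11753 : act 3 n10582 = n11753 := rfl
theorem F38453 : act 0 n11753 = n11425 := d2_1 D11753 F37197 (iv F34123)
theorem F38454 : act 1 n11753 = n10583 := d8_1 D11753 (iv D10583) (iv F34124)
theorem F38455 : act 6 n11753 = n11414 := d20_2 (iv F34127) D11753 (iv D11414)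
theorem F38456 : act 7 n11753 = n11730 := d21_2 D10582 D11753 F38442 (iv D11750) F34109
def n11754 : Q := act 4 n10583
theorem D11754 : act 4 n10583 = n11754 := rfl
theorem F38457 : act 0 n11754 = n10608 := d3_1 D11754 (iv D10608) (iv F34128)
theorem F38458 : act 2 n11754 = n11721 := d14_1 D11754 (iv D11721) (iv F34129)
theorem F38459 : act 3 n11754 = n10594 := d18_1 D11754 (iv D10594) (iv D9070) (iv F28901) D10583
theorem F38460 : act 5 n11754 = n10585 := d22_2 (iv F34130) D11754 (iv D10585)
theorem F38461 : act 7 n11754 = n11731 := d24_2 (iv F34131) D11754 (iv D11731)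
def n11755 : Q := act 6 n10583
theorem D11755 : act 6 n10583 = n11755 := rfl
theorem F38462 : act 0 n11755 = n10609 := d5_1 D11755 (iv D10609) (iv F34128)
theorem F38463 : act 1 n11755 = n11414 := d11_1 D11755 (iv F38455) F38454
theorem F38464 : act 2 n11755 = n10896 := d16_1 D11755 F35154 (iv F34129)
theorem F38465 : act 3 n11755 = n10584 := d20_1 D11755 (iv D10584) D10583
theorem F38466 : act 7 n11755 = n10904 := d27_2 (iv F34131) D11755 F35189 D11700 (iv F38246)
def n11756 : Q := act 2 n10586
theorem D11756 : act 2 n10586 = n11756 := rfl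
theorem F38467 : act 0 n11756 = n10610 := d1_1 D11756 (iv D10610) (iv F34141)
theorem F38468 : act 3 n11756 = n11756 := d13_2 D10586 D11756 (iv D11756) (iv D10586) F28916
theorem F38469 : act 5 n11756 = n10730 := d15_2 F35722 D11756 (iv F35720)
theorem F38470 : act 1 n10734 = n11756 := d30_2 (iv F29458) D10734 (iv D11756) (iv D10586) (iv D9063) (iv D7471) (iv F20713) F20710 F16524 F12139 (iv D3920) (iv D2755) (iv D1873) F4001 (iv F3808) (iv D1200) D1201 D1774 D2600 (iv F8834) F8786 (iv F8801) D4038 (iv F12548) F10454 (iv F14526) D6217 (iv F24853) F24854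
def n11757 : Q := act 4 n10586
theorem D11757 : act 4 n10586 = n11757 := rfl
theorem F38471 : act 0 n11757 = n10611 := d3_1 D11757 (iv D10611) (iv F34141)
theorem F38472 : act 3 n11757 = n10589 := d18_1 D11757 (iv D10589) (iv D9066) (iv F28917) D10586
theorem F38473 : act 7 n11757 = n11735 := d24_2 F38436 D11757 (iv F38435)
def n11758 : Q := act 4 n10587
theorem D11758 : act 4 n10587 = n11758 := rfl
theorem F38474 : act 0 n11758 = n10614 := d3_1 D11758 (iv D10614) (iv F34142)
theorem F38475 : act 2 n11758 = n10695 := d14_1 D11758 F34544 F34145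
theorem F38476 : act 5 n11758 = n10589 := d22_2 (iv F34143) D11758 (iv D10589)
theorem F38477 : act 7 n11758 = n10594 := d24_2 (iv F34144) D11758 (iv D10594)
def n11759 : Q := act 6 n10587
theorem D11759 : act 6 n10587 = n11759 := rfl
theorem F38478 : act 0 n11759 = n10615 := d5_1 D11759 (iv D10615) (iv F34142)
theorem F38479 : act 2 n11759 = n10696 := d16_1 D11759 (iv D10696) F34145
theorem F38480 : act 3 n11759 = n10588 := d20_1 D11759 (iv D10588) D10587
def n11760 : Q := act 2 n10592
theorem D11760 : act 2 n10592 = n11760 := rfl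
theorem F38481 : act 1 n11760 = n10673 := d7_1 D11760 F34453 F29192 (iv F28937) (iv F34162)
theorem F38482 : act 3 n11760 = n10667 := d13_2 D10592 D11760 (iv D10667) F29162 (iv F28935)
def n11761 : Q := act 4 n10592
theorem D11761 : act 4 n10592 = n11761 := rfl
theorem F38483 : act 1 n11761 = n10594 := d9_1 D11761 (iv D10594) (iv F34162)
def n11762 : Q := act 6 n10592
theorem D11762 : act 6 n10592 = n11762 := rfl
theorem F38484 : act 0 n11762 = n11418 := d5_1 D11762 (iv F38230) F38227
theorem F38485 : act 1 n11762 = n10595 := d11_1 D11762 (iv D10595) (iv F34162)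
theorem F38486 : act 3 n11762 = n10593 := d20_1 D11762 (iv D10593) D10592
theorem F38487 : act 5 n11762 = n11413 := d29_5 D9355 (iv F34089) (iv F38421) F38422 D11762 (iv F37971) (iv D11624) (iv D10399) (iv D8844) F22890 (iv F20925) (iv F26316) (iv F28684) F28685 (iv D8330) F21062 F15854 (iv F15343) D6520 F20442 F16180 D6775 (iv F26684) (iv F31959) F31958 (iv D9970) (iv F29474) F29475 (iv F24465)
def n11763 : Q := act 6 n10594
theorem D11763 : act 6 n10594 = n11763 := rfl
theorem F38488 : act 0 n11763 = n10630 := d5_1 D11763 (iv D10630) (iv F34169)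
theorem F38489 : act 2 n11763 = n10690 := d16_1 D11763 F34525 (iv F34170)
theorem F38490 : act 4 n11763 = n10595 := d23_1 D11763 (iv D10595) D10594
def n11764 : Q := act 7 n10595
theorem D11764 : act 7 n10595 = n11764 := rfl
theorem F38491 : act 0 n11764 = n10631 := d6_1 D11764 (iv D10631) (iv F34172)
theorem F38492 : act 2 n11764 = n10691 := d17_1 D11764 (iv D10691) (iv F34173)
def n11765 : Q := act 5 n10597
theorem D11765 : act 5 n10597 = n11765 := rfl
theorem F38493 : act 0 n11765 = n11102 := d4_1 D11765 (iv D11102) (iv F34181)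
theorem F38494 : act 2 n11765 = n10601 := d15_1 D11765 (iv D10601) (iv F34183)
theorem F38495 : act 4 n11765 = n10598 := d22_1 D11765 (iv D10598) (iv F34184)
theorem F38496 : act 7 n11765 = n11309 := d26_2 (iv F34185) D11765 F36738
def n11766 : Q := act 1 n10598
theorem D11766 : act 1 n10598 = n11766 := rfl
theorem F38497 : act 3 n11766 = n11293 := d8_2 (iv F34188) D11766 F36664
theorem F38498 : act 5 n11766 = n11766 := d10_2 D10598 D11766 (iv D11766) (iv D10598) F28972
theorem F38499 : act 6 n11766 = n11748 := d11_2 F37259 D11766 F38430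
theorem F38500 : act 7 n11766 = n11308 := d12_2 (iv F34189) D11766 F36732
def n11767 : Q := act 2 n10599
theorem D11767 : act 2 n10599 = n11767 := rfl
theorem F38501 : act 3 n11767 = n11037 := d13_2 D10599 D11767 F35648 F30360 (iv F28982)
theorem F38502 : act 4 n11767 = n11736 := d14_2 (iv F34191) D11767 F38375
theorem F38503 : act 5 n11767 = n11036 := d15_2 F35679 D11767 (iv F35677)
theorem F38504 : act 7 n11767 = n10610 := d17_2 (iv F34192) D11767 (iv D10610)
def n11768 : Q := act 6 n10599
theorem D11768 : act 6 n10599 = n11768 := rfl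
theorem F38505 : act 1 n11768 = n11010 := d11_1 D11768 (iv D11010) (iv F34190)
theorem F38506 : act 3 n11768 = n10600 := d20_1 D11768 (iv D10600) D10599
theorem F38507 : act 4 n11768 = n11646 := d23_1 D11768 F38038 (iv F34191)
theorem F38508 : act 7 n11768 = n11574 := d27_2 (iv F34192) D11768 (iv D11574) F34237 (iv D10612)
def n11769 : Q := act 5 n10600
theorem D11769 : act 5 n10600 = n11769 := rfl
theorem F38509 : act 2 n11769 = n11309 := d15_1 D11769 F36738 (iv F34194)
theorem F38510 : act 4 n11769 = n10603 := d22_1 D11769 (iv D10603) (iv F34195)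
theorem F38511 : act 7 n11769 = n10601 := d26_2 (iv F34196) D11769 (iv D10601)
def n11770 : Q := act 5 n10602
theorem D11770 : act 5 n10602 = n11770 := rfl
theorem F38512 : act 1 n11770 = n11108 := d10_1 D11770 (iv D11108) (iv D9637) (iv F30745) (iv F34198)
theorem F38513 : act 2 n11770 = n11310 := d15_1 D11770 F36743 (iv F34199)
theorem F38514 : act 3 n11770 = n11565 := d19_1 D11770 F37770 (iv F34200)
theorem F38515 : act 6 n11770 = n10603 := d25_2 D10602 D11770 (iv D10603) (iv D9084) (iv F28987)
theorem F38516 : act 7 n11770 = n11110 := d26_2 (iv F34201) D11770 (iv D11110)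
def n11771 : Q := act 1 n10603
theorem D11771 : act 1 n10603 = n11771 := rfl
theorem F38517 : act 3 n11771 = n11602 := d8_2 (iv F34203) D11771 F37895
theorem F38518 : act 5 n11771 = n11018 := d10_2 D10603 D11771 (iv D11018) (iv D9510) (iv F28989)
theorem F38519 : act 6 n11771 = n11108 := d11_2 F38515 D11771 (iv F38512)
theorem F38520 : act 7 n11771 = n10604 := d12_2 (iv F34204) D11771 (iv D10604)
theorem F38521 : act 2 n11771 = n11494 := d30_3 D9084 D10603 D11771 F37493 F32944 F27694 (iv D7077) F17215 F12659 F9458 F9460 (iv D2155) F4591 (iv F4931) (iv F7122) D3305 (iv F11142) D4968 (iv F15396) F12057 F9534 F9313 F6411 D2197 F6803 (iv F9797) (iv F13678) (iv F18464) D7490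
def n11772 : Q := act 2 n10604
theorem D11772 : act 2 n10604 = n11772 := rfl
theorem F38522 : act 4 n11772 = n11359 := d14_2 (iv F36554) D11772 F36959
theorem F38523 : act 5 n11772 = n11019 := d15_2 (iv F34205) D11772 (iv D11019)
theorem F38524 : act 7 n11772 = n11494 := d17_2 F38520 D11772 (iv F38521)
theorem F38525 : act 3 n11772 = n11495 := d29_8 (iv D10112) F27302 F22064 F22065 D7491 D9085 D10604 D11772 (iv D11495) F32945 (iv F32889) (iv F35942) (iv D11114) (iv F33864) F33863 (iv D10060) F26998 F21725 F21728 (iv F21730) F22058 (iv D6963) (iv D5394) (iv D3986) (iv F12385) (iv F16861) (iv F22014) D8559 (iv F32506)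
def n11773 : Q := act 3 n10605
theorem D11773 : act 3 n10605 = n11773 := rfl
theorem F38526 : act 0 n11773 = n10606 := d2_1 D11773 (iv D10606) (iv F34206)
theorem F38527 : act 1 n11773 = n11425 := d8_1 D11773 F37197 (iv F34207)
theorem F38528 : act 5 n11773 = n11020 := d19_2 (iv F34210) D11773 (iv D11020)
theorem F38529 : act 6 n11773 = n11063 := d20_2 (iv F34211) D11773 F35742
theorem F38530 : act 7 n11773 = n10841 := d21_2 D10605 D11773 F35003 (iv F30765) F30763
theorem F38531 : act 2 n10844 = n11773 := d17_3 F38530 (iv D10841) D10844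
def n11774 : Q := act 4 n10606
theorem D11774 : act 4 n10606 = n11774 := rfl
theorem F38532 : act 1 n11774 = n10608 := d9_1 D11774 (iv D10608) (iv F34212)
theorem F38533 : act 3 n11774 = n10624 := d18_1 D11774 (iv D10624) (iv D9103) (iv F29000) D10606
theorem F38534 : act 5 n11774 = n11023 := d22_2 (iv F34213) D11774 (iv D11023)
theorem F38535 : act 6 n11774 = n11707 := d23_2 F34215 D11774 F38266
theorem F38536 : act 7 n11774 = n11710 := d24_2 (iv F34214) D11774 F38280
def n11775 : Q := act 6 n10608
theorem D11775 : act 6 n10608 = n11775 := rfl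
theorem F38537 : act 1 n11775 = n11707 := d11_1 D11775 (iv F38535) F38532
theorem F38538 : act 2 n11775 = n10919 := d16_1 D11775 F35240 (iv F34223)
theorem F38539 : act 3 n11775 = n10630 := d20_1 D11775 (iv D10630) (iv F34224)
theorem F38540 : act 4 n11775 = n10609 := d23_1 D11775 (iv D10609) D10608
theorem F38541 : act 7 n11775 = n11697 := d27_2 (iv F34226) D11775 F38235 D11701 (iv F38250)
def n11776 : Q := act 1 n10610
theorem D11776 : act 1 n10610 = n11776 := rfl
theorem F38542 : act 0 n11776 = n10827 := d0_1 D11776 (iv F35614) F35613 F38470 F38467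
theorem F38543 : act 2 n11776 = n11039 := d7_2 D10610 D11776 (iv D11039) (iv D9529) (iv F29021)
theorem F38544 : act 3 n11776 = n11776 := d8_2 F34231 D11776 (iv D11776)
theorem F38545 : act 5 n11776 = n10824 := d10_2 (iv F35712) D11776 F34949 F34269 D11054
theorem F38546 : act 6 n10880 = n11776 := d25_0 F38545 (iv D10824) F29782 D9367 D10880
def n11777 : Q := act 4 n10610
theorem D11777 : act 4 n10610 = n11777 := rfl
theorem F38547 : act 2 n11777 = n10611 := d14_1 D11777 (iv D10611) D10610
theorem F38548 : act 7 n11777 = n11736 := d24_2 F38504 D11777 (iv F38502)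
def n11778 : Q := act 6 n10610
theorem D11778 : act 6 n10610 = n11778 := rfl
theorem F38549 : act 1 n11778 = n10880 := d11_1 D11778 F38546 (iv D11776)
theorem F38550 : act 2 n11778 = n10612 := d16_1 D11778 (iv D10612) D10610
theorem F38551 : act 3 n11778 = n11778 := d20_1 D11778 (iv D11778) F34231
theorem F38552 : act 7 n11566 = n11778 := d29_29 F38551 F38550 F34235 (iv F35092) (iv D10875) (iv D9363) F24476 F19199 (iv D6033) (iv D4549) (iv F14090) F14089 (iv F17878) D7285 (iv F26622) (iv D8368) F21259 F21260 (iv F17088) (iv F19802) D7972 D9612 F30659 F29205 (iv D9152) F23914 (iv F28030) (iv F33286) D11566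
def n11779 : Q := act 6 n10611
theorem D11779 : act 6 n10611 = n11779 := rfl
theorem F38553 : act 1 n11779 = n11042 := d11_1 D11779 (iv D11042) (iv F34232)
theorem F38554 : act 3 n11779 = n10619 := d20_1 D11779 (iv D10619) (iv F34233)
theorem F38555 : act 4 n11779 = n10612 := d23_1 D11779 (iv D10612) D10611
theorem F38556 : act 7 n11538 = n11779 := d24_0 F38555 (iv F34237) (iv F37671)
def n11780 : Q := act 1 n10613
theorem D11780 : act 1 n10613 = n11780 := rfl
theorem F38557 : act 3 n11780 = n11780 := d8_2 F34239 D11780 (iv D11780)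
theorem F38558 : act 7 n11780 = n10627 := d12_2 (iv F34241) D11780 (iv D10627)
theorem F38559 : act 6 n10759 = n11780 := d27_5 F38558 (iv F34279) F29548 D9266 D10759
def n11781 : Q := act 4 n10613
theorem D11781 : act 4 n10613 = n11781 := rfl
theorem F38560 : act 0 n11781 = n10695 := d3_1 D11781 F34544 (iv F34238)
theorem F38561 : act 2 n11781 = n10614 := d14_1 D11781 (iv D10614) D10613
theorem F38562 : act 5 n11781 = n10617 := d22_2 (iv F34240) D11781 (iv D10617)
theorem F38563 : act 7 n11781 = n10628 := d24_2 (iv F34241) D11781 (iv D10628)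
def n11782 : Q := act 6 n10613
theorem D11782 : act 6 n10613 = n11782 := rfl
theorem F38564 : act 0 n11782 = n10696 := d5_1 D11782 (iv D10696) (iv F34238)
theorem F38565 : act 1 n11782 = n10759 := d11_1 D11782 F38559 (iv D11780)
theorem F38566 : act 2 n11782 = n10615 := d16_1 D11782 (iv D10615) D10613
theorem F38567 : act 3 n11782 = n11782 := d20_1 D11782 (iv D11782) F34239
theorem F38568 : act 7 n11782 = n10756 := d27_2 (iv F34241) D11782 (iv D10756) F34287 (iv D10629)
def n11783 : Q := act 6 n10614
theorem D11783 : act 6 n10614 = n11783 := rfl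
theorem F38569 : act 4 n11783 = n10615 := d23_1 D11783 (iv D10615) D10614
def n11784 : Q := act 7 n10615
theorem D11784 : act 7 n10615 = n11784 := rfl
theorem F38570 : act 2 n11784 = n10756 := d17_1 D11784 (iv F38568) F38566
theorem F38571 : act 3 n11784 = n11687 := d21_1 D11784 F38200 F37171 (iv F32222) (iv F34244)
theorem F38572 : act 5 n11784 = n11688 := d26_1 D11784 F38201 F37187
theorem F38573 : act 6 n11784 = n10631 := d27_1 D11784 (iv D10631) (iv D9107) (iv F29027) D10615
def n11785 : Q := act 4 n10616
theorem D11785 : act 4 n10616 = n11785 := rfl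
theorem F38574 : act 0 n11785 = n10874 := d3_1 D11785 F35090 (iv F34245)
theorem F38575 : act 1 n11785 = n10617 := d9_1 D11785 (iv D10617) D10616
theorem F38576 : act 2 n11785 = n11047 := d14_1 D11785 (iv D11047) (iv F34246)
theorem F38577 : act 7 n11785 = n10632 := d24_2 (iv F34248) D11785 (iv D10632)
def n11786 : Q := act 6 n10616
theorem D11786 : act 6 n10616 = n11786 := rfl
theorem F38578 : act 0 n11786 = n10877 := d5_1 D11786 (iv D10877) (iv F34245)
theorem F38579 : act 1 n11786 = n10618 := d11_1 D11786 (iv D10618) D10616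
theorem F38580 : act 2 n11786 = n11048 := d16_1 D11786 (iv D11048) (iv F34246)
theorem F38581 : act 3 n11786 = n11786 := d20_1 D11786 (iv D11786) F34247
def n11787 : Q := act 3 n10617
theorem D11787 : act 3 n10617 = n11787 := rfl
theorem F38582 : act 0 n11787 = n10708 := d2_1 D11787 (iv D10708) (iv F34249)
theorem F38583 : act 4 n11787 = n11787 := d18_2 D10617 D11787 (iv D11787) (iv D10617) F29030
def n11788 : Q := act 6 n10617
theorem D11788 : act 6 n10617 = n11788 := rfl
theorem F38584 : act 0 n11788 = n10709 := d5_1 D11788 (iv D10709) (iv F34249)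
theorem F38585 : act 2 n11788 = n10619 := d16_1 D11788 (iv D10619) (iv F34250)
theorem F38586 : act 4 n11788 = n10618 := d23_1 D11788 (iv D10618) D10617
def n11789 : Q := act 5 n10618
theorem D11789 : act 5 n10618 = n11789 := rfl
theorem F38587 : act 0 n11789 = n10710 := d4_1 D11789 (iv D10710) (iv F34252)
theorem F38588 : act 2 n11789 = n10620 := d15_1 D11789 (iv D10620) (iv F34253)
theorem F38589 : act 3 n11789 = n11789 := d19_1 D11789 (iv D11789) F34254
theorem F38590 : act 7 n11789 = n11675 := d26_2 F37273 D11789 F38147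
def n11790 : Q := act 5 n10619
theorem D11790 : act 5 n10619 = n11790 := rfl
theorem F38591 : act 4 n11790 = n10620 := d22_1 D11790 (iv D10620) (iv F34256)
theorem F38592 : act 7 n11790 = n11676 := d26_2 F37278 D11790 F38150
def n11791 : Q := act 1 n10620
theorem D11791 : act 1 n10620 = n11791 := rfl
theorem F38593 : act 0 n11791 = n11043 := d0_1 D11791 F35671 F33330 (iv F36336) F36335
theorem F38594 : act 3 n11791 = n10621 := d8_2 (iv F34257) D11791 (iv D10621)
theorem F38595 : act 5 n11791 = n11053 := d10_2 D10620 D11791 (iv D11053) (iv D9541) (iv F29034)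
theorem F38596 : act 7 n11791 = n11002 := d12_2 (iv F34258) D11791 F35520
def n11792 : Q := act 4 n10623
theorem D11792 : act 4 n10623 = n11792 := rfl
theorem F38597 : act 2 n11792 = n10624 := d14_1 D11792 (iv D10624) D10623
theorem F38598 : act 5 n11792 = n11055 := d22_2 (iv F34269) D11792 (iv D11055)
def n11793 : Q := act 6 n10624
theorem D11793 : act 6 n10624 = n11793 := rfl
theorem F38599 : act 1 n11793 = n10630 := d11_1 D11793 (iv D10630) (iv F34270)
theorem F38600 : act 3 n11793 = n11707 := d20_1 D11793 (iv F38535) F38533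
theorem F38601 : act 4 n11793 = n10625 := d23_1 D11793 (iv D10625) D10624
def n11794 : Q := act 5 n10625
theorem D11794 : act 5 n10625 = n11794 := rfl
theorem F38602 : act 3 n11794 = n10626 := d19_1 D11794 (iv D10626) (iv F34273)
theorem F38603 : act 6 n11794 = n11057 := d25_2 D10625 D11794 (iv D11057) (iv D9547) (iv F29047)
theorem F38604 : act 7 n11794 = n11436 := d26_2 (iv F34930) D11794 F37245
def n11795 : Q := act 4 n10627
theorem D11795 : act 4 n10627 = n11795 := rfl
theorem F38605 : act 1 n11795 = n10628 := d9_1 D11795 (iv D10628) D10627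
theorem F38606 : act 6 n11795 = n10751 := d23_2 F34279 D11795 (iv D10751)
def n11796 : Q := act 6 n10628
theorem D11796 : act 6 n10628 = n11796 := rfl
theorem F38607 : act 0 n11796 = n10690 := d5_1 D11796 F34525 (iv F34280)
theorem F38608 : act 1 n11796 = n10751 := d11_1 D11796 (iv F38606) F38605
theorem F38609 : act 2 n11796 = n10630 := d16_1 D11796 (iv D10630) (iv F34281)
theorem F38610 : act 4 n11796 = n10629 := d23_1 D11796 (iv D10629) D10628
theorem F38611 : act 7 n10755 = n11796 := d24_0 F38610 (iv F34287) D10755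
def n11797 : Q := act 7 n10630
theorem D11797 : act 7 n10630 = n11797 := rfl
theorem F38612 : act 2 n11797 = n10755 := d17_1 D11797 F38611 F38609
theorem F38613 : act 4 n11797 = n10631 := d24_1 D11797 (iv D10631) (iv F34288)
def n11798 : Q := act 3 n10632
theorem D11798 : act 3 n10632 = n11798 := rfl
theorem F38614 : act 0 n11798 = n10842 := d2_1 D11798 F35006 (iv F34290)
theorem F38615 : act 1 n11798 = n10633 := d8_1 D11798 (iv D10633) (iv F34291)
theorem F38616 : act 2 n11798 = n11710 := d13_1 D11798 F38279 F35682 (iv F30430) (iv F34292)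
theorem F38617 : act 4 n11798 = n10638 := d18_2 D10632 D11798 (iv D10638) (iv D9115) (iv F29057)
theorem F38618 : act 6 n11798 = n11003 := d20_2 F35083 D11798 F35525
def n11799 : Q := act 3 n10640
theorem D11799 : act 3 n10640 = n11799 := rfl
theorem F38619 : act 1 n11799 = n10680 := d8_1 D11799 (iv D10680) (iv F34324)
theorem F38620 : act 2 n11799 = n11753 := d13_1 D11799 (iv D11753) F34125 F29302 D10640
theorem F38621 : act 6 n11799 = n10641 := d20_2 (iv F34326) D11799 (iv D10641)
def n11800 : Q := act 4 n10641
theorem D11800 : act 4 n10641 = n11800 := rfl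
theorem F38622 : act 1 n11800 = n10683 := d9_1 D11800 (iv D10683) (iv F34327)
theorem F38623 : act 3 n11800 = n10676 := d18_1 D11800 (iv D10676) (iv D9150) (iv F29090) D10641
theorem F38624 : act 5 n11800 = n10761 := d22_2 (iv F34328) D11800 (iv D10761)
def n11801 : Q := act 5 n10643
theorem D11801 : act 5 n10643 = n11801 := rfl
theorem F38625 : act 0 n11801 = n10646 := d4_1 D11801 (iv D10646) (iv F34333)
theorem F38626 : act 3 n11801 = n10644 := d19_1 D11801 (iv D10644) (iv F34335)
theorem F38627 : act 4 n11801 = n11494 := d22_1 D11801 (iv D11494) (iv F34336)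
theorem F38628 : act 6 n11801 = n11567 := d25_2 D10643 D11801 (iv D11567) (iv D10326) (iv F29096)
theorem F38629 : act 7 n11801 = n11359 := d26_2 F34337 D11801 F36960
def n11802 : Q := act 1 n10644
theorem D11802 : act 1 n10644 = n11802 := rfl
theorem F38630 : act 4 n11802 = n11123 := d9_2 (iv F34339) D11802 F35990
theorem F38631 : act 5 n11802 = n11802 := d10_2 D10644 D11802 (iv D11802) (iv D10644) F29099
theorem F38632 : act 6 n11802 = n11162 := d11_2 (iv F34340) D11802 (iv F36180)
theorem F38633 : act 7 n11802 = n10645 := d12_2 (iv F34341) D11802 (iv D10645)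
theorem F38634 : act 2 n11802 = n11163 := d29_7 (iv D9165) F23951 (iv F22768) (iv F23840) D9121 D10644 D11802 F36182 F31135 (iv F30828) (iv F33697) (iv D10464) (iv D8913) (iv D7302) (iv F19353) F19351 F14479 F10768 D4827 D6363 D8005 F25318 F25320 D9635 (iv F30883) F30880 F29330 F29331 F29242
theorem F38635 : act 0 n11363 = n11802 := d1_3 F38634 F36181 D11363
def n11803 : Q := act 0 n10645
theorem D11803 : act 0 n10645 = n11803 := rfl
theorem F38636 : act 1 n11803 = n10649 := d0_2 D10645 D11803 (iv D10649) (iv D9127) (iv F29102)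
theorem F38637 : act 3 n11803 = n11349 := d2_2 (iv F34342) D11803 F36908
theorem F38638 : act 4 n11803 = n11163 := d3_2 (iv F34343) D11803 F36181
theorem F38639 : act 5 n11803 = n11803 := d4_2 F34344 D11803 (iv D11803)
theorem F38640 : act 6 n11803 = n10763 := d5_2 (iv F34345) D11803 (iv D10763)
theorem F38641 : act 7 n11803 = n11363 := d6_2 F38633 D11803 F38635
theorem F38642 : act 2 n11123 = n11803 := d17_3 F38641 (iv D11363) (iv F35993)
def n11804 : Q := act 2 n10645
theorem D11804 : act 2 n10645 = n11804 := rfl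
theorem F38643 : act 0 n11804 = n11123 := d1_1 D11804 F38642 (iv D11803)
theorem F38644 : act 1 n11804 = n11456 := d7_1 D11804 F37333 (iv D11197) F31276 D10645
theorem F38645 : act 3 n11804 = n11119 := d13_2 (iv F34342) D11804 F35973 F31883 D9953
theorem F38646 : act 4 n11804 = n11363 := d14_2 (iv F34343) D11804 (iv D11363)
theorem F38647 : act 5 n11804 = n11804 := d15_2 F34344 D11804 (iv D11804)
theorem F38648 : act 6 n11804 = n10764 := d16_2 (iv F34345) D11804 (iv D10764)
theorem F38649 : act 7 n11804 = n11163 := d17_2 F38633 D11804 (iv F38634)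
def n11805 : Q := act 1 n10646
theorem D11805 : act 1 n10646 = n11805 := rfl
theorem F38650 : act 3 n11805 = n10647 := d8_2 (iv F34346) D11805 (iv D10647)
theorem F38651 : act 4 n11805 = n11084 := d9_2 F38169 D11805 (iv F38167)
theorem F38652 : act 5 n11805 = n10655 := d10_2 D10646 D11805 (iv D10655) (iv D9132) (iv F29107)
theorem F38653 : act 2 n11805 = n11085 := d30_3 D9124 D10646 D11805 F35828 F31657 F29757 F27803 F22520 F17316 F12712 (iv D2978) F6292 (iv D1525) F3309 (iv F4804) (iv F6916) F9732 (iv F13607) (iv D4404) (iv F13603) (iv F18372) (iv F22386) (iv F27666) (iv D8668) F22382 (iv F22725) F22726 D7528 F23846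
theorem F38654 : act 0 n11304 = n11805 := d1_3 F38653 F35827 D11304
def n11806 : Q := act 0 n10647
theorem D11806 : act 0 n10647 = n11806 := rfl
theorem F38655 : act 1 n11806 = n11363 := d0_2 D10647 D11806 F38635 (iv D11802) F34338
theorem F38656 : act 3 n11806 = n11304 := d2_2 F38650 D11806 F38654
theorem F38657 : act 4 n11806 = n11456 := d3_2 F36206 D11806 F37332
theorem F38658 : act 5 n11806 = n10657 := d4_2 (iv F34347) D11806 (iv D10657)
theorem F38659 : act 6 n11806 = n11362 := d5_2 F36468 D11806 F36972
theorem F38660 : act 7 n11806 = n10649 := d6_2 (iv F34348) D11806 (iv D10649)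
theorem F38661 : act 2 n10738 = n11806 := d16_3 F38659 (iv D11362) (iv F34685)
def n11807 : Q := act 2 n10647
theorem D11807 : act 2 n10647 = n11807 := rfl
theorem F38662 : act 0 n11807 = n10738 := d1_1 D11807 F38661 (iv D11806)
theorem F38663 : act 3 n11807 = n10740 := d13_2 F38650 D11807 F34689 (iv F35828) (iv F38653)
theorem F38664 : act 5 n11807 = n10658 := d15_2 (iv F34347) D11807 (iv D10658)
theorem F38665 : act 6 n11807 = n11361 := d16_2 F36468 D11807 (iv F36971)
theorem F38666 : act 7 n11807 = n10650 := d17_2 (iv F34348) D11807 (iv D10650)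
def n11808 : Q := act 0 n10648
theorem D11808 : act 0 n10648 = n11808 := rfl
theorem F38667 : act 1 n11808 = n11349 := d0_2 D10648 D11808 F36908 F31889 (iv F29110)
theorem F38668 : act 3 n11808 = n10649 := d2_2 (iv F34349) D11808 (iv D10649)
theorem F38669 : act 4 n11808 = n11290 := d3_2 (iv F34350) D11808 F36650
theorem F38670 : act 5 n11808 = n10659 := d4_2 (iv F34351) D11808 (iv D10659)
theorem F38671 : act 6 n11808 = n10765 := d5_2 (iv F34352) D11808 (iv D10765)
def n11809 : Q := act 2 n10649
theorem D11809 : act 2 n10649 = n11809 := rfl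
theorem F38672 : act 0 n11809 = n10650 := d1_1 D11809 (iv D10650) D10649
theorem F38673 : act 1 n11809 = n10739 := d7_1 D11809 F34686 (iv F35990) F38642 F38636
theorem F38674 : act 5 n11809 = n10663 := d15_2 (iv F34353) D11809 (iv D10663)
theorem F38675 : act 6 n11809 = n10768 := d16_2 (iv F34354) D11809 (iv D10768)
theorem F38676 : act 7 n11809 = n10738 := d17_2 F38660 D11809 F38661
def n11810 : Q := act 3 n10650
theorem D11810 : act 3 n10650 = n11810 := rfl
theorem F38677 : act 5 n11810 = n10664 := d19_2 (iv F34355) D11810 (iv D10664)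
theorem F38678 : act 6 n11810 = n10769 := d20_2 (iv F34356) D11810 (iv D10769)
def n11811 : Q := act 3 n10660
theorem D11811 : act 3 n10660 = n11811 := rfl
theorem F38679 : act 2 n11811 = n10664 := d13_1 D11811 (iv D10664) (iv D9138) (iv F29144) D10660
theorem F38680 : act 6 n11811 = n10673 := d20_2 (iv F34401) D11811 (iv D10673)
theorem F38681 : act 7 n11811 = n11328 := d21_2 F36154 D11811 (iv D11328) F31805 (iv F36153)
def n11812 : Q := act 4 n10664
theorem D11812 : act 4 n10664 = n11812 := rfl
theorem F38682 : act 1 n11812 = n10690 := d9_1 D11812 (iv D10690) (iv F34412)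
theorem F38683 : act 6 n11812 = n10676 := d23_2 (iv F34413) D11812 (iv D10676)
def n11813 : Q := act 3 n10670
theorem D11813 : act 3 n10670 = n11813 := rfl
theorem F38684 : act 0 n11813 = n11399 := d2_1 D11813 (iv D11399) (iv F34435)
theorem F38685 : act 1 n11813 = n11811 := d8_1 D11813 (iv D11811) (iv F34436)
theorem F38686 : act 2 n11813 = n11762 := d13_1 D11813 F38486 F34165 F29271 D10670
theorem F38687 : act 5 n11813 = n10779 := d19_2 (iv F34438) D11813 (iv D10779)
theorem F38688 : act 6 n11813 = n11760 := d20_2 (iv F34439) D11813 F38482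
theorem F38689 : act 7 n11813 = n11403 := d21_2 (iv F34440) D11813 (iv D11403) (iv D10018) (iv F31476)
def n11814 : Q := act 3 n10671
theorem D11814 : act 3 n10671 = n11814 := rfl
theorem F38690 : act 0 n11814 = n10673 := d2_1 D11814 (iv D10673) (iv F34441)
theorem F38691 : act 1 n11814 = n11371 := d8_1 D11814 (iv D11371) F34444
theorem F38692 : act 2 n11814 = n10675 := d13_1 D11814 (iv D10675) (iv D9149) (iv F29179) D10671
theorem F38693 : act 5 n11814 = n10780 := d19_2 (iv F34443) D11814 (iv D10780)
theorem F38694 : act 7 n11814 = n11370 := d21_2 F34445 D11814 (iv D11370) (iv D9983) (iv F32001)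
def n11815 : Q := act 4 n10673
theorem D11815 : act 4 n10673 = n11815 := rfl
theorem F38695 : act 2 n11815 = n10676 := d14_1 D11815 (iv D10676) (iv F34453)
theorem F38696 : act 5 n11815 = n10781 := d22_2 (iv F34454) D11815 (iv D10781)
def n11816 : Q := act 7 n10673
theorem D11816 : act 7 n10673 = n11816 := rfl
theorem F38697 : act 0 n11816 = n11370 := d6_1 D11816 (iv F38694) F38690
theorem F38698 : act 2 n11816 = n10677 := d17_1 D11816 (iv D10677) (iv F34453)
theorem F38699 : act 3 n11816 = n11365 := d21_1 D11816 (iv D11365) F34460 (iv D10674) D10673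
theorem F38700 : act 5 n11816 = n10782 := d26_1 D11816 (iv D10782) (iv F34454)
theorem F38701 : act 6 n11816 = n11330 := d27_1 D11816 (iv D11330) (iv F36812) (iv F38681) F38680
def n11817 : Q := act 4 n10675
theorem D11817 : act 4 n10675 = n11817 := rfl
theorem F38702 : act 0 n11817 = n10676 := d3_1 D11817 (iv D10676) (iv F34461)
theorem F38703 : act 5 n11817 = n10785 := d22_2 (iv F34462) D11817 (iv D10785)
def n11818 : Q := act 7 n10675
theorem D11818 : act 7 n10675 = n11818 := rfl
theorem F38704 : act 0 n11818 = n10677 := d6_1 D11818 (iv D10677) (iv F34461)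
theorem F38705 : act 2 n11818 = n11370 := d17_1 D11818 (iv F38694) F38692
theorem F38706 : act 3 n11818 = n11818 := d21_1 D11818 (iv D11818) (iv D10675) F29191 D10675
theorem F38707 : act 5 n11818 = n10786 := d26_1 D11818 (iv D10786) (iv F34462)
theorem F38708 : act 6 n11818 = n10924 := d27_1 D11818 F35256 F34885 D10815 (iv F34919)
def n11819 : Q := act 7 n10676
theorem D11819 : act 7 n10676 = n11819 := rfl
theorem F38709 : act 1 n11819 = n10695 := d12_1 D11819 (iv D10695) (iv F34463)
theorem F38710 : act 4 n11819 = n10677 := d24_1 D11819 (iv D10677) D10676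
theorem F38711 : act 5 n11819 = n10787 := d26_1 D11819 (iv D10787) (iv F34464)
def n11820 : Q := act 6 n10677
theorem D11820 : act 6 n10677 = n11820 := rfl
theorem F38712 : act 0 n11820 = n10924 := d5_1 D11820 (iv F38708) F38704
theorem F38713 : act 1 n11820 = n10696 := d11_1 D11820 (iv D10696) (iv F34465)
theorem F38714 : act 2 n11820 = n11330 := d16_1 D11820 (iv F38701) F38698
theorem F38715 : act 3 n11820 = n11820 := d20_1 D11820 (iv D11820) F34466
theorem F38716 : act 5 n11820 = n10922 := d25_1 D11820 (iv F37022) F37021 (iv D10788) (iv F34467)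
theorem F38717 : act 7 n11820 = n11324 := d27_2 D10677 D11820 F36792 F34914 F34413
def n11821 : Q := act 4 n10680
theorem D11821 : act 4 n10680 = n11821 := rfl
theorem F38718 : act 3 n11821 = n10690 := d18_1 D11821 (iv D10690) (iv D9176) (iv F29216) D10680
theorem F38719 : act 6 n11821 = n10683 := d23_2 (iv F34479) D11821 (iv D10683)
def n11822 : Q := act 7 n10690
theorem D11822 : act 7 n10690 = n11822 := rfl
theorem F38720 : act 0 n11822 = n10755 := d6_1 D11822 F38611 F38607
theorem F38721 : act 4 n11822 = n10691 := d24_1 D11822 (iv D10691) D10690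
def n11823 : Q := act 6 n10691
theorem D11823 : act 6 n10691 = n11823 := rfl
theorem F38722 : act 0 n11823 = n10756 := d5_1 D11823 (iv D10756) (iv F34526)
theorem F38723 : act 1 n11823 = n11324 := d11_1 D11823 F36792 F34913
theorem F38724 : act 3 n11823 = n10754 := d20_1 D11823 (iv D10754) (iv F34527)
theorem F38725 : act 7 n11823 = n10696 := d27_2 D10691 D11823 (iv D10696) (iv D9184) (iv F29286)
def n11824 : Q := act 3 n10695
theorem D11824 : act 3 n10695 = n11824 := rfl
theorem F38726 : act 4 n11824 = n11824 := d18_2 (iv F34544) D11824 (iv D11824) F34544 F29312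
theorem F38727 : act 5 n11824 = n10708 := d19_2 (iv F34545) D11824 (iv D10708)
def n11825 : Q := act 6 n10695
theorem D11825 : act 6 n10695 = n11825 := rfl
theorem F38728 : act 4 n11825 = n10696 := d23_1 D11825 (iv D10696) (iv F34544)
def n11826 : Q := act 5 n10696
theorem D11826 : act 5 n10696 = n11826 := rfl
theorem F38729 : act 1 n11826 = n10945 := d10_1 D11826 (iv D10945) (iv F35249) (iv F38716) F38713
theorem F38730 : act 3 n11826 = n11826 := d19_1 D11826 (iv D11826) F34546
theorem F38731 : act 6 n11826 = n10710 := d25_2 D10696 D11826 (iv D10710) (iv D9204) (iv F29313)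
def n11827 : Q := act 3 n10697
theorem D11827 : act 3 n10697 = n11827 := rfl
theorem F38732 : act 0 n11827 = n11726 := d2_1 D11827 (iv D11726) (iv F34547)
theorem F38733 : act 2 n11827 = n10830 := d13_1 D11827 (iv D10830) (iv D9333) (iv F29341) D10697
theorem F38734 : act 5 n11827 = n10699 := d19_2 (iv F34549) D11827 (iv D10699)
theorem F38735 : act 7 n11827 = n10936 := d21_2 (iv F34550) D11827 F35298 F30017 (iv F29441)
def n11828 : Q := act 4 n10699
theorem D11828 : act 4 n10699 = n11828 := rfl
theorem F38736 : act 0 n11828 = n11729 := d3_1 D11828 (iv D11729) (iv F34556)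
theorem F38737 : act 1 n11828 = n10700 := d9_1 D11828 (iv D10700) (iv F34557)
theorem F38738 : act 2 n11828 = n10833 := d14_1 D11828 (iv D10833) (iv F34558)
theorem F38739 : act 3 n11828 = n11475 := d18_1 D11828 (iv D11475) (iv D10198) (iv F29351) D10699
theorem F38740 : act 6 n11828 = n10727 := d23_2 (iv F34559) D11828 (iv D10727)
theorem F38741 : act 7 n11828 = n10935 := d24_2 (iv F34560) D11828 F35296
def n11829 : Q := act 3 n10701
theorem D11829 : act 3 n10701 = n11829 := rfl
theorem F38742 : act 1 n11829 = n10847 := d8_1 D11829 (iv D10847) (iv F34565)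
theorem F38743 : act 4 n11829 = n11829 := d18_2 (iv F34567) D11829 (iv D11829) F34567 F29361
theorem F38744 : act 6 n11829 = n10943 := d20_2 F34568 D11829 (iv D10943)
theorem F38745 : act 7 n11829 = n10708 := d21_2 D10701 D11829 (iv D10708) (iv D9203) (iv F29358)
def n11830 : Q := act 3 n10702
theorem D11830 : act 3 n10702 = n11830 := rfl
theorem F38746 : act 0 n11830 = n10706 := d2_1 D11830 (iv D10706) (iv F34569)
theorem F38747 : act 1 n11830 = n11466 := d8_1 D11830 (iv D11466) (iv F34570)
theorem F38748 : act 5 n11830 = n10703 := d19_2 (iv F34572) D11830 (iv D10703)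
theorem F38749 : act 6 n11830 = n11827 := d20_2 (iv F34573) D11830 (iv D11827)
theorem F38750 : act 7 n11830 = n10850 := d21_2 D10702 D11830 (iv D10850) (iv D9346) (iv F29366)
def n11831 : Q := act 4 n10703
theorem D11831 : act 4 n10703 = n11831 := rfl
theorem F38751 : act 0 n11831 = n10707 := d3_1 D11831 (iv D10707) (iv F34574)
theorem F38752 : act 1 n11831 = n11161 := d9_1 D11831 (iv D11161) (iv F34575)
theorem F38753 : act 6 n11831 = n10714 := d23_2 (iv F34576) D11831 (iv D10714)
theorem F38754 : act 7 n11831 = n10852 := d24_2 (iv F34577) D11831 (iv D10852)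
def n11832 : Q := act 3 n10704
theorem D11832 : act 3 n10704 = n11832 := rfl
theorem F38755 : act 2 n11832 = n11262 := d13_1 D11832 (iv D11262) F31481 (iv F31176) (iv F34578)
theorem F38756 : act 5 n11832 = n10705 := d19_2 (iv F34580) D11832 (iv D10705)
theorem F38757 : act 6 n11832 = n10885 := d20_2 (iv F34581) D11832 (iv D10885)
theorem F38758 : act 7 n11832 = n11636 := d21_2 D10704 D11832 (iv D11636) (iv D10412) (iv F29373)
def n11833 : Q := act 4 n10705
theorem D11833 : act 4 n10705 = n11833 := rfl
theorem F38759 : act 1 n11833 = n11625 := d9_1 D11833 (iv D11625) (iv F34582)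
theorem F38760 : act 2 n11833 = n11263 := d14_1 D11833 (iv D11263) (iv F34583)
theorem F38761 : act 3 n11833 = n10707 := d18_1 D11833 (iv D10707) (iv D9202) (iv F29378) D10705
theorem F38762 : act 6 n11833 = n10715 := d23_2 (iv F34584) D11833 (iv D10715)
theorem F38763 : act 7 n11833 = n11637 := d24_2 (iv F34585) D11833 (iv D11637)
def n11834 : Q := act 4 n10706
theorem D11834 : act 4 n10706 = n11834 := rfl
theorem F38764 : act 5 n11834 = n10707 := d22_2 (iv F34586) D11834 (iv D10707)
theorem F38765 : act 7 n11834 = n10859 := d24_2 (iv F34587) D11834 (iv D10859)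
def n11835 : Q := act 2 n10708
theorem D11835 : act 2 n10708 = n11835 := rfl
theorem F38766 : act 4 n11835 = n11835 := d14_2 F34591 D11835 (iv D11835)
def n11836 : Q := act 6 n10708
theorem D11836 : act 6 n10708 = n11836 := rfl
theorem F38767 : act 1 n11836 = n10882 := d11_1 D11836 (iv D10882) (iv F34590)
theorem F38768 : act 3 n11836 = n10709 := d20_1 D11836 (iv D10709) D10708
theorem F38769 : act 4 n11836 = n11836 := d23_1 D11836 (iv D11836) F34591
def n11837 : Q := act 5 n10709
theorem D11837 : act 5 n10709 = n11837 := rfl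
theorem F38770 : act 4 n11837 = n10710 := d22_1 D11837 (iv D10710) (iv F34593)
def n11838 : Q := act 1 n10710
theorem D11838 : act 1 n10710 = n11838 := rfl
theorem F38771 : act 3 n11838 = n11838 := d8_2 F34594 D11838 (iv D11838)
theorem F38772 : act 5 n11838 = n10884 := d10_2 D10710 D11838 (iv D10884) (iv D9370) (iv F29385)
theorem F38773 : act 6 n11838 = n10945 := d11_2 F38731 D11838 (iv F38729)
theorem F38774 : act 0 n10948 = n11838 := d5_3 F38773 F35319 D10948
def n11839 : Q := act 3 n10711
theorem D11839 : act 3 n10711 = n11839 := rfl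
theorem F38775 : act 0 n11839 = n11832 := d2_1 D11839 (iv D11832) (iv F34595)
theorem F38776 : act 1 n11839 = n11570 := d8_1 D11839 (iv D11570) (iv F34596)
theorem F38777 : act 2 n11839 = n11335 := d13_1 D11839 (iv D11335) (iv D9934) (iv F31114) (iv F34597)
theorem F38778 : act 5 n11839 = n10712 := d19_2 (iv F34599) D11839 (iv D10712)
theorem F38779 : act 6 n11839 = n11474 := d20_2 (iv F34600) D11839 (iv D11474)
theorem F38780 : act 7 n11839 = n10721 := d21_2 D10711 D11839 (iv D10721) (iv D9214) (iv F29390)
def n11840 : Q := act 4 n10712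
theorem D11840 : act 4 n10712 = n11840 := rfl
theorem F38781 : act 0 n11840 = n11833 := d3_1 D11840 (iv D11833) (iv F34601)
theorem F38782 : act 1 n11840 = n10714 := d9_1 D11840 (iv D10714) (iv F34602)
theorem F38783 : act 2 n11840 = n11336 := d14_1 D11840 (iv D11336) (iv F34603)
theorem F38784 : act 3 n11840 = n11831 := d18_1 D11840 (iv D11831) (iv D10703) (iv F29396) D10712
theorem F38785 : act 6 n11840 = n11161 := d23_2 (iv F34604) D11840 (iv D11161)
theorem F38786 : act 7 n11840 = n10723 := d24_2 (iv F34605) D11840 (iv D10723)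
def n11841 : Q := act 1 n10713
theorem D11841 : act 1 n10713 = n11841 := rfl
theorem F38787 : act 0 n11841 = n11068 := d0_1 D11841 F35758 F34721 F31706 (iv F34606)
theorem F38788 : act 2 n11841 = n11067 := d7_2 D10713 D11841 F35756 (iv F34603) F34602
theorem F38789 : act 3 n11841 = n11070 := d8_2 (iv F34607) D11841 F35762
theorem F38790 : act 5 n11841 = n11702 := d10_2 (iv F34608) D11841 F38252 F33909 (iv F33944)
theorem F38791 : act 6 n11841 = n11317 := d11_2 F36759 D11841 F36771
theorem F38792 : act 7 n11841 = n10724 := d12_2 (iv F34609) D11841 (iv D10724)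
def n11842 : Q := act 4 n10713
theorem D11842 : act 4 n10713 = n11842 := rfl
theorem F38793 : act 0 n11842 = n10718 := d3_1 D11842 (iv D10718) (iv F34606)
theorem F38794 : act 2 n11842 = n10714 := d14_1 D11842 (iv D10714) D10713
theorem F38795 : act 5 n11842 = n11711 := d22_2 (iv F34608) D11842 (iv D11711)
theorem F38796 : act 7 n11842 = n10725 := d24_2 (iv F34609) D11842 (iv D10725)
def n11843 : Q := act 1 n10716
theorem D11843 : act 1 n10716 = n11843 := rfl
theorem F38797 : act 0 n11843 = n11036 := d0_1 D11843 F35643 F30348 (iv F33944) (iv F34616)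
theorem F38798 : act 3 n11843 = n11035 := d8_2 (iv F34617) D11843 F35638
theorem F38799 : act 7 n11843 = n10730 := d12_2 (iv F34619) D11843 (iv D10730)
def n11844 : Q := act 4 n10716
theorem D11844 : act 4 n10716 = n11844 := rfl
theorem F38800 : act 0 n11844 = n11711 := d3_1 D11844 (iv D11711) (iv F34616)
theorem F38801 : act 2 n11844 = n10717 := d14_1 D11844 (iv D10717) D10716
theorem F38802 : act 5 n11844 = n10718 := d22_2 (iv F34618) D11844 (iv D10718)
theorem F38803 : act 7 n11844 = n10731 := d24_2 (iv F34619) D11844 (iv D10731)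
def n11845 : Q := act 3 n10718
theorem D11845 : act 3 n10718 = n11845 := rfl
theorem F38804 : act 1 n11845 = n10803 := d8_1 D11845 (iv F36767) F36766
theorem F38805 : act 2 n11845 = n11278 := d13_1 D11845 F36600 (iv F34612) F34613 (iv F34623)
theorem F38806 : act 4 n11845 = n10802 := d18_2 D10718 D11845 (iv D10802) (iv F31702) F31701
theorem F38807 : act 6 n11845 = n10814 := d20_2 F36764 D11845 (iv F36763)
def n11846 : Q := act 2 n10721
theorem D11846 : act 2 n10721 = n11846 := rfl
theorem F38808 : act 5 n11846 = n10722 := d15_2 (iv F34635) D11846 (iv D10722)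
theorem F38809 : act 7 n11846 = n11335 := d17_2 F38780 D11846 (iv F38777)
def n11847 : Q := act 4 n10721
theorem D11847 : act 4 n10721 = n11847 := rfl
theorem F38810 : act 1 n11847 = n11641 := d9_1 D11847 (iv D11641) (iv F34634)
theorem F38811 : act 3 n11847 = n11642 := d18_1 D11847 (iv D11642) (iv D10419) (iv F29417) D10721
theorem F38812 : act 5 n11847 = n10723 := d22_2 (iv F34635) D11847 (iv D10723)
def n11848 : Q := act 4 n10722
theorem D11848 : act 4 n10722 = n11848 := rfl
theorem F38813 : act 2 n11848 = n10723 := d14_1 D11848 (iv D10723) D10722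
theorem F38814 : act 6 n11848 = n10918 := d23_2 (iv F34636) D11848 (iv D10918)
theorem F38815 : act 7 n11848 = n11336 := d24_2 (iv F34637) D11848 (iv D11336)
def n11849 : Q := act 4 n10724
theorem D11849 : act 4 n10724 = n11849 := rfl
theorem F38816 : act 1 n11849 = n10725 := d9_1 D11849 (iv D10725) D10724
theorem F38817 : act 6 n11849 = n10923 := d23_2 (iv F34641) D11849 (iv D10923)
def n11850 : Q := act 5 n10724
theorem D11850 : act 5 n10724 = n11850 := rfl
theorem F38818 : act 0 n11850 = n10788 := d4_1 D11850 (iv F37021) F37018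
theorem F38819 : act 1 n11850 = n11704 := d10_1 D11850 F38259 F33951 F29445 D10724
theorem F38820 : act 3 n11850 = n11850 := d19_1 D11850 (iv D11850) F34640
theorem F38821 : act 6 n11850 = n10786 := d25_2 (iv F34641) D11850 (iv F38707) F38708 (iv D10924)
theorem F38822 : act 7 n11850 = n11702 := d26_2 F38792 D11850 (iv F38790)
def n11851 : Q := act 3 n10725
theorem D11851 : act 3 n10725 = n11851 := rfl
theorem F38823 : act 0 n11851 = n10735 := d2_1 D11851 (iv D10735) (iv F34642)
theorem F38824 : act 4 n11851 = n11851 := d18_2 D10725 D11851 (iv D11851) (iv D10725) F29422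
theorem F38825 : act 6 n11851 = n10925 := d20_2 (iv F34644) D11851 (iv D10925)
def n11852 : Q := act 3 n10728
theorem D11852 : act 3 n10728 = n11852 := rfl
theorem F38826 : act 2 n11852 = n10735 := d13_1 D11852 (iv D10735) F29459 (iv F29447) (iv F34654)
theorem F38827 : act 4 n11852 = n11852 := d18_2 D10728 D11852 (iv D11852) (iv D10728) F29444
theorem F38828 : act 5 n11852 = n11851 := d19_2 (iv F34655) D11852 (iv D11851)
theorem F38829 : act 6 n11852 = n10942 := d20_2 (iv F34656) D11852 (iv D10942)
def n11853 : Q := act 4 n10730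
theorem D11853 : act 4 n10730 = n11853 := rfl
theorem F38830 : act 1 n11853 = n10731 := d9_1 D11853 (iv D10731) D10730
def n11854 : Q := act 3 n10731
theorem D11854 : act 3 n10731 = n11854 := rfl
theorem F38831 : act 0 n11854 = n11852 := d2_1 D11854 (iv D11852) (iv F34660)
theorem F38832 : act 2 n11854 = n11851 := d13_1 D11854 (iv D11851) F34643 (iv F29455) (iv F34661)
theorem F38833 : act 4 n11854 = n11854 := d18_2 D10731 D11854 (iv D11854) (iv D10731) F29452
theorem F38834 : act 5 n11854 = n10735 := d19_2 (iv F34662) D11854 (iv D10735)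
def n11855 : Q := act 4 n10732
theorem D11855 : act 4 n10732 = n11855 := rfl
theorem F38835 : act 0 n11855 = n10733 := d3_1 D11855 (iv D10733) D10732
theorem F38836 : act 6 n11855 = n10944 := d23_2 (iv F34664) D11855 (iv D10944)
def n11856 : Q := act 3 n10733
theorem D11856 : act 3 n10733 = n11856 := rfl
theorem F38837 : act 1 n11856 = n10735 := d8_1 D11856 (iv D10735) (iv F34665)
theorem F38838 : act 4 n11856 = n11856 := d18_2 D10733 D11856 (iv D11856) (iv D10733) F29457
theorem F38839 : act 6 n11856 = n10946 := d20_2 (iv F34666) D11856 (iv D10946)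
def n11857 : Q := act 5 n10733
theorem D11857 : act 5 n10733 = n11857 := rfl
theorem F38840 : act 4 n11857 = n10734 := d22_1 D11857 (iv D10734) D10733
def n11858 : Q := act 6 n10734
theorem D11858 : act 6 n10734 = n11858 := rfl
theorem F38841 : act 0 n11858 = n10884 := d5_1 D11858 (iv F35617) F35613
theorem F38842 : act 3 n11858 = n11858 := d20_1 D11858 (iv D11858) F34667
theorem F38843 : act 5 n11858 = n10948 := d25_1 D11858 (iv D10948) (iv D9426) (iv F29458) D10734
def n11859 : Q := act 7 n10735
theorem D11859 : act 7 n10735 = n11859 := rfl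
theorem F38844 : act 4 n11859 = n11859 := d24_1 D11859 (iv D11859) F34668
def n11860 : Q := act 6 n10743
theorem D11860 : act 6 n10743 = n11860 := rfl
theorem F38845 : act 0 n11860 = n11653 := d5_1 D11860 (iv D11653) (iv F34698)
theorem F38846 : act 1 n11860 = n11633 := d11_1 D11860 (iv F38095) F38093
theorem F38847 : act 2 n11860 = n11316 := d16_1 D11860 (iv D11316) (iv F34699)
theorem F38848 : act 3 n11860 = n11391 := d20_1 D11860 F37092 F34862
theorem F38849 : act 4 n11860 = n10744 := d23_1 D11860 (iv D10744) D10743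
theorem F38850 : act 7 n11860 = n11016 := d27_2 (iv F34701) D11860 (iv D11016) F30302 (iv F29535)
def n11861 : Q := act 5 n10744
theorem D11861 : act 5 n10744 = n11861 := rfl
theorem F38851 : act 0 n11861 = n11028 := d4_1 D11861 F35610 (iv F34702)
theorem F38852 : act 2 n11861 = n10998 := d15_1 D11861 F35503 (iv F34704)
theorem F38853 : act 3 n11861 = n10745 := d19_1 D11861 (iv D10745) (iv F34705)
theorem F38854 : act 6 n11861 = n10996 := d25_2 D10744 D11861 F35496 F30192 (iv F29506)
theorem F38855 : act 7 n11861 = n11017 := d26_2 (iv F34706) D11861 (iv D11017)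
def n11862 : Q := act 1 n10745
theorem D11862 : act 1 n10745 = n11862 := rfl
theorem F38856 : act 0 n11862 = n11672 := d0_1 D11862 F38131 (iv F35628) F35629 (iv F34707)
theorem F38857 : act 2 n11862 = n11383 := d7_2 (iv F34708) D11862 (iv D11383) F32087 (iv F30202)
theorem F38858 : act 4 n11862 = n11384 := d9_2 (iv F34709) D11862 F37065
theorem F38859 : act 5 n11862 = n11668 := d10_2 D10745 D11862 F38123 (iv D11661) F33621
theorem F38860 : act 6 n11862 = n11000 := d11_2 (iv F34710) D11862 (iv D11000)
theorem F38861 : act 7 n11862 = n10746 := d12_2 (iv F34711) D11862 (iv D10746)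
def n11863 : Q := act 2 n10746
theorem D11863 : act 2 n10746 = n11863 := rfl
theorem F38862 : act 1 n11863 = n10951 := d7_1 D11863 F35337 F32029 (iv F29513) D10746
theorem F38863 : act 3 n11863 = n10930 := d13_2 (iv F34712) D11863 F35280 (iv F35580) (iv D11019)
theorem F38864 : act 4 n11863 = n11124 := d14_2 F36609 D11863 (iv F36608)
theorem F38865 : act 6 n11863 = n11863 := d16_2 F34713 D11863 (iv D11863)
theorem F38866 : act 7 n11863 = n11383 := d17_2 F38861 D11863 (iv F38857)
def n11864 : Q := act 4 n10747
theorem D11864 : act 4 n10747 = n11864 := rfl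
theorem F38867 : act 1 n11864 = n10748 := d9_1 D11864 (iv D10748) (iv F34714)
theorem F38868 : act 3 n11864 = n10755 := d18_1 D11864 (iv D10755) (iv D9263) (iv F29523) D10747
theorem F38869 : act 7 n11864 = n11511 := d24_2 (iv F34715) D11864 (iv D11511)
def n11865 : Q := act 6 n10748
theorem D11865 : act 6 n10748 = n11865 := rfl
theorem F38870 : act 0 n11865 = n11316 := d5_1 D11865 (iv D11316) (iv F34716)
theorem F38871 : act 2 n11865 = n11653 := d16_1 D11865 (iv D11653) (iv F34717)
theorem F38872 : act 3 n11865 = n10758 := d20_1 D11865 (iv D10758) (iv F34718)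
theorem F38873 : act 4 n11865 = n10749 := d23_1 D11865 (iv D10749) D10748
theorem F38874 : act 5 n11865 = n11029 := d25_1 D11865 (iv D11029) F30321 (iv F29535) (iv F34719)
theorem F38875 : act 7 n11865 = n11855 := d27_2 (iv F34720) D11865 F38836 (iv F35509) F35508
def n11866 : Q := act 5 n10752
theorem D11866 : act 5 n10752 = n11866 := rfl
theorem F38876 : act 4 n11866 = n10753 := d22_1 D11866 (iv D10753) (iv F34729)
theorem F38877 : act 7 n11866 = n11052 := d26_2 (iv F34730) D11866 (iv D11052)
def n11867 : Q := act 6 n10755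
theorem D11867 : act 6 n10755 = n11867 := rfl
theorem F38878 : act 1 n11867 = n10758 := d11_1 D11867 (iv D10758) (iv F34737)
theorem F38879 : act 4 n11867 = n10756 := d23_1 D11867 (iv D10756) D10755
def n11868 : Q := act 5 n10756
theorem D11868 : act 5 n10756 = n11868 := rfl
theorem F38880 : act 1 n11868 = n11057 := d10_1 D11868 (iv D11057) F30413 (iv F29578) (iv F34738)
theorem F38881 : act 2 n11868 = n11688 := d15_1 D11868 (iv F38572) F38570
theorem F38882 : act 3 n11868 = n10757 := d19_1 D11868 (iv D10757) (iv F34739)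
def n11869 : Q := act 7 n10758
theorem D11869 : act 7 n10758 = n11869 := rfl
theorem F38883 : act 4 n11869 = n10759 := d24_1 D11869 (iv D10759) (iv F34744)
theorem F38884 : act 5 n11869 = n11064 := d26_1 D11869 (iv D11064) (iv F34745)
def n11870 : Q := act 7 n10761
theorem D11870 : act 7 n10761 = n11870 := rfl
theorem F38885 : act 1 n11870 = n10800 := d12_1 D11870 (iv D10800) (iv F34753)
theorem F38886 : act 4 n11870 = n10762 := d24_1 D11870 (iv D10762) D10761
def n11871 : Q := act 2 n10765
theorem D11871 : act 2 n10765 = n11871 := rfl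
theorem F38887 : act 0 n11871 = n10766 := d1_1 D11871 (iv D10766) D10765
theorem F38888 : act 1 n11871 = n11592 := d7_1 D11871 F37874 F33605 D10450 (iv F34768)
theorem F38889 : act 4 n11871 = n11270 := d14_2 (iv F34770) D11871 F36571
theorem F38890 : act 5 n11871 = n10770 := d15_2 (iv F34771) D11871 (iv D10770)
theorem F38891 : act 7 n11871 = n11268 := d17_2 (iv F34772) D11871 F36561
def n11872 : Q := act 3 n10766
theorem D11872 : act 3 n10766 = n11872 := rfl
theorem F38892 : act 1 n11872 = n11458 := d8_1 D11872 (iv D11458) (iv F34773)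
theorem F38893 : act 2 n11872 = n10769 := d13_1 D11872 (iv D10769) (iv D9282) (iv F29633) D10766
theorem F38894 : act 5 n11872 = n10771 := d19_2 (iv F34775) D11872 (iv D10771)
def n11873 : Q := act 3 n10768
theorem D11873 : act 3 n10768 = n11873 := rfl
theorem F38895 : act 0 n11873 = n10769 := d2_1 D11873 (iv D10769) (iv F34782)
theorem F38896 : act 1 n11873 = n11540 := d8_1 D11873 F37678 (iv F34783)
theorem F38897 : act 5 n11873 = n10773 := d19_2 (iv F34784) D11873 (iv D10773)
def n11874 : Q := act 4 n10769
theorem D11874 : act 4 n10769 = n11874 := rfl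
theorem F38898 : act 5 n11874 = n10774 := d22_2 (iv F34785) D11874 (iv D10774)
def n11875 : Q := act 7 n10769
theorem D11875 : act 7 n10769 = n11875 := rfl
theorem F38899 : act 1 n11875 = n11666 := d12_1 D11875 (iv F38233) F38231
theorem F38900 : act 3 n11875 = n11664 := d21_1 D11875 F38114 (iv D11251) F31449 D10769
theorem F38901 : act 5 n11875 = n10775 := d26_1 D11875 (iv D10775) (iv F34785)
theorem F38902 : act 6 n11875 = n11663 := d30_6 D4585 D6069 D7679 D9282 D10769 D11875 F38108 F34714 F29525 (iv D8879) (iv D7262) F17805 F13997 (iv F18834) F18835 (iv F16690) (iv D5349) (iv D3941) D3940 D5346 (iv F16681) (iv D4282) (iv D3061) F6491 D2144 D3111 F9598 F7124 D3308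
def n11876 : Q := act 3 n10770
theorem D11876 : act 3 n10770 = n11876 := rfl
theorem F38903 : act 0 n11876 = n10771 := d2_1 D11876 (iv D10771) (iv F34786)
theorem F38904 : act 1 n11876 = n11410 := d8_1 D11876 F37151 (iv F34787)
theorem F38905 : act 2 n11876 = n10773 := d13_1 D11876 (iv D10773) (iv D9285) (iv F29645) D10770
theorem F38906 : act 6 n11876 = n10780 := d20_2 (iv F34789) D11876 (iv D10780)
def n11877 : Q := act 4 n10771
theorem D11877 : act 4 n10771 = n11877 := rfl
theorem F38907 : act 1 n11877 = n11278 := d9_1 D11877 (iv D11278) (iv F34791)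
theorem F38908 : act 2 n11877 = n10774 := d14_1 D11877 (iv D10774) (iv F34792)
theorem F38909 : act 3 n11877 = n11276 := d18_1 D11877 (iv D11276) (iv D9851) (iv F29650) D10771
theorem F38910 : act 6 n11877 = n10781 := d23_2 (iv F34793) D11877 (iv D10781)
def n11878 : Q := act 3 n10772
theorem D11878 : act 3 n10772 = n11878 := rfl
theorem F38911 : act 0 n11878 = n10805 := d2_1 D11878 (iv D10805) (iv F34794)
theorem F38912 : act 1 n11878 = n10773 := d8_1 D11878 (iv D10773) D10772
theorem F38913 : act 2 n11878 = n11387 := d13_1 D11878 F37075 F32341 F30560 (iv F34795)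
theorem F38914 : act 5 n11878 = n11392 := d19_2 (iv F34796) D11878 F37096
theorem F38915 : act 6 n11878 = n10783 := d20_2 (iv F34797) D11878 (iv D10783)
theorem F38916 : act 7 n11878 = n11385 := d21_2 F36068 D11878 (iv D11385) F32095 (iv F36065)
def n11879 : Q := act 4 n10773
theorem D11879 : act 4 n10773 = n11879 := rfl
theorem F38917 : act 0 n11879 = n10774 := d3_1 D11879 (iv D10774) (iv F34798)
theorem F38918 : act 6 n11879 = n10785 := d23_2 (iv F34799) D11879 (iv D10785)
def n11880 : Q := act 7 n10773
theorem D11880 : act 7 n10773 = n11880 := rfl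
theorem F38919 : act 0 n11880 = n10775 := d6_1 D11880 (iv D10775) (iv F34798)
theorem F38920 : act 1 n11880 = n11385 := d12_1 D11880 (iv F38916) F38912
theorem F38921 : act 3 n11880 = n11384 := d21_1 D11880 F37067 (iv D11280) F31535 D10773
theorem F38922 : act 6 n11880 = n11702 := d27_1 D11880 (iv F38822) F38821 (iv D10786) (iv F34799)
def n11881 : Q := act 7 n10774
theorem D11881 : act 7 n10774 = n11881 := rfl
theorem F38923 : act 1 n11881 = n10808 := d12_1 D11881 (iv D10808) (iv F34800)
theorem F38924 : act 4 n11881 = n10775 := d24_1 D11881 (iv D10775) D10774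
def n11882 : Q := act 3 n10776
theorem D11882 : act 3 n10776 = n11882 := rfl
theorem F38925 : act 2 n11882 = n10812 := d13_1 D11882 (iv D10812) (iv D9319) (iv F29657) D10776
theorem F38926 : act 5 n11882 = n10778 := d19_2 (iv F34804) D11882 (iv D10778)
theorem F38927 : act 6 n11882 = n11460 := d20_2 (iv F34805) D11882 (iv D11460)
def n11883 : Q := act 4 n10778
theorem D11883 : act 4 n10778 = n11883 := rfl
theorem F38928 : act 1 n11883 = n10781 := d9_1 D11883 (iv D10781) (iv F34812)
theorem F38929 : act 2 n11883 = n10814 := d14_1 D11883 (iv D10814) (iv F34813)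
theorem F38930 : act 3 n11883 = n11263 := d18_1 D11883 (iv D11263) (iv D9840) (iv F29667) D10778
theorem F38931 : act 6 n11883 = n11278 := d23_2 (iv F34814) D11883 (iv D11278)
def n11884 : Q := act 7 n10778
theorem D11884 : act 7 n10778 = n11884 := rfl
theorem F38932 : act 0 n11884 = n11811 := d6_1 D11884 F38681 F36810
theorem F38933 : act 1 n11884 = n10782 := d12_1 D11884 (iv D10782) (iv F34812)
theorem F38934 : act 2 n11884 = n10815 := d17_1 D11884 (iv D10815) (iv F34813)
theorem F38935 : act 3 n11884 = n11258 := d21_1 D11884 (iv D11258) F31478 (iv F29669) D10778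
theorem F38936 : act 6 n11884 = n11814 := d27_1 D11884 F38694 F37006 F36598 (iv F34814)
def n11885 : Q := act 4 n10779
theorem D11885 : act 4 n10779 = n11885 := rfl
theorem F38937 : act 0 n11885 = n11401 := d3_1 D11885 (iv D11401) (iv F34815)
theorem F38938 : act 1 n11885 = n11263 := d9_1 D11885 (iv D11263) (iv F34816)
theorem F38939 : act 3 n11885 = n10781 := d18_1 D11885 (iv D10781) (iv D9293) (iv F29672) D10779
theorem F38940 : act 6 n11885 = n11276 := d23_2 (iv F34817) D11885 (iv D11276)
theorem F38941 : act 7 n11885 = n11405 := d24_2 (iv F34818) D11885 (iv D11405)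
def n11886 : Q := act 4 n10780
theorem D11886 : act 4 n10780 = n11886 := rfl
theorem F38942 : act 0 n11886 = n10781 := d3_1 D11886 (iv D10781) (iv F34819)
theorem F38943 : act 1 n11886 = n11409 := d9_1 D11886 (iv D11409) (iv F34820)
theorem F38944 : act 2 n11886 = n10785 := d14_1 D11886 (iv D10785) (iv F34821)
theorem F38945 : act 3 n11886 = n11401 := d18_1 D11886 (iv D11401) (iv D10015) (iv F29677) D10780
def n11887 : Q := act 7 n10780
theorem D11887 : act 7 n10780 = n11887 := rfl
theorem F38946 : act 0 n11887 = n10782 := d6_1 D11887 (iv D10782) (iv F34819)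
theorem F38947 : act 1 n11887 = n11399 := d12_1 D11887 F37120 (iv F34820)
theorem F38948 : act 2 n11887 = n10786 := d17_1 D11887 (iv D10786) (iv F34821)
theorem F38949 : act 3 n11887 = n11369 := d21_1 D11887 (iv D11369) F32011 F29678 D10780
theorem F38950 : act 5 n11887 = n11370 := d26_1 D11887 (iv F38694) F38693
def n11888 : Q := act 7 n10781
theorem D11888 : act 7 n10781 = n11888 := rfl
theorem F38951 : act 2 n11888 = n10787 := d17_1 D11888 (iv D10787) (iv F34822)
theorem F38952 : act 4 n11888 = n10782 := d24_1 D11888 (iv D10782) D10781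
def n11889 : Q := act 2 n10783
theorem D11889 : act 2 n10783 = n11889 := rfl
theorem F38953 : act 0 n11889 = n10818 := d1_1 D11889 (iv D10818) (iv F34824)
theorem F38954 : act 1 n11889 = n11408 := d7_1 D11889 (iv D11408) (iv F34820) F34821 (iv F34825)
theorem F38955 : act 3 n11889 = n11071 := d13_2 D10783 D11889 (iv D11071) (iv D9571) (iv F29692)
theorem F38956 : act 6 n11889 = n11387 := d16_2 F38915 D11889 (iv F38913)
theorem F38957 : act 7 n11706 = n11889 := d27_0 F38956 (iv D11387) F32097 D10519 D11706
def n11890 : Q := act 4 n10783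
theorem D11890 : act 4 n10783 = n11890 := rfl
theorem F38958 : act 0 n11890 = n10819 := d3_1 D11890 (iv D10819) (iv F34824)
theorem F38959 : act 1 n11890 = n10785 := d9_1 D11890 (iv D10785) (iv F34825)
def n11891 : Q := act 5 n10783
theorem D11891 : act 5 n10783 = n11891 := rfl
theorem F38960 : act 0 n11891 = n10820 := d4_1 D11891 (iv D10820) (iv F34824)
theorem F38961 : act 3 n11891 = n10784 := d19_1 D11891 (iv D10784) D10783
theorem F38962 : act 6 n11891 = n11537 := d25_2 F38915 D11891 (iv D11537) (iv F37097) (iv F38914)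
def n11892 : Q := act 7 n10783
theorem D11892 : act 7 n10783 = n11892 := rfl
theorem F38963 : act 0 n11892 = n10821 := d6_1 D11892 (iv D10821) (iv F34824)
theorem F38964 : act 1 n11892 = n10786 := d12_1 D11892 (iv D10786) (iv F34825)
theorem F38965 : act 2 n11892 = n11706 := d17_1 D11892 F38957 (iv D11889)
theorem F38966 : act 3 n11892 = n11892 := d21_1 D11892 (iv D11892) (iv D10783) F29693 D10783
theorem F38967 : act 6 n11892 = n11704 := d27_1 D11892 (iv D11704) (iv F37071) (iv F38916) F38915
def n11893 : Q := act 7 n10785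
theorem D11893 : act 7 n10785 = n11893 := rfl
theorem F38968 : act 0 n11893 = n10787 := d6_1 D11893 (iv D10787) (iv F34830)
theorem F38969 : act 4 n11893 = n10786 := d24_1 D11893 (iv D10786) D10785
def n11894 : Q := act 3 n10787
theorem D11894 : act 3 n10787 = n11894 := rfl
theorem F38970 : act 1 n11894 = n10825 := d8_1 D11894 (iv D10825) (iv F34833)
theorem F38971 : act 4 n11894 = n11894 := d18_2 (iv F34834) D11894 (iv D11894) F34834 F29697
def n11895 : Q := act 6 n10787
theorem D11895 : act 6 n10787 = n11895 := rfl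
theorem F38972 : act 1 n11895 = n10826 := d11_1 D11895 (iv D10826) (iv F34833)
theorem F38973 : act 4 n11895 = n10788 := d23_1 D11895 (iv D10788) (iv F34834)
def n11896 : Q := act 2 n10789
theorem D11896 : act 2 n10789 = n11896 := rfl
theorem F38974 : act 0 n11896 = n11551 := d1_1 D11896 F37719 (iv F34837)
theorem F38975 : act 1 n11896 = n10828 := d7_1 D11896 (iv D10828) (iv D9330) (iv F29704) D10789
theorem F38976 : act 4 n11896 = n11659 := d14_2 F36299 D11896 F38090
theorem F38977 : act 6 n11896 = n10793 := d16_2 (iv F34839) D11896 (iv D10793)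
theorem F38978 : act 7 n11311 = n11896 := d27_0 F38977 F34857 F32648 D10146 (iv F36746)
def n11897 : Q := act 7 n10789
theorem D11897 : act 7 n10789 = n11897 := rfl
theorem F38979 : act 0 n11897 = n11560 := d6_1 D11897 F37755 (iv F34837)
theorem F38980 : act 1 n11897 = n10790 := d12_1 D11897 (iv D10790) D10789
theorem F38981 : act 2 n11897 = n11311 := d17_1 D11897 F38978 (iv D11896)
theorem F38982 : act 6 n11897 = n11453 := d27_1 D11897 (iv D11453) F32657 F31250 (iv F34839)
def n11898 : Q := act 3 n10790
theorem D11898 : act 3 n10790 = n11898 := rfl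
theorem F38983 : act 0 n11898 = n11300 := d2_1 D11898 (iv D11300) (iv F34840)
theorem F38984 : act 2 n11898 = n11663 := d13_1 D11898 (iv D11663) F33632 F31769 (iv F34841)
theorem F38985 : act 5 n11898 = n10791 := d19_2 (iv F34842) D11898 (iv D10791)
theorem F38986 : act 7 n11898 = n11589 := d21_2 D10790 D11898 (iv D11589) (iv D10357) (iv F29705)
def n11899 : Q := act 4 n10791
theorem D11899 : act 4 n10791 = n11899 := rfl
theorem F38987 : act 0 n11899 = n11321 := d3_1 D11899 (iv D11321) (iv F34843)
theorem F38988 : act 2 n11899 = n11864 := d14_1 D11899 (iv D11864) (iv F34844)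
theorem F38989 : act 6 n11899 = n11069 := d23_2 (iv F34845) D11899 (iv D11069)
theorem F38990 : act 7 n11899 = n11590 := d24_2 (iv F34846) D11899 (iv D11590)
def n11900 : Q := act 3 n10793
theorem D11900 : act 3 n10793 = n11900 := rfl
theorem F38991 : act 0 n11900 = n11544 := d2_1 D11900 F37683 (iv F34853)
theorem F38992 : act 1 n11900 = n10830 := d8_1 D11900 (iv D10830) (iv F34854)
theorem F38993 : act 5 n11900 = n10794 := d19_2 (iv F34856) D11900 (iv D10794)
theorem F38994 : act 7 n11900 = n11449 := d21_2 (iv F34857) D11900 F37299 F32643 (iv F32646)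
def n11901 : Q := act 4 n10794
theorem D11901 : act 4 n10794 = n11901 := rfl
theorem F38995 : act 0 n11901 = n11542 := d3_1 D11901 F37681 (iv F34858)
theorem F38996 : act 1 n11901 = n10795 := d9_1 D11901 (iv D10795) (iv F34859)
theorem F38997 : act 3 n11901 = n11660 := d18_1 D11901 (iv D11660) (iv D10439) (iv F29718) D10794
theorem F38998 : act 7 n11901 = n11448 := d24_2 (iv F34860) D11901 F37296
def n11902 : Q := act 2 n10796
theorem D11902 : act 2 n10796 = n11902 := rfl
theorem F38999 : act 0 n11902 = n11393 := d1_1 D11902 (iv F37199) F37198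
theorem F39000 : act 1 n11902 = n11177 := d7_1 D11902 F36238 (iv F33591) F33592 (iv F34865)
theorem F39001 : act 3 n11902 = n11074 := d13_2 D10796 D11902 (iv D11074) (iv D9574) (iv F29723)
theorem F39002 : act 6 n11902 = n11426 := d16_2 F37099 D11902 F37199
def n11903 : Q := act 4 n10796
theorem D11903 : act 4 n10796 = n11903 := rfl
theorem F39003 : act 1 n11903 = n10798 := d9_1 D11903 (iv D10798) (iv F34865)
theorem F39004 : act 3 n11903 = n10819 := d18_1 D11903 (iv D10819) (iv D9324) (iv F29724) D10796
def n11904 : Q := act 5 n10796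
theorem D11904 : act 5 n10796 = n11904 := rfl
theorem F39005 : act 1 n11904 = n10843 := d10_1 D11904 (iv D10843) F29810 (iv F29727) (iv F34865)
theorem F39006 : act 3 n11904 = n10797 := d19_1 D11904 (iv D10797) D10796
theorem F39007 : act 6 n11904 = n11053 := d29_4 D10430 F33592 (iv F34865) D11904 (iv F38595) (iv D11791) (iv F38588) F38589 F38590 F38146 (iv D10468) F28425 F23860 D9131 (iv F29133) (iv F30582) (iv D9592) (iv D7944) F19687 (iv F19054) (iv F22689) F22688 D8747 (iv F31279) (iv D9772) F26027 F24165 F24166 D8878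
def n11905 : Q := act 7 n10796
theorem D11905 : act 7 n10796 = n11905 := rfl
theorem F39008 : act 1 n11905 = n10799 := d12_1 D11905 (iv D10799) (iv F34865)
theorem F39009 : act 3 n11905 = n11905 := d21_1 D11905 (iv D11905) (iv D10796) F29725 D10796
def n11906 : Q := act 7 n10798
theorem D11906 : act 7 n10798 = n11906 := rfl
theorem F39010 : act 0 n11906 = n10800 := d6_1 D11906 (iv D10800) (iv F34871)
theorem F39011 : act 2 n11906 = n10868 := d17_1 D11906 (iv F38061) F38057
theorem F39012 : act 4 n11906 = n10799 := d24_1 D11906 (iv D10799) D10798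
theorem F39013 : act 5 n11906 = n10845 := d26_1 D11906 (iv D10845) (iv F34873)
theorem F39014 : act 3 n10881 = n11906 := d13_0 F39011 (iv D10868) F29853 D9368 D10881
def n11907 : Q := act 6 n10799
theorem D11907 : act 6 n10799 = n11907 := rfl
theorem F39015 : act 0 n11907 = n10801 := d5_1 D11907 (iv D10801) (iv F34874)
theorem F39016 : act 2 n11907 = n11445 := d16_1 D11907 F37286 (iv F34875)
theorem F39017 : act 3 n11907 = n11907 := d20_1 D11907 (iv D11907) F34876
def n11908 : Q := act 3 n10800
theorem D11908 : act 3 n10800 = n11908 := rfl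
theorem F39018 : act 0 n11908 = n10881 := d2_1 D11908 F39014 F39010
theorem F39019 : act 2 n11908 = n10878 := d13_1 D11908 (iv D10878) F29871 (iv F34726) (iv F34878)
theorem F39020 : act 4 n11908 = n11908 := d18_2 (iv F34879) D11908 (iv D11908) F34879 F29731
theorem F39021 : act 5 n11908 = n10847 := d19_2 (iv F34880) D11908 (iv D10847)
theorem F39022 : act 7 n11908 = n10825 := d21_2 D10800 D11908 (iv D10825) (iv D9328) (iv F29728)
def n11909 : Q := act 6 n10800
theorem D11909 : act 6 n10800 = n11909 := rfl
theorem F39023 : act 2 n11909 = n11447 := d16_1 D11909 F37291 (iv F34878)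
theorem F39024 : act 4 n11909 = n10801 := d23_1 D11909 (iv D10801) (iv F34879)
def n11910 : Q := act 5 n10801
theorem D11910 : act 5 n10801 = n11910 := rfl
theorem F39025 : act 2 n11910 = n11446 := d15_1 D11910 F37288 (iv F34881)
theorem F39026 : act 3 n11910 = n11910 := d19_1 D11910 (iv D11910) F34882
theorem F39027 : act 6 n11910 = n10849 := d25_2 D10801 D11910 (iv D10849) (iv D9345) (iv F29732)
theorem F39028 : act 1 n11910 = n10948 := d30_2 D10801 D11910 (iv F35561) F35562 F30299 (iv D9507) F24834 (iv F23723) F23724 (iv D6916) (iv D5352) (iv D3943) (iv D2772) (iv D1885) (iv D1268) (iv D853) (iv D574) (iv F1879) (iv F2704) F2701 F2702 (iv F3410) D1569 D2301 D3317 D4597 D6088 D7698 D9309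
def n11911 : Q := act 7 n10803
theorem D11911 : act 7 n10803 = n11911 := rfl
theorem F39029 : act 0 n11911 = n11869 := d6_1 D11911 (iv D11869) (iv F34886)
theorem F39030 : act 2 n11911 = n10808 := d17_1 D11911 (iv D10808) (iv F34887)
theorem F39031 : act 4 n11911 = n10804 := d24_1 D11911 (iv D10804) D10803
def n11912 : Q := act 6 n10804
theorem D11912 : act 6 n10804 = n11912 := rfl
theorem F39032 : act 0 n11912 = n11780 := d5_1 D11912 (iv F38559) (iv F34889)
theorem F39033 : act 1 n11912 = n11818 := d11_1 D11912 F38708 F35254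
theorem F39034 : act 2 n11912 = n10809 := d16_1 D11912 (iv D10809) (iv F34890)
theorem F39035 : act 3 n11912 = n11912 := d20_1 D11912 (iv D11912) F34891
theorem F39036 : act 7 n11912 = n10817 := d27_2 D10804 D11912 (iv D10817) (iv D9323) (iv F29738)
def n11913 : Q := act 2 n10805
theorem D11913 : act 2 n10805 = n11913 := rfl
theorem F39037 : act 0 n11913 = n11387 := d1_1 D11913 (iv F38913) F38911
theorem F39038 : act 1 n11913 = n11784 := d7_1 D11913 F38570 F34738 (iv F29742) (iv F34892)
theorem F39039 : act 3 n11913 = n11075 := d13_2 D10805 D11913 (iv D11075) (iv D9577) (iv F29739)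
theorem F39040 : act 5 n11913 = n11395 := d15_2 F37039 D11913 F37105
theorem F39041 : act 6 n11913 = n10818 := d16_2 (iv F34893) D11913 (iv D10818)
theorem F39042 : act 7 n11913 = n11066 := d17_2 F37052 D11913 (iv F37049)
def n11914 : Q := act 4 n10805
theorem D11914 : act 4 n10805 = n11914 := rfl
theorem F39043 : act 1 n11914 = n10806 := d9_1 D11914 (iv D10806) (iv F34892)
theorem F39044 : act 6 n11914 = n10819 := d23_2 (iv F34893) D11914 (iv D10819)
def n11915 : Q := act 7 n10806
theorem D11915 : act 7 n10806 = n11915 := rfl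
theorem F39045 : act 0 n11915 = n10808 := d6_1 D11915 (iv D10808) (iv F34894)
theorem F39046 : act 2 n11915 = n11869 := d17_1 D11915 (iv D11869) (iv F34895)
theorem F39047 : act 4 n11915 = n10807 := d24_1 D11915 (iv D10807) D10806
def n11916 : Q := act 6 n10807
theorem D11916 : act 6 n10807 = n11916 := rfl
theorem F39048 : act 0 n11916 = n10809 := d5_1 D11916 (iv D10809) (iv F34897)
theorem F39049 : act 1 n11916 = n11034 := d11_1 D11916 (iv F37051) F37048
theorem F39050 : act 2 n11916 = n11780 := d16_1 D11916 (iv F38559) (iv F34898)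
theorem F39051 : act 3 n11916 = n11032 := d20_1 D11916 F37047 F37044
theorem F39052 : act 7 n11916 = n10824 := d27_2 D10807 D11916 (iv D10824) (iv D9327) (iv F29743)
def n11917 : Q := act 3 n10808
theorem D11917 : act 3 n10808 = n11917 := rfl
theorem F39053 : act 4 n11917 = n11794 := d18_2 (iv F34899) D11917 F38602 F34275 F32348
theorem F39054 : act 5 n11917 = n11793 := d19_2 F38267 D11917 F38600
def n11918 : Q := act 6 n10808
theorem D11918 : act 6 n10808 = n11918 := rfl
theorem F39055 : act 4 n11918 = n10809 := d23_1 D11918 (iv D10809) (iv F34899)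
theorem F39056 : act 7 n11918 = n10826 := d27_2 D10808 D11918 (iv D10826) (iv D9328) (iv F29744)
def n11919 : Q := act 3 n10810
theorem D11919 : act 3 n10810 = n11919 := rfl
theorem F39057 : act 0 n11919 = n11510 := d2_1 D11919 (iv D11510) (iv F34901)
theorem F39058 : act 1 n11919 = n10855 := d8_1 D11919 (iv D10855) (iv F34902)
theorem F39059 : act 2 n11919 = n11460 := d13_1 D11919 (iv D11460) F32717 (iv F29746) D10810
theorem F39060 : act 5 n11919 = n11461 := d19_2 (iv F34903) D11919 F37354
theorem F39061 : act 6 n11919 = n10812 := d20_2 (iv F34904) D11919 (iv D10812)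
def n11920 : Q := act 3 n10811
theorem D11920 : act 3 n10811 = n11920 := rfl
theorem F39062 : act 0 n11920 = n10812 := d2_1 D11920 (iv D10812) (iv F34906)
theorem F39063 : act 5 n11920 = n10813 := d19_2 (iv F34907) D11920 (iv D10813)
theorem F39064 : act 6 n11920 = n11510 := d20_2 (iv F34908) D11920 (iv D11510)
theorem F39065 : act 7 n11920 = n11810 := d21_2 (iv F34909) D11920 (iv D11810) (iv F38666) F38663
def n11921 : Q := act 4 n10812
theorem D11921 : act 4 n10812 = n11921 := rfl
theorem F39066 : act 1 n11921 = n10863 := d9_1 D11921 (iv D10863) (iv F34910)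
theorem F39067 : act 5 n11921 = n10814 := d22_2 (iv F34911) D11921 (iv D10814)
def n11922 : Q := act 7 n10812
theorem D11922 : act 7 n10812 = n11922 := rfl
theorem F39068 : act 0 n11922 = n11810 := d6_1 D11922 (iv F39065) F39062
theorem F39069 : act 1 n11922 = n10864 := d12_1 D11922 (iv D10864) (iv F34910)
theorem F39070 : act 3 n11922 = n11809 := d21_1 D11922 F38676 F34683 (iv F29760) D10812
theorem F39071 : act 5 n11922 = n10815 := d26_1 D11922 (iv D10815) (iv F34911)
theorem F39072 : act 6 n11922 = n11873 := d30_6 D4603 D6095 D7706 D9319 D10812 D11922 F38897 (iv F38912) F38913 F37075 (iv D10079) (iv F32326) F32325 (iv F32424) (iv D10097) (iv D8537) (iv D6934) (iv D5373) F12327 (iv D3163) (iv F9722) F9723 F7250 (iv D2162) F4598 D1580 (iv F7155) F7156 (iv F10245)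
def n11923 : Q := act 4 n10813
theorem D11923 : act 4 n10813 = n11923 := rfl
theorem F39073 : act 0 n11923 = n10814 := d3_1 D11923 (iv D10814) (iv F34912)
theorem F39074 : act 1 n11923 = n11822 := d9_1 D11923 F38721 (iv F34913)
theorem F39075 : act 7 n11923 = n11812 := d24_2 (iv F34914) D11923 (iv D11812)
def n11924 : Q := act 7 n10814
theorem D11924 : act 7 n10814 = n11924 := rfl
theorem F39076 : act 0 n11924 = n11812 := d6_1 D11924 (iv F39075) F39073
theorem F39077 : act 1 n11924 = n10816 := d12_1 D11924 (iv D10816) (iv F34915)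
theorem F39078 : act 4 n11924 = n10815 := d24_1 D11924 (iv D10815) D10814
theorem F39079 : act 6 n11817 = n11924 := d23_0 F39078 (iv F34919) D11817
def n11925 : Q := act 3 n10816
theorem D11925 : act 3 n10816 = n11925 := rfl
theorem F39080 : act 0 n11925 = n10839 := d2_1 D11925 F34995 (iv F34920)
theorem F39081 : act 4 n11925 = n10838 := d18_2 (iv F34922) D11925 F34992 F32831 (iv F29770)
theorem F39082 : act 5 n11925 = n10868 := d19_2 (iv F34923) D11925 (iv D10868)
theorem F39083 : act 7 n11925 = n10837 := d21_2 D10816 D11925 F34989 F32835 F31704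
theorem F39084 : act 2 n10845 = n11925 := d17_3 F39083 F34988 D10845
def n11926 : Q := act 6 n10816
theorem D11926 : act 6 n10816 = n11926 := rfl
theorem F39085 : act 0 n11926 = n11795 := d5_1 D11926 F38606 (iv F34920)
theorem F39086 : act 1 n11926 = n11817 := d11_1 D11926 F39079 F39077
theorem F39087 : act 2 n11926 = n10826 := d16_1 D11926 (iv D10826) (iv F34921)
theorem F39088 : act 4 n11926 = n10817 := d23_1 D11926 (iv D10817) (iv F34922)
def n11927 : Q := act 5 n10817
theorem D11927 : act 5 n10817 = n11927 := rfl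
theorem F39089 : act 0 n11927 = n11039 := d4_1 D11927 F35659 (iv F34924)
theorem F39090 : act 1 n11927 = n11891 := d10_1 D11927 (iv D11891) F34825 (iv F34462) (iv F34925)
theorem F39091 : act 2 n11927 = n10827 := d15_1 D11927 (iv D10827) (iv F34926)
theorem F39092 : act 3 n11927 = n11125 := d19_1 D11927 F35999 (iv F34927)
theorem F39093 : act 6 n11927 = n10870 := d25_2 D10817 D11927 (iv D10870) (iv D9360) (iv F29771)
def n11928 : Q := act 4 n10818
theorem D11928 : act 4 n10818 = n11928 := rfl
theorem F39094 : act 1 n11928 = n11797 := d9_1 D11928 F38613 (iv F34928)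
theorem F39095 : act 2 n11928 = n10819 := d14_1 D11928 (iv D10819) D10818
theorem F39096 : act 7 n11928 = n11793 := d24_2 F34930 D11928 F38601
def n11929 : Q := act 5 n10819
theorem D11929 : act 5 n10819 = n11929 := rfl
theorem F39097 : act 1 n11929 = n10873 := d10_1 D11929 (iv D10873) F29862 (iv F29778) (iv F34931)
theorem F39098 : act 4 n11929 = n10820 := d22_1 D11929 (iv D10820) D10819
def n11930 : Q := act 7 n10819
theorem D11930 : act 7 n10819 = n11930 := rfl
theorem F39099 : act 1 n11930 = n10823 := d12_1 D11930 (iv D10823) (iv F34931)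
theorem F39100 : act 2 n11930 = n11793 := d17_1 D11930 (iv F39096) F39095
theorem F39101 : act 4 n11930 = n10821 := d24_1 D11930 (iv D10821) D10819
theorem F39102 : act 6 n11792 = n11930 := d23_0 F39101 (iv F34937) D11792
def n11931 : Q := act 6 n10820
theorem D11931 : act 6 n10820 = n11931 := rfl
theorem F39103 : act 0 n11931 = n11537 := d5_1 D11931 (iv F38962) F38960
theorem F39104 : act 1 n11931 = n10875 := d11_1 D11931 (iv D10875) (iv F34932)
theorem F39105 : act 3 n11931 = n10822 := d20_1 D11931 (iv D10822) (iv F34933)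
theorem F39106 : act 5 n11931 = n11535 := d25_1 D11931 F37663 F37039 F34893 D10820
def n11932 : Q := act 7 n10820
theorem D11932 : act 7 n10820 = n11932 := rfl
theorem F39107 : act 1 n11932 = n10876 := d12_1 D11932 (iv D10876) (iv F34932)
theorem F39108 : act 2 n11932 = n11794 := d17_1 D11932 F38604 F37244
theorem F39109 : act 3 n11932 = n11932 := d21_1 D11932 (iv D11932) F34933 F29775 (iv F34933)
theorem F39110 : act 5 n11932 = n10821 := d26_1 D11932 (iv D10821) D10820
def n11933 : Q := act 3 n10823
theorem D11933 : act 3 n10823 = n11933 := rfl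
theorem F39111 : act 0 n11933 = n10825 := d2_1 D11933 (iv D10825) (iv F34944)
theorem F39112 : act 2 n11933 = n10847 := d13_1 D11933 (iv D10847) (iv F34994) F34995 (iv F34945)
theorem F39113 : act 4 n11933 = n11933 := d18_2 (iv F34946) D11933 (iv D11933) F34946 F29781
theorem F39114 : act 5 n11933 = n10878 := d19_2 (iv F34947) D11933 (iv D10878)
theorem F39115 : act 7 n11933 = n10881 := d21_2 D10823 D11933 F39014 (iv D11906) F34872
def n11934 : Q := act 6 n10823
theorem D11934 : act 6 n10823 = n11934 := rfl
theorem F39116 : act 0 n11934 = n10826 := d5_1 D11934 (iv D10826) (iv F34944)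
theorem F39117 : act 1 n11934 = n11792 := d11_1 D11934 F39102 F39099
theorem F39118 : act 2 n11934 = n11795 := d16_1 D11934 F38606 (iv F34945)
theorem F39119 : act 4 n11934 = n10824 := d23_1 D11934 (iv D10824) (iv F34946)
def n11935 : Q := act 2 n10825
theorem D11935 : act 2 n10825 = n11935 := rfl
theorem F39120 : act 0 n11935 = n10847 := d1_1 D11935 (iv F39112) F39111
theorem F39121 : act 3 n11935 = n10845 := d13_2 D10825 D11935 F39084 (iv D11925) F34921
theorem F39122 : act 4 n11935 = n11935 := d14_2 F34952 D11935 (iv D11935)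
theorem F39123 : act 5 n11935 = n10881 := d15_2 (iv F34953) D11935 (iv D10881)
theorem F39124 : act 7 n11935 = n10878 := d17_2 F39022 D11935 (iv F39019)
def n11936 : Q := act 6 n10825
theorem D11936 : act 6 n10825 = n11936 := rfl
theorem F39125 : act 3 n11936 = n10826 := d20_1 D11936 (iv D10826) D10825
theorem F39126 : act 4 n11936 = n11936 := d23_1 D11936 (iv D11936) F34952
def n11937 : Q := act 5 n10826
theorem D11937 : act 5 n10826 = n11937 := rfl
theorem F39127 : act 4 n11937 = n10827 := d22_1 D11937 (iv D10827) (iv F34954)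
theorem F39128 : act 6 n11937 = n10883 := d25_2 D10826 D11937 (iv D10883) (iv D9369) (iv F29784)
def n11938 : Q := act 3 n10828
theorem D11938 : act 3 n10828 = n11938 := rfl
theorem F39129 : act 0 n11938 = n11312 := d2_1 D11938 (iv D11312) (iv F34957)
theorem F39130 : act 2 n11938 = n11830 := d13_1 D11938 (iv D11830) F34571 F31098 D10828
theorem F39131 : act 5 n11938 = n11314 := d19_2 (iv F34959) D11938 (iv D11314)
theorem F39132 : act 6 n11938 = n10830 := d20_2 (iv F34960) D11938 (iv D10830)
def n11939 : Q := act 3 n10829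
theorem D11939 : act 3 n10829 = n11939 := rfl
theorem F39133 : act 0 n11939 = n10830 := d2_1 D11939 (iv D10830) (iv F34962)
theorem F39134 : act 1 n11939 = n11650 := d8_1 D11939 F38050 (iv F34963)
theorem F39135 : act 2 n11939 = n11726 := d13_1 D11939 (iv D11726) F34016 F33108 D10829
theorem F39136 : act 5 n11939 = n10832 := d19_2 (iv F34965) D11939 (iv D10832)
theorem F39137 : act 6 n11939 = n11312 := d20_2 (iv F34966) D11939 (iv D11312)
theorem F39138 : act 7 n11939 = n11569 := d21_2 F37391 D11939 (iv D11569) (iv F37311) (iv F37389)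
def n11940 : Q := act 4 n10830
theorem D11940 : act 4 n10830 = n11940 := rfl
theorem F39139 : act 5 n11940 = n10833 := d22_2 (iv F34967) D11940 (iv D10833)
def n11941 : Q := act 7 n10830
theorem D11941 : act 7 n10830 = n11941 := rfl
theorem F39140 : act 0 n11941 = n11569 := d6_1 D11941 (iv F39138) F39133
theorem F39141 : act 1 n11941 = n11449 := d12_1 D11941 (iv F38994) F38992
theorem F39142 : act 2 n11941 = n10936 := d17_1 D11941 (iv F38735) F38733
theorem F39143 : act 3 n11941 = n11450 := d21_1 D11941 F37305 F33055 F33054 D10830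
theorem F39144 : act 5 n11941 = n10834 := d26_1 D11941 (iv D10834) (iv F34967)
theorem F39145 : act 6 n11941 = n11571 := d30_6 D4613 D6105 D7718 D9333 D10830 D11941 F37792 F33466 (iv F30224) (iv F30743) F30746 D9642 F30769 (iv F32526) F32527 (iv D8953) (iv D7343) (iv D5764) (iv F16453) (iv D5285) (iv F16426) F16427 (iv D5253) (iv D3865) F8357 D3409 F10490 F7332 (iv F10259)
def n11942 : Q := act 3 n10831
theorem D11942 : act 3 n10831 = n11942 := rfl
theorem F39146 : act 0 n11942 = n10835 := d2_1 D11942 (iv D10835) (iv F34968)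
theorem F39147 : act 1 n11942 = n10832 := d8_1 D11942 (iv D10832) D10831
theorem F39148 : act 2 n11942 = n11730 := d13_1 D11942 F38442 F38439 (iv D10953) (iv F34969)
theorem F39149 : act 6 n11942 = n11843 := d20_2 F35641 D11942 F38798
theorem F39150 : act 7 n11942 = n11799 := d21_2 (iv F34971) D11942 (iv D11799) (iv F37405) (iv D11472)
def n11943 : Q := act 5 n10831
theorem D11943 : act 5 n10831 = n11943 := rfl
theorem F39151 : act 0 n11943 = n10836 := d4_1 D11943 (iv D10836) (iv F34968)
theorem F39152 : act 1 n11943 = n10969 := d10_1 D11943 F35406 (iv F34963) F34965 D10831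
theorem F39153 : act 2 n11943 = n10954 := d15_1 D11943 (iv D10954) (iv F34969)
theorem F39154 : act 4 n11943 = n10978 := d22_1 D11943 F35434 (iv F34970)
theorem F39155 : act 6 n11943 = n10967 := d25_2 F35641 D11943 F35402 D10995 (iv F35640)
theorem F39156 : act 7 n11943 = n11200 := d26_2 (iv F34971) D11943 F36323
def n11944 : Q := act 4 n10832
theorem D11944 : act 4 n10832 = n11944 := rfl
theorem F39157 : act 0 n11944 = n10833 := d3_1 D11944 (iv D10833) (iv F34972)
theorem F39158 : act 2 n11944 = n11729 := d14_1 D11944 (iv D11729) (iv F34973)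
theorem F39159 : act 6 n11944 = n11844 := d23_2 (iv F34974) D11944 (iv D11844)
theorem F39160 : act 7 n11944 = n11821 := d24_2 (iv F34975) D11944 (iv D11821)
def n11945 : Q := act 7 n10833
theorem D11945 : act 7 n10833 = n11945 := rfl
theorem F39161 : act 0 n11945 = n11821 := d6_1 D11945 (iv F39160) F39157
theorem F39162 : act 1 n11945 = n10839 := d12_1 D11945 (iv D10839) (iv F34976)
theorem F39163 : act 2 n11945 = n10935 := d17_1 D11945 (iv F38741) F38738
theorem F39164 : act 3 n11945 = n11796 := d21_1 D11945 (iv F38611) (iv F38868) F38869 F37574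
theorem F39165 : act 4 n11945 = n10834 := d24_1 D11945 (iv D10834) D10833
theorem F39166 : act 6 n11945 = n10934 := d27_1 D11945 F35293 (iv F34656) (iv F38286) F38285
def n11946 : Q := act 2 n10835
theorem D11946 : act 2 n10835 = n11946 := rfl
theorem F39167 : act 0 n11946 = n11730 := d1_1 D11946 (iv F39148) F39146
theorem F39168 : act 1 n11946 = n10841 := d7_1 D11946 (iv D10841) F29810 (iv F29805) (iv F34982)
theorem F39169 : act 3 n11946 = n10955 := d13_2 D10835 D11946 (iv D10955) (iv D9435) (iv F29801)
theorem F39170 : act 6 n11946 = n11045 := d16_2 F35645 D11946 F35677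
theorem F39171 : act 7 n11425 = n11946 := d27_0 F39170 F35680 D11060 (iv F35729) D11425
def n11947 : Q := act 4 n10835
theorem D11947 : act 4 n10835 = n11947 := rfl
theorem F39172 : act 1 n11947 = n10837 := d9_1 D11947 (iv D10837) (iv F34982)
theorem F39173 : act 3 n11947 = n10860 := d18_1 D11947 (iv D10860) F29838 (iv F29802) D10835
theorem F39174 : act 6 n11947 = n10889 := d23_2 F35645 D11947 (iv F35644)
def n11948 : Q := act 5 n10835
theorem D11948 : act 5 n10835 = n11948 := rfl
theorem F39175 : act 1 n11948 = n11201 := d10_1 D11948 F36325 (iv F33591) F33593 (iv F34982)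
theorem F39176 : act 3 n11948 = n10836 := d19_1 D11948 (iv D10836) D10835
def n11949 : Q := act 7 n10835
theorem D11949 : act 7 n10835 = n11949 := rfl
theorem F39177 : act 0 n11949 = n11799 := d6_1 D11949 (iv F39150) F39146
theorem F39178 : act 1 n11949 = n10838 := d12_1 D11949 (iv D10838) (iv F34982)
theorem F39179 : act 2 n11949 = n11425 := d17_1 D11949 F39171 (iv D11946)
theorem F39180 : act 3 n11949 = n11429 := d21_1 D11949 (iv F37213) (iv D10191) (iv F29803) D10835
theorem F39181 : act 6 n11423 = n11949 := d20_0 F39180 (iv D11429) (iv F37194)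
def n11950 : Q := act 6 n10836
theorem D11950 : act 6 n10836 = n11950 := rfl
theorem F39182 : act 0 n11950 = n10967 := d5_1 D11950 (iv F39155) F39151
theorem F39183 : act 1 n11950 = n11202 := d11_1 D11950 (iv D11202) (iv F34983)
theorem F39184 : act 2 n11950 = n10957 := d16_1 D11950 (iv D10957) (iv F34984)
theorem F39185 : act 4 n11950 = n10975 := d23_1 D11950 F35426 (iv F34985)
theorem F39186 : act 5 n11950 = n10993 := d25_1 D11950 F35651 (iv D11037) F30341 D10836
theorem F39187 : act 7 n11950 = n10966 := d27_2 (iv F34986) D11950 F35398 (iv D10279) (iv F31288)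
def n11951 : Q := act 6 n10838
theorem D11951 : act 6 n10838 = n11951 := rfl
theorem F39188 : act 0 n11951 = n10840 := d5_1 D11951 (iv D10840) (iv F34990)
theorem F39189 : act 1 n11951 = n11423 := d11_1 D11951 F39181 F39178
theorem F39190 : act 2 n11951 = n10846 := d16_1 D11951 (iv D10846) (iv F34991)
theorem F39191 : act 3 n11951 = n11428 := d20_1 D11951 (iv F37208) (iv F34992)
theorem F39192 : act 7 n11951 = n10939 := d27_2 D10838 D11951 F35311 F30411 F30350
def n11952 : Q := act 6 n10839
theorem D11952 : act 6 n10839 = n11952 := rfl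
theorem F39193 : act 1 n11952 = n10934 := d11_1 D11952 (iv F39166) F39162
theorem F39194 : act 2 n11952 = n10848 := d16_1 D11952 (iv D10848) (iv F34994)
theorem F39195 : act 3 n11952 = n11795 := d20_1 D11952 F38606 (iv F34995)
theorem F39196 : act 4 n11952 = n10840 := d23_1 D11952 (iv D10840) (iv F34996)
theorem F39197 : act 7 n11952 = n10940 := d27_2 D10839 D11952 F38291 (iv D11712) F33949
def n11953 : Q := act 5 n10840
theorem D11953 : act 5 n10840 = n11953 := rfl
theorem F39198 : act 1 n11953 = n11127 := d10_1 D11953 F36009 F34316 (iv F30009) (iv F34998)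
theorem F39199 : act 2 n11953 = n10849 := d15_1 D11953 (iv D10849) (iv F34999)
theorem F39200 : act 3 n11953 = n11126 := d19_1 D11953 F36004 (iv F35000)
theorem F39201 : act 6 n11953 = n11446 := d25_2 D10840 D11953 F37288 F32632 (iv F29809)
theorem F39202 : act 7 n11953 = n10941 := d26_2 (iv F35001) D11953 (iv D10941)
def n11954 : Q := act 7 n10842
theorem D11954 : act 7 n10842 = n11954 := rfl
theorem F39203 : act 1 n11954 = n10845 := d12_1 D11954 (iv D10845) (iv F35005)
theorem F39204 : act 4 n11954 = n10844 := d24_1 D11954 (iv D10844) D10842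
theorem F39205 : act 6 n11954 = n11064 := d27_1 D11954 (iv D11064) (iv D9552) (iv F30386) (iv F35007)
def n11955 : Q := act 7 n10843
theorem D11955 : act 7 n10843 = n11955 := rfl
theorem F39206 : act 0 n11955 = n11022 := d6_1 D11955 (iv F36011) F36007
theorem F39207 : act 2 n11955 = n11020 := d17_1 D11955 (iv F35928) F35924
theorem F39208 : act 3 n11955 = n11955 := d21_1 D11955 (iv D11955) F35008 F29815 (iv F35008)
theorem F39209 : act 5 n11955 = n10844 := d26_1 D11955 (iv D10844) D10843
def n11956 : Q := act 6 n10845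
theorem D11956 : act 6 n10845 = n11956 := rfl
theorem F39210 : act 0 n11956 = n10848 := d5_1 D11956 (iv D10848) (iv F35013)
theorem F39211 : act 1 n11956 = n11064 := d11_1 D11956 (iv F39205) F39203
theorem F39212 : act 4 n11956 = n10846 := d23_1 D11956 (iv D10846) (iv F35014)
theorem F39213 : act 7 n11956 = n11056 := d27_2 D10845 D11956 (iv D11056) F30437 F30436
def n11957 : Q := act 5 n10846
theorem D11957 : act 5 n10846 = n11957 := rfl
theorem F39214 : act 0 n11957 = n10849 := d4_1 D11957 (iv D10849) (iv F35015)
theorem F39215 : act 3 n11957 = n11957 := d19_1 D11957 (iv D11957) F35017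
theorem F39216 : act 7 n11957 = n11057 := d26_2 (iv F35018) D11957 (iv D11057)
def n11958 : Q := act 6 n10847
theorem D11958 : act 6 n10847 = n11958 := rfl
theorem F39217 : act 1 n11958 = n10943 := d11_1 D11958 (iv F38744) F38742
theorem F39218 : act 3 n11958 = n10848 := d20_1 D11958 (iv D10848) D10847
theorem F39219 : act 4 n11958 = n11958 := d23_1 D11958 (iv D11958) F35019
def n11959 : Q := act 5 n10848
theorem D11959 : act 5 n10848 = n11959 := rfl
theorem F39220 : act 1 n11959 = n10947 := d10_1 D11959 (iv D10947) F30035 (iv F30029) (iv F35021)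
theorem F39221 : act 4 n11959 = n10849 := d22_1 D11959 (iv D10849) (iv F35022)
def n11960 : Q := act 2 n10850
theorem D11960 : act 2 n10850 = n11960 := rfl
theorem F39222 : act 0 n11960 = n10858 := d1_1 D11960 (iv D10858) (iv F35025)
theorem F39223 : act 3 n11960 = n10978 := d13_2 D10850 D11960 F35433 F32791 (iv F29824)
theorem F39224 : act 5 n11960 = n10851 := d15_2 (iv F35026) D11960 (iv D10851)
theorem F39225 : act 6 n11960 = n10977 := d16_2 F38009 D11960 (iv F38007)
theorem F39226 : act 7 n11960 = n11938 := d17_2 F38750 D11960 F39130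
theorem F39227 : act 1 n10980 = n11960 := d30_2 (iv F35040) (iv F35438) (iv D11960) (iv D10850) (iv D9346) F24452 (iv D6112) F14305 F10344 F7477 (iv F9268) (iv D3005) D3004 D4222 D5688 (iv F22734) (iv F26110) D9799 D11231 (iv F36837) F36838 F31829 (iv F33344) (iv F35992) F35991 F35990 (iv F34686) (iv F35059) (iv D10864)
def n11961 : Q := act 4 n10850
theorem D11961 : act 4 n10850 = n11961 := rfl
theorem F39228 : act 0 n11961 = n10859 := d3_1 D11961 (iv D10859) (iv F35025)
theorem F39229 : act 5 n11961 = n10852 := d22_2 (iv F35026) D11961 (iv D10852)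
def n11962 : Q := act 4 n10851
theorem D11962 : act 4 n10851 = n11962 := rfl
theorem F39230 : act 0 n11962 = n10860 := d3_1 D11962 (iv D10860) (iv F35027)
theorem F39231 : act 2 n11962 = n10852 := d14_1 D11962 (iv D10852) D10851
theorem F39232 : act 6 n11962 = n10888 := d23_2 (iv F35029) D11962 (iv D10888)
def n11963 : Q := act 3 n10853
theorem D11963 : act 3 n10853 = n11963 := rfl
theorem F39233 : act 0 n11963 = n10855 := d2_1 D11963 (iv D10855) (iv F35033)
theorem F39234 : act 2 n11963 = n10980 := d13_1 D11963 F35437 F30134 (iv F29830) D10853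
theorem F39235 : act 5 n11963 = n11747 := d19_2 (iv F35034) D11963 F38428
theorem F39236 : act 6 n11963 = n10862 := d20_2 (iv F35035) D11963 (iv D10862)
def n11964 : Q := act 3 n10854
theorem D11964 : act 3 n10854 = n11964 := rfl
theorem F39237 : act 0 n11964 = n10857 := d2_1 D11964 (iv D10857) (iv F35036)
theorem F39238 : act 1 n11964 = n11617 := d8_1 D11964 (iv D11617) (iv F35037)
theorem F39239 : act 5 n11964 = n11728 := d19_2 (iv F35038) D11964 F38360
theorem F39240 : act 6 n11964 = n11636 := d20_2 (iv F35039) D11964 (iv D11636)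
theorem F39241 : act 7 n11964 = n10916 := d21_2 D10854 D11964 F35232 F29973 (iv F29830)
def n11965 : Q := act 4 n10855
theorem D11965 : act 4 n10855 = n11965 := rfl
theorem F39242 : act 6 n11965 = n10863 := d23_2 (iv F35040) D11965 (iv D10863)
def n11966 : Q := act 7 n10855
theorem D11966 : act 7 n10855 = n11966 := rfl
def n11967 : Q := act 2 n10857
theorem D11967 : act 2 n10857 = n11967 := rfl
theorem F39243 : act 6 n11967 = n11846 := d16_2 (iv F35045) D11967 (iv D11846)
def n11968 : Q := act 4 n10857
theorem D11968 : act 4 n10857 = n11968 := rfl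
theorem F39244 : act 1 n11968 = n10859 := d9_1 D11968 (iv D10859) (iv F35044)
theorem F39245 : act 6 n11968 = n11847 := d23_2 (iv F35045) D11968 (iv D11847)
def n11969 : Q := act 4 n10858
theorem D11969 : act 4 n10858 = n11969 := rfl
theorem F39246 : act 2 n11969 = n10859 := d14_1 D11969 (iv D10859) D10858
theorem F39247 : act 5 n11969 = n10860 := d22_2 (iv F35047) D11969 (iv D10860)
def n11970 : Q := act 3 n10861
theorem D11970 : act 3 n10861 = n11970 := rfl
theorem F39248 : act 1 n11970 = n10862 := d8_1 D11970 (iv D10862) D10861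
theorem F39249 : act 5 n11970 = n11593 := d19_2 (iv F35053) D11970 (iv D11593)
def n11971 : Q := act 4 n10862
theorem D11971 : act 4 n10862 = n11971 := rfl
theorem F39250 : act 0 n11971 = n10863 := d3_1 D11971 (iv D10863) (iv F35055)
theorem F39251 : act 2 n11971 = n10979 := d14_1 D11971 (iv D10979) (iv F35056)
theorem F39252 : act 5 n11971 = n10865 := d22_2 (iv F35057) D11971 (iv D10865)
def n11972 : Q := act 7 n10862
theorem D11972 : act 7 n10862 = n11972 := rfl
theorem F39253 : act 0 n11972 = n10864 := d6_1 D11972 (iv D10864) (iv F35055)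
theorem F39254 : act 2 n11972 = n10972 := d17_1 D11972 F35413 (iv F35056)
theorem F39255 : act 3 n11972 = n11165 := d21_1 D11972 F36193 F31153 (iv F29843) D10862
theorem F39256 : act 5 n11972 = n10866 := d26_1 D11972 (iv D10866) (iv F35057)
theorem F39257 : act 6 n11228 = n11972 := d25_0 F39256 F35069 F31144 D9797 D11228
def n11973 : Q := act 7 n10863
theorem D11973 : act 7 n10863 = n11973 := rfl
theorem F39258 : act 4 n11973 = n10864 := d24_1 D11973 (iv D10864) D10863
theorem F39259 : act 5 n11973 = n10867 := d26_1 D11973 (iv D10867) (iv F35058)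
def n11974 : Q := act 7 n10865
theorem D11974 : act 7 n10865 = n11974 := rfl
theorem F39260 : act 0 n11974 = n10867 := d6_1 D11974 (iv D10867) (iv F35061)
theorem F39261 : act 1 n11974 = n11521 := d12_1 D11974 F37623 (iv F35062)
theorem F39262 : act 2 n11974 = n10973 := d17_1 D11974 F35416 (iv F35063)
theorem F39263 : act 4 n11974 = n10866 := d24_1 D11974 (iv D10866) D10865
theorem F39264 : act 6 n11974 = n11164 := d27_1 D11974 F36188 D11491 (iv F37481) (iv F35064)
theorem F39265 : act 3 n11530 = n11974 := d20_3 F39264 F36186 D11530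
def n11975 : Q := act 3 n10867
theorem D11975 : act 3 n10867 = n11975 := rfl
theorem F39266 : act 0 n11975 = n11530 := d2_1 D11975 F39265 F39260
theorem F39267 : act 1 n11975 = n10868 := d8_1 D11975 (iv D10868) (iv F35070)
theorem F39268 : act 4 n11975 = n11199 := d18_2 (iv F35071) D11975 (iv D11199) F31283 (iv F29851)
theorem F39269 : act 6 n11975 = n11528 := d20_2 F36965 D11975 F37649
theorem F39270 : act 7 n11975 = n11203 := d21_2 D10867 D11975 (iv F38052) F38054 F33589
def n11976 : Q := act 6 n10868
theorem D11976 : act 6 n10868 = n11976 := rfl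
theorem F39271 : act 0 n11976 = n11447 := d5_1 D11976 F37291 (iv F35072)
theorem F39272 : act 1 n11976 = n11528 := d11_1 D11976 (iv F39269) F39267
theorem F39273 : act 3 n11976 = n10869 := d20_1 D11976 (iv D10869) D10868
theorem F39274 : act 4 n11976 = n11445 := d23_1 D11976 F37286 (iv F35073)
def n11977 : Q := act 5 n10869
theorem D11977 : act 5 n10869 = n11977 := rfl
theorem F39275 : act 0 n11977 = n11866 := d4_1 D11977 (iv D11866) (iv F35074)
theorem F39276 : act 2 n11977 = n10883 := d15_1 D11977 (iv D10883) (iv F35075)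
theorem F39277 : act 4 n11977 = n10870 := d22_1 D11977 (iv D10870) (iv F35076)
def n11978 : Q := act 7 n10871
theorem D11978 : act 7 n10871 = n11978 := rfl
theorem F39278 : act 0 n11978 = n11047 := d6_1 D11978 F35688 (iv F35080)
theorem F39279 : act 1 n11978 = n11621 := d12_1 D11978 (iv D11621) (iv F35081)
theorem F39280 : act 2 n11978 = n10874 := d17_1 D11978 (iv D10874) (iv F35082)
theorem F39281 : act 4 n11978 = n10872 := d24_1 D11978 (iv D10872) D10871
def n11979 : Q := act 6 n10872
theorem D11979 : act 6 n10872 = n11979 := rfl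
theorem F39282 : act 0 n11979 = n11048 := d5_1 D11979 (iv D11048) (iv F35084)
theorem F39283 : act 1 n11979 = n11442 := d11_1 D11979 F37272 (iv F35085)
theorem F39284 : act 2 n11979 = n10877 := d16_1 D11979 (iv D10877) (iv F35086)
theorem F39285 : act 3 n11979 = n11129 := d20_1 D11979 (iv D11129) (iv F35087)
theorem F39286 : act 7 n11979 = n11786 := d27_2 D10872 D11979 (iv D11786) F34248 (iv F29861)
def n11980 : Q := act 6 n10873
theorem D11980 : act 6 n10873 = n11980 := rfl
theorem F39287 : act 3 n11980 = n11052 := d20_1 D11980 F38316 F38313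
theorem F39288 : act 4 n11980 = n10875 := d23_1 D11980 (iv D10875) (iv F35088)
theorem F39289 : act 5 n11980 = n11042 := d25_1 D11980 (iv D11042) (iv F30431) F30432 D10873
def n11981 : Q := act 7 n10873
theorem D11981 : act 7 n10873 = n11981 := rfl
theorem F39290 : act 4 n11981 = n10876 := d24_1 D11981 (iv D10876) (iv F35088)
theorem F39291 : act 5 n11981 = n10874 := d26_1 D11981 (iv D10874) D10873
def n11982 : Q := act 3 n10874
theorem D11982 : act 3 n10874 = n11982 := rfl
theorem F39292 : act 1 n11982 = n10878 := d8_1 D11982 (iv D10878) (iv F35089)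
theorem F39293 : act 4 n11982 = n11982 := d18_2 (iv F35090) D11982 (iv D11982) F35090 F29865
def n11983 : Q := act 6 n10874
theorem D11983 : act 6 n10874 = n11983 := rfl
theorem F39294 : act 1 n11983 = n10879 := d11_1 D11983 (iv D10879) (iv F35089)
theorem F39295 : act 4 n11983 = n10877 := d23_1 D11983 (iv D10877) (iv F35090)
def n11984 : Q := act 7 n10875
theorem D11984 : act 7 n10875 = n11984 := rfl
theorem F39296 : act 0 n11984 = n11053 := d6_1 D11984 F35706 F35664
theorem F39297 : act 2 n11984 = n11791 := d17_1 D11984 F38596 F35521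
theorem F39298 : act 3 n11984 = n11044 := d21_1 D11984 (iv D11044) F30370 F29869 (iv F35091)
theorem F39299 : act 5 n11984 = n11043 := d26_1 D11984 (iv D11043) (iv F35092)
def n11985 : Q := act 6 n10876
theorem D11985 : act 6 n10876 = n11985 := rfl
theorem F39300 : act 3 n11985 = n11985 := d20_1 D11985 (iv D11985) F35093
def n11986 : Q := act 5 n10877
theorem D11986 : act 5 n10877 = n11986 := rfl
theorem F39301 : act 3 n11986 = n11986 := d19_1 D11986 (iv D11986) F35096
def n11987 : Q := act 6 n10878
theorem D11987 : act 6 n10878 = n11987 := rfl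
theorem F39302 : act 0 n11987 = n10882 := d5_1 D11987 (iv D10882) (iv F35097)
theorem F39303 : act 3 n11987 = n10879 := d20_1 D11987 (iv D10879) D10878
theorem F39304 : act 4 n11987 = n11987 := d23_1 D11987 (iv D11987) F35098
def n11988 : Q := act 5 n10879
theorem D11988 : act 5 n10879 = n11988 := rfl
theorem F39305 : act 0 n11988 = n10883 := d4_1 D11988 (iv D10883) (iv F35099)
theorem F39306 : act 2 n11988 = n11866 := d15_1 D11988 (iv D11866) (iv F35100)
theorem F39307 : act 4 n11988 = n10880 := d22_1 D11988 (iv D10880) (iv F35101)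
theorem F39308 : act 7 n11988 = n11719 := d26_2 F35699 D11988 F38320
def n11989 : Q := act 1 n10881
theorem D11989 : act 1 n10881 = n11989 := rfl
theorem F39309 : act 4 n11989 = n11989 := d9_2 F35105 D11989 (iv D11989)
def n11990 : Q := act 6 n10881
theorem D11990 : act 6 n10881 = n11990 := rfl
theorem F39310 : act 2 n11990 = n10882 := d16_1 D11990 (iv D10882) D10881
theorem F39311 : act 4 n11990 = n11990 := d23_1 D11990 (iv D11990) F35105
def n11991 : Q := act 5 n10882
theorem D11991 : act 5 n10882 = n11991 := rfl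
theorem F39312 : act 3 n11991 = n10883 := d19_1 D11991 (iv D10883) (iv F35106)
theorem F39313 : act 4 n11991 = n11991 := d22_1 D11991 (iv D11991) F35107
theorem F39314 : act 7 n11987 = n11991 := d21_0 F39312 (iv F38325) F38322 F35699 (iv F39303)
def n11992 : Q := act 7 n10882
theorem D11992 : act 7 n10882 = n11992 := rfl
theorem F39315 : act 0 n11992 = n11991 := d6_1 D11992 (iv F39314) F39302
theorem F39316 : act 3 n11992 = n11988 := d21_1 D11992 F39308 F38318 F33978 (iv F35106)
theorem F39317 : act 4 n11992 = n11992 := d24_1 D11992 (iv D11992) F35107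
theorem F39318 : act 5 n11992 = n11987 := d26_1 D11992 F39314 (iv D11991)
def n11993 : Q := act 1 n10883
theorem D11993 : act 1 n10883 = n11993 := rfl
theorem F39319 : act 4 n11993 = n10884 := d9_2 (iv F35108) D11993 (iv D10884)
def n11994 : Q := act 2 n10884
theorem D11994 : act 2 n10884 = n11994 := rfl
theorem F39320 : act 7 n11994 = n10948 := d17_2 (iv F35563) D11994 (iv F35561)
def n11995 : Q := act 4 n10885
theorem D11995 : act 4 n10885 = n11995 := rfl
theorem F39321 : act 5 n11995 = n10886 := d22_2 (iv F35110) D11995 (iv D10886)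
theorem F39322 : act 7 n11995 = n10915 := d24_2 (iv F35111) D11995 (iv D10915)
def n11996 : Q := act 4 n10887
theorem D11996 : act 4 n10887 = n11996 := rfl
theorem F39323 : act 0 n11996 = n11613 := d3_1 D11996 (iv D11613) (iv F35115)
theorem F39324 : act 1 n11996 = n10888 := d9_1 D11996 (iv D10888) D10887
theorem F39325 : act 2 n11996 = n11463 := d14_1 D11996 (iv D11463) (iv F35116)
theorem F39326 : act 3 n11996 = n11844 := d18_1 D11996 (iv D11844) F34617 F33097 (iv F35117)
theorem F39327 : act 5 n11996 = n11845 := d22_2 (iv F35118) D11996 F38806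
theorem F39328 : act 7 n11996 = n10923 := d24_2 (iv F35119) D11996 (iv D10923)
def n11997 : Q := act 3 n10888
theorem D11997 : act 3 n10888 = n11997 := rfl
theorem F39329 : act 0 n11997 = n10889 := d2_1 D11997 (iv D10889) (iv F35120)
theorem F39330 : act 1 n11997 = n11844 := d8_1 D11997 (iv F39326) F39324
theorem F39331 : act 4 n11997 = n11843 := d18_2 D10888 D11997 F38798 (iv D11035) F30336
theorem F39332 : act 7 n11853 = n11997 := d24_0 F39331 F38799 D11853
def n11998 : Q := act 7 n10889
theorem D11998 : act 7 n10889 = n11998 := rfl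
theorem F39333 : act 0 n11998 = n11853 := d6_1 D11998 F39332 F39329
theorem F39334 : act 1 n11998 = n11055 := d12_1 D11998 F35714 F35619
theorem F39335 : act 2 n11998 = n11059 := d17_1 D11998 (iv F38381) F38378
theorem F39336 : act 3 n11998 = n10949 := d21_1 D11998 (iv D10949) (iv D9427) (iv F29889) D10889
theorem F39337 : act 4 n11998 = n11054 := d24_1 D11998 F35711 F35644
theorem F39338 : act 5 n11998 = n11777 := d26_1 D11998 F38548 F38376
def n11999 : Q := act 1 n10891
theorem D11999 : act 1 n10891 = n11999 := rfl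
theorem F39339 : act 2 n11999 = n11113 := d7_2 (iv F35129) D11999 F37264 (iv F38416) F38415
theorem F39340 : act 3 n11999 = n10893 := d8_2 (iv F35130) D11999 (iv D10893)
theorem F39341 : act 5 n11999 = n11999 := d10_2 D10891 D11999 (iv D11999) (iv D10891) F29906
theorem F39342 : act 6 n11999 = n11100 := d11_2 F38143 D11999 (iv F38139)
theorem F39343 : act 0 n11480 = n11999 := d5_3 F39342 F35891 D11480
def n12000 : Q := act 7 n10891
theorem D12000 : act 7 n10891 = n12000 := rfl
theorem F39344 : act 0 n12000 = n10932 := d6_1 D12000 (iv D10932) (iv F35128)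
theorem F39345 : act 2 n12000 = n11748 := d17_1 D12000 (iv D11748) (iv F35129)
theorem F39346 : act 3 n12000 = n11302 := d21_1 D12000 (iv D11302) F31633 (iv F29911) (iv F35130)
theorem F39347 : act 5 n12000 = n10892 := d26_1 D12000 (iv D10892) D10891
def n12001 : Q := act 3 n10895
theorem D12001 : act 3 n10895 = n12001 := rfl
theorem F39348 : act 0 n12001 = n10913 := d2_1 D12001 (iv D10913) (iv F35147)
theorem F39349 : act 1 n12001 = n11827 := d8_1 D12001 (iv D11827) (iv F35148)
theorem F39350 : act 5 n12001 = n10896 := d19_2 (iv F35150) D12001 (iv D10896)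
theorem F39351 : act 6 n12001 = n11466 := d20_2 (iv F35151) D12001 (iv D11466)
theorem F39352 : act 7 n12001 = n10902 := d21_2 D10895 D12001 (iv D10902) (iv D9389) (iv F29919)
def n12002 : Q := act 4 n10896
theorem D12002 : act 4 n10896 = n12002 := rfl
theorem F39353 : act 0 n12002 = n10919 := d3_1 D12002 (iv D10919) (iv F35152)
theorem F39354 : act 1 n12002 = n10897 := d9_1 D12002 (iv D10897) (iv F35153)
theorem F39355 : act 6 n12002 = n11721 := d23_2 (iv F35154) D12002 (iv D11721)
theorem F39356 : act 7 n12002 = n10905 := d24_2 (iv F35155) D12002 (iv D10905)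
def n12003 : Q := act 6 n10897
theorem D12003 : act 6 n10897 = n12003 := rfl
theorem F39357 : act 0 n12003 = n10935 := d5_1 D12003 (iv D10935) (iv F35156)
theorem F39358 : act 1 n12003 = n11721 := d11_1 D12003 (iv F39355) F39354
theorem F39359 : act 2 n12003 = n11821 := d16_1 D12003 F38719 (iv F35157)
theorem F39360 : act 3 n12003 = n12002 := d20_1 D12003 F39355 F38327
theorem F39361 : act 4 n12003 = n10898 := d23_1 D12003 (iv D10898) D10897
theorem F39362 : act 7 n12003 = n11729 := d27_2 (iv F35159) D12003 F38364 F34622 (iv F29959)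
def n12004 : Q := act 5 n10898
theorem D12004 : act 5 n10898 = n12004 := rfl
theorem F39363 : act 0 n12004 = n10936 := d4_1 D12004 (iv D10936) (iv F35160)
theorem F39364 : act 1 n12004 = n11474 := d10_1 D12004 F37411 F32847 (iv F33983) (iv F35161)
theorem F39365 : act 2 n12004 = n11569 := d15_1 D12004 F37785 (iv F35162)
theorem F39366 : act 3 n12004 = n10899 := d19_1 D12004 (iv D10899) (iv F35163)
theorem F39367 : act 6 n12004 = n11570 := d25_2 D10898 D12004 F37788 F33463 (iv F29927)
theorem F39368 : act 7 n12004 = n11726 := d26_2 (iv F35164) D12004 F38354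
def n12005 : Q := act 6 n10901
theorem D12005 : act 6 n10901 = n12005 := rfl
theorem F39369 : act 0 n12005 = n11196 := d5_1 D12005 F36308 (iv F35176)
theorem F39370 : act 1 n12005 = n11200 := d11_1 D12005 F36324 (iv F35177)
theorem F39371 : act 2 n12005 = n10903 := d16_1 D12005 (iv D10903) (iv F35178)
theorem F39372 : act 3 n12005 = n11533 := d20_1 D12005 F37657 F35181
theorem F39373 : act 4 n12005 = n10911 := d23_1 D12005 (iv D10911) (iv F35179)
theorem F39374 : act 5 n12005 = n11548 := d25_1 D12005 F37705 F33266 (iv F29946) (iv F35180)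
theorem F39375 : act 7 n12005 = n10969 := d27_2 D10901 D12005 (iv D10969) (iv D9447) (iv F29941)
def n12006 : Q := act 2 n10902
theorem D12006 : act 2 n10902 = n12006 := rfl
theorem F39376 : act 0 n12006 = n11696 := d1_1 D12006 (iv F38332) F38330
theorem F39377 : act 1 n12006 = n11228 := d7_1 D12006 (iv F37298) (iv F39141) F39142 F35297
theorem F39378 : act 3 n12006 = n11230 := d13_2 D10902 D12006 F36439 F35181 F35178
theorem F39379 : act 5 n12006 = n10904 := d15_2 (iv F35182) D12006 (iv D10904)
def n12007 : Q := act 4 n10902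
theorem D12007 : act 4 n10902 = n12007 := rfl
theorem F39380 : act 3 n12007 = n10915 := d18_1 D12007 (iv D10915) (iv D9397) (iv F29948) D10902
theorem F39381 : act 5 n12007 = n10905 := d22_2 (iv F35182) D12007 (iv D10905)
def n12008 : Q := act 6 n10902
theorem D12008 : act 6 n10902 = n12008 := rfl
theorem F39382 : act 1 n12008 = n11715 := d11_1 D12008 F38303 F35297
theorem F39383 : act 3 n12008 = n10903 := d20_1 D12008 (iv D10903) D10902
theorem F39384 : act 5 n12008 = n11643 := d25_1 D12008 (iv D11643) F33568 (iv F29951) (iv F35182)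
def n12009 : Q := act 1 n10904
theorem D12009 : act 1 n10904 = n12009 := rfl
theorem F39385 : act 0 n12009 = n11060 := d0_1 D12009 F35726 F30423 (iv F33893) (iv F35187)
theorem F39386 : act 2 n12009 = n10906 := d7_2 D10904 D12009 (iv D10906) (iv D9391) (iv F29950)
theorem F39387 : act 3 n12009 = n11065 := d8_2 (iv F35188) D12009 F35746
theorem F39388 : act 5 n12009 = n11225 := d10_2 F39379 D12009 F36419 D11228 (iv F39377)
theorem F39389 : act 6 n12009 = n11058 := d11_2 (iv F35189) D12009 F35719
theorem F39390 : act 7 n12009 = n11414 := d12_2 F38466 D12009 (iv F38463)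
def n12010 : Q := act 4 n10904
theorem D12010 : act 4 n10904 = n12010 := rfl
theorem F39391 : act 0 n12010 = n11697 := d3_1 D12010 (iv D11697) (iv F35187)
theorem F39392 : act 2 n12010 = n10905 := d14_1 D12010 (iv D10905) D10904
theorem F39393 : act 6 n12010 = n11699 := d23_2 (iv F35189) D12010 (iv D11699)
def n12011 : Q := act 0 n10906
theorem D12011 : act 0 n10906 = n12011 := rfl
theorem F39394 : act 1 n12011 = n10939 := d0_2 D10906 D12011 (iv D10939) (iv D9420) (iv F29952)
theorem F39395 : act 2 n12011 = n11060 := d1_2 F39386 D12011 (iv F39385)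
theorem F39396 : act 3 n12011 = n12011 := d2_2 F35193 D12011 (iv D12011)
theorem F39397 : act 5 n12011 = n11421 := d4_2 (iv F35194) D12011 F37189
theorem F39398 : act 6 n12011 = n11054 := d5_2 (iv F35195) D12011 F35708
theorem F39399 : act 7 n12011 = n11423 := d6_2 (iv F35196) D12011 F37193
def n12012 : Q := act 4 n10906
theorem D12012 : act 4 n10906 = n12012 := rfl
theorem F39400 : act 1 n12012 = n10907 := d9_1 D12012 (iv D10907) D10906
theorem F39401 : act 5 n12012 = n11870 := d22_2 (iv F35194) D12012 F38886
theorem F39402 : act 6 n12012 = n11853 := d23_2 (iv F35195) D12012 (iv D11853)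
theorem F39403 : act 7 n12012 = n11800 := d24_2 (iv F35196) D12012 (iv D11800)
def n12013 : Q := act 3 n10907
theorem D12013 : act 3 n10907 = n12013 := rfl
theorem F39404 : act 0 n12013 = n10942 := d2_1 D12013 (iv D10942) (iv F35197)
theorem F39405 : act 2 n12013 = n10925 := d13_1 D12013 (iv D10925) F29986 (iv F29958) (iv F35198)
theorem F39406 : act 4 n12013 = n12013 := d18_2 D10907 D12013 (iv D12013) (iv D10907) F29953
theorem F39407 : act 5 n12013 = n11829 := d19_2 (iv F35199) D12013 (iv D11829)
theorem F39408 : act 6 n12013 = n11854 := d20_2 (iv F35200) D12013 (iv D11854)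
theorem F39409 : act 7 n12013 = n11824 := d21_2 (iv F35201) D12013 (iv D11824) (iv D10695) (iv F34489)
def n12014 : Q := act 3 n10909
theorem D12014 : act 3 n10909 = n12014 := rfl
theorem F39410 : act 0 n12014 = n11467 := d2_1 D12014 (iv D11467) (iv F35209)
theorem F39411 : act 1 n12014 = n10912 := d8_1 D12014 (iv D10912) (iv F35210)
theorem F39412 : act 2 n12014 = n11679 := d13_1 D12014 (iv D11679) (iv D10467) (iv F29960) D10909
theorem F39413 : act 5 n12014 = n12014 := d19_2 F35211 D12014 (iv D12014)
theorem F39414 : act 6 n12014 = n10976 := d20_2 (iv F35212) D12014 (iv D10976)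
theorem F39415 : act 7 n12014 = n11657 := d21_2 F35213 D12014 F38082 F33613 (iv F32770)
def n12015 : Q := act 4 n10913
theorem D12015 : act 4 n10913 = n12015 := rfl
theorem F39416 : act 1 n12015 = n10915 := d9_1 D12015 (iv D10915) (iv F35226)
theorem F39417 : act 5 n12015 = n10919 := d22_2 (iv F35227) D12015 (iv D10919)
theorem F39418 : act 6 n12015 = n11717 := d23_2 (iv F35228) D12015 (iv D11717)
def n12016 : Q := act 1 n10914
theorem D12016 : act 1 n10914 = n12016 := rfl
theorem F39419 : act 2 n12016 = n11875 := d7_2 D10914 D12016 F38899 F38117 F35226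
theorem F39420 : act 3 n12016 = n11188 := d8_2 (iv F37324) D12016 (iv F37320)
theorem F39421 : act 5 n12016 = n11189 := d10_2 (iv F35229) D12016 (iv F36596) F36597 (iv D10917)
theorem F39422 : act 7 n12016 = n11872 := d12_2 F37344 D12016 F38892
theorem F39423 : act 6 n12016 = n11898 := d30_6 D6068 D7677 D9279 D10766 D11872 (iv F39422) F38985 (iv F36574) F36575 (iv D10428) (iv D8876) F22967 F18836 F17511 (iv D5581) (iv F17490) (iv F17493) (iv F21856) (iv D6912) (iv F20010) F20011 F17993 F13251 (iv D3114) (iv F9601) (iv F13451) F13452 D4584 F14211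
def n12017 : Q := act 4 n10914
theorem D12017 : act 4 n10914 = n12017 := rfl
theorem F39424 : act 2 n12017 = n10915 := d14_1 D12017 (iv D10915) D10914
theorem F39425 : act 5 n12017 = n10918 := d22_2 (iv F35229) D12017 (iv D10918)
def n12018 : Q := act 6 n10914
theorem D12018 : act 6 n10914 = n12018 := rfl
theorem F39426 : act 1 n12018 = n11898 := d11_1 D12018 (iv F39423) (iv D12016)
theorem F39427 : act 2 n12018 = n10916 := d16_1 D12018 (iv D10916) D10914
theorem F39428 : act 3 n12018 = n11897 := d20_1 D12018 F38982 (iv F37324)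
theorem F39429 : act 5 n12018 = n11967 := d25_1 D12018 F39243 F38808 F34636 (iv F35229)
def n12019 : Q := act 6 n10915
theorem D12019 : act 6 n10915 = n12019 := rfl
theorem F39430 : act 1 n12019 = n11717 := d11_1 D12019 (iv F39418) F39416
theorem F39431 : act 4 n12019 = n10916 := d23_1 D12019 (iv D10916) D10915
theorem F39432 : act 5 n12019 = n11968 := d25_1 D12019 F39245 F38812 F34639 (iv F35230)
def n12020 : Q := act 4 n10917
theorem D12020 : act 4 n10917 = n12020 := rfl
theorem F39433 : act 0 n12020 = n11612 := d3_1 D12020 (iv D11612) F35237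
theorem F39434 : act 1 n12020 = n10918 := d9_1 D12020 (iv D10918) D10917
theorem F39435 : act 2 n12020 = n10923 := d14_1 D12020 (iv D10923) (iv F35234)
theorem F39436 : act 7 n12020 = n11463 := d24_2 (iv F35236) D12020 (iv D11463)
def n12021 : Q := act 3 n10918
theorem D12021 : act 3 n10918 = n12021 := rfl
def n12022 : Q := act 4 n10920
theorem D12022 : act 4 n10920 = n12022 := rfl
theorem F39437 : act 0 n12022 = n11064 := d3_1 D12022 F35744 (iv F35241)
theorem F39438 : act 1 n12022 = n10921 := d9_1 D12022 (iv D10921) D10920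
theorem F39439 : act 2 n12022 = n11707 := d14_1 D12022 F38266 (iv F35242)
theorem F39440 : act 5 n12022 = n11911 := d22_2 F35245 D12022 F39031
theorem F39441 : act 7 n12022 = n11007 := d24_2 (iv F35244) D12022 F35540
def n12023 : Q := act 3 n10921
theorem D12023 : act 3 n10921 = n12023 := rfl
theorem F39442 : act 0 n12023 = n10943 := d2_1 D12023 (iv D10943) (iv F35246)
theorem F39443 : act 2 n12023 = n11829 := d13_1 D12023 (iv D11829) F34566 F30031 (iv F35247)
theorem F39444 : act 4 n12023 = n12023 := d18_2 D10921 D12023 (iv D12023) (iv D10921) F29980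
theorem F39445 : act 5 n12023 = n10925 := d19_2 (iv F35248) D12023 (iv D10925)
theorem F39446 : act 7 n11835 = n12023 := d17_0 F39443 F38745 D11835
def n12024 : Q := act 4 n10922
theorem D12024 : act 4 n10922 = n12024 := rfl
theorem F39447 : act 0 n12024 = n10923 := d3_1 D12024 (iv D10923) D10922
theorem F39448 : act 1 n12024 = n10944 := d9_1 D12024 (iv D10944) (iv F35249)
theorem F39449 : act 2 n12024 = n11612 := d14_1 D12024 (iv D11612) (iv F35250)
theorem F39450 : act 7 n12024 = n11613 := d24_2 (iv F35252) D12024 (iv D11613)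
def n12025 : Q := act 3 n10923
theorem D12025 : act 3 n10923 = n12025 := rfl
theorem F39451 : act 1 n12025 = n10925 := d8_1 D12025 (iv D10925) (iv F35253)
theorem F39452 : act 4 n12025 = n12025 := d18_2 D10923 D12025 (iv D12025) (iv D10923) F29984
theorem F39453 : act 7 n12025 = n11854 := d21_2 F39328 D12025 (iv D11854) (iv F38803) (iv F39326)
theorem F39454 : act 5 n11859 = n12025 := d26_3 F39453 F38834 D11859
def n12026 : Q := act 5 n10923
theorem D12026 : act 5 n10923 = n12026 := rfl
theorem F39455 : act 1 n12026 = n11911 := d10_1 D12026 (iv F39440) F39438 F35248 (iv F35253)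
theorem F39456 : act 3 n12026 = n11859 := d19_1 D12026 F39454 (iv D12025)
theorem F39457 : act 4 n12026 = n10924 := d22_1 D12026 (iv D10924) D10923
theorem F39458 : act 7 n12026 = n11845 := d26_2 F39328 D12026 (iv F39327)
def n12027 : Q := act 7 n10925
theorem D12027 : act 7 n10925 = n12027 := rfl
theorem F39459 : act 0 n12027 = n10949 := d6_1 D12027 (iv D10949) (iv F35257)
theorem F39460 : act 1 n12027 = n11854 := d12_1 D12027 (iv F39453) F39451
theorem F39461 : act 2 n12027 = n11824 := d17_1 D12027 (iv F39409) F39405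
theorem F39462 : act 3 n12027 = n11853 := d21_1 D12027 F39332 (iv D11997) F35122 D10925
theorem F39463 : act 4 n12027 = n12027 := d24_1 D12027 (iv D12027) F35258
theorem F39464 : act 5 n12027 = n11835 := d26_1 D12027 F39446 F39445
def n12028 : Q := act 1 n10927
theorem D12028 : act 1 n10927 = n12028 := rfl
theorem F39465 : act 0 n12028 = n11478 := d0_1 D12028 F37424 (iv F35891) (iv F38139) F38138
theorem F39466 : act 3 n12028 = n10928 := d8_2 (iv F35267) D12028 (iv D10928)
theorem F39467 : act 4 n12028 = n11496 := d9_2 (iv F35268) D12028 (iv D11496)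
theorem F39468 : act 5 n12028 = n12028 := d10_2 D10927 D12028 (iv D12028) (iv D10927) F29993
theorem F39469 : act 6 n12028 = n10931 := d11_2 (iv F35269) D12028 (iv D10931)
theorem F39470 : act 7 n12028 = n11457 := d12_2 F37539 D12028 (iv F37534)
def n12029 : Q := act 7 n10929
theorem D12029 : act 7 n10929 = n12029 := rfl
theorem F39471 : act 2 n12029 = n11495 := d17_1 D12029 (iv D11495) (iv F35276)
theorem F39472 : act 4 n12029 = n10932 := d24_1 D12029 (iv D10932) (iv F35277)
theorem F39473 : act 5 n12029 = n10930 := d26_1 D12029 (iv D10930) D10929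
def n12030 : Q := act 0 n10931
theorem D12030 : act 0 n10931 = n12030 := rfl
theorem F39474 : act 1 n12030 = n11480 := d0_2 D10931 D12030 F39343 (iv D11999) F35128
theorem F39475 : act 3 n12030 = n10933 := d2_2 (iv F35283) D12030 (iv D10933)
theorem F39476 : act 5 n12030 = n10952 := d4_2 (iv F35284) D12030 (iv D10952)
theorem F39477 : act 6 n12030 = n11478 := d5_2 F39469 D12030 (iv F39465)
def n12031 : Q := act 5 n10935
theorem D12031 : act 5 n10935 = n12031 := rfl
theorem F39478 : act 1 n12031 = n12007 := d10_1 D12031 F39381 F35190 (iv F30033) (iv F35294)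
theorem F39479 : act 3 n12031 = n12015 := d19_1 D12031 F39417 (iv F35295)
theorem F39480 : act 4 n12031 = n10936 := d22_1 D12031 (iv D10936) (iv F35296)
def n12032 : Q := act 4 n10937
theorem D12032 : act 4 n10937 = n12032 := rfl
theorem F39481 : act 0 n12032 = n11954 := d3_1 D12032 F39204 (iv F35299)
theorem F39482 : act 1 n12032 = n10938 := d9_1 D12032 (iv D10938) D10937
theorem F39483 : act 2 n12032 = n11774 := d14_1 D12032 (iv D11774) (iv F35300)
theorem F39484 : act 6 n12032 = n12022 := d23_2 (iv F35302) D12032 (iv D12022)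
theorem F39485 : act 7 n12032 = n11798 := d24_2 (iv F35303) D12032 F38617
def n12033 : Q := act 3 n10938
theorem D12033 : act 3 n10938 = n12033 := rfl
theorem F39486 : act 0 n12033 = n11829 := d2_1 D12033 (iv D11829) (iv F35304)
theorem F39487 : act 2 n12033 = n10943 := d13_1 D12033 (iv D10943) F30028 (iv F30023) (iv F35305)
theorem F39488 : act 4 n12033 = n12033 := d18_2 D10938 D12033 (iv D12033) (iv D10938) F30019
theorem F39489 : act 5 n12033 = n10942 := d19_2 (iv F35306) D12033 (iv D10942)
theorem F39490 : act 6 n12033 = n12023 := d20_2 (iv F35307) D12033 (iv D12023)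
theorem F39491 : act 7 n12033 = n11787 := d21_2 (iv F35308) D12033 (iv D11787) F34251 D10633
def n12034 : Q := act 4 n10939
theorem D12034 : act 4 n10939 = n12034 := rfl
theorem F39492 : act 0 n12034 = n10940 := d3_1 D12034 (iv D10940) D10939
theorem F39493 : act 2 n12034 = n11056 := d14_1 D12034 F35716 (iv F35309)
theorem F39494 : act 6 n12034 = n11055 := d23_2 (iv F35311) D12034 (iv D11055)
def n12035 : Q := act 5 n10939
theorem D12035 : act 5 n10939 = n12035 := rfl
theorem F39495 : act 0 n12035 = n10941 := d4_1 D12035 (iv D10941) D10939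
theorem F39496 : act 2 n12035 = n11057 := d15_1 D12035 (iv D11057) (iv F35309)
theorem F39497 : act 3 n12035 = n12035 := d19_1 D12035 (iv D12035) F35310
theorem F39498 : act 6 n12035 = n11932 := d25_2 (iv F35311) D12035 F39110 (iv F34937) F34269
theorem F39499 : act 1 n11985 = n12035 := d11_3 F39498 F39107 D11985
def n12036 : Q := act 3 n10940
theorem D12036 : act 3 n10940 = n12036 := rfl
theorem F39500 : act 1 n12036 = n10942 := d8_1 D12036 (iv D10942) (iv F35312)
theorem F39501 : act 4 n12036 = n12036 := d18_2 D10940 D12036 (iv D12036) (iv D10940) F30026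
def n12037 : Q := act 5 n10940
theorem D12037 : act 5 n10940 = n12037 := rfl
theorem F39502 : act 4 n12037 = n10941 := d22_1 D12037 (iv D10941) D10940
def n12038 : Q := act 6 n10941
theorem D12038 : act 6 n10941 = n12038 := rfl
theorem F39503 : act 0 n12038 = n11932 := d5_1 D12038 (iv F39498) F39495
theorem F39504 : act 3 n12038 = n12038 := d20_1 D12038 (iv D12038) F35313
theorem F39505 : act 5 n12038 = n11892 := d25_1 D12038 F38967 F38259 (iv F33954) D10941
theorem F39506 : act 7 n12038 = n11891 := d27_2 F39202 D12038 F38962 F37669 (iv F39201)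
def n12039 : Q := act 7 n10942
theorem D12039 : act 7 n10942 = n12039 := rfl
theorem F39507 : act 0 n12039 = n11824 := d6_1 D12039 (iv F39409) F39404
theorem F39508 : act 2 n12039 = n10949 := d17_1 D12039 (iv D10949) (iv F35314)
theorem F39509 : act 3 n12039 = n11781 := d21_1 D12039 F38563 (iv F35291) F35293 D10942
theorem F39510 : act 4 n12039 = n12039 := d24_1 D12039 (iv D12039) F35315
theorem F39511 : act 5 n12039 = n11787 := d26_1 D12039 (iv F39491) F39489
def n12040 : Q := act 7 n10943
theorem D12040 : act 7 n10943 = n12040 := rfl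
theorem F39512 : act 0 n12040 = n11835 := d6_1 D12040 F39446 F39442
theorem F39513 : act 2 n12040 = n11787 := d17_1 D12040 (iv F39491) F39487
theorem F39514 : act 3 n12040 = n11777 := d21_1 D12040 F38548 (iv D11736) F34042 D10943
theorem F39515 : act 4 n12040 = n12040 := d24_1 D12040 (iv D12040) F35316
theorem F39516 : act 5 n12040 = n10949 := d26_1 D12040 (iv D10949) (iv F35317)
def n12041 : Q := act 3 n10944
theorem D12041 : act 3 n10944 = n12041 := rfl
theorem F39517 : act 0 n12041 = n10946 := d2_1 D12041 (iv D10946) (iv F35318)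
theorem F39518 : act 4 n12041 = n12041 := d18_2 D10944 D12041 (iv D12041) (iv D10944) F30034
def n12042 : Q := act 5 n10944
theorem D12042 : act 5 n10944 = n12042 := rfl
theorem F39519 : act 0 n12042 = n10947 := d4_1 D12042 (iv D10947) (iv F35318)
theorem F39520 : act 4 n12042 = n10945 := d22_1 D12042 (iv D10945) D10944
def n12043 : Q := act 2 n10946
theorem D12043 : act 2 n10946 = n12043 := rfl
theorem F39521 : act 4 n12043 = n12043 := d14_2 F35322 D12043 (iv D12043)
def n12044 : Q := act 5 n10946
theorem D12044 : act 5 n10946 = n12044 := rfl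
theorem F39522 : act 3 n12044 = n10947 := d19_1 D12044 (iv D10947) D10946
theorem F39523 : act 4 n12044 = n12044 := d22_1 D12044 (iv D12044) F35322
def n12045 : Q := act 7 n10946
theorem D12045 : act 7 n10946 = n12045 := rfl
theorem F39524 : act 1 n12045 = n10949 := d12_1 D12045 (iv D10949) (iv F35321)
theorem F39525 : act 3 n12045 = n11055 := d21_1 D12045 F35714 (iv D11031) F30325 D10946
theorem F39526 : act 4 n12045 = n12045 := d24_1 D12045 (iv D12045) F35322
def n12046 : Q := act 6 n10947
theorem D12046 : act 6 n10947 = n12046 := rfl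
theorem F39527 : act 4 n12046 = n10948 := d23_1 D12046 (iv D10948) (iv F35323)
def n12047 : Q := act 6 n10949
theorem D12047 : act 6 n10949 = n12047 := rfl
theorem F39528 : act 4 n12047 = n12047 := d23_1 D12047 (iv D12047) F35325
def n12048 : Q := act 5 n10953
theorem D12048 : act 5 n10953 = n12048 := rfl
theorem F39529 : act 0 n12048 = n10956 := d4_1 D12048 (iv D10956) (iv F35341)
theorem F39530 : act 1 n12048 = n11497 := d10_1 D12048 (iv D11497) F32957 (iv F30060) (iv F35342)
theorem F39531 : act 3 n12048 = n10954 := d19_1 D12048 (iv D10954) D10953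
theorem F39532 : act 4 n12048 = n11500 := d22_1 D12048 F37521 (iv F35343)
theorem F39533 : act 6 n12048 = n11708 := d25_2 F35656 D12048 F38271 F33926 (iv F35655)
theorem F39534 : act 7 n12048 = n11515 := d26_2 (iv F35344) D12048 F37593
def n12049 : Q := act 5 n10955
theorem D12049 : act 5 n10955 = n12049 := rfl
theorem F39535 : act 2 n12049 = n10956 := d15_1 D12049 (iv D10956) D10955
theorem F39536 : act 4 n12049 = n11770 := d22_1 D12049 (iv D11770) (iv F35351)
theorem F39537 : act 6 n12049 = n11769 := d25_2 (iv F35352) D12049 (iv D11769) (iv D10600) (iv F30887)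
theorem F39538 : act 7 n12049 = n11519 := d26_2 (iv F35353) D12049 F37614
def n12050 : Q := act 5 n10958
theorem D12050 : act 5 n10958 = n12050 := rfl
theorem F39539 : act 0 n12050 = n10981 := d4_1 D12050 F35440 (iv F35362)
theorem F39540 : act 2 n12050 = n10961 := d15_1 D12050 (iv D10961) (iv F35364)
theorem F39541 : act 3 n12050 = n11681 := d19_1 D12050 (iv D11681) (iv F35365)
theorem F39542 : act 4 n12050 = n10959 := d22_1 D12050 (iv D10959) (iv F35366)
theorem F39543 : act 6 n12050 = n11677 := d25_2 D10958 D12050 (iv D11677) (iv D10462) (iv F30082)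
theorem F39544 : act 7 n12050 = n11508 := d26_2 (iv F35367) D12050 F37564
def n12051 : Q := act 1 n10959
theorem D12051 : act 1 n10959 = n12051 := rfl
theorem F39545 : act 0 n12051 = n11469 := d0_1 D12051 F37383 F35977 F35427 (iv F35368)
theorem F39546 : act 3 n12051 = n10960 := d8_2 (iv F35370) D12051 (iv D10960)
theorem F39547 : act 5 n12051 = n12051 := d10_2 D10959 D12051 (iv D12051) (iv D10959) F30084
theorem F39548 : act 6 n12051 = n11464 := d11_2 F38207 D12051 (iv F38203)
theorem F39549 : act 7 n12051 = n11507 := d12_2 (iv F35371) D12051 F37558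
def n12052 : Q := act 7 n10961
theorem D12052 : act 7 n10961 = n12052 := rfl
theorem F39550 : act 2 n12052 = n11508 := d17_1 D12052 (iv F39544) F39540
theorem F39551 : act 4 n12052 = n10964 := d24_1 D12052 (iv D10964) (iv F35379)
theorem F39552 : act 5 n12052 = n10962 := d26_1 D12052 (iv D10962) D10961
def n12053 : Q := act 3 n10962
theorem D12053 : act 3 n10962 = n12053 := rfl
theorem F39553 : act 1 n12053 = n10985 := d8_1 D12053 (iv D10985) (iv F35381)
theorem F39554 : act 6 n12053 = n11688 := d20_2 (iv F35384) D12053 (iv D11688)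
theorem F39555 : act 7 n12053 = n10971 := d21_2 D10962 D12053 (iv D10971) (iv D9451) (iv F30093)
def n12054 : Q := act 7 n10963
theorem D12054 : act 7 n10963 = n12054 := rfl
theorem F39556 : act 1 n12054 = n10964 := d12_1 D12054 (iv D10964) D10963
theorem F39557 : act 2 n12054 = n11238 := d17_1 D12054 (iv F37429) F37426
theorem F39558 : act 5 n12054 = n10987 := d26_1 D12054 (iv D10987) (iv F35386)
theorem F39559 : act 6 n12054 = n11267 := d27_1 D12054 (iv D11267) (iv F36532) (iv F38213) F38212
def n12055 : Q := act 3 n10964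
theorem D12055 : act 3 n10964 = n12055 := rfl
theorem F39560 : act 0 n12055 = n11734 := d2_1 D12055 F38391 F38388
theorem F39561 : act 2 n12055 = n11191 := d13_1 D12055 (iv D11191) F31252 D10255 (iv F35387)
theorem F39562 : act 5 n12055 = n10965 := d19_2 (iv F35388) D12055 (iv D10965)
theorem F39563 : act 7 n12055 = n10968 := d21_2 D10964 D12055 (iv D10968) (iv D9447) (iv F30095)
def n12056 : Q := act 6 n10964
theorem D12056 : act 6 n10964 = n12056 := rfl
theorem F39564 : act 1 n12056 = n11267 := d11_1 D12056 (iv F39559) F39556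
theorem F39565 : act 2 n12056 = n11509 := d16_1 D12056 (iv D11509) (iv F35387)
theorem F39566 : act 5 n12056 = n11431 := d25_1 D12056 F37223 F33791 (iv F30098) (iv F35388)
theorem F39567 : act 7 n12056 = n11237 := d27_2 D10964 D12056 (iv F36939) F36938 F33852
def n12057 : Q := act 4 n10965
theorem D12057 : act 4 n10965 = n12057 := rfl
theorem F39568 : act 0 n12057 = n11733 := d3_1 D12057 (iv D11733) (iv F35389)
theorem F39569 : act 1 n12057 = n10990 := d9_1 D12057 (iv D10990) (iv F35390)
theorem F39570 : act 2 n12057 = n11193 := d14_1 D12057 (iv D11193) (iv F35391)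
theorem F39571 : act 6 n12057 = n11411 := d23_2 (iv F35392) D12057 (iv D11411)
theorem F39572 : act 7 n12057 = n10970 := d24_2 (iv F35393) D12057 (iv D10970)
def n12058 : Q := act 3 n10967
theorem D12058 : act 3 n10967 = n12058 := rfl
theorem F39573 : act 1 n12058 = n10968 := d8_1 D12058 (iv D10968) (iv F35399)
theorem F39574 : act 5 n12058 = n10994 := d19_2 (iv F35402) D12058 (iv D10994)
def n12059 : Q := act 4 n10968
theorem D12059 : act 4 n10968 = n12059 := rfl
theorem F39575 : act 3 n12059 = n10979 := d18_1 D12059 (iv D10979) (iv D9458) (iv F30103) D10968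
theorem F39576 : act 5 n12059 = n10970 := d22_2 (iv F35403) D12059 (iv D10970)
def n12060 : Q := act 6 n10968
theorem D12060 : act 6 n10968 = n12060 := rfl
theorem F39577 : act 3 n12060 = n10969 := d20_1 D12060 (iv D10969) D10968
theorem F39578 : act 5 n12060 = n11650 := d25_1 D12060 (iv D11650) F33582 (iv F30106) (iv F35403)
def n12061 : Q := act 2 n10971
theorem D12061 : act 2 n10971 = n12061 := rfl
theorem F39579 : act 1 n12061 = n11436 := d7_1 D12061 F37244 F34932 (iv F30208) (iv F35410)
theorem F39580 : act 3 n12061 = n11285 := d13_2 D10971 D12061 F36632 F33723 (iv F30114)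
theorem F39581 : act 6 n12061 = n11675 := d16_2 (iv F35411) D12061 (iv D11675)
def n12062 : Q := act 4 n10971
theorem D12062 : act 4 n10971 = n12062 := rfl
theorem F39582 : act 1 n12062 = n11001 := d9_1 D12062 (iv D11001) (iv F35410)
theorem F39583 : act 3 n12062 = n10973 := d18_1 D12062 (iv D10973) (iv D9454) (iv F30115) D10971
theorem F39584 : act 6 n12062 = n11676 := d23_2 (iv F35411) D12062 (iv D11676)
def n12063 : Q := act 4 n10972
theorem D12063 : act 4 n10972 = n12063 := rfl
theorem F39585 : act 5 n12063 = n10973 := d22_2 (iv F35412) D12063 (iv D10973)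
theorem F39586 : act 7 n12063 = n10979 := d24_2 (iv F35413) D12063 (iv D10979)
def n12064 : Q := act 4 n10977
theorem D12064 : act 4 n10977 = n12064 := rfl
theorem F39587 : act 1 n12064 = n10979 := d9_1 D12064 (iv D10979) (iv F35429)
theorem F39588 : act 5 n12064 = n11006 := d22_2 (iv F35430) D12064 (iv D11006)
def n12065 : Q := act 6 n10979
theorem D12065 : act 6 n10979 = n12065 := rfl
theorem F39589 : act 4 n12065 = n10980 := d23_1 D12065 (iv D10980) D10979
theorem F39590 : act 5 n12065 = n11965 := d25_1 D12065 F39242 F35058 (iv F30137) (iv F35436)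
def n12066 : Q := act 7 n10980
theorem D12066 : act 7 n10980 = n12066 := rfl
theorem F39591 : act 1 n12066 = n11938 := d12_1 D12066 (iv F39226) (iv F39227)
theorem F39592 : act 3 n12066 = n11896 := d21_1 D12066 (iv F38978) F36745 F35223 (iv F35437)
theorem F39593 : act 5 n12066 = n11966 := d26_1 D12066 (iv D11966) (iv F35438)
theorem F39594 : act 6 n12066 = n11900 := d27_1 D12066 F38994 F37300 F35413 D10980
def n12067 : Q := act 7 n10981
theorem D12067 : act 7 n10981 = n12067 := rfl
theorem F39595 : act 0 n12067 = n11508 := d6_1 D12067 (iv F39544) F39539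
theorem F39596 : act 1 n12067 = n11498 := d12_1 D12067 F37511 F37421
theorem F39597 : act 4 n12067 = n10982 := d24_1 D12067 (iv D10982) D10981
theorem F39598 : act 5 n12067 = n10983 := d26_1 D12067 (iv D10983) (iv F35440)
def n12068 : Q := act 4 n10985
theorem D12068 : act 4 n10985 = n12068 := rfl
theorem F39599 : act 0 n12068 = n11009 := d3_1 D12068 (iv D11009) (iv F35454)
theorem F39600 : act 2 n12068 = n11981 := d14_1 D12068 F39290 F35457
theorem F39601 : act 3 n12068 = n10990 := d18_1 D12068 (iv D10990) (iv D9470) (iv F30156) D10985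
theorem F39602 : act 5 n12068 = n11978 := d22_2 (iv F35455) D12068 F39281
theorem F39603 : act 7 n12068 = n11001 := d24_2 (iv F35456) D12068 (iv D11001)
def n12069 : Q := act 6 n10985
theorem D12069 : act 6 n10985 = n12069 := rfl
theorem F39604 : act 0 n12069 = n11010 := d5_1 D12069 (iv D11010) (iv F35454)
theorem F39605 : act 1 n12069 = n11688 := d11_1 D12069 (iv F39554) F39553
theorem F39606 : act 2 n12069 = n11985 := d16_1 D12069 (iv D11985) F35457
theorem F39607 : act 3 n12069 = n10986 := d20_1 D12069 (iv D10986) D10985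
def n12070 : Q := act 3 n10987
theorem D12070 : act 3 n10987 = n12070 := rfl
theorem F39608 : act 1 n12070 = n10988 := d8_1 D12070 (iv D10988) (iv F35463)
theorem F39609 : act 2 n12070 = n11211 := d13_1 D12070 F36361 F31323 (iv F31402) (iv F35464)
theorem F39610 : act 6 n12070 = n11209 := d20_2 (iv F35465) D12070 F36357
theorem F39611 : act 7 n12070 = n10994 := d21_2 D10987 D12070 (iv D10994) (iv D9474) (iv F30160)
def n12071 : Q := act 4 n10988
theorem D12071 : act 4 n10988 = n12071 := rfl
theorem F39612 : act 0 n12071 = n11013 := d3_1 D12071 (iv D11013) (iv F35466)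
theorem F39613 : act 2 n12071 = n12042 := d14_1 D12071 F39520 F35469
theorem F39614 : act 3 n12071 = n11978 := d18_1 D12071 F39281 F35087 F30897 D10988
theorem F39615 : act 5 n12071 = n10990 := d22_2 (iv F35467) D12071 (iv D10990)
theorem F39616 : act 7 n12071 = n10997 := d24_2 (iv F35468) D12071 (iv D10997)
def n12072 : Q := act 6 n10988
theorem D12072 : act 6 n10988 = n12072 := rfl
theorem F39617 : act 0 n12072 = n11014 := d5_1 D12072 (iv D11014) (iv F35466)
theorem F39618 : act 1 n12072 = n11209 := d11_1 D12072 (iv F39610) F39608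
theorem F39619 : act 2 n12072 = n11838 := d16_1 D12072 F38773 F35469
theorem F39620 : act 3 n12072 = n10989 := d20_1 D12072 (iv D10989) D10988
theorem F39621 : act 7 n12072 = n11858 := d27_2 (iv F35468) D12072 (iv D11858) F35504 (iv D10998)
theorem F39622 : act 5 n11994 = n12072 := d26_3 F39621 F38843 (iv F39320)
def n12073 : Q := act 5 n10989
theorem D12073 : act 5 n10989 = n12073 := rfl
theorem F39623 : act 0 n12073 = n11015 := d4_1 D12073 (iv D11015) (iv F35470)
theorem F39624 : act 1 n12073 = n11438 := d10_1 D12073 (iv D11438) F32378 (iv F31399) (iv F35471)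
theorem F39625 : act 2 n12073 = n12073 := d15_1 D12073 (iv D12073) F35472
theorem F39626 : act 3 n12073 = n11994 := d19_1 D12073 F39622 F39620
theorem F39627 : act 6 n12073 = n10992 := d25_2 D10989 D12073 (iv D10992) (iv D9471) (iv F30164)
theorem F39628 : act 7 n12073 = n12073 := d26_2 F35473 D12073 (iv D12073)
def n12074 : Q := act 6 n10990
theorem D12074 : act 6 n10990 = n12074 := rfl
theorem F39629 : act 0 n12074 = n11016 := d5_1 D12074 (iv D11016) (iv F35474)
theorem F39630 : act 1 n12074 = n11411 := d11_1 D12074 (iv F39571) F39569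
theorem F39631 : act 2 n12074 = n11855 := d16_1 D12074 F38836 (iv F35475)
theorem F39632 : act 4 n12074 = n10991 := d23_1 D12074 (iv D10991) D10990
theorem F39633 : act 7 n12074 = n11653 := d27_2 (iv F35476) D12074 (iv D11653) F33596 (iv F30196)
def n12075 : Q := act 5 n10991
theorem D12075 : act 5 n10991 = n12075 := rfl
theorem F39634 : act 0 n12075 = n11017 := d4_1 D12075 (iv D11017) (iv F35477)
theorem F39635 : act 2 n12075 = n11030 := d15_1 D12075 F35616 (iv F35479)
theorem F39636 : act 3 n12075 = n10992 := d19_1 D12075 (iv D10992) (iv F35480)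
theorem F39637 : act 6 n12075 = n11994 := d25_2 D10991 D12075 F39622 (iv D12072) F35467
theorem F39638 : act 7 n12075 = n11028 := d26_2 (iv F35481) D12075 F35610
def n12076 : Q := act 3 n10993
theorem D12076 : act 3 n10993 = n12076 := rfl
theorem F39639 : act 0 n12076 = n10994 := d2_1 D12076 (iv D10994) (iv F35485)
theorem F39640 : act 1 n12076 = n11020 := d8_1 D12076 (iv D11020) (iv F35486)
theorem F39641 : act 2 n12076 = n11768 := d13_1 D12076 F38506 F34194 (iv F33930) (iv F35487)
theorem F39642 : act 6 n12076 = n11767 := d20_2 (iv F35651) D12076 F38501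
def n12077 : Q := act 2 n10994
theorem D12077 : act 2 n10994 = n12077 := rfl
theorem F39643 : act 0 n12077 = n11768 := d1_1 D12077 (iv F39641) F39639
theorem F39644 : act 3 n12077 = n11214 := d13_2 D10994 D12077 F36372 F33924 (iv F30181)
theorem F39645 : act 7 n12077 = n11211 := d17_2 F39611 D12077 (iv F39609)
theorem F39646 : act 6 n11749 = n12077 := d27_5 F39645 (iv D11211) (iv F36334) F36333 (iv F38436)
def n12078 : Q := act 4 n10994
theorem D12078 : act 4 n10994 = n12078 := rfl
theorem F39647 : act 1 n12078 = n10997 := d9_1 D12078 (iv D10997) (iv F35489)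
theorem F39648 : act 3 n12078 = n11006 := d18_1 D12078 (iv D11006) (iv D9491) (iv F30182) D10994
def n12079 : Q := act 6 n10994
theorem D12079 : act 6 n10994 = n12079 := rfl
theorem F39649 : act 0 n12079 = n11767 := d5_1 D12079 (iv F39642) F39639
theorem F39650 : act 1 n12079 = n10998 := d11_1 D12079 (iv D10998) (iv F35489)
theorem F39651 : act 2 n12079 = n11749 := d16_1 D12079 F39646 (iv D12077)
theorem F39652 : act 3 n12079 = n10995 := d20_1 D12079 (iv D10995) D10994
theorem F39653 : act 5 n12079 = n11843 := d29_5 D11605 F37904 (iv F39573) F39574 D12079 (iv D11843) (iv D10716) (iv D9209) (iv D7605) F18787 F13984 D6002 (iv F22950) F22951 F17787 (iv D4200) F9173 F6291 (iv F6174) (iv F8954) (iv F12697) D5531 (iv F22500) (iv F27796) F27795 (iv D8708) (iv F25972) (iv F28145) D10374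
theorem F39654 : act 7 n11756 = n12079 := d26_0 F39653 F38799 (iv F38469)
def n12080 : Q := act 1 n10996
theorem D12080 : act 1 n10996 = n12080 := rfl
theorem F39655 : act 0 n12080 = n11868 := d0_1 D12080 F38880 F35717 (iv D11026) (iv F35494)
theorem F39656 : act 3 n12080 = n11000 := d8_2 (iv F35495) D12080 (iv D11000)
theorem F39657 : act 5 n12080 = n11823 := d10_2 (iv F35496) D12080 F38723 F36791 F33457
theorem F39658 : act 7 n12080 = n11826 := d12_2 (iv F35497) D12080 F38729
def n12081 : Q := act 4 n10996
theorem D12081 : act 4 n10996 = n12081 := rfl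
theorem F39659 : act 0 n12081 = n11027 := d3_1 D12081 (iv D11027) (iv F35494)
theorem F39660 : act 2 n12081 = n10997 := d14_1 D12081 (iv D10997) D10996
theorem F39661 : act 3 n12081 = n11703 := d18_1 D12081 (iv D11703) (iv D10517) (iv F30198) (iv F35495)
theorem F39662 : act 5 n12081 = n10999 := d22_2 (iv F35496) D12081 (iv D10999)
theorem F39663 : act 7 n12081 = n12042 := d24_2 (iv F35497) D12081 F39520
def n12082 : Q := act 6 n10997
theorem D12082 : act 6 n10997 = n12082 := rfl
theorem F39664 : act 0 n12082 = n11029 := d5_1 D12082 (iv D11029) (iv F35498)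
theorem F39665 : act 3 n12082 = n11007 := d20_1 D12082 (iv D11007) (iv F35499)
theorem F39666 : act 4 n12082 = n10998 := d23_1 D12082 (iv D10998) D10997
theorem F39667 : act 5 n12082 = n11316 := d25_1 D12082 (iv D11316) F31705 (iv F30196) (iv F35500)
theorem F39668 : act 7 n11857 = n12082 := d26_0 F39667 F36769 D11857
def n12083 : Q := act 6 n11001
theorem D12083 : act 6 n11001 = n12083 := rfl
theorem F39669 : act 0 n12083 = n11042 := d5_1 D12083 (iv D11042) (iv F35515)
theorem F39670 : act 1 n12083 = n11676 := d11_1 D12083 (iv F39584) F39582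
theorem F39671 : act 2 n12083 = n11980 := d16_1 D12083 (iv D11980) (iv F35516)
theorem F39672 : act 3 n12083 = n11004 := d20_1 D12083 (iv D11004) (iv F35517)
theorem F39673 : act 4 n12083 = n11002 := d23_1 D12083 (iv D11002) D11001
def n12084 : Q := act 5 n11004
theorem D12084 : act 5 n11004 = n12084 := rfl
theorem F39674 : act 0 n12084 = n11052 := d4_1 D12084 (iv D11052) (iv F35528)
theorem F39675 : act 2 n12084 = n11720 := d15_1 D12084 (iv D11720) (iv F35530)
theorem F39676 : act 4 n12084 = n11005 := d22_1 D12084 (iv D11005) (iv F35531)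
theorem F39677 : act 7 n12084 = n11977 := d26_2 (iv F35532) D12084 (iv D11977)
def n12085 : Q := act 1 n11008
theorem D12085 : act 1 n11008 = n12085 := rfl
theorem F39678 : act 3 n12085 = n12085 := d8_2 F35543 D12085 (iv D12085)
theorem F39679 : act 5 n12085 = n11780 := d10_2 (iv F35544) D12085 (iv D11780) F34240 D10616
theorem F39680 : act 7 n12085 = n11039 := d12_2 (iv F35545) D12085 (iv D11039)
theorem F39681 : act 6 n11955 = n12085 := d27_5 F39680 (iv F35660) F34732 (iv F35009) D11955
def n12086 : Q := act 4 n11008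
theorem D12086 : act 4 n11008 = n12086 := rfl
theorem F39682 : act 0 n12086 = n11981 := d3_1 D12086 F39290 (iv F35542)
theorem F39683 : act 2 n12086 = n11009 := d14_1 D12086 (iv D11009) D11008
theorem F39684 : act 5 n12086 = n11785 := d22_2 (iv F35544) D12086 (iv D11785)
theorem F39685 : act 7 n12086 = n11040 := d24_2 (iv F35545) D12086 (iv D11040)
theorem F39686 : act 3 n12043 = n12086 := d13_0 F39683 F35547 F30301 D10946 D12043
def n12087 : Q := act 6 n11008
theorem D12087 : act 6 n11008 = n12087 := rfl
theorem F39687 : act 0 n12087 = n11985 := d5_1 D12087 (iv D11985) (iv F35542)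
theorem F39688 : act 1 n12087 = n11955 := d11_1 D12087 F39681 (iv D12085)
theorem F39689 : act 2 n12087 = n11010 := d16_1 D12087 (iv D11010) D11008
theorem F39690 : act 3 n12087 = n12087 := d20_1 D12087 (iv D12087) F35543
theorem F39691 : act 7 n12087 = n11904 := d27_2 (iv F35545) D12087 F39007 F35706 (iv D11041)
theorem F39692 : act 5 n12087 = n11905 := d29_5 D7502 D9097 D10616 (iv F35544) D12087 F39008 F34875 (iv D10741) (iv D9235) F24166 F22973 F17808 (iv D4938) (iv D3583) F7755 F7726 F7727 F5391 F3862 F2812 F2811 F2810 D997 D1491 F4692 (iv F6805) (iv F9806) (iv F13690) D5905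
def n12088 : Q := act 6 n11009
theorem D12088 : act 6 n11009 = n12088 := rfl
theorem F39693 : act 1 n12088 = n11646 := d11_1 D12088 F38038 (iv F35546)
theorem F39694 : act 3 n12088 = n11016 := d20_1 D12088 (iv D11016) (iv F35547)
theorem F39695 : act 4 n12088 = n11010 := d23_1 D12088 (iv D11010) D11009
def n12089 : Q := act 5 n11010
theorem D12089 : act 5 n11010 = n12089 := rfl
theorem F39696 : act 2 n12089 = n11905 := d15_1 D12089 (iv F39692) F39689
theorem F39697 : act 3 n12089 = n11011 := d19_1 D12089 (iv D11011) (iv F35549)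
theorem F39698 : act 7 n11902 = n12089 := d21_0 F39697 F35552 (iv F31546) (iv F35783) (iv F39001)
def n12090 : Q := act 7 n11010
theorem D12090 : act 7 n11010 = n12090 := rfl
theorem F39699 : act 1 n12090 = n11574 := d12_1 D12090 (iv F38508) F38505
theorem F39700 : act 2 n12090 = n11904 := d17_1 D12090 (iv F39691) F39689
theorem F39701 : act 3 n12090 = n11012 := d21_1 D12090 (iv D11012) F30291 (iv F30285) (iv F35549)
theorem F39702 : act 5 n12090 = n11902 := d26_1 D12090 F39698 (iv D12089)
theorem F39703 : act 6 n12090 = n11043 := d27_1 D12090 (iv D11043) (iv D9531) (iv F30282) D11010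
def n12091 : Q := act 6 n11013
theorem D12091 : act 6 n11013 = n12091 := rfl
theorem F39704 : act 1 n12091 = n11720 := d11_1 D12091 F38324 F35693
theorem F39705 : act 2 n12091 = n12046 := d16_1 D12091 (iv D12046) (iv F35557)
theorem F39706 : act 4 n12091 = n11014 := d23_1 D12091 (iv D11014) D11013
theorem F39707 : act 7 n11993 = n12091 := d24_0 F39706 (iv F35563) (iv F39319)
def n12092 : Q := act 5 n11014
theorem D12092 : act 5 n11014 = n12092 := rfl
theorem F39708 : act 0 n12092 = n11994 := d4_1 D12092 F39622 F39617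
theorem F39709 : act 1 n12092 = n11481 := d10_1 D12092 F37433 F33187 D10540 (iv F35560)
theorem F39710 : act 2 n12092 = n11858 := d15_1 D12092 F38843 (iv F35561)
theorem F39711 : act 3 n12092 = n11015 := d19_1 D12092 (iv D11015) (iv F35562)
theorem F39712 : act 6 n12092 = n11017 := d25_2 D11014 D12092 (iv D11017) (iv D9509) (iv F30295)
theorem F39713 : act 7 n12092 = n11838 := d26_2 F35563 D12092 F38772
def n12093 : Q := act 5 n11016
theorem D12093 : act 5 n11016 = n12093 := rfl
theorem F39714 : act 2 n12093 = n11857 := d15_1 D12093 (iv D11857) (iv F35569)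
theorem F39715 : act 4 n12093 = n11017 := d22_1 D12093 (iv D11017) (iv F35570)
def n12094 : Q := act 1 n11017
theorem D12094 : act 1 n11017 = n12094 := rfl
theorem F39716 : act 2 n12094 = n11483 := d7_2 (iv F35571) D12094 F37438 D11756 (iv F38470)
theorem F39717 : act 3 n12094 = n11018 := d8_2 (iv F35572) D12094 (iv D11018)
theorem F39718 : act 5 n12094 = n11602 := d10_2 D11017 D12094 F37895 F33572 (iv F30303)
theorem F39719 : act 6 n12094 = n11481 := d11_2 F39712 D12094 (iv F39709)
theorem F39720 : act 0 n12061 = n12094 := d5_3 F39719 (iv F38145) (iv F39581)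
def n12095 : Q := act 6 n11020
theorem D12095 : act 6 n11020 = n12095 := rfl
theorem F39721 : act 0 n12095 = n11024 := d5_1 D12095 (iv D11024) (iv F35581)
theorem F39722 : act 1 n12095 = n11767 := d11_1 D12095 (iv F39642) F39640
theorem F39723 : act 2 n12095 = n12085 := d16_1 D12095 (iv F39681) F39207
theorem F39724 : act 3 n12095 = n11021 := d20_1 D12095 (iv D11021) D11020
theorem F39725 : act 5 n12095 = n11916 := d25_1 D12095 (iv D11916) (iv F35743) (iv F38529) F38528
theorem F39726 : act 7 n12095 = n11776 := d27_2 F35928 D12095 (iv F38546) (iv F35703) (iv F35927)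
def n12096 : Q := act 4 n11022
theorem D12096 : act 4 n11022 = n12096 := rfl
theorem F39727 : act 1 n12096 = n12037 := d9_1 D12096 F39502 F35588
theorem F39728 : act 2 n12096 = n11023 := d14_1 D12096 (iv D11023) D11022
theorem F39729 : act 5 n12096 = n12032 := d22_2 (iv F35587) D12096 (iv D12032)
def n12097 : Q := act 6 n11022
theorem D12097 : act 6 n11022 = n12097 := rfl
theorem F39730 : act 0 n12097 = n12085 := d5_1 D12097 (iv F39681) F39206
theorem F39731 : act 1 n12097 = n12038 := d11_1 D12097 (iv D12038) F35588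
theorem F39732 : act 2 n12097 = n11024 := d16_1 D12097 (iv D11024) D11022
theorem F39733 : act 3 n12097 = n12097 := d20_1 D12097 (iv D12097) F35586
theorem F39734 : act 5 n12097 = n11912 := d25_1 D12097 (iv D11912) F35245 (iv F35302) (iv F35587)
theorem F39735 : act 7 n12097 = n11927 := d27_2 F36011 D12097 F39093 (iv F35536) (iv F36010)
def n12098 : Q := act 6 n11023
theorem D12098 : act 6 n11023 = n12098 := rfl
theorem F39736 : act 1 n12098 = n11029 := d11_1 D12098 (iv D11029) (iv F35589)
theorem F39737 : act 3 n12098 = n11056 := d20_1 D12098 (iv D11056) (iv F35590)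
theorem F39738 : act 4 n12098 = n11024 := d23_1 D12098 (iv D11024) D11023
theorem F39739 : act 5 n12098 = n11918 := d25_1 D12098 (iv D11918) (iv F38267) (iv F38535) F38534
theorem F39740 : act 7 n12098 = n11937 := d27_2 F35695 D12098 F39128 (iv F38325) F38324
def n12099 : Q := act 4 n11026
theorem D12099 : act 4 n11026 = n12099 := rfl
theorem F39741 : act 1 n12099 = n11027 := d9_1 D12099 (iv D11027) D11026
theorem F39742 : act 2 n12099 = n12037 := d14_1 D12099 F39502 (iv F35601)
theorem F39743 : act 5 n12099 = n11714 := d22_2 (iv F35603) D12099 F38298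
theorem F39744 : act 7 n12099 = n11959 := d24_2 (iv F35604) D12099 F39221
def n12100 : Q := act 6 n11026
theorem D12100 : act 6 n11026 = n12100 := rfl
theorem F39745 : act 0 n12100 = n11794 := d5_1 D12100 F38603 F35717
theorem F39746 : act 1 n12100 = n11028 := d11_1 D12100 (iv D11028) D11026
theorem F39747 : act 2 n12100 = n12038 := d16_1 D12100 (iv D12038) (iv F35601)
theorem F39748 : act 3 n12100 = n11033 := d20_1 D12100 (iv D11033) (iv F35602)
theorem F39749 : act 5 n12100 = n11706 := d25_1 D12100 (iv D11706) F33914 D10533 (iv F35603)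
def n12101 : Q := act 3 n11027
theorem D12101 : act 3 n11027 = n12101 := rfl
theorem F39750 : act 0 n12101 = n11703 := d2_1 D12101 (iv F39661) F39659
theorem F39751 : act 2 n12101 = n11061 := d13_1 D12101 (iv D11061) F30421 (iv F30320) (iv F35605)
theorem F39752 : act 4 n12101 = n11034 := d18_2 D11027 D12101 (iv D11034) (iv D9520) (iv F30317)
theorem F39753 : act 5 n12101 = n11031 := d19_2 (iv F35606) D12101 (iv D11031)
theorem F39754 : act 7 n11792 = n12101 := d26_0 F39753 (iv F35714) (iv F38598)
def n12102 : Q := act 6 n11027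
theorem D12102 : act 6 n11027 = n12102 := rfl
theorem F39755 : act 2 n12102 = n11029 := d16_1 D12102 (iv D11029) (iv F35605)
theorem F39756 : act 4 n12102 = n11028 := d23_1 D12102 (iv D11028) D11027
theorem F39757 : act 5 n12102 = n11653 := d25_1 D12102 (iv D11653) F33595 F32834 (iv F35606)
def n12103 : Q := act 7 n11029
theorem D12103 : act 7 n11029 = n12103 := rfl
theorem F39758 : act 0 n12103 = n11857 := d6_1 D12103 F39668 F39664
theorem F39759 : act 1 n12103 = n11937 := d12_1 D12103 (iv F39740) F39736
theorem F39760 : act 4 n12103 = n11030 := d24_1 D12103 (iv D11030) (iv F35612)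
theorem F39761 : act 5 n12103 = n11855 := d26_1 D12103 (iv F38875) F38874
theorem F39762 : act 6 n12103 = n11993 := d27_1 D12103 F39707 (iv D12091) F35559 D11029
def n12104 : Q := act 4 n11039
theorem D12104 : act 4 n11039 = n12104 := rfl
theorem F39763 : act 1 n12104 = n11040 := d9_1 D12104 (iv D11040) D11039
theorem F39764 : act 5 n12104 = n11795 := d22_2 (iv F35659) D12104 (iv D11795)
theorem F39765 : act 6 n12104 = n11866 := d23_2 F35660 D12104 F38876
def n12105 : Q := act 3 n11040
theorem D12105 : act 3 n11040 = n12105 := rfl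
theorem F39766 : act 0 n12105 = n11718 := d2_1 D12105 F38313 (iv F35661)
theorem F39767 : act 2 n12105 = n11049 := d13_1 D12105 (iv D11049) F30391 (iv F30366) (iv F35662)
theorem F39768 : act 4 n12105 = n11127 := d18_2 D11040 D12105 (iv D11127) (iv D9667) (iv F30364)
theorem F39769 : act 5 n12105 = n11798 := d19_2 (iv F35663) D12105 (iv D11798)
theorem F39770 : act 6 n12084 = n12105 := d31_4 D9370 (iv F33981) (iv F38323) (iv F39675) (iv D12105) F35663 (iv F38577) (iv D11785) F34246 D11048 F35690 D11130 F36025 F36023 F35565 F35566 (iv F35572) (iv D11017) (iv F34706) (iv F38849) F38847 (iv D11316) F31704 F29767 D9359 F29854 F24474 D7743 F24485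
theorem F39771 : act 7 n12096 = n12105 := d26_0 F39769 (iv F39485) (iv F39729)
def n12106 : Q := act 6 n11040
theorem D12106 : act 6 n11040 = n12106 := rfl
theorem F39772 : act 0 n12106 = n11980 := d5_1 D12106 (iv D11980) (iv F35661)
theorem F39773 : act 1 n12106 = n11866 := d11_1 D12106 (iv F39765) F39763
theorem F39774 : act 2 n12106 = n11042 := d16_1 D12106 (iv D11042) (iv F35662)
theorem F39775 : act 3 n12106 = n12084 := d20_1 D12106 F39770 (iv D12105)
theorem F39776 : act 4 n12106 = n11041 := d23_1 D12106 (iv D11041) D11040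
theorem F39777 : act 5 n12106 = n12083 := d25_1 D12106 (iv D12083) F35518 F35083 (iv F35663)
def n12107 : Q := act 7 n11042
theorem D12107 : act 7 n11042 = n12107 := rfl
theorem F39778 : act 1 n12107 = n11538 := d12_1 D12107 F38556 F38553
theorem F39779 : act 3 n12107 = n11536 := d21_1 D12107 F37666 F37290 F34730 (iv F35669)
theorem F39780 : act 4 n12107 = n11043 := d24_1 D12107 (iv D11043) (iv F35670)
def n12108 : Q := act 0 n11045
theorem D12108 : act 0 n11045 = n12108 := rfl
theorem F39781 : act 1 n12108 = n11700 := d0_2 D11045 D12108 F38243 F33902 (iv F30381)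
theorem F39782 : act 2 n12108 = n11843 := d1_2 (iv F35677) D12108 F38797
theorem F39783 : act 3 n12108 = n11128 := d2_2 (iv F35678) D12108 (iv D11128)
theorem F39784 : act 5 n12108 = n11749 := d4_2 (iv F35679) D12108 F38434
theorem F39785 : act 6 n12108 = n11730 := d5_2 F39170 D12108 (iv F39167)
theorem F39786 : act 7 n12108 = n11058 := d6_2 (iv F35680) D12108 (iv D11058)
def n12109 : Q := act 6 n11047
theorem D12109 : act 6 n11047 = n12109 := rfl
theorem F39787 : act 1 n12109 = n11050 := d11_1 D12109 (iv D11050) (iv F35685)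
theorem F39788 : act 3 n12109 = n12091 := d20_1 D12109 (iv D12091) (iv F35686)
theorem F39789 : act 4 n12109 = n11048 := d23_1 D12109 (iv D11048) D11047
theorem F39790 : act 7 n12109 = n11983 := d27_2 (iv F35688) D12109 (iv D11983) (iv D10874) (iv F30432)
def n12110 : Q := act 5 n11048
theorem D12110 : act 5 n11048 = n12110 := rfl
theorem F39791 : act 1 n12110 = n11527 := d10_1 D12110 (iv F37775) F37773 (iv D11051) (iv F35689)
theorem F39792 : act 3 n12110 = n11130 := d19_1 D12110 (iv D11130) (iv F35690)
theorem F39793 : act 6 n12110 = n12089 := d25_2 D11048 D12110 (iv D12089) (iv D11010) F30389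
theorem F39794 : act 7 n12110 = n11986 := d26_2 (iv F35691) D12110 (iv D11986)
def n12111 : Q := act 1 n11052
theorem D12111 : act 1 n11052 = n12111 := rfl
theorem F39795 : act 4 n12111 = n11053 := d9_2 (iv F35704) D12111 (iv D11053)
theorem F39796 : act 7 n12111 = n12106 := d12_2 F38877 D12111 F39773
theorem F39797 : act 2 n12107 = n12111 := d28_3 (iv D11535) D11536 (iv F39779) (iv D12111) (iv D11052) (iv D9540) (iv F30225) (iv D9485) (iv D7843) F19413 (iv F19878) (iv F21794) F19847 F19845 (iv D6336) (iv D4806) (iv F14737) (iv D4769) (iv F14691) (iv F19646) F19644 (iv F16394) (iv F16519) (iv D5305) F12101 (iv D3417) (iv D2378) (iv F7121) F7123 D2298 D3311 D4588 F14221 (iv F17843) F17842 (iv F13133) F13132 (iv F17527) F17526 D7156 (iv F26032) (iv F31271) (iv F31686) F31685 (iv D8872) (iv F28223) F28226 (iv F22911) F22907 (iv F22898) F22897 (iv F22970) F22969 (iv F20995) D8313 (iv F29528) F29530 (iv F29577) (iv F29742) (iv F34892) (iv F37039) (iv F37663)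
def n12112 : Q := act 5 n11056
theorem D12112 : act 5 n11056 = n12112 := rfl
theorem F39798 : act 0 n12112 = n12099 := d4_1 D12112 F39743 F38295
theorem F39799 : act 3 n12112 = n11918 := d19_1 D12112 (iv F39739) F39737
theorem F39800 : act 4 n12112 = n11057 := d22_1 D12112 (iv D11057) (iv F35716)
theorem F39801 : act 6 n12112 = n11917 := d25_2 D11056 D12112 F39054 (iv D11793) F34271
def n12113 : Q := act 4 n11058
theorem D12113 : act 4 n11058 = n12113 := rfl
theorem F39802 : act 0 n12113 = n11059 := d3_1 D12113 (iv D11059) D11058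
theorem F39803 : act 1 n12113 = n11699 := d9_1 D12113 (iv D11699) (iv F35719)
theorem F39804 : act 2 n12113 = n11853 := d14_1 D12113 (iv D11853) (iv F35720)
theorem F39805 : act 3 n12113 = n11758 := d18_1 D12113 (iv D11758) (iv D10587) (iv F30440) (iv F35721)
theorem F39806 : act 5 n12113 = n11757 := d22_2 (iv F35722) D12113 (iv D11757)
def n12114 : Q := act 6 n11059
theorem D12114 : act 6 n11059 = n12114 := rfl
theorem F39807 : act 1 n12114 = n11062 := d11_1 D12114 (iv D11062) (iv F35723)
theorem F39808 : act 3 n12114 = n11783 := d20_1 D12114 (iv D11783) (iv F35724)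
theorem F39809 : act 4 n12114 = n11060 := d23_1 D12114 (iv D11060) D11059
theorem F39810 : act 5 n11422 = n12114 := d22_0 F39809 (iv F35728) D11422
theorem F39811 : act 7 n11424 = n12114 := d24_0 F39809 (iv F35729) D11424
def n12115 : Q := act 6 n11061
theorem D12115 : act 6 n11061 = n12115 := rfl
theorem F39812 : act 0 n12115 = n11386 := d5_1 D12115 F37074 (iv F35730)
theorem F39813 : act 1 n12115 = n11783 := d11_1 D12115 (iv D11783) (iv F35731)
theorem F39814 : act 3 n12115 = n11062 := d20_1 D12115 (iv D11062) D11061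
theorem F39815 : act 4 n12115 = n11066 := d23_1 D12115 (iv D11066) (iv F35732)
theorem F39816 : act 5 n12115 = n11394 := d25_1 D12115 F37103 F34873 (iv F30436) (iv F35733)
def n12116 : Q := act 7 n11062
theorem D12116 : act 7 n11062 = n12116 := rfl
theorem F39817 : act 0 n12116 = n11707 := d6_1 D12116 (iv D11707) (iv F35735)
theorem F39818 : act 1 n12116 = n11424 := d12_1 D12116 F39811 F39807
theorem F39819 : act 2 n12116 = n11064 := d17_1 D12116 (iv D11064) (iv F35736)
theorem F39820 : act 4 n12116 = n11063 := d24_1 D12116 (iv D11063) (iv F35737)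
theorem F39821 : act 5 n12116 = n11915 := d26_1 D12116 (iv D11915) (iv F35738)
def n12117 : Q := act 3 n11064
theorem D12117 : act 3 n11064 = n12117 := rfl
theorem F39822 : act 4 n12117 = n12117 := d18_2 (iv F35744) D12117 (iv D12117) F35744 F30428
def n12118 : Q := act 4 n11067
theorem D12118 : act 4 n11067 = n12118 := rfl
theorem F39823 : act 0 n12118 = n11069 := d3_1 D12118 (iv D11069) (iv F35755)
theorem F39824 : act 1 n12118 = n11336 := d9_1 D12118 (iv D11336) (iv F35756)
theorem F39825 : act 6 n12118 = n11321 := d23_2 (iv F35757) D12118 (iv D11321)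
def n12119 : Q := act 4 n11068
theorem D12119 : act 4 n11068 = n12119 := rfl
theorem F39826 : act 1 n12119 = n11865 := d9_1 D12119 F38873 (iv F35758)
theorem F39827 : act 2 n12119 = n11069 := d14_1 D12119 (iv D11069) D11068
theorem F39828 : act 3 n12119 = n11867 := d18_1 D12119 F38879 F34739 F30482 (iv F35759)
theorem F39829 : act 6 n12119 = n11864 := d23_2 (iv F35760) D12119 (iv D11864)
def n12120 : Q := act 2 n11078
theorem D12120 : act 2 n11078 = n12120 := rfl
theorem F39830 : act 0 n12120 = n11080 := d1_1 D12120 (iv D11080) (iv F35802)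
theorem F39831 : act 1 n12120 = n11685 := d7_1 D12120 (iv D11685) F33778 F31754 (iv F35803)
theorem F39832 : act 3 n12120 = n11764 := d13_2 D11078 D12120 F38492 F34527 (iv F30541)
theorem F39833 : act 4 n12120 = n11319 := d14_2 (iv F35804) D12120 (iv D11319)
theorem F39834 : act 7 n12120 = n11348 := d17_2 (iv F35805) D12120 F36905
def n12121 : Q := act 5 n11078
theorem D12121 : act 5 n11078 = n12121 := rfl
theorem F39835 : act 0 n12121 = n11081 := d4_1 D12121 (iv D11081) (iv F35802)
theorem F39836 : act 1 n12121 = n11286 := d10_1 D12121 (iv D11286) F31558 (iv F30546) (iv F35803)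
theorem F39837 : act 3 n12121 = n11079 := d19_1 D12121 (iv D11079) D11078
theorem F39838 : act 4 n12121 = n11297 := d22_1 D12121 F36686 (iv F35804)
theorem F39839 : act 6 n12121 = n12067 := d25_2 F36777 D12121 F39598 (iv F35447) (iv F36776)
theorem F39840 : act 7 n12121 = n11345 := d26_2 (iv F35805) D12121 F36893
def n12122 : Q := act 6 n11079
theorem D12122 : act 6 n11079 = n12122 := rfl
theorem F39841 : act 0 n12122 = n11082 := d5_1 D12122 (iv D11082) (iv F35806)
theorem F39842 : act 1 n12122 = n11287 := d11_1 D12122 F36642 (iv F35807)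
theorem F39843 : act 2 n12122 = n11668 := d16_1 D12122 (iv D11668) (iv F35808)
theorem F39844 : act 3 n12122 = n12067 := d20_1 D12122 (iv F39839) F39837
theorem F39845 : act 4 n12122 = n11288 := d23_1 D12122 F36645 (iv F35809)
theorem F39846 : act 5 n12122 = n11383 := d25_1 D12122 F37063 F33820 F31774 D11079
def n12123 : Q := act 5 n11080
theorem D12123 : act 5 n11080 = n12123 := rfl
theorem F39847 : act 2 n12123 = n11081 := d15_1 D12123 (iv D11081) D11080
theorem F39848 : act 3 n12123 = n11669 := d19_1 D12123 F38125 (iv F35812)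
theorem F39849 : act 4 n12123 = n12056 := d22_1 D12123 F39566 F37222
theorem F39850 : act 6 n12123 = n12052 := d25_2 F38199 D12123 F39552 F35384 (iv F38198)
theorem F39851 : act 7 n12123 = n11356 := d26_2 (iv F35813) D12123 F36944
def n12124 : Q := act 7 n11082
theorem D12124 : act 7 n11082 = n12124 := rfl
theorem F39852 : act 1 n12124 = n11087 := d12_1 D12124 (iv D11087) (iv F35816)
theorem F39853 : act 2 n12124 = n11353 := d17_1 D12124 F36927 (iv F35817)
theorem F39854 : act 6 n12124 = n11351 := d27_1 D12124 (iv D11351) F31892 (iv F30551) D11082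
def n12125 : Q := act 6 n11084
theorem D12125 : act 6 n11084 = n12125 := rfl
theorem F39855 : act 0 n12125 = n11457 := d5_1 D12125 F37339 (iv F35824)
theorem F39856 : act 1 n12125 = n11455 := d11_1 D12125 (iv F38170) F38167
theorem F39857 : act 2 n12125 = n11086 := d16_1 D12125 (iv D11086) (iv F35825)
theorem F39858 : act 3 n12125 = n11096 := d20_1 D12125 (iv D11096) (iv F35826)
theorem F39859 : act 5 n12125 = n12125 := d25_1 D12125 (iv D12125) (iv D11084) F30584 D11084
theorem F39860 : act 7 n11478 = n12125 := d30_29 (iv D12125) (iv D11084) F30582 (iv D7947) (iv D6293) F14739 F14738 D6294 (iv F25066) (iv F29774) (iv F34933) D11932 (iv F39498) (iv D12035) (iv F39394) F39395 F35727 F30446 F26968 (iv D7377) F18139 F18140 F18141 D5791 (iv F22695) (iv F27959) (iv F33158) F33159 D11478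
def n12126 : Q := act 7 n11086
theorem D12126 : act 7 n11086 = n12126 := rfl
theorem F39861 : act 1 n12126 = n12050 := d12_1 D12126 F39544 F37562
theorem F39862 : act 2 n12126 = n11478 := d17_1 D12126 F39860 F39857
theorem F39863 : act 4 n12126 = n12051 := d24_1 D12126 F39549 F37559
theorem F39864 : act 5 n12126 = n12126 := d26_1 D12126 (iv D12126) F35831
def n12127 : Q := act 3 n11087
theorem D12127 : act 3 n11087 = n12127 := rfl
theorem F39865 : act 5 n12127 = n12127 := d19_2 F35833 D12127 (iv D12127)
theorem F39866 : act 6 n12127 = n11359 := d20_2 (iv F35834) D12127 (iv D11359)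
def n12128 : Q := act 5 n11090
theorem D12128 : act 5 n11090 = n12128 := rfl
theorem F39867 : act 0 n12128 = n11294 := d4_1 D12128 F36672 (iv F35847)
theorem F39868 : act 2 n12128 = n11389 := d15_1 D12128 F37084 (iv F35849)
theorem F39869 : act 3 n12128 = n11091 := d19_1 D12128 (iv D11091) (iv F35850)
theorem F39870 : act 6 n12128 = n11104 := d25_2 D11090 D12128 (iv D11104) (iv D9633) (iv F30647)
theorem F39871 : act 7 n12128 = n11290 := d26_2 (iv F35851) D12128 F36653
def n12129 : Q := act 1 n11091
theorem D12129 : act 1 n11091 = n12129 := rfl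
theorem F39872 : act 5 n12129 = n12129 := d10_2 D11091 D12129 (iv D12129) (iv D11091) F30649
theorem F39873 : act 6 n12129 = n11105 := d11_2 (iv F35852) D12129 (iv D11105)
theorem F39874 : act 7 n12129 = n11477 := d12_2 F37600 D12129 (iv F37595)
def n12130 : Q := act 6 n11092
theorem D12130 : act 6 n11092 = n12130 := rfl
theorem F39875 : act 1 n12130 = n11801 := d11_1 D12130 F38628 F37777
theorem F39876 : act 2 n12130 = n11094 := d16_1 D12130 (iv D11094) (iv F35853)
theorem F39877 : act 3 n12130 = n11802 := d20_1 D12130 F38632 F36176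
theorem F39878 : act 5 n12130 = n12130 := d25_1 D12130 (iv D12130) (iv D11092) F30660 D11092
def n12131 : Q := act 7 n11094
theorem D12131 : act 7 n11094 = n12131 := rfl
theorem F39879 : act 1 n12131 = n11765 := d12_1 D12131 F38496 F36736
theorem F39880 : act 4 n12131 = n11766 := d24_1 D12131 F38500 F36733
theorem F39881 : act 5 n12131 = n12131 := d26_1 D12131 (iv D12131) F35860
theorem F39882 : act 6 n12131 = n11683 := d27_1 D12131 (iv D11683) F33737 (iv F30668) D11094
def n12132 : Q := act 5 n11103
theorem D12132 : act 5 n11103 = n12132 := rfl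
theorem F39883 : act 0 n12132 = n11291 := d4_1 D12132 F36657 (iv F35899)
theorem F39884 : act 2 n12132 = n11368 := d15_1 D12132 (iv D11368) (iv F35901)
theorem F39885 : act 4 n12132 = n11104 := d22_1 D12132 (iv D11104) (iv F35902)
theorem F39886 : act 7 n12132 = n11287 := d26_2 (iv F35903) D12132 (iv D11287)
def n12133 : Q := act 1 n11104
theorem D12133 : act 1 n11104 = n12133 := rfl
theorem F39887 : act 3 n12133 = n11105 := d8_2 (iv F35906) D12133 (iv D11105)
theorem F39888 : act 5 n12133 = n11124 := d10_2 D11104 D12133 (iv D11124) (iv D9664) (iv F30733)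
theorem F39889 : act 7 n12133 = n11288 := d12_2 (iv F35907) D12133 (iv D11288)
def n12134 : Q := act 5 n11106
theorem D12134 : act 5 n11106 = n12134 := rfl
theorem F39890 : act 0 n12134 = n11108 := d4_1 D12134 (iv D11108) D11106
theorem F39891 : act 1 n12134 = n12052 := d10_1 D12134 F39552 F35381 (iv F30898) (iv F35909)
theorem F39892 : act 2 n12134 = n11455 := d15_1 D12134 (iv D11455) (iv F35910)
theorem F39893 : act 3 n12134 = n11600 := d19_1 D12134 F37892 (iv F35911)
theorem F39894 : act 4 n12134 = n12054 := d22_1 D12134 F39558 F35914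
theorem F39895 : act 7 n12134 = n11111 := d26_2 (iv F35913) D12134 (iv D11111)
def n12135 : Q := act 3 n11107
theorem D12135 : act 3 n11107 = n12135 := rfl
theorem F39896 : act 0 n12135 = n12070 := d2_1 D12135 (iv D12070) (iv F35915)
theorem F39897 : act 1 n12135 = n11109 := d8_1 D12135 (iv D11109) (iv F35916)
theorem F39898 : act 2 n12135 = n11574 := d13_1 D12135 F37802 F33333 (iv F33290) (iv F35917)
theorem F39899 : act 4 n12135 = n11622 := d18_2 D11107 D12135 (iv D11622) F33496 (iv F30748)
theorem F39900 : act 6 n12135 = n11566 := d20_2 (iv F35918) D12135 (iv D11566)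
theorem F39901 : act 7 n12135 = n12076 := d21_2 (iv F35919) D12135 (iv D12076) (iv D10993) (iv F30777)
def n12136 : Q := act 5 n11107
theorem D12136 : act 5 n11107 = n12136 := rfl
theorem F39902 : act 0 n12136 = n12054 := d4_1 D12136 F39558 (iv F35915)
theorem F39903 : act 1 n12136 = n12049 := d10_1 D12136 (iv D12049) F35350 (iv F30753) (iv F35916)
theorem F39904 : act 2 n12136 = n11567 := d15_1 D12136 (iv D11567) (iv F35917)
theorem F39905 : act 4 n12136 = n11108 := d22_1 D12136 (iv D11108) D11107
theorem F39906 : act 7 n12136 = n11112 := d26_2 (iv F35919) D12136 (iv D11112)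
def n12137 : Q := act 7 n11121
theorem D12137 : act 7 n11121 = n12137 := rfl
theorem F39907 : act 1 n12137 = n11495 := d12_1 D12137 (iv D11495) (iv F35981)
theorem F39908 : act 2 n12137 = n11305 := d17_1 D12137 (iv F37379) F37376
theorem F39909 : act 5 n12137 = n12137 := d26_1 D12137 (iv D12137) F35983
theorem F39910 : act 6 n12137 = n11302 := d27_1 D12137 (iv D11302) (iv F32970) F32971 D11121
def n12138 : Q := act 3 n11122
theorem D12138 : act 3 n11122 = n12138 := rfl
theorem F39911 : act 0 n12138 = n11454 := d2_1 D12138 (iv D11454) (iv F35984)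
theorem F39912 : act 1 n12138 = n11494 := d8_1 D12138 F37493 (iv F35985)
theorem F39913 : act 2 n12138 = n11308 := d13_1 D12138 (iv D11308) (iv F36729) F36730 (iv F35986)
theorem F39914 : act 4 n12138 = n12130 := d18_2 (iv F35987) D12138 F39877 F38630 (iv D11123)
theorem F39915 : act 5 n12138 = n12138 := d19_2 F35988 D12138 (iv D12138)
theorem F39916 : act 6 n12138 = n11568 := d20_2 (iv F35989) D12138 F37780
def n12139 : Q := act 4 n11125
theorem D12139 : act 4 n11125 = n12139 := rfl
theorem F39917 : act 0 n12139 = n11126 := d3_1 D12139 (iv D11126) D11125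
theorem F39918 : act 1 n12139 = n11430 := d9_1 D12139 F37216 (iv F35997)
theorem F39919 : act 2 n12139 = n12139 := d14_1 D12139 (iv D12139) F35998
theorem F39920 : act 5 n12139 = n11428 := d22_2 (iv F35999) D12139 F37206
theorem F39921 : act 6 n12139 = n11444 := d23_2 (iv F36000) D12139 F37282
theorem F39922 : act 7 n12139 = n12139 := d24_2 F36001 D12139 (iv D12139)
def n12140 : Q := act 5 n11129
theorem D12140 : act 5 n11129 = n12140 := rfl
theorem F39923 : act 0 n12140 = n11130 := d4_1 D12140 (iv D11130) (iv F36016)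
theorem F39924 : act 1 n12140 = n11435 := d10_1 D12140 (iv F37249) F37246 F33719 (iv F36017)
theorem F39925 : act 2 n12140 = n12140 := d15_1 D12140 (iv D12140) F36018
theorem F39926 : act 4 n12140 = n12073 := d22_1 D12140 (iv D12073) (iv F36019)
theorem F39927 : act 6 n12140 = n11433 := d25_2 D11129 D12140 F37235 (iv D10986) (iv F30898)
theorem F39928 : act 7 n12140 = n12140 := d26_2 F36020 D12140 (iv D12140)
def n12141 : Q := act 5 n11134
theorem D12141 : act 5 n11134 = n12141 := rfl
theorem F39929 : act 0 n12141 = n11216 := d4_1 D12141 (iv D11216) (iv F36046)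
theorem F39930 : act 1 n12141 = n11683 := d10_1 D12141 F38181 F33739 (iv F34752) (iv F36047)
theorem F39931 : act 2 n12141 = n11135 := d15_1 D12141 (iv D11135) (iv F36048)
theorem F39932 : act 3 n12141 = n11153 := d19_1 D12141 (iv D11153) (iv F36049)
theorem F39933 : act 4 n12141 = n11439 := d22_1 D12141 (iv D11439) (iv F36050)
theorem F39934 : act 6 n12141 = n11765 := d25_2 D11134 D12141 (iv D11765) (iv D10597) (iv F31004)
theorem F39935 : act 7 n12141 = n11518 := d26_2 (iv F36051) D12141 F37607
def n12142 : Q := act 1 n11135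
theorem D12142 : act 1 n11135 = n12142 := rfl
theorem F39936 : act 0 n12142 = n11256 := d0_1 D12142 (iv F36935) F36934 (iv D11218) (iv F36052)
theorem F39937 : act 3 n12142 = n11136 := d8_2 (iv F36053) D12142 (iv D11136)
theorem F39938 : act 4 n12142 = n11441 := d9_2 (iv F36054) D12142 (iv D11441)
theorem F39939 : act 5 n12142 = n12142 := d10_2 D11135 D12142 (iv D12142) (iv D11135) F31007
theorem F39940 : act 6 n12142 = n11265 := d11_2 (iv F36055) D12142 F36552
theorem F39941 : act 7 n12142 = n11517 := d12_2 (iv F36056) D12142 F37601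
theorem F39942 : act 2 n12142 = n12127 := d29_7 (iv D7858) F19448 (iv F23720) (iv F25717) D9695 D11135 D12142 (iv D12127) (iv D11087) (iv F35830) (iv F39857) F39856 (iv D11455) (iv D10150) (iv F28427) F28425 (iv F29119) (iv F29122) D9599 F30606 F30605 F25244 (iv D6404) (iv D4853) F10832 F10830 (iv F14538) D6223 (iv F24830)
def n12143 : Q := act 1 n11138
theorem D12143 : act 1 n11138 = n12143 := rfl
theorem F39943 : act 0 n12143 = n11251 := d0_1 D12143 (iv F36879) F36878 (iv D11233) (iv F36070)
theorem F39944 : act 2 n12143 = n12133 := d7_2 (iv F36071) D12143 (iv D12133) F35905 F32103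
theorem F39945 : act 3 n12143 = n11139 := d8_2 (iv F36072) D12143 (iv D11139)
theorem F39946 : act 4 n12143 = n11662 := d9_2 (iv F36073) D12143 (iv D11662)
theorem F39947 : act 5 n12143 = n11280 := d10_2 D11138 D12143 F36607 (iv D9990) (iv F31021)
theorem F39948 : act 6 n12143 = n11144 := d11_2 (iv F36074) D12143 (iv D11144)
def n12144 : Q := act 5 n11140
theorem D12144 : act 5 n11140 = n12144 := rfl
theorem F39949 : act 0 n12144 = n11158 := d4_1 D12144 F36164 (iv F36081)
theorem F39950 : act 1 n12144 = n11257 := d10_1 D12144 (iv D11257) (iv F32023) F32027 (iv F36082)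
theorem F39951 : act 2 n12144 = n11143 := d15_1 D12144 (iv D11143) (iv F36083)
theorem F39952 : act 3 n12144 = n11259 := d19_1 D12144 (iv F37117) F37115
theorem F39953 : act 4 n12144 = n11141 := d22_1 D12144 (iv D11141) (iv F36084)
theorem F39954 : act 6 n12144 = n11375 := d25_2 D11140 D12144 (iv D11375) (iv D9988) (iv F31031)
def n12145 : Q := act 7 n11141
theorem D12145 : act 7 n11141 = n12145 := rfl
theorem F39955 : act 0 n12145 = n11235 := d6_1 D12145 (iv D11235) (iv F36085)
theorem F39956 : act 2 n12145 = n11145 := d17_1 D12145 (iv D11145) (iv F36086)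
theorem F39957 : act 3 n12145 = n11846 := d21_1 D12145 F38809 (iv D11335) F31826 (iv F36087)
theorem F39958 : act 5 n12145 = n11142 := d26_1 D12145 (iv D11142) D11141
def n12146 : Q := act 2 n11144
theorem D12146 : act 2 n11144 = n12146 := rfl
theorem F39959 : act 0 n12146 = n11322 := d1_1 D12146 (iv F36873) F36871
theorem F39960 : act 1 n12146 = n12128 := d7_1 D12146 F39868 F37081 F36086 D11144
theorem F39961 : act 5 n12146 = n12146 := d15_2 F36099 D12146 (iv D12146)
theorem F39962 : act 6 n12146 = n12133 := d16_2 F39948 D12146 (iv F39944)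
theorem F39963 : act 7 n12146 = n11160 := d17_2 (iv F36870) D12146 (iv F36866)
theorem F39964 : act 3 n12146 = n12129 := d30_4 D8110 D9703 D11144 D12146 F39874 (iv D11477) F32852 F27614 D8654 F27617 F27829 (iv D8719) (iv F22548) (iv F27720) F27721 F26298 F20913 D6911 F21852 F19164 F17904 F13188 F9417 (iv D2836) F6053 (iv F8752) (iv F12461) D5429 (iv F20319)
def n12147 : Q := act 3 n11147
theorem D12147 : act 3 n11147 = n12147 := rfl
theorem F39965 : act 0 n12147 = n11243 := d2_1 D12147 F36484 (iv F36108)
theorem F39966 : act 1 n12147 = n11159 := d8_1 D12147 (iv D11159) (iv F36109)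
theorem F39967 : act 2 n12147 = n12129 := d13_1 D12147 (iv F39964) (iv D12146) F36098 D11147
theorem F39968 : act 4 n12147 = n11657 := d18_2 (iv F36110) D12147 F38082 F33611 (iv F31469)
theorem F39969 : act 5 n12147 = n12147 := d19_2 F36111 D12147 (iv D12147)
theorem F39970 : act 6 n12147 = n11248 := d20_2 (iv F36112) D12147 F36500
def n12148 : Q := act 5 n11148
theorem D12148 : act 5 n11148 = n12148 := rfl
theorem F39971 : act 0 n12148 = n11241 := d4_1 D12148 (iv D11241) (iv F36113)
theorem F39972 : act 2 n12148 = n11149 := d15_1 D12148 (iv D11149) (iv F36115)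
theorem F39973 : act 3 n12148 = n11765 := d19_1 D12148 (iv D11765) (iv F36116)
theorem F39974 : act 6 n12148 = n11153 := d25_2 D11148 D12148 (iv D11153) (iv D9711) (iv F31051)
theorem F39975 : act 7 n12148 = n12030 := d26_2 F36117 D12148 F39476
def n12149 : Q := act 7 n11149
theorem D12149 : act 7 n11149 = n12149 := rfl
theorem F39976 : act 0 n12149 = n11244 := d6_1 D12149 (iv D11244) (iv F36118)
theorem F39977 : act 1 n12149 = n11677 := d12_1 D12149 F38154 F36932
theorem F39978 : act 2 n12149 = n12030 := d17_1 D12149 (iv F39975) F39972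
theorem F39979 : act 3 n12149 = n11684 := d21_1 D12149 F38185 F37778 F33341 (iv F36119)
theorem F39980 : act 4 n12149 = n11464 := d24_1 D12149 (iv F37824) F37821
theorem F39981 : act 5 n12149 = n11150 := d26_1 D12149 (iv D11150) D11149
theorem F39982 : act 6 n12149 = n12126 := d27_1 D12149 (iv D12126) (iv D11086) (iv F31077) (iv F36120)
def n12150 : Q := act 5 n11152
theorem D12150 : act 5 n11152 = n12150 := rfl
theorem F39983 : act 0 n12150 = n11246 := d4_1 D12150 (iv D11246) (iv F36134)
theorem F39984 : act 1 n12150 = n11264 := d10_1 D12150 F36549 F31538 (iv F34385) (iv F36135)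
theorem F39985 : act 2 n12150 = n11154 := d15_1 D12150 (iv D11154) (iv F36136)
theorem F39986 : act 3 n12150 = n11260 := d19_1 D12150 F36540 (iv F36137)
theorem F39987 : act 4 n12150 = n11153 := d22_1 D12150 (iv D11153) (iv F36138)
theorem F39988 : act 7 n12150 = n11805 := d26_2 F36139 D12150 F38652
def n12151 : Q := act 1 n11153
theorem D12151 : act 1 n11153 = n12151 := rfl
theorem F39989 : act 2 n12151 = n11266 := d7_2 (iv F36141) D12151 (iv F36940) F36941 (iv D11155)
theorem F39990 : act 3 n12151 = n11683 := d8_2 F39932 D12151 (iv F39930)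
theorem F39991 : act 4 n12151 = n11264 := d9_2 F39987 D12151 (iv F39984)
theorem F39992 : act 5 n12151 = n11283 := d10_2 D11153 D12151 F36620 F34374 (iv F31067)
theorem F39993 : act 7 n12151 = n11680 := d12_2 (iv F36142) D12151 F38167
theorem F39994 : act 0 n11772 = n12151 := d6_3 F39993 F38166 (iv F38524)
def n12152 : Q := act 1 n11165
theorem D12152 : act 1 n11165 = n12152 := rfl
theorem F39995 : act 0 n12152 = n11534 := d0_1 D12152 F37658 (iv F38672) F38673 (iv F36189)
theorem F39996 : act 4 n12152 = n11532 := d9_2 (iv F36191) D12152 (iv D11532)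
theorem F39997 : act 5 n12152 = n11523 := d10_2 D11165 D12152 (iv D11523) (iv D10289) (iv F31147)
theorem F39998 : act 6 n12152 = n11230 := d11_2 (iv F36192) D12152 (iv D11230)
theorem F39999 : act 7 n12152 = n11166 := d12_2 (iv F36193) D12152 (iv D11166)
theorem F40000 : act 2 n12152 = n11533 := d30_3 D9735 D11165 D12152 (iv F39372) F39375 (iv D10969) F30104 F24690 F19388 D6193 F19399 F19398 (iv F20628) F20625 (iv F20612) D8182 F26002 (iv D6574) (iv F19040) F19037 (iv D5612) (iv D4158) (iv D2946) D2945 (iv F12641) F12639 (iv F17192) (iv F20499) D8147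
def n12153 : Q := act 0 n11166
theorem D12153 : act 0 n11166 = n12153 := rfl
theorem F40001 : act 1 n12153 = n11807 := d0_2 D11166 D12153 F38662 (iv D10738) (iv F31151)
theorem F40002 : act 3 n12153 = n11654 := d2_2 (iv F36194) D12153 (iv D11654)
theorem F40003 : act 4 n12153 = n11533 := d3_2 (iv F36195) D12153 (iv D11533)
theorem F40004 : act 5 n12153 = n11524 := d4_2 (iv F36196) D12153 (iv D11524)
theorem F40005 : act 6 n12153 = n11167 := d5_2 (iv F36197) D12153 (iv D11167)
theorem F40006 : act 7 n12153 = n11534 := d6_2 F39999 D12153 (iv F39995)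
theorem F40007 : act 2 n11532 = n12153 := d17_3 F40006 (iv D11534) (iv F37655)
def n12154 : Q := act 2 n11166
theorem D12154 : act 2 n11166 = n12154 := rfl
theorem F40008 : act 0 n12154 = n11532 := d1_1 D12154 F40007 (iv D12153)
theorem F40009 : act 1 n12154 = n11171 := d7_1 D12154 (iv D11171) (iv D9740) (iv F31152) D11166
theorem F40010 : act 4 n12154 = n11534 := d14_2 (iv F36195) D12154 (iv D11534)
theorem F40011 : act 5 n12154 = n11525 := d15_2 (iv F36196) D12154 (iv D11525)
theorem F40012 : act 6 n12154 = n11168 := d16_2 (iv F36197) D12154 (iv D11168)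
theorem F40013 : act 7 n12154 = n11533 := d17_2 F39999 D12154 (iv F40000)
def n12155 : Q := act 2 n11167
theorem D12155 : act 2 n11167 = n12155 := rfl
theorem F40014 : act 0 n12155 = n11168 := d1_1 D12155 (iv D11168) D11167
theorem F40015 : act 1 n12155 = n11212 := d7_1 D12155 F36362 D11239 F36971 F36967
theorem F40016 : act 4 n12155 = n11230 := d14_2 (iv F36198) D12155 F36439
theorem F40017 : act 5 n12155 = n11381 := d15_2 (iv F36199) D12155 (iv D11381)
theorem F40018 : act 6 n12155 = n11532 := d16_2 F40005 D12155 F40007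
theorem F40019 : act 7 n12155 = n11215 := d17_2 (iv F36200) D12155 F36376
def n12156 : Q := act 3 n11168
theorem D12156 : act 3 n11168 = n12156 := rfl
theorem F40020 : act 1 n12156 = n11174 := d8_1 D12156 (iv D11174) (iv F36201)
theorem F40021 : act 5 n12156 = n11382 := d19_2 (iv F36203) D12156 (iv D11382)
def n12157 : Q := act 2 n11169
theorem D12157 : act 2 n11169 = n12157 := rfl
theorem F40022 : act 0 n12157 = n11197 := d1_1 D12157 (iv F37333) F37332
theorem F40023 : act 1 n12157 = n11533 := d7_1 D12157 (iv F40000) (iv D12152) F36190 D11169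
theorem F40024 : act 3 n12157 = n11200 := d13_2 (iv F36205) D12157 F36321 F32767 (iv F33745)
theorem F40025 : act 4 n12157 = n11807 := d14_2 (iv F36206) D12157 (iv D11807)
theorem F40026 : act 5 n12157 = n11472 := d15_2 (iv F36207) D12157 F37402
theorem F40027 : act 6 n12157 = n11253 := d16_2 (iv F36208) D12157 (iv D11253)
theorem F40028 : act 7 n12157 = n11171 := d17_2 (iv F36209) D12157 (iv D11171)
def n12158 : Q := act 2 n11170
theorem D12158 : act 2 n11170 = n12158 := rfl
theorem F40029 : act 0 n12158 = n11171 := d1_1 D12158 (iv D11171) D11170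
theorem F40030 : act 1 n12158 = n11198 := d7_1 D12158 F36314 D11802 F38634 (iv F36210)
theorem F40031 : act 4 n12158 = n11809 := d14_2 (iv F36212) D12158 (iv D11809)
theorem F40032 : act 5 n12158 = n11429 := d15_2 (iv F36213) D12158 F37211
theorem F40033 : act 6 n12158 = n11173 := d16_2 (iv F36214) D12158 (iv D11173)
theorem F40034 : act 7 n12158 = n11197 := d17_2 F37336 D12158 (iv F37333)
def n12159 : Q := act 3 n11171
theorem D12159 : act 3 n11171 = n12159 := rfl
theorem F40035 : act 5 n12159 = n11799 := d19_2 (iv F36216) D12159 (iv D11799)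
theorem F40036 : act 6 n12159 = n11174 := d20_2 (iv F36217) D12159 (iv D11174)
def n12160 : Q := act 3 n11172
theorem D12160 : act 3 n11172 = n12160 := rfl
theorem F40037 : act 0 n12160 = n11201 := d2_1 D12160 (iv D11201) (iv F36218)
theorem F40038 : act 2 n12160 = n11174 := d13_1 D12160 (iv D11174) (iv D9744) (iv F31171) D11172
theorem F40039 : act 5 n12160 = n11176 := d19_2 (iv F36219) D12160 (iv D11176)
theorem F40040 : act 7 n12160 = n11531 := d21_2 (iv F36220) D12160 F37653 F33214 (iv F31273)
def n12161 : Q := act 3 n11173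
theorem D12161 : act 3 n11173 = n12161 := rfl
theorem F40041 : act 0 n12161 = n11174 := d2_1 D12161 (iv D11174) (iv F36221)
theorem F40042 : act 2 n12161 = n11201 := d13_1 D12161 (iv D11201) F31289 (iv F31180) D11173
theorem F40043 : act 5 n12161 = n11177 := d19_2 (iv F36223) D12161 (iv D11177)
def n12162 : Q := act 4 n11174
theorem D12162 : act 4 n11174 = n12162 := rfl
theorem F40044 : act 3 n12162 = n11874 := d18_1 D12162 (iv D11874) (iv D10769) (iv F31184) D11174
theorem F40045 : act 5 n12162 = n11178 := d22_2 (iv F36225) D12162 (iv D11178)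
def n12163 : Q := act 7 n11174
theorem D12163 : act 7 n11174 = n12163 := rfl
theorem F40046 : act 2 n12163 = n11531 := d17_1 D12163 (iv F40040) F40038
theorem F40047 : act 3 n12163 = n11267 := d21_1 D12163 (iv D11267) (iv D9843) (iv F31186) D11174
theorem F40048 : act 5 n12163 = n11179 := d26_1 D12163 (iv D11179) (iv F36225)
def n12164 : Q := act 4 n11176
theorem D12164 : act 4 n11176 = n12164 := rfl
theorem F40049 : act 0 n12164 = n11203 := d3_1 D12164 (iv D11203) (iv F36232)
theorem F40050 : act 1 n12164 = n11542 := d9_1 D12164 F37681 (iv F36233)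
theorem F40051 : act 2 n12164 = n11178 := d14_1 D12164 (iv D11178) (iv F36234)
theorem F40052 : act 6 n12164 = n11415 := d23_2 (iv F36235) D12164 (iv D11415)
theorem F40053 : act 7 n12164 = n11530 := d24_2 (iv F36236) D12164 F37652
def n12165 : Q := act 4 n11177
theorem D12165 : act 4 n11177 = n12165 := rfl
theorem F40054 : act 0 n12165 = n11178 := d3_1 D12165 (iv D11178) (iv F36237)
theorem F40055 : act 2 n12165 = n11203 := d14_1 D12165 (iv D11203) (iv F36238)
theorem F40056 : act 3 n12165 = n11879 := d18_1 D12165 (iv D11879) (iv D10773) (iv F31200) D11177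
theorem F40057 : act 6 n12165 = n11427 := d23_2 (iv F36239) D12165 (iv D11427)
def n12166 : Q := act 7 n11177
theorem D12166 : act 7 n11177 = n12166 := rfl
theorem F40058 : act 0 n12166 = n11179 := d6_1 D12166 (iv D11179) (iv F36237)
theorem F40059 : act 1 n12166 = n12089 := d12_1 D12166 (iv F39698) F39000
theorem F40060 : act 2 n12166 = n11199 := d17_1 D12166 F36320 (iv F36238)
theorem F40061 : act 3 n12166 = n11284 := d21_1 D12166 (iv D11284) (iv D9861) (iv F31202) D11177
theorem F40062 : act 6 n12166 = n11527 := d30_6 F20463 (iv F20638) (iv F25924) D9748 D11177 D12166 (iv F37775) F37773 F35701 F30398 F24910 F19497 (iv D6229) (iv F18493) F18494 (iv F22151) D8587 F27394 (iv F28371) (iv F33378) (iv D10351) F28089 (iv F26646) (iv D8376) F21271 F16075 F11716 D5181 (iv F20464)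
def n12167 : Q := act 7 n11178
theorem D12167 : act 7 n11178 = n12167 := rfl
theorem F40063 : act 1 n12167 = n11396 := d12_1 D12167 (iv D11396) (iv F36240)
theorem F40064 : act 2 n12167 = n11530 := d17_1 D12167 (iv F40053) F40051
theorem F40065 : act 4 n12167 = n11179 := d24_1 D12167 (iv D11179) D11178
theorem F40066 : act 6 n11529 = n12167 := d23_0 F40065 (iv F36246) D11529
def n12168 : Q := act 3 n11184
theorem D12168 : act 3 n11184 = n12168 := rfl
theorem F40067 : act 0 n12168 = n11189 := d2_1 D12168 (iv D11189) (iv F36266)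
theorem F40068 : act 1 n12168 = n11555 := d8_1 D12168 (iv D11555) (iv F36267)
theorem F40069 : act 2 n12168 = n11880 := d13_1 D12168 F38921 (iv D11384) F32997 (iv F36268)
theorem F40070 : act 6 n12168 = n11402 := d20_2 (iv F36270) D12168 (iv D11402)
theorem F40071 : act 7 n12168 = n11876 := d21_2 D11184 D12168 (iv D11876) F34790 F31492
def n12169 : Q := act 3 n11185
theorem D12169 : act 3 n11185 = n12169 := rfl
theorem F40072 : act 0 n12169 = n11191 := d2_1 D12169 (iv D11191) (iv F36271)
theorem F40073 : act 2 n12169 = n11734 := d13_1 D12169 F38391 F38389 F35442 (iv F36272)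
theorem F40074 : act 5 n12169 = n11186 := d19_2 (iv F36273) D12169 (iv D11186)
theorem F40075 : act 7 n12169 = n11584 := d21_2 D11185 D12169 (iv D11584) (iv D10354) (iv F31232)
def n12170 : Q := act 4 n11186
theorem D12170 : act 4 n11186 = n12170 := rfl
theorem F40076 : act 0 n12170 = n11193 := d3_1 D12170 (iv D11193) (iv F36274)
theorem F40077 : act 1 n12170 = n11561 := d9_1 D12170 (iv D11561) (iv F36275)
theorem F40078 : act 2 n12170 = n11733 := d14_1 D12170 (iv D11733) (iv F36276)
theorem F40079 : act 6 n12170 = n11405 := d23_2 (iv F36277) D12170 (iv D11405)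
theorem F40080 : act 7 n12170 = n11586 := d24_2 (iv F36278) D12170 (iv D11586)
def n12171 : Q := act 4 n11189
theorem D12171 : act 4 n11189 = n12171 := rfl
theorem F40081 : act 2 n12171 = n11881 := d14_1 D12171 F38924 F36289
theorem F40082 : act 3 n12171 = n11193 := d18_1 D12171 (iv D11193) (iv D9765) (iv F31246) D11189
theorem F40083 : act 6 n12171 = n11407 := d23_2 (iv F36287) D12171 (iv D11407)
theorem F40084 : act 7 n12171 = n11877 := d24_2 (iv F36288) D12171 (iv D11877)
def n12172 : Q := act 3 n11190
theorem D12172 : act 3 n11190 = n12172 := rfl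
theorem F40085 : act 1 n12172 = n11191 := d8_1 D12172 (iv D11191) (iv F36290)
def n12173 : Q := act 6 n11190
theorem D12173 : act 6 n11190 = n12173 := rfl
theorem F40086 : act 0 n12173 = n11583 := d5_1 D12173 F37844 F37728
theorem F40087 : act 1 n12173 = n11192 := d11_1 D12173 (iv D11192) (iv F36290)
theorem F40088 : act 2 n12173 = n11654 := d16_1 D12173 F38068 F36861
theorem F40089 : act 4 n12173 = n11897 := d23_1 D12173 F38982 F37322
theorem F40090 : act 7 n12173 = n11194 := d27_2 D11190 D12173 (iv D11194) (iv D9767) (iv F31251)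
theorem F40091 : act 5 n12173 = n11592 := d29_5 F36817 F33451 (iv F36856) F36859 D12173 (iv F38888) (iv D11871) F34769 (iv F31446) (iv F36500) (iv F36503) (iv D11105) (iv D9634) (iv D8002) (iv F25169) F25168 (iv F26082) F26083 F20752 F21156 (iv D6726) (iv D5147) (iv D3765) D3766 D5149 D6730 D8347 D9930 D11330
def n12174 : Q := act 4 n11191
theorem D12174 : act 4 n11191 = n12174 := rfl
theorem F40092 : act 5 n12174 = n11193 := d22_2 (iv F36291) D12174 (iv D11193)
def n12175 : Q := act 6 n11191
theorem D12175 : act 6 n11191 = n12175 := rfl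
theorem F40093 : act 3 n12175 = n11192 := d20_1 D12175 (iv D11192) D11191
theorem F40094 : act 5 n12175 = n11410 := d25_1 D12175 (iv D11410) F32145 (iv F31254) (iv F36291)
def n12176 : Q := act 3 n11198
theorem D12176 : act 3 n11198 = n12176 := rfl
theorem F40095 : act 0 n12176 = n11531 := d2_1 D12176 F37653 (iv F36313)
theorem F40096 : act 5 n12176 = n11199 := d19_2 (iv F36316) D12176 (iv D11199)
theorem F40097 : act 7 n12176 = n11201 := d21_2 D11198 D12176 (iv D11201) (iv D9775) (iv F31277)
def n12177 : Q := act 4 n11201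
theorem D12177 : act 4 n11201 = n12177 := rfl
theorem F40098 : act 5 n12177 = n11203 := d22_2 (iv F36325) D12177 (iv D11203)
def n12178 : Q := act 6 n11201
theorem D12178 : act 6 n11201 = n12178 := rfl
theorem F40099 : act 3 n12178 = n11202 := d20_1 D12178 (iv D11202) D11201
theorem F40100 : act 5 n12178 = n11425 := d25_1 D12178 (iv D11425) F32234 (iv F31291) (iv F36325)
def n12179 : Q := act 2 n11204
theorem D12179 : act 2 n11204 = n12179 := rfl
theorem F40101 : act 0 n12179 = n11778 := d1_1 D12179 F38550 (iv F36330)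
theorem F40102 : act 1 n12179 = n11858 := d7_1 D12179 (iv F39710) F39709 (iv D11481) (iv F36331)
theorem F40103 : act 3 n12179 = n12179 := d13_2 D11204 D12179 (iv D12179) (iv D11204) F31297
theorem F40104 : act 5 n12179 = n11223 := d15_2 (iv F36332) D12179 (iv D11223)
theorem F40105 : act 6 n12179 = n11756 := d16_2 (iv F36333) D12179 (iv D11756)
theorem F40106 : act 7 n12179 = n11209 := d17_2 (iv F36334) D12179 (iv D11209)
def n12180 : Q := act 4 n11204
theorem D12180 : act 4 n11204 = n12180 := rfl
theorem F40107 : act 0 n12180 = n11779 := d3_1 D12180 F38555 (iv F36330)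
theorem F40108 : act 1 n12180 = n11482 := d9_1 D12180 (iv D11482) (iv F36331)
theorem F40109 : act 3 n12180 = n11490 := d18_1 D12180 (iv D11490) (iv D10216) (iv F31298) D11204
theorem F40110 : act 5 n12180 = n11224 := d22_2 (iv F36332) D12180 (iv D11224)
theorem F40111 : act 6 n12180 = n11757 := d23_2 (iv F36333) D12180 (iv D11757)
theorem F40112 : act 7 n12180 = n11210 := d24_2 (iv F36334) D12180 (iv D11210)
def n12181 : Q := act 4 n11205
theorem D12181 : act 4 n11205 = n12181 := rfl
theorem F40113 : act 0 n12181 = n11790 := d3_1 D12181 F38591 (iv F36335)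
theorem F40114 : act 1 n12181 = n11210 := d9_1 D12181 (iv D11210) (iv F36336)
theorem F40115 : act 2 n12181 = n11837 := d14_1 D12181 F38770 F36339
theorem F40116 : act 3 n12181 = n11224 := d18_1 D12181 (iv D11224) (iv D9793) (iv F31310) D11205
theorem F40117 : act 5 n12181 = n11490 := d22_2 (iv F36337) D12181 (iv D11490)
theorem F40118 : act 7 n12181 = n11482 := d24_2 (iv F36338) D12181 (iv D11482)
def n12182 : Q := act 6 n11205
theorem D12182 : act 6 n11205 = n12182 := rfl
theorem F40119 : act 0 n12182 = n11420 := d5_1 D12182 F37188 (iv F36335)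
theorem F40120 : act 1 n12182 = n11211 := d11_1 D12182 (iv D11211) (iv F36336)
theorem F40121 : act 2 n12182 = n11826 := d16_1 D12182 F38731 F36339
theorem F40122 : act 3 n12182 = n11206 := d20_1 D12182 (iv D11206) D11205
theorem F40123 : act 5 n12182 = n11759 := d25_1 D12182 (iv D11759) F34143 (iv F32909) (iv F36337)
def n12183 : Q := act 4 n11209
theorem D12183 : act 4 n11209 = n12183 := rfl
theorem F40124 : act 2 n12183 = n11210 := d14_1 D12183 (iv D11210) D11209
theorem F40125 : act 5 n12183 = n11529 := d22_2 (iv F36358) D12183 (iv D11529)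
def n12184 : Q := act 6 n11210
theorem D12184 : act 6 n11210 = n12184 := rfl
theorem F40126 : act 3 n12184 = n11227 := d20_1 D12184 (iv D11227) (iv F36359)
theorem F40127 : act 4 n12184 = n11211 := d23_1 D12184 (iv D11211) D11210
def n12185 : Q := act 5 n11211
theorem D12185 : act 5 n11211 = n12185 := rfl
theorem F40128 : act 3 n12185 = n11212 := d19_1 D12185 (iv D11212) (iv F36361)
theorem F40129 : act 6 n12185 = n11531 := d25_2 D11211 D12185 (iv D11531) (iv D10296) (iv F31322)
def n12186 : Q := act 7 n11213
theorem D12186 : act 7 n11213 = n12186 := rfl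
theorem F40130 : act 0 n12186 = n11769 := d6_1 D12186 F38511 (iv F36366)
theorem F40131 : act 2 n12186 = n11708 := d17_1 D12186 F38272 (iv F36367)
theorem F40132 : act 4 n12186 = n11751 := d24_1 D12186 F38446 (iv F36369)
theorem F40133 : act 5 n12186 = n11214 := d26_1 D12186 (iv D11214) D11213
def n12187 : Q := act 1 n11216
theorem D12187 : act 1 n11216 = n12187 := rfl
theorem F40134 : act 0 n12187 = n12137 := d0_1 D12187 F39907 (iv F38180) (iv F39930) F39929
theorem F40135 : act 2 n12187 = n11657 := d7_2 (iv F36380) D12187 F38081 F36895 (iv D11218)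
theorem F40136 : act 3 n12187 = n11247 := d8_2 (iv F36381) D12187 (iv D11247)
theorem F40137 : act 4 n12187 = n12129 := d9_2 (iv F36382) D12187 (iv D12129)
theorem F40138 : act 5 n12187 = n12187 := d10_2 D11216 D12187 (iv D12187) (iv D11216) F31333
theorem F40139 : act 6 n12187 = n11656 := d11_2 (iv F36383) D12187 F38075
theorem F40140 : act 7 n12187 = n11679 := d12_2 (iv F36384) D12187 F38162
def n12188 : Q := act 2 n11222
theorem D12188 : act 2 n11222 = n12188 := rfl
theorem F40141 : act 0 n12188 = n11223 := d1_1 D12188 (iv D11223) (iv F36408)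
theorem F40142 : act 3 n12188 = n12188 := d13_2 D11222 D12188 (iv D12188) (iv D11222) F31353
theorem F40143 : act 5 n12188 = n11778 := d15_2 (iv F36409) D12188 F38550
theorem F40144 : act 6 n12188 = n11421 := d16_2 (iv F36410) D12188 (iv D11421)
theorem F40145 : act 7 n12188 = n11527 := d17_2 (iv F36411) D12188 (iv D11527)
theorem F40146 : act 1 n12188 = n11986 := d29_2 D11222 D12188 (iv D11986) (iv D10877) (iv F35094) (iv F39107) F39108 F38602 F34277 F32345 (iv F32354) F32353 F30601 (iv F25800) F25799 (iv D8125) (iv D6496) (iv D4926) (iv D3575) F7742 F7741 (iv F11000) D4919 (iv F17622) (iv F18572) F18569 (iv F22723) (iv F26093) D9792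
def n12189 : Q := act 4 n11222
theorem D12189 : act 4 n11222 = n12189 := rfl
theorem F40147 : act 0 n12189 = n11224 := d3_1 D12189 (iv D11224) (iv F36408)
theorem F40148 : act 3 n12189 = n11790 := d18_1 D12189 F38591 F34257 (iv F31354) D11222
theorem F40149 : act 5 n12189 = n11779 := d22_2 (iv F36409) D12189 F38555
theorem F40150 : act 6 n12189 = n11422 := d23_2 (iv F36410) D12189 (iv D11422)
theorem F40151 : act 7 n12189 = n11528 := d24_2 (iv F36411) D12189 (iv D11528)
def n12190 : Q := act 4 n11223
theorem D12190 : act 4 n11223 = n12190 := rfl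
theorem F40152 : act 1 n12190 = n11909 := d9_1 D12190 F39024 (iv F36412)
theorem F40153 : act 2 n12190 = n11224 := d14_1 D12190 (iv D11224) D11223
theorem F40154 : act 6 n12190 = n11870 := d23_2 F36415 D12190 F38886
theorem F40155 : act 7 n12190 = n11529 := d24_2 (iv F36414) D12190 (iv D11529)
def n12191 : Q := act 6 n11224
theorem D12191 : act 6 n11224 = n12191 := rfl
theorem F40156 : act 0 n12191 = n11422 := d5_1 D12191 (iv F40150) F40147
theorem F40157 : act 1 n12191 = n11227 := d11_1 D12191 (iv D11227) (iv F36416)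
theorem F40158 : act 2 n12191 = n11870 := d16_1 D12191 (iv F40154) F40153
theorem F40159 : act 4 n12191 = n11225 := d23_1 D12191 (iv D11225) D11224
theorem F40160 : act 7 n12191 = n11415 := d27_2 (iv F36417) D12191 (iv F40052) F40053 (iv D11530)
def n12192 : Q := act 5 n11227
theorem D12192 : act 5 n11227 = n12192 := rfl
theorem F40161 : act 4 n12192 = n11228 := d22_1 D12192 (iv D11228) (iv F36430)
def n12193 : Q := act 7 n11227
theorem D12193 : act 7 n11227 = n12193 := rfl
theorem F40162 : act 1 n12193 = n11415 := d12_1 D12193 (iv F40160) F40157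
theorem F40163 : act 2 n12193 = n11901 := d17_1 D12193 F38998 F37294
theorem F40164 : act 4 n12193 = n11229 := d24_1 D12193 (iv D11229) (iv F36430)
theorem F40165 : act 6 n12193 = n11542 := d27_1 D12193 (iv D11542) (iv D10302) (iv F31367) D11227
def n12194 : Q := act 7 n11228
theorem D12194 : act 7 n11228 = n12194 := rfl
theorem F40166 : act 2 n12194 = n11900 := d17_1 D12194 F38994 F37298
theorem F40167 : act 3 n12194 = n11234 := d21_1 D12194 (iv D11234) F31377 (iv F31370) (iv F36431)
theorem F40168 : act 5 n12194 = n11229 := d26_1 D12194 (iv D11229) D11228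
def n12195 : Q := act 3 n11235
theorem D12195 : act 3 n11235 = n12195 := rfl
theorem F40169 : act 0 n12195 = n11846 := d2_1 D12195 (iv F39957) F39955
theorem F40170 : act 2 n12195 = n11636 := d13_1 D12195 (iv D11636) F33550 F33257 (iv F36455)
theorem F40171 : act 5 n12195 = n11236 := d19_2 (iv F36456) D12195 (iv D11236)
theorem F40172 : act 7 n12195 = n11262 := d21_2 D11235 D12195 (iv D11262) (iv D9839) (iv F31387)
def n12196 : Q := act 4 n11236
theorem D12196 : act 4 n11236 = n12196 := rfl
theorem F40173 : act 0 n12196 = n11848 := d3_1 D12196 (iv D11848) (iv F36457)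
theorem F40174 : act 1 n12196 = n11405 := d9_1 D12196 (iv D11405) (iv F36458)
theorem F40175 : act 2 n12196 = n11637 := d14_1 D12196 (iv D11637) (iv F36459)
theorem F40176 : act 6 n12196 = n11561 := d23_2 (iv F36460) D12196 (iv D11561)
theorem F40177 : act 7 n12196 = n11263 := d24_2 (iv F36461) D12196 (iv D11263)
def n12197 : Q := act 1 n11238
theorem D12197 : act 1 n11238 = n12197 := rfl
theorem F40178 : act 2 n12197 = n11507 := d7_2 F39557 D12197 F37558 (iv F35387) (iv F39556)
theorem F40179 : act 3 n12197 = n11239 := d8_2 (iv F36464) D12197 (iv D11239)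
theorem F40180 : act 4 n12197 = n12125 := d9_2 F37330 D12197 F39856
theorem F40181 : act 5 n12197 = n12197 := d10_2 D11238 D12197 (iv D12197) (iv D11238) F31401
theorem F40182 : act 6 n12197 = n11805 := d11_2 (iv F36465) D12197 (iv D11805)
def n12198 : Q := act 5 n11240
theorem D12198 : act 5 n11240 = n12198 := rfl
theorem F40183 : act 1 n12198 = n12029 := d10_1 D12198 F39473 F35279 (iv F35330) (iv F36470)
theorem F40184 : act 2 n12198 = n11242 := d15_1 D12198 (iv D11242) (iv F36471)
theorem F40185 : act 3 n12198 = n12132 := d19_1 D12198 (iv D12132) (iv F36472)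
theorem F40186 : act 4 n12198 = n11241 := d22_1 D12198 (iv D11241) (iv F36473)
theorem F40187 : act 6 n12198 = n11246 := d25_2 D11240 D12198 (iv D11246) (iv D9821) (iv F31409)
theorem F40188 : act 7 n12198 = n11468 := d26_2 F36474 D12198 F37382
def n12199 : Q := act 2 n11243
theorem D12199 : act 2 n11243 = n12199 := rfl
theorem F40189 : act 0 n12199 = n12129 := d1_1 D12199 (iv F39967) F39965
theorem F40190 : act 1 n12199 = n11337 := d7_1 D12199 F36849 (iv F36475) F36476 D11243
theorem F40191 : act 3 n12199 = n11322 := d13_2 (iv F36484) D12199 (iv F36873) F36876 (iv F36107)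
theorem F40192 : act 4 n12199 = n12137 := d14_2 F36719 D12199 F39908
theorem F40193 : act 5 n12199 = n12199 := d15_2 F36485 D12199 (iv D12199)
theorem F40194 : act 6 n12199 = n11249 := d16_2 (iv F36486) D12199 (iv D11249)
theorem F40195 : act 7 n11504 = n12199 := d27_0 F40194 F36506 F33026 D10248 D11504
def n12200 : Q := act 7 n11243
theorem D12200 : act 7 n11243 = n12200 := rfl
theorem F40196 : act 1 n12200 = n11244 := d12_1 D12200 (iv D11244) D11243
theorem F40197 : act 2 n12200 = n11504 := d17_1 D12200 F40195 (iv D12199)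
theorem F40198 : act 4 n12200 = n11467 := d24_1 D12200 F37379 F36719
theorem F40199 : act 5 n12200 = n12200 := d26_1 D12200 (iv D12200) F36485
theorem F40200 : act 6 n12200 = n11501 := d27_1 D12200 (iv D11501) F33017 F31582 (iv F36486)
def n12201 : Q := act 6 n11244
theorem D12201 : act 6 n11244 = n12201 := rfl
theorem F40201 : act 0 n12201 = n12126 := d5_1 D12201 (iv F39982) F39976
theorem F40202 : act 1 n12201 = n11501 := d11_1 D12201 (iv F40200) F40196
theorem F40203 : act 2 n12201 = n12028 := d16_1 D12201 F39469 (iv F36487)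
theorem F40204 : act 4 n12201 = n11469 := d23_1 D12201 (iv D11469) (iv F36488)
theorem F40205 : act 5 n12201 = n12201 := d25_1 D12201 (iv D12201) F36489 F31424 (iv F36489)
theorem F40206 : act 7 n12201 = n11250 := d27_2 D11244 D12201 (iv D11250) (iv D9825) (iv F31420)
def n12202 : Q := act 5 n11245
theorem D12202 : act 5 n11245 = n12202 := rfl
theorem F40207 : act 0 n12202 = n11260 := d4_1 D12202 F36540 (iv F36490)
theorem F40208 : act 2 n12202 = n11257 := d15_1 D12202 (iv D11257) (iv F36492)
theorem F40209 : act 3 n12202 = n11246 := d19_1 D12202 (iv D11246) (iv F36493)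
theorem F40210 : act 4 n12202 = n12128 := d22_1 D12202 (iv D12128) (iv F36494)
theorem F40211 : act 6 n12202 = n12132 := d25_2 D11245 D12202 (iv D12132) (iv D11103) (iv F31431)
theorem F40212 : act 7 n12202 = n11808 := d26_2 (iv F36495) D12202 F38670
def n12203 : Q := act 1 n11246
theorem D12203 : act 1 n11246 = n12203 := rfl
theorem F40213 : act 4 n12203 = n11247 := d9_2 (iv F36497) D12203 (iv D11247)
theorem F40214 : act 5 n12203 = n12203 := d10_2 D11246 D12203 (iv D12203) (iv D11246) F31433
theorem F40215 : act 6 n12203 = n12029 := d11_2 F40187 D12203 (iv F40183)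
def n12204 : Q := act 0 n11247
theorem D12204 : act 0 n11247 = n12204 := rfl
theorem F40216 : act 1 n12204 = n11772 := d0_2 D11247 D12204 F39994 (iv D12151) F36140
theorem F40217 : act 3 n12204 = n12137 := d2_2 F40136 D12204 (iv F40134)
theorem F40218 : act 5 n12204 = n12204 := d4_2 F36498 D12204 (iv D12204)
theorem F40219 : act 6 n12204 = n12000 := d5_2 (iv F36499) D12204 F39344
theorem F40220 : act 7 n12204 = n12138 := d6_2 F37327 D12204 F39911
theorem F40221 : act 2 n11766 = n12204 := d17_3 F40220 F39913 (iv F38500)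
def n12205 : Q := act 2 n11247
theorem D12205 : act 2 n11247 = n12205 := rfl
theorem F40222 : act 0 n12205 = n11766 := d1_1 D12205 F40221 (iv D12204)
theorem F40223 : act 1 n12205 = n11249 := d7_1 D12205 (iv D11249) (iv D9824) (iv F31436) D11247
theorem F40224 : act 3 n12205 = n11338 := d13_2 F40136 D12205 F36851 (iv F38082) (iv F40135)
theorem F40225 : act 5 n12205 = n12205 := d15_2 F36498 D12205 (iv D12205)
theorem F40226 : act 6 n12205 = n11337 := d16_2 (iv F36499) D12205 F36849
theorem F40227 : act 7 n12205 = n11502 := d17_2 F37327 D12205 F37529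
def n12206 : Q := act 3 n11249
theorem D12206 : act 3 n11249 = n12206 := rfl
theorem F40228 : act 0 n12206 = n12133 := d2_1 D12206 F39887 (iv F36504)
theorem F40229 : act 1 n12206 = n11338 := d8_1 D12206 (iv F40224) F40223
theorem F40230 : act 2 n12206 = n11251 := d13_1 D12206 (iv D11251) (iv D9827) (iv F31439) D11249
theorem F40231 : act 5 n12206 = n11279 := d19_2 (iv F36505) D12206 (iv D11279)
theorem F40232 : act 6 n12206 = n11322 := d20_2 F40194 D12206 (iv F40191)
theorem F40233 : act 7 n12206 = n11323 := d21_2 (iv F36506) D12206 F36786 (iv D10250) (iv F33024)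
theorem F40234 : act 4 n12124 = n12206 := d24_3 F40233 F36787 D12124
def n12207 : Q := act 3 n11255
theorem D12207 : act 3 n11255 = n12207 := rfl
theorem F40235 : act 0 n12207 = n12127 := d2_1 D12207 (iv D12127) (iv F36527)
theorem F40236 : act 2 n12207 = n11256 := d13_1 D12207 (iv D11256) (iv D9834) (iv F31464) D11255
theorem F40237 : act 5 n12207 = n12207 := d19_2 F36528 D12207 (iv D12207)
theorem F40238 : act 6 n12207 = n11264 := d20_2 (iv F36529) D12207 (iv D11264)
def n12208 : Q := act 7 n11257
theorem D12208 : act 7 n11257 = n12208 := rfl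
theorem F40239 : act 0 n12208 = n11261 := d6_1 D12208 (iv D11261) (iv F36533)
theorem F40240 : act 2 n12208 = n11808 := d17_1 D12208 (iv F40212) F40208
theorem F40241 : act 5 n12208 = n11258 := d26_1 D12208 (iv D11258) D11257
theorem F40242 : act 6 n12208 = n11871 := d27_1 D12208 F38891 F36564 (iv F36999) F36998
def n12209 : Q := act 3 n11261
theorem D12209 : act 3 n11261 = n12209 := rfl
theorem F40243 : act 1 n12209 = n11262 := d8_1 D12209 (iv D11262) (iv F36542)
theorem F40244 : act 2 n12209 = n11810 := d13_1 D12209 (iv D11810) (iv D10650) (iv F34349) (iv F36543)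
theorem F40245 : act 5 n12209 = n11811 := d19_2 (iv F36544) D12209 (iv D11811)
theorem F40246 : act 6 n12209 = n11872 := d20_2 (iv F36545) D12209 (iv D11872)
def n12210 : Q := act 4 n11262
theorem D12210 : act 4 n11262 = n12210 := rfl
theorem F40247 : act 5 n12210 = n11263 := d22_2 (iv F36546) D12210 (iv D11263)
def n12211 : Q := act 7 n11265
theorem D12211 : act 7 n11265 = n12211 := rfl
theorem F40248 : act 0 n12211 = n11267 := d6_1 D12211 (iv D11267) (iv F36551)
theorem F40249 : act 1 n12211 = n11769 := d12_1 D12211 F38511 (iv F36552)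
theorem F40250 : act 2 n12211 = n11801 := d17_1 D12211 F38629 F36959
theorem F40251 : act 4 n12211 = n11771 := d24_1 D12211 F38520 F36554
theorem F40252 : act 5 n12211 = n11284 := d26_1 D12211 (iv D11284) (iv F36553)
theorem F40253 : act 6 n12211 = n12136 := d27_1 D12211 F39906 (iv F37604) (iv F39941) F39940
def n12212 : Q := act 7 n11266
theorem D12212 : act 7 n11266 = n12212 := rfl
theorem F40254 : act 0 n12212 = n11771 := d6_1 D12212 F38520 (iv F36555)
theorem F40255 : act 1 n12212 = n12123 := d12_1 D12212 F39851 F36940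
theorem F40256 : act 2 n12212 = n11680 := d17_1 D12212 (iv F39993) F39989
theorem F40257 : act 4 n12212 = n11267 := d24_1 D12212 (iv D11267) D11266
theorem F40258 : act 5 n12212 = n11285 := d26_1 D12212 (iv D11285) (iv F36556)
theorem F40259 : act 6 n12212 = n12134 := d27_1 D12212 F39895 (iv F38158) F38159 (iv F36923)
def n12213 : Q := act 2 n11269
theorem D12213 : act 2 n11269 = n12213 := rfl
theorem F40260 : act 0 n12213 = n11587 := d1_1 D12213 (iv D11587) (iv F36565)
theorem F40261 : act 1 n12213 = n11289 := d7_1 D12213 (iv D11289) (iv D9868) (iv F31495) D11269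
theorem F40262 : act 4 n12213 = n11591 := d14_2 (iv F36567) D12213 (iv D11591)
theorem F40263 : act 5 n12213 = n11896 := d15_2 (iv F36568) D12213 (iv D11896)
theorem F40264 : act 6 n12213 = n11388 := d16_2 (iv F36569) D12213 (iv D11388)
theorem F40265 : act 3 n12213 = n11966 := d29_8 D2709 D3859 D5242 F20814 D8248 D9845 D11269 D12213 (iv D11966) (iv D10855) (iv D9349) (iv D7729) (iv D6113) (iv D4620) (iv D3333) (iv D2312) (iv D1577) (iv D1067) (iv D720) (iv D479) (iv D265) F487 (iv F763) (iv F1339) F1338 (iv F1877) D839 D1242 D1843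
theorem F40266 : act 7 n11655 = n12213 := d21_0 F40265 (iv D11966) (iv D10855) D10856 (iv F38070)
def n12214 : Q := act 7 n11269
theorem D12214 : act 7 n11269 = n12214 := rfl
theorem F40267 : act 0 n12214 = n11588 := d6_1 D12214 (iv D11588) (iv F36565)
theorem F40268 : act 1 n12214 = n11270 := d12_1 D12214 (iv D11270) D11269
theorem F40269 : act 2 n12214 = n11655 := d17_1 D12214 F40266 (iv D12213)
theorem F40270 : act 4 n12214 = n11592 := d24_1 D12214 (iv D11592) (iv F36567)
theorem F40271 : act 5 n12214 = n11897 := d26_1 D12214 (iv D11897) (iv F36568)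
theorem F40272 : act 6 n12214 = n12145 := d27_1 D12214 (iv D12145) F36088 F32102 (iv F36569)
theorem F40273 : act 3 n12214 = n11967 := d29_10 (iv F34533) (iv F38394) F38393 F34063 F28860 (iv F33508) (iv F37718) F37719 (iv F36566) D12214 (iv D11967) F35044 F29836 F24459 (iv F23580) F23579 D7784 F24597 (iv F30010) F30008 F29063 F23783 F23784 (iv F22868) (iv F28049) (iv F30682) (iv F33745) (iv F36205) F36209
def n12215 : Q := act 3 n11270
theorem D12215 : act 3 n11270 = n12215 := rfl
theorem F40274 : act 0 n12215 = n11273 := d2_1 D12215 (iv D11273) (iv F36570)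
theorem F40275 : act 1 n12215 = n11967 := d8_1 D12215 (iv F40273) F40268
theorem F40276 : act 2 n12215 = n11647 := d13_1 D12215 (iv D11647) F33579 (iv F31577) (iv F36571)
theorem F40277 : act 5 n12215 = n11271 := d19_2 (iv F36572) D12215 (iv D11271)
theorem F40278 : act 7 n12215 = n11603 := d21_2 D11270 D12215 (iv D11603) (iv D10372) (iv F31496)
def n12216 : Q := act 6 n11270
theorem D12216 : act 6 n11270 = n12216 := rfl
theorem F40279 : act 0 n12216 = n11274 := d5_1 D12216 (iv D11274) (iv F36570)
theorem F40280 : act 1 n12216 = n12145 := d11_1 D12216 (iv F40272) F40268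
theorem F40281 : act 2 n12216 = n11290 := d16_1 D12216 (iv D11290) (iv F36571)
theorem F40282 : act 4 n12216 = n12208 := d23_1 D12216 F40242 F38889
theorem F40283 : act 5 n12216 = n11400 := d25_1 D12216 (iv D11400) F32127 (iv F31501) (iv F36572)
theorem F40284 : act 7 n12216 = n11389 := d27_2 D11270 D12216 (iv D11389) (iv D10006) (iv F31497)
def n12217 : Q := act 4 n11271
theorem D12217 : act 4 n11271 = n12217 := rfl
theorem F40285 : act 0 n12217 = n11276 := d3_1 D12217 (iv D11276) (iv F36573)
theorem F40286 : act 1 n12217 = n11899 := d9_1 D12217 (iv D11899) (iv F36574)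
theorem F40287 : act 2 n12217 = n11651 := d14_1 D12217 (iv D11651) (iv F36575)
theorem F40288 : act 6 n12217 = n11401 := d23_2 (iv F36576) D12217 (iv D11401)
theorem F40289 : act 7 n12217 = n11604 := d24_2 (iv F36577) D12217 (iv D11604)
def n12218 : Q := act 2 n11273
theorem D12218 : act 2 n11273 = n12218 := rfl
theorem F40290 : act 0 n12218 = n11647 := d1_1 D12218 (iv F40276) F40274
theorem F40291 : act 1 n12218 = n11747 := d7_1 D12218 F38427 (iv F39058) F39059 F37349
theorem F40292 : act 3 n12218 = n11295 := d13_2 D11273 D12218 (iv D11295) (iv D9875) (iv F31517)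
theorem F40293 : act 5 n12218 = n11275 := d15_2 (iv F36584) D12218 (iv D11275)
theorem F40294 : act 7 n12218 = n11608 := d17_2 (iv F36585) D12218 (iv D11608)
theorem F40295 : act 6 n12218 = n11745 := d30_6 D5652 D7231 D8845 D10400 (iv F37920) (iv F40294) F38422 F34162 F28937 (iv D7578) F18702 (iv F23983) (iv F28092) (iv F33242) (iv D10311) (iv F33238) D11550 F37717 F33508 F28254 (iv D8838) F22878 F22316 (iv D5517) D5516 F17271 F17272 F13523 F12952
def n12219 : Q := act 4 n11273
theorem D12219 : act 4 n11273 = n12219 := rfl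
theorem F40296 : act 5 n12219 = n11276 := d22_2 (iv F36584) D12219 (iv D11276)
theorem F40297 : act 7 n12219 = n11609 := d24_2 (iv F36585) D12219 (iv D11609)
def n12220 : Q := act 6 n11273
theorem D12220 : act 6 n11273 = n12220 := rfl
theorem F40298 : act 1 n12220 = n11882 := d11_1 D12220 F38927 F37349
theorem F40299 : act 2 n12220 = n11745 := d16_1 D12220 (iv F40295) (iv D12218)
theorem F40300 : act 3 n12220 = n11274 := d20_1 D12220 (iv D11274) D11273
theorem F40301 : act 5 n12220 = n11760 := d25_1 D12220 (iv F38688) F38687 F34817 (iv F36584)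
def n12221 : Q := act 4 n11275
theorem D12221 : act 4 n11275 = n12221 := rfl
theorem F40302 : act 0 n12221 = n11651 := d3_1 D12221 (iv D11651) (iv F36591)
theorem F40303 : act 2 n12221 = n11276 := d14_1 D12221 (iv D11276) D11275
theorem F40304 : act 3 n12221 = n12164 := d18_1 D12221 (iv D12164) (iv D11176) (iv F31603) (iv F36592)
theorem F40305 : act 7 n12221 = n11611 := d24_2 (iv F36593) D12221 (iv D11611)
def n12222 : Q := act 4 n11277
theorem D12222 : act 4 n11277 = n12222 := rfl
theorem F40306 : act 1 n12222 = n12171 := d9_1 D12222 (iv D12171) (iv F36596)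
theorem F40307 : act 2 n12222 = n12026 := d14_1 D12222 F39457 F36599
theorem F40308 : act 3 n12222 = n11612 := d18_1 D12222 (iv D11612) (iv D10382) (iv F31523) D11277
theorem F40309 : act 5 n12222 = n12020 := d22_2 (iv F36597) D12222 (iv D12020)
theorem F40310 : act 7 n12222 = n11278 := d24_2 (iv F36598) D12222 (iv D11278)
def n12223 : Q := act 4 n11279
theorem D12223 : act 4 n11279 = n12223 := rfl
theorem F40311 : act 0 n12223 = n11863 := d3_1 D12223 F38864 (iv F36601)
theorem F40312 : act 1 n12223 = n12223 := d9_1 D12223 (iv D12223) F36602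
theorem F40313 : act 2 n12223 = n11281 := d14_1 D12223 (iv D11281) (iv F36603)
theorem F40314 : act 3 n12223 = n11682 := d18_1 D12223 F38178 F35134 F31636 D11279
theorem F40315 : act 5 n12223 = n12124 := d22_2 F40231 D12223 F40234
theorem F40316 : act 6 n12223 = n12223 := d23_2 F36604 D12223 (iv D12223)
theorem F40317 : act 7 n12223 = n11505 := d24_2 (iv F36605) D12223 (iv D11505)
def n12224 : Q := act 2 n11288
theorem D12224 : act 2 n11288 = n12224 := rfl
theorem F40318 : act 0 n12224 = n11664 := d1_1 D12224 F38111 F36784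
theorem F40319 : act 1 n12224 = n11388 := d7_1 D12224 (iv D11388) (iv D10005) (iv F31569) D11288
theorem F40320 : act 4 n12224 = n11668 := d14_2 F39845 D12224 (iv F39843)
theorem F40321 : act 5 n12224 = n11384 := d15_2 (iv F36644) D12224 (iv D11384)
theorem F40322 : act 6 n12224 = n11289 := d16_2 (iv F36645) D12224 (iv D11289)
theorem F40323 : act 7 n12224 = n12143 := d17_2 F39889 D12224 F39944
def n12225 : Q := act 3 n11289
theorem D12225 : act 3 n11289 = n12225 := rfl
theorem F40324 : act 0 n12225 = n11663 := d2_1 D12225 (iv D11663) (iv F36646)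
theorem F40325 : act 1 n12225 = n11966 := d8_1 D12225 (iv F40265) F40261
theorem F40326 : act 2 n12225 = n11300 := d13_1 D12225 (iv D11300) (iv D9885) (iv F31572) D11289
theorem F40327 : act 5 n12225 = n11317 := d19_2 (iv F36648) D12225 (iv D11317)
theorem F40328 : act 7 n12225 = n11919 := d21_2 (iv F36649) D12225 (iv D11919) F34905 (iv F33628)
def n12226 : Q := act 3 n11291
theorem D12226 : act 3 n11291 = n12226 := rfl
theorem F40329 : act 0 n12226 = n12198 := d2_1 D12226 F40185 F39883
theorem F40330 : act 1 n12226 = n12207 := d8_1 D12226 (iv D12207) (iv F36654)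
theorem F40331 : act 2 n12226 = n11578 := d13_1 D12226 (iv D11578) F33362 (iv F36280) (iv F36655)
theorem F40332 : act 4 n12226 = n12148 := d18_2 (iv F36656) D12226 F39973 F38495 F34188
theorem F40333 : act 5 n12226 = n11292 := d19_2 (iv F36657) D12226 (iv D11292)
theorem F40334 : act 6 n12226 = n12150 := d20_2 (iv F36658) D12226 F39986
def n12227 : Q := act 2 n11297
theorem D12227 : act 2 n11297 = n12227 := rfl
theorem F40335 : act 0 n12227 = n12056 := d1_1 D12227 F39565 F37566
theorem F40336 : act 1 n12227 = n12186 := d7_1 D12227 F40131 (iv D11708) F33919 D11297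
theorem F40337 : act 5 n12227 = n11319 := d15_2 (iv F36686) D12227 (iv D11319)
theorem F40338 : act 6 n12227 = n11739 := d16_2 (iv F36687) D12227 F38389
theorem F40339 : act 7 n12227 = n11344 := d17_2 (iv F36688) D12227 (iv D11344)
def n12228 : Q := act 3 n11298
theorem D12228 : act 3 n11298 = n12228 := rfl
theorem F40340 : act 0 n12228 = n12175 := d2_1 D12228 F40093 (iv F36689)
theorem F40341 : act 1 n12228 = n11605 := d8_1 D12228 (iv D11605) (iv F36690)
theorem F40342 : act 5 n12228 = n11320 := d19_2 (iv F36692) D12228 (iv D11320)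
theorem F40343 : act 6 n12228 = n12169 := d20_2 (iv F36693) D12228 (iv D12169)
theorem F40344 : act 7 n12228 = n12172 := d21_2 (iv F36694) D12228 (iv D12172) (iv D11190) (iv F31852)
def n12229 : Q := act 3 n11299
theorem D12229 : act 3 n11299 = n12229 := rfl
theorem F40345 : act 0 n12229 = n12016 := d2_1 D12229 F39420 (iv F36695)
theorem F40346 : act 1 n12229 = n11610 := d8_1 D12229 F37923 (iv F36696)
theorem F40347 : act 5 n12229 = n12168 := d19_2 (iv F36698) D12229 (iv D12168)
theorem F40348 : act 6 n12229 = n11300 := d20_2 (iv F36699) D12229 (iv D11300)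
def n12230 : Q := act 4 n11300
theorem D12230 : act 4 n11300 = n12230 := rfl
theorem F40349 : act 1 n12230 = n11609 := d9_1 D12230 (iv D11609) (iv F36701)
theorem F40350 : act 5 n12230 = n11321 := d22_2 (iv F36702) D12230 (iv D11321)
def n12231 : Q := act 2 n11301
theorem D12231 : act 2 n11301 = n12231 := rfl
theorem F40351 : act 0 n12231 = n12130 := d1_1 D12231 F39876 F36706
theorem F40352 : act 1 n12231 = n11304 := d7_1 D12231 (iv D11304) (iv D9889) (iv F31632) D11301
theorem F40353 : act 3 n12231 = n11363 := d13_2 (iv F36703) D12231 (iv D11363) (iv F34678) F34677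
theorem F40354 : act 4 n12231 = n11454 := d14_2 F37531 D12231 (iv F37529)
theorem F40355 : act 5 n12231 = n12231 := d15_2 F36704 D12231 (iv D12231)
theorem F40356 : act 6 n12231 = n11364 := d16_2 (iv F36705) D12231 F36980
theorem F40357 : act 7 n12203 = n12231 := d27_0 F40356 F36982 (iv F35278) D12029 (iv F40215)
def n12232 : Q := act 7 n11301
theorem D12232 : act 7 n11301 = n12232 := rfl
theorem F40358 : act 0 n12232 = n12131 := d6_1 D12232 (iv D12131) F36706
theorem F40359 : act 1 n12232 = n11302 := d12_1 D12232 (iv D11302) D11301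
theorem F40360 : act 2 n12232 = n12203 := d17_1 D12232 F40357 (iv D12231)
theorem F40361 : act 4 n12232 = n12205 := d24_1 D12232 F40227 F37531
theorem F40362 : act 5 n12232 = n12232 := d26_1 D12232 (iv D12232) F36704
theorem F40363 : act 6 n12232 = n11495 := d27_1 D12232 (iv D11495) F32946 D10232 (iv F36705)
def n12233 : Q := act 2 n11303
theorem D12233 : act 2 n11303 = n12233 := rfl
theorem F40364 : act 0 n12233 = n12197 := d1_1 D12233 F40178 F37557
theorem F40365 : act 1 n12233 = n11364 := d7_1 D12233 F36980 (iv F32966) F32967 D11303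
theorem F40366 : act 3 n12233 = n11362 := d13_2 (iv F36710) D12233 (iv D11362) (iv F34626) F34625
theorem F40367 : act 4 n12233 = n11457 := d14_2 (iv F36711) D12233 F37337
theorem F40368 : act 5 n12233 = n12233 := d15_2 F36712 D12233 (iv D12233)
theorem F40369 : act 6 n12233 = n11304 := d16_2 (iv F36713) D12233 (iv D11304)
theorem F40370 : act 7 n12233 = n11496 := d17_2 F37386 D12233 F37497
def n12234 : Q := act 4 n11312
theorem D12234 : act 4 n11312 = n12234 := rfl
theorem F40371 : act 1 n12234 = n11649 := d9_1 D12234 (iv D11649) (iv F36747)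
theorem F40372 : act 2 n12234 = n11834 := d14_1 D12234 (iv D11834) (iv F36748)
theorem F40373 : act 3 n12234 = n11921 := d18_1 D12234 (iv D11921) (iv D10812) (iv F31676) D11312
theorem F40374 : act 5 n12234 = n11315 := d22_2 (iv F36749) D12234 (iv D11315)
theorem F40375 : act 7 n12234 = n11969 := d24_2 (iv F36750) D12234 (iv D11969)
def n12235 : Q := act 4 n11314
theorem D12235 : act 4 n11314 = n12235 := rfl
theorem F40376 : act 0 n12235 = n11315 := d3_1 D12235 (iv D11315) (iv F36757)
theorem F40377 : act 2 n12235 = n11831 := d14_1 D12235 (iv D11831) (iv F36758)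
theorem F40378 : act 3 n12235 = n11923 := d18_1 D12235 (iv D11923) (iv D10813) (iv F31694) D11314
theorem F40379 : act 6 n12235 = n11842 := d23_2 (iv F36759) D12235 (iv D11842)
theorem F40380 : act 7 n12235 = n11962 := d24_2 (iv F36760) D12235 (iv D11962)
def n12236 : Q := act 4 n11317
theorem D12236 : act 4 n11317 = n12236 := rfl
theorem F40381 : act 0 n12236 = n11864 := d3_1 D12236 (iv D11864) (iv F36770)
theorem F40382 : act 1 n12236 = n12235 := d9_1 D12236 (iv D12235) (iv F36771)
theorem F40383 : act 2 n12236 = n11321 := d14_1 D12236 (iv D11321) (iv F36772)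
theorem F40384 : act 3 n12236 = n11822 := d18_1 D12236 F38721 F34527 (iv F31739) D11317
def n12237 : Q := act 2 n11318
theorem D12237 : act 2 n11318 = n12237 := rfl
theorem F40385 : act 0 n12237 = n11687 := d1_1 D12237 F38197 (iv F36773)
theorem F40386 : act 1 n12237 = n11319 := d7_1 D12237 (iv D11319) (iv D9918) (iv F31742) D11318
theorem F40387 : act 4 n12237 = n11685 := d14_2 (iv F36775) D12237 (iv D11685)
theorem F40388 : act 5 n12237 = n11686 := d15_2 (iv F36776) D12237 F38193
theorem F40389 : act 6 n12237 = n12120 := d16_2 (iv F36777) D12237 (iv D12120)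
theorem F40390 : act 7 n12237 = n11347 := d17_2 (iv F36778) D12237 F36900
def n12238 : Q := act 3 n11319
theorem D12238 : act 3 n11319 = n12238 := rfl
theorem F40391 : act 2 n12238 = n11320 := d13_1 D12238 (iv D11320) (iv D9919) (iv F31759) D11319
def n12239 : Q := act 4 n11320
theorem D12239 : act 4 n11320 = n12239 := rfl
theorem F40392 : act 1 n12239 = n11329 := d9_1 D12239 (iv D11329) (iv F36780)
theorem F40393 : act 3 n12239 = n11321 := d18_1 D12239 (iv D11321) (iv D9920) (iv F31762) D11320
theorem F40394 : act 7 n12021 = n12239 := d21_0 F40393 (iv F37359) F37358 F37348 D12021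
def n12240 : Q := act 7 n11320
theorem D12240 : act 7 n11320 = n12240 := rfl
theorem F40395 : act 0 n12240 = n11555 := d6_1 D12240 F37733 F37150
theorem F40396 : act 1 n12240 = n11330 := d12_1 D12240 (iv D11330) (iv F36780)
theorem F40397 : act 3 n12240 = n11339 := d21_1 D12240 (iv D11339) F31846 (iv F31763) D11320
theorem F40398 : act 4 n12240 = n12021 := d24_1 D12240 F40394 (iv D12239)
theorem F40399 : act 5 n12240 = n12172 := d26_1 D12240 (iv F40344) F40342
def n12241 : Q := act 4 n11324
theorem D12241 : act 4 n11324 = n12241 := rfl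
theorem F40400 : act 0 n12241 = n11845 := d3_1 D12241 F38806 (iv F36789)
theorem F40401 : act 2 n12241 = n11329 := d14_1 D12241 (iv D11329) (iv F36790)
theorem F40402 : act 3 n12241 = n11842 := d18_1 D12241 (iv D11842) F34607 F33940 D11324
theorem F40403 : act 5 n12241 = n11613 := d22_2 (iv F36791) D12241 (iv D11613)
theorem F40404 : act 6 n12241 = n11923 := d23_2 (iv F36792) D12241 (iv D11923)
def n12242 : Q := act 3 n11325
theorem D12242 : act 3 n11325 = n12242 := rfl
theorem F40405 : act 0 n12242 = n11882 := d2_1 D12242 (iv D11882) (iv F36793)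
theorem F40406 : act 1 n12242 = n12195 := d8_1 D12242 (iv D12195) (iv F36794)
theorem F40407 : act 2 n12242 = n11920 := d13_1 D12242 (iv D11920) (iv D10811) (iv F31788) D11325
theorem F40408 : act 5 n12242 = n11328 := d19_2 (iv F36796) D12242 (iv D11328)
theorem F40409 : act 6 n12242 = n11589 := d20_2 (iv F36797) D12242 (iv D11589)
theorem F40410 : act 7 n12242 = n12209 := d21_2 (iv F36798) D12242 (iv D12209) (iv D11261) (iv F36159)
def n12243 : Q := act 6 n11326
theorem D12243 : act 6 n11326 = n12243 := rfl
theorem F40411 : act 0 n12243 = n11346 := d5_1 D12243 (iv D11346) (iv F36799)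
theorem F40412 : act 1 n12243 = n11578 := d11_1 D12243 F37823 (iv F36800)
theorem F40413 : act 2 n12243 = n11355 := d16_1 D12243 F36939 (iv F36801)
theorem F40414 : act 3 n12243 = n11327 := d20_1 D12243 (iv D11327) D11326
theorem F40415 : act 4 n12243 = n11354 := d23_1 D12243 (iv F36933) (iv F36802)
theorem F40416 : act 5 n12243 = n11358 := d25_1 D12243 F36956 F32411 (iv F31801) (iv F36803)
theorem F40417 : act 7 n12243 = n11689 := d27_2 (iv F37571) D12243 F38207 F35371 D11509
def n12244 : Q := act 4 n11328
theorem D12244 : act 4 n11328 = n12244 := rfl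
theorem F40418 : act 0 n12244 = n11883 := d3_1 D12244 (iv D11883) (iv F36810)
theorem F40419 : act 2 n12244 = n11923 := d14_1 D12244 (iv D11923) (iv F36811)
theorem F40420 : act 3 n12244 = n11336 := d18_1 D12244 (iv D11336) (iv D9936) (iv F31803) D11328
theorem F40421 : act 6 n12244 = n11329 := d23_2 (iv F36812) D12244 (iv D11329)
def n12245 : Q := act 7 n11329
theorem D12245 : act 7 n11329 = n12245 := rfl
theorem F40422 : act 0 n12245 = n12222 := d6_1 D12245 F40310 (iv F36813)
theorem F40423 : act 1 n12245 = n12021 := d12_1 D12245 F40394 F40392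
theorem F40424 : act 3 n12245 = n12020 := d21_1 D12245 F39436 F37362 F32733 (iv F36814)
theorem F40425 : act 4 n12245 = n11330 := d24_1 D12245 (iv D11330) D11329
theorem F40426 : act 5 n12245 = n11612 := d26_1 D12245 F37929 (iv F36815)
def n12246 : Q := act 2 n11331
theorem D12246 : act 2 n11331 = n12246 := rfl
theorem F40427 : act 0 n12246 = n11332 := d1_1 D12246 (iv D11332) D11331
theorem F40428 : act 1 n12246 = n12208 := d7_1 D12246 F40240 F38667 (iv D11349) (iv F36819)
theorem F40429 : act 4 n12246 = n12145 := d14_2 (iv F36821) D12246 F39956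
theorem F40430 : act 5 n12246 = n11691 := d15_2 (iv F36822) D12246 (iv D11691)
theorem F40431 : act 6 n12246 = n11592 := d16_2 (iv F36823) D12246 F37874
theorem F40432 : act 7 n12246 = n12144 := d17_2 (iv F36824) D12246 F39951
def n12247 : Q := act 3 n11332
theorem D12247 : act 3 n11332 = n12247 := rfl
theorem F40433 : act 1 n12247 = n11335 := d8_1 D12247 (iv D11335) (iv F36825)
theorem F40434 : act 2 n12247 = n11526 := d13_1 D12247 (iv D11526) (iv D10292) (iv F31808) D11332
theorem F40435 : act 5 n12247 = n11692 := d19_2 (iv F36827) D12247 (iv D11692)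
theorem F40436 : act 6 n12247 = n11594 := d20_2 (iv F36828) D12247 (iv D11594)
def n12248 : Q := act 4 n11335
theorem D12248 : act 4 n11335 = n12248 := rfl
theorem F40437 : act 0 n12248 = n12210 := d3_1 D12248 (iv D12210) (iv F36842)
theorem F40438 : act 5 n12248 = n11336 := d22_2 (iv F36843) D12248 (iv D11336)
theorem F40439 : act 6 n12248 = n11595 := d23_2 (iv F36844) D12248 (iv D11595)
def n12249 : Q := act 7 n11349
theorem D12249 : act 7 n11349 = n12249 := rfl
theorem F40440 : act 0 n12249 = n11351 := d6_1 D12249 (iv D11351) (iv F36908)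
theorem F40441 : act 1 n12249 = n12202 := d12_1 D12249 F40212 F38667
theorem F40442 : act 2 n12249 = n11350 := d17_1 D12249 (iv D11350) D11349
theorem F40443 : act 3 n12249 = n12203 := d21_1 D12249 F40357 F40353 (iv F38641) F38637
theorem F40444 : act 4 n12249 = n12146 := d24_1 D12249 F39963 (iv F36909)
theorem F40445 : act 5 n12249 = n12249 := d26_1 D12249 (iv D12249) F36910
def n12250 : Q := act 3 n11351
theorem D12250 : act 3 n11351 = n12250 := rfl
theorem F40446 : act 0 n12250 = n12203 := d2_1 D12250 (iv F40443) F40440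
theorem F40447 : act 1 n12250 = n11359 := d8_1 D12250 (iv D11359) (iv F36916)
theorem F40448 : act 4 n12250 = n12204 := d18_2 (iv F36918) D12250 F40217 (iv F40192) F40191
theorem F40449 : act 5 n12250 = n12250 := d19_2 F36919 D12250 (iv D12250)
theorem F40450 : act 7 n12250 = n12130 := d21_2 D11351 D12250 F39877 F38633 F34342
theorem F40451 : act 2 n12250 = n12131 := d28_3 F39959 (iv F36918) D12250 F39879 (iv D11765) (iv D10597) F28956 F25303 D8001 (iv F25306) F21502 F16343 (iv D5219) (iv D3835) D3836 D5220 F16238 F16237 F11879 (iv D2693) (iv F8276) D3829 D5212 F16205 D5215 F16219 F16220 F11941 (iv D3857) (iv D2707) F5738 F4483 F3068 D1423 F4494 F3085 F2231 F2230 F1482 F790 (iv D242) (iv F685) (iv F1147) D569 D845 D1253 D1862 D2737 (iv F12051) (iv F16456) F16455 F15109 (iv F16595) (iv F21753) F21754 F21751 F21752 (iv F26810) (iv F30853) D11124 (iv F39888) (iv F39962)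
def n12251 : Q := act 2 n11352
theorem D12251 : act 2 n11352 = n12251 := rfl
theorem F40452 : act 1 n12251 = n12148 := d7_1 D12251 F39972 (iv F36932) (iv D11354) (iv F36920)
theorem F40453 : act 3 n12251 = n12131 := d13_2 D11352 D12251 (iv F40451) (iv D12250) F36917
theorem F40454 : act 4 n12251 = n12207 := d14_2 (iv F36921) D12251 F40236
theorem F40455 : act 5 n12251 = n12251 := d15_2 F36922 D12251 (iv D12251)
theorem F40456 : act 6 n12251 = n12151 := d16_2 F36923 D12251 F39989
theorem F40457 : act 7 n12251 = n11480 := d17_2 F38159 D12251 F38160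
def n12252 : Q := act 3 n11366
theorem D12252 : act 3 n11366 = n12252 := rfl
theorem F40458 : act 0 n12252 = n11371 := d2_1 D12252 (iv D11371) (iv F36987)
theorem F40459 : act 5 n12252 = n11367 := d19_2 (iv F36989) D12252 (iv D11367)
theorem F40460 : act 6 n12252 = n11887 := d20_2 F37004 D12252 F38949
theorem F40461 : act 7 n12252 = n11402 := d21_2 D11366 D12252 (iv D11402) (iv D10017) (iv F31996)
theorem F40462 : act 2 n12252 = n11850 := d29_1 D12252 F38819 F38259 (iv F33954) D10941 F35588 (iv D11022) (iv D9513) (iv D7865) F21806 F20106 F15043 (iv F20100) D8068 F25567 F25680 (iv D8094) (iv D6464) (iv D4895) (iv F13348) (iv F18045) (iv F23197) F23201 (iv F26477) (iv F27059) F27055 (iv F26848) (iv F31996) D11366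
def n12253 : Q := act 4 n11367
theorem D12253 : act 4 n11367 = n12253 := rfl
theorem F40463 : act 0 n12253 = n11374 := d3_1 D12253 (iv D11374) (iv F36990)
theorem F40464 : act 1 n12253 = n11848 := d9_1 D12253 (iv D11848) (iv F36991)
theorem F40465 : act 2 n12253 = n11849 := d14_1 D12253 (iv D11849) (iv F36994)
theorem F40466 : act 6 n12253 = n12020 := d23_2 (iv F36992) D12253 (iv D12020)
theorem F40467 : act 7 n12253 = n12118 := d24_2 (iv F36993) D12253 (iv D12118)
def n12254 : Q := act 4 n11370
theorem D12254 : act 4 n11370 = n12254 := rfl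
theorem F40468 : act 1 n12254 = n11407 := d9_1 D12254 (iv D11407) (iv F37005)
theorem F40469 : act 3 n12254 = n11374 := d18_1 D12254 (iv D11374) (iv D9985) (iv F32016) D11370
theorem F40470 : act 6 n12254 = n12222 := d23_2 (iv F37006) D12254 (iv D12222)
def n12255 : Q := act 4 n11371
theorem D12255 : act 4 n11371 = n12255 := rfl
theorem F40471 : act 2 n12255 = n11895 := d14_1 D12255 F38973 (iv F37009)
theorem F40472 : act 5 n12255 = n11374 := d22_2 (iv F37007) D12255 (iv D11374)
theorem F40473 : act 6 n12255 = n11888 := d23_2 F37010 D12255 F38952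
theorem F40474 : act 7 n12255 = n11407 := d24_2 (iv F37008) D12255 (iv D11407)
def n12256 : Q := act 4 n11373
theorem D12256 : act 4 n11373 = n12256 := rfl
theorem F40475 : act 0 n12256 = n11849 := d3_1 D12256 (iv D11849) (iv F37018)
theorem F40476 : act 1 n12256 = n11855 := d9_1 D12256 (iv D11855) (iv F37019)
theorem F40477 : act 2 n12256 = n11374 := d14_1 D12256 (iv D11374) D11373
theorem F40478 : act 5 n12256 = n11895 := d22_2 (iv F37021) D12256 F38973
theorem F40479 : act 6 n12256 = n12024 := d23_2 (iv F37022) D12256 (iv D12024)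
theorem F40480 : act 7 n12256 = n12119 := d24_2 (iv F37023) D12256 (iv D12119)
def n12257 : Q := act 3 n11376
theorem D12257 : act 3 n11376 = n12257 := rfl
theorem F40481 : act 0 n12257 = n12090 := d2_1 D12257 F39701 (iv F37032)
theorem F40482 : act 1 n12257 = n11420 := d8_1 D12257 (iv D11420) (iv F37033)
theorem F40483 : act 5 n12257 = n11393 := d19_2 (iv F37036) D12257 (iv D11393)
theorem F40484 : act 6 n12257 = n11791 := d20_2 (iv F37037) D12257 F38594
theorem F40485 : act 7 n12257 = n12069 := d21_2 D11376 D12257 F39607 F35462 (iv F32049)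
def n12258 : Q := act 4 n11377
theorem D12258 : act 4 n11377 = n12258 := rfl
theorem F40486 : act 1 n12258 = n11422 := d9_1 D12258 (iv D11422) (iv F37038)
theorem F40487 : act 5 n12258 = n11914 := d22_2 (iv F37039) D12258 (iv D11914)
theorem F40488 : act 7 n12258 = n11380 := d24_2 (iv F37040) D12258 (iv D11380)
def n12259 : Q := act 4 n11379
theorem D12259 : act 4 n11379 = n12259 := rfl
theorem F40489 : act 1 n12259 = n11915 := d9_1 D12259 F39047 (iv F37048)
theorem F40490 : act 2 n12259 = n12115 := d14_1 D12259 F39815 (iv F37049)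
theorem F40491 : act 3 n12259 = n12102 := d18_1 D12259 F39756 F35609 (iv F32067) D11379
theorem F40492 : act 5 n12259 = n11380 := d22_2 (iv F37050) D12259 (iv D11380)
theorem F40493 : act 6 n12259 = n12101 := d23_2 (iv F37051) D12259 F39752
theorem F40494 : act 7 n12259 = n11914 := d24_2 (iv F37052) D12259 (iv D11914)
def n12260 : Q := act 3 n11381
theorem D12260 : act 3 n11381 = n12260 := rfl
theorem F40495 : act 0 n12260 = n11382 := d2_1 D12260 (iv D11382) (iv F37054)
theorem F40496 : act 1 n12260 = n11759 := d8_1 D12260 F38480 (iv F37058)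
theorem F40497 : act 2 n12260 = n12240 := d13_1 D12260 F40397 F36857 (iv F32072) D11381
theorem F40498 : act 6 n12260 = n11693 := d20_2 (iv F37056) D12260 (iv D11693)
theorem F40499 : act 7 n12260 = n12238 := d21_2 (iv F37057) D12260 (iv D12238) F36779 (iv F32321)
def n12261 : Q := act 4 n11382
theorem D12261 : act 4 n11382 = n12261 := rfl
theorem F40500 : act 1 n12261 = n11386 := d9_1 D12261 (iv D11386) (iv F37059)
theorem F40501 : act 3 n12261 = n11697 := d18_1 D12261 (iv D11697) (iv D10511) (iv F32077) D11382
theorem F40502 : act 6 n12261 = n11694 := d23_2 (iv F37060) D12261 (iv D11694)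
def n12262 : Q := act 7 n11382
theorem D12262 : act 7 n11382 = n12262 := rfl
theorem F40503 : act 0 n12262 = n12238 := d6_1 D12262 (iv F40499) F40495
theorem F40504 : act 1 n12262 = n11387 := d12_1 D12262 (iv D11387) (iv F37059)
theorem F40505 : act 2 n12262 = n11410 := d17_1 D12262 (iv F37733) F37732
theorem F40506 : act 3 n12262 = n11431 := d21_1 D12262 (iv D11431) (iv D10073) (iv F32079) D11382
theorem F40507 : act 6 n12262 = n11408 := d27_1 D12262 (iv F37183) (iv F38230) (iv D11695) (iv F37060)
def n12263 : Q := act 4 n11385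
theorem D12263 : act 4 n11385 = n12263 := rfl
theorem F40508 : act 0 n12263 = n12259 := d3_1 D12263 (iv D12259) (iv F37068)
theorem F40509 : act 2 n12263 = n11386 := d14_1 D12263 (iv D11386) (iv F37069)
theorem F40510 : act 5 n12263 = n11391 := d22_2 (iv F37070) D12263 (iv D11391)
theorem F40511 : act 6 n12263 = n11703 := d23_2 (iv F37071) D12263 (iv D11703)
def n12264 : Q := act 7 n11386
theorem D12264 : act 7 n11386 = n12264 := rfl
theorem F40512 : act 3 n12264 = n11928 := d21_1 D12264 F39096 F38600 (iv D11707) (iv F37072)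
theorem F40513 : act 4 n12264 = n11387 := d24_1 D12264 (iv D11387) D11386
theorem F40514 : act 5 n12264 = n11396 := d26_1 D12264 (iv D11396) (iv F37073)
def n12265 : Q := act 3 n11388
theorem D12265 : act 3 n11388 = n12265 := rfl
theorem F40515 : act 0 n12265 = n12194 := d2_1 D12265 F40167 (iv F37077)
theorem F40516 : act 2 n12265 = n11544 := d13_1 D12265 F37683 F34852 F34848 D11388
theorem F40517 : act 5 n12265 = n11390 := d19_2 (iv F37078) D12265 (iv D11390)
theorem F40518 : act 6 n12265 = n11966 := d20_2 F40264 D12265 (iv F40265)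
theorem F40519 : act 7 n12265 = n11540 := d21_2 (iv F37079) D12265 F37678 F33338 (iv F36072)
def n12266 : Q := act 4 n11390
theorem D12266 : act 4 n11390 = n12266 := rfl
theorem F40520 : act 0 n12266 = n12193 := d3_1 D12266 F40164 (iv F37085)
theorem F40521 : act 1 n12266 = n11391 := d9_1 D12266 (iv D11391) (iv F37086)
theorem F40522 : act 2 n12266 = n11542 := d14_1 D12266 F37681 (iv F37087)
theorem F40523 : act 3 n12266 = n11633 := d18_1 D12266 (iv D11633) (iv F33623) F33624 D11390
theorem F40524 : act 6 n12266 = n11901 := d23_2 (iv F37088) D12266 (iv D11901)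
theorem F40525 : act 7 n12266 = n11539 := d24_2 (iv F37089) D12266 F37675
def n12267 : Q := act 7 n11391
theorem D12267 : act 7 n11391 = n12267 := rfl
theorem F40526 : act 0 n12267 = n12258 := d6_1 D12267 F40488 (iv F37090)
theorem F40527 : act 1 n12267 = n11539 := d12_1 D12267 (iv F40525) F40521
theorem F40528 : act 2 n12267 = n11396 := d17_1 D12267 (iv D11396) (iv F37091)
theorem F40529 : act 4 n12267 = n11392 := d24_1 D12267 (iv D11392) D11391
theorem F40530 : act 6 n12267 = n11536 := d27_1 D12267 F37666 F37291 (iv F34864) (iv F37092)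
def n12268 : Q := act 4 n11393
theorem D12268 : act 4 n11393 = n12268 := rfl
theorem F40531 : act 1 n12268 = n11394 := d9_1 D12268 (iv D11394) (iv F37098)
theorem F40532 : act 3 n12268 = n11914 := d18_1 D12268 (iv D11914) (iv D10805) (iv F32113) D11393
theorem F40533 : act 6 n12268 = n11903 := d23_2 (iv F37099) D12268 (iv D11903)
def n12269 : Q := act 7 n11393
theorem D12269 : act 7 n11393 = n12269 := rfl
theorem F40534 : act 0 n12269 = n12089 := d6_1 D12269 (iv F39698) F38999
theorem F40535 : act 1 n12269 = n11395 := d12_1 D12269 (iv D11395) (iv F37098)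
theorem F40536 : act 3 n12269 = n11433 := d21_1 D12269 (iv D11433) (iv D10085) (iv F32115) D11393
theorem F40537 : act 5 n12269 = n12069 := d26_1 D12269 (iv F40485) F40483
def n12270 : Q := act 7 n11394
theorem D12270 : act 7 n11394 = n12270 := rfl
theorem F40538 : act 0 n12270 = n11396 := d6_1 D12270 (iv D11396) (iv F37100)
theorem F40539 : act 2 n12270 = n12258 := d17_1 D12270 F40488 (iv F37101)
theorem F40540 : act 4 n12270 = n11395 := d24_1 D12270 (iv D11395) D11394
def n12271 : Q := act 6 n11395
theorem D12271 : act 6 n11395 = n12271 := rfl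
theorem F40541 : act 0 n12271 = n11397 := d5_1 D12271 (iv D11397) (iv F37104)
theorem F40542 : act 2 n12271 = n11535 := d16_1 D12271 F37663 (iv F37105)
theorem F40543 : act 3 n12271 = n11435 := d20_1 D12271 (iv D11435) (iv F37106)
theorem F40544 : act 7 n12271 = n11907 := d27_2 D11395 D12271 (iv D11907) (iv D10799) (iv F32118)
def n12272 : Q := act 3 n11396
theorem D12272 : act 3 n11396 = n12272 := rfl
theorem F40545 : act 4 n12272 = n11436 := d18_2 (iv F37107) D12272 (iv D11436) F32376 (iv F32121)
theorem F40546 : act 5 n12272 = n11928 := d19_2 F40514 D12272 (iv F40512)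
theorem F40547 : act 7 n12272 = n11917 := d21_2 D11396 D12272 (iv D11917) (iv D10808) (iv F32119)
theorem F40548 : act 2 n11929 = n12272 := d15_3 F40546 F39095 D11929
def n12273 : Q := act 6 n11396
theorem D12273 : act 6 n11396 = n12273 := rfl
theorem F40549 : act 1 n12273 = n11529 := d11_1 D12273 F40066 F40063
theorem F40550 : act 2 n12273 = n11536 := d16_1 D12273 (iv F40530) F40528
theorem F40551 : act 4 n12273 = n11397 := d23_1 D12273 (iv D11397) (iv F37107)
theorem F40552 : act 7 n12273 = n11909 := d27_2 D11396 D12273 (iv D11909) (iv D10800) (iv F32120)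
def n12274 : Q := act 5 n11397
theorem D12274 : act 5 n11397 = n12274 := rfl
theorem F40553 : act 1 n12274 = n11994 := d10_1 D12274 F39622 F39618 F36358 (iv F37108)
theorem F40554 : act 2 n12274 = n11537 := d15_1 D12274 (iv D11537) (iv F37109)
theorem F40555 : act 3 n12274 = n11438 := d19_1 D12274 (iv D11438) (iv F37110)
theorem F40556 : act 7 n12274 = n11910 := d26_2 (iv F37111) D12274 (iv D11910)
def n12275 : Q := act 4 n11399
theorem D12275 : act 4 n11399 = n12275 := rfl
theorem F40557 : act 5 n12275 = n11401 := d22_2 (iv F37119) D12275 (iv D11401)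
theorem F40558 : act 7 n12275 = n11409 := d24_2 (iv F37120) D12275 (iv D11409)
def n12276 : Q := act 6 n11399
theorem D12276 : act 6 n11399 = n12276 := rfl
theorem F40559 : act 0 n12276 = n11760 := d5_1 D12276 (iv F38688) F38684
theorem F40560 : act 1 n12276 = n12252 := d11_1 D12276 F40460 F38947
theorem F40561 : act 2 n12276 = n11695 := d16_1 D12276 F38230 F37181
theorem F40562 : act 3 n12276 = n11400 := d20_1 D12276 (iv D11400) D11399
theorem F40563 : act 7 n12276 = n11692 := d27_2 (iv F37120) D12276 F38221 F37733 (iv D11410)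
def n12277 : Q := act 4 n11402
theorem D12277 : act 4 n11402 = n12277 := rfl
theorem F40564 : act 0 n12277 = n11407 := d3_1 D12277 (iv D11407) (iv F37128)
theorem F40565 : act 3 n12277 = n11405 := d18_1 D12277 (iv D11405) (iv D10019) (iv F32135) D11402
theorem F40566 : act 5 n12277 = n12118 := d22_2 (iv F37129) D12277 (iv D12118)
def n12278 : Q := act 2 n11403
theorem D12278 : act 2 n11403 = n12278 := rfl
theorem F40567 : act 0 n12278 = n11408 := d1_1 D12278 (iv D11408) (iv F37130)
theorem F40568 : act 1 n12278 = n11764 := d7_1 D12278 F38492 (iv F34913) (iv F36811) (iv F37131)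
theorem F40569 : act 3 n12278 = n11685 := d13_2 D11403 D12278 (iv D11685) (iv D10483) (iv F32139)
theorem F40570 : act 5 n12278 = n11404 := d15_2 (iv F37132) D12278 (iv D11404)
theorem F40571 : act 6 n12278 = n12238 := d16_2 (iv F37133) D12278 F40391
theorem F40572 : act 7 n12278 = n11762 := d17_2 F38689 D12278 (iv F38686)
def n12279 : Q := act 4 n11403
theorem D12279 : act 4 n11403 = n12279 := rfl
theorem F40573 : act 0 n12279 = n11409 := d3_1 D12279 (iv D11409) (iv F37130)
theorem F40574 : act 1 n12279 = n12244 := d9_1 D12279 (iv D12244) (iv F37131)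
theorem F40575 : act 3 n12279 = n12118 := d18_1 D12279 (iv D12118) (iv D11067) (iv F32140) D11403
theorem F40576 : act 5 n12279 = n11405 := d22_2 (iv F37132) D12279 (iv D11405)
theorem F40577 : act 6 n12279 = n12239 := d23_2 (iv F37133) D12279 (iv D12239)
def n12280 : Q := act 4 n11404
theorem D12280 : act 4 n11404 = n12280 := rfl
theorem F40578 : act 0 n12280 = n11411 := d3_1 D12280 (iv D11411) (iv F37134)
theorem F40579 : act 1 n12280 = n11640 := d9_1 D12280 (iv D11640) (iv F37135)
theorem F40580 : act 2 n12280 = n11405 := d14_1 D12280 (iv D11405) D11404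
theorem F40581 : act 6 n12280 = n11733 := d23_2 (iv F37137) D12280 (iv D11733)
def n12281 : Q := act 4 n11406
theorem D12281 : act 4 n11406 = n12281 := rfl
theorem F40582 : act 1 n12281 = n11918 := d9_1 D12281 F39055 (iv F37143)
theorem F40583 : act 2 n12281 = n11407 := d14_1 D12281 (iv D11407) D11406
theorem F40584 : act 5 n12281 = n12119 := d22_2 (iv F37140) D12281 (iv D12119)
theorem F40585 : act 6 n12281 = n11881 := d23_2 (iv F37141) D12281 F38924
theorem F40586 : act 7 n12281 = n11895 := d24_2 (iv F37142) D12281 F38973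
def n12282 : Q := act 4 n11408
theorem D12282 : act 4 n11408 = n12282 := rfl
theorem F40587 : act 2 n12282 = n11409 := d14_1 D12282 (iv D11409) D11408
theorem F40588 : act 5 n12282 = n11411 := d22_2 (iv F37147) D12282 (iv D11411)
def n12283 : Q := act 6 n11409
theorem D12283 : act 6 n11409 = n12283 := rfl
theorem F40589 : act 0 n12283 = n12239 := d5_1 D12283 (iv F40577) F40573
theorem F40590 : act 3 n12283 = n11899 := d20_1 D12283 F38989 (iv F37148)
theorem F40591 : act 4 n12283 = n11410 := d23_1 D12283 (iv D11410) D11409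
def n12284 : Q := act 3 n11411
theorem D12284 : act 3 n11411 = n12284 := rfl
theorem F40592 : act 4 n12284 = n11688 := d18_2 D11411 D12284 (iv D11688) (iv D10491) (iv F32150)
def n12285 : Q := act 4 n11413
theorem D12285 : act 4 n11413 = n12285 := rfl
theorem F40593 : act 0 n12285 = n11419 := d3_1 D12285 (iv D11419) (iv F37159)
theorem F40594 : act 2 n12285 = n11885 := d14_1 D12285 (iv D11885) (iv F37160)
theorem F40595 : act 3 n12285 = n11415 := d18_1 D12285 (iv D11415) (iv D10036) (iv F32184) D11413
theorem F40596 : act 6 n12285 = n12221 := d23_2 (iv F37161) D12285 (iv D12221)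
theorem F40597 : act 7 n12285 = n12280 := d24_2 (iv F37162) D12285 (iv D12280)
def n12286 : Q := act 4 n11414
theorem D12286 : act 4 n11414 = n12286 := rfl
theorem F40598 : act 0 n12286 = n11424 := d3_1 D12286 (iv D11424) (iv F37163)
theorem F40599 : act 2 n12286 = n11800 := d14_1 D12286 (iv D11800) (iv F37164)
theorem F40600 : act 5 n12286 = n11415 := d22_2 (iv F37165) D12286 (iv D11415)
def n12287 : Q := act 4 n11418
theorem D12287 : act 4 n11418 = n12287 := rfl
theorem F40601 : act 2 n12287 = n12275 := d14_1 D12287 (iv D12275) (iv F37181)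
theorem F40602 : act 3 n12287 = n11424 := d18_1 D12287 (iv D11424) (iv D10049) (iv F32208) D11418
theorem F40603 : act 5 n12287 = n11419 := d22_2 (iv F37182) D12287 (iv D11419)
theorem F40604 : act 7 n12287 = n12282 := d24_2 (iv F37183) D12287 (iv D12282)
def n12288 : Q := act 2 n11420
theorem D12288 : act 2 n11420 = n12288 := rfl
theorem F40605 : act 0 n12288 = n11826 := d1_1 D12288 (iv F40121) F40119
theorem F40606 : act 3 n12288 = n12288 := d13_2 D11420 D12288 (iv D12288) (iv D11420) F32223
theorem F40607 : act 5 n12288 = n11782 := d15_2 (iv F37187) D12288 F38566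
theorem F40608 : act 6 n12288 = n11789 := d16_2 (iv F37188) D12288 F38588
theorem F40609 : act 7 n12288 = n11868 := d17_2 F38201 D12288 F38881
theorem F40610 : act 1 n12288 = n11957 := d29_2 D11420 D12288 (iv D11957) (iv D10846) (iv F34877) (iv F39008) (iv F39696) F39697 F35552 (iv F31546) F31543 (iv D8318) (iv F21288) F21289 F16905 D6983 (iv F27382) (iv F32608) F32611 F30622 F30621 F32590 F32587 D11088 F35839 F33772 F33773 F32199 D10045
def n12289 : Q := act 4 n11420
theorem D12289 : act 4 n11420 = n12289 := rfl
theorem F40611 : act 3 n12289 = n11422 := d18_1 D12289 (iv D11422) (iv D10046) (iv F32224) D11420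
theorem F40612 : act 5 n12289 = n11783 := d22_2 (iv F37187) D12289 F38569
theorem F40613 : act 6 n12289 = n11790 := d23_2 (iv F37188) D12289 F38591
theorem F40614 : act 7 n12289 = n12284 := d24_2 F38201 D12289 F40592
def n12290 : Q := act 1 n11421
theorem D12290 : act 1 n11421 = n12290 := rfl
theorem F40615 : act 0 n12290 = n11905 := d0_1 D12290 F39008 F34874 (iv F34755) (iv F37189)
theorem F40616 : act 2 n12290 = n12269 := d7_2 D11421 D12290 F40535 F37105 F37038
theorem F40617 : act 3 n12290 = n12290 := d8_2 F37190 D12290 (iv D12290)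
theorem F40618 : act 5 n12290 = n11985 := d10_2 F39397 D12290 F39499 (iv D12035) (iv F39394)
theorem F40619 : act 6 n12290 = n11986 := d11_2 F40144 D12290 (iv F40146)
theorem F40620 : act 7 n12290 = n11426 := d12_2 (iv F37191) D12290 (iv D11426)
def n12291 : Q := act 4 n11421
theorem D12291 : act 4 n11421 = n12291 := rfl
theorem F40621 : act 0 n12291 = n11870 := d3_1 D12291 F38886 (iv F37189)
theorem F40622 : act 2 n12291 = n11422 := d14_1 D12291 (iv D11422) D11421
theorem F40623 : act 7 n12291 = n11427 := d24_2 (iv F37191) D12291 (iv D11427)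
def n12292 : Q := act 4 n11423
theorem D12292 : act 4 n11423 = n12292 := rfl
theorem F40624 : act 0 n12292 = n11800 := d3_1 D12292 (iv D11800) (iv F37193)
theorem F40625 : act 2 n12292 = n11424 := d14_1 D12292 (iv D11424) D11423
theorem F40626 : act 3 n12292 = n11817 := d18_1 D12292 (iv D11817) (iv D10675) (iv F32240) (iv F37194)
theorem F40627 : act 5 n12292 = n11427 := d22_2 (iv F37195) D12292 (iv D11427)
def n12293 : Q := act 6 n11424
theorem D12293 : act 6 n11424 = n12293 := rfl
theorem F40628 : act 4 n12293 = n11425 := d23_1 D12293 (iv D11425) D11424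
def n12294 : Q := act 4 n11426
theorem D12294 : act 4 n11426 = n12294 := rfl
theorem F40629 : act 0 n12294 = n11903 := d3_1 D12294 (iv D11903) (iv F37198)
theorem F40630 : act 1 n12294 = n11427 := d9_1 D12294 (iv D11427) D11426
theorem F40631 : act 2 n12294 = n12268 := d14_1 D12294 (iv D12268) (iv F37199)
theorem F40632 : act 3 n12294 = n11890 := d18_1 D12294 (iv D11890) (iv D10783) (iv F32249) (iv F37200)
def n12295 : Q := act 5 n11426
theorem D12295 : act 5 n11426 = n12295 := rfl
theorem F40633 : act 0 n12295 = n11904 := d4_1 D12295 (iv D11904) (iv F37198)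
theorem F40634 : act 2 n12295 = n12257 := d15_1 D12295 F40483 (iv F37199)
theorem F40635 : act 3 n12295 = n11430 := d19_1 D12295 (iv D11430) (iv F37200)
theorem F40636 : act 6 n12295 = n11984 := d25_2 F39002 D12295 F39299 (iv F39703) F39702
theorem F40637 : act 7 n12295 = n11985 := d26_2 F40620 D12295 (iv F40618)
def n12296 : Q := act 3 n11434
theorem D12296 : act 3 n11434 = n12296 := rfl
theorem F40638 : act 0 n12296 = n11436 := d2_1 D12296 (iv D11436) (iv F37236)
theorem F40639 : act 1 n12296 = n12075 := d8_1 D12296 F39636 (iv F37237)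
theorem F40640 : act 2 n12296 = n11891 := d13_1 D12296 F38961 F34827 (iv F35772) (iv F37238)
theorem F40641 : act 5 n12296 = n11889 := d19_2 (iv F37240) D12296 F38955
theorem F40642 : act 6 n12296 = n12274 := d20_2 F37254 D12296 F40555
theorem F40643 : act 7 n12296 = n12100 := d21_2 D11434 D12296 F39748 (iv F35632) F34671
def n12297 : Q := act 6 n11436
theorem D12297 : act 6 n11436 = n12297 := rfl
theorem F40644 : act 0 n12297 = n12274 := d5_1 D12297 (iv F40642) F40638
theorem F40645 : act 1 n12297 = n11675 := d11_1 D12297 (iv F39581) F39579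
theorem F40646 : act 2 n12297 = n11931 := d16_1 D12297 (iv D11931) (iv F37244)
theorem F40647 : act 3 n12297 = n11437 := d20_1 D12297 (iv D11437) D11436
theorem F40648 : act 5 n12297 = n12271 := d25_1 D12297 (iv D12271) (iv F39040) F39041 (iv F37245)
def n12298 : Q := act 2 n11441
theorem D12298 : act 2 n11441 = n12298 := rfl
theorem F40649 : act 0 n12298 = n12251 := d1_1 D12298 (iv D12251) (iv F37265)
theorem F40650 : act 1 n12298 = n12000 := d7_1 D12298 F39345 F38430 F37257 D11441
theorem F40651 : act 3 n12298 = n12232 := d13_2 (iv F37266) D12298 F40360 (iv F40443) F40442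
theorem F40652 : act 4 n12298 = n12127 := d14_2 F39938 D12298 (iv F39942)
theorem F40653 : act 5 n12298 = n12298 := d15_2 F37267 D12298 (iv D12298)
theorem F40654 : act 6 n12298 = n11772 := d16_2 (iv F37268) D12298 (iv D11772)
theorem F40655 : act 7 n12298 = n11999 := d17_2 (iv F37269) D12298 F39339
def n12299 : Q := act 4 n11442
theorem D12299 : act 4 n11442 = n12299 := rfl
theorem F40656 : act 0 n12299 = n11520 := d3_1 D12299 (iv D11520) (iv F37270)
theorem F40657 : act 2 n12299 = n11443 := d14_1 D12299 (iv D11443) D11442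
theorem F40658 : act 3 n12299 = n12183 := d18_1 D12299 (iv D12183) F36357 (iv F32671) (iv F37271)
theorem F40659 : act 6 n12299 = n11621 := d23_2 (iv F37272) D12299 F37965
theorem F40660 : act 7 n12299 = n11788 := d24_2 (iv F37273) D12299 F38586
def n12300 : Q := act 3 n11444
theorem D12300 : act 3 n11444 = n12300 := rfl
theorem F40661 : act 0 n12300 = n11446 := d2_1 D12300 (iv D11446) (iv F37279)
theorem F40662 : act 1 n12300 = n11984 := d8_1 D12300 F39298 (iv F37280)
theorem F40663 : act 5 n12300 = n11445 := d19_2 (iv F37283) D12300 (iv D11445)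
theorem F40664 : act 7 n12300 = n11931 := d21_2 D11444 D12300 F39105 (iv F34943) (iv F32619)
def n12301 : Q := act 4 n11446
theorem D12301 : act 4 n11446 = n12301 := rfl
theorem F40665 : act 1 n12301 = n12084 := d9_1 D12301 F39676 (iv F37287)
theorem F40666 : act 3 n12301 = n11866 := d18_1 D12301 F38876 F34731 (iv F32629) D11446
theorem F40667 : act 5 n12301 = n11447 := d22_2 (iv F37288) D12301 (iv D11447)
def n12302 : Q := act 5 n11448
theorem D12302 : act 5 n11448 = n12302 := rfl
theorem F40668 : act 0 n12302 = n11541 := d4_1 D12302 (iv D11541) (iv F37292)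
theorem F40669 : act 2 n12302 = n12192 := d15_1 D12302 (iv D12192) (iv F37294)
theorem F40670 : act 3 n12302 = n11667 := d19_1 D12302 F38120 (iv F37295)
theorem F40671 : act 4 n12302 = n11449 := d22_1 D12302 (iv D11449) (iv F37296)
theorem F40672 : act 6 n12302 = n12063 := d25_2 D11448 D12302 F39585 F35415 F33704
def n12303 : Q := act 4 n11458
theorem D12303 : act 4 n11458 = n12303 := rfl
theorem F40673 : act 0 n12303 = n11595 := d3_1 D12303 (iv D11595) (iv F37340)
theorem F40674 : act 2 n12303 = n11995 := d14_1 D12303 (iv D11995) (iv F37341)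
theorem F40675 : act 5 n12303 = n11459 := d22_2 (iv F37342) D12303 (iv D11459)
theorem F40676 : act 6 n12303 = n12210 := d23_2 (iv F37343) D12303 (iv D12210)
theorem F40677 : act 7 n12303 = n12017 := d24_2 (iv F37344) D12303 (iv D12017)
def n12304 : Q := act 4 n11460
theorem D12304 : act 4 n11460 = n12304 := rfl
theorem F40678 : act 1 n12304 = n12219 := d9_1 D12304 (iv D12219) (iv F37349)
theorem F40679 : act 3 n12304 = n12303 := d18_1 D12304 (iv D12303) (iv D11458) (iv F32718) D11460
theorem F40680 : act 5 n12304 = n11462 := d22_2 (iv F37350) D12304 (iv D11462)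
theorem F40681 : act 7 n12304 = n12230 := d24_2 (iv F37351) D12304 (iv D12230)
def n12305 : Q := act 4 n11461
theorem D12305 : act 4 n11461 = n12305 := rfl
theorem F40682 : act 0 n12305 = n11511 := d3_1 D12305 (iv D11511) (iv F37352)
theorem F40683 : act 1 n12305 = n11962 := d9_1 D12305 (iv D11962) (iv F37353)
theorem F40684 : act 2 n12305 = n11462 := d14_1 D12305 (iv D11462) D11461
theorem F40685 : act 3 n12305 = n11944 := d18_1 D12305 (iv D11944) (iv D10832) (iv F32748) (iv F37354)
theorem F40686 : act 6 n12305 = n11996 := d23_2 (iv F37355) D12305 (iv D11996)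
theorem F40687 : act 7 n12305 = n12236 := d24_2 (iv F37356) D12305 (iv D12236)
def n12306 : Q := act 2 n11464
theorem D12306 : act 2 n11464 = n12306 := rfl
theorem F40688 : act 0 n12306 = n11468 := d1_1 D12306 (iv D11468) (iv F37365)
theorem F40689 : act 3 n12306 = n11501 := d13_2 D11464 D12306 F37525 F33033 (iv F32754)
theorem F40690 : act 4 n12306 = n12030 := d14_2 F39980 D12306 (iv F39978)
theorem F40691 : act 5 n12306 = n11465 := d15_2 (iv F37366) D12306 (iv D11465)
theorem F40692 : act 7 n12306 = n12226 := d17_2 F37824 D12306 F40331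
def n12307 : Q := act 4 n11466
theorem D12307 : act 4 n11466 = n12307 := rfl
theorem F40693 : act 0 n12307 = n11717 := d3_1 D12307 (iv D11717) (iv F37373)
theorem F40694 : act 5 n12307 = n11473 := d22_2 (iv F37374) D12307 (iv D11473)
def n12308 : Q := act 4 n11474
theorem D12308 : act 4 n11474 = n12308 := rfl
theorem F40695 : act 0 n12308 = n11995 := d3_1 D12308 (iv D11995) (iv F37409)
theorem F40696 : act 2 n12308 = n11595 := d14_1 D12308 (iv D11595) (iv F37410)
theorem F40697 : act 5 n12308 = n11475 := d22_2 (iv F37411) D12308 (iv D11475)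
theorem F40698 : act 7 n12308 = n11727 := d24_2 (iv F37412) D12308 (iv D11727)
def n12309 : Q := act 6 n11476
theorem D12309 : act 6 n11476 = n12309 := rfl
theorem F40699 : act 0 n12309 = n12200 := d5_1 D12309 F40200 F37524
theorem F40700 : act 1 n12309 = n11487 := d11_1 D12309 F37458 (iv F37421)
theorem F40701 : act 2 n12309 = n11477 := d16_1 D12309 (iv D11477) D11476
theorem F40702 : act 3 n12309 = n11496 := d20_1 D12309 F37499 (iv F37418)
theorem F40703 : act 4 n12309 = n12014 := d23_1 D12309 F39414 (iv F37419)
theorem F40704 : act 5 n12309 = n12309 := d25_1 D12309 (iv D12309) F37420 F32860 (iv F37420)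
theorem F40705 : act 7 n12309 = n12147 := d27_2 F37511 D12309 F39970 (iv F36638) (iv F37510)
def n12310 : Q := act 4 n11478
theorem D12310 : act 4 n11478 = n12310 := rfl
theorem F40706 : act 0 n12310 = n11496 := d3_1 D12310 (iv F39467) F39465
theorem F40707 : act 1 n12310 = n11479 := d9_1 D12310 (iv D11479) (iv F37424)
theorem F40708 : act 2 n12310 = n12051 := d14_1 D12310 (iv F39863) F39862
theorem F40709 : act 3 n12310 = n12200 := d18_1 D12310 F40198 (iv D11467) (iv F32865) D11478
theorem F40710 : act 5 n12310 = n12310 := d22_2 F37425 D12310 (iv D12310)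
theorem F40711 : act 6 n12310 = n12306 := d23_2 F39477 D12310 F40690
theorem F40712 : act 7 n12310 = n12197 := d24_2 (iv F39860) D12310 F40180
def n12311 : Q := act 6 n11479
theorem D12311 : act 6 n11479 = n12311 := rfl
theorem F40713 : act 1 n12311 = n12306 := d11_1 D12311 (iv F40711) F40707
theorem F40714 : act 2 n12311 = n11690 := d16_1 D12311 F38212 (iv F37426)
theorem F40715 : act 3 n12311 = n12201 := d20_1 D12311 (iv D12201) (iv F37427)
theorem F40716 : act 4 n12311 = n11480 := d23_1 D12311 (iv D11480) D11479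
theorem F40717 : act 5 n12311 = n12311 := d25_1 D12311 (iv D12311) F37428 F32875 (iv F37428)
theorem F40718 : act 7 n12311 = n12207 := d27_2 (iv F37429) D12311 F40238 F36550 (iv F36465)
def n12312 : Q := act 4 n11481
theorem D12312 : act 4 n11481 = n12312 := rfl
theorem F40719 : act 2 n12312 = n11482 := d14_1 D12312 (iv D11482) D11481
theorem F40720 : act 5 n12312 = n11520 := d22_2 (iv F37433) D12312 (iv D11520)
theorem F40721 : act 7 n12312 = n11837 := d24_2 (iv F37434) D12312 F38770
def n12313 : Q := act 6 n11482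
theorem D12313 : act 6 n11482 = n12313 := rfl
theorem F40722 : act 0 n12313 = n12062 := d5_1 D12313 F39584 F38148
theorem F40723 : act 1 n12313 = n11757 := d11_1 D12313 (iv F40111) F40108
theorem F40724 : act 3 n12313 = n11491 := d20_1 D12313 (iv D11491) (iv F37435)
theorem F40725 : act 4 n12313 = n11483 := d23_1 D12313 (iv D11483) D11482
def n12314 : Q := act 5 n11483
theorem D12314 : act 5 n11483 = n12314 := rfl
theorem F40726 : act 0 n12314 = n11598 := d4_1 D12314 F37885 (iv F37437)
theorem F40727 : act 1 n12314 = n11563 := d10_1 D12314 F37765 (iv F35719) F35722 (iv F37438)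
theorem F40728 : act 2 n12314 = n11602 := d15_1 D12314 (iv F39718) F39716
theorem F40729 : act 3 n12314 = n11484 := d19_1 D12314 (iv D11484) (iv F37439)
theorem F40730 : act 6 n12314 = n11522 := d25_2 D11483 D12314 (iv D11522) (iv D10288) (iv F32877)
def n12315 : Q := act 7 n11483
theorem D12315 : act 7 n11483 = n12315 := rfl
theorem F40731 : act 0 n12315 = n12053 := d6_1 D12315 F39555 (iv F37437)
theorem F40732 : act 1 n12315 = n11749 := d12_1 D12315 F38436 (iv F37438)
theorem F40733 : act 3 n12315 = n11486 := d21_1 D12315 (iv D11486) F32886 (iv F32882) (iv F37439)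
def n12316 : Q := act 7 n11485
theorem D12316 : act 7 n11485 = n12316 := rfl
theorem F40734 : act 0 n12316 = n12052 := d6_1 D12316 (iv D12052) (iv F37446)
theorem F40735 : act 2 n12316 = n12067 := d17_1 D12316 (iv D12067) (iv F37447)
theorem F40736 : act 4 n12316 = n11739 := d24_1 D12316 (iv D11739) (iv F37449)
theorem F40737 : act 5 n12316 = n11486 := d26_1 D12316 (iv D11486) D11485
def n12317 : Q := act 5 n11491
theorem D12317 : act 5 n11491 = n12317 := rfl
theorem F40738 : act 0 n12317 = n12063 := d4_1 D12317 F39585 (iv F37477)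
theorem F40739 : act 2 n12317 = n11973 := d15_1 D12317 F39259 (iv F37479)
theorem F40740 : act 4 n12317 = n11492 := d22_1 D12317 (iv D11492) (iv F37480)
theorem F40741 : act 6 n12317 = n11541 := d25_2 D11491 D12317 (iv D11541) (iv D10302) (iv F32912)
theorem F40742 : act 7 n12317 = n11746 := d26_2 F37481 D12317 F38425
def n12318 : Q := act 1 n11492
theorem D12318 : act 1 n11492 = n12318 := rfl
theorem F40743 : act 0 n12318 = n11526 := d0_1 D12318 F37644 (iv F37790) F37791 (iv F37482)
theorem F40744 : act 3 n12318 = n11493 := d8_2 (iv F37484) D12318 (iv D11493)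
theorem F40745 : act 5 n12318 = n11693 := d10_2 D11492 D12318 F38223 F34143 (iv F32914)
theorem F40746 : act 6 n12318 = n11543 := d11_2 (iv F37485) D12318 (iv D11543)
theorem F40747 : act 7 n12318 = n11745 := d12_2 (iv F37486) D12318 F38421
def n12319 : Q := act 2 n11500
theorem D12319 : act 2 n11500 = n12319 := rfl
theorem F40748 : act 0 n12319 = n11770 := d1_1 D12319 F38513 (iv F37519)
theorem F40749 : act 1 n12319 = n12316 := d7_1 D12319 F40735 F39596 F37507 D11500
theorem F40750 : act 5 n12319 = n11512 := d15_2 (iv F37521) D12319 (iv D11512)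
theorem F40751 : act 6 n12319 = n11751 := d16_2 (iv F37522) D12319 F38444
theorem F40752 : act 7 n12319 = n11514 := d17_2 (iv F37523) D12319 (iv D11514)
def n12320 : Q := act 4 n11510
theorem D12320 : act 4 n11510 = n12320 := rfl
theorem F40753 : act 3 n12320 = n11940 := d18_1 D12320 (iv D11940) (iv D10830) (iv F33075) D11510
theorem F40754 : act 5 n12320 = n11511 := d22_2 (iv F37572) D12320 (iv D11511)
def n12321 : Q := act 2 n11517
theorem D12321 : act 2 n11517 = n12321 := rfl
theorem F40755 : act 0 n12321 = n12311 := d1_1 D12321 F40714 F38208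
theorem F40756 : act 1 n12321 = n11681 := d7_1 D12321 F38172 (iv F37608) (iv D11518) (iv F37601)
theorem F40757 : act 3 n12321 = n12126 := d13_2 D11517 D12321 F39862 (iv D11478) (iv F33159)
theorem F40758 : act 4 n12321 = n11999 := d14_2 (iv F37602) D12321 F39339
theorem F40759 : act 5 n12321 = n12321 := d15_2 F37603 D12321 (iv D12321)
theorem F40760 : act 6 n12321 = n11684 := d16_2 (iv F37604) D12321 F38182
theorem F40761 : act 7 n12321 = n12127 := d17_2 F39941 D12321 (iv F39942)
def n12322 : Q := act 3 n11520
theorem D12322 : act 3 n11520 = n12322 := rfl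
theorem F40762 : act 0 n12322 = n12183 := d2_1 D12322 (iv F40658) F40656
theorem F40763 : act 1 n12322 = n11719 := d8_1 D12322 F38318 (iv F37615)
theorem F40764 : act 2 n12322 = n11538 := d13_1 D12322 (iv D11538) F33220 (iv F33191) (iv F37616)
theorem F40765 : act 4 n12322 = n11566 := d18_2 D11520 D12322 (iv D11566) (iv D10325) (iv F33188)
theorem F40766 : act 6 n12322 = n11622 := d20_2 (iv F37617) D12322 (iv D11622)
def n12323 : Q := act 5 n11521
theorem D12323 : act 5 n11521 = n12323 := rfl
theorem F40767 : act 0 n12323 = n11667 := d4_1 D12323 F38120 (iv F37619)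
theorem F40768 : act 2 n12323 = n11601 := d15_1 D12323 F37894 (iv F37620)
theorem F40769 : act 3 n12323 = n11541 := d19_1 D12323 (iv D11541) (iv F37621)
theorem F40770 : act 4 n12323 = n11522 := d22_1 D12323 (iv D11522) (iv F37622)
theorem F40771 : act 7 n12323 = n11597 := d26_2 (iv F37623) D12323 F37883
def n12324 : Q := act 1 n11522
theorem D12324 : act 1 n11522 = n12324 := rfl
theorem F40772 : act 0 n12324 = n11552 := d0_1 D12324 F37722 (iv F37829) F37830 (iv F37624)
theorem F40773 : act 2 n12324 = n11643 := d7_2 (iv F37625) D12324 F38031 (iv F37769) F37768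
theorem F40774 : act 3 n12324 = n11523 := d8_2 (iv F37626) D12324 (iv D11523)
theorem F40775 : act 6 n12324 = n11563 := d11_2 F40730 D12324 (iv F40727)
theorem F40776 : act 7 n12324 = n11593 := d12_2 (iv F37627) D12324 F37875
def n12325 : Q := act 3 n11525
theorem D12325 : act 3 n11525 = n12325 := rfl
theorem F40777 : act 0 n12325 = n11543 := d2_1 D12325 F37682 (iv F37639)
theorem F40778 : act 1 n12325 = n11569 := d8_1 D12325 (iv D11569) (iv F37640)
theorem F40779 : act 2 n12325 = n11594 := d13_1 D12325 (iv D11594) F33398 (iv F33200) D11525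
theorem F40780 : act 6 n12325 = n11526 := d20_2 (iv F37642) D12325 (iv D11526)
theorem F40781 : act 7 n12325 = n11650 := d21_2 (iv F37643) D12325 F38050 F37707 F37703
def n12326 : Q := act 4 n11526
theorem D12326 : act 4 n11526 = n12326 := rfl
theorem F40782 : act 1 n12326 = n11572 := d9_1 D12326 (iv D11572) (iv F37644)
theorem F40783 : act 3 n12326 = n11564 := d18_1 D12326 (iv D11564) (iv D10324) (iv F33206) D11526
theorem F40784 : act 5 n12326 = n11694 := d22_2 (iv F37645) D12326 (iv D11694)
def n12327 : Q := act 7 n11526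
theorem D12327 : act 7 n11526 = n12327 := rfl
theorem F40785 : act 0 n12327 = n11745 := d6_1 D12327 (iv F40747) F40743
theorem F40786 : act 1 n12327 = n11573 := d12_1 D12327 (iv D11573) (iv F37644)
theorem F40787 : act 3 n12327 = n11648 := d21_1 D12327 F38047 (iv F35950) F35953 D11526
theorem F40788 : act 5 n12327 = n11695 := d26_1 D12327 (iv D11695) (iv F37645)
theorem F40789 : act 6 n12327 = n11647 := d27_1 D12327 F38041 D11650 (iv F40781) F40780
def n12328 : Q := act 4 n11527
theorem D12328 : act 4 n11527 = n12328 := rfl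
theorem F40790 : act 0 n12328 = n11529 := d3_1 D12328 (iv D11529) (iv F37646)
theorem F40791 : act 2 n12328 = n11528 := d14_1 D12328 (iv D11528) D11527
theorem F40792 : act 3 n12328 = n12312 := d18_1 D12328 (iv D12312) F37432 (iv F34330) (iv F37647)
theorem F40793 : act 5 n12328 = n12322 := d22_2 F37775 D12328 F40765
def n12329 : Q := act 3 n11529
theorem D12329 : act 3 n11529 = n12329 := rfl
theorem F40794 : act 0 n12329 = n12312 := d2_1 D12329 (iv F40792) F40790
theorem F40795 : act 2 n12329 = n11676 := d13_1 D12329 F38149 (iv F36185) F36186 (iv F37650)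
theorem F40796 : act 4 n12329 = n11675 := d18_2 D11529 D12329 F38146 F33718 (iv F33209)
theorem F40797 : act 5 n12329 = n12299 := d19_2 F40125 D12329 F40658
def n12330 : Q := act 5 n11530
theorem D12330 : act 5 n11530 = n12330 := rfl
theorem F40798 : act 4 n12330 = n11531 := d22_1 D12330 (iv D11531) (iv F37652)
def n12331 : Q := act 1 n11531
theorem D12331 : act 1 n11531 = n12331 := rfl
theorem F40799 : act 3 n12331 = n11532 := d8_2 (iv F37653) D12331 (iv D11532)
theorem F40800 : act 5 n12331 = n11543 := d10_2 D11531 D12331 (iv D11543) (iv D10303) (iv F33211)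
def n12332 : Q := act 3 n11534
theorem D12332 : act 3 n11534 = n12332 := rfl
theorem F40801 : act 1 n12332 = n11810 := d8_1 D12332 (iv D11810) (iv F37658)
theorem F40802 : act 5 n12332 = n11552 := d19_2 (iv F37659) D12332 (iv D11552)
theorem F40803 : act 6 n12332 = n11696 := d20_2 (iv F37660) D12332 (iv D11696)
def n12333 : Q := act 4 n11535
theorem D12333 : act 4 n11535 = n12333 := rfl
theorem F40804 : act 0 n12333 = n11536 := d3_1 D12333 (iv D11536) D11535
theorem F40805 : act 1 n12333 = n12189 := d9_1 D12333 (iv D12189) (iv F37661)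
theorem F40806 : act 6 n12333 = n12258 := d23_2 (iv F37663) D12333 (iv D12258)
theorem F40807 : act 7 n12333 = n11976 := d24_2 (iv F37664) D12333 F39274
def n12334 : Q := act 5 n11536
theorem D12334 : act 5 n11536 = n12334 := rfl
theorem F40808 : act 1 n12334 = n11977 := d10_1 D12334 (iv D11977) (iv F36962) F36964 (iv F37665)
theorem F40809 : act 4 n12334 = n11537 := d22_1 D12334 (iv D11537) D11536
theorem F40810 : act 7 n12334 = n12301 := d26_2 (iv F37666) D12334 F40667
def n12335 : Q := act 6 n11538
theorem D12335 : act 6 n11538 = n12335 := rfl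
theorem F40811 : act 0 n12335 = n12184 := d5_1 D12335 (iv D12184) (iv F37670)
theorem F40812 : act 2 n12335 = n11622 := d16_1 D12335 (iv F40766) F40764
theorem F40813 : act 3 n12335 = n11539 := d20_1 D12335 (iv D11539) D11538
theorem F40814 : act 4 n12335 = n11574 := d23_1 D12335 (iv D11574) (iv F37671)
theorem F40815 : act 7 n12335 = n11646 := d27_2 (iv F38556) D12335 F38038 (iv F34234) D11779
def n12336 : Q := act 5 n11539
theorem D12336 : act 5 n11539 = n12336 := rfl
theorem F40816 : act 0 n12336 = n12192 := d4_1 D12336 (iv D12192) (iv F37673)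
theorem F40817 : act 2 n12336 = n11541 := d15_1 D12336 (iv D11541) (iv F37674)
theorem F40818 : act 4 n12336 = n11540 := d22_1 D12336 (iv D11540) (iv F37675)
theorem F40819 : act 6 n12336 = n11973 := d25_2 D11539 D12336 F39259 (iv F36965) F36964
def n12337 : Q := act 1 n11541
theorem D12337 : act 1 n11541 = n12337 := rfl
theorem F40820 : act 4 n12337 = n11543 := d9_2 (iv F37680) D12337 (iv D11543)
def n12338 : Q := act 7 n11541
theorem D12338 : act 7 n11541 = n12338 := rfl
theorem F40821 : act 4 n12338 = n11544 := d24_1 D12338 (iv D11544) (iv F37680)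
theorem F40822 : act 5 n12338 = n11542 := d26_1 D12338 (iv D11542) D11541
def n12339 : Q := act 3 n11542
theorem D12339 : act 3 n11542 = n12339 := rfl
theorem F40823 : act 0 n12339 = n11660 := d2_1 D12339 (iv F38997) F38995
theorem F40824 : act 1 n12339 = n12221 := d8_1 D12339 F40304 F40050
theorem F40825 : act 2 n12339 = n11628 := d13_1 D12339 F37990 (iv F38004) (iv F40523) F40522
theorem F40826 : act 4 n12339 = n11547 := d18_2 (iv F37681) D12339 (iv D11547) F33237 (iv F33227)
theorem F40827 : act 7 n12339 = n11620 := d21_2 D11542 D12339 F37961 (iv F37623) F37621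
def n12340 : Q := act 2 n11543
theorem D12340 : act 2 n11543 = n12340 := rfl
theorem F40828 : act 0 n12340 = n11594 := d1_1 D12340 (iv F40779) F40777
theorem F40829 : act 3 n12340 = n11592 := d13_2 (iv F37682) D12340 F37874 (iv F37634) (iv F37638)
theorem F40830 : act 7 n11610 = n12340 := d21_0 F40829 (iv D11592) (iv F37735) (iv F37740) (iv F37923)
def n12341 : Q := act 7 n11543
theorem D12341 : act 7 n11543 = n12341 := rfl
theorem F40831 : act 0 n12341 = n11650 := d6_1 D12341 (iv F40781) F40777
theorem F40832 : act 1 n12341 = n11544 := d12_1 D12341 (iv D11544) D11543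
theorem F40833 : act 2 n12341 = n11610 := d17_1 D12341 F40830 (iv D12340)
theorem F40834 : act 3 n12341 = n11550 := d21_1 D12341 (iv D11550) F33238 (iv F33228) (iv F37682)
theorem F40835 : act 6 n12341 = n11608 := d27_1 D12341 (iv F40294) F40295 (iv F40747) F40746
def n12342 : Q := act 6 n11544
theorem D12342 : act 6 n11544 = n12342 := rfl
theorem F40836 : act 0 n12342 = n12066 := d5_1 D12342 F39594 F38991
theorem F40837 : act 1 n12342 = n11608 := d11_1 D12342 (iv F40835) F40832
theorem F40838 : act 2 n12342 = n11966 := d16_1 D12342 (iv F40518) F40516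
theorem F40839 : act 3 n12342 = n11551 := d20_1 D12342 (iv D11551) (iv F37683)
theorem F40840 : act 7 n12342 = n11747 := d27_2 D11544 D12342 (iv D11747) (iv F37486) F37485
def n12343 : Q := act 3 n11546
theorem D12343 : act 3 n11546 = n12343 := rfl
theorem F40841 : act 0 n12343 = n11658 := d2_1 D12343 (iv D11658) (iv F37692)
theorem F40842 : act 1 n12343 = n11963 := d8_1 D12343 (iv D11963) (iv F37693)
theorem F40843 : act 2 n12343 = n11626 := d13_1 D12343 (iv D11626) F33516 (iv F36248) (iv F37694)
theorem F40844 : act 5 n12343 = n11547 := d19_2 (iv F37696) D12343 (iv D11547)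
theorem F40845 : act 6 n12343 = n11970 := d20_2 (iv F37697) D12343 (iv D11970)
theorem F40846 : act 7 n12343 = n11596 := d21_2 D11546 D12343 (iv D11596) F33404 (iv F33231)
def n12344 : Q := act 3 n11549
theorem D12344 : act 3 n11549 = n12344 := rfl
theorem F40847 : act 0 n12344 = n11643 := d2_1 D12344 F38032 (iv F37708)
theorem F40848 : act 1 n12344 = n11623 := d8_1 D12344 (iv D11623) (iv F37709)
theorem F40849 : act 2 n12344 = n11552 := d13_1 D12344 (iv D11552) (iv D10311) (iv F33238) D11549
theorem F40850 : act 6 n12344 = n11562 := d20_2 (iv F37711) D12344 (iv D11562)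
theorem F40851 : act 7 n12344 = n11632 := d21_2 F37712 D12344 F38003 F33537 (iv F33498)
def n12345 : Q := act 4 n11552
theorem D12345 : act 4 n11552 = n12345 := rfl
theorem F40852 : act 1 n12345 = n11581 := d9_1 D12345 (iv D11581) (iv F37722)
theorem F40853 : act 6 n12345 = n11564 := d23_2 (iv F37723) D12345 (iv D11564)
def n12346 : Q := act 7 n11552
theorem D12346 : act 7 n11552 = n12346 := rfl
theorem F40854 : act 0 n12346 = n11593 := d6_1 D12346 (iv F40776) F40772
theorem F40855 : act 1 n12346 = n11582 := d12_1 D12346 (iv D11582) (iv F37722)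
theorem F40856 : act 2 n12346 = n11632 := d17_1 D12346 (iv F40851) F40849
theorem F40857 : act 3 n12346 = n11591 := d21_1 D12346 (iv F37872) (iv F37634) F37637 D11552
theorem F40858 : act 6 n12346 = n11630 := d27_1 D12346 F37999 (iv F37771) (iv D11565) (iv F37723)
def n12347 : Q := act 3 n11554
theorem D12347 : act 3 n11554 = n12347 := rfl
theorem F40859 : act 0 n12347 = n12172 := d2_1 D12347 (iv D12172) (iv F37728)
theorem F40860 : act 2 n12347 = n12156 := d13_1 D12347 (iv D12156) (iv D11168) (iv F33262) (iv F37729)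
theorem F40861 : act 5 n12347 = n11555 := d19_2 (iv F37731) D12347 (iv D11555)
theorem F40862 : act 7 n12347 = n12175 := d21_2 D11554 D12347 F40093 F36295 (iv F33246)
def n12348 : Q := act 4 n11555
theorem D12348 : act 4 n11555 = n12348 := rfl
theorem F40863 : act 0 n12348 = n12021 := d3_1 D12348 (iv F40398) F40395
theorem F40864 : act 2 n12348 = n12261 := d14_1 D12348 (iv D12261) (iv F37732)
theorem F40865 : act 3 n12348 = n11561 := d18_1 D12348 (iv D11561) (iv D10316) (iv F33250) D11555
theorem F40866 : act 7 n12348 = n12283 := d24_2 (iv F37733) D12348 F40591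
def n12349 : Q := act 3 n11557
theorem D12349 : act 3 n11557 = n12349 := rfl
theorem F40867 : act 0 n12349 = n11632 := d2_1 D12349 F38003 (iv F37741)
theorem F40868 : act 1 n12349 = n11562 := d8_1 D12349 (iv D11562) (iv F37742)
theorem F40869 : act 2 n12349 = n11593 := d13_1 D12349 (iv D11593) (iv D10360) (iv F33251) D11557
theorem F40870 : act 6 n12349 = n11623 := d20_2 (iv F37743) D12349 (iv D11623)
theorem F40871 : act 7 n12349 = n11643 := d21_2 F37744 D12349 F38032 F33571 (iv F33512)
def n12350 : Q := act 3 n11558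
theorem D12350 : act 3 n11558 = n12350 := rfl
theorem F40872 : act 0 n12350 = n11610 := d2_1 D12350 F37923 (iv F37745)
theorem F40873 : act 1 n12350 = n11559 := d8_1 D12350 (iv D11559) (iv F37746)
theorem F40874 : act 2 n12350 = n11650 := d13_1 D12350 F38050 F33583 (iv F33512) (iv F37747)
theorem F40875 : act 6 n12350 = n11603 := d20_2 (iv F37748) D12350 (iv D11603)
theorem F40876 : act 7 n12350 = n11594 := d21_2 D11558 D12350 (iv D11594) (iv D10361) (iv F33251)
def n12351 : Q := act 4 n11559
theorem D12351 : act 4 n11559 = n12351 := rfl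
theorem F40877 : act 0 n12351 = n12017 := d3_1 D12351 (iv D12017) (iv F37749)
theorem F40878 : act 2 n12351 = n11727 := d14_1 D12351 (iv D11727) (iv F37750)
theorem F40879 : act 5 n12351 = n11561 := d22_2 (iv F37751) D12351 (iv D11561)
theorem F40880 : act 7 n12351 = n11595 := d24_2 (iv F37752) D12351 (iv D11595)
def n12352 : Q := act 6 n11559
theorem D12352 : act 6 n11559 = n12352 := rfl
theorem F40881 : act 0 n12352 = n12018 := d5_1 D12352 (iv D12018) (iv F37749)
theorem F40882 : act 1 n12352 = n11603 := d11_1 D12352 (iv F40875) F40873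
theorem F40883 : act 2 n12352 = n11728 := d16_1 D12352 (iv D11728) (iv F37750)
theorem F40884 : act 3 n12352 = n11560 := d20_1 D12352 (iv D11560) D11559
theorem F40885 : act 7 n12352 = n11967 := d27_2 (iv F37752) D12352 F39243 F38809 F36844
def n12353 : Q := act 4 n11562
theorem D12353 : act 4 n11562 = n12353 := rfl
theorem F40886 : act 0 n12353 = n11642 := d3_1 D12353 (iv D11642) (iv F37759)
theorem F40887 : act 2 n12353 = n11564 := d14_1 D12353 (iv D11564) (iv F37760)
theorem F40888 : act 5 n12353 = n11698 := d22_2 (iv F37761) D12353 (iv D11698)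
theorem F40889 : act 7 n12353 = n11645 := d24_2 (iv F37762) D12353 F38036
def n12354 : Q := act 4 n11563
theorem D12354 : act 4 n11563 = n12354 := rfl
theorem F40890 : act 0 n12354 = n11564 := d3_1 D12354 (iv D11564) (iv F37763)
theorem F40891 : act 2 n12354 = n11642 := d14_1 D12354 (iv D11642) (iv F37764)
theorem F40892 : act 5 n12354 = n11699 := d22_2 (iv F37765) D12354 (iv D11699)
def n12355 : Q := act 7 n11563
theorem D12355 : act 7 n11563 = n12355 := rfl
theorem F40893 : act 0 n12355 = n11565 := d6_1 D12355 (iv D11565) (iv F37763)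
theorem F40894 : act 2 n12355 = n11629 := d17_1 D12355 F37997 (iv F37764)
theorem F40895 : act 3 n12355 = n12319 := d21_1 D12355 F40752 F37587 F35946 D11563
theorem F40896 : act 5 n12355 = n11700 := d26_1 D12355 (iv D11700) (iv F37765)
theorem F40897 : act 6 n12355 = n11638 := d30_6 F37310 F32667 F32666 D10323 D11563 D12355 F38020 (iv F37135) (iv D11404) (iv D10019) (iv D8439) (iv D6828) (iv D5255) F11972 F8405 F5789 (iv F7935) D3678 (iv F15497) (iv F20528) (iv F24083) D9208 F29402 (iv F32849) (iv F37411) (iv F39364) F39365 (iv D11569) (iv F37311)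
def n12356 : Q := act 7 n11564
theorem D12356 : act 7 n11564 = n12356 := rfl
theorem F40898 : act 1 n12356 = n11601 := d12_1 D12356 (iv D11601) (iv F37766)
theorem F40899 : act 2 n12356 = n11645 := d17_1 D12356 (iv F40889) F40887
theorem F40900 : act 4 n12356 = n11565 := d24_1 D12356 (iv D11565) D11564
theorem F40901 : act 5 n12356 = n11701 := d26_1 D12356 (iv D11701) (iv F37767)
theorem F40902 : act 6 n11644 = n12356 := d25_0 F40901 (iv F38250) F34044 (iv F33577) (iv F38034)
def n12357 : Q := act 4 n11569
theorem D12357 : act 4 n11569 = n12357 := rfl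
theorem F40903 : act 3 n12357 = n11581 := d18_1 D12357 (iv D11581) (iv D10352) (iv F33299) D11569
theorem F40904 : act 5 n12357 = n11821 := d22_2 (iv F37785) D12357 (iv D11821)
theorem F40905 : act 6 n12357 = n11572 := d23_2 (iv F37786) D12357 (iv D11572)
def n12358 : Q := act 4 n11570
theorem D12358 : act 4 n11570 = n12358 := rfl
theorem F40906 : act 2 n12358 = n11572 := d14_1 D12358 (iv D11572) (iv F37787)
theorem F40907 : act 3 n12358 = n12307 := d18_1 D12358 (iv D12307) (iv D11466) (iv F33307) D11570
theorem F40908 : act 5 n12358 = n11614 := d22_2 (iv F37788) D12358 (iv D11614)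
theorem F40909 : act 7 n12358 = n11641 := d24_2 (iv F37789) D12358 (iv D11641)
def n12359 : Q := act 4 n11571
theorem D12359 : act 4 n11571 = n12359 := rfl
theorem F40910 : act 0 n12359 = n11572 := d3_1 D12359 (iv D11572) (iv F37790)
theorem F40911 : act 1 n12359 = n12063 := d9_1 D12359 (iv D12063) (iv F37791)
theorem F40912 : act 3 n12359 = n11599 := d18_1 D12359 (iv D11599) (iv D10367) (iv F33315) D11571
theorem F40913 : act 5 n12359 = n11615 := d22_2 (iv F37792) D12359 (iv D11615)
theorem F40914 : act 7 n12359 = n12064 := d24_2 (iv F37793) D12359 (iv D12064)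
def n12360 : Q := act 7 n11572
theorem D12360 : act 7 n11572 = n12360 := rfl
theorem F40915 : act 0 n12360 = n12064 := d6_1 D12360 (iv F40914) F40910
theorem F40916 : act 2 n12360 = n11641 := d17_1 D12360 (iv F40909) F40906
theorem F40917 : act 4 n12360 = n11573 := d24_1 D12360 (iv D11573) D11572
theorem F40918 : act 5 n12360 = n11616 := d26_1 D12360 (iv D11616) (iv F37795)
theorem F40919 : act 6 n11969 = n12360 := d25_0 F40918 F37947 F34041 (iv F35051) (iv F39247)
def n12361 : Q := act 5 n11574
theorem D12361 : act 5 n11574 = n12361 := rfl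
theorem F40920 : act 0 n12361 = n12185 := d4_1 D12361 (iv D12185) (iv F37801)
theorem F40921 : act 1 n12361 = n12161 := d10_1 D12361 F40043 (iv F39000) (iv F39702) F39699
theorem F40922 : act 3 n12361 = n11575 := d19_1 D12361 (iv D11575) (iv F37802)
theorem F40923 : act 6 n12361 = n12176 := d25_2 D11574 D12361 F40096 F36319 (iv F33331)
def n12362 : Q := act 3 n11576
theorem D12362 : act 3 n11576 = n12362 := rfl
theorem F40924 : act 0 n12362 = n11630 := d2_1 D12362 (iv F38099) F38097
theorem F40925 : act 1 n12362 = n11579 := d8_1 D12362 (iv D11579) (iv F37809)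
theorem F40926 : act 2 n12362 = n11623 := d13_1 D12362 (iv D11623) (iv F36228) F36229 D11576
theorem F40927 : act 5 n12362 = n11624 := d19_2 (iv F37811) D12362 F37972
theorem F40928 : act 6 n12362 = n11593 := d20_2 (iv F37812) D12362 (iv D11593)
theorem F40929 : act 7 n12362 = n11638 := d21_2 (iv F37813) D12362 (iv F38445) F38446 (iv F36442)
def n12363 : Q := act 3 n11577
theorem D12363 : act 3 n11577 = n12363 := rfl
theorem F40930 : act 0 n12363 = n11666 := d2_1 D12363 F38118 (iv F37814)
theorem F40931 : act 1 n12363 = n12194 := d8_1 D12363 F40167 (iv F37815)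
theorem F40932 : act 2 n12363 = n12001 := d13_1 D12363 (iv D12001) F35149 (iv F33357) D11577
theorem F40933 : act 5 n12363 = n11755 := d19_2 (iv F37817) D12363 F38465
theorem F40934 : act 6 n12363 = n11596 := d20_2 (iv F37818) D12363 (iv D11596)
theorem F40935 : act 7 n12363 = n12006 := d21_2 (iv F37819) D12363 F39378 F36438 (iv F36450)
def n12364 : Q := act 4 n11579
theorem D12364 : act 4 n11579 = n12364 := rfl
theorem F40936 : act 0 n12364 = n11673 := d3_1 D12364 F38136 (iv F37825)
theorem F40937 : act 2 n12364 = n11581 := d14_1 D12364 (iv D11581) (iv F37826)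
theorem F40938 : act 5 n12364 = n11763 := d22_2 (iv F37827) D12364 F38490
theorem F40939 : act 6 n12364 = n11597 := d23_2 (iv F37828) D12364 (iv D11597)
def n12365 : Q := act 7 n11579
theorem D12365 : act 7 n11579 = n12365 := rfl
theorem F40940 : act 0 n12365 = n11669 := d6_1 D12365 F38126 (iv F37825)
theorem F40941 : act 1 n12365 = n11638 := d12_1 D12365 (iv F40929) F40925
theorem F40942 : act 2 n12365 = n11582 := d17_1 D12365 (iv D11582) (iv F37826)
theorem F40943 : act 5 n12365 = n11764 := d26_1 D12365 (iv D11764) (iv F37827)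
def n12366 : Q := act 4 n11580
theorem D12366 : act 4 n11580 = n12366 := rfl
theorem F40944 : act 0 n12366 = n11581 := d3_1 D12366 (iv D11581) (iv F37829)
theorem F40945 : act 1 n12366 = n11667 := d9_1 D12366 (iv D11667) (iv F37830)
theorem F40946 : act 2 n12366 = n11673 := d14_1 D12366 F38136 (iv F37831)
theorem F40947 : act 5 n12366 = n11796 := d22_2 (iv F37832) D12366 F38610
theorem F40948 : act 6 n12366 = n11599 := d23_2 (iv F37833) D12366 (iv D11599)
theorem F40949 : act 7 n12366 = n11670 := d24_2 (iv F37834) D12366 (iv D11670)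
def n12367 : Q := act 7 n11581
theorem D12367 : act 7 n11581 = n12367 := rfl
theorem F40950 : act 0 n12367 = n11670 := d6_1 D12367 (iv F40949) F40944
theorem F40951 : act 4 n12367 = n11582 := d24_1 D12367 (iv D11582) D11581
theorem F40952 : act 5 n12367 = n11822 := d26_1 D12367 (iv D11822) (iv F37835)
def n12368 : Q := act 6 n11582
theorem D12368 : act 6 n11582 = n12368 := rfl
theorem F40953 : act 0 n12368 = n11671 := d5_1 D12368 (iv D11671) (iv F37837)
theorem F40954 : act 1 n12368 = n11630 := d11_1 D12368 (iv F40858) F40855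
theorem F40955 : act 3 n12368 = n11668 := d20_1 D12368 (iv D11668) (iv F37838)
theorem F40956 : act 7 n12368 = n11602 := d27_2 D11582 D12368 (iv D11602) (iv D10369) (iv F33380)
def n12369 : Q := act 3 n11583
theorem D12369 : act 3 n11583 = n12369 := rfl
theorem F40957 : act 1 n12369 = n11584 := d8_1 D12369 (iv D11584) (iv F37840)
theorem F40958 : act 5 n12369 = n11594 := d19_2 (iv F37843) D12369 (iv D11594)
theorem F40959 : act 6 n12369 = n12347 := d20_2 (iv F37844) D12369 (iv D12347)
def n12370 : Q := act 4 n11584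
theorem D12370 : act 4 n11584 = n12370 := rfl
theorem F40960 : act 5 n12370 = n11586 := d22_2 (iv F37845) D12370 (iv D11586)
def n12371 : Q := act 6 n11584
theorem D12371 : act 6 n11584 = n12371 := rfl
theorem F40961 : act 1 n12371 = n12347 := d11_1 D12371 (iv F40959) F40957
theorem F40962 : act 3 n12371 = n11585 := d20_1 D12371 (iv D11585) D11584
theorem F40963 : act 5 n12371 = n11610 := d25_1 D12371 (iv D11610) F33445 (iv F33385) (iv F37845)
def n12372 : Q := act 3 n11587
theorem D12372 : act 3 n11587 = n12372 := rfl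
theorem F40964 : act 0 n12372 = n11966 := d2_1 D12372 (iv F40265) F40260
theorem F40965 : act 1 n12372 = n11596 := d8_1 D12372 (iv D11596) (iv F37853)
theorem F40966 : act 2 n12372 = n12066 := d13_1 D12372 F39592 (iv D11896) F34838 D11587
theorem F40967 : act 5 n12372 = n12342 := d19_2 (iv F37855) D12372 F40839
theorem F40968 : act 6 n12372 = n12194 := d20_2 (iv F37856) D12372 F40167
theorem F40969 : act 7 n12372 = n11963 := d21_2 F37857 D12372 (iv D11963) F37691 F37687
def n12373 : Q := act 3 n11588
theorem D12373 : act 3 n11588 = n12373 := rfl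
theorem F40970 : act 0 n12373 = n11967 := d2_1 D12373 (iv F40273) F40267
theorem F40971 : act 1 n12373 = n11589 := d8_1 D12373 (iv D11589) (iv F37858)
theorem F40972 : act 2 n12373 = n11964 := d13_1 D12373 (iv D11964) (iv F37686) F37687 (iv F37859)
theorem F40973 : act 5 n12373 = n12352 := d19_2 (iv F37861) D12373 F40884
theorem F40974 : act 6 n12373 = n12195 := d20_2 (iv F37862) D12373 (iv D12195)
theorem F40975 : act 7 n12373 = n12018 := d21_2 D11588 D12373 F39428 (iv D11897) F34838
def n12374 : Q := act 4 n11589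
theorem D12374 : act 4 n11589 = n12374 := rfl
theorem F40976 : act 0 n12374 = n12304 := d3_1 D12374 (iv D12304) (iv F37863)
theorem F40977 : act 2 n12374 = n12320 := d14_1 D12374 (iv D12320) (iv F37864)
theorem F40978 : act 3 n12374 = n11595 := d18_1 D12374 (iv D11595) (iv D10362) (iv F33390) D11589
theorem F40979 : act 5 n12374 = n11590 := d22_2 (iv F37865) D12374 (iv D11590)
def n12375 : Q := act 4 n11593
theorem D12375 : act 4 n11593 = n12375 := rfl
theorem F40980 : act 1 n12375 = n11597 := d9_1 D12375 (iv D11597) (iv F37875)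
def n12376 : Q := act 4 n11594
theorem D12376 : act 4 n11594 = n12376 := rfl
theorem F40981 : act 1 n12376 = n11595 := d9_1 D12376 (iv D11595) (iv F37876)
def n12377 : Q := act 4 n11596
theorem D12377 : act 4 n11596 = n12377 := rfl
theorem F40982 : act 0 n12377 = n11665 := d3_1 D12377 (iv D11665) (iv F37878)
theorem F40983 : act 2 n12377 = n12307 := d14_1 D12377 (iv D12307) (iv F37879)
theorem F40984 : act 3 n12377 = n11597 := d18_1 D12377 (iv D11597) (iv D10365) (iv F33402) D11596
theorem F40985 : act 5 n12377 = n11620 := d22_2 (iv F37880) D12377 (iv D11620)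
def n12378 : Q := act 2 n11598
theorem D12378 : act 2 n11598 = n12378 := rfl
theorem F40986 : act 0 n12378 = n11602 := d1_1 D12378 (iv F40728) F40726
theorem F40987 : act 1 n12378 = n11669 := d7_1 D12378 (iv D11669) F33657 (iv F33413) (iv F37884)
theorem F40988 : act 3 n12378 = n12212 := d13_2 D11598 D12378 F40256 F38168 F33727
theorem F40989 : act 5 n12378 = n12061 := d15_2 (iv F37885) D12378 (iv D12061)
theorem F40990 : act 6 n12378 = n11600 := d16_2 (iv F37886) D12378 F37891
theorem F40991 : act 7 n11671 = n12378 := d27_0 F40990 (iv D11600) (iv F37833) F37834 D11671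
def n12379 : Q := act 4 n11598
theorem D12379 : act 4 n11598 = n12379 := rfl
theorem F40992 : act 1 n12379 = n11599 := d9_1 D12379 (iv D11599) (iv F37884)
theorem F40993 : act 3 n12379 = n12063 := d18_1 D12379 (iv D12063) (iv D10972) (iv F33408) D11598
theorem F40994 : act 5 n12379 = n12062 := d22_2 (iv F37885) D12379 (iv D12062)
theorem F40995 : act 6 n12379 = n11667 := d23_2 (iv F37886) D12379 (iv D11667)
def n12380 : Q := act 7 n11598
theorem D12380 : act 7 n11598 = n12380 := rfl
theorem F40996 : act 1 n12380 = n11600 := d12_1 D12380 (iv D11600) (iv F37884)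
theorem F40997 : act 2 n12380 = n11671 := d17_1 D12380 F40991 (iv D12378)
theorem F40998 : act 3 n12380 = n12052 := d21_1 D12380 (iv D12052) F35378 (iv F33411) D11598
theorem F40999 : act 5 n12380 = n12053 := d26_1 D12380 F39555 (iv F37885)
theorem F41000 : act 6 n12380 = n11669 := d27_1 D12380 F38126 (iv D10455) (iv F33649) (iv F37886)
def n12381 : Q := act 7 n11599
theorem D12381 : act 7 n11599 = n12381 := rfl
theorem F41001 : act 0 n12381 = n11601 := d6_1 D12381 (iv D11601) (iv F37887)
theorem F41002 : act 2 n12381 = n11667 := d17_1 D12381 F38121 (iv F37888)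
theorem F41003 : act 4 n12381 = n11600 := d24_1 D12381 (iv D11600) D11599
theorem F41004 : act 5 n12381 = n11621 := d26_1 D12381 (iv D11621) (iv F37889)
def n12382 : Q := act 3 n11601
theorem D12382 : act 3 n11601 = n12382 := rfl
theorem F41005 : act 5 n12382 = n11622 := d19_2 (iv F37894) D12382 (iv D11622)
def n12383 : Q := act 6 n11601
theorem D12383 : act 6 n11601 = n12383 := rfl
theorem F41006 : act 1 n12383 = n11644 := d11_1 D12383 F40902 F40898
theorem F41007 : act 4 n12383 = n11602 := d23_1 D12383 (iv D11602) (iv F37893)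
def n12384 : Q := act 4 n11603
theorem D12384 : act 4 n11603 = n12384 := rfl
theorem F41008 : act 0 n12384 = n11609 := d3_1 D12384 (iv D11609) (iv F37896)
theorem F41009 : act 2 n12384 = n11649 := d14_1 D12384 (iv D11649) (iv F37897)
theorem F41010 : act 3 n12384 = n12370 := d18_1 D12384 (iv D12370) (iv D11584) (iv F33427) D11603
theorem F41011 : act 5 n12384 = n11604 := d22_2 (iv F37898) D12384 (iv D11604)
def n12385 : Q := act 4 n11605
theorem D12385 : act 4 n11605 = n12385 := rfl
theorem F41012 : act 0 n12385 = n12370 := d3_1 D12385 (iv D12370) (iv F37903)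
theorem F41013 : act 2 n12385 = n12059 := d14_1 D12385 (iv D12059) (iv F37904)
theorem F41014 : act 3 n12385 = n11609 := d18_1 D12385 (iv D11609) (iv D10377) (iv F33434) D11605
theorem F41015 : act 5 n12385 = n11607 := d22_2 (iv F37905) D12385 (iv D11607)
theorem F41016 : act 7 n12385 = n12174 := d24_2 (iv F37906) D12385 (iv D12174)
def n12386 : Q := act 6 n11605
theorem D12386 : act 6 n11605 = n12386 := rfl
theorem F41017 : act 0 n12386 = n12371 := d5_1 D12386 (iv D12371) (iv F37903)
theorem F41018 : act 1 n12386 = n12169 := d11_1 D12386 (iv F40343) F40341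
theorem F41019 : act 2 n12386 = n12060 := d16_1 D12386 (iv D12060) (iv F37904)
theorem F41020 : act 3 n12386 = n11606 := d20_1 D12386 (iv D11606) D11605
theorem F41021 : act 5 n12386 = n12350 := d25_1 D12386 F40875 F37898 (iv F33439) (iv F37905)
theorem F41022 : act 7 n12386 = n12369 := d27_2 (iv F37906) D12386 F40959 F40862 (iv D12175)
def n12387 : Q := act 4 n11608
theorem D12387 : act 4 n11608 = n12387 := rfl
theorem F41023 : act 0 n12387 = n11649 := d3_1 D12387 (iv D11649) (iv F37919)
theorem F41024 : act 2 n12387 = n11609 := d14_1 D12387 (iv D11609) D11608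
theorem F41025 : act 3 n12387 = n11971 := d18_1 D12387 (iv D11971) (iv D10862) (iv F33507) (iv F37920)
theorem F41026 : act 5 n12387 = n11611 := d22_2 (iv F37921) D12387 (iv D11611)
def n12388 : Q := act 6 n11609
theorem D12388 : act 6 n11609 = n12388 := rfl
theorem F41027 : act 4 n12388 = n11610 := d23_1 D12388 (iv D11610) D11609
def n12389 : Q := act 3 n11616
theorem D12389 : act 3 n11616 = n12389 := rfl
theorem F41028 : act 0 n12389 = n12078 := d2_1 D12389 F39648 (iv F37943)
theorem F41029 : act 1 n12389 = n11713 := d8_1 D12389 (iv D11713) (iv F37944)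
theorem F41030 : act 2 n12389 = n11646 := d13_1 D12389 (iv D11646) F33576 (iv F33565) (iv F37945)
theorem F41031 : act 4 n12389 = n12076 := d18_2 (iv F37946) D12389 (iv D12076) F35488 (iv F33475)
theorem F41032 : act 6 n12389 = n11736 := d20_2 (iv F37947) D12389 (iv D11736)
theorem F41033 : act 7 n12389 = n11622 := d21_2 D11616 D12389 (iv D11622) (iv D10396) (iv F33470)
def n12390 : Q := act 4 n11617
theorem D12390 : act 4 n11617 = n12390 := rfl
theorem F41034 : act 5 n12390 = n11619 := d22_2 (iv F37948) D12390 (iv D11619)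
theorem F41035 : act 7 n12390 = n11717 := d24_2 (iv F37949) D12390 (iv D11717)
def n12391 : Q := act 6 n11617
theorem D12391 : act 6 n11617 = n12391 := rfl
theorem F41036 : act 1 n12391 = n11636 := d11_1 D12391 (iv F39240) F39238
theorem F41037 : act 3 n12391 = n11618 := d20_1 D12391 (iv D11618) D11617
theorem F41038 : act 5 n12391 = n11632 := d25_1 D12391 (iv D11632) F33534 (iv F33479) (iv F37948)
def n12392 : Q := act 3 n11621
theorem D12392 : act 3 n11621 = n12392 := rfl
theorem F41039 : act 0 n12392 = n11622 := d2_1 D12392 (iv D11622) (iv F37963)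
theorem F41040 : act 1 n12392 = n12071 := d8_1 D12392 F39614 F39279
theorem F41041 : act 2 n12392 = n12184 := d13_1 D12392 F40126 (iv F37294) F37295 (iv F37964)
theorem F41042 : act 4 n12392 = n12070 := d18_2 (iv F37965) D12392 (iv D12070) F35914 F35911
theorem F41043 : act 6 n12392 = n12183 := d20_2 F40659 D12392 (iv F40658)
theorem F41044 : act 7 n12392 = n12078 := d21_2 D11621 D12392 F39648 (iv F37942) F37940
def n12393 : Q := act 4 n11623
theorem D12393 : act 4 n11623 = n12393 := rfl
theorem F41045 : act 0 n12393 = n11631 := d3_1 D12393 (iv D11631) (iv F37967)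
theorem F41046 : act 3 n12393 = n12390 := d18_1 D12393 (iv D12390) (iv D11617) (iv F33502) D11623
theorem F41047 : act 5 n12393 = n11625 := d22_2 (iv F37968) D12393 (iv D11625)
theorem F41048 : act 7 n12393 = n11639 := d24_2 (iv F37969) D12393 (iv D11639)
def n12394 : Q := act 4 n11624
theorem D12394 : act 4 n11624 = n12394 := rfl
theorem F41049 : act 0 n12394 = n11633 := d3_1 D12394 (iv D11633) (iv F37970)
theorem F41050 : act 1 n12394 = n12285 := d9_1 D12394 (iv D12285) (iv F37971)
theorem F41051 : act 2 n12394 = n11625 := d14_1 D12394 (iv D11625) D11624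
theorem F41052 : act 3 n12394 = n12193 := d18_1 D12394 F40164 F36434 (iv F36448) (iv F37972)
theorem F41053 : act 6 n12394 = n12339 := d23_2 (iv F37973) D12394 F40826
theorem F41054 : act 7 n12394 = n11640 := d24_2 (iv F37974) D12394 (iv D11640)
def n12395 : Q := act 4 n11626
theorem D12395 : act 4 n11626 = n12395 := rfl
theorem F41055 : act 0 n12395 = n12390 := d3_1 D12395 (iv D12390) (iv F37978)
theorem F41056 : act 1 n12395 = n11961 := d9_1 D12395 (iv D11961) (iv F37979)
theorem F41057 : act 3 n12395 = n11631 := d18_1 D12395 (iv D11631) (iv D10406) (iv F33517) D11626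
theorem F41058 : act 5 n12395 = n11628 := d22_2 (iv F37980) D12395 (iv D11628)
theorem F41059 : act 7 n12395 = n12307 := d24_2 (iv F37981) D12395 (iv D12307)
def n12396 : Q := act 6 n11626
theorem D12396 : act 6 n11626 = n12396 := rfl
theorem F41060 : act 0 n12396 = n12391 := d5_1 D12396 (iv D12391) (iv F37978)
theorem F41061 : act 1 n12396 = n11634 := d11_1 D12396 F38009 (iv F37979)
theorem F41062 : act 2 n12396 = n11970 := d16_1 D12396 (iv F40845) F40843
theorem F41063 : act 3 n12396 = n11627 := d20_1 D12396 (iv D11627) D11626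
theorem F41064 : act 5 n12396 = n12349 := d25_1 D12396 F40870 F37968 (iv F33521) (iv F37980)
theorem F41065 : act 7 n12396 = n12008 := d27_2 (iv F37981) D12396 (iv D12008) (iv F39352) F39351
def n12397 : Q := act 4 n11629
theorem D12397 : act 4 n11629 = n12397 := rfl
theorem F41066 : act 0 n12397 = n11645 := d3_1 D12397 F38036 (iv F37993)
theorem F41067 : act 1 n12397 = n11631 := d9_1 D12397 (iv D11631) (iv F37994)
theorem F41068 : act 3 n12397 = n11961 := d18_1 D12397 (iv D11961) (iv D10850) (iv F33531) D11629
theorem F41069 : act 5 n12397 = n11732 := d22_2 (iv F37995) D12397 F38371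
theorem F41070 : act 6 n12397 = n11639 := d23_2 (iv F37996) D12397 (iv D11639)
theorem F41071 : act 7 n12397 = n11642 := d24_2 (iv F37997) D12397 (iv D11642)
def n12398 : Q := act 4 n11630
theorem D12398 : act 4 n11630 = n12398 := rfl
theorem F41072 : act 2 n12398 = n11631 := d14_1 D12398 (iv D11631) D11630
theorem F41073 : act 5 n12398 = n11633 := d22_2 (iv F37998) D12398 (iv D11633)
theorem F41074 : act 7 n12398 = n11644 := d24_2 (iv F37999) D12398 (iv D11644)
def n12399 : Q := act 6 n11631
theorem D12399 : act 6 n11631 = n12399 := rfl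
theorem F41075 : act 1 n12399 = n11639 := d11_1 D12399 (iv F41070) F41067
theorem F41076 : act 4 n12399 = n11632 := d23_1 D12399 (iv D11632) D11631
def n12400 : Q := act 4 n11634
theorem D12400 : act 4 n11634 = n12400 := rfl
theorem F41077 : act 0 n12400 = n11641 := d3_1 D12400 (iv D11641) (iv F38006)
theorem F41078 : act 2 n12400 = n12064 := d14_1 D12400 (iv D12064) (iv F38007)
theorem F41079 : act 3 n12400 = n11639 := d18_1 D12400 (iv D11639) (iv D10414) (iv F33543) D11634
theorem F41080 : act 5 n12400 = n11635 := d22_2 (iv F38008) D12400 (iv D11635)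
theorem F41081 : act 6 n12400 = n11961 := d23_2 (iv F38009) D12400 (iv D11961)
def n12401 : Q := act 4 n11636
theorem D12401 : act 4 n11636 = n12401 := rfl
theorem F41082 : act 0 n12401 = n11847 := d3_1 D12401 (iv D11847) (iv F38014)
theorem F41083 : act 3 n12401 = n12353 := d18_1 D12401 (iv D12353) (iv D11562) (iv F33551) D11636
theorem F41084 : act 5 n12401 = n11637 := d22_2 (iv F38015) D12401 (iv D11637)
def n12402 : Q := act 4 n11638
theorem D12402 : act 4 n11638 = n12402 := rfl
theorem F41085 : act 0 n12402 = n11644 := d3_1 D12402 (iv D11644) (iv F38019)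
theorem F41086 : act 2 n12402 = n11639 := d14_1 D12402 (iv D11639) D11638
theorem F41087 : act 5 n12402 = n11640 := d22_2 (iv F38020) D12402 (iv D11640)
def n12403 : Q := act 3 n11640
theorem D12403 : act 3 n11640 = n12403 := rfl
theorem F41088 : act 0 n12403 = n11646 := d2_1 D12403 (iv D11646) (iv F38023)
theorem F41089 : act 2 n12403 = n12078 := d13_1 D12403 F39648 (iv F38011) F38012 (iv F38024)
theorem F41090 : act 4 n12403 = n12077 := d18_2 D11640 D12403 F39644 F36373 F34119
theorem F41091 : act 6 n12403 = n11735 := d20_2 (iv F38025) D12403 (iv D11735)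
theorem F41092 : act 7 n12403 = n12184 := d21_2 F41054 D12403 F40126 D12193 (iv F41052)
def n12404 : Q := act 6 n11642
theorem D12404 : act 6 n11642 = n12404 := rfl
theorem F41093 : act 1 n12404 = n11645 := d11_1 D12404 (iv D11645) (iv F38029)
theorem F41094 : act 3 n12404 = n11968 := d20_1 D12404 F39245 F38811
theorem F41095 : act 4 n12404 = n11643 := d23_1 D12404 (iv D11643) D11642
def n12405 : Q := act 3 n11644
theorem D12405 : act 3 n11644 = n12405 := rfl
theorem F41096 : act 5 n12405 = n11646 := d19_2 (iv F38034) D12405 (iv D11646)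
def n12406 : Q := act 4 n11647
theorem D12406 : act 4 n11647 = n12406 := rfl
theorem F41097 : act 1 n12406 = n11969 := d9_1 D12406 (iv D11969) (iv F38039)
theorem F41098 : act 3 n12406 = n12177 := d18_1 D12406 (iv D12177) (iv D11201) (iv F33580) D11647
theorem F41099 : act 5 n12406 = n11651 := d22_2 (iv F38040) D12406 (iv D11651)
theorem F41100 : act 7 n12406 = n11649 := d24_2 (iv F38041) D12406 (iv D11649)
def n12407 : Q := act 6 n11649
theorem D12407 : act 6 n11649 = n12407 := rfl
theorem F41101 : act 3 n12407 = n11965 := d20_1 D12407 F39242 (iv F38048)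
theorem F41102 : act 4 n12407 = n11650 := d23_1 D12407 (iv D11650) D11649
def n12408 : Q := act 4 n11658
theorem D12408 : act 4 n11658 = n12408 := rfl
theorem F41103 : act 1 n12408 = n12320 := d9_1 D12408 (iv D12320) (iv F38084)
theorem F41104 : act 2 n12408 = n12390 := d14_1 D12408 (iv D12390) (iv F38085)
theorem F41105 : act 5 n12408 = n11660 := d22_2 (iv F38086) D12408 (iv D11660)
theorem F41106 : act 7 n12408 = n11665 := d24_2 (iv F38087) D12408 (iv D11665)
def n12409 : Q := act 6 n11658
theorem D12409 : act 6 n11658 = n12409 := rfl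
theorem F41107 : act 0 n12409 = n11970 := d5_1 D12409 (iv F40845) F40841
theorem F41108 : act 1 n12409 = n11920 := d11_1 D12409 F39064 (iv F38084)
theorem F41109 : act 2 n12409 = n12391 := d16_1 D12409 (iv D12391) (iv F38085)
theorem F41110 : act 3 n12409 = n11659 := d20_1 D12409 (iv D11659) D11658
theorem F41111 : act 5 n12409 = n12346 := d25_1 D12409 F40858 F37998 F33620 (iv F38086)
theorem F41112 : act 7 n12409 = n12332 := d27_2 (iv F38087) D12409 F40803 F38233 (iv D11666)
def n12410 : Q := act 2 n11662
theorem D12410 : act 2 n11662 = n12410 := rfl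
theorem F41113 : act 0 n12410 = n12124 := d1_1 D12410 F39853 (iv F38103)
theorem F41114 : act 1 n12410 = n12132 := d7_1 D12410 F39884 (iv F37027) F37028 D11662
theorem F41115 : act 3 n12410 = n12029 := d13_2 (iv F38104) D12410 F39471 (iv F38525) (iv D11772)
theorem F41116 : act 4 n12410 = n12133 := d14_2 F39946 D12410 (iv F39944)
theorem F41117 : act 5 n12410 = n11863 := d15_2 (iv F38105) D12410 (iv D11863)
theorem F41118 : act 6 n12410 = n12249 := d16_2 (iv F38106) D12410 F40442
theorem F41119 : act 7 n12410 = n12122 := d17_2 F38124 D12410 F39843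
def n12411 : Q := act 4 n11663
theorem D12411 : act 4 n11663 = n12411 := rfl
theorem F41120 : act 1 n12411 = n11665 := d9_1 D12411 (iv D11665) (iv F38107)
theorem F41121 : act 3 n12411 = n11670 := d18_1 D12411 (iv D11670) (iv D10452) (iv F33633) D11663
theorem F41122 : act 5 n12411 = n11864 := d22_2 (iv F38108) D12411 (iv D11864)
theorem F41123 : act 7 n12411 = n12320 := d24_2 (iv F38109) D12411 (iv D12320)
def n12412 : Q := act 6 n11665
theorem D12412 : act 6 n11665 = n12412 := rfl
theorem F41124 : act 2 n12412 = n12015 := d16_1 D12412 F39418 F38311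
theorem F41125 : act 3 n12412 = n11673 := d20_1 D12412 (iv D11673) (iv F38115)
theorem F41126 : act 4 n12412 = n11666 := d23_1 D12412 (iv D11666) D11665
theorem F41127 : act 5 n12412 = n11775 := d25_1 D12412 (iv D11775) F34225 (iv F33641) (iv F38116)
def n12413 : Q := act 4 n11669
theorem D12413 : act 4 n11669 = n12413 := rfl
theorem F41128 : act 2 n12413 = n11670 := d14_1 D12413 (iv D11670) D11669
theorem F41129 : act 5 n12413 = n11797 := d22_2 (iv F38125) D12413 F38613
theorem F41130 : act 7 n12413 = n11673 := d24_2 (iv F38126) D12413 F38136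
def n12414 : Q := act 6 n11670
theorem D12414 : act 6 n11670 = n12414 := rfl
theorem F41131 : act 1 n12414 = n11673 := d11_1 D12414 (iv D11673) (iv F38127)
theorem F41132 : act 4 n12414 = n11671 := d23_1 D12414 (iv D11671) D11670
def n12415 : Q := act 5 n11671
theorem D12415 : act 5 n11671 = n12415 := rfl
theorem F41133 : act 1 n12415 = n11794 := d10_1 D12415 (iv D11794) F34272 (iv F33662) (iv F38129)
theorem F41134 : act 2 n12415 = n12053 := d15_1 D12415 (iv F40999) F40997
theorem F41135 : act 3 n12415 = n11672 := d19_1 D12415 (iv D11672) (iv F38130)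
theorem F41136 : act 6 n12415 = n11868 := d25_2 D11671 D12415 (iv D11868) (iv D10756) (iv F33658)
theorem F41137 : act 7 n12415 = n12061 := d26_2 (iv F40991) D12415 (iv F40989)
def n12416 : Q := act 7 n11681
theorem D12416 : act 7 n11681 = n12416 := rfl
theorem F41138 : act 0 n12416 = n12029 := d6_1 D12416 (iv D12029) (iv F38171)
theorem F41139 : act 1 n12416 = n12127 := d12_1 D12416 (iv F40761) F40756
theorem F41140 : act 2 n12416 = n11683 := d17_1 D12416 (iv D11683) (iv F38172)
theorem F41141 : act 3 n12416 = n12124 := d21_1 D12416 (iv D12124) (iv F37563) (iv F39544) F39541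
theorem F41142 : act 4 n12416 = n12000 := d24_1 D12416 (iv D12000) (iv F38173)
theorem F41143 : act 5 n12416 = n11682 := d26_1 D12416 (iv D11682) D11681
theorem F41144 : act 6 n12416 = n12250 := d27_1 D12416 F40450 (iv D12130) F35854 (iv F38174)
def n12417 : Q := act 3 n11686
theorem D12417 : act 3 n11686 = n12417 := rfl
theorem F41145 : act 0 n12417 = n11688 := d2_1 D12417 (iv D11688) (iv F38191)
theorem F41146 : act 1 n12417 = n12077 := d8_1 D12417 F39644 (iv F38192)
theorem F41147 : act 2 n12417 = n12080 := d13_1 D12417 F39656 F35511 F33818 (iv F38193)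
theorem F41148 : act 6 n12417 = n12315 := d20_2 (iv F38194) D12417 F40733
theorem F41149 : act 7 n12417 = n12182 := d21_2 (iv F38195) D12417 F40122 F36345 (iv F36349)
def n12418 : Q := act 3 n11691
theorem D12418 : act 3 n11691 = n12418 := rfl
theorem F41150 : act 0 n12418 = n11692 := d2_1 D12418 (iv D11692) (iv F38214)
theorem F41151 : act 1 n12418 = n11816 := d8_1 D12418 F38699 (iv F38218)
theorem F41152 : act 2 n12418 = n11693 := d13_1 D12418 (iv D11693) (iv D10506) (iv F33875) D11691
theorem F41153 : act 6 n12418 = n12240 := d20_2 (iv F38216) D12418 F40397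
theorem F41154 : act 7 n12418 = n11760 := d21_2 (iv F38217) D12418 F38482 (iv F37118) F37115
def n12419 : Q := act 4 n11692
theorem D12419 : act 4 n11692 = n12419 := rfl
theorem F41155 : act 1 n12419 = n12277 := d9_1 D12419 (iv D12277) (iv F38219)
theorem F41156 : act 2 n12419 = n11694 := d14_1 D12419 (iv D11694) (iv F38220)
theorem F41157 : act 3 n12419 = n12196 := d18_1 D12419 (iv D12196) (iv D11236) (iv F33880) D11692
theorem F41158 : act 6 n12419 = n12348 := d23_2 (iv F38221) D12419 (iv D12348)
def n12420 : Q := act 4 n11693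
theorem D12420 : act 4 n11693 = n12420 := rfl
theorem F41159 : act 0 n12420 = n11694 := d3_1 D12420 (iv D11694) (iv F38222)
theorem F41160 : act 1 n12420 = n11758 := d9_1 D12420 (iv D11758) (iv F38223)
theorem F41161 : act 3 n12420 = n11699 := d18_1 D12420 (iv D11699) (iv D10513) (iv F33884) D11693
theorem F41162 : act 7 n12420 = n11761 := d24_2 (iv F38224) D12420 (iv D11761)
def n12421 : Q := act 7 n11694
theorem D12421 : act 7 n11694 = n12421 := rfl
theorem F41163 : act 0 n12421 = n11761 := d6_1 D12421 (iv F41162) F41159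
theorem F41164 : act 1 n12421 = n11705 := d12_1 D12421 (iv D11705) (iv F38225)
theorem F41165 : act 4 n12421 = n11695 := d24_1 D12421 (iv D11695) D11694
theorem F41166 : act 3 n12293 = n12421 := d18_5 F41165 F38229 F34154 (iv F37197) (iv F40628)
theorem F41167 : act 6 n12287 = n12421 := d23_0 F41165 F38230 D12287
def n12422 : Q := act 4 n11696
theorem D12422 : act 4 n11696 = n12422 := rfl
theorem F41168 : act 1 n12422 = n11874 := d9_1 D12422 (iv D11874) (iv F38231)
theorem F41169 : act 5 n12422 = n11697 := d22_2 (iv F38232) D12422 (iv D11697)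
theorem F41170 : act 7 n12422 = n12412 := d24_2 (iv F38233) D12422 F41126
def n12423 : Q := act 7 n11699
theorem D12423 : act 7 n11699 = n12423 := rfl
theorem F41171 : act 0 n12423 = n11701 := d6_1 D12423 (iv D11701) (iv F38241)
theorem F41172 : act 2 n12423 = n11732 := d17_1 D12423 (iv F38372) (iv F38242)
theorem F41173 : act 4 n12423 = n11700 := d24_1 D12423 (iv D11700) D11699
theorem F41174 : act 6 n11731 = n12423 := d23_0 F41173 (iv F38246) D11731
def n12424 : Q := act 3 n11701
theorem D12424 : act 3 n11701 = n12424 := rfl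
theorem F41175 : act 1 n12424 = n11709 := d8_1 D12424 (iv D11709) (iv F38247)
theorem F41176 : act 2 n12424 = n11947 := d13_1 D12424 F39173 F35050 (iv F34045) (iv F38248)
theorem F41177 : act 4 n12424 = n11946 := d18_2 (iv F38249) D12424 F39169 F35351 F34200
theorem F41178 : act 6 n12424 = n11737 := d20_2 F38250 D12424 (iv D11737)
theorem F41179 : act 7 n12424 = n12293 := d21_2 D11701 D12424 F41166 (iv D12421) F38226
def n12425 : Q := act 4 n11702
theorem D12425 : act 4 n11702 = n12425 := rfl
theorem F41180 : act 0 n12425 = n12281 := d3_1 D12425 (iv D12281) (iv F38251)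
theorem F41181 : act 1 n12425 = n11703 := d9_1 D12425 (iv D11703) (iv F38252)
theorem F41182 : act 2 n12425 = n12277 := d14_1 D12425 (iv D12277) (iv F38253)
def n12426 : Q := act 7 n11703
theorem D12426 : act 7 n11703 = n12426 := rfl
theorem F41183 : act 0 n12426 = n11792 := d6_1 D12426 F39754 F39750
theorem F41184 : act 2 n12426 = n11705 := d17_1 D12426 (iv D11705) (iv F38254)
theorem F41185 : act 4 n12426 = n11704 := d24_1 D12426 (iv D11704) D11703
theorem F41186 : act 5 n12426 = n11712 := d26_1 D12426 (iv D11712) (iv F38255)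
def n12427 : Q := act 3 n11705
theorem D12427 : act 3 n11705 = n12427 := rfl
theorem F41187 : act 0 n12427 = n11774 := d2_1 D12427 F38533 (iv F38260)
theorem F41188 : act 1 n12427 = n12293 := d8_1 D12427 F41166 F41164
theorem F41189 : act 4 n12427 = n11773 := d18_2 (iv F38261) D12427 (iv D11773) F34209 (iv F33913)
theorem F41190 : act 5 n12427 = n11713 := d19_2 (iv F38262) D12427 (iv D11713)
theorem F41191 : act 7 n12427 = n11709 := d21_2 D11705 D12427 (iv D11709) (iv D10526) (iv F33910)
theorem F41192 : act 6 n12116 = n12427 := d31_4 F29578 D9553 (iv F35744) (iv F39819) (iv D12427) F38262 (iv D10532) (iv D9014) (iv F28769) F28770 (iv D7722) (iv F24381) F24382 F24184 F18901 F15528 (iv D4524) F10018 F10019 F10017 (iv D3247) (iv F9186) (iv F10102) D4543 D6026 F18920 (iv F18931) D7652 (iv F29577)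
theorem F41193 : act 2 n12427 = n11954 := d16_1 F41192 F39205 (iv F39819)
def n12428 : Q := act 6 n11705
theorem D12428 : act 6 n11705 = n12428 := rfl
theorem F41194 : act 0 n12428 = n11793 := d5_1 D12428 (iv D11793) (iv F38260)
theorem F41195 : act 1 n12428 = n12287 := d11_1 D12428 F41167 F41164
theorem F41196 : act 3 n12428 = n12116 := d20_1 D12428 F41192 (iv D12427)
theorem F41197 : act 4 n12428 = n11706 := d23_1 D12428 (iv D11706) (iv F38261)
def n12429 : Q := act 3 n11712
theorem D12429 : act 3 n11712 = n12429 := rfl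
theorem F41198 : act 0 n12429 = n12045 := d2_1 D12429 F39525 (iv F38287)
theorem F41199 : act 1 n12429 = n11852 := d8_1 D12429 (iv D11852) (iv F38288)
theorem F41200 : act 4 n12429 = n12429 := d18_2 (iv F38290) D12429 (iv D12429) F38290 F33953
theorem F41201 : act 6 n12429 = n12036 := d20_2 F38291 D12429 (iv D12036)
theorem F41202 : act 7 n12429 = n12041 := d21_2 D11712 D12429 (iv D12041) (iv F35509) F35507
def n12430 : Q := act 2 n11713
theorem D12430 : act 2 n11713 = n12430 := rfl
theorem F41203 : act 0 n12430 = n12096 := d1_1 D12430 F39728 (iv F38292)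
theorem F41204 : act 4 n12430 = n11955 := d14_2 (iv F38293) D12430 F39207
theorem F41205 : act 5 n12430 = n11954 := d15_2 F41190 D12430 (iv F41193)
theorem F41206 : act 7 n12430 = n11718 := d17_2 (iv F38294) D12430 (iv D11718)
def n12431 : Q := act 6 n11713
theorem D12431 : act 6 n11713 = n12431 := rfl
theorem F41207 : act 0 n12431 = n12098 := d5_1 D12431 (iv D12098) (iv F38292)
theorem F41208 : act 1 n12431 = n11736 := d11_1 D12431 (iv F41032) F41029
theorem F41209 : act 3 n12431 = n11714 := d20_1 D12431 (iv D11714) D11713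
theorem F41210 : act 4 n12431 = n12095 := d23_1 D12431 (iv D12095) (iv F38293)
def n12432 : Q := act 4 n11715
theorem D12432 : act 4 n11715 = n12432 := rfl
theorem F41211 : act 0 n12432 = n12358 := d3_1 D12432 (iv D12358) (iv F38300)
theorem F41212 : act 2 n12432 = n12359 := d14_1 D12432 (iv D12359) (iv F38301)
theorem F41213 : act 3 n12432 = n11717 := d18_1 D12432 (iv D11717) (iv D10536) (iv F33964) D11715
theorem F41214 : act 5 n12432 = n11716 := d22_2 (iv F38302) D12432 (iv D11716)
theorem F41215 : act 6 n12432 = n12031 := d23_2 (iv F38303) D12432 F39480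
theorem F41216 : act 7 n12432 = n12400 := d24_2 (iv F38304) D12432 (iv D12400)
def n12433 : Q := act 1 n11718
theorem D12433 : act 1 n11718 = n12433 := rfl
theorem F41217 : act 3 n12433 = n11929 := d8_2 (iv F38313) D12433 F39097
theorem F41218 : act 4 n12433 = n11904 := d9_2 (iv F38314) D12433 F39005
theorem F41219 : act 5 n12433 = n11903 := d10_2 (iv F38315) D12433 F39003 F34873 (iv F35005)
theorem F41220 : act 6 n12433 = n12111 := d11_2 F38316 D12433 (iv D12111)
def n12434 : Q := act 4 n11722
theorem D12434 : act 4 n11722 = n12434 := rfl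
theorem F41221 : act 0 n12434 = n12007 := d3_1 D12434 (iv D12007) (iv F38330)
theorem F41222 : act 1 n12434 = n11995 := d9_1 D12434 (iv D11995) (iv F38331)
theorem F41223 : act 2 n12434 = n12422 := d14_1 D12434 (iv D12422) (iv F38332)
theorem F41224 : act 3 n12434 = n11727 := d18_1 D12434 (iv D11727) (iv D10550) (iv F33998) D11722
theorem F41225 : act 5 n12434 = n11724 := d22_2 (iv F38333) D12434 (iv D11724)
theorem F41226 : act 7 n12434 = n12015 := d24_2 (iv F38334) D12434 (iv D12015)
def n12435 : Q := act 6 n11722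
theorem D12435 : act 6 n11722 = n12435 := rfl
theorem F41227 : act 0 n12435 = n12008 := d5_1 D12435 (iv D12008) (iv F38330)
theorem F41228 : act 1 n12435 = n11832 := d11_1 D12435 F38757 (iv F38331)
theorem F41229 : act 2 n12435 = n12332 := d16_1 D12435 F40803 (iv F38332)
theorem F41230 : act 3 n12435 = n11723 := d20_1 D12435 (iv D11723) D11722
theorem F41231 : act 5 n12435 = n12344 := d25_1 D12435 F40850 F37761 (iv F34003) (iv F38333)
theorem F41232 : act 7 n12435 = n12391 := d27_2 (iv F38334) D12435 (iv D12391) F37949 (iv F35228)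
def n12436 : Q := act 3 n11725
theorem D12436 : act 3 n11725 = n12436 := rfl
theorem F41233 : act 0 n12436 = n11736 := d2_1 D12436 (iv D11736) (iv F38347)
theorem F41234 : act 1 n12436 = n12082 := d8_1 D12436 F39665 (iv F38348)
theorem F41235 : act 2 n12436 = n11735 := d13_1 D12436 (iv D11735) F34039 (iv F34012) (iv F38349)
theorem F41236 : act 4 n12436 = n12079 := d18_2 D11725 D12436 F39652 F35492 (iv F34007)
theorem F41237 : act 5 n12436 = n11997 := d19_2 (iv F38350) D12436 (iv D11997)
theorem F41238 : act 6 n12436 = n12078 := d20_2 (iv F38351) D12436 F39648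
def n12437 : Q := act 4 n11726
theorem D12437 : act 4 n11726 = n12437 := rfl
theorem F41239 : act 1 n12437 = n11727 := d9_1 D12437 (iv D11727) (iv F38353)
theorem F41240 : act 3 n12437 = n11995 := d18_1 D12437 (iv D11995) (iv D10885) (iv F34017) D11726
theorem F41241 : act 5 n12437 = n11729 := d22_2 (iv F38354) D12437 (iv D11729)
theorem F41242 : act 6 n12437 = n11834 := d23_2 (iv F38355) D12437 (iv D11834)
def n12438 : Q := act 6 n11727
theorem D12438 : act 6 n11727 = n12438 := rfl
theorem F41243 : act 0 n12438 = n12019 := d5_1 D12438 (iv D12019) (iv F38356)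
theorem F41244 : act 1 n12438 = n11834 := d11_1 D12438 (iv F41242) F41239
theorem F41245 : act 4 n12438 = n11728 := d23_1 D12438 (iv D11728) D11727
theorem F41246 : act 7 n11968 = n12438 := d24_0 F41245 (iv F38361) D11968
def n12439 : Q := act 4 n11730
theorem D12439 : act 4 n11730 = n12439 := rfl
theorem F41247 : act 0 n12439 = n12424 := d3_1 D12439 F41177 F39167
theorem F41248 : act 1 n12439 = n11731 := d9_1 D12439 (iv D11731) D11730
theorem F41249 : act 3 n12439 = n12423 := d18_1 D12439 F41173 F38245 (iv F38440) (iv F38442)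
def n12440 : Q := act 5 n11730
theorem D12440 : act 5 n11730 = n12440 := rfl
theorem F41250 : act 1 n12440 = n11734 := d10_1 D12440 (iv D11734) (iv D10557) (iv F34030) D11730
def n12441 : Q := act 3 n11731
theorem D12441 : act 3 n11731 = n12441 := rfl
theorem F41251 : act 0 n12441 = n11737 := d2_1 D12441 (iv D11737) (iv F38365)
theorem F41252 : act 1 n12441 = n12423 := d8_1 D12441 (iv F41249) F41248
theorem F41253 : act 2 n12441 = n11997 := d13_1 D12441 (iv D11997) F35121 (iv F34032) (iv F38366)
theorem F41254 : act 4 n12441 = n12108 := d18_2 D11731 D12441 F39783 F36013 (iv F34115)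
theorem F41255 : act 5 n12441 = n11735 := d19_2 (iv F38367) D12441 (iv D11735)
theorem F41256 : act 6 n12441 = n12439 := d20_2 (iv F41174) D12441 F41249
theorem F41257 : act 7 n12441 = n12113 := d21_2 F38461 D12441 F39805 F38477 (iv F38459)
def n12442 : Q := act 3 n11733
theorem D12442 : act 3 n11733 = n12442 := rfl
theorem F41258 : act 1 n12442 = n11735 := d8_1 D12442 (iv D11735) (iv F38373)
theorem F41259 : act 4 n12442 = n12315 := d18_2 D11733 D12442 F40733 F37454 (iv F34054)
theorem F41260 : act 7 n12442 = n12313 := d21_2 F38413 D12442 F40724 (iv F37481) (iv F38411)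
def n12443 : Q := act 5 n11733
theorem D12443 : act 5 n11733 = n12443 := rfl
theorem F41261 : act 4 n12443 = n11734 := d22_1 D12443 (iv D11734) D11733
def n12444 : Q := act 6 n11734
theorem D12444 : act 6 n11734 = n12444 := rfl
theorem F41262 : act 2 n12444 = n12228 := d16_1 D12444 F40343 F40073
theorem F41263 : act 3 n12444 = n12227 := d20_1 D12444 F40338 (iv F38391)
theorem F41264 : act 5 n12444 = n12238 := d25_1 D12444 (iv F40571) F40570 F37137 D11734
def n12445 : Q := act 7 n11738
theorem D12445 : act 7 n11738 = n12445 := rfl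
theorem F41265 : act 0 n12445 = n12049 := d6_1 D12445 F39538 (iv F38382)
theorem F41266 : act 1 n12445 = n11739 := d12_1 D12445 (iv D11739) D11738
theorem F41267 : act 2 n12445 = n12048 := d17_1 D12445 F39534 (iv F38383)
theorem F41268 : act 4 n12445 = n12319 := d24_1 D12445 F40752 (iv F38385)
theorem F41269 : act 5 n12445 = n11750 := d26_1 D12445 (iv D11750) (iv F38386)
theorem F41270 : act 6 n12445 = n12186 := d27_1 D12445 (iv D12186) F36370 D11219 (iv F38387)
theorem F41271 : act 3 n12440 = n12445 := d19_3 F41269 (iv F38442) D12440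
def n12446 : Q := act 3 n11740
theorem D12446 : act 3 n11740 = n12446 := rfl
theorem F41272 : act 0 n12446 = n12178 := d2_1 D12446 F40099 (iv F38392)
theorem F41273 : act 1 n12446 = n11741 := d8_1 D12446 (iv D11741) (iv F38393)
theorem F41274 : act 2 n12446 = n12159 := d13_1 D12446 (iv D12159) (iv D11171) (iv F34533) (iv F38394)
theorem F41275 : act 5 n12446 = n11753 := d19_2 (iv F38396) D12446 (iv D11753)
theorem F41276 : act 6 n12446 = n12160 := d20_2 (iv F38397) D12446 (iv D12160)
theorem F41277 : act 7 n12446 = n12440 := d21_2 D11740 D12446 F41271 (iv D12445) F38384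
def n12447 : Q := act 4 n11741
theorem D12447 : act 4 n11741 = n12447 := rfl
theorem F41278 : act 0 n12447 = n12059 := d3_1 D12447 (iv D12059) (iv F38398)
theorem F41279 : act 2 n12447 = n12370 := d14_1 D12447 (iv D12370) (iv F38399)
theorem F41280 : act 3 n12447 = n11746 := d18_1 D12447 (iv D11746) (iv D10572) (iv F34062) D11741
theorem F41281 : act 5 n12447 = n11743 := d22_2 (iv F38400) D12447 (iv D11743)
theorem F41282 : act 7 n12447 = n12443 := d24_2 (iv F38401) D12447 F41261
def n12448 : Q := act 6 n11741
theorem D12448 : act 6 n11741 = n12448 := rfl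
theorem F41283 : act 0 n12448 = n12060 := d5_1 D12448 (iv D12060) (iv F38398)
theorem F41284 : act 1 n12448 = n12160 := d11_1 D12448 (iv F41276) F41273
theorem F41285 : act 2 n12448 = n12371 := d16_1 D12448 (iv D12371) (iv F38399)
theorem F41286 : act 3 n12448 = n11742 := d20_1 D12448 (iv D11742) D11741
theorem F41287 : act 5 n12448 = n12341 := d25_1 D12448 F40835 F37921 (iv F34067) (iv F38400)
theorem F41288 : act 7 n12331 = n12448 := d30_29 (iv D12448) F38400 F34065 F28904 (iv D9023) (iv D7434) (iv D5846) (iv D4381) F9661 F6728 F6729 (iv F6337) D2996 (iv F12969) (iv F17736) (iv F22846) D8825 (iv F31520) (iv F34817) (iv F38687) F38685 F38679 (iv D10664) (iv F34397) F34396 (iv F38664) (iv F40001) (iv F40007) (iv F40799)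
def n12449 : Q := act 4 n11745
theorem D12449 : act 4 n11745 = n12449 := rfl
theorem F41289 : act 1 n12449 = n11746 := d9_1 D12449 (iv D11746) (iv F38421)
theorem F41290 : act 5 n12449 = n11761 := d22_2 (iv F38422) D12449 (iv D11761)
def n12450 : Q := act 6 n11746
theorem D12450 : act 6 n11746 = n12450 := rfl
theorem F41291 : act 0 n12450 = n12065 := d5_1 D12450 (iv D12065) (iv F38423)
theorem F41292 : act 2 n12450 = n11965 := d16_1 D12450 F39242 (iv F38424)
theorem F41293 : act 4 n12450 = n11747 := d23_1 D12450 (iv D11747) D11746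
def n12451 : Q := act 1 n11751
theorem D12451 : act 1 n11751 = n12451 := rfl
theorem F41294 : act 0 n12451 = n12123 := d0_1 D12451 (iv F40255) F40254 (iv D11771) (iv F38443)
theorem F41295 : act 2 n12451 = n12121 := d7_2 (iv F38444) D12451 F39836 (iv F37514) F37513
theorem F41296 : act 3 n12451 = n12365 := d8_2 (iv F38445) D12451 F40941
theorem F41297 : act 4 n12451 = n12227 := d9_2 F40132 D12451 F40336
theorem F41298 : act 5 n12451 = n12120 := d10_2 D11751 D12451 F39831 F38188 (iv F34117)
theorem F41299 : act 6 n12451 = n12316 := d11_2 F40751 D12451 (iv F40749)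
theorem F41300 : act 7 n12451 = n11752 := d12_2 (iv F38446) D12451 (iv D11752)
def n12452 : Q := act 4 n11753
theorem D12452 : act 4 n11753 = n12452 := rfl
theorem F41301 : act 0 n12452 = n12293 := d3_1 D12452 F40628 (iv F38453)
theorem F41302 : act 1 n12452 = n11754 := d9_1 D12452 (iv D11754) (iv F38454)
theorem F41303 : act 3 n12452 = n11761 := d18_1 D12452 (iv D11761) (iv D10592) (iv F34126) D11753
theorem F41304 : act 6 n12452 = n12286 := d23_2 (iv F38455) D12452 (iv D12286)
theorem F41305 : act 7 n12452 = n12439 := d24_2 (iv F38456) D12452 (iv D12439)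
def n12453 : Q := act 6 n11754
theorem D12453 : act 6 n11754 = n12453 := rfl
theorem F41306 : act 0 n12453 = n11775 := d5_1 D12453 (iv D11775) (iv F38457)
theorem F41307 : act 1 n12453 = n12286 := d11_1 D12453 (iv F41304) F41302
theorem F41308 : act 2 n12453 = n12002 := d16_1 D12453 F39355 (iv F38458)
theorem F41309 : act 3 n12453 = n11763 := d20_1 D12453 (iv D11763) (iv F38459)
theorem F41310 : act 4 n12453 = n11755 := d23_1 D12453 (iv D11755) D11754
theorem F41311 : act 7 n12453 = n12010 := d27_2 (iv F38461) D12453 F39393 D12423 (iv F41174)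
def n12454 : Q := act 4 n11756
theorem D12454 : act 4 n11756 = n12454 := rfl
theorem F41312 : act 0 n12454 = n11777 := d3_1 D12454 (iv D11777) (iv F38467)
theorem F41313 : act 1 n12454 = n11857 := d9_1 D12454 F38840 F38470
theorem F41314 : act 2 n12454 = n11757 := d14_1 D12454 (iv D11757) D11756
theorem F41315 : act 5 n12454 = n11853 := d22_2 (iv F38469) D12454 (iv D11853)
theorem F41316 : act 7 n12454 = n12436 := d24_2 (iv F39654) D12454 F41236
theorem F41317 : act 3 n11835 = n12454 := d21_5 F41316 (iv D12436) F38352 D12023 (iv F39446)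
def n12455 : Q := act 6 n11758
theorem D12455 : act 6 n11758 = n12455 := rfl
theorem F41318 : act 0 n12455 = n11783 := d5_1 D12455 (iv D11783) (iv F38474)
theorem F41319 : act 2 n12455 = n11825 := d16_1 D12455 (iv D11825) (iv F38475)
theorem F41320 : act 4 n12455 = n11759 := d23_1 D12455 (iv D11759) D11758
def n12456 : Q := act 7 n11759
theorem D12456 : act 7 n11759 = n12456 := rfl
theorem F41321 : act 0 n12456 = n11784 := d6_1 D12456 (iv D11784) (iv F38478)
theorem F41322 : act 1 n12456 = n12238 := d12_1 D12456 (iv F40499) F40496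
theorem F41323 : act 2 n12456 = n11823 := d17_1 D12456 F38725 (iv F38479)
theorem F41324 : act 3 n12456 = n12237 := d21_1 D12456 F40390 F36901 F36355 (iv F38480)
theorem F41325 : act 5 n12456 = n12417 := d26_1 D12456 F41149 F40123
theorem F41326 : act 6 n12456 = n11764 := d27_1 D12456 (iv D11764) (iv D10595) (iv F34144) D11759
def n12457 : Q := act 4 n11760
theorem D12457 : act 4 n11760 = n12457 := rfl
theorem F41327 : act 1 n12457 = n11815 := d9_1 D12457 (iv D11815) (iv F38481)
theorem F41328 : act 2 n12457 = n11761 := d14_1 D12457 (iv D11761) D11760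
def n12458 : Q := act 6 n11761
theorem D12458 : act 6 n11761 = n12458 := rfl
theorem F41329 : act 0 n12458 = n12287 := d5_1 D12458 F41167 F41163
theorem F41330 : act 1 n12458 = n11763 := d11_1 D12458 (iv D11763) (iv F38483)
theorem F41331 : act 3 n12458 = n12286 := d20_1 D12458 (iv F41304) F41303
theorem F41332 : act 4 n12458 = n11762 := d23_1 D12458 (iv D11762) D11761
theorem F41333 : act 5 n12285 = n12458 := d22_0 F41332 F38487 D12285
def n12459 : Q := act 7 n11763
theorem D12459 : act 7 n11763 = n12459 := rfl
theorem F41334 : act 0 n12459 = n11797 := d6_1 D12459 (iv D11797) (iv F38488)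
theorem F41335 : act 2 n12459 = n11822 := d17_1 D12459 (iv D11822) (iv F38489)
theorem F41336 : act 4 n12459 = n11764 := d24_1 D12459 (iv D11764) (iv F38490)
def n12460 : Q := act 5 n11768
theorem D12460 : act 5 n11768 = n12460 := rfl
theorem F41337 : act 3 n12460 = n11769 := d19_1 D12460 (iv D11769) (iv F38506)
theorem F41338 : act 4 n12460 = n12405 := d22_1 D12460 F41096 (iv F38507)
theorem F41339 : act 7 n12460 = n12361 := d26_2 (iv F38508) D12460 (iv D12361)
def n12461 : Q := act 4 n11776
theorem D12461 : act 4 n11776 = n12461 := rfl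
theorem F41340 : act 0 n12461 = n11937 := d3_1 D12461 F39127 (iv F38542)
theorem F41341 : act 1 n12461 = n11777 := d9_1 D12461 (iv D11777) D11776
theorem F41342 : act 2 n12461 = n12104 := d14_1 D12461 (iv D12104) (iv F38543)
theorem F41343 : act 5 n12461 = n11934 := d22_2 (iv F38545) D12461 F39119
theorem F41344 : act 6 n12461 = n11988 := d23_2 F38546 D12461 F39307
theorem F41345 : act 7 n12461 = n12431 := d24_2 F39726 D12461 F41210
def n12462 : Q := act 6 n11777
theorem D12462 : act 6 n11777 = n12462 := rfl
theorem F41346 : act 1 n12462 = n11988 := d11_1 D12462 (iv F41344) F41341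
theorem F41347 : act 2 n12462 = n11779 := d16_1 D12462 (iv D11779) (iv F38547)
theorem F41348 : act 4 n12462 = n11778 := d23_1 D12462 (iv D11778) D11777
theorem F41349 : act 7 n12462 = n12322 := d27_2 (iv F38548) D12462 F40766 (iv F41033) F41032
def n12463 : Q := act 4 n11780
theorem D12463 : act 4 n11780 = n12463 := rfl
theorem F41350 : act 1 n12463 = n11781 := d9_1 D12463 (iv D11781) D11780
theorem F41351 : act 6 n12463 = n11869 := d23_2 F38559 D12463 F38883
theorem F41352 : act 7 n12463 = n11795 := d24_2 (iv F38558) D12463 (iv D11795)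
def n12464 : Q := act 6 n11781
theorem D12464 : act 6 n11781 = n12464 := rfl
theorem F41353 : act 0 n12464 = n11825 := d5_1 D12464 (iv D11825) (iv F38560)
theorem F41354 : act 1 n12464 = n11869 := d11_1 D12464 (iv F41351) F41350
theorem F41355 : act 2 n12464 = n11783 := d16_1 D12464 (iv D11783) (iv F38561)
theorem F41356 : act 4 n12464 = n11782 := d23_1 D12464 (iv D11782) D11781
theorem F41357 : act 7 n12464 = n11867 := d27_2 (iv F38563) D12464 (iv D11867) F38611 (iv D11796)
def n12465 : Q := act 7 n11783
theorem D12465 : act 7 n11783 = n12465 := rfl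
theorem F41358 : act 2 n12465 = n11867 := d17_1 D12465 (iv F41357) F41355
theorem F41359 : act 3 n12465 = n12282 := d21_1 D12465 (iv F40604) F40602 F39811 F39808
theorem F41360 : act 4 n12465 = n11784 := d24_1 D12465 (iv D11784) (iv F38569)
theorem F41361 : act 5 n12465 = n12284 := d26_1 D12465 (iv F40614) F40612
theorem F41362 : act 6 n12465 = n11797 := d27_1 D12465 (iv D11797) (iv D10630) (iv F34243) D11783
def n12466 : Q := act 3 n11785
theorem D12466 : act 3 n11785 = n12466 := rfl
theorem F41363 : act 0 n12466 = n11982 := d2_1 D12466 (iv D11982) (iv F38574)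
theorem F41364 : act 1 n12466 = n11787 := d8_1 D12466 (iv D11787) (iv F38575)
theorem F41365 : act 2 n12466 = n12044 := d13_1 D12466 F39522 (iv F35557) (iv F35686) (iv F38576)
theorem F41366 : act 4 n12466 = n12466 := d18_2 D11785 D12466 (iv D12466) (iv D11785) F34247
theorem F41367 : act 5 n12466 = n12043 := d19_2 F39684 D12466 F39686
def n12467 : Q := act 6 n11785
theorem D12467 : act 6 n11785 = n12467 := rfl
theorem F41368 : act 0 n12467 = n11983 := d5_1 D12467 (iv D11983) (iv F38574)
theorem F41369 : act 1 n12467 = n11788 := d11_1 D12467 (iv D11788) (iv F38575)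
theorem F41370 : act 2 n12467 = n12109 := d16_1 D12467 (iv D12109) (iv F38576)
theorem F41371 : act 4 n12467 = n11786 := d23_1 D12467 (iv D11786) D11785
def n12468 : Q := act 5 n11786
theorem D12468 : act 5 n11786 = n12468 := rfl
theorem F41372 : act 0 n12468 = n11986 := d4_1 D12468 (iv D11986) (iv F38578)
theorem F41373 : act 2 n12468 = n12110 := d15_1 D12468 (iv D12110) (iv F38580)
theorem F41374 : act 3 n12468 = n12468 := d19_1 D12468 (iv D12468) F38581
theorem F41375 : act 6 n12468 = n11905 := d25_2 D11786 D12468 (iv F39692) (iv D12087) F35544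
theorem F41376 : act 1 n12468 = n11907 := d30_2 D11786 D12468 F39016 (iv D11445) (iv D10135) (iv D8588) F22156 F22153 F17562 F13756 D5929 D7527 D9122 D10645 D11804 F38645 (iv D11119) (iv D9657) (iv D8036) F20013 F14996 F10863 F14407 F14406 F13703 D5914 (iv F23790) (iv F29057) (iv F34248)
def n12469 : Q := act 6 n11787
theorem D12469 : act 6 n11787 = n12469 := rfl
theorem F41377 : act 0 n12469 = n11836 := d5_1 D12469 (iv D11836) (iv F38582)
theorem F41378 : act 3 n12469 = n11788 := d20_1 D12469 (iv D11788) D11787
theorem F41379 : act 4 n12469 = n12469 := d23_1 D12469 (iv D12469) F38583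
def n12470 : Q := act 5 n11788
theorem D12470 : act 5 n11788 = n12470 := rfl
theorem F41380 : act 0 n12470 = n11837 := d4_1 D12470 (iv D11837) (iv F38584)
theorem F41381 : act 2 n12470 = n11790 := d15_1 D12470 (iv D11790) (iv F38585)
theorem F41382 : act 4 n12470 = n11789 := d22_1 D12470 (iv D11789) (iv F38586)
theorem F41383 : act 7 n12470 = n12329 := d26_2 F40660 D12470 F40797
def n12471 : Q := act 1 n11789
theorem D12471 : act 1 n11789 = n12471 := rfl
theorem F41384 : act 0 n12471 = n11910 := d0_1 D12471 F39028 F38774 (iv D11838) (iv F38587)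
theorem F41385 : act 2 n12471 = n12300 := d7_2 (iv F38588) D12471 F40662 F39297 (iv D11791)
theorem F41386 : act 3 n12471 = n12471 := d8_2 F38589 D12471 (iv D12471)
theorem F41387 : act 5 n12471 = n11907 := d10_2 D11789 D12471 (iv F41376) (iv D12468) F38579
theorem F41388 : act 6 n12471 = n11957 := d11_2 F40608 D12471 (iv F40610)
theorem F41389 : act 7 n12471 = n12297 := d12_2 (iv F38590) D12471 F40645
def n12472 : Q := act 1 n11790
theorem D12472 : act 1 n11790 = n12472 := rfl
theorem F41390 : act 0 n12472 = n12107 := d0_1 D12472 F39778 F37670 (iv F40114) F40113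
theorem F41391 : act 3 n12472 = n12333 := d8_2 F40148 D12472 F40805
theorem F41392 : act 4 n12472 = n11791 := d9_2 (iv F38591) D12472 (iv D11791)
theorem F41393 : act 5 n12472 = n12111 := d10_2 D11790 D12472 (iv D12111) (iv D11052) (iv F34255)
theorem F41394 : act 7 n12472 = n12083 := d12_2 (iv F38592) D12472 F39670
def n12473 : Q := act 3 n11792
theorem D12473 : act 3 n11792 = n12473 := rfl
theorem F41395 : act 4 n12473 = n12473 := d18_2 D11792 D12473 (iv D12473) (iv D11792) F34268
theorem F41396 : act 5 n12473 = n12045 := d19_2 (iv F38598) D12473 F39525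
theorem F41397 : act 7 n12473 = n12044 := d21_2 (iv F39754) D12473 F39522 (iv F35607) D12101
def n12474 : Q := act 3 n11797
theorem D12474 : act 3 n11797 = n12474 := rfl
theorem F41398 : act 1 n12474 = n12264 := d8_1 D12474 F40512 F39094
theorem F41399 : act 2 n12474 = n12283 := d13_1 D12474 F40590 F38988 F38868 (iv F38612)
theorem F41400 : act 4 n12474 = n12262 := d18_2 (iv F38613) D12474 F40506 F37222 F35812
theorem F41401 : act 6 n12474 = n12282 := d20_2 F41362 D12474 (iv F41359)
theorem F41402 : act 7 n12474 = n12261 := d21_2 D11797 D12474 F40501 (iv F38541) F38539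
def n12475 : Q := act 4 n11799
theorem D12475 : act 4 n11799 = n12475 := rfl
theorem F41403 : act 1 n12475 = n11821 := d9_1 D12475 (iv D11821) (iv F38619)
theorem F41404 : act 2 n12475 = n12452 := d14_1 D12475 (iv D12452) (iv F38620)
theorem F41405 : act 3 n12475 = n11812 := d18_1 D12475 (iv D11812) (iv D10664) (iv F34325) D11799
theorem F41406 : act 6 n12475 = n11800 := d23_2 (iv F38621) D12475 (iv D11800)
def n12476 : Q := act 4 n11810
theorem D12476 : act 4 n11810 = n12476 := rfl
theorem F41407 : act 5 n12476 = n11812 := d22_2 (iv F38677) D12476 (iv D11812)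
theorem F41408 : act 6 n12476 = n11874 := d23_2 (iv F38678) D12476 (iv D11874)
def n12477 : Q := act 4 n11811
theorem D12477 : act 4 n11811 = n12477 := rfl
theorem F41409 : act 2 n12477 = n11812 := d14_1 D12477 (iv D11812) (iv F38679)
theorem F41410 : act 3 n12477 = n12457 := d18_1 D12477 (iv D12457) F38482 F34423 D11811
theorem F41411 : act 6 n12477 = n11815 := d23_2 (iv F38680) D12477 (iv D11815)
theorem F41412 : act 7 n12477 = n12244 := d24_2 (iv F38681) D12477 (iv D12244)
def n12478 : Q := act 4 n11813
theorem D12478 : act 4 n11813 = n12478 := rfl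
theorem F41413 : act 0 n12478 = n12275 := d3_1 D12478 (iv D12275) (iv F38684)
theorem F41414 : act 1 n12478 = n12477 := d9_1 D12478 (iv D12477) (iv F38685)
theorem F41415 : act 2 n12478 = n12458 := d14_1 D12478 F41332 (iv F38686)
theorem F41416 : act 3 n12478 = n11815 := d18_1 D12478 (iv D11815) (iv D10673) (iv F34437) D11813
theorem F41417 : act 5 n12478 = n11885 := d22_2 (iv F38687) D12478 (iv D11885)
theorem F41418 : act 6 n12478 = n12457 := d23_2 (iv F38688) D12478 (iv D12457)
theorem F41419 : act 7 n12478 = n12279 := d24_2 (iv F38689) D12478 (iv D12279)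
def n12479 : Q := act 4 n11814
theorem D12479 : act 4 n11814 = n12479 := rfl
theorem F41420 : act 0 n12479 = n11815 := d3_1 D12479 (iv D11815) (iv F38690)
theorem F41421 : act 1 n12479 = n12255 := d9_1 D12479 (iv D12255) (iv F38691)
theorem F41422 : act 2 n12479 = n11817 := d14_1 D12479 (iv D11817) (iv F38692)
theorem F41423 : act 3 n12479 = n12275 := d18_1 D12479 (iv D12275) (iv D11399) (iv F34442) D11814
theorem F41424 : act 5 n12479 = n11886 := d22_2 (iv F38693) D12479 (iv D11886)
theorem F41425 : act 7 n12479 = n12254 := d24_2 (iv F38694) D12479 (iv D12254)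
def n12480 : Q := act 7 n11815
theorem D12480 : act 7 n11815 = n12480 := rfl
theorem F41426 : act 0 n12480 = n12254 := d6_1 D12480 (iv F41425) F41420
theorem F41427 : act 2 n12480 = n11819 := d17_1 D12480 (iv D11819) (iv F38695)
theorem F41428 : act 3 n12480 = n12253 := d21_1 D12480 F40467 (iv F40575) (iv F41419) F41416
theorem F41429 : act 4 n12480 = n11816 := d24_1 D12480 (iv D11816) D11815
theorem F41430 : act 5 n12480 = n11888 := d26_1 D12480 (iv D11888) (iv F38696)
theorem F41431 : act 6 n12480 = n12245 := d27_1 D12480 (iv D12245) (iv F40421) (iv F41412) F41411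
def n12481 : Q := act 7 n11817
theorem D12481 : act 7 n11817 = n12481 := rfl
theorem F41432 : act 0 n12481 = n11819 := d6_1 D12481 (iv D11819) (iv F38702)
theorem F41433 : act 2 n12481 = n12254 := d17_1 D12481 (iv F41425) F41422
theorem F41434 : act 4 n12481 = n11818 := d24_1 D12481 (iv D11818) D11817
theorem F41435 : act 5 n12481 = n11893 := d26_1 D12481 (iv D11893) (iv F38703)
theorem F41436 : act 6 n12481 = n12026 := d27_1 D12481 F39458 F38807 D11924 (iv F39079)
def n12482 : Q := act 3 n11819
theorem D12482 : act 3 n11819 = n12482 := rfl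
theorem F41437 : act 1 n12482 = n11824 := d8_1 D12482 (iv D11824) (iv F38709)
theorem F41438 : act 4 n12482 = n12482 := d18_2 (iv F38710) D12482 (iv D12482) F38710 F34466
theorem F41439 : act 5 n12482 = n11894 := d19_2 (iv F38711) D12482 (iv D11894)
def n12483 : Q := act 6 n11819
theorem D12483 : act 6 n11819 = n12483 := rfl
theorem F41440 : act 0 n12483 = n12026 := d5_1 D12483 (iv F41436) F41432
theorem F41441 : act 1 n12483 = n11825 := d11_1 D12483 (iv D11825) (iv F38709)
theorem F41442 : act 2 n12483 = n12245 := d16_1 D12483 (iv F41431) F41427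
theorem F41443 : act 4 n12483 = n11820 := d23_1 D12483 (iv D11820) (iv F38710)
theorem F41444 : act 5 n12483 = n12024 := d25_1 D12483 (iv F40479) F40478 (iv D11895) (iv F38711)
theorem F41445 : act 7 n12483 = n12241 := d27_2 D11819 D12483 F40404 F39075 F38683
def n12484 : Q := act 6 n11822
theorem D12484 : act 6 n11822 = n12484 := rfl
theorem F41446 : act 0 n12484 = n11867 := d5_1 D12484 (iv D11867) (iv F38720)
theorem F41447 : act 1 n12484 = n12241 := d11_1 D12484 F40404 F39074
theorem F41448 : act 4 n12484 = n11823 := d23_1 D12484 (iv D11823) (iv F38721)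
theorem F41449 : act 7 n12484 = n11825 := d27_2 D11822 D12484 (iv D11825) (iv D10695) (iv F34525)
def n12485 : Q := act 6 n11824
theorem D12485 : act 6 n11824 = n12485 := rfl
theorem F41450 : act 3 n12485 = n11825 := d20_1 D12485 (iv D11825) D11824
theorem F41451 : act 4 n12485 = n12485 := d23_1 D12485 (iv D12485) F38726
def n12486 : Q := act 5 n11825
theorem D12486 : act 5 n11825 = n12486 := rfl
theorem F41452 : act 1 n12486 = n12042 := d10_1 D12486 (iv D12042) (iv F39448) (iv F41444) F41441
theorem F41453 : act 4 n12486 = n11826 := d22_1 D12486 (iv D11826) (iv F38728)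
theorem F41454 : act 6 n12486 = n11837 := d25_2 D11825 D12486 (iv D11837) (iv D10709) (iv F34545)
def n12487 : Q := act 4 n11827
theorem D12487 : act 4 n11827 = n12487 := rfl
theorem F41455 : act 0 n12487 = n12437 := d3_1 D12487 (iv D12437) (iv F38732)
theorem F41456 : act 2 n12487 = n11940 := d14_1 D12487 (iv D11940) (iv F38733)
theorem F41457 : act 3 n12487 = n12308 := d18_1 D12487 (iv D12308) (iv D11474) (iv F34548) D11827
theorem F41458 : act 5 n12487 = n11828 := d22_2 (iv F38734) D12487 (iv D11828)
theorem F41459 : act 7 n12487 = n12031 := d24_2 (iv F38735) D12487 F39480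
def n12488 : Q := act 4 n11830
theorem D12488 : act 4 n11830 = n12488 := rfl
theorem F41460 : act 0 n12488 = n11834 := d3_1 D12488 (iv D11834) (iv F38746)
theorem F41461 : act 1 n12488 = n12307 := d9_1 D12488 (iv D12307) (iv F38747)
theorem F41462 : act 5 n12488 = n11831 := d22_2 (iv F38748) D12488 (iv D11831)
theorem F41463 : act 6 n12488 = n12487 := d23_2 (iv F38749) D12488 (iv D12487)
theorem F41464 : act 7 n12488 = n11961 := d24_2 (iv F38750) D12488 (iv D11961)
def n12489 : Q := act 4 n11832
theorem D12489 : act 4 n11832 = n12489 := rfl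
theorem F41465 : act 2 n12489 = n12210 := d14_1 D12489 (iv D12210) (iv F38755)
theorem F41466 : act 3 n12489 = n11834 := d18_1 D12489 (iv D11834) (iv D10706) (iv F34579) D11832
theorem F41467 : act 5 n12489 = n11833 := d22_2 (iv F38756) D12489 (iv D11833)
theorem F41468 : act 6 n12489 = n11995 := d23_2 (iv F38757) D12489 (iv D11995)
theorem F41469 : act 7 n12489 = n12401 := d24_2 (iv F38758) D12489 (iv D12401)
def n12490 : Q := act 1 n11835
theorem D12490 : act 1 n11835 = n12490 := rfl
theorem F41470 : act 2 n12490 = n11989 := d7_2 D11835 D12490 (iv D11989) (iv D10881) (iv F34590)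
theorem F41471 : act 3 n12490 = n11857 := d8_2 (iv F41317) D12490 (iv F41313)
theorem F41472 : act 4 n12490 = n12490 := d9_2 F38766 D12490 (iv D12490)
theorem F41473 : act 5 n12490 = n11856 := d10_2 F39464 D12490 F38837 (iv F38834) (iv F39460)
def n12491 : Q := act 6 n11835
theorem D12491 : act 6 n11835 = n12491 := rfl
theorem F41474 : act 2 n12491 = n11836 := d16_1 D12491 (iv D11836) D11835
theorem F41475 : act 4 n12491 = n12491 := d23_1 D12491 (iv D12491) F38766
theorem F41476 : act 7 n12491 = n12469 := d27_2 (iv F39446) D12491 (iv D12469) (iv F39491) F39490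
def n12492 : Q := act 5 n11836
theorem D12492 : act 5 n11836 = n12492 := rfl
theorem F41477 : act 3 n12492 = n11837 := d19_1 D12492 (iv D11837) (iv F38768)
theorem F41478 : act 4 n12492 = n12492 := d22_1 D12492 (iv D12492) F38769
def n12493 : Q := act 7 n11836
theorem D12493 : act 7 n11836 = n12493 := rfl
theorem F41479 : act 0 n12493 = n12491 := d6_1 D12493 F41476 F41377
theorem F41480 : act 1 n12493 = n11992 := d12_1 D12493 (iv D11992) (iv F38767)
theorem F41481 : act 2 n12493 = n12469 := d17_1 D12493 (iv F41476) F41474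
theorem F41482 : act 3 n12493 = n12462 := d21_1 D12493 F41349 (iv D12322) F37618 (iv F38768)
theorem F41483 : act 4 n12493 = n12493 := d24_1 D12493 (iv D12493) F38769
theorem F41484 : act 6 n12493 = n12040 := d27_1 D12493 (iv D12040) (iv F38744) F38745 D11836
def n12494 : Q := act 1 n11837
theorem D12494 : act 1 n11837 = n12494 := rfl
theorem F41485 : act 4 n12494 = n11838 := d9_2 (iv F38770) D12494 (iv D11838)
theorem F41486 : act 5 n12494 = n11993 := d10_2 D11837 D12494 (iv D11993) (iv D10883) (iv F34592)
theorem F41487 : act 6 n12494 = n12042 := d11_2 F41454 D12494 (iv F41452)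
theorem F41488 : act 0 n12046 = n12494 := d5_3 F41487 F39519 D12046
def n12495 : Q := act 4 n11839
theorem D12495 : act 4 n11839 = n12495 := rfl
theorem F41489 : act 0 n12495 = n12489 := d3_1 D12495 (iv D12489) (iv F38775)
theorem F41490 : act 1 n12495 = n12358 := d9_1 D12495 (iv D12358) (iv F38776)
theorem F41491 : act 2 n12495 = n12248 := d14_1 D12495 (iv D12248) (iv F38777)
theorem F41492 : act 3 n12495 = n12488 := d18_1 D12495 (iv D12488) (iv D11830) (iv F34598) D11839
theorem F41493 : act 5 n12495 = n11840 := d22_2 (iv F38778) D12495 (iv D11840)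
theorem F41494 : act 6 n12495 = n12308 := d23_2 (iv F38779) D12495 (iv D12308)
theorem F41495 : act 7 n12495 = n11847 := d24_2 (iv F38780) D12495 (iv D11847)
def n12496 : Q := act 4 n11841
theorem D12496 : act 4 n11841 = n12496 := rfl
theorem F41496 : act 0 n12496 = n12119 := d3_1 D12496 (iv D12119) (iv F38787)
theorem F41497 : act 1 n12496 = n11842 := d9_1 D12496 (iv D11842) D11841
theorem F41498 : act 2 n12496 = n12118 := d14_1 D12496 (iv D12118) (iv F38788)
theorem F41499 : act 3 n12496 = n12484 := d18_1 D12496 F41448 F38724 (iv F35763) (iv F38789)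
theorem F41500 : act 5 n12496 = n12425 := d22_2 (iv F38790) D12496 (iv D12425)
theorem F41501 : act 6 n12496 = n12236 := d23_2 (iv F38791) D12496 (iv D12236)
theorem F41502 : act 7 n12496 = n11849 := d24_2 (iv F38792) D12496 (iv D11849)
def n12497 : Q := act 1 n11846
theorem D12497 : act 1 n11846 = n12497 := rfl
theorem F41503 : act 0 n12497 = n12220 := d0_1 D12497 F40298 (iv F40405) F40406 F40169
theorem F41504 : act 2 n12497 = n12327 := d7_2 D11846 D12497 F40786 F37797 (iv F34634)
theorem F41505 : act 3 n12497 = n12216 := d8_2 F39957 D12497 F40280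
theorem F41506 : act 5 n12497 = n12276 := d10_2 (iv F38808) D12497 F40560 F40459 F36991
theorem F41507 : act 6 n12497 = n12215 := d11_2 F39243 D12497 F40275
theorem F41508 : act 7 n12497 = n12247 := d12_2 (iv F38809) D12497 F40433
def n12498 : Q := act 4 n11846
theorem D12498 : act 4 n11846 = n12498 := rfl
theorem F41509 : act 2 n12498 = n11847 := d14_1 D12498 (iv D11847) D11846
theorem F41510 : act 5 n12498 = n11848 := d22_2 (iv F38808) D12498 (iv D11848)
theorem F41511 : act 7 n12498 = n12248 := d24_2 (iv F38809) D12498 (iv D12248)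
def n12499 : Q := act 3 n11848
theorem D12499 : act 3 n11848 = n12499 := rfl
theorem F41512 : act 0 n12499 = n12419 := d2_1 D12499 F41157 F40173
theorem F41513 : act 1 n12499 = n12480 := d8_1 D12499 F41428 F40464
theorem F41514 : act 2 n12499 = n12420 := d13_1 D12499 F41161 F38242 F34658 (iv F38813)
theorem F41515 : act 4 n12499 = n12418 := d18_2 D11848 D12499 (iv D12418) F38215 F36092
theorem F41516 : act 6 n12499 = n12021 := d20_2 (iv F38814) D12499 (iv D12021)
theorem F41517 : act 7 n12499 = n12457 := d21_2 (iv F38815) D12499 (iv F41410) F41412 F40420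
def n12500 : Q := act 3 n11849
theorem D12500 : act 3 n11849 = n12500 := rfl
theorem F41518 : act 1 n12500 = n11851 := d8_1 D12500 (iv D11851) (iv F38816)
theorem F41519 : act 2 n12500 = n12482 := d13_1 D12500 (iv D12482) (iv F41427) F41428 F40465
theorem F41520 : act 4 n12500 = n12500 := d18_2 D11849 D12500 (iv D12500) (iv D11849) F34640
theorem F41521 : act 6 n12500 = n12025 := d20_2 (iv F38817) D12500 (iv D12025)
theorem F41522 : act 7 n12500 = n12485 := d21_2 F41502 D12500 F41450 (iv F41449) (iv F41499)
def n12501 : Q := act 5 n11849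
theorem D12501 : act 5 n11849 = n12501 := rfl
theorem F41523 : act 0 n12501 = n11895 := d4_1 D12501 (iv F40478) F40475
theorem F41524 : act 1 n12501 = n12426 := d10_1 D12501 F41186 F38288 F34655 (iv F38816)
theorem F41525 : act 4 n12501 = n11850 := d22_1 D12501 (iv D11850) D11849
theorem F41526 : act 6 n12501 = n11893 := d25_2 (iv F38817) D12501 (iv F41435) F41436 (iv D12026)
theorem F41527 : act 7 n12501 = n12425 := d26_2 F41502 D12501 (iv F41500)
def n12502 : Q := act 7 n11851
theorem D12502 : act 7 n11851 = n12502 := rfl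
theorem F41528 : act 0 n12502 = n11859 := d6_1 D12502 (iv D11859) (iv F38823)
theorem F41529 : act 1 n12502 = n12485 := d12_1 D12502 (iv F41522) F41518
theorem F41530 : act 2 n12502 = n12025 := d17_1 D12502 F39453 F38832
theorem F41531 : act 3 n12502 = n12483 := d21_1 D12502 F41445 F40402 F38796 D11851
theorem F41532 : act 4 n12502 = n12502 := d24_1 D12502 (iv D12502) F38824
theorem F41533 : act 6 n12482 = n12502 := d20_0 F41531 (iv D12483) D12482
def n12503 : Q := act 7 n11852
theorem D12503 : act 7 n11852 = n12503 := rfl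
theorem F41534 : act 0 n12503 = n12025 := d6_1 D12503 F39453 F38831
theorem F41535 : act 1 n12503 = n12041 := d12_1 D12503 (iv F41202) F41199
theorem F41536 : act 2 n12503 = n11859 := d17_1 D12503 (iv D11859) (iv F38826)
theorem F41537 : act 3 n12503 = n12024 := d21_1 D12503 F39450 (iv F38284) F38286 D11852
theorem F41538 : act 4 n12503 = n12503 := d24_1 D12503 (iv D12503) F38827
theorem F41539 : act 5 n12503 = n12502 := d26_1 D12503 (iv D12502) (iv F38828)
def n12504 : Q := act 3 n11855
theorem D12504 : act 3 n11855 = n12504 := rfl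
theorem F41540 : act 0 n12504 = n11856 := d2_1 D12504 (iv D11856) (iv F38835)
theorem F41541 : act 4 n12504 = n12504 := d18_2 D11855 D12504 (iv D12504) (iv D11855) F34663
theorem F41542 : act 6 n12504 = n12041 := d20_2 (iv F38836) D12504 (iv D12041)
def n12505 : Q := act 2 n11856
theorem D12505 : act 2 n11856 = n12505 := rfl
theorem F41543 : act 4 n12505 = n12505 := d14_2 F38838 D12505 (iv D12505)
theorem F41544 : act 5 n12505 = n11989 := d15_2 F41473 D12505 (iv F41470)
theorem F41545 : act 6 n12505 = n12043 := d16_2 (iv F38839) D12505 (iv D12043)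
def n12506 : Q := act 7 n11856
theorem D12506 : act 7 n11856 = n12506 := rfl
theorem F41546 : act 1 n12506 = n11859 := d12_1 D12506 (iv D11859) (iv F38837)
theorem F41547 : act 3 n12506 = n11911 := d21_1 D12506 (iv D11911) (iv F36767) F36769 D11856
theorem F41548 : act 4 n12506 = n12506 := d24_1 D12506 (iv D12506) F38838
def n12507 : Q := act 6 n11857
theorem D12507 : act 6 n11857 = n12507 := rfl
theorem F41549 : act 0 n12507 = n11993 := d5_1 D12507 (iv F39762) F39758
theorem F41550 : act 4 n12507 = n11858 := d23_1 D12507 (iv D11858) (iv F38840)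
theorem F41551 : act 5 n12507 = n12046 := d25_1 D12507 (iv D12046) (iv D10947) (iv F34666) D11857
def n12508 : Q := act 6 n11859
theorem D12508 : act 6 n11859 = n12508 := rfl
theorem F41552 : act 0 n12508 = n12482 := d5_1 D12508 F41533 F41528
theorem F41553 : act 3 n12508 = n12481 := d20_1 D12508 F41436 F39456
theorem F41554 : act 4 n12508 = n12508 := d23_1 D12508 (iv D12508) F38844
theorem F41555 : act 7 n12508 = n12047 := d27_2 D11859 D12508 (iv D12047) (iv D10949) (iv F34669)
def n12509 : Q := act 5 n11860
theorem D12509 : act 5 n11860 = n12509 := rfl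
theorem F41556 : act 0 n12509 = n12102 := d4_1 D12509 F39757 (iv F38845)
theorem F41557 : act 2 n12509 = n12082 := d15_1 D12509 F39667 (iv F38847)
theorem F41558 : act 3 n12509 = n12263 := d19_1 D12509 F40510 (iv F38848)
theorem F41559 : act 4 n12509 = n11861 := d22_1 D12509 (iv D11861) (iv F38849)
theorem F41560 : act 6 n12509 = n12081 := d25_2 D11860 D12509 F39662 F35508 (iv F34700)
theorem F41561 : act 7 n12509 = n12093 := d26_2 (iv F38850) D12509 (iv D12093)
def n12510 : Q := act 1 n11861
theorem D12510 : act 1 n11861 = n12510 := rfl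
theorem F41562 : act 0 n12510 = n12415 := d0_1 D12510 F41133 (iv F39745) F39746 (iv F38851)
theorem F41563 : act 2 n12510 = n12315 := d7_2 (iv F38852) D12510 F40732 (iv F39651) F39650
theorem F41564 : act 3 n12510 = n11862 := d8_2 (iv F38853) D12510 (iv D11862)
theorem F41565 : act 5 n12510 = n12368 := d10_2 D11861 D12510 F40954 F37998 (iv F34703)
theorem F41566 : act 6 n12510 = n12080 := d11_2 (iv F38854) D12510 (iv D12080)
theorem F41567 : act 7 n12510 = n12094 := d12_2 (iv F38855) D12510 (iv D12094)
def n12511 : Q := act 5 n11867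
theorem D12511 : act 5 n11867 = n12511 := rfl
theorem F41568 : act 1 n12511 = n12112 := d10_1 D12511 (iv D12112) F35715 (iv F34745) (iv F38878)
theorem F41569 : act 2 n12511 = n12284 := d15_1 D12511 (iv F41361) F41358
theorem F41570 : act 3 n12511 = n12281 := d19_1 D12511 F40584 F39828
theorem F41571 : act 4 n12511 = n11868 := d22_1 D12511 (iv D11868) (iv F38879)
def n12512 : Q := act 3 n11869
theorem D12512 : act 3 n11869 = n12512 := rfl
theorem F41572 : act 0 n12512 = n12506 := d2_1 D12512 F41547 F39029
theorem F41573 : act 4 n12512 = n12512 := d18_2 (iv F38883) D12512 (iv D12512) F38883 F34746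
theorem F41574 : act 5 n12512 = n12117 := d19_2 (iv F38884) D12512 (iv D12117)
theorem F41575 : act 7 n12512 = n12504 := d21_2 D11869 D12512 (iv D12504) (iv F38875) F38872
def n12513 : Q := act 3 n11870
theorem D12513 : act 3 n11870 = n12513 := rfl
theorem F41576 : act 1 n12513 = n11908 := d8_1 D12513 (iv D11908) (iv F38885)
theorem F41577 : act 4 n12513 = n12513 := d18_2 (iv F38886) D12513 (iv D12513) F38886 F34756
theorem F41578 : act 7 n12513 = n11894 := d21_2 D11870 D12513 (iv D11894) (iv D10787) (iv F34754)
def n12514 : Q := act 3 n11871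
theorem D12514 : act 3 n11871 = n12514 := rfl
theorem F41579 : act 0 n12514 = n11872 := d2_1 D12514 (iv D11872) (iv F38887)
theorem F41580 : act 1 n12514 = n12340 := d8_1 D12514 F40829 (iv F38888)
theorem F41581 : act 2 n12514 = n11873 := d13_1 D12514 (iv D11873) (iv D10768) (iv F34769) D11871
theorem F41582 : act 5 n12514 = n11876 := d19_2 (iv F38890) D12514 (iv D11876)
theorem F41583 : act 7 n12514 = n12229 := d21_2 (iv F38891) D12514 (iv D12229) F36700 (iv F36562)
def n12515 : Q := act 4 n11872
theorem D12515 : act 4 n11872 = n12515 := rfl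
theorem F41584 : act 1 n12515 = n12303 := d9_1 D12515 (iv D12303) (iv F38892)
theorem F41585 : act 2 n12515 = n11874 := d14_1 D12515 (iv D11874) (iv F38893)
theorem F41586 : act 3 n12515 = n12219 := d18_1 D12515 (iv D12219) (iv D11273) (iv F34774) D11872
theorem F41587 : act 5 n12515 = n11877 := d22_2 (iv F38894) D12515 (iv D11877)
def n12516 : Q := act 4 n11873
theorem D12516 : act 4 n11873 = n12516 := rfl
theorem F41588 : act 0 n12516 = n11874 := d3_1 D12516 (iv D11874) (iv F38895)
theorem F41589 : act 1 n12516 = n12336 := d9_1 D12516 F40818 (iv F38896)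
theorem F41590 : act 5 n12516 = n11879 := d22_2 (iv F38897) D12516 (iv D11879)
def n12517 : Q := act 7 n11873
theorem D12517 : act 7 n11873 = n12517 := rfl
theorem F41591 : act 0 n12517 = n11875 := d6_1 D12517 (iv D11875) (iv F38895)
theorem F41592 : act 1 n12517 = n12265 := d12_1 D12517 F40519 (iv F38896)
theorem F41593 : act 2 n12517 = n12229 := d17_1 D12517 (iv F41583) F41581
theorem F41594 : act 3 n12517 = n12224 := d21_1 D12517 F40323 F39945 F36079 D11873
theorem F41595 : act 5 n12517 = n11880 := d26_1 D12517 (iv D11880) (iv F38897)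
theorem F41596 : act 6 n12517 = n12225 := d27_1 D12517 F40328 F39061 D11922 F39072
def n12518 : Q := act 7 n11874
theorem D12518 : act 7 n11874 = n12518 := rfl
theorem F41597 : act 1 n12518 = n12412 := d12_1 D12518 (iv F41170) F41168
theorem F41598 : act 4 n12518 = n11875 := d24_1 D12518 (iv D11875) D11874
theorem F41599 : act 5 n12518 = n11881 := d26_1 D12518 (iv D11881) (iv F38898)
theorem F41600 : act 6 n12411 = n12518 := d25_0 F41599 (iv F40585) F40584 F39829 (iv F41122)
theorem F41601 : act 3 n12414 = n12518 := d31_29 F41599 (iv D11881) (iv D10774) (iv F34792) F34793 (iv D9293) (iv F29181) D10674 F34457 F31475 (iv F27307) (iv D8559) F22016 (iv D5888) F13655 (iv D4418) D4419 F13658 D4425 D5898 F18472 (iv F18497) D7508 (iv F29054) (iv F33662) (iv F38126) D12413 F41128 D12414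
def n12519 : Q := act 4 n11876
theorem D12519 : act 4 n11876 = n12519 := rfl
theorem F41602 : act 0 n12519 = n11877 := d3_1 D12519 (iv D11877) (iv F38903)
theorem F41603 : act 1 n12519 = n12283 := d9_1 D12519 F40591 (iv F38904)
theorem F41604 : act 2 n12519 = n11879 := d14_1 D12519 (iv D11879) (iv F38905)
theorem F41605 : act 3 n12519 = n12217 := d18_1 D12519 (iv D12217) (iv D11271) (iv F34788) D11876
theorem F41606 : act 6 n12519 = n11886 := d23_2 (iv F38906) D12519 (iv D11886)
def n12520 : Q := act 4 n11878
theorem D12520 : act 4 n11878 = n12520 := rfl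
theorem F41607 : act 0 n12520 = n11914 := d3_1 D12520 (iv D11914) (iv F38911)
theorem F41608 : act 1 n12520 = n11879 := d9_1 D12520 (iv D11879) (iv F38912)
theorem F41609 : act 2 n12520 = n12264 := d14_1 D12520 F40513 (iv F38913)
theorem F41610 : act 5 n12520 = n12267 := d22_2 (iv F38914) D12520 F40529
theorem F41611 : act 6 n12520 = n11890 := d23_2 (iv F38915) D12520 (iv D11890)
theorem F41612 : act 7 n12520 = n12263 := d24_2 (iv F38916) D12520 (iv D12263)
def n12521 : Q := act 7 n11879
theorem D12521 : act 7 n11879 = n12521 := rfl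
theorem F41613 : act 0 n12521 = n11881 := d6_1 D12521 (iv D11881) (iv F38917)
theorem F41614 : act 1 n12521 = n12263 := d12_1 D12521 (iv F41612) F41608
theorem F41615 : act 4 n12521 = n11880 := d24_1 D12521 (iv D11880) D11879
theorem F41616 : act 6 n12521 = n12425 := d27_1 D12521 (iv F41527) F41526 (iv D11893) (iv F38918)
def n12522 : Q := act 3 n11881
theorem D12522 : act 3 n11881 = n12522 := rfl
theorem F41617 : act 1 n12522 = n11917 := d8_1 D12522 (iv D11917) (iv F38923)
theorem F41618 : act 4 n12522 = n12415 := d18_2 (iv F38924) D12522 F41135 F38133 F36617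
theorem F41619 : act 5 n12522 = n12414 := d19_2 F41599 D12522 F41601
theorem F41620 : act 6 n12522 = n12511 := d20_2 F40585 D12522 F41570
def n12523 : Q := act 4 n11882
theorem D12523 : act 4 n11882 = n12523 := rfl
theorem F41621 : act 2 n12523 = n11921 := d14_1 D12523 (iv D11921) (iv F38925)
theorem F41622 : act 3 n12523 = n12210 := d18_1 D12523 (iv D12210) (iv D11262) (iv F34803) D11882
theorem F41623 : act 5 n12523 = n11883 := d22_2 (iv F38926) D12523 (iv D11883)
theorem F41624 : act 6 n12523 = n12304 := d23_2 (iv F38927) D12523 (iv D12304)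
def n12524 : Q := act 7 n11882
theorem D12524 : act 7 n11882 = n12524 := rfl
theorem F41625 : act 0 n12524 = n12209 := d6_1 D12524 (iv F40410) F40405
theorem F41626 : act 2 n12524 = n11922 := d17_1 D12524 (iv D11922) (iv F38925)
theorem F41627 : act 3 n12524 = n12208 := d21_1 D12524 (iv D12208) F36534 (iv F34806) D11882
theorem F41628 : act 5 n12524 = n11884 := d26_1 D12524 (iv D11884) (iv F38926)
theorem F41629 : act 6 n12524 = n12514 := d27_1 D12524 F41583 F40348 (iv F37351) (iv F38927)
def n12525 : Q := act 7 n11883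
theorem D12525 : act 7 n11883 = n12525 := rfl
theorem F41630 : act 0 n12525 = n12477 := d6_1 D12525 F41412 F40418
theorem F41631 : act 1 n12525 = n11888 := d12_1 D12525 (iv D11888) (iv F38928)
theorem F41632 : act 2 n12525 = n11924 := d17_1 D12525 (iv D11924) (iv F38929)
theorem F41633 : act 4 n12525 = n11884 := d24_1 D12525 (iv D11884) D11883
theorem F41634 : act 6 n12525 = n12479 := d27_1 D12525 F41425 F40470 F40310 (iv F38931)
def n12526 : Q := act 7 n11886
theorem D12526 : act 7 n11886 = n12526 := rfl
theorem F41635 : act 0 n12526 = n11888 := d6_1 D12526 (iv D11888) (iv F38942)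
theorem F41636 : act 1 n12526 = n12275 := d12_1 D12526 F40558 (iv F38943)
theorem F41637 : act 2 n12526 = n11893 := d17_1 D12526 (iv D11893) (iv F38944)
theorem F41638 : act 3 n12526 = n12255 := d21_1 D12526 F40474 F37144 (iv F37127) (iv F38945)
theorem F41639 : act 4 n12526 = n11887 := d24_1 D12526 (iv D11887) D11886
theorem F41640 : act 5 n12526 = n12254 := d26_1 D12526 (iv F41425) F41424
def n12527 : Q := act 3 n11888
theorem D12527 : act 3 n11888 = n12527 := rfl
theorem F41641 : act 0 n12527 = n12255 := d2_1 D12527 (iv F41638) F41635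
theorem F41642 : act 4 n12527 = n12252 := d18_2 (iv F38952) D12527 (iv D12252) (iv F37015) F37014
theorem F41643 : act 5 n12527 = n12253 := d19_2 F41430 D12527 (iv F41428)
theorem F41644 : act 6 n12527 = n12526 := d20_2 F40473 D12527 F41638
theorem F41645 : act 7 n12527 = n12277 := d21_2 D11888 D12527 F40565 (iv F38941) F38939
theorem F41646 : act 2 n12501 = n12527 := d17_3 F41645 (iv F41182) (iv F41527)
def n12528 : Q := act 4 n11889
theorem D12528 : act 4 n11889 = n12528 := rfl
theorem F41647 : act 0 n12528 = n11928 := d3_1 D12528 (iv D11928) (iv F38953)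
theorem F41648 : act 1 n12528 = n12282 := d9_1 D12528 (iv D12282) (iv F38954)
theorem F41649 : act 2 n12528 = n11890 := d14_1 D12528 (iv D11890) D11889
theorem F41650 : act 6 n12528 = n12264 := d23_2 (iv F38956) D12528 F40513
theorem F41651 : act 7 n12528 = n12428 := d24_2 F38957 D12528 F41197
def n12529 : Q := act 5 n11890
theorem D12529 : act 5 n11890 = n12529 := rfl
theorem F41652 : act 0 n12529 = n11929 := d4_1 D12529 (iv D11929) (iv F38958)
theorem F41653 : act 4 n12529 = n11891 := d22_1 D12529 (iv D11891) D11890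
theorem F41654 : act 6 n12529 = n12334 := d25_2 F41611 D12529 (iv D12334) (iv F40530) (iv F41610)
def n12530 : Q := act 7 n11890
theorem D12530 : act 7 n11890 = n12530 := rfl
theorem F41655 : act 0 n12530 = n11930 := d6_1 D12530 (iv D11930) (iv F38958)
theorem F41656 : act 1 n12530 = n11893 := d12_1 D12530 (iv D11893) (iv F38959)
theorem F41657 : act 2 n12530 = n12428 := d17_1 D12530 (iv F41651) F41649
theorem F41658 : act 4 n12530 = n11892 := d24_1 D12530 (iv D11892) D11890
theorem F41659 : act 6 n12530 = n12426 := d27_1 D12530 (iv D12426) (iv F40511) (iv F41612) F41611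
def n12531 : Q := act 3 n11893
theorem D12531 : act 3 n11893 = n12531 := rfl
theorem F41660 : act 0 n12531 = n11894 := d2_1 D12531 (iv D11894) (iv F38968)
theorem F41661 : act 4 n12531 = n12531 := d18_2 (iv F38969) D12531 (iv D12531) F38969 F34832
theorem F41662 : act 5 n12531 = n12508 := d19_2 F41435 D12531 F41553
def n12532 : Q := act 2 n11894
theorem D12532 : act 2 n11894 = n12532 := rfl
theorem F41663 : act 3 n12532 = n12501 := d13_2 D11894 D12532 F41646 (iv D12527) F38951
theorem F41664 : act 4 n12532 = n12532 := d14_2 F38971 D12532 (iv D12532)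
theorem F41665 : act 5 n12532 = n12500 := d15_2 F41439 D12532 F41519
theorem F41666 : act 6 n12531 = n12532 := d25_0 F41665 F41521 (iv F39454) D12508 (iv F41662)
def n12533 : Q := act 6 n11894
theorem D12533 : act 6 n11894 = n12533 := rfl
theorem F41667 : act 0 n12533 = n12532 := d5_1 D12533 (iv F41666) F41660
theorem F41668 : act 1 n12533 = n11936 := d11_1 D12533 (iv D11936) (iv F38970)
theorem F41669 : act 2 n12533 = n12531 := d16_1 D12533 F41666 (iv D12532)
theorem F41670 : act 3 n12533 = n11895 := d20_1 D12533 (iv D11895) D11894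
theorem F41671 : act 4 n12533 = n12533 := d23_1 D12533 (iv D12533) F38971
def n12534 : Q := act 4 n11898
theorem D12534 : act 4 n11898 = n12534 := rfl
theorem F41672 : act 0 n12534 = n12230 := d3_1 D12534 (iv D12230) (iv F38983)
theorem F41673 : act 2 n12534 = n12411 := d14_1 D12534 (iv D12411) (iv F38984)
theorem F41674 : act 5 n12534 = n11899 := d22_2 (iv F38985) D12534 (iv D11899)
theorem F41675 : act 7 n12534 = n12374 := d24_2 (iv F38986) D12534 (iv D12374)
def n12535 : Q := act 4 n11900
theorem D12535 : act 4 n11900 = n12535 := rfl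
theorem F41676 : act 0 n12535 = n12338 := d3_1 D12535 F40821 (iv F38991)
theorem F41677 : act 1 n12535 = n11940 := d9_1 D12535 (iv D11940) (iv F38992)
theorem F41678 : act 3 n12535 = n12408 := d18_1 D12535 (iv D12408) (iv D11658) (iv F34855) D11900
theorem F41679 : act 5 n12535 = n11901 := d22_2 (iv F38993) D12535 (iv D11901)
theorem F41680 : act 7 n12535 = n12302 := d24_2 (iv F38994) D12535 F40671
def n12536 : Q := act 4 n11902
theorem D12536 : act 4 n11902 = n12536 := rfl
theorem F41681 : act 0 n12536 = n12268 := d3_1 D12536 (iv D12268) (iv F38999)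
theorem F41682 : act 1 n12536 = n12165 := d9_1 D12536 (iv D12165) (iv F39000)
theorem F41683 : act 2 n12536 = n11903 := d14_1 D12536 (iv D11903) D11902
theorem F41684 : act 3 n12536 = n12520 := d18_1 D12536 (iv D12520) (iv D11878) (iv F35780) (iv F39001)
theorem F41685 : act 6 n12536 = n12294 := d23_2 (iv F39002) D12536 (iv D12294)
def n12537 : Q := act 7 n11903
theorem D12537 : act 7 n11903 = n12537 := rfl
theorem F41686 : act 1 n12537 = n11906 := d12_1 D12537 (iv D11906) (iv F39003)
theorem F41687 : act 4 n12537 = n11905 := d24_1 D12537 (iv D11905) D11903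
theorem F41688 : act 3 n11989 = n12537 := d8_0 F41686 (iv F39014) D11989
def n12538 : Q := act 6 n11906
theorem D12538 : act 6 n11906 = n12538 := rfl
theorem F41689 : act 0 n12538 = n11909 := d5_1 D12538 (iv D11909) (iv F39010)
theorem F41690 : act 2 n12538 = n11976 := d16_1 D12538 (iv D11976) (iv F39011)
theorem F41691 : act 3 n12538 = n11990 := d20_1 D12538 (iv D11990) F39014
theorem F41692 : act 4 n12538 = n11907 := d23_1 D12538 (iv D11907) (iv F39012)
def n12539 : Q := act 6 n11908
theorem D12539 : act 6 n11908 = n12539 := rfl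
theorem F41693 : act 0 n12539 = n11990 := d5_1 D12539 (iv D11990) (iv F39018)
theorem F41694 : act 2 n12539 = n11987 := d16_1 D12539 (iv D11987) (iv F39019)
theorem F41695 : act 3 n12539 = n11909 := d20_1 D12539 (iv D11909) D11908
theorem F41696 : act 4 n12539 = n12539 := d23_1 D12539 (iv D12539) F39020
def n12540 : Q := act 5 n11909
theorem D12540 : act 5 n11909 = n12540 := rfl
theorem F41697 : act 2 n12540 = n12301 := d15_1 D12540 F40667 (iv F39023)
theorem F41698 : act 4 n12540 = n11910 := d22_1 D12540 (iv D11910) (iv F39024)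
theorem F41699 : act 6 n12540 = n11959 := d25_2 D11909 D12540 (iv D11959) (iv D10848) (iv F34880)
theorem F41700 : act 1 n12046 = n12540 := d11_3 F41699 F39220 D12046
def n12541 : Q := act 6 n11911
theorem D12541 : act 6 n11911 = n12541 := rfl
theorem F41701 : act 0 n12541 = n12463 := d5_1 D12541 F41351 (iv F39029)
theorem F41702 : act 1 n12541 = n12481 := d11_1 D12541 F41436 F39455
theorem F41703 : act 2 n12541 = n11918 := d16_1 D12541 (iv D11918) (iv F39030)
theorem F41704 : act 4 n12541 = n11912 := d23_1 D12541 (iv D11912) (iv F39031)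
theorem F41705 : act 7 n12541 = n11926 := d27_2 D11911 D12541 (iv D11926) (iv D10816) (iv F34888)
def n12542 : Q := act 4 n11913
theorem D12542 : act 4 n11913 = n12542 := rfl
theorem F41706 : act 0 n12542 = n12264 := d3_1 D12542 F40513 (iv F39037)
theorem F41707 : act 1 n12542 = n12465 := d9_1 D12542 F41360 (iv F39038)
theorem F41708 : act 2 n12542 = n11914 := d14_1 D12542 (iv D11914) D11913
theorem F41709 : act 3 n12542 = n12528 := d18_1 D12542 (iv D12528) F38955 (iv F35785) (iv F39039)
theorem F41710 : act 5 n12542 = n12270 := d22_2 (iv F39040) D12542 F40540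
theorem F41711 : act 6 n12542 = n11928 := d23_2 (iv F39041) D12542 (iv D11928)
theorem F41712 : act 7 n12542 = n12115 := d24_2 (iv F39042) D12542 F39815
def n12543 : Q := act 3 n11915
theorem D12543 : act 3 n11915 = n12543 := rfl
theorem F41713 : act 0 n12543 = n11917 := d2_1 D12543 (iv D11917) (iv F39045)
theorem F41714 : act 1 n12543 = n12102 := d8_1 D12543 (iv F40491) F40489
theorem F41715 : act 4 n12543 = n12100 := d18_2 (iv F39047) D12543 F39748 (iv F37045) F37044
theorem F41716 : act 5 n12543 = n12428 := d19_2 F39821 D12543 F41196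
theorem F41717 : act 6 n12099 = n12543 := d31_4 D11953 F39202 (iv F39502) (iv F39742) (iv D12543) (iv F39821) (iv D12116) F35737 F30424 (iv D7895) (iv D6232) F14549 (iv D3401) (iv F10446) F10445 (iv D2363) F5050 F5052 (iv F7042) F7040 D2270 D3272 (iv F14090) D6028 D7644 (iv F29540) F29539 (iv F34302) (iv F35000)
def n12544 : Q := act 6 n11915
theorem D12544 : act 6 n11915 = n12544 := rfl
theorem F41718 : act 0 n12544 = n11918 := d5_1 D12544 (iv D11918) (iv F39045)
theorem F41719 : act 1 n12544 = n12101 := d11_1 D12544 (iv F40493) F40489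
theorem F41720 : act 2 n12544 = n12463 := d16_1 D12544 F41351 (iv F39046)
theorem F41721 : act 3 n12544 = n12099 := d20_1 D12544 F41717 (iv D12543)
theorem F41722 : act 4 n12544 = n11916 := d23_1 D12544 (iv D11916) (iv F39047)
theorem F41723 : act 5 n12544 = n12431 := d25_1 D12544 (iv D12431) (iv F41190) (iv F41192) F39821
theorem F41724 : act 7 n12544 = n11934 := d27_2 D11915 D12544 (iv D11934) (iv D10823) (iv F34896)
def n12545 : Q := act 2 n11917
theorem D12545 : act 2 n11917 = n12545 := rfl
theorem F41725 : act 4 n12545 = n11932 := d14_2 (iv F39053) D12545 F39108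
theorem F41726 : act 5 n12545 = n11930 := d15_2 (iv F39054) D12545 F39100
theorem F41727 : act 7 n12545 = n11929 := d17_2 F40547 D12545 F40548
theorem F41728 : act 1 n12545 = n11981 := d28_4 F34897 (iv F34899) D11917 D12545 F39291 D11983 (iv F41368) F41371 F38581 F38580 F35689 D11051 (iv F35927) F35923 (iv F35694) (iv D11049) F30391 (iv F29032) (iv F34242) D11783 (iv F41318) F41320 F38480 F34147 (iv F37058) (iv F40017) F40018 (iv F40008) F40010 D12332 (iv F41229) F41228 F38756 F34584 (iv F31125) D11161 F36172 (iv F38794) (iv F41497) F41500 (iv F41616) F41613 F38924 (iv F36617) F36616 F33048 (iv F36788) (iv D11323) F31767 (iv F35809) (iv F39837) (iv F41295) (iv D12451) (iv D11751) (iv D10580) F28890 (iv F28983) D10599 D11767 (iv F39722) F39725 (iv D11916)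
def n12546 : Q := act 4 n11919
theorem D12546 : act 4 n11919 = n12546 := rfl
theorem F41729 : act 0 n12546 = n12320 := d3_1 D12546 (iv D12320) (iv F39057)
theorem F41730 : act 1 n12546 = n11965 := d9_1 D12546 (iv D11965) (iv F39058)
theorem F41731 : act 2 n12546 = n12304 := d14_1 D12546 (iv D12304) (iv F39059)
theorem F41732 : act 5 n12546 = n12305 := d22_2 (iv F39060) D12546 (iv D12305)
theorem F41733 : act 6 n12546 = n11921 := d23_2 (iv F39061) D12546 (iv D11921)
def n12547 : Q := act 4 n11920
theorem D12547 : act 4 n11920 = n12547 := rfl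
theorem F41734 : act 0 n12547 = n11921 := d3_1 D12547 (iv D11921) (iv F39062)
theorem F41735 : act 5 n12547 = n11923 := d22_2 (iv F39063) D12547 (iv D11923)
theorem F41736 : act 6 n12547 = n12320 := d23_2 (iv F39064) D12547 (iv D12320)
theorem F41737 : act 7 n12547 = n12476 := d24_2 (iv F39065) D12547 (iv D12476)
def n12548 : Q := act 7 n11921
theorem D12548 : act 7 n11921 = n12548 := rfl
theorem F41738 : act 0 n12548 = n12476 := d6_1 D12548 (iv F41737) F41734
theorem F41739 : act 1 n12548 = n11973 := d12_1 D12548 (iv D11973) (iv F39066)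
theorem F41740 : act 4 n12548 = n11922 := d24_1 D12548 (iv D11922) D11921
theorem F41741 : act 5 n12548 = n11924 := d26_1 D12548 (iv D11924) (iv F39067)
theorem F41742 : act 6 n12516 = n12548 := d25_0 F41741 (iv F39079) F38703 (iv F38918) (iv F41590)
def n12549 : Q := act 3 n11924
theorem D12549 : act 3 n11924 = n12549 := rfl
theorem F41743 : act 0 n12549 = n12475 := d2_1 D12549 F41405 (iv F39076)
theorem F41744 : act 1 n12549 = n11925 := d8_1 D12549 (iv D11925) (iv F39077)
theorem F41745 : act 4 n12549 = n11949 := d18_2 (iv F39078) D12549 F39180 F37212 (iv F34918)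
theorem F41746 : act 6 n12549 = n12292 := d20_2 F39079 D12549 F40626
theorem F41747 : act 7 n12549 = n11947 := d21_2 D11924 D12549 F39173 (iv F36765) F36763
theorem F41748 : act 2 n12293 = n12549 := d17_3 F41747 (iv F41176) F41179
def n12550 : Q := act 6 n11925
theorem D12550 : act 6 n11925 = n12550 := rfl
theorem F41749 : act 0 n12550 = n11952 := d5_1 D12550 (iv D11952) (iv F39080)
theorem F41750 : act 1 n12550 = n12292 := d11_1 D12550 (iv F41746) F41744
theorem F41751 : act 2 n12550 = n11956 := d16_1 D12550 (iv D11956) F39084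
theorem F41752 : act 3 n12550 = n11926 := d20_1 D12550 (iv D11926) D11925
theorem F41753 : act 4 n12550 = n11951 := d23_1 D12550 (iv D11951) (iv F39081)
theorem F41754 : act 7 n12550 = n12034 := d27_2 (iv F39083) D12550 F39494 F35714 F35622
def n12551 : Q := act 5 n11926
theorem D12551 : act 5 n11926 = n12551 := rfl
theorem F41755 : act 0 n12551 = n12104 := d4_1 D12551 F39764 (iv F39085)
theorem F41756 : act 1 n12551 = n12529 := d10_1 D12551 (iv D12529) F38959 (iv F38703) (iv F39086)
theorem F41757 : act 2 n12551 = n11937 := d15_1 D12551 (iv D11937) (iv F39087)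
theorem F41758 : act 4 n12551 = n11927 := d22_1 D12551 (iv D11927) (iv F39088)
theorem F41759 : act 6 n12551 = n11977 := d25_2 D11926 D12551 (iv D11977) (iv D10869) (iv F34923)
def n12552 : Q := act 6 n11929
theorem D12552 : act 6 n11929 = n12552 := rfl
theorem F41760 : act 0 n12552 = n12334 := d5_1 D12552 (iv F41654) F41652
theorem F41761 : act 1 n12552 = n11980 := d11_1 D12552 (iv D11980) (iv F39097)
theorem F41762 : act 3 n12552 = n12111 := d20_1 D12552 (iv F41220) F41217
theorem F41763 : act 4 n12552 = n11931 := d23_1 D12552 (iv D11931) (iv F39098)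
theorem F41764 : act 5 n12552 = n12333 := d25_1 D12552 F40806 F40487 F39044 D11929
def n12553 : Q := act 3 n11930
theorem D12553 : act 3 n11930 = n12553 := rfl
theorem F41765 : act 1 n12553 = n11933 := d8_1 D12553 (iv D11933) (iv F39099)
theorem F41766 : act 4 n12553 = n12553 := d18_2 (iv F39101) D12553 (iv D12553) F39101 F34936
theorem F41767 : act 6 n12553 = n12473 := d20_2 F39102 D12553 (iv D12473)
theorem F41768 : act 7 n12553 = n11989 := d21_2 D11930 D12553 F41688 (iv D12537) F39004
def n12554 : Q := act 6 n11933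
theorem D12554 : act 6 n11933 = n12554 := rfl
theorem F41769 : act 0 n12554 = n11936 := d5_1 D12554 (iv D11936) (iv F39111)
theorem F41770 : act 1 n12554 = n12473 := d11_1 D12554 (iv F41767) F41765
theorem F41771 : act 2 n12554 = n11958 := d16_1 D12554 (iv D11958) (iv F39112)
theorem F41772 : act 3 n12554 = n11934 := d20_1 D12554 (iv D11934) D11933
theorem F41773 : act 4 n12554 = n12554 := d23_1 D12554 (iv D12554) F39113
def n12555 : Q := act 1 n11935
theorem D12555 : act 1 n11935 = n12555 := rfl
theorem F41774 : act 3 n12555 = n11954 := d8_2 (iv F39121) D12555 F39203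
theorem F41775 : act 4 n12555 = n12555 := d9_2 F39122 D12555 (iv D12555)
theorem F41776 : act 7 n12555 = n11982 := d12_2 (iv F39124) D12555 F39292
theorem F41777 : act 6 n12117 = n12555 := d20_0 F41774 F39205 D12117
def n12556 : Q := act 6 n11935
theorem D12556 : act 6 n11935 = n12556 := rfl
theorem F41778 : act 0 n12556 = n11958 := d5_1 D12556 (iv D11958) (iv F39120)
theorem F41779 : act 1 n12556 = n12117 := d11_1 D12556 F41777 (iv D12555)
theorem F41780 : act 2 n12556 = n11936 := d16_1 D12556 (iv D11936) D11935
theorem F41781 : act 3 n12556 = n11956 := d20_1 D12556 (iv D11956) (iv F39121)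
theorem F41782 : act 4 n12556 = n12556 := d23_1 D12556 (iv D12556) F39122
def n12557 : Q := act 5 n11936
theorem D12557 : act 5 n11936 = n12557 := rfl
theorem F41783 : act 3 n12557 = n11937 := d19_1 D12557 (iv D11937) (iv F39125)
theorem F41784 : act 4 n12557 = n12557 := d22_1 D12557 (iv D12557) F39126
theorem F41785 : act 6 n12557 = n11991 := d25_2 D11936 D12557 (iv D11991) (iv D10882) (iv F34953)
theorem F41786 : act 7 n12557 = n12556 := d31_1 D12557 F41782 F41780 (iv D11936) (iv D10825) F29784 (iv D7742) (iv D6121) (iv F19195) (iv F19423) (iv D6201) (iv F19420) (iv D6200) (iv F19385) F19384 F14468 F14466 (iv D4680) D4681 F14471 (iv F14492) F14493 D6118 (iv F24416) D9323 (iv F34922) F34921 D10826 (iv F39125)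
def n12558 : Q := act 7 n11936
theorem D12558 : act 7 n11936 = n12558 := rfl
theorem F41787 : act 2 n12558 = n12557 := d17_1 D12558 F41786 F41780
theorem F41788 : act 4 n12558 = n12558 := d24_1 D12558 (iv D12558) F39126
theorem F41789 : act 5 n12558 = n12556 := d26_1 D12558 (iv F41786) (iv D12557)
def n12559 : Q := act 4 n11938
theorem D12559 : act 4 n11938 = n12559 := rfl
theorem F41790 : act 0 n12559 = n12234 := d3_1 D12559 (iv D12234) (iv F39129)
theorem F41791 : act 2 n12559 = n12488 := d14_1 D12559 (iv D12488) (iv F39130)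
theorem F41792 : act 3 n12559 = n12547 := d18_1 D12559 (iv D12547) (iv D11920) (iv F34958) D11938
theorem F41793 : act 5 n12559 = n12235 := d22_2 (iv F39131) D12559 (iv D12235)
theorem F41794 : act 6 n12559 = n11940 := d23_2 (iv F39132) D12559 (iv D11940)
def n12560 : Q := act 4 n11939
theorem D12560 : act 4 n11939 = n12560 := rfl
theorem F41795 : act 0 n12560 = n11940 := d3_1 D12560 (iv D11940) (iv F39133)
theorem F41796 : act 1 n12560 = n12407 := d9_1 D12560 F41102 (iv F39134)
theorem F41797 : act 2 n12560 = n12437 := d14_1 D12560 (iv D12437) (iv F39135)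
theorem F41798 : act 3 n12560 = n12546 := d18_1 D12560 (iv D12546) (iv D11919) (iv F34964) D11939
theorem F41799 : act 5 n12560 = n11944 := d22_2 (iv F39136) D12560 (iv D11944)
theorem F41800 : act 6 n12560 = n12234 := d23_2 (iv F39137) D12560 (iv D12234)
theorem F41801 : act 7 n12560 = n12357 := d24_2 (iv F39138) D12560 (iv D12357)
def n12561 : Q := act 7 n11940
theorem D12561 : act 7 n11940 = n12561 := rfl
theorem F41802 : act 0 n12561 = n12357 := d6_1 D12561 (iv F41801) F41795
theorem F41803 : act 1 n12561 = n12302 := d12_1 D12561 (iv F41680) F41677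
theorem F41804 : act 2 n12561 = n12031 := d17_1 D12561 (iv F41459) F41456
theorem F41805 : act 3 n12561 = n12366 := d21_1 D12561 F40949 (iv F41121) F41123 F40753
theorem F41806 : act 4 n12561 = n11941 := d24_1 D12561 (iv D11941) D11940
theorem F41807 : act 5 n12561 = n11945 := d26_1 D12561 (iv D11945) (iv F39139)
theorem F41808 : act 6 n12359 = n12561 := d25_0 F41807 F39166 F35292 (iv F37941) (iv F40913)
def n12562 : Q := act 4 n11942
theorem D12562 : act 4 n11942 = n12562 := rfl
theorem F41809 : act 0 n12562 = n11947 := d3_1 D12562 (iv D11947) (iv F39146)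
theorem F41810 : act 1 n12562 = n11944 := d9_1 D12562 (iv D11944) (iv F39147)
theorem F41811 : act 2 n12562 = n12439 := d14_1 D12562 (iv D12439) (iv F39148)
theorem F41812 : act 3 n12562 = n11962 := d18_1 D12562 (iv D11962) F35028 (iv F34970) D11942
theorem F41813 : act 6 n12562 = n11997 := d23_2 (iv F39149) D12562 F39331
theorem F41814 : act 7 n12562 = n12475 := d24_2 (iv F39150) D12562 (iv D12475)
def n12563 : Q := act 5 n11942
theorem D12563 : act 5 n11942 = n12563 := rfl
theorem F41815 : act 0 n12563 = n11948 := d4_1 D12563 (iv D11948) (iv F39146)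
theorem F41816 : act 1 n12563 = n12060 := d10_1 D12563 F39578 (iv F39134) F39136 (iv F39147)
theorem F41817 : act 2 n12563 = n12440 := d15_1 D12563 (iv D12440) (iv F39148)
theorem F41818 : act 3 n12563 = n11943 := d19_1 D12563 (iv D11943) D11942
theorem F41819 : act 6 n12563 = n12058 := d25_2 (iv F39149) D12563 F39574 D12079 F39653
theorem F41820 : act 7 n12563 = n12159 := d26_2 (iv F39150) D12563 F40035
def n12564 : Q := act 5 n11946
theorem D12564 : act 5 n11946 = n12564 := rfl
theorem F41821 : act 0 n12564 = n12440 := d4_1 D12564 (iv D12440) (iv F39167)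
theorem F41822 : act 2 n12564 = n11948 := d15_1 D12564 (iv D11948) D11946
theorem F41823 : act 3 n12564 = n12049 := d19_1 D12564 (iv D12049) (iv F39169)
theorem F41824 : act 6 n12564 = n12460 := d25_2 (iv F39170) D12564 (iv D12460) (iv D11768) (iv F35679)
theorem F41825 : act 7 n12564 = n12178 := d26_2 F39171 D12564 F40100
def n12565 : Q := act 5 n11947
theorem D12565 : act 5 n11947 = n12565 := rfl
theorem F41826 : act 1 n12565 = n12177 := d10_1 D12565 F40098 (iv F38056) F38059 (iv F39172)
theorem F41827 : act 3 n12565 = n11969 := d19_1 D12565 F39247 (iv F39173)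
theorem F41828 : act 4 n12565 = n11948 := d22_1 D12565 (iv D11948) D11947
def n12566 : Q := act 6 n11948
theorem D12566 : act 6 n11948 = n12566 := rfl
theorem F41829 : act 0 n12566 = n12058 := d5_1 D12566 (iv F41819) F41815
theorem F41830 : act 1 n12566 = n12178 := d11_1 D12566 (iv D12178) (iv F39175)
theorem F41831 : act 2 n12566 = n12460 := d16_1 D12566 (iv F41824) F41822
theorem F41832 : act 3 n12566 = n11950 := d20_1 D12566 (iv D11950) (iv F39176)
theorem F41833 : act 5 n12566 = n12076 := d25_1 D12566 F39642 F38503 F35645 D11948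
def n12567 : Q := act 7 n11948
theorem D12567 : act 7 n11948 = n12567 := rfl
theorem F41834 : act 0 n12567 = n12159 := d6_1 D12567 (iv F41820) F41815
theorem F41835 : act 1 n12567 = n12176 := d12_1 D12567 F40097 (iv F39175)
theorem F41836 : act 2 n12567 = n12178 := d17_1 D12567 (iv F41825) F41822
theorem F41837 : act 3 n12567 = n12158 := d21_1 D12567 F40034 F36309 (iv F34986) (iv F39176)
theorem F41838 : act 5 n12567 = n11949 := d26_1 D12567 (iv D11949) D11948
theorem F41839 : act 6 n12567 = n12161 := d30_6 F19801 D7973 (iv F30064) (iv F34984) (iv F39176) D12567 F40043 (iv F39000) (iv D11902) (iv D10796) F29725 (iv F32114) (iv F37036) F37033 F32223 D11420 (iv F38201) (iv F39554) (iv F40999) F40996 F37891 (iv D10448) (iv D8897) (iv F26622) (iv D8368) F21259 F21260 (iv F17088) (iv F19802)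
def n12568 : Q := act 5 n11951
theorem D12568 : act 5 n11951 = n12568 := rfl
theorem F41840 : act 0 n12568 = n11953 := d4_1 D12568 (iv D11953) (iv F39188)
theorem F41841 : act 1 n12568 = n12295 := d10_1 D12568 (iv D12295) (iv D11426) (iv F37195) (iv F39189)
theorem F41842 : act 2 n12568 = n11957 := d15_1 D12568 (iv D11957) (iv F39190)
theorem F41843 : act 3 n12568 = n12139 := d19_1 D12568 F39920 (iv F39191)
theorem F41844 : act 6 n12568 = n12300 := d25_2 D11951 D12568 F40663 F37286 (iv F34993)
theorem F41845 : act 7 n12568 = n12035 := d26_2 (iv F39192) D12568 (iv D12035)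
def n12569 : Q := act 5 n11952
theorem D12569 : act 5 n11952 = n12569 := rfl
theorem F41846 : act 1 n12569 = n12105 := d10_1 D12569 F39769 F38615 (iv F35292) (iv F39193)
theorem F41847 : act 2 n12569 = n11959 := d15_1 D12569 (iv D11959) (iv F39194)
theorem F41848 : act 3 n12569 = n12104 := d19_1 D12569 F39764 (iv F39195)
theorem F41849 : act 4 n12569 = n11953 := d22_1 D12569 (iv D11953) (iv F39196)
theorem F41850 : act 6 n12569 = n12301 := d25_2 D11952 D12569 F40667 F37291 (iv F34997)
theorem F41851 : act 7 n12569 = n12037 := d26_2 (iv F39197) D12569 (iv D12037)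
def n12570 : Q := act 5 n11956
theorem D12570 : act 5 n11956 = n12570 := rfl
theorem F41852 : act 0 n12570 = n11959 := d4_1 D12570 (iv D11959) (iv F39210)
theorem F41853 : act 3 n12570 = n12558 := d19_1 D12570 F41789 F41781
theorem F41854 : act 4 n12570 = n11957 := d22_1 D12570 (iv D11957) (iv F39212)
theorem F41855 : act 7 n12570 = n12112 := d26_2 (iv F39213) D12570 (iv D12112)
def n12571 : Q := act 5 n11958
theorem D12571 : act 5 n11958 = n12571 := rfl
theorem F41856 : act 0 n12571 = n12558 := d4_1 D12571 F41789 F41778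
theorem F41857 : act 1 n12571 = n12044 := d10_1 D12571 (iv D12044) F35321 (iv F35317) (iv F39217)
theorem F41858 : act 3 n12571 = n11959 := d19_1 D12571 (iv D11959) (iv F39218)
theorem F41859 : act 4 n12571 = n12571 := d22_1 D12571 (iv D12571) F39219
theorem F41860 : act 7 n12571 = n12554 := d31_1 D12571 F41773 F41771 (iv D11958) (iv D10847) (iv F34880) (iv D10800) (iv D9308) (iv F29720) (iv F32111) (iv D10008) (iv F32093) F32095 F32044 F29513 F29467 F29465 (iv D9230) (iv F26014) F26013 D8428 F26826 D9305 F29721 D9339 (iv F34996) F34994 D10848 (iv F39218)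
def n12572 : Q := act 7 n11958
theorem D12572 : act 7 n11958 = n12572 := rfl
theorem F41861 : act 0 n12572 = n12557 := d6_1 D12572 F41786 F41778
theorem F41862 : act 1 n12572 = n12040 := d12_1 D12572 (iv D12040) (iv F39217)
theorem F41863 : act 2 n12572 = n12571 := d17_1 D12572 F41860 F41771
theorem F41864 : act 3 n12572 = n12461 := d21_1 D12572 F41345 F41209 F38299 (iv F39218)
theorem F41865 : act 4 n12572 = n12572 := d24_1 D12572 (iv D12572) F39219
theorem F41866 : act 5 n12572 = n12554 := d26_1 D12572 (iv F41860) (iv D12571)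
theorem F41867 : act 6 n12572 = n11992 := d27_1 D12572 (iv D11992) (iv D10882) (iv F35020) D11958
def n12573 : Q := act 4 n11960
theorem D12573 : act 4 n11960 = n12573 := rfl
theorem F41868 : act 0 n12573 = n11969 := d3_1 D12573 (iv D11969) (iv F39222)
theorem F41869 : act 1 n12573 = n12065 := d9_1 D12573 F39589 F39227
theorem F41870 : act 2 n12573 = n11961 := d14_1 D12573 (iv D11961) D11960
theorem F41871 : act 5 n12573 = n11962 := d22_2 (iv F39224) D12573 (iv D11962)
theorem F41872 : act 6 n12573 = n12064 := d23_2 (iv F39225) D12573 (iv D12064)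
theorem F41873 : act 7 n12573 = n12559 := d24_2 (iv F39226) D12573 (iv D12559)
def n12574 : Q := act 4 n11963
theorem D12574 : act 4 n11963 = n12574 := rfl
theorem F41874 : act 0 n12574 = n11965 := d3_1 D12574 (iv D11965) (iv F39233)
theorem F41875 : act 2 n12574 = n12065 := d14_1 D12574 F39589 (iv F39234)
theorem F41876 : act 5 n12574 = n12450 := d22_2 (iv F39235) D12574 F41293
theorem F41877 : act 6 n12574 = n11971 := d23_2 (iv F39236) D12574 (iv D11971)
def n12575 : Q := act 4 n11964
theorem D12575 : act 4 n11964 = n12575 := rfl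
theorem F41878 : act 0 n12575 = n11968 := d3_1 D12575 (iv D11968) (iv F39237)
theorem F41879 : act 1 n12575 = n12390 := d9_1 D12575 (iv D12390) (iv F39238)
theorem F41880 : act 5 n12575 = n12438 := d22_2 (iv F39239) D12575 F41245
theorem F41881 : act 6 n12575 = n12401 := d23_2 (iv F39240) D12575 (iv D12401)
theorem F41882 : act 7 n12575 = n12019 := d24_2 (iv F39241) D12575 F39431
def n12576 : Q := act 7 n11965
theorem D12576 : act 7 n11965 = n12576 := rfl
theorem F41883 : act 4 n12576 = n11966 := d24_1 D12576 (iv D11966) D11965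
def n12577 : Q := act 4 n11967
theorem D12577 : act 4 n11967 = n12577 := rfl
theorem F41884 : act 2 n12577 = n11968 := d14_1 D12577 (iv D11968) D11967
theorem F41885 : act 6 n12577 = n12498 := d23_2 (iv F39243) D12577 (iv D12498)
def n12578 : Q := act 4 n11970
theorem D12578 : act 4 n11970 = n12578 := rfl
theorem F41886 : act 1 n12578 = n11971 := d9_1 D12578 (iv D11971) (iv F39248)
theorem F41887 : act 5 n12578 = n12375 := d22_2 (iv F39249) D12578 (iv D12375)
def n12579 : Q := act 7 n11970
theorem D12579 : act 7 n11970 = n12579 := rfl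
theorem F41888 : act 0 n12579 = n12332 := d6_1 D12579 (iv F41112) F41107
theorem F41889 : act 1 n12579 = n11972 := d12_1 D12579 (iv D11972) (iv F39248)
theorem F41890 : act 2 n12579 = n12008 := d17_1 D12579 (iv F41065) F41062
theorem F41891 : act 3 n12579 = n12152 := d21_1 D12579 F39999 F36194 (iv F35054) D11970
theorem F41892 : act 5 n12579 = n12324 := d26_1 D12579 F40776 (iv F39249)
theorem F41893 : act 6 n12579 = n12006 := d27_1 D12579 (iv F40935) F40934 (iv F40846) F40845
def n12580 : Q := act 7 n11971
theorem D12580 : act 7 n11971 = n12580 := rfl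
theorem F41894 : act 0 n12580 = n11973 := d6_1 D12580 (iv D11973) (iv F39250)
theorem F41895 : act 2 n12580 = n12063 := d17_1 D12580 F39586 (iv F39251)
theorem F41896 : act 4 n12580 = n11972 := d24_1 D12580 (iv D11972) D11971
theorem F41897 : act 5 n12580 = n11974 := d26_1 D12580 (iv D11974) (iv F39252)
theorem F41898 : act 3 n12330 = n12580 := d19_3 F41897 (iv F39265) D12330
theorem F41899 : act 6 n12192 = n12580 := d25_0 F41897 F39264 F36187 D11227 D12192
def n12581 : Q := act 3 n11973
theorem D12581 : act 3 n11973 = n12581 := rfl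
theorem F41900 : act 0 n12581 = n12330 := d2_1 D12581 F41898 F41894
theorem F41901 : act 4 n12581 = n12176 := d18_2 (iv F39258) D12581 (iv D12176) F36315 (iv F35059)
theorem F41902 : act 5 n12581 = n11975 := d19_2 (iv F39259) D12581 (iv D11975)
theorem F41903 : act 7 n12581 = n12177 := d21_2 D11973 D12581 (iv F41098) F41100 F38048
def n12582 : Q := act 2 n11975
theorem D12582 : act 2 n11975 = n12582 := rfl
theorem F41904 : act 0 n12582 = n12167 := d1_1 D12582 F40064 (iv F39266)
theorem F41905 : act 4 n12582 = n12166 := d14_2 (iv F39268) D12582 F40060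
theorem F41906 : act 6 n12582 = n12328 := d16_2 (iv F39269) D12582 F40791
theorem F41907 : act 7 n12582 = n12165 := d17_2 (iv F39270) D12582 F40055
def n12583 : Q := act 5 n11976
theorem D12583 : act 5 n11976 = n12583 := rfl
theorem F41908 : act 0 n12583 = n12301 := d4_1 D12583 F40667 (iv F39271)
theorem F41909 : act 3 n12583 = n11977 := d19_1 D12583 (iv D11977) (iv F39273)
theorem F41910 : act 4 n12583 = n12300 := d22_1 D12583 F40663 (iv F39274)
theorem F41911 : act 7 n12583 = n12552 := d26_2 F40807 D12583 F41764
def n12584 : Q := act 6 n11978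
theorem D12584 : act 6 n11978 = n12584 := rfl
theorem F41912 : act 0 n12584 = n12109 := d5_1 D12584 (iv D12109) (iv F39278)
theorem F41913 : act 1 n12584 = n12299 := d11_1 D12584 F40659 (iv F39279)
theorem F41914 : act 2 n12584 = n11983 := d16_1 D12584 (iv D11983) (iv F39280)
theorem F41915 : act 4 n12584 = n11979 := d23_1 D12584 (iv D11979) (iv F39281)
theorem F41916 : act 7 n12584 = n12467 := d27_2 D11978 D12584 (iv D12467) F38577 (iv F35083)
def n12585 : Q := act 5 n11979
theorem D12585 : act 5 n11979 = n12585 := rfl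
theorem F41917 : act 0 n12585 = n12110 := d4_1 D12585 (iv D12110) (iv F39282)
theorem F41918 : act 1 n12585 = n12271 := d10_1 D12585 (iv F40648) F40645 F38147 (iv F39283)
theorem F41919 : act 2 n12585 = n11986 := d15_1 D12585 (iv D11986) (iv F39284)
theorem F41920 : act 3 n12585 = n12140 := d19_1 D12585 (iv D12140) (iv F39285)
theorem F41921 : act 6 n12585 = n12269 := d25_2 D11979 D12585 F40537 (iv D12069) F35455
theorem F41922 : act 7 n12585 = n12468 := d26_2 (iv F39286) D12585 (iv D12468)
def n12586 : Q := act 7 n11980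
theorem D12586 : act 7 n11980 = n12586 := rfl
theorem F41923 : act 0 n12586 = n12111 := d6_1 D12586 F39796 F39772
theorem F41924 : act 1 n12586 = n12583 := d12_1 D12586 F41911 F41761
theorem F41925 : act 2 n12586 = n12472 := d17_1 D12586 F41394 F39671
theorem F41926 : act 3 n12586 = n12334 := d21_1 D12586 F40810 F40666 F38877 (iv F39287)
theorem F41927 : act 4 n12586 = n11984 := d24_1 D12586 (iv D11984) (iv F39288)
theorem F41928 : act 5 n12586 = n12107 := d26_1 D12586 (iv D12107) (iv F39289)
def n12587 : Q := act 3 n11981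
theorem D12587 : act 3 n11981 = n12587 := rfl
theorem F41929 : act 0 n12587 = n12043 := d2_1 D12587 F39686 F39682
theorem F41930 : act 2 n12587 = n12041 := d13_1 D12587 (iv D12041) (iv F35475) (iv F39601) F39600
theorem F41931 : act 4 n12587 = n12587 := d18_2 (iv F39290) D12587 (iv D12587) F39290 F35093
theorem F41932 : act 5 n12587 = n11982 := d19_2 (iv F39291) D12587 (iv D11982)
def n12588 : Q := act 6 n11981
theorem D12588 : act 6 n11981 = n12588 := rfl
theorem F41933 : act 4 n12588 = n11985 := d23_1 D12588 (iv D11985) (iv F39290)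
def n12589 : Q := act 2 n11982
theorem D12589 : act 2 n11982 = n12589 := rfl
theorem F41934 : act 0 n12589 = n12044 := d1_1 D12589 (iv F41365) F41363
theorem F41935 : act 3 n12589 = n12042 := d13_2 D11982 D12589 (iv F39613) F39614 F39280
theorem F41936 : act 4 n12589 = n12589 := d14_2 F39293 D12589 (iv D12589)
theorem F41937 : act 5 n12589 = n12041 := d15_2 F41932 D12589 (iv F41930)
def n12590 : Q := act 6 n11982
theorem D12590 : act 6 n11982 = n12590 := rfl
theorem F41938 : act 1 n12590 = n11987 := d11_1 D12590 (iv D11987) (iv F39292)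
theorem F41939 : act 3 n12590 = n11983 := d20_1 D12590 (iv D11983) D11982
theorem F41940 : act 4 n12590 = n12590 := d23_1 D12590 (iv D12590) F39293
def n12591 : Q := act 5 n11983
theorem D12591 : act 5 n11983 = n12591 := rfl
theorem F41941 : act 4 n12591 = n11986 := d22_1 D12591 (iv D11986) (iv F39295)
def n12592 : Q := act 0 n11989
theorem D12592 : act 0 n11989 = n12592 := rfl
theorem F41942 : act 4 n12592 = n12592 := d3_2 F39309 D12592 (iv D12592)
def n12593 : Q := act 6 n11989
theorem D12593 : act 6 n11989 = n12593 := rfl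
theorem F41943 : act 1 n12593 = n11990 := d11_1 D12593 (iv D11990) D11989
theorem F41944 : act 4 n12593 = n12593 := d23_1 D12593 (iv D12593) F39309
def n12594 : Q := act 5 n11990
theorem D12594 : act 5 n11990 = n12594 := rfl
theorem F41945 : act 2 n12594 = n11991 := d15_1 D12594 (iv D11991) (iv F39310)
theorem F41946 : act 4 n12594 = n12594 := d22_1 D12594 (iv D12594) F39311
theorem F41947 : act 6 n12594 = n12558 := d25_2 D11990 D12594 F41789 (iv D12556) F39123
theorem F41948 : act 7 n12594 = n12539 := d31_1 D12594 F41696 F41694 (iv D11987) (iv D10878) (iv F34947) (iv D10823) (iv D9326) F24420 D9266 F29577 F24231 F19504 (iv F24850) F24849 (iv D6216) D6215 F19463 F14527 D6218 (iv F24871) F24872 D9337 (iv F33593) (iv F34693) (iv F35073) (iv F39011) D12538 F41691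
def n12595 : Q := act 7 n11990
theorem D12595 : act 7 n11990 = n12595 := rfl
theorem F41949 : act 0 n12595 = n12594 := d6_1 D12595 F41948 F41693
theorem F41950 : act 2 n12595 = n11992 := d17_1 D12595 (iv D11992) (iv F39310)
theorem F41951 : act 4 n12595 = n12595 := d24_1 D12595 (iv D12595) F39311
theorem F41952 : act 5 n12595 = n12539 := d26_1 D12595 (iv F41948) (iv D12594)
theorem F41953 : act 6 n12595 = n12571 := d27_1 D12595 F41860 (iv D12554) F39115 D11990
theorem F41954 : act 3 n12540 = n12595 := d20_3 F41953 F41858 (iv F41699)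
def n12596 : Q := act 1 n11991
theorem D12596 : act 1 n11991 = n12596 := rfl
theorem F41955 : act 3 n12596 = n11993 := d8_2 (iv F39312) D12596 (iv D11993)
theorem F41956 : act 4 n12596 = n12596 := d9_2 F39313 D12596 (iv D12596)
theorem F41957 : act 7 n12596 = n12590 := d12_2 F39314 D12596 F41938
def n12597 : Q := act 2 n11993
theorem D12597 : act 2 n11993 = n12597 := rfl
theorem F41958 : act 4 n12597 = n11994 := d14_2 (iv F39319) D12597 (iv D11994)
theorem F41959 : act 7 n12597 = n12046 := d17_2 (iv F39707) D12597 (iv F39705)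
def n12598 : Q := act 6 n11998
theorem D12598 : act 6 n11998 = n12598 := rfl
theorem F41960 : act 0 n12598 = n12012 := d5_1 D12598 F39402 (iv F39333)
theorem F41961 : act 1 n12598 = n12034 := d11_1 D12598 F39494 (iv F39334)
theorem F41962 : act 2 n12598 = n12114 := d16_1 D12598 (iv D12114) (iv F39335)
theorem F41963 : act 3 n12598 = n12047 := d20_1 D12598 (iv D12047) (iv F39336)
theorem F41964 : act 4 n12598 = n12011 := d23_1 D12598 F39398 (iv F39337)
theorem F41965 : act 7 n12598 = n12292 := d27_2 D11998 D12598 (iv F41746) F41747 F39174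
theorem F41966 : act 5 n12291 = n12598 := d26_3 F41965 F40627 (iv F40623)
def n12599 : Q := act 4 n12001
theorem D12599 : act 4 n12001 = n12599 := rfl
theorem F41967 : act 0 n12599 = n12015 := d3_1 D12599 (iv D12015) (iv F39348)
theorem F41968 : act 1 n12599 = n12487 := d9_1 D12599 (iv D12487) (iv F39349)
theorem F41969 : act 5 n12599 = n12002 := d22_2 (iv F39350) D12599 (iv D12002)
theorem F41970 : act 6 n12599 = n12307 := d23_2 (iv F39351) D12599 (iv D12307)
theorem F41971 : act 7 n12599 = n12007 := d24_2 (iv F39352) D12599 (iv D12007)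
def n12600 : Q := act 5 n12003
theorem D12600 : act 5 n12003 = n12600 := rfl
theorem F41972 : act 0 n12600 = n12031 := d4_1 D12600 (iv D12031) (iv F39357)
theorem F41973 : act 1 n12600 = n12308 := d10_1 D12600 F40697 F37414 (iv F38328) (iv F39358)
theorem F41974 : act 2 n12600 = n12357 := d15_1 D12600 F40904 (iv F39359)
theorem F41975 : act 3 n12600 = n12599 := d19_1 D12600 F41969 (iv F39360)
theorem F41976 : act 4 n12600 = n12004 := d22_1 D12600 (iv D12004) (iv F39361)
theorem F41977 : act 6 n12600 = n12358 := d25_2 D12003 D12600 F40908 F37936 (iv F35158)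
theorem F41978 : act 7 n12600 = n12437 := d26_2 (iv F39362) D12600 F41241
def n12601 : Q := act 4 n12006
theorem D12601 : act 4 n12006 = n12601 := rfl
theorem F41979 : act 0 n12601 = n12422 := d3_1 D12601 (iv D12422) (iv F39376)
theorem F41980 : act 1 n12601 = n12192 := d9_1 D12601 F40161 (iv F39377)
theorem F41981 : act 2 n12601 = n12007 := d14_1 D12601 (iv D12007) D12006
theorem F41982 : act 5 n12601 = n12010 := d22_2 (iv F39379) D12601 (iv D12010)
def n12602 : Q := act 6 n12007
theorem D12602 : act 6 n12007 = n12602 := rfl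
theorem F41983 : act 1 n12602 = n12432 := d11_1 D12602 F41215 F39478
theorem F41984 : act 3 n12602 = n12019 := d20_1 D12602 (iv D12019) (iv F39380)
theorem F41985 : act 4 n12602 = n12008 := d23_1 D12602 (iv D12008) D12007
theorem F41986 : act 5 n12602 = n12404 := d25_1 D12602 (iv D12404) F38030 (iv F35192) (iv F39381)
def n12603 : Q := act 4 n12009
theorem D12603 : act 4 n12009 = n12603 := rfl
theorem F41987 : act 0 n12603 = n12114 := d3_1 D12603 F39809 (iv F39385)
theorem F41988 : act 1 n12603 = n12010 := d9_1 D12603 (iv D12010) D12009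
theorem F41989 : act 2 n12603 = n12012 := d14_1 D12603 (iv D12012) (iv F39386)
theorem F41990 : act 3 n12603 = n12455 := d18_1 D12603 F41320 F38480 (iv F35748) (iv F39387)
theorem F41991 : act 5 n12603 = n12191 := d22_2 (iv F39388) D12603 F40159
theorem F41992 : act 6 n12603 = n12113 := d23_2 (iv F39389) D12603 (iv D12113)
theorem F41993 : act 7 n12603 = n12286 := d24_2 (iv F39390) D12603 (iv D12286)
def n12604 : Q := act 3 n12010
theorem D12604 : act 3 n12010 = n12604 := rfl
theorem F41994 : act 0 n12604 = n12261 := d2_1 D12604 F40501 (iv F39391)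
theorem F41995 : act 1 n12604 = n12455 := d8_1 D12604 (iv F41990) F41988
theorem F41996 : act 2 n12604 = n12021 := d13_1 D12604 (iv D12021) F35238 (iv F35191) (iv F39392)
theorem F41997 : act 4 n12604 = n12260 := d18_2 D12010 D12604 (iv D12260) F37055 (iv F35188)
theorem F41998 : act 6 n12604 = n12420 := d20_2 (iv F39393) D12604 F41161
def n12605 : Q := act 3 n12012
theorem D12605 : act 3 n12012 = n12605 := rfl
theorem F41999 : act 0 n12605 = n12047 := d2_1 D12605 (iv F41963) F41960
theorem F42000 : act 1 n12605 = n12013 := d8_1 D12605 (iv D12013) (iv F39400)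
theorem F42001 : act 2 n12605 = n12485 := d13_1 D12605 F41450 (iv F41319) (iv F41990) F41989
theorem F42002 : act 4 n12605 = n12605 := d18_2 D12012 D12605 (iv D12605) (iv D12012) F35193
theorem F42003 : act 5 n12605 = n12513 := d19_2 (iv F39401) D12605 (iv D12513)
theorem F42004 : act 6 n12605 = n12027 := d20_2 (iv F39402) D12605 F39462
theorem F42005 : act 7 n12605 = n12482 := d21_2 (iv F39403) D12605 (iv D12482) (iv D11819) (iv F38623)
def n12606 : Q := act 4 n12016
theorem D12606 : act 4 n12016 = n12606 := rfl
theorem F42006 : act 1 n12606 = n12017 := d9_1 D12606 (iv D12017) D12016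
theorem F42007 : act 2 n12606 = n12518 := d14_1 D12606 F41598 (iv F39419)
theorem F42008 : act 3 n12606 = n12174 := d18_1 D12606 (iv D12174) (iv D11191) (iv F36284) (iv F39420)
theorem F42009 : act 5 n12606 = n12171 := d22_2 (iv F39421) D12606 (iv D12171)
theorem F42010 : act 6 n12606 = n12534 := d23_2 (iv F39423) D12606 (iv D12534)
theorem F42011 : act 7 n12606 = n12515 := d24_2 (iv F39422) D12606 (iv D12515)
def n12607 : Q := act 3 n12017
theorem D12607 : act 3 n12017 = n12607 := rfl
theorem F42012 : act 1 n12607 = n12174 := d8_1 D12607 (iv F42008) F42006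
theorem F42013 : act 4 n12607 = n12172 := d18_2 D12017 D12607 (iv D12172) (iv F37322) (iv F37324)
theorem F42014 : act 5 n12607 = n12021 := d19_2 (iv F39425) D12607 (iv D12021)
def n12608 : Q := act 6 n12017
theorem D12608 : act 6 n12017 = n12608 := rfl
theorem F42015 : act 1 n12608 = n12534 := d11_1 D12608 (iv F42010) F42006
theorem F42016 : act 2 n12608 = n12019 := d16_1 D12608 (iv D12019) (iv F39424)
theorem F42017 : act 4 n12608 = n12018 := d23_1 D12608 (iv D12018) D12017
theorem F42018 : act 5 n12608 = n12577 := d25_1 D12608 F41885 F41510 F38814 (iv F39425)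
def n12609 : Q := act 3 n12022
theorem D12609 : act 3 n12022 = n12609 := rfl
theorem F42019 : act 0 n12609 = n12117 := d2_1 D12609 (iv D12117) (iv F39437)
theorem F42020 : act 1 n12609 = n12023 := d8_1 D12609 (iv D12023) (iv F39438)
theorem F42021 : act 2 n12609 = n12553 := d13_1 D12609 (iv D12553) F39100 F38600 (iv F39439)
theorem F42022 : act 4 n12609 = n12609 := d18_2 D12022 D12609 (iv D12609) (iv D12022) F35243
theorem F42023 : act 5 n12609 = n12506 := d19_2 (iv F39440) D12609 F41547
theorem F42024 : act 7 n12609 = n12490 := d21_2 (iv F39441) D12609 F41471 F39668 F39665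
def n12610 : Q := act 3 n12032
theorem D12610 : act 3 n12032 = n12610 := rfl
theorem F42025 : act 0 n12610 = n12555 := d2_1 D12610 F41774 (iv F39481)
theorem F42026 : act 1 n12610 = n12033 := d8_1 D12610 (iv D12033) (iv F39482)
theorem F42027 : act 2 n12610 = n12473 := d13_1 D12610 (iv D12473) F38597 (iv F38533) (iv F39483)
theorem F42028 : act 4 n12610 = n12610 := d18_2 D12032 D12610 (iv D12610) (iv D12032) F35301
theorem F42029 : act 6 n12610 = n12609 := d20_2 (iv F39484) D12610 (iv D12609)
theorem F42030 : act 7 n12610 = n12466 := d21_2 (iv F39485) D12610 (iv D12466) F38577 D11798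
def n12611 : Q := act 3 n12034
theorem D12611 : act 3 n12034 = n12611 := rfl
theorem F42031 : act 0 n12611 = n12036 := d2_1 D12611 (iv D12036) (iv F39492)
theorem F42032 : act 1 n12611 = n12047 := d8_1 D12611 (iv F41963) F41961
theorem F42033 : act 4 n12611 = n12611 := d18_2 D12034 D12611 (iv D12611) (iv D12034) F35310
theorem F42034 : act 6 n12611 = n12045 := d20_2 (iv F39494) D12611 F39525
def n12612 : Q := act 5 n12034
theorem D12612 : act 5 n12034 = n12612 := rfl
theorem F42035 : act 0 n12612 = n12037 := d4_1 D12612 (iv D12037) (iv F39492)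
theorem F42036 : act 2 n12612 = n12112 := d15_1 D12612 (iv D12112) (iv F39493)
theorem F42037 : act 4 n12612 = n12035 := d22_1 D12612 (iv D12035) D12034
theorem F42038 : act 6 n12612 = n12545 := d25_2 (iv F39494) D12612 F41726 (iv F39102) F38598
theorem F42039 : act 1 n12588 = n12612 := d11_3 F42038 F41728 D12588
def n12613 : Q := act 2 n12036
theorem D12613 : act 2 n12036 = n12613 := rfl
theorem F42040 : act 1 n12613 = n12043 := d7_1 D12613 (iv D12043) F35321 (iv F35314) (iv F39500)
theorem F42041 : act 4 n12613 = n12613 := d14_2 F39501 D12613 (iv D12613)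
def n12614 : Q := act 5 n12036
theorem D12614 : act 5 n12036 = n12614 := rfl
theorem F42042 : act 3 n12614 = n12037 := d19_1 D12614 (iv D12037) D12036
theorem F42043 : act 4 n12614 = n12614 := d22_1 D12614 (iv D12614) F39501
theorem F42044 : act 7 n12614 = n12613 := d31_1 D12614 F42041 (iv D12613) (iv F41201) (iv D12429) (iv F41186) (iv D12426) (iv D11703) F33908 (iv F32097) (iv D10003) F26814 F21489 (iv F21824) (iv D6903) F16640 F16638 (iv F21722) F21723 (iv F21454) D8423 F26815 D8999 F28725 D9015 (iv F33956) (iv F38289) (iv F38291) D12036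
def n12615 : Q := act 7 n12036
theorem D12615 : act 7 n12036 = n12615 := rfl
theorem F42045 : act 1 n12615 = n12039 := d12_1 D12615 (iv D12039) (iv F39500)
theorem F42046 : act 2 n12615 = n12614 := d17_1 D12615 F42044 (iv D12613)
theorem F42047 : act 3 n12615 = n12463 := d21_1 D12615 F41352 (iv F39195) F39197 D12036
theorem F42048 : act 4 n12615 = n12615 := d24_1 D12615 (iv D12615) F39501
theorem F42049 : act 5 n12615 = n12613 := d26_1 D12615 (iv F42044) (iv D12614)
theorem F42050 : act 6 n12615 = n12512 := d27_1 D12615 F41575 F41542 (iv F41202) F41201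
def n12616 : Q := act 6 n12037
theorem D12616 : act 6 n12037 = n12616 := rfl
theorem F42051 : act 0 n12616 = n12545 := d5_1 D12616 (iv F42038) F42035
theorem F42052 : act 2 n12616 = n12543 := d16_1 D12616 (iv F41717) F39742
theorem F42053 : act 4 n12616 = n12038 := d23_1 D12616 (iv D12038) (iv F39502)
theorem F42054 : act 5 n12616 = n12530 := d25_1 D12616 F41659 F41186 (iv F38291) D12037
theorem F42055 : act 7 n12616 = n12529 := d27_2 F41851 D12616 F41654 F40810 (iv F41850)
def n12617 : Q := act 6 n12039
theorem D12617 : act 6 n12039 = n12617 := rfl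
theorem F42056 : act 0 n12617 = n12485 := d5_1 D12617 (iv D12485) (iv F39507)
theorem F42057 : act 1 n12617 = n12512 := d11_1 D12617 (iv F42050) F42045
theorem F42058 : act 2 n12617 = n12047 := d16_1 D12617 (iv D12047) (iv F39508)
theorem F42059 : act 3 n12617 = n12464 := d20_1 D12617 (iv D12464) (iv F39509)
theorem F42060 : act 4 n12617 = n12617 := d23_1 D12617 (iv D12617) F39510
def n12618 : Q := act 7 n12043
theorem D12618 : act 7 n12043 = n12618 := rfl
theorem F42061 : act 1 n12618 = n12614 := d12_1 D12618 F42044 F42040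
theorem F42062 : act 2 n12618 = n12045 := d17_1 D12618 (iv D12045) D12043
theorem F42063 : act 3 n12618 = n12096 := d21_1 D12618 F39771 (iv D12105) (iv F39685) (iv F39686)
theorem F42064 : act 4 n12618 = n12618 := d24_1 D12618 (iv D12618) F39521
theorem F42065 : act 5 n12618 = n12610 := d26_1 D12618 F42030 F41367
def n12619 : Q := act 6 n12044
theorem D12619 : act 6 n12044 = n12619 := rfl
theorem F42066 : act 1 n12619 = n12595 := d11_1 D12619 F41953 F41857
theorem F42067 : act 3 n12619 = n12046 := d20_1 D12619 (iv D12046) (iv F39522)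
theorem F42068 : act 4 n12619 = n12619 := d23_1 D12619 (iv D12619) F39523
theorem F42069 : act 7 n12619 = n12593 := d27_2 F41397 D12619 (iv D12593) (iv F41768) F41767
def n12620 : Q := act 5 n12047
theorem D12620 : act 5 n12047 = n12620 := rfl
theorem F42070 : act 0 n12620 = n12513 := d4_1 D12620 (iv F42003) F41999
theorem F42071 : act 3 n12620 = n12291 := d19_1 D12620 F41966 F41963
theorem F42072 : act 4 n12620 = n12620 := d22_1 D12620 (iv D12620) F39528
theorem F42073 : act 7 n12620 = n12531 := d26_2 F41555 D12620 F41662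
theorem F42074 : act 1 n12592 = n12620 := d0_0 F42070 F41576 F39018 D11989 D12592
def n12621 : Q := act 4 n12053
theorem D12621 : act 4 n12053 = n12621 := rfl
theorem F42075 : act 0 n12621 = n12442 := d3_1 D12621 F41259 F40731
theorem F42076 : act 1 n12621 = n12068 := d9_1 D12621 (iv D12068) (iv F39553)
theorem F42077 : act 2 n12621 = n12522 := d14_1 D12621 F41618 F41134
theorem F42078 : act 3 n12621 = n12057 := d18_1 D12621 (iv D12057) (iv D10965) (iv F35383) D12053
theorem F42079 : act 6 n12621 = n12284 := d23_2 (iv F39554) D12621 F40592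
theorem F42080 : act 7 n12621 = n12062 := d24_2 (iv F39555) D12621 (iv D12062)
def n12622 : Q := act 3 n12054
theorem D12622 : act 3 n12054 = n12622 := rfl
theorem F42081 : act 1 n12622 = n12055 := d8_1 D12622 (iv D12055) (iv F39556)
theorem F42082 : act 2 n12622 = n12185 := d13_1 D12622 F40128 F36362 (iv F36464) (iv F39557)
theorem F42083 : act 5 n12622 = n12070 := d19_2 (iv F39558) D12622 (iv D12070)
theorem F42084 : act 6 n12622 = n12163 := d20_2 (iv F39559) D12622 F40047
theorem F42085 : act 7 n12622 = n12058 := d21_2 D12054 D12622 (iv D12058) (iv D10967) (iv F35385)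
def n12623 : Q := act 4 n12055
theorem D12623 : act 4 n12055 = n12623 := rfl
theorem F42086 : act 0 n12623 = n12443 := d3_1 D12623 F41261 (iv F39560)
theorem F42087 : act 2 n12623 = n12174 := d14_1 D12623 (iv D12174) (iv F39561)
theorem F42088 : act 5 n12623 = n12057 := d22_2 (iv F39562) D12623 (iv D12057)
theorem F42089 : act 7 n12623 = n12059 := d24_2 (iv F39563) D12623 (iv D12059)
def n12624 : Q := act 6 n12055
theorem D12624 : act 6 n12055 = n12624 := rfl
theorem F42090 : act 0 n12624 = n12444 := d5_1 D12624 (iv D12444) (iv F39560)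
theorem F42091 : act 1 n12624 = n12163 := d11_1 D12624 (iv F42084) F42081
theorem F42092 : act 2 n12624 = n12175 := d16_1 D12624 (iv D12175) (iv F39561)
theorem F42093 : act 3 n12624 = n12056 := d20_1 D12624 (iv D12056) D12055
theorem F42094 : act 5 n12624 = n12262 := d25_1 D12624 F40507 F37147 (iv F35392) (iv F39562)
theorem F42095 : act 7 n12156 = n12624 := d30_29 (iv D12624) F39562 F35390 (iv F30167) F30034 (iv F30193) F30192 (iv F29506) (iv F33617) F33618 (iv D10390) (iv D8836) (iv D7223) (iv D5643) (iv D4176) (iv D2958) (iv D2017) (iv D1364) (iv F4264) F4263 (iv F6142) D2879 (iv F11216) D4982 D6537 D8150 D9738 D11168 D12156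
def n12625 : Q := act 2 n12058
theorem D12625 : act 2 n12058 = n12625 := rfl
theorem F42096 : act 0 n12625 = n12460 := d1_1 D12625 (iv F41831) F41829
theorem F42097 : act 1 n12625 = n12444 := d7_1 D12625 F41262 F40341 F37904 (iv F39573)
theorem F42098 : act 3 n12625 = n12186 := d13_2 D12058 D12625 F40131 F38269 (iv F35400)
theorem F42099 : act 5 n12625 = n12077 := d15_2 (iv F39574) D12625 (iv D12077)
theorem F42100 : act 6 n12625 = n12440 := d16_2 F41819 D12625 (iv F41817)
theorem F42101 : act 7 n12625 = n12185 := d17_2 F42085 D12625 (iv F42082)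
def n12626 : Q := act 4 n12058
theorem D12626 : act 4 n12058 = n12626 := rfl
theorem F42102 : act 1 n12626 = n12059 := d9_1 D12626 (iv D12059) (iv F39573)
theorem F42103 : act 3 n12626 = n12064 := d18_1 D12626 (iv D12064) (iv D10977) (iv F35401) D12058
theorem F42104 : act 5 n12626 = n12078 := d22_2 (iv F39574) D12626 (iv D12078)
def n12627 : Q := act 6 n12059
theorem D12627 : act 6 n12059 = n12627 := rfl
theorem F42105 : act 3 n12627 = n12065 := d20_1 D12627 (iv D12065) (iv F39575)
theorem F42106 : act 4 n12627 = n12060 := d23_1 D12627 (iv D12060) D12059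
theorem F42107 : act 5 n12627 = n12407 := d25_1 D12627 (iv D12407) F38049 (iv F35409) (iv F39576)
def n12628 : Q := act 7 n12060
theorem D12628 : act 7 n12060 = n12628 := rfl
theorem F42108 : act 0 n12628 = n12331 := d6_1 D12628 F41288 F41283
theorem F42109 : act 1 n12628 = n12159 := d12_1 D12628 (iv F41820) F41816
theorem F42110 : act 2 n12628 = n12369 := d17_1 D12628 (iv F41022) F41019
theorem F42111 : act 3 n12628 = n12154 := d21_1 D12628 F40013 (iv F39372) F39375 (iv F39577)
theorem F42112 : act 5 n12628 = n12325 := d26_1 D12628 F40781 (iv F39578)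
theorem F42113 : act 6 n12628 = n12156 := d27_1 D12628 F42095 (iv D12624) F39563 D12060
def n12629 : Q := act 4 n12061
theorem D12629 : act 4 n12061 = n12629 := rfl
theorem F42114 : act 1 n12629 = n12272 := d9_1 D12629 F40545 (iv F39579)
theorem F42115 : act 2 n12629 = n12062 := d14_1 D12629 (iv D12062) D12061
theorem F42116 : act 3 n12629 = n12167 := d18_1 D12629 F40065 F36245 (iv F36633) (iv F39580)
theorem F42117 : act 6 n12629 = n12329 := d23_2 (iv F39581) D12629 F40796
theorem F42118 : act 7 n12629 = n12522 := d24_2 F41137 D12629 F41618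
def n12630 : Q := act 7 n12065
theorem D12630 : act 7 n12065 = n12630 := rfl
theorem F42119 : act 1 n12630 = n12559 := d12_1 D12630 (iv F41873) F41869
theorem F42120 : act 4 n12630 = n12066 := d24_1 D12630 (iv D12066) (iv F39589)
theorem F42121 : act 5 n12630 = n12576 := d26_1 D12630 (iv D12576) (iv F39590)
theorem F42122 : act 6 n12630 = n12535 := d27_1 D12630 F41680 F40672 F39586 D12065
def n12631 : Q := act 6 n12068
theorem D12631 : act 6 n12068 = n12631 := rfl
theorem F42123 : act 0 n12631 = n12088 := d5_1 D12631 (iv D12088) (iv F39599)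
theorem F42124 : act 1 n12631 = n12284 := d11_1 D12631 (iv F42079) F42076
theorem F42125 : act 2 n12631 = n12588 := d16_1 D12631 (iv D12588) (iv F39600)
theorem F42126 : act 3 n12631 = n12074 := d20_1 D12631 (iv D12074) (iv F39601)
theorem F42127 : act 4 n12631 = n12069 := d23_1 D12631 (iv D12069) D12068
def n12632 : Q := act 6 n12071
theorem D12632 : act 6 n12071 = n12632 := rfl
theorem F42128 : act 0 n12632 = n12091 := d5_1 D12632 (iv D12091) (iv F39612)
theorem F42129 : act 1 n12632 = n12183 := d11_1 D12632 (iv F41043) F41040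
theorem F42130 : act 2 n12632 = n12494 := d16_1 D12632 F41487 (iv F39613)
theorem F42131 : act 3 n12632 = n12584 := d20_1 D12632 (iv D12584) (iv F39614)
theorem F42132 : act 4 n12632 = n12072 := d23_1 D12632 (iv D12072) D12071
theorem F42133 : act 7 n12632 = n12507 := d27_2 (iv F39616) D12632 (iv D12507) F39668 (iv D12082)
theorem F42134 : act 5 n12597 = n12632 := d26_3 F42133 F41551 (iv F41959)
def n12633 : Q := act 5 n12074
theorem D12633 : act 5 n12074 = n12633 := rfl
theorem F42135 : act 0 n12633 = n12093 := d4_1 D12633 (iv D12093) (iv F39629)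
theorem F42136 : act 2 n12633 = n12103 := d15_1 D12633 F39761 (iv F39631)
theorem F42137 : act 4 n12633 = n12075 := d22_1 D12633 (iv D12075) (iv F39632)
theorem F42138 : act 6 n12633 = n12597 := d25_2 D12074 D12633 F42134 (iv D12632) F39615
theorem F42139 : act 7 n12633 = n12102 := d26_2 (iv F39633) D12633 F39757
def n12634 : Q := act 4 n12080
theorem D12634 : act 4 n12080 = n12634 := rfl
theorem F42140 : act 0 n12634 = n12511 := d3_1 D12634 F41571 (iv F39655)
theorem F42141 : act 1 n12634 = n12081 := d9_1 D12634 (iv D12081) D12080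
theorem F42142 : act 3 n12634 = n12425 := d18_1 D12634 (iv D12425) (iv D11702) (iv F35512) (iv F39656)
theorem F42143 : act 5 n12634 = n12484 := d22_2 (iv F39657) D12634 F41448
theorem F42144 : act 7 n12634 = n12486 := d24_2 (iv F39658) D12634 F41453
def n12635 : Q := act 4 n12085
theorem D12635 : act 4 n12085 = n12635 := rfl
theorem F42145 : act 1 n12635 = n12086 := d9_1 D12635 (iv D12086) D12085
theorem F42146 : act 2 n12635 = n12431 := d14_1 D12635 F41210 F39723
theorem F42147 : act 5 n12635 = n12463 := d22_2 (iv F39679) D12635 (iv D12463)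
theorem F42148 : act 6 n12635 = n12430 := d23_2 F39681 D12635 F41204
theorem F42149 : act 7 n12635 = n12104 := d24_2 (iv F39680) D12635 (iv D12104)
theorem F42150 : act 3 n12635 = n12613 := d28_2 F39730 D12635 (iv D12613) F39500 (iv F39489) F39490 F39442 F35316 (iv D10943) F30028 (iv F30011) (iv F33989) (iv F38309) F38305 (iv D11614) (iv D10385) (iv D8832) (iv D7220) (iv D5640) (iv D4174) F9113 (iv F6302) (iv F6309) (iv F6315) (iv D2036) F4358 D1535 (iv F6914) (iv F9988) (iv F10048) F10047 (iv F13932) F16142 (iv F21215) F21212 F18784 F13951 F10006 (iv F12988) D5672 F17784 (iv F17768) (iv F22929) (iv F23535) (iv F28738) D10523 F33922 (iv F32387) (iv F32389) F30361 F24881 F21860 F18338 (iv F19266) F19267 F19243 (iv F19265) D7783 D9418 D10937 (iv F35587) D12097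
def n12636 : Q := act 6 n12086
theorem D12636 : act 6 n12086 = n12636 := rfl
theorem F42151 : act 0 n12636 = n12588 := d5_1 D12636 (iv D12588) (iv F39682)
theorem F42152 : act 1 n12636 = n12430 := d11_1 D12636 (iv F42148) F42145
theorem F42153 : act 2 n12636 = n12088 := d16_1 D12636 (iv D12088) (iv F39683)
theorem F42154 : act 3 n12636 = n12505 := d20_1 D12636 F41545 F39686
theorem F42155 : act 4 n12636 = n12087 := d23_1 D12636 (iv D12087) D12086
theorem F42156 : act 7 n12636 = n12433 := d27_2 (iv F39685) D12636 F41220 F39796 (iv D12106)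
theorem F42157 : act 5 n12537 = n12636 := d26_3 F42156 F41219 D12537
def n12637 : Q := act 5 n12088
theorem D12637 : act 5 n12088 = n12637 := rfl
theorem F42158 : act 2 n12637 = n12537 := d15_1 D12637 F42157 F42153
theorem F42159 : act 3 n12637 = n12093 := d19_1 D12637 (iv D12093) (iv F39694)
theorem F42160 : act 4 n12637 = n12089 := d22_1 D12637 (iv D12089) (iv F39695)
theorem F42161 : act 7 n12637 = n12536 := d31_1 D12637 (iv D12536) (iv D11902) (iv F37099) (iv D11393) (iv F37036) (iv D11376) F32050 (iv F31976) (iv D9974) (iv D8390) F21333 F21334 F21332 (iv D6776) D6777 F21337 D6801 D8415 F26782 (iv F30332) (iv D9521) (iv F30317) F30318 F24854 D9425 (iv F30301) D11016 (iv F39694)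
theorem F42162 : act 1 n12582 = n12637 := d12_3 F42161 F41682 (iv F41907)
def n12638 : Q := act 7 n12088
theorem D12638 : act 7 n12088 = n12638 := rfl
theorem F42163 : act 1 n12638 = n12335 := d12_1 D12638 F40815 (iv F39693)
theorem F42164 : act 2 n12638 = n12433 := d17_1 D12638 (iv F42156) F42153
theorem F42165 : act 3 n12638 = n12267 := d21_1 D12638 (iv D12267) (iv F38848) F38850 (iv F39694)
theorem F42166 : act 4 n12638 = n12090 := d24_1 D12638 (iv D12090) (iv F39695)
theorem F42167 : act 5 n12638 = n12536 := d26_1 D12638 (iv F42161) (iv D12637)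
theorem F42168 : act 6 n12638 = n12107 := d27_1 D12638 (iv D12107) (iv D11042) (iv F35548) D12088
def n12639 : Q := act 5 n12091
theorem D12639 : act 5 n12091 = n12639 := rfl
theorem F42169 : act 0 n12639 = n12597 := d4_1 D12639 F42134 F42128
theorem F42170 : act 1 n12639 = n12312 := d10_1 D12639 F40720 F37615 D11720 (iv F39704)
theorem F42171 : act 2 n12639 = n12507 := d15_1 D12639 F41551 (iv F39705)
theorem F42172 : act 4 n12639 = n12092 := d22_1 D12639 (iv D12092) (iv F39706)
theorem F42173 : act 6 n12639 = n12093 := d25_2 D12091 D12639 (iv D12093) (iv D11016) (iv F35558)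
theorem F42174 : act 7 n12639 = n12494 := d26_2 F39707 D12639 F41486
def n12640 : Q := act 1 n12093
theorem D12640 : act 1 n12093 = n12640 := rfl
theorem F42175 : act 2 n12640 = n12313 := d7_2 (iv F39714) D12640 F40723 (iv F41314) F41313
theorem F42176 : act 3 n12640 = n12582 := d8_2 F42159 D12640 F42162
theorem F42177 : act 4 n12640 = n12094 := d9_2 (iv F39715) D12640 (iv D12094)
theorem F42178 : act 5 n12640 = n12383 := d10_2 D12093 D12640 F41006 F38034 (iv F35568)
theorem F42179 : act 6 n12640 = n12312 := d11_2 F42173 D12640 (iv F42170)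
theorem F42180 : act 0 n12629 = n12640 := d5_3 F42179 (iv F40794) (iv F42117)
def n12641 : Q := act 6 n12096
theorem D12641 : act 6 n12096 = n12641 := rfl
theorem F42181 : act 0 n12641 = n12635 := d5_1 D12641 F42148 F41203
theorem F42182 : act 1 n12641 = n12616 := d11_1 D12641 (iv D12616) (iv F39727)
theorem F42183 : act 2 n12641 = n12098 := d16_1 D12641 (iv D12098) (iv F39728)
theorem F42184 : act 4 n12641 = n12097 := d23_1 D12641 (iv D12097) D12096
theorem F42185 : act 5 n12641 = n12541 := d25_1 D12641 (iv D12541) (iv F39440) (iv F39484) (iv F39729)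
theorem F42186 : act 7 n12641 = n12551 := d27_2 (iv F39771) D12641 F41759 (iv F39677) F39770
def n12642 : Q := act 3 n12103
theorem D12642 : act 3 n12103 = n12642 := rfl
theorem F42187 : act 0 n12642 = n12490 := d2_1 D12642 F41471 (iv F39758)
theorem F42188 : act 1 n12642 = n12557 := d8_1 D12642 F41783 (iv F39759)
theorem F42189 : act 4 n12642 = n12642 := d18_2 (iv F39760) D12642 (iv D12642) F39760 F35615
theorem F42190 : act 5 n12642 = n12504 := d19_2 (iv F39761) D12642 (iv D12504)
theorem F42191 : act 6 n12642 = n12596 := d20_2 (iv F39762) D12642 F41955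
theorem F42192 : act 7 n12642 = n12117 := d21_2 D12103 D12642 (iv D12117) (iv D11064) (iv F35611)
theorem F42193 : act 2 n12592 = n12642 := d30_3 D12047 D12620 (iv F42074) (iv D12642) (iv D12103) (iv D11029) F30321 (iv F29007) F29008 (iv F33988) F33990 F30025 F29983 (iv F29974) (iv F35238) D12021 F40394 (iv F40577) F40576 (iv F40174) F40175 (iv F38239) F38240 (iv D10561) F28846 F23585 (iv F24606) D9427 D10949
def n12643 : Q := act 5 n12109
theorem D12643 : act 5 n12109 = n12643 := rfl
theorem F42194 : act 1 n12643 = n12328 := d10_1 D12643 F40793 F40763 F38320 (iv F39787)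
theorem F42195 : act 3 n12643 = n12639 := d19_1 D12643 (iv D12639) (iv F39788)
theorem F42196 : act 4 n12643 = n12110 := d22_1 D12643 (iv D12110) (iv F39789)
theorem F42197 : act 6 n12643 = n12637 := d25_2 D12109 D12643 (iv D12637) (iv D12088) (iv F35687)
theorem F42198 : act 7 n12643 = n12591 := d26_2 (iv F39790) D12643 (iv D12591)
def n12644 : Q := act 2 n12117
theorem D12644 : act 2 n12117 = n12644 := rfl
theorem F42199 : act 0 n12644 = n12553 := d1_1 D12644 (iv F42021) F42019
theorem F42200 : act 1 n12644 = n12531 := d7_1 D12644 (iv F41669) F41668 (iv F41780) F41779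
theorem F42201 : act 3 n12644 = n12530 := d13_2 D12117 D12644 F41657 F41196 F39819
theorem F42202 : act 4 n12644 = n12644 := d14_2 F39822 D12644 (iv D12644)
theorem F42203 : act 7 n12644 = n12592 := d17_2 F42192 D12644 F42193
def n12645 : Q := act 5 n12135
theorem D12645 : act 5 n12135 = n12645 := rfl
theorem F42204 : act 0 n12645 = n12622 := d4_1 D12645 F42083 (iv F39896)
theorem F42205 : act 1 n12645 = n12564 := d10_1 D12645 (iv D12564) F39168 (iv F35926) (iv F39897)
theorem F42206 : act 2 n12645 = n12361 := d15_1 D12645 (iv D12361) (iv F39898)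
theorem F42207 : act 3 n12645 = n12136 := d19_1 D12645 (iv D12136) D12135
theorem F42208 : act 4 n12645 = n12382 := d22_1 D12645 F41005 (iv F39899)
theorem F42209 : act 7 n12645 = n12566 := d26_2 (iv F39901) D12645 F41833
def n12646 : Q := act 3 n12155
theorem D12646 : act 3 n12155 = n12646 := rfl
theorem F42210 : act 0 n12646 = n12156 := d2_1 D12646 (iv D12156) (iv F40014)
theorem F42211 : act 1 n12646 = n12185 := d8_1 D12646 F40128 (iv F40015)
theorem F42212 : act 2 n12646 = n12172 := d13_1 D12646 (iv D12172) (iv F36861) F36862 D12155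
theorem F42213 : act 5 n12646 = n12260 := d19_2 (iv F40017) D12646 (iv D12260)
theorem F42214 : act 6 n12646 = n12331 := d20_2 (iv F40018) D12646 F40799
theorem F42215 : act 7 n12646 = n12444 := d21_2 (iv F40019) D12646 F41263 F40339 F36886
def n12647 : Q := act 4 n12156
theorem D12647 : act 4 n12156 = n12647 := rfl
theorem F42216 : act 1 n12647 = n12162 := d9_1 D12647 (iv D12162) (iv F40020)
theorem F42217 : act 3 n12647 = n12422 := d18_1 D12647 (iv D12422) (iv D11696) (iv F36202) D12156
theorem F42218 : act 5 n12647 = n12261 := d22_2 (iv F40021) D12647 (iv D12261)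
def n12648 : Q := act 4 n12159
theorem D12648 : act 4 n12159 = n12648 := rfl
theorem F42219 : act 3 n12648 = n12476 := d18_1 D12648 (iv D12476) (iv D11810) (iv F36215) D12159
theorem F42220 : act 5 n12648 = n12475 := d22_2 (iv F40035) D12648 (iv D12475)
theorem F42221 : act 6 n12648 = n12162 := d23_2 (iv F40036) D12648 (iv D12162)
def n12649 : Q := act 4 n12160
theorem D12649 : act 4 n12160 = n12649 := rfl
theorem F42222 : act 0 n12649 = n12177 := d3_1 D12649 (iv D12177) (iv F40037)
theorem F42223 : act 2 n12649 = n12162 := d14_1 D12649 (iv D12162) (iv F40038)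
theorem F42224 : act 5 n12649 = n12164 := d22_2 (iv F40039) D12649 (iv D12164)
theorem F42225 : act 7 n12649 = n12330 := d24_2 (iv F40040) D12649 F40798
def n12650 : Q := act 4 n12161
theorem D12650 : act 4 n12161 = n12650 := rfl
theorem F42226 : act 0 n12650 = n12162 := d3_1 D12650 (iv D12162) (iv F40041)
theorem F42227 : act 2 n12650 = n12177 := d14_1 D12650 (iv D12177) (iv F40042)
theorem F42228 : act 3 n12650 = n12516 := d18_1 D12650 (iv D12516) (iv D11873) (iv F36222) D12161
theorem F42229 : act 5 n12650 = n12165 := d22_2 (iv F40043) D12650 (iv D12165)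
def n12651 : Q := act 7 n12161
theorem D12651 : act 7 n12161 = n12651 := rfl
theorem F42230 : act 0 n12651 = n12163 := d6_1 D12651 (iv D12163) (iv F40041)
theorem F42231 : act 1 n12651 = n12460 := d12_1 D12651 F41339 F40921
theorem F42232 : act 2 n12651 = n12176 := d17_1 D12651 F40097 (iv F40042)
theorem F42233 : act 3 n12651 = n12211 := d21_1 D12651 (iv D12211) (iv D11265) (iv F36224) D12161
theorem F42234 : act 5 n12651 = n12166 := d26_1 D12651 (iv D12166) (iv F40043)
theorem F42235 : act 6 n12651 = n12645 := d27_1 D12651 F42209 (iv D12566) D12567 F41839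
def n12652 : Q := act 7 n12162
theorem D12652 : act 7 n12162 = n12652 := rfl
theorem F42236 : act 2 n12652 = n12330 := d17_1 D12652 (iv F42225) F42223
theorem F42237 : act 4 n12652 = n12163 := d24_1 D12652 (iv D12163) D12162
theorem F42238 : act 5 n12652 = n12167 := d26_1 D12652 (iv D12167) (iv F40045)
def n12653 : Q := act 4 n12168
theorem D12653 : act 4 n12168 = n12653 := rfl
theorem F42239 : act 0 n12653 = n12171 := d3_1 D12653 (iv D12171) (iv F40067)
theorem F42240 : act 1 n12653 = n12348 := d9_1 D12653 (iv D12348) (iv F40068)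
theorem F42241 : act 2 n12653 = n12521 := d14_1 D12653 F41615 (iv F40069)
theorem F42242 : act 3 n12653 = n12170 := d18_1 D12653 (iv D12170) (iv D11186) (iv F36269) D12168
theorem F42243 : act 6 n12653 = n12277 := d23_2 (iv F40070) D12653 (iv D12277)
theorem F42244 : act 7 n12653 = n12519 := d24_2 (iv F40071) D12653 (iv D12519)
def n12654 : Q := act 4 n12169
theorem D12654 : act 4 n12169 = n12654 := rfl
theorem F42245 : act 0 n12654 = n12174 := d3_1 D12654 (iv D12174) (iv F40072)
theorem F42246 : act 2 n12654 = n12443 := d14_1 D12654 F41261 (iv F40073)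
theorem F42247 : act 5 n12654 = n12170 := d22_2 (iv F40074) D12654 (iv D12170)
theorem F42248 : act 7 n12654 = n12370 := d24_2 (iv F40075) D12654 (iv D12370)
def n12655 : Q := act 6 n12172
theorem D12655 : act 6 n12172 = n12655 := rfl
theorem F42249 : act 0 n12655 = n12369 := d5_1 D12655 F40959 F40859
theorem F42250 : act 1 n12655 = n12175 := d11_1 D12655 (iv D12175) (iv F40085)
theorem F42251 : act 2 n12655 = n12331 := d16_1 D12655 (iv F42214) F42212
theorem F42252 : act 3 n12655 = n12173 := d20_1 D12655 (iv D12173) D12172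
theorem F42253 : act 7 n12655 = n12371 := d27_2 F40344 D12655 (iv D12371) (iv F40075) (iv F40343)
theorem F42254 : act 5 n12655 = n12340 := d29_5 F38715 F38714 (iv F40396) F40399 D12655 (iv F41580) F41581 (iv D11873) (iv F36079) (iv F39945) F39944 (iv D12133) (iv D11104) (iv D9633) (iv F30647) F30645 F30646 F26844 F26119 F22740 F21520 F18028 (iv D5145) D5146 D6725 D8341 D9924 D11324 (iv F38717)
def n12656 : Q := act 6 n12174
theorem D12656 : act 6 n12174 = n12656 := rfl
theorem F42255 : act 3 n12656 = n12534 := d20_1 D12656 (iv F42010) F42008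
theorem F42256 : act 4 n12656 = n12175 := d23_1 D12656 (iv D12175) D12174
theorem F42257 : act 5 n12656 = n12283 := d25_1 D12656 (iv D12283) F37149 (iv F36296) (iv F40092)
def n12657 : Q := act 6 n12177
theorem D12657 : act 6 n12177 = n12657 := rfl
theorem F42258 : act 4 n12657 = n12178 := d23_1 D12657 (iv D12178) D12177
theorem F42259 : act 5 n12657 = n12293 := d25_1 D12657 (iv D12293) F37196 (iv F36329) (iv F40098)
def n12658 : Q := act 4 n12179
theorem D12658 : act 4 n12179 = n12658 := rfl
theorem F42260 : act 0 n12658 = n12462 := d3_1 D12658 F41348 (iv F40101)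
theorem F42261 : act 1 n12658 = n12507 := d9_1 D12658 F41550 (iv F40102)
theorem F42262 : act 2 n12658 = n12180 := d14_1 D12658 (iv D12180) D12179
theorem F42263 : act 5 n12658 = n12190 := d22_2 (iv F40104) D12658 (iv D12190)
theorem F42264 : act 6 n12658 = n12454 := d23_2 (iv F40105) D12658 (iv D12454)
theorem F42265 : act 7 n12658 = n12183 := d24_2 (iv F40106) D12658 (iv D12183)
theorem F42266 : act 3 n12658 = n12491 := d28_2 (iv F40101) D12658 F41474 F38767 D11991 (iv F41785) (iv F41861) F41865 F41864 F41342 F39763 F35663 (iv F35083) F35080 (iv D9554) F24923 F19519 (iv D4713) F10472 F10473 F10350 (iv F10340) D4659 (iv F19303) (iv F24622) F24624 (iv D7118) (iv F22529) F22530 (iv D5546) F12742 (iv F11349) (iv F12230) (iv F15773) F15772 (iv F11566) (iv F11747) (iv F11751) F10524 D4735 F14631 (iv F15728) (iv F19063) F19062 F14217 D4600 (iv F18237) F18238 (iv F14550) D6237 (iv F24860) (iv F30329) (iv F35624) F35626 (iv D11021) F30309 F24847 D7891 D9545 D11054 (iv F35712) D11778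
def n12659 : Q := act 6 n12181
theorem D12659 : act 6 n12181 = n12659 := rfl
theorem F42267 : act 0 n12659 = n12289 := d5_1 D12659 F40613 (iv F40113)
theorem F42268 : act 1 n12659 = n12184 := d11_1 D12659 (iv D12184) (iv F40114)
theorem F42269 : act 2 n12659 = n12486 := d16_1 D12659 F41454 (iv F40115)
theorem F42270 : act 3 n12659 = n12191 := d20_1 D12659 (iv D12191) (iv F40116)
theorem F42271 : act 4 n12659 = n12182 := d23_1 D12659 (iv D12182) D12181
theorem F42272 : act 5 n12659 = n12455 := d25_1 D12659 (iv D12455) F38476 (iv F37475) (iv F40117)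
def n12660 : Q := act 5 n12184
theorem D12660 : act 5 n12184 = n12660 := rfl
theorem F42273 : act 3 n12660 = n12192 := d19_1 D12660 (iv D12192) (iv F40126)
theorem F42274 : act 4 n12660 = n12185 := d22_1 D12660 (iv D12185) (iv F40127)
theorem F42275 : act 6 n12660 = n12330 := d25_2 D12184 D12660 (iv D12330) (iv D11530) (iv F36360)
def n12661 : Q := act 4 n12188
theorem D12661 : act 4 n12188 = n12661 := rfl
theorem F42276 : act 0 n12661 = n12190 := d3_1 D12661 (iv D12190) (iv F40141)
theorem F42277 : act 1 n12661 = n12591 := d9_1 D12661 F41941 (iv F40146)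
theorem F42278 : act 2 n12661 = n12189 := d14_1 D12661 (iv D12189) D12188
theorem F42279 : act 5 n12661 = n12462 := d22_2 (iv F40143) D12661 F41348
theorem F42280 : act 6 n12661 = n12291 := d23_2 (iv F40144) D12661 (iv D12291)
theorem F42281 : act 7 n12661 = n12328 := d24_2 (iv F40145) D12661 (iv D12328)
def n12662 : Q := act 3 n12190
theorem D12662 : act 3 n12190 = n12662 := rfl
theorem F42282 : act 1 n12662 = n12539 := d8_1 D12662 F41695 (iv F40152)
theorem F42283 : act 2 n12662 = n12492 := d13_1 D12662 F41477 (iv F40115) F40116 (iv F40153)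
theorem F42284 : act 4 n12662 = n12662 := d18_2 D12190 D12662 (iv D12662) (iv D12190) F36413
theorem F42285 : act 5 n12662 = n12491 := d19_2 F42263 D12662 (iv F42266)
theorem F42286 : act 6 n12662 = n12513 := d20_2 (iv F40154) D12662 (iv D12513)
def n12663 : Q := act 7 n12192
theorem D12663 : act 7 n12192 = n12663 := rfl
theorem F42287 : act 2 n12663 = n12535 := d17_1 D12663 F41680 F40669
theorem F42288 : act 4 n12663 = n12194 := d24_1 D12663 (iv D12194) (iv F40161)
theorem F42289 : act 5 n12663 = n12193 := d26_1 D12663 (iv D12193) D12192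
def n12664 : Q := act 4 n12195
theorem D12664 : act 4 n12195 = n12664 := rfl
theorem F42290 : act 0 n12664 = n12498 := d3_1 D12664 (iv D12498) (iv F40169)
theorem F42291 : act 2 n12664 = n12401 := d14_1 D12664 (iv D12401) (iv F40170)
theorem F42292 : act 5 n12664 = n12196 := d22_2 (iv F40171) D12664 (iv D12196)
theorem F42293 : act 7 n12664 = n12210 := d24_2 (iv F40172) D12664 (iv D12210)
def n12665 : Q := act 4 n12209
theorem D12665 : act 4 n12209 = n12665 := rfl
theorem F42294 : act 1 n12665 = n12210 := d9_1 D12665 (iv D12210) (iv F40243)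
theorem F42295 : act 2 n12665 = n12476 := d14_1 D12665 (iv D12476) (iv F40244)
theorem F42296 : act 5 n12665 = n12477 := d22_2 (iv F40245) D12665 (iv D12477)
theorem F42297 : act 6 n12665 = n12515 := d23_2 (iv F40246) D12665 (iv D12515)
def n12666 : Q := act 4 n12215
theorem D12666 : act 4 n12215 = n12666 := rfl
theorem F42298 : act 0 n12666 = n12219 := d3_1 D12666 (iv D12219) (iv F40274)
theorem F42299 : act 1 n12666 = n12577 := d9_1 D12666 (iv D12577) (iv F40275)
theorem F42300 : act 2 n12666 = n12406 := d14_1 D12666 (iv D12406) (iv F40276)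
theorem F42301 : act 5 n12666 = n12217 := d22_2 (iv F40277) D12666 (iv D12217)
theorem F42302 : act 7 n12666 = n12384 := d24_2 (iv F40278) D12666 (iv D12384)
def n12667 : Q := act 4 n12218
theorem D12667 : act 4 n12218 = n12667 := rfl
theorem F42303 : act 0 n12667 = n12406 := d3_1 D12667 (iv D12406) (iv F40290)
theorem F42304 : act 1 n12667 = n12450 := d9_1 D12667 F41293 (iv F40291)
theorem F42305 : act 2 n12667 = n12219 := d14_1 D12667 (iv D12219) D12218
theorem F42306 : act 3 n12667 = n12649 := d18_1 D12667 (iv D12649) (iv D12160) (iv F36676) (iv F40292)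
theorem F42307 : act 5 n12667 = n12221 := d22_2 (iv F40293) D12667 (iv D12221)
theorem F42308 : act 6 n12667 = n12449 := d23_2 (iv F40295) D12667 (iv D12449)
theorem F42309 : act 7 n12667 = n12387 := d24_2 (iv F40294) D12667 (iv D12387)
def n12668 : Q := act 6 n12219
theorem D12668 : act 6 n12219 = n12668 := rfl
theorem F42310 : act 1 n12668 = n12523 := d11_1 D12668 F41624 F40678
theorem F42311 : act 2 n12668 = n12449 := d16_1 D12668 (iv F42308) F42305
theorem F42312 : act 3 n12668 = n12665 := d20_1 D12668 F42297 F41586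
theorem F42313 : act 4 n12668 = n12220 := d23_1 D12668 (iv D12220) D12219
theorem F42314 : act 5 n12668 = n12457 := d25_1 D12668 (iv F41418) F41417 F38940 (iv F40296)
def n12669 : Q := act 7 n12220
theorem D12669 : act 7 n12220 = n12669 := rfl
theorem F42315 : act 0 n12669 = n12247 := d6_1 D12669 (iv F41508) F41503
theorem F42316 : act 1 n12669 = n12524 := d12_1 D12669 (iv D12524) (iv F40298)
theorem F42317 : act 2 n12669 = n12318 := d17_1 D12669 F40747 (iv F40299)
theorem F42318 : act 3 n12669 = n12246 := d21_1 D12669 F40432 F39952 (iv F36590) (iv F40300)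
theorem F42319 : act 5 n12669 = n12418 := d26_1 D12669 F41154 (iv F40301)
theorem F42320 : act 6 n12669 = n12340 := d27_1 D12669 (iv F40830) (iv D11610) (iv F36585) D12220
def n12670 : Q := act 4 n12225
theorem D12670 : act 4 n12225 = n12670 := rfl
theorem F42321 : act 0 n12670 = n12411 := d3_1 D12670 (iv D12411) (iv F40324)
theorem F42322 : act 1 n12670 = n12576 := d9_1 D12670 F41883 (iv F40325)
theorem F42323 : act 2 n12670 = n12230 := d14_1 D12670 (iv D12230) (iv F40326)
theorem F42324 : act 3 n12670 = n12367 := d18_1 D12670 F40951 F37838 (iv F36647) D12225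
theorem F42325 : act 5 n12670 = n12236 := d22_2 (iv F40327) D12670 (iv D12236)
theorem F42326 : act 7 n12670 = n12546 := d24_2 (iv F40328) D12670 (iv D12546)
def n12671 : Q := act 4 n12228
theorem D12671 : act 4 n12228 = n12671 := rfl
theorem F42327 : act 0 n12671 = n12656 := d3_1 D12671 F42256 (iv F40340)
theorem F42328 : act 1 n12671 = n12385 := d9_1 D12671 (iv D12385) (iv F40341)
theorem F42329 : act 3 n12671 = n12230 := d18_1 D12671 (iv D12230) (iv D11300) (iv F36691) D12228
theorem F42330 : act 5 n12671 = n12239 := d22_2 (iv F40342) D12671 (iv D12239)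
theorem F42331 : act 6 n12671 = n12654 := d23_2 (iv F40343) D12671 (iv D12654)
theorem F42332 : act 7 n12671 = n12607 := d24_2 (iv F40344) D12671 F42013
def n12672 : Q := act 4 n12229
theorem D12672 : act 4 n12229 = n12672 := rfl
theorem F42333 : act 0 n12672 = n12606 := d3_1 D12672 (iv D12606) (iv F40345)
theorem F42334 : act 1 n12672 = n12388 := d9_1 D12672 F41027 (iv F40346)
theorem F42335 : act 3 n12672 = n12654 := d18_1 D12672 (iv D12654) (iv D12169) (iv F36697) D12229
theorem F42336 : act 5 n12672 = n12653 := d22_2 (iv F40347) D12672 (iv D12653)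
theorem F42337 : act 6 n12672 = n12230 := d23_2 (iv F40348) D12672 (iv D12230)
def n12673 : Q := act 4 n12238
theorem D12673 : act 4 n12238 = n12673 := rfl
theorem F42338 : act 0 n12673 = n12474 := d3_1 D12673 F41400 F40503
theorem F42339 : act 2 n12673 = n12239 := d14_1 D12673 (iv D12239) (iv F40391)
theorem F42340 : act 3 n12673 = n12459 := d18_1 D12673 F41336 (iv F39832) F39833 D12238
theorem F42341 : act 7 n12673 = n12604 := d24_2 F40499 D12673 F41997
def n12674 : Q := act 4 n12242
theorem D12674 : act 4 n12242 = n12674 := rfl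
theorem F42342 : act 0 n12674 = n12523 := d3_1 D12674 (iv D12523) (iv F40405)
theorem F42343 : act 1 n12674 = n12664 := d9_1 D12674 (iv D12664) (iv F40406)
theorem F42344 : act 2 n12674 = n12547 := d14_1 D12674 (iv D12547) (iv F40407)
theorem F42345 : act 3 n12674 = n12248 := d18_1 D12674 (iv D12248) (iv D11335) (iv F36795) D12242
theorem F42346 : act 5 n12674 = n12244 := d22_2 (iv F40408) D12674 (iv D12244)
theorem F42347 : act 6 n12674 = n12374 := d23_2 (iv F40409) D12674 (iv D12374)
theorem F42348 : act 7 n12674 = n12665 := d24_2 (iv F40410) D12674 (iv D12665)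
def n12675 : Q := act 4 n12247
theorem D12675 : act 4 n12247 = n12675 := rfl
theorem F42349 : act 1 n12675 = n12248 := d9_1 D12675 (iv D12248) (iv F40433)
theorem F42350 : act 2 n12675 = n12326 := d14_1 D12675 (iv D12326) (iv F40434)
theorem F42351 : act 3 n12675 = n12664 := d18_1 D12675 (iv D12664) (iv D12195) (iv F36826) D12247
theorem F42352 : act 5 n12675 = n12419 := d22_2 (iv F40435) D12675 (iv D12419)
theorem F42353 : act 6 n12675 = n12376 := d23_2 (iv F40436) D12675 (iv D12376)
def n12676 : Q := act 3 n12256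
theorem D12676 : act 3 n12256 = n12676 := rfl
theorem F42354 : act 0 n12676 = n12500 := d2_1 D12676 (iv D12500) (iv F40475)
theorem F42355 : act 1 n12676 = n12504 := d8_1 D12676 (iv D12504) (iv F40476)
theorem F42356 : act 2 n12676 = n12508 := d13_1 D12676 F41553 F41433 F40469 (iv F40477)
theorem F42357 : act 4 n12676 = n12676 := d18_2 D12256 D12676 (iv D12676) (iv D12256) F37020
theorem F42358 : act 5 n12676 = n12533 := d19_2 (iv F40478) D12676 F41670
theorem F42359 : act 6 n12676 = n12503 := d20_2 (iv F40479) D12676 F41537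
theorem F42360 : act 7 n12676 = n12617 := d21_2 (iv F40480) D12676 F42059 F41357 (iv F39828)
def n12677 : Q := act 4 n12257
theorem D12677 : act 4 n12257 = n12677 := rfl
theorem F42361 : act 0 n12677 = n12638 := d3_1 D12677 F42166 (iv F40481)
theorem F42362 : act 1 n12677 = n12289 := d9_1 D12677 (iv D12289) (iv F40482)
theorem F42363 : act 3 n12677 = n12258 := d18_1 D12677 (iv D12258) (iv D11377) (iv F37035) D12257
theorem F42364 : act 5 n12677 = n12268 := d22_2 (iv F40483) D12677 (iv D12268)
theorem F42365 : act 6 n12677 = n12472 := d23_2 (iv F40484) D12677 F41392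
theorem F42366 : act 7 n12677 = n12631 := d24_2 (iv F40485) D12677 F42127
def n12678 : Q := act 4 n12265
theorem D12678 : act 4 n12265 = n12678 := rfl
theorem F42367 : act 0 n12678 = n12663 := d3_1 D12678 F42288 (iv F40515)
theorem F42368 : act 2 n12678 = n12338 := d14_1 D12678 F40821 (iv F40516)
theorem F42369 : act 3 n12678 = n12398 := d18_1 D12678 (iv D12398) (iv F38099) F38100 D12265
theorem F42370 : act 5 n12678 = n12266 := d22_2 (iv F40517) D12678 (iv D12266)
theorem F42371 : act 6 n12678 = n12576 := d23_2 (iv F40518) D12678 F41883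
theorem F42372 : act 7 n12678 = n12336 := d24_2 (iv F40519) D12678 F40818
def n12679 : Q := act 7 n12268
theorem D12679 : act 7 n12268 = n12679 := rfl
theorem F42373 : act 0 n12679 = n12637 := d6_1 D12679 F42161 F41681
theorem F42374 : act 1 n12679 = n12270 := d12_1 D12679 (iv D12270) (iv F40531)
theorem F42375 : act 3 n12679 = n12633 := d21_1 D12679 F42139 (iv F40491) F40494 (iv F40532)
theorem F42376 : act 4 n12679 = n12269 := d24_1 D12679 (iv D12269) D12268
theorem F42377 : act 5 n12679 = n12631 := d26_1 D12679 (iv F42366) F42364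
def n12680 : Q := act 3 n12270
theorem D12680 : act 3 n12270 = n12680 := rfl
theorem F42378 : act 0 n12680 = n12272 := d2_1 D12680 (iv D12272) (iv F40538)
theorem F42379 : act 1 n12680 = n12633 := d8_1 D12680 (iv F42375) F42374
theorem F42380 : act 4 n12680 = n12296 := d18_2 (iv F40540) D12680 (iv D12296) F37239 (iv F37106)
theorem F42381 : act 5 n12680 = n12528 := d19_2 F41710 D12680 (iv F41709)
theorem F42382 : act 7 n12680 = n12543 := d21_2 D12270 D12680 (iv D12543) (iv D11915) (iv F37102)
theorem F42383 : act 2 n12680 = n12529 := d28_3 (iv F37104) (iv F40540) D12680 (iv F41756) (iv D12551) (iv D11926) F34920 (iv D10751) (iv D9255) F24216 (iv F29569) (iv F33375) F33376 F28121 (iv F28050) D10335 (iv F37787) (iv F38776) F38778 F34604 F31125 D10715 F34613 (iv F34623) (iv F36766) (iv F39667) (iv D12082) F35498 (iv D9516) (iv D7866) F19459 F14523 F14525 (iv F14086) F14083 F13004 F10274 D3338 (iv F13929) (iv F18701) (iv F23983) (iv F29066) (iv F34307) (iv F34980) F34979 F30013 F24604 F24544 F24132 D9223 F29447 (iv F29459) (iv F34665)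 D11857 D12507 F41549 F39319 F35109 D11994 (iv F40553) (iv D12274) (iv D11397)
def n12681 : Q := act 6 n12270
theorem D12681 : act 6 n12270 = n12681 := rfl
theorem F42384 : act 0 n12681 = n12273 := d5_1 D12681 (iv D12273) (iv F40538)
theorem F42385 : act 2 n12681 = n12333 := d16_1 D12681 F40806 (iv F40539)
theorem F42386 : act 4 n12681 = n12271 := d23_1 D12681 (iv D12271) (iv F40540)
theorem F42387 : act 7 n12681 = n12538 := d27_2 D12270 D12681 (iv D12538) (iv D11906) (iv F37103)
def n12682 : Q := act 6 n12272
theorem D12682 : act 6 n12272 = n12682 := rfl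
theorem F42388 : act 1 n12682 = n12329 := d11_1 D12682 (iv F42117) F42114
theorem F42389 : act 2 n12682 = n12552 := d16_1 D12682 (iv D12552) F40548
theorem F42390 : act 3 n12682 = n12273 := d20_1 D12682 (iv D12273) D12272
theorem F42391 : act 4 n12682 = n12297 := d23_1 D12682 (iv D12297) (iv F40545)
theorem F42392 : act 5 n12682 = n12681 := d25_1 D12682 (iv D12681) (iv F41710) F41711 (iv F40546)
def n12683 : Q := act 5 n12273
theorem D12683 : act 5 n12273 = n12683 := rfl
theorem F42393 : act 0 n12683 = n12682 := d4_1 D12683 F42392 F42384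
theorem F42394 : act 1 n12683 = n12597 := d10_1 D12683 F42134 F42129 F40125 (iv F40549)
theorem F42395 : act 2 n12683 = n12334 := d15_1 D12683 (iv D12334) (iv F40550)
theorem F42396 : act 3 n12683 = n12681 := d19_1 D12683 (iv F42392) F42390
theorem F42397 : act 4 n12683 = n12274 := d22_1 D12683 (iv D12274) (iv F40551)
theorem F42398 : act 6 n12683 = n12680 := d25_2 D12273 D12683 F42381 F41650 F40514
theorem F42399 : act 7 n12683 = n12540 := d26_2 (iv F40552) D12683 (iv D12540)
def n12684 : Q := act 6 n12275
theorem D12684 : act 6 n12275 = n12684 := rfl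
theorem F42400 : act 0 n12684 = n12457 := d5_1 D12684 (iv F41418) F41413
theorem F42401 : act 1 n12684 = n12527 := d11_1 D12684 F41644 F41636
theorem F42402 : act 2 n12684 = n12421 := d16_1 D12684 (iv F41167) F40601
theorem F42403 : act 3 n12684 = n12525 := d20_1 D12684 F41634 F41423
theorem F42404 : act 4 n12684 = n12276 := d23_1 D12684 (iv D12276) D12275
theorem F42405 : act 7 n12684 = n12419 := d27_2 (iv F40558) D12684 F41158 F40866 (iv D12283)
def n12685 : Q := act 4 n12278
theorem D12685 : act 4 n12278 = n12685 := rfl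
theorem F42406 : act 0 n12685 = n12282 := d3_1 D12685 (iv D12282) (iv F40567)
theorem F42407 : act 1 n12685 = n12459 := d9_1 D12685 F41336 (iv F40568)
theorem F42408 : act 2 n12685 = n12279 := d14_1 D12685 (iv D12279) D12278
theorem F42409 : act 5 n12685 = n12280 := d22_2 (iv F40570) D12685 (iv D12280)
theorem F42410 : act 6 n12685 = n12673 := d23_2 (iv F40571) D12685 (iv D12673)
theorem F42411 : act 7 n12685 = n12458 := d24_2 (iv F40572) D12685 F41332
def n12686 : Q := act 3 n12280
theorem D12686 : act 3 n12280 = n12686 := rfl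
theorem F42412 : act 0 n12686 = n12284 := d2_1 D12686 (iv D12284) (iv F40578)
theorem F42413 : act 1 n12686 = n12403 := d8_1 D12686 (iv D12403) (iv F40579)
theorem F42414 : act 2 n12686 = n12634 := d13_1 D12686 F42142 F41182 F40565 (iv F40580)
theorem F42415 : act 4 n12686 = n12417 := d18_2 D12280 D12686 (iv D12417) (iv D11686) (iv F37136)
theorem F42416 : act 6 n12686 = n12442 := d20_2 (iv F40581) D12686 (iv D12442)
theorem F42417 : act 7 n12686 = n12659 := d21_2 F40597 D12686 F42270 F40160 (iv F40595)
def n12687 : Q := act 4 n12288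
theorem D12687 : act 4 n12288 = n12687 := rfl
theorem F42418 : act 0 n12687 = n12486 := d3_1 D12687 F41453 (iv F40605)
theorem F42419 : act 1 n12687 = n12570 := d9_1 D12687 F41854 (iv F40610)
theorem F42420 : act 2 n12687 = n12289 := d14_1 D12687 (iv D12289) D12288
theorem F42421 : act 5 n12687 = n12464 := d22_2 (iv F40607) D12687 F41356
theorem F42422 : act 6 n12687 = n12470 := d23_2 (iv F40608) D12687 F41382
theorem F42423 : act 7 n12687 = n12511 := d24_2 (iv F40609) D12687 F41571
def n12688 : Q := act 4 n12290
theorem D12688 : act 4 n12290 = n12688 := rfl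
theorem F42424 : act 0 n12688 = n12537 := d3_1 D12688 F41687 (iv F40615)
theorem F42425 : act 1 n12688 = n12291 := d9_1 D12688 (iv D12291) D12290
theorem F42426 : act 2 n12688 = n12679 := d14_1 D12688 F42376 (iv F40616)
theorem F42427 : act 5 n12688 = n12588 := d22_2 (iv F40618) D12688 F41933
theorem F42428 : act 6 n12688 = n12591 := d23_2 (iv F40619) D12688 F41941
theorem F42429 : act 7 n12688 = n12294 := d24_2 (iv F40620) D12688 (iv D12294)
theorem F42430 : act 3 n12688 = n12592 := d28_2 (iv F40615) D12688 F42193 F42188 (iv D12557) (iv D11936) (iv F39111) F39113 (iv D11933) F34945 (iv F38608) (iv F40947) F40948 F37887 (iv D10368) (iv D8813) (iv D7204) (iv D5622) (iv D4163) (iv D2948) (iv F8751) (iv F12468) (iv F12524) F12523 (iv D3611) (iv D2534) (iv F5493) (iv D1764) D1765 D2582 (iv F8655) F8654 F8657 (iv F8114) (iv F11606) F11608 F10607 (iv F14683) (iv F19142) D7703 F24400 (iv F24401) (iv F26369) (iv F27894) (iv F33103) F33102 F32935 (iv F28702) (iv F29411) F29414 F28705 D8995 (iv F30438) F30441 (iv F31300) F31295 F29024 (iv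 F29035) (iv F34253) (iv F38579) D12468 F41375
def n12689 : Q := act 5 n12294
theorem D12689 : act 5 n12294 = n12689 := rfl
theorem F42431 : act 0 n12689 = n12433 := d4_1 D12689 F41219 (iv F40629)
theorem F42432 : act 2 n12689 = n12677 := d15_1 D12689 F42364 (iv F40631)
theorem F42433 : act 3 n12689 = n12529 := d19_1 D12689 (iv D12529) (iv F40632)
theorem F42434 : act 4 n12689 = n12295 := d22_1 D12689 (iv D12295) D12294
theorem F42435 : act 6 n12689 = n12586 := d25_2 F41685 D12689 F41928 (iv F42168) F42167
theorem F42436 : act 7 n12689 = n12588 := d26_2 F42429 D12689 (iv F42427)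
def n12690 : Q := act 5 n12313
theorem D12690 : act 5 n12313 = n12690 := rfl
theorem F42437 : act 0 n12690 = n12379 := d4_1 D12690 F40994 (iv F40722)
theorem F42438 : act 1 n12690 = n12354 := d10_1 D12690 F40892 (iv F39803) F39806 (iv F40723)
theorem F42439 : act 2 n12690 = n12383 := d15_1 D12690 (iv F42178) F42175
theorem F42440 : act 3 n12690 = n12317 := d19_1 D12690 (iv D12317) (iv F40724)
theorem F42441 : act 4 n12690 = n12314 := d22_1 D12690 (iv D12314) (iv F40725)
theorem F42442 : act 6 n12690 = n12323 := d25_2 D12313 D12690 (iv D12323) (iv D11521) (iv F37436)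
def n12691 : Q := act 7 n12314
theorem D12691 : act 7 n12314 = n12691 := rfl
theorem F42443 : act 0 n12691 = n12380 := d6_1 D12691 (iv D12380) (iv F40726)
theorem F42444 : act 1 n12691 = n12355 := d12_1 D12691 (iv D12355) (iv F40727)
theorem F42445 : act 2 n12691 = n12368 := d17_1 D12691 F40956 (iv F40728)
theorem F42446 : act 3 n12691 = n12316 := d21_1 D12691 (iv D12316) F37448 (iv F37445) (iv F40729)
theorem F42447 : act 5 n12691 = n12315 := d26_1 D12691 (iv D12315) D12314
theorem F42448 : act 6 n12691 = n12365 := d27_1 D12691 (iv D12365) F37828 (iv F37627) (iv F40730)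
def n12692 : Q := act 1 n12317
theorem D12692 : act 1 n12317 = n12692 := rfl
theorem F42449 : act 0 n12692 = n12326 := d0_1 D12692 F40782 (iv F40910) F40911 (iv F40738)
theorem F42450 : act 3 n12692 = n12354 := d8_2 F42440 D12692 (iv F42438)
theorem F42451 : act 4 n12692 = n12318 := d9_2 (iv F40740) D12692 (iv D12318)
theorem F42452 : act 5 n12692 = n12420 := d10_2 D12317 D12692 F41160 F38476 (iv F37478)
theorem F42453 : act 6 n12692 = n12337 := d11_2 (iv F40741) D12692 (iv D12337)
theorem F42454 : act 7 n12692 = n12449 := d12_2 (iv F40742) D12692 F41289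
def n12693 : Q := act 1 n12323
theorem D12693 : act 1 n12323 = n12693 := rfl
theorem F42455 : act 0 n12693 = n12345 := d0_1 D12693 F40852 (iv F40944) F40945 (iv F40767)
theorem F42456 : act 2 n12693 = n12404 := d7_2 (iv F40768) D12693 F41093 (iv F40899) F40898
theorem F42457 : act 3 n12693 = n12337 := d8_2 (iv F40769) D12693 (iv D12337)
theorem F42458 : act 4 n12693 = n12324 := d9_2 (iv F40770) D12693 (iv D12324)
theorem F42459 : act 6 n12693 = n12354 := d11_2 F42442 D12693 (iv F42438)
theorem F42460 : act 7 n12693 = n12375 := d12_2 (iv F40771) D12693 F40980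
def n12694 : Q := act 4 n12325
theorem D12694 : act 4 n12325 = n12694 := rfl
theorem F42461 : act 0 n12694 = n12337 := d3_1 D12694 F40820 (iv F40777)
theorem F42462 : act 1 n12694 = n12357 := d9_1 D12694 (iv D12357) (iv F40778)
theorem F42463 : act 2 n12694 = n12376 := d14_1 D12694 (iv D12376) (iv F40779)
theorem F42464 : act 3 n12694 = n12345 := d18_1 D12694 (iv D12345) (iv D11552) (iv F37641) D12325
theorem F42465 : act 6 n12694 = n12326 := d23_2 (iv F40780) D12694 (iv D12326)
theorem F42466 : act 7 n12694 = n12407 := d24_2 (iv F40781) D12694 F41102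
def n12695 : Q := act 7 n12326
theorem D12695 : act 7 n12326 = n12695 := rfl
theorem F42467 : act 0 n12695 = n12449 := d6_1 D12695 (iv F42454) F42449
theorem F42468 : act 1 n12695 = n12360 := d12_1 D12695 (iv D12360) (iv F40782)
theorem F42469 : act 4 n12695 = n12327 := d24_1 D12695 (iv D12327) D12326
theorem F42470 : act 5 n12695 = n12421 := d26_1 D12695 (iv D12421) (iv F40784)
theorem F42471 : act 6 n12695 = n12406 := d27_1 D12695 F41100 D12407 (iv F42466) F42465
theorem F42472 : act 3 n12657 = n12695 := d20_3 F42471 F41098 D12657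
def n12696 : Q := act 1 n12330
theorem D12696 : act 1 n12330 = n12696 := rfl
theorem F42473 : act 4 n12696 = n12331 := d9_2 (iv F40798) D12696 (iv D12331)
theorem F42474 : act 5 n12696 = n12337 := d10_2 D12330 D12696 (iv D12337) (iv D11541) (iv F37651)
def n12697 : Q := act 4 n12332
theorem D12697 : act 4 n12332 = n12697 := rfl
theorem F42475 : act 1 n12697 = n12476 := d9_1 D12697 (iv D12476) (iv F40801)
theorem F42476 : act 5 n12697 = n12345 := d22_2 (iv F40802) D12697 (iv D12345)
theorem F42477 : act 6 n12697 = n12422 := d23_2 (iv F40803) D12697 (iv D12422)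
def n12698 : Q := act 5 n12335
theorem D12698 : act 5 n12335 = n12698 := rfl
theorem F42478 : act 0 n12698 = n12660 := d4_1 D12698 (iv D12660) (iv F40811)
theorem F42479 : act 1 n12698 = n12650 := d10_1 D12698 F42229 (iv F41682) (iv F42167) F42163
theorem F42480 : act 2 n12698 = n12382 := d15_1 D12698 F41005 (iv F40812)
theorem F42481 : act 3 n12698 = n12336 := d19_1 D12698 (iv D12336) (iv F40813)
theorem F42482 : act 4 n12698 = n12361 := d22_1 D12698 (iv D12361) (iv F40814)
theorem F42483 : act 6 n12698 = n12581 := d25_2 D12335 D12698 F41902 F39269 (iv F37672)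
theorem F42484 : act 7 n12698 = n12405 := d26_2 (iv F40815) D12698 F41096
def n12699 : Q := act 2 n12337
theorem D12699 : act 2 n12337 = n12699 := rfl
theorem F42485 : act 0 n12699 = n12376 := d1_1 D12699 (iv F42463) F42461
theorem F42486 : act 3 n12699 = n12577 := d13_2 F42457 D12699 F41884 (iv F41094) (iv F42456)
theorem F42487 : act 4 n12699 = n12340 := d14_2 (iv F40820) D12699 (iv D12340)
theorem F42488 : act 7 n12388 = n12699 := d24_0 F42487 (iv F40830) (iv F41027)
def n12700 : Q := act 7 n12337
theorem D12700 : act 7 n12337 = n12700 := rfl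
theorem F42489 : act 0 n12700 = n12407 := d6_1 D12700 (iv F42466) F42461
theorem F42490 : act 1 n12700 = n12338 := d12_1 D12700 (iv D12338) D12337
theorem F42491 : act 2 n12700 = n12388 := d17_1 D12700 F42488 (iv D12699)
theorem F42492 : act 4 n12700 = n12341 := d24_1 D12700 (iv D12341) (iv F40820)
theorem F42493 : act 6 n12700 = n12387 := d27_1 D12700 (iv F42309) F42308 (iv F42454) F42453
theorem F42494 : act 3 n12700 = n12574 := d29_10 (iv D9427) F24606 (iv F23585) (iv F28846) D10561 (iv F38037) (iv F41093) (iv F42456) F42457 D12700 F41875 (iv F41869) F41871 F39232 (iv F38350) F38348 F35539 (iv F37072) D12264 F40512 F39095 F34931 F29778 (iv F24928) (iv F30422) (iv F35723) (iv F39335) F39336 (iv D10949)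
def n12701 : Q := act 3 n12338
theorem D12701 : act 3 n12338 = n12701 := rfl
theorem F42495 : act 0 n12701 = n12408 := d2_1 D12701 (iv F41678) F41676
theorem F42496 : act 1 n12701 = n12574 := d8_1 D12701 (iv F42494) F42490
theorem F42497 : act 2 n12701 = n12395 := d13_1 D12701 F41057 (iv F41072) (iv F42369) F42368
theorem F42498 : act 4 n12701 = n12343 := d18_2 (iv F40821) D12701 (iv D12343) F37695 (iv F37683)
theorem F42499 : act 5 n12701 = n12339 := d19_2 (iv F40822) D12701 (iv D12339)
theorem F42500 : act 7 n12701 = n12377 := d21_2 D12338 D12701 F40984 (iv F40771) F40769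
theorem F42501 : act 6 n12701 = n12578 := d30_6 F38235 (iv F37767) F37766 (iv F37882) (iv F40984) (iv F42500) F41887 F40980 F37882 (iv F37794) D12360 (iv F40919) F39247 F35049 F32833 F29534 (iv F29551) D10752 D11866 (iv F39773) F39774 F35669 (iv F34730) (iv D10752) (iv F34727) (iv F38608) F38609 (iv F38539) F38541
def n12702 : Q := act 6 n12338
theorem D12702 : act 6 n12338 = n12702 := rfl
theorem F42502 : act 0 n12702 = n12630 := d5_1 D12702 F42122 F41676
theorem F42503 : act 1 n12702 = n12387 := d11_1 D12702 (iv F42493) F42490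
theorem F42504 : act 2 n12702 = n12576 := d16_1 D12702 (iv F42371) F42368
theorem F42505 : act 3 n12702 = n12578 := d20_1 D12702 (iv F42501) (iv D12701)
theorem F42506 : act 4 n12702 = n12342 := d23_1 D12702 (iv D12342) (iv F40821)
theorem F42507 : act 7 n12702 = n12450 := d27_2 D12338 D12702 (iv D12450) (iv F40742) F40741
def n12703 : Q := act 4 n12344
theorem D12703 : act 4 n12344 = n12703 := rfl
theorem F42508 : act 0 n12703 = n12404 := d3_1 D12703 F41095 (iv F40847)
theorem F42509 : act 1 n12703 = n12393 := d9_1 D12703 (iv D12393) (iv F40848)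
theorem F42510 : act 2 n12703 = n12345 := d14_1 D12703 (iv D12345) (iv F40849)
theorem F42511 : act 3 n12703 = n12575 := d18_1 D12703 (iv D12575) (iv D11964) (iv F37710) D12344
theorem F42512 : act 6 n12703 = n12353 := d23_2 (iv F40850) D12703 (iv D12353)
theorem F42513 : act 7 n12703 = n12399 := d24_2 (iv F40851) D12703 F41076
def n12704 : Q := act 7 n12345
theorem D12704 : act 7 n12345 = n12704 := rfl
theorem F42514 : act 0 n12704 = n12375 := d6_1 D12704 (iv F42460) F42455
theorem F42515 : act 1 n12704 = n12367 := d12_1 D12704 (iv D12367) (iv F40852)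
theorem F42516 : act 2 n12704 = n12399 := d17_1 D12704 (iv F42513) F42510
theorem F42517 : act 3 n12704 = n12576 := d21_1 D12704 (iv D12576) (iv F41101) (iv F42466) F42464
theorem F42518 : act 4 n12704 = n12346 := d24_1 D12704 (iv D12346) D12345
theorem F42519 : act 6 n12704 = n12398 := d27_1 D12704 F41074 F40902 (iv D12356) (iv F40853)
def n12705 : Q := act 4 n12347
theorem D12705 : act 4 n12347 = n12705 := rfl
theorem F42520 : act 0 n12705 = n12607 := d3_1 D12705 F42013 (iv F40859)
theorem F42521 : act 2 n12705 = n12647 := d14_1 D12705 (iv D12647) (iv F40860)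
theorem F42522 : act 3 n12705 = n12351 := d18_1 D12705 (iv D12351) (iv D11559) (iv F37730) D12347
theorem F42523 : act 5 n12705 = n12348 := d22_2 (iv F40861) D12705 (iv D12348)
theorem F42524 : act 7 n12705 = n12656 := d24_2 (iv F40862) D12705 F42256
def n12706 : Q := act 4 n12349
theorem D12706 : act 4 n12349 = n12706 := rfl
theorem F42525 : act 0 n12706 = n12399 := d3_1 D12706 F41076 (iv F40867)
theorem F42526 : act 1 n12706 = n12353 := d9_1 D12706 (iv D12353) (iv F40868)
theorem F42527 : act 2 n12706 = n12375 := d14_1 D12706 (iv D12375) (iv F40869)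
theorem F42528 : act 6 n12706 = n12393 := d23_2 (iv F40870) D12706 (iv D12393)
theorem F42529 : act 7 n12706 = n12404 := d24_2 (iv F40871) D12706 F41095
def n12707 : Q := act 4 n12350
theorem D12707 : act 4 n12350 = n12707 := rfl
theorem F42530 : act 0 n12707 = n12388 := d3_1 D12707 F41027 (iv F40872)
theorem F42531 : act 1 n12707 = n12351 := d9_1 D12707 (iv D12351) (iv F40873)
theorem F42532 : act 2 n12707 = n12407 := d14_1 D12707 F41102 (iv F40874)
theorem F42533 : act 6 n12707 = n12384 := d23_2 (iv F40875) D12707 (iv D12384)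
theorem F42534 : act 7 n12707 = n12376 := d24_2 (iv F40876) D12707 (iv D12376)
def n12708 : Q := act 6 n12351
theorem D12708 : act 6 n12351 = n12708 := rfl
theorem F42535 : act 0 n12708 = n12608 := d5_1 D12708 (iv D12608) (iv F40877)
theorem F42536 : act 1 n12708 = n12384 := d11_1 D12708 (iv F42533) F42531
theorem F42537 : act 2 n12708 = n12438 := d16_1 D12708 (iv D12438) (iv F40878)
theorem F42538 : act 4 n12708 = n12352 := d23_1 D12708 (iv D12352) D12351
theorem F42539 : act 7 n12708 = n12577 := d27_2 (iv F40880) D12708 F41885 F41511 F40439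
def n12709 : Q := act 7 n12354
theorem D12709 : act 7 n12354 = n12709 := rfl
theorem F42540 : act 0 n12709 = n12356 := d6_1 D12709 (iv D12356) (iv F40890)
theorem F42541 : act 2 n12709 = n12397 := d17_1 D12709 F41071 (iv F40891)
theorem F42542 : act 4 n12709 = n12355 := d24_1 D12709 (iv D12355) D12354
theorem F42543 : act 5 n12709 = n12423 := d26_1 D12709 (iv D12423) (iv F40892)
theorem F42544 : act 6 n12402 = n12709 := d25_0 F42543 (iv F41174) F38367 (iv F38025) (iv F41087)
def n12710 : Q := act 3 n12356
theorem D12710 : act 3 n12356 = n12710 := rfl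
theorem F42545 : act 1 n12710 = n12382 := d8_1 D12710 (iv D12382) (iv F40898)
theorem F42546 : act 2 n12710 = n12565 := d13_1 D12710 F41827 F39246 (iv F38035) (iv F40899)
theorem F42547 : act 4 n12710 = n12564 := d18_2 (iv F40900) D12710 F41823 F39536 F38514
theorem F42548 : act 5 n12710 = n12424 := d19_2 (iv F40901) D12710 (iv D12424)
theorem F42549 : act 6 n12710 = n12405 := d20_2 F40902 D12710 (iv D12405)
theorem F42550 : act 7 n12710 = n12657 := d21_2 D12356 D12710 F42472 (iv D12695) F40783
def n12711 : Q := act 3 n12360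
theorem D12711 : act 3 n12360 = n12711 := rfl
theorem F42551 : act 0 n12711 = n12626 := d2_1 D12711 F42103 (iv F40915)
theorem F42552 : act 1 n12711 = n12657 := d8_1 D12711 F42472 F42468
theorem F42553 : act 2 n12711 = n12405 := d13_1 D12711 (iv D12405) F38033 (iv F38026) (iv F40916)
theorem F42554 : act 4 n12711 = n12566 := d18_2 (iv F40917) D12711 F41832 F39185 (iv F37798)
theorem F42555 : act 5 n12711 = n12389 := d19_2 (iv F40918) D12711 (iv D12389)
theorem F42556 : act 6 n12711 = n12565 := d20_2 F40919 D12711 F41827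
theorem F42557 : act 7 n12711 = n12382 := d21_2 D12360 D12711 (iv D12382) (iv D11601) (iv F37794)
def n12712 : Q := act 4 n12362
theorem D12712 : act 4 n12362 = n12712 := rfl
theorem F42558 : act 0 n12712 = n12398 := d3_1 D12712 (iv D12398) (iv F40924)
theorem F42559 : act 1 n12712 = n12364 := d9_1 D12712 (iv D12364) (iv F40925)
theorem F42560 : act 2 n12712 = n12393 := d14_1 D12712 (iv D12393) (iv F40926)
theorem F42561 : act 3 n12712 = n12663 := d18_1 D12712 F42288 F40167 (iv F37810) D12362
theorem F42562 : act 5 n12712 = n12394 := d22_2 (iv F40927) D12712 (iv D12394)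
theorem F42563 : act 6 n12712 = n12375 := d23_2 (iv F40928) D12712 (iv D12375)
theorem F42564 : act 7 n12712 = n12402 := d24_2 (iv F40929) D12712 (iv D12402)
def n12713 : Q := act 4 n12363
theorem D12713 : act 4 n12363 = n12713 := rfl
theorem F42565 : act 0 n12713 = n12412 := d3_1 D12713 F41126 (iv F40930)
theorem F42566 : act 1 n12713 = n12663 := d9_1 D12713 F42288 (iv F40931)
theorem F42567 : act 2 n12713 = n12599 := d14_1 D12713 (iv D12599) (iv F40932)
theorem F42568 : act 3 n12713 = n12364 := d18_1 D12713 (iv D12364) (iv D11579) (iv F37816) D12363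
theorem F42569 : act 5 n12713 = n12453 := d22_2 (iv F40933) D12713 F41310
theorem F42570 : act 6 n12713 = n12377 := d23_2 (iv F40934) D12713 (iv D12377)
theorem F42571 : act 7 n12713 = n12601 := d24_2 (iv F40935) D12713 (iv D12601)
def n12714 : Q := act 7 n12364
theorem D12714 : act 7 n12364 = n12714 := rfl
theorem F42572 : act 0 n12714 = n12413 := d6_1 D12714 F41130 (iv F40936)
theorem F42573 : act 1 n12714 = n12402 := d12_1 D12714 (iv F42564) F42559
theorem F42574 : act 2 n12714 = n12367 := d17_1 D12714 (iv D12367) (iv F40937)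
theorem F42575 : act 4 n12714 = n12365 := d24_1 D12714 (iv D12365) D12364
theorem F42576 : act 5 n12714 = n12459 := d26_1 D12714 (iv D12459) (iv F40938)
def n12715 : Q := act 6 n12367
theorem D12715 : act 6 n12367 = n12715 := rfl
theorem F42577 : act 0 n12715 = n12414 := d5_1 D12715 (iv D12414) (iv F40950)
theorem F42578 : act 1 n12715 = n12398 := d11_1 D12715 (iv F42519) F42515
theorem F42579 : act 4 n12715 = n12368 := d23_1 D12715 (iv D12368) (iv F40951)
theorem F42580 : act 7 n12715 = n12383 := d27_2 D12367 D12715 (iv D12383) (iv D11601) (iv F37836)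
def n12716 : Q := act 4 n12369
theorem D12716 : act 4 n12369 = n12716 := rfl
theorem F42581 : act 1 n12716 = n12370 := d9_1 D12716 (iv D12370) (iv F40957)
theorem F42582 : act 3 n12716 = n12708 := d18_1 D12716 F42538 F40884 (iv F37842) D12369
theorem F42583 : act 5 n12716 = n12376 := d22_2 (iv F40958) D12716 (iv D12376)
theorem F42584 : act 6 n12716 = n12705 := d23_2 (iv F40959) D12716 (iv D12705)
def n12717 : Q := act 6 n12370
theorem D12717 : act 6 n12370 = n12717 := rfl
theorem F42585 : act 1 n12717 = n12705 := d11_1 D12717 (iv F42584) F42581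
theorem F42586 : act 3 n12717 = n12707 := d20_1 D12717 F42533 F41010
theorem F42587 : act 4 n12717 = n12371 := d23_1 D12717 (iv D12371) D12370
theorem F42588 : act 5 n12717 = n12388 := d25_1 D12717 (iv D12388) F37922 (iv F37852) (iv F40960)
def n12718 : Q := act 4 n12372
theorem D12718 : act 4 n12372 = n12718 := rfl
theorem F42589 : act 0 n12718 = n12576 := d3_1 D12718 F41883 (iv F40964)
theorem F42590 : act 1 n12718 = n12377 := d9_1 D12718 (iv D12377) (iv F40965)
theorem F42591 : act 2 n12718 = n12630 := d14_1 D12718 F42120 (iv F40966)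
theorem F42592 : act 3 n12718 = n12375 := d18_1 D12718 (iv D12375) (iv D11593) (iv F37854) D12372
theorem F42593 : act 5 n12718 = n12702 := d22_2 (iv F40967) D12718 F42506
theorem F42594 : act 6 n12718 = n12663 := d23_2 (iv F40968) D12718 F42288
theorem F42595 : act 7 n12718 = n12574 := d24_2 (iv F40969) D12718 (iv D12574)
def n12719 : Q := act 4 n12373
theorem D12719 : act 4 n12373 = n12719 := rfl
theorem F42596 : act 0 n12719 = n12577 := d3_1 D12719 (iv D12577) (iv F40970)
theorem F42597 : act 1 n12719 = n12374 := d9_1 D12719 (iv D12374) (iv F40971)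
theorem F42598 : act 2 n12719 = n12575 := d14_1 D12719 (iv D12575) (iv F40972)
theorem F42599 : act 3 n12719 = n12376 := d18_1 D12719 (iv D12376) (iv D11594) (iv F37860) D12373
theorem F42600 : act 5 n12719 = n12708 := d22_2 (iv F40973) D12719 F42538
theorem F42601 : act 6 n12719 = n12664 := d23_2 (iv F40974) D12719 (iv D12664)
theorem F42602 : act 7 n12719 = n12608 := d24_2 (iv F40975) D12719 F42017
def n12720 : Q := act 4 n12378
theorem D12720 : act 4 n12378 = n12720 := rfl
theorem F42603 : act 0 n12720 = n12383 := d3_1 D12720 F41007 (iv F40986)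
theorem F42604 : act 1 n12720 = n12413 := d9_1 D12720 (iv D12413) (iv F40987)
theorem F42605 : act 2 n12720 = n12379 := d14_1 D12720 (iv D12379) D12378
theorem F42606 : act 3 n12720 = n12652 := d18_1 D12720 F42237 F40047 (iv F40257) (iv F40988)
theorem F42607 : act 5 n12720 = n12629 := d22_2 (iv F40989) D12720 (iv D12629)
theorem F42608 : act 6 n12720 = n12381 := d23_2 (iv F40990) D12720 F41003
theorem F42609 : act 7 n12720 = n12414 := d24_2 F40991 D12720 F41132
def n12721 : Q := act 7 n12379
theorem D12721 : act 7 n12379 = n12721 := rfl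
theorem F42610 : act 1 n12721 = n12381 := d12_1 D12721 (iv D12381) (iv F40992)
theorem F42611 : act 2 n12721 = n12414 := d17_1 D12721 (iv F42609) F42605
theorem F42612 : act 3 n12721 = n12623 := d21_1 D12721 F42089 F39575 (iv F39586) (iv F40993)
theorem F42613 : act 4 n12721 = n12380 := d24_1 D12721 (iv D12380) D12379
theorem F42614 : act 5 n12721 = n12621 := d26_1 D12721 F42080 (iv F40994)
theorem F42615 : act 6 n12721 = n12413 := d27_1 D12721 F41130 (iv D11673) (iv F38121) (iv F40995)
def n12722 : Q := act 3 n12381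
theorem D12722 : act 3 n12381 = n12722 := rfl
theorem F42616 : act 0 n12722 = n12382 := d2_1 D12722 (iv D12382) (iv F41001)
theorem F42617 : act 1 n12722 = n12623 := d8_1 D12722 (iv F42612) F42610
theorem F42618 : act 2 n12722 = n12660 := d13_1 D12722 F42273 (iv F40669) F40670 (iv F41002)
theorem F42619 : act 4 n12722 = n12622 := d18_2 (iv F41003) D12722 (iv D12622) (iv F39894) F39893
theorem F42620 : act 5 n12722 = n12392 := d19_2 (iv F41004) D12722 (iv D12392)
theorem F42621 : act 6 n12722 = n12652 := d20_2 F42608 D12722 (iv F42606)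
theorem F42622 : act 7 n12722 = n12626 := d21_2 D12381 D12722 F42103 (iv F40914) F40912
def n12723 : Q := act 6 n12382
theorem D12723 : act 6 n12382 = n12723 := rfl
theorem F42623 : act 0 n12723 = n12652 := d5_1 D12723 (iv F42621) F42616
theorem F42624 : act 1 n12723 = n12405 := d11_1 D12723 (iv F42549) F42545
theorem F42625 : act 2 n12723 = n12581 := d16_1 D12723 (iv F42483) F42480
theorem F42626 : act 3 n12723 = n12383 := d20_1 D12723 (iv D12383) D12382
theorem F42627 : act 4 n12723 = n12651 := d23_1 D12723 F42235 F42208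
theorem F42628 : act 5 n12723 = n12582 := d25_1 D12723 F41906 F40793 F40766 (iv F41005)
theorem F42629 : act 7 n12650 = n12723 := d26_0 F42628 F41907 (iv F42229)
def n12724 : Q := act 6 n12385
theorem D12724 : act 6 n12385 = n12724 := rfl
theorem F42630 : act 0 n12724 = n12717 := d5_1 D12724 (iv D12717) (iv F41012)
theorem F42631 : act 1 n12724 = n12654 := d11_1 D12724 (iv F42331) F42328
theorem F42632 : act 2 n12724 = n12627 := d16_1 D12724 (iv D12627) (iv F41013)
theorem F42633 : act 3 n12724 = n12388 := d20_1 D12724 (iv D12388) (iv F41014)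
theorem F42634 : act 4 n12724 = n12386 := d23_1 D12724 (iv D12386) D12385
theorem F42635 : act 5 n12724 = n12707 := d25_1 D12724 F42533 F41011 (iv F37917) (iv F41015)
theorem F42636 : act 7 n12724 = n12716 := d27_2 (iv F41016) D12724 F42584 F42524 (iv D12656)
def n12725 : Q := act 6 n12390
theorem D12725 : act 6 n12390 = n12725 := rfl
theorem F42637 : act 1 n12725 = n12401 := d11_1 D12725 (iv F41881) F41879
theorem F42638 : act 3 n12725 = n12706 := d20_1 D12725 F42528 F41046
theorem F42639 : act 4 n12725 = n12391 := d23_1 D12725 (iv D12391) D12390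
theorem F42640 : act 5 n12725 = n12399 := d25_1 D12725 (iv D12399) F38000 (iv F37956) (iv F41034)
def n12726 : Q := act 6 n12395
theorem D12726 : act 6 n12395 = n12726 := rfl
theorem F42641 : act 0 n12726 = n12725 := d5_1 D12726 (iv D12725) (iv F41055)
theorem F42642 : act 1 n12726 = n12400 := d11_1 D12726 F41081 (iv F41056)
theorem F42643 : act 2 n12726 = n12578 := d16_1 D12726 (iv F42501) F42497
theorem F42644 : act 3 n12726 = n12399 := d20_1 D12726 (iv D12399) (iv F41057)
theorem F42645 : act 4 n12726 = n12396 := d23_1 D12726 (iv D12396) D12395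
theorem F42646 : act 5 n12726 = n12706 := d25_1 D12726 F42528 F41047 (iv F37991) (iv F41058)
theorem F42647 : act 7 n12726 = n12602 := d27_2 (iv F41059) D12726 (iv D12602) (iv F41971) F41970
def n12727 : Q := act 3 n12402
theorem D12727 : act 3 n12402 = n12727 := rfl
theorem F42648 : act 0 n12727 = n12405 := d2_1 D12727 (iv D12405) (iv F41085)
theorem F42649 : act 2 n12727 = n12626 := d13_1 D12727 F42103 (iv F41078) F41079 (iv F41086)
theorem F42650 : act 4 n12727 = n12625 := d18_2 D12402 D12727 F42098 F40132 F38445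
theorem F42651 : act 5 n12727 = n12403 := d19_2 (iv F41087) D12727 (iv D12403)
theorem F42652 : act 7 n12727 = n12660 := d21_2 F42564 D12727 F42273 D12663 (iv F42561)
def n12728 : Q := act 6 n12408
theorem D12728 : act 6 n12408 = n12728 := rfl
theorem F42653 : act 0 n12728 = n12578 := d5_1 D12728 (iv F42501) F42495
theorem F42654 : act 1 n12728 = n12547 := d11_1 D12728 F41736 (iv F41103)
theorem F42655 : act 2 n12728 = n12725 := d16_1 D12728 (iv D12725) (iv F41104)
theorem F42656 : act 3 n12728 = n12630 := d20_1 D12728 F42122 F41678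
theorem F42657 : act 4 n12728 = n12409 := d23_1 D12728 (iv D12409) D12408
theorem F42658 : act 5 n12728 = n12704 := d25_1 D12728 F42519 F41073 (iv F38095) (iv F41105)
theorem F42659 : act 7 n12728 = n12697 := d27_2 (iv F41106) D12728 F42477 F41170 (iv D12412)
def n12729 : Q := act 3 n12413
theorem D12729 : act 3 n12413 = n12729 := rfl
theorem F42660 : act 1 n12729 = n12652 := d8_1 D12729 (iv F42606) F42604
theorem F42661 : act 2 n12729 = n12656 := d13_1 D12729 F42255 F41673 F41121 (iv F41128)
theorem F42662 : act 4 n12729 = n12624 := d18_2 D12413 D12729 F42093 (iv F39849) F39848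
theorem F42663 : act 5 n12729 = n12474 := d19_2 (iv F41129) D12729 (iv D12474)
theorem F42664 : act 6 n12729 = n12623 := d20_2 F42615 D12729 (iv F42612)
theorem F42665 : act 7 n12729 = n12647 := d21_2 (iv F41130) D12729 F42217 F41170 F41125
def n12730 : Q := act 3 n12426
theorem D12730 : act 3 n12426 = n12730 := rfl
theorem F42666 : act 0 n12730 = n12473 := d2_1 D12730 (iv D12473) (iv F41183)
theorem F42667 : act 1 n12730 = n12532 := d8_1 D12730 F41663 F41524
theorem F42668 : act 2 n12730 = n12555 := d13_1 D12730 F41774 (iv F41193) (iv D12427) (iv F41184)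
theorem F42669 : act 4 n12730 = n12730 := d18_2 (iv F41185) D12730 (iv D12730) F41185 F38258
theorem F42670 : act 5 n12730 = n12429 := d19_2 (iv F41186) D12730 (iv D12429)
theorem F42671 : act 6 n12730 = n12644 := d20_2 F41659 D12730 F42201
theorem F42672 : act 7 n12730 = n12589 := d21_2 D12426 D12730 F41935 (iv F39663) F39661
def n12731 : Q := act 2 n12429
theorem D12731 : act 2 n12429 = n12731 := rfl
theorem F42673 : act 0 n12731 = n12618 := d1_1 D12731 F42062 (iv F41198)
theorem F42674 : act 1 n12731 = n12505 := d7_1 D12731 (iv D12505) F38837 (iv F38826) (iv F41199)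
theorem F42675 : act 3 n12731 = n12430 := d13_2 D12429 D12731 (iv D12430) (iv D11713) (iv F38289)
theorem F42676 : act 4 n12731 = n12731 := d14_2 F41200 D12731 (iv D12731)
theorem F42677 : act 5 n12731 = n12555 := d15_2 F42670 D12731 (iv F42668)
theorem F42678 : act 6 n12731 = n12613 := d16_2 (iv F41201) D12731 (iv D12613)
theorem F42679 : act 7 n12731 = n12587 := d17_2 (iv F41202) D12731 F41930
def n12732 : Q := act 6 n12434
theorem D12732 : act 6 n12434 = n12732 := rfl
theorem F42680 : act 0 n12732 = n12602 := d5_1 D12732 (iv D12602) (iv F41221)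
theorem F42681 : act 1 n12732 = n12489 := d11_1 D12732 F41468 (iv F41222)
theorem F42682 : act 2 n12732 = n12697 := d16_1 D12732 F42477 (iv F41223)
theorem F42683 : act 3 n12732 = n12438 := d20_1 D12732 (iv D12438) (iv F41224)
theorem F42684 : act 4 n12732 = n12435 := d23_1 D12732 (iv D12435) D12434
theorem F42685 : act 5 n12732 = n12703 := d25_1 D12732 F42512 F40888 (iv F38345) (iv F41225)
theorem F42686 : act 7 n12732 = n12725 := d27_2 (iv F41226) D12732 (iv D12725) F41035 (iv F39418)
def n12733 : Q := act 5 n12439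
theorem D12733 : act 5 n12439 = n12733 := rfl
theorem F42687 : act 0 n12733 = n12710 := d4_1 D12733 F42548 (iv F41247)
theorem F42688 : act 1 n12733 = n12443 := d10_1 D12733 (iv D12443) F38373 (iv F38367) (iv F41248)
theorem F42689 : act 3 n12733 = n12709 := d19_1 D12733 F42543 (iv F41249)
theorem F42690 : act 4 n12733 = n12440 := d22_1 D12733 (iv D12440) D12439
theorem F42691 : act 6 n12733 = n12727 := d25_2 F41256 D12733 F42651 F41091 (iv F41255)
def n12734 : Q := act 2 n12442
theorem D12734 : act 2 n12442 = n12734 := rfl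
theorem F42692 : act 0 n12734 = n12522 := d1_1 D12734 (iv F42077) F42075
theorem F42693 : act 1 n12734 = n12509 := d7_1 D12734 F41557 (iv F41234) F41235 (iv F41258)
theorem F42694 : act 3 n12734 = n12521 := d13_2 D12442 D12734 (iv F42241) F42242 F40078
theorem F42695 : act 4 n12734 = n12510 := d14_2 (iv F41259) D12734 F41563
theorem F42696 : act 6 n12734 = n12634 := d16_2 F42416 D12734 (iv F42414)
theorem F42697 : act 7 n12734 = n12640 := d17_2 (iv F41260) D12734 F42175
theorem F42698 : act 5 n12715 = n12734 := d26_3 F42697 F42178 (iv F42580)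
def n12735 : Q := act 5 n12442
theorem D12735 : act 5 n12442 = n12735 := rfl
theorem F42699 : act 0 n12735 = n12721 := d4_1 D12735 F42614 F42075
theorem F42700 : act 1 n12735 = n12709 := d10_1 D12735 F42543 (iv F41252) F41255 (iv F41258)
theorem F42701 : act 2 n12735 = n12715 := d15_1 D12735 F42698 (iv D12734)
theorem F42702 : act 3 n12735 = n12443 := d19_1 D12735 (iv D12443) D12442
theorem F42703 : act 4 n12735 = n12691 := d22_1 D12735 F42447 (iv F41259)
theorem F42704 : act 7 n12735 = n12690 := d26_2 (iv F41260) D12735 (iv D12690)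
theorem F42705 : act 6 n12735 = n12714 := d28_6 (iv F34005) D11725 D12436 F41235 (iv F41258) D12735 F42572 (iv D12413) (iv F39848) F39847 F35814 (iv D9594) F25099 (iv F26156) (iv F26376) F26375 (iv F24178) (iv D7633) (iv D6020) (iv D4536) F10075 (iv F10097) D4541 F14073 F15409 (iv D4972) (iv D3622) F7840 D2545 F7858 (iv F11192) (iv F11196) D4979 F15437 (iv F15514) (iv F20608) (iv F25985) F25984 (iv F27452) D10155 F32695 F27462 (iv F28100) (iv F29705) F29704 D9330 F29788 (iv F28763) F28759 F26400 F24388 (iv F26227) (iv F29649) (iv F34775) (iv F36545) (iv F40239) (iv F40282) (iv F41505) F41504 F40786 F37799 F33476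
def n12736 : Q := act 6 n12443
theorem D12736 : act 6 n12443 = n12736 := rfl
theorem F42706 : act 0 n12736 = n12729 := d5_1 D12736 F42664 F42086
theorem F42707 : act 1 n12736 = n12727 := d11_1 D12736 (iv F42691) F42688
theorem F42708 : act 2 n12736 = n12671 := d16_1 D12736 F42331 F42246
theorem F42709 : act 3 n12736 = n12714 := d20_1 D12736 (iv F42705) F42702
theorem F42710 : act 4 n12736 = n12444 := d23_1 D12736 (iv D12444) (iv F41261)
theorem F42711 : act 5 n12736 = n12673 := d25_1 D12736 (iv F42410) F42409 F40581 D12443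
def n12737 : Q := act 4 n12446
theorem D12737 : act 4 n12446 = n12737 := rfl
theorem F42712 : act 0 n12737 = n12657 := d3_1 D12737 F42258 (iv F41272)
theorem F42713 : act 1 n12737 = n12447 := d9_1 D12737 (iv D12447) (iv F41273)
theorem F42714 : act 2 n12737 = n12648 := d14_1 D12737 (iv D12648) (iv F41274)
theorem F42715 : act 3 n12737 = n12449 := d18_1 D12737 (iv D12449) (iv D11745) (iv F38395) D12446
theorem F42716 : act 5 n12737 = n12452 := d22_2 (iv F41275) D12737 (iv D12452)
theorem F42717 : act 6 n12737 = n12649 := d23_2 (iv F41276) D12737 (iv D12649)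
theorem F42718 : act 7 n12737 = n12733 := d24_2 (iv F41277) D12737 F42690
def n12738 : Q := act 6 n12447
theorem D12738 : act 6 n12447 = n12738 := rfl
theorem F42719 : act 0 n12738 = n12627 := d5_1 D12738 (iv D12627) (iv F41278)
theorem F42720 : act 1 n12738 = n12649 := d11_1 D12738 (iv F42717) F42713
theorem F42721 : act 2 n12738 = n12717 := d16_1 D12738 (iv D12717) (iv F41279)
theorem F42722 : act 3 n12738 = n12450 := d20_1 D12738 (iv D12450) (iv F41280)
theorem F42723 : act 4 n12738 = n12448 := d23_1 D12738 (iv D12448) D12447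
theorem F42724 : act 5 n12738 = n12700 := d25_1 D12738 F42493 F41026 (iv F38412) (iv F41281)
theorem F42725 : act 7 n12696 = n12738 := d26_0 F42724 (iv D12700) (iv F42474)
def n12739 : Q := act 7 n12455
theorem D12739 : act 7 n12455 = n12739 := rfl
theorem F42726 : act 0 n12739 = n12465 := d6_1 D12739 (iv D12465) (iv F41318)
theorem F42727 : act 1 n12739 = n12673 := d12_1 D12739 F42341 F41995
theorem F42728 : act 2 n12739 = n12484 := d17_1 D12739 F41449 (iv F41319)
theorem F42729 : act 3 n12739 = n12685 := d21_1 D12739 F42411 F41331 (iv F41993) F41990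
theorem F42730 : act 4 n12739 = n12456 := d24_1 D12739 (iv D12456) (iv F41320)
theorem F42731 : act 5 n12739 = n12686 := d26_1 D12739 F42417 F42272
theorem F42732 : act 6 n12739 = n12459 := d27_1 D12739 (iv D12459) (iv D11763) (iv F38477) D12455
def n12740 : Q := act 6 n12466
theorem D12740 : act 6 n12466 = n12740 := rfl
theorem F42733 : act 0 n12740 = n12590 := d5_1 D12740 (iv D12590) (iv F41363)
theorem F42734 : act 1 n12740 = n12469 := d11_1 D12740 (iv D12469) (iv F41364)
theorem F42735 : act 2 n12740 = n12619 := d16_1 D12740 (iv D12619) (iv F41365)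
theorem F42736 : act 3 n12740 = n12467 := d20_1 D12740 (iv D12467) D12466
theorem F42737 : act 4 n12740 = n12740 := d23_1 D12740 (iv D12740) F41366
theorem F42738 : act 5 n12740 = n12593 := d25_1 D12740 (iv D12593) (iv F41544) F41545 (iv F41367)
def n12741 : Q := act 5 n12467
theorem D12741 : act 5 n12467 = n12741 := rfl
theorem F42739 : act 0 n12741 = n12591 := d4_1 D12741 (iv D12591) (iv F41368)
theorem F42740 : act 2 n12741 = n12643 := d15_1 D12741 (iv D12643) (iv F41370)
theorem F42741 : act 3 n12741 = n12593 := d19_1 D12741 (iv F42738) F42736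
theorem F42742 : act 4 n12741 = n12468 := d22_1 D12741 (iv D12468) (iv F41371)
theorem F42743 : act 6 n12741 = n12537 := d25_2 D12467 D12741 F42157 (iv D12636) F39684
theorem F42744 : act 1 n12741 = n12538 := d30_2 D12467 D12741 F41690 F39273 (iv F35532) (iv D11004) (iv F35526) (iv F37939) (iv F38307) F38308 (iv F37957) F37956 (iv F38000) (iv F41067) (iv F42541) (iv F42689) (iv F42718) F42717 F42224 F40050 (iv F40522) F40523 F38005 F33577 (iv F34044) (iv F38278) (iv F38616) (iv D11798) (iv F38577)
def n12742 : Q := act 5 n12469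
theorem D12742 : act 5 n12469 = n12742 := rfl
theorem F42745 : act 0 n12742 = n12492 := d4_1 D12742 (iv D12492) (iv F41377)
theorem F42746 : act 1 n12742 = n12594 := d10_1 D12742 (iv D12594) (iv F41943) (iv F42738) F42734
theorem F42747 : act 3 n12742 = n12470 := d19_1 D12742 (iv D12470) (iv F41378)
theorem F42748 : act 4 n12742 = n12742 := d22_1 D12742 (iv D12742) F41379
theorem F42749 : act 7 n12742 = n12662 := d26_2 F41476 D12742 F42285
def n12743 : Q := act 1 n12470
theorem D12743 : act 1 n12470 = n12743 := rfl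
theorem F42750 : act 0 n12743 = n12540 := d0_1 D12743 (iv F41700) F41488 (iv D12494) (iv F41380)
theorem F42751 : act 2 n12743 = n12583 := d7_2 (iv F41381) D12743 (iv F41924) F41925 (iv D12472)
theorem F42752 : act 3 n12743 = n12594 := d8_2 F42747 D12743 (iv F42746)
theorem F42753 : act 4 n12743 = n12471 := d9_2 (iv F41382) D12743 (iv D12471)
theorem F42754 : act 5 n12743 = n12538 := d10_2 D12470 D12743 (iv F42744) (iv D12741) F41369
theorem F42755 : act 6 n12743 = n12570 := d11_2 F42422 D12743 (iv F42419)
theorem F42756 : act 7 n12743 = n12682 := d12_2 (iv F41383) D12743 F42388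
def n12744 : Q := act 5 n12485
theorem D12744 : act 5 n12485 = n12744 := rfl
theorem F42757 : act 1 n12744 = n12589 := d10_1 D12744 F41937 (iv F41535) F41539 F41529
theorem F42758 : act 2 n12744 = n12513 := d15_1 D12744 (iv F42003) F42001
theorem F42759 : act 3 n12744 = n12486 := d19_1 D12744 (iv D12486) (iv F41450)
theorem F42760 : act 4 n12744 = n12744 := d22_1 D12744 (iv D12744) F41451
theorem F42761 : act 6 n12744 = n12492 := d25_2 D12485 D12744 (iv D12492) (iv D11836) (iv F38727)
theorem F42762 : act 7 n12744 = n12532 := d26_2 F41522 D12744 F41665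
def n12745 : Q := act 6 n12490
theorem D12745 : act 6 n12490 = n12745 := rfl
theorem F42763 : act 0 n12745 = n12596 := d5_1 D12745 (iv F42191) F42187
theorem F42764 : act 1 n12745 = n12491 := d11_1 D12745 (iv D12491) D12490
theorem F42765 : act 2 n12745 = n12593 := d16_1 D12745 (iv D12593) (iv F41470)
theorem F42766 : act 3 n12745 = n12507 := d20_1 D12745 (iv D12507) (iv F41471)
theorem F42767 : act 4 n12745 = n12745 := d23_1 D12745 (iv D12745) F41472
theorem F42768 : act 5 n12745 = n12619 := d25_1 D12745 (iv D12619) (iv D12044) (iv F38839) (iv F41473)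
theorem F42769 : act 7 n12745 = n12740 := d27_2 F42024 D12745 (iv D12740) (iv F42030) F42029
def n12746 : Q := act 1 n12492
theorem D12746 : act 1 n12492 = n12746 := rfl
theorem F42770 : act 0 n12746 = n12619 := d0_1 D12746 F42066 F41949 (iv F42746) F42745
theorem F42771 : act 2 n12746 = n12590 := d7_2 F42283 D12746 F41938 (iv F41694) (iv F42282)
theorem F42772 : act 3 n12746 = n12494 := d8_2 (iv F41477) D12746 (iv D12494)
theorem F42773 : act 4 n12746 = n12746 := d9_2 F41478 D12746 (iv D12746)
theorem F42774 : act 5 n12746 = n12596 := d10_2 D12492 D12746 (iv D12596) (iv D11991) (iv F38767)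
theorem F42775 : act 6 n12746 = n12589 := d11_2 F42761 D12746 (iv F42757)
def n12747 : Q := act 7 n12492
theorem D12747 : act 7 n12492 = n12747 := rfl
theorem F42776 : act 0 n12747 = n12662 := d6_1 D12747 (iv F42749) F42745
theorem F42777 : act 2 n12747 = n12742 := d17_1 D12747 F42749 F42283
theorem F42778 : act 3 n12747 = n12661 := d21_1 D12747 F42281 F40792 F40721 (iv F41477)
theorem F42779 : act 4 n12747 = n12747 := d24_1 D12747 (iv D12747) F41478
theorem F42780 : act 5 n12747 = n12493 := d26_1 D12747 (iv D12493) D12492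
theorem F42781 : act 6 n12747 = n12620 := d27_1 D12747 F42073 F41666 (iv F42762) F42761
def n12748 : Q := act 4 n12497
theorem D12748 : act 4 n12497 = n12748 := rfl
theorem F42782 : act 0 n12748 = n12668 := d3_1 D12748 F42313 (iv F41503)
theorem F42783 : act 1 n12748 = n12498 := d9_1 D12748 (iv D12498) D12497
theorem F42784 : act 2 n12748 = n12695 := d14_1 D12748 F42469 (iv F41504)
theorem F42785 : act 5 n12748 = n12684 := d22_2 (iv F41506) D12748 F42404
theorem F42786 : act 6 n12748 = n12666 := d23_2 (iv F41507) D12748 (iv D12666)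
theorem F42787 : act 7 n12748 = n12675 := d24_2 (iv F41508) D12748 (iv D12675)
def n12749 : Q := act 3 n12498
theorem D12749 : act 3 n12498 = n12749 := rfl
theorem F42788 : act 0 n12749 = n12675 := d2_1 D12749 F42351 F42290
theorem F42789 : act 2 n12749 = n12692 := d13_1 D12749 F42450 F40891 (iv F38811) (iv F41509)
theorem F42790 : act 4 n12749 = n12669 := d18_2 D12498 D12749 F42318 F40429 F39957
theorem F42791 : act 5 n12749 = n12499 := d19_2 (iv F41510) D12749 (iv D12499)
theorem F42792 : act 6 n12749 = n12699 := d20_2 F41885 D12749 F42486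
theorem F42793 : act 7 n12749 = n12668 := d21_2 (iv F41511) D12749 F42312 (iv F42348) F42345
def n12750 : Q := act 2 n12504
theorem D12750 : act 2 n12504 = n12750 := rfl
theorem F42794 : act 0 n12750 = n12505 := d1_1 D12750 (iv D12505) (iv F41540)
theorem F42795 : act 3 n12750 = n12588 := d13_2 D12504 D12750 (iv F42125) F42126 F39631
theorem F42796 : act 4 n12750 = n12750 := d14_2 F41541 D12750 (iv D12750)
theorem F42797 : act 5 n12750 = n12592 := d15_2 F42190 D12750 F42193
theorem F42798 : act 6 n12750 = n12587 := d16_2 (iv F41542) D12750 F41930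
def n12751 : Q := act 7 n12505
theorem D12751 : act 7 n12505 = n12751 := rfl
theorem F42799 : act 1 n12751 = n12587 := d12_1 D12751 (iv F42679) F42674
theorem F42800 : act 2 n12751 = n12506 := d17_1 D12751 (iv D12506) D12505
theorem F42801 : act 3 n12751 = n12545 := d21_1 D12751 F41727 (iv F41217) (iv F42156) F42154
theorem F42802 : act 4 n12751 = n12751 := d24_1 D12751 (iv D12751) F41543
theorem F42803 : act 5 n12751 = n12553 := d26_1 D12751 F41768 (iv F41544)
def n12752 : Q := act 6 n12506
theorem D12752 : act 6 n12506 = n12752 := rfl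
theorem F42804 : act 0 n12752 = n12615 := d5_1 D12752 F42050 F41572
theorem F42805 : act 1 n12752 = n12508 := d11_1 D12752 (iv D12508) (iv F41546)
theorem F42806 : act 3 n12752 = n12541 := d20_1 D12752 (iv D12541) (iv F41547)
theorem F42807 : act 4 n12752 = n12752 := d23_1 D12752 (iv D12752) F41548
theorem F42808 : act 7 n12752 = n12611 := d27_2 D12506 D12752 F42034 (iv D12045) (iv F38839)
def n12753 : Q := act 2 n12512
theorem D12753 : act 2 n12512 = n12753 := rfl
theorem F42809 : act 0 n12753 = n12751 := d1_1 D12753 F42800 (iv F41572)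
theorem F42810 : act 3 n12753 = n12616 := d13_2 D12512 D12753 F42052 (iv D12543) F39046
theorem F42811 : act 4 n12753 = n12753 := d14_2 F41573 D12753 (iv D12753)
theorem F42812 : act 5 n12753 = n12644 := d15_2 (iv F41574) D12753 (iv D12644)
theorem F42813 : act 6 n12753 = n12614 := d16_2 F42050 D12753 (iv F42046)
theorem F42814 : act 7 n12753 = n12750 := d17_2 (iv F41575) D12753 (iv D12750)
def n12754 : Q := act 4 n12514
theorem D12754 : act 4 n12514 = n12754 := rfl
theorem F42815 : act 0 n12754 = n12515 := d3_1 D12754 (iv D12515) (iv F41579)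
theorem F42816 : act 1 n12754 = n12699 := d9_1 D12754 F42487 (iv F41580)
theorem F42817 : act 2 n12754 = n12516 := d14_1 D12754 (iv D12516) (iv F41581)
theorem F42818 : act 3 n12754 = n12666 := d18_1 D12754 (iv D12666) (iv D12215) (iv F38889) D12514
theorem F42819 : act 5 n12754 = n12519 := d22_2 (iv F41582) D12754 (iv D12519)
theorem F42820 : act 7 n12754 = n12672 := d24_2 (iv F41583) D12754 (iv D12672)
def n12755 : Q := act 7 n12516
theorem D12755 : act 7 n12516 = n12755 := rfl
theorem F42821 : act 0 n12755 = n12518 := d6_1 D12755 (iv D12518) (iv F41588)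
theorem F42822 : act 1 n12755 = n12678 := d12_1 D12755 F42372 (iv F41589)
theorem F42823 : act 2 n12755 = n12672 := d17_1 D12755 (iv F42820) F42817
theorem F42824 : act 3 n12755 = n12715 := d21_1 D12755 F42580 (iv F42626) (iv F42629) F42228
theorem F42825 : act 4 n12755 = n12517 := d24_1 D12755 (iv D12517) D12516
theorem F42826 : act 5 n12755 = n12521 := d26_1 D12755 (iv D12521) (iv F41590)
theorem F42827 : act 6 n12755 = n12670 := d27_1 D12755 F42326 F41733 D12548 (iv F41742)
def n12756 : Q := act 7 n12523
theorem D12756 : act 7 n12523 = n12756 := rfl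
theorem F42828 : act 0 n12756 = n12665 := d6_1 D12756 (iv F42348) F42342
theorem F42829 : act 1 n12756 = n12749 := d12_1 D12756 F42793 F42310
theorem F42830 : act 2 n12756 = n12548 := d17_1 D12756 (iv D12548) (iv F41621)
theorem F42831 : act 3 n12756 = n12748 := d21_1 D12756 F42787 F42351 F42293 (iv F41622)
theorem F42832 : act 4 n12756 = n12524 := d24_1 D12756 (iv D12524) D12523
theorem F42833 : act 5 n12756 = n12525 := d26_1 D12756 (iv D12525) (iv F41623)
theorem F42834 : act 6 n12756 = n12754 := d27_1 D12756 F42820 F42337 (iv F40681) (iv F41624)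
def n12757 : Q := act 7 n12533
theorem D12757 : act 7 n12533 = n12757 := rfl
theorem F42835 : act 0 n12757 = n12744 := d6_1 D12757 F42762 (iv F41667)
theorem F42836 : act 1 n12757 = n12558 := d12_1 D12757 (iv D12558) (iv F41668)
theorem F42837 : act 2 n12757 = n12620 := d17_1 D12757 F42073 (iv F41669)
theorem F42838 : act 3 n12757 = n12687 := d21_1 D12757 F42423 F41570 F40586 (iv F41670)
theorem F42839 : act 4 n12757 = n12757 := d24_1 D12757 (iv D12757) F41671
theorem F42840 : act 5 n12757 = n12617 := d26_1 D12757 (iv F42360) F42358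
theorem F42841 : act 6 n12757 = n12742 := d27_1 D12757 F42749 F42286 F41578 D12533
def n12758 : Q := act 3 n12548
theorem D12758 : act 3 n12548 = n12758 := rfl
theorem F42842 : act 0 n12758 = n12648 := d2_1 D12758 F42219 (iv F41738)
theorem F42843 : act 1 n12758 = n12581 := d8_1 D12758 (iv D12581) (iv F41739)
theorem F42844 : act 2 n12758 = n12657 := d13_1 D12758 F42472 (iv F42784) (iv F42831) F42830
theorem F42845 : act 4 n12758 = n12567 := d18_2 (iv F41740) D12758 F41837 F40031 (iv F39070)
theorem F42846 : act 5 n12758 = n12549 := d19_2 (iv F41741) D12758 (iv D12549)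
theorem F42847 : act 6 n12758 = n12650 := d20_2 F41742 D12758 F42228
theorem F42848 : act 7 n12758 = n12565 := d21_2 D12548 D12758 F41827 (iv F40375) F40373
def n12759 : Q := act 5 n12550
theorem D12759 : act 5 n12550 = n12759 := rfl
theorem F42849 : act 0 n12759 = n12569 := d4_1 D12759 (iv D12569) (iv F41749)
theorem F42850 : act 1 n12759 = n12689 := d10_1 D12759 (iv D12689) F40630 (iv F40627) (iv F41750)
theorem F42851 : act 2 n12759 = n12570 := d15_1 D12759 (iv D12570) (iv F41751)
theorem F42852 : act 3 n12759 = n12551 := d19_1 D12759 (iv D12551) (iv F41752)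
theorem F42853 : act 4 n12759 = n12568 := d22_1 D12759 (iv D12568) (iv F41753)
theorem F42854 : act 6 n12759 = n12583 := d25_2 D12550 D12759 (iv D12583) (iv D11976) (iv F39082)
theorem F42855 : act 7 n12759 = n12612 := d26_2 (iv F41754) D12759 (iv D12612)
def n12760 : Q := act 5 n12562
theorem D12760 : act 5 n12562 = n12760 := rfl
theorem F42856 : act 0 n12760 = n12565 := d4_1 D12760 (iv D12565) (iv F41809)
theorem F42857 : act 1 n12760 = n12627 := d10_1 D12760 F42107 (iv F41796) F41799 (iv F41810)
theorem F42858 : act 2 n12760 = n12733 := d15_1 D12760 (iv D12733) (iv F41811)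
theorem F42859 : act 3 n12760 = n12573 := d19_1 D12760 F41871 (iv F41812)
theorem F42860 : act 4 n12760 = n12563 := d22_1 D12760 (iv D12563) D12562
theorem F42861 : act 6 n12760 = n12626 := d25_2 (iv F41813) D12760 F42104 (iv F41238) F41237
theorem F42862 : act 7 n12760 = n12648 := d26_2 (iv F41814) D12760 F42220
def n12761 : Q := act 7 n12578
theorem D12761 : act 7 n12578 = n12761 := rfl
theorem F42863 : act 0 n12761 = n12697 := d6_1 D12761 (iv F42659) F42653
theorem F42864 : act 1 n12761 = n12580 := d12_1 D12761 (iv D12580) (iv F41886)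
theorem F42865 : act 2 n12761 = n12602 := d17_1 D12761 (iv F42647) F42643
theorem F42866 : act 3 n12761 = n12696 := d21_1 D12761 F42725 F42722 (iv F42507) F42505
theorem F42867 : act 4 n12761 = n12579 := d24_1 D12761 (iv D12579) D12578
theorem F42868 : act 5 n12761 = n12693 := d26_1 D12761 F42460 (iv F41887)
theorem F42869 : act 6 n12761 = n12601 := d27_1 D12761 (iv F42571) F42570 (iv F42500) F42501
def n12762 : Q := act 5 n12584
theorem D12762 : act 5 n12584 = n12762 := rfl
theorem F42870 : act 0 n12762 = n12643 := d4_1 D12762 (iv D12643) (iv F41912)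
theorem F42871 : act 1 n12762 = n12681 := d10_1 D12762 (iv F42392) F42388 F40797 (iv F41913)
theorem F42872 : act 2 n12762 = n12591 := d15_1 D12762 (iv D12591) (iv F41914)
theorem F42873 : act 3 n12762 = n12597 := d19_1 D12762 F42134 F42131
theorem F42874 : act 4 n12762 = n12585 := d22_1 D12762 (iv D12585) (iv F41915)
theorem F42875 : act 6 n12762 = n12679 := d25_2 D12584 D12762 F42377 (iv D12631) F39602
theorem F42876 : act 7 n12762 = n12741 := d26_2 (iv F41916) D12762 (iv D12741)
def n12763 : Q := act 5 n12590
theorem D12763 : act 5 n12590 = n12763 := rfl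
theorem F42877 : act 0 n12763 = n12593 := d4_1 D12763 (iv F42738) F42733
theorem F42878 : act 1 n12763 = n12747 := d10_1 D12763 F42780 F41480 F39318 (iv F41938)
theorem F42879 : act 2 n12763 = n12596 := d15_1 D12763 (iv F42774) F42771
theorem F42880 : act 3 n12763 = n12591 := d19_1 D12763 (iv D12591) (iv F41939)
theorem F42881 : act 4 n12763 = n12763 := d22_1 D12763 (iv D12763) F41940
theorem F42882 : act 6 n12763 = n12592 := d25_2 D12590 D12763 (iv F42797) F42798 F41932
theorem F42883 : act 7 n12763 = n12746 := d26_2 F41957 D12763 F42774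
def n12764 : Q := act 3 n12601
theorem D12764 : act 3 n12601 = n12764 := rfl
theorem F42884 : act 0 n12764 = n12647 := d2_1 D12764 F42217 (iv F41979)
theorem F42885 : act 1 n12764 = n12660 := d8_1 D12764 F42273 (iv F41980)
theorem F42886 : act 2 n12764 = n12607 := d13_1 D12764 (iv D12607) F39424 (iv F39380) (iv F41981)
theorem F42887 : act 4 n12764 = n12646 := d18_2 D12601 D12764 (iv D12646) F40016 (iv F39378)
theorem F42888 : act 5 n12764 = n12604 := d19_2 (iv F41982) D12764 (iv D12604)
theorem F42889 : act 6 n12764 = n12696 := d20_2 F42869 D12764 (iv F42866)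
theorem F42890 : act 7 n12764 = n12736 := d21_2 F42571 D12764 F42709 (iv D12714) (iv F42568)
def n12765 : Q := act 6 n12607
theorem D12765 : act 6 n12607 = n12765 := rfl
theorem F42891 : act 0 n12765 = n12716 := d5_1 D12765 F42584 F42520
theorem F42892 : act 1 n12765 = n12656 := d11_1 D12765 (iv D12656) (iv F42012)
theorem F42893 : act 2 n12765 = n12696 := d16_1 D12765 (iv F42889) F42886
theorem F42894 : act 3 n12765 = n12608 := d20_1 D12765 (iv D12608) D12607
theorem F42895 : act 4 n12765 = n12655 := d23_1 D12765 (iv D12655) (iv F42013)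
theorem F42896 : act 5 n12765 = n12699 := d25_1 D12765 (iv F42792) F42791 F41516 (iv F42014)
theorem F42897 : act 7 n12765 = n12717 := d27_2 F42332 D12765 (iv D12717) (iv F42248) (iv F42331)
def n12766 : Q := act 2 n12611
theorem D12766 : act 2 n12611 = n12766 := rfl
theorem F42898 : act 0 n12766 = n12613 := d1_1 D12766 (iv D12613) (iv F42031)
theorem F42899 : act 1 n12766 = n12753 := d7_1 D12766 (iv D12753) (iv F42057) F42058 (iv F42032)
theorem F42900 : act 3 n12766 = n12641 := d13_2 D12611 D12766 F42183 F39737 (iv F39493)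
theorem F42901 : act 4 n12766 = n12766 := d14_2 F42033 D12766 (iv D12766)
theorem F42902 : act 6 n12766 = n12618 := d16_2 (iv F42034) D12766 F42062
theorem F42903 : act 5 n12766 = n12752 := d31_0 F42808 F42033 D12766 F42902 F42063 F39729 F39485 F38617 F34317 (iv D10527) (iv F30743) F30745 F25337 D8019 F25371 F19972 F19971 (iv F25363) F25364 (iv F25332) D9636 (iv F30894) (iv F33937) F33938 F30905 D11023 (iv F39728) D12641 (iv F42900)
def n12767 : Q := act 5 n12611
theorem D12767 : act 5 n12611 = n12767 := rfl
theorem F42904 : act 0 n12767 = n12614 := d4_1 D12767 (iv D12614) (iv F42031)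
theorem F42905 : act 1 n12767 = n12750 := d10_1 D12767 F42797 F42074 (iv D12620) (iv F42032)
theorem F42906 : act 2 n12767 = n12752 := d15_1 D12767 (iv F42903) (iv D12766)
theorem F42907 : act 3 n12767 = n12612 := d19_1 D12767 (iv D12612) D12611
theorem F42908 : act 4 n12767 = n12767 := d22_1 D12767 (iv D12767) F42033
theorem F42909 : act 6 n12767 = n12751 := d25_2 (iv F42034) D12767 F42803 F41767 F41396
theorem F42910 : act 7 n12767 = n12766 := d26_2 F42808 D12767 F42903
def n12768 : Q := act 7 n12627
theorem D12768 : act 7 n12627 = n12768 := rfl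
theorem F42911 : act 0 n12768 = n12696 := d6_1 D12768 F42725 F42719
theorem F42912 : act 1 n12768 = n12648 := d12_1 D12768 (iv F42862) F42857
theorem F42913 : act 2 n12768 = n12716 := d17_1 D12768 (iv F42636) F42632
theorem F42914 : act 3 n12768 = n12697 := d21_1 D12768 (iv F42659) F42656 (iv D12630) (iv F42105)
theorem F42915 : act 4 n12768 = n12628 := d24_1 D12768 (iv D12628) (iv F42106)
theorem F42916 : act 5 n12768 = n12694 := d26_1 D12768 F42466 (iv F42107)
theorem F42917 : act 6 n12768 = n12647 := d27_1 D12768 (iv F42665) F42664 F42089 D12627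

end Cfsg.Agent.Helper17.U6PTC
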