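import Cfsg.Agent.Helper17.U6PTC.Fin1

set_option autoImplicit false
set_option linter.all false
set_option maxRecDepth 100000

noncomputable section

namespace Cfsg.Agent.Helper17.U6PTC

theorem N10001 : nd 10001 = n10098 := ndS (p := 8444) (l := 4) rfl N8444 D10098
theorem N10002 : nd 10002 = n10099 := ndS (p := 8445) (l := 1) rfl N8445 D10099
theorem N10003 : nd 10003 = n10100 := ndS (p := 8447) (l := 1) rfl N8447 D10100
theorem N10004 : nd 10004 = n10101 := ndS (p := 8449) (l := 3) rfl N8449 D10101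
theorem N10005 : nd 10005 = n10102 := ndS (p := 8449) (l := 6) rfl N8449 D10102
theorem N10006 : nd 10006 = n10103 := ndS (p := 8450) (l := 2) rfl N8450 D10103
theorem N10007 : nd 10007 = n10104 := ndS (p := 8450) (l := 4) rfl N8450 D10104
theorem N10008 : nd 10008 = n10105 := ndS (p := 8455) (l := 4) rfl N8455 D10105
theorem N10009 : nd 10009 = n10106 := ndS (p := 8455) (l := 7) rfl N8455 D10106
theorem N10010 : nd 10010 = n10107 := ndS (p := 8456) (l := 3) rfl N8456 D10107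
theorem N10011 : nd 10011 = n10108 := ndS (p := 8457) (l := 2) rfl N8457 D10108
theorem N10012 : nd 10012 = n10109 := ndS (p := 8462) (l := 0) rfl N8462 D10109
theorem N10013 : nd 10013 = n10110 := ndS (p := 8463) (l := 6) rfl N8463 D10110
theorem N10014 : nd 10014 = n10111 := ndS (p := 8464) (l := 7) rfl N8464 D10111
theorem N10015 : nd 10015 = n10112 := ndS (p := 8465) (l := 3) rfl N8465 D10112
theorem N10016 : nd 10016 = n10113 := ndS (p := 8465) (l := 6) rfl N8465 D10113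
theorem N10017 : nd 10017 = n10114 := ndS (p := 8466) (l := 4) rfl N8466 D10114
theorem N10018 : nd 10018 = n10115 := ndS (p := 8467) (l := 2) rfl N8467 D10115
theorem N10019 : nd 10019 = n10116 := ndS (p := 8467) (l := 6) rfl N8467 D10116
theorem N10020 : nd 10020 = n10117 := ndS (p := 8472) (l := 7) rfl N8472 D10117
theorem N10021 : nd 10021 = n10118 := ndS (p := 8473) (l := 3) rfl N8473 D10118
theorem N10022 : nd 10022 = n10119 := ndS (p := 8473) (l := 6) rfl N8473 D10119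
theorem N10023 : nd 10023 = n10120 := ndS (p := 8474) (l := 5) rfl N8474 D10120
theorem N10024 : nd 10024 = n10121 := ndS (p := 8476) (l := 3) rfl N8476 D10121
theorem N10025 : nd 10025 = n10122 := ndS (p := 8476) (l := 6) rfl N8476 D10122
theorem N10026 : nd 10026 = n10123 := ndS (p := 8477) (l := 2) rfl N8477 D10123
theorem N10027 : nd 10027 = n10124 := ndS (p := 8477) (l := 4) rfl N8477 D10124
theorem N10028 : nd 10028 = n10125 := ndS (p := 8478) (l := 6) rfl N8478 D10125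
theorem N10029 : nd 10029 = n10126 := ndS (p := 8480) (l := 1) rfl N8480 D10126
theorem N10030 : nd 10030 = n10127 := ndS (p := 8483) (l := 3) rfl N8483 D10127
theorem N10031 : nd 10031 = n10128 := ndS (p := 8484) (l := 2) rfl N8484 D10128
theorem N10032 : nd 10032 = n10129 := ndS (p := 8486) (l := 3) rfl N8486 D10129
theorem N10033 : nd 10033 = n10130 := ndS (p := 8486) (l := 6) rfl N8486 D10130
theorem N10034 : nd 10034 = n10131 := ndS (p := 8487) (l := 6) rfl N8487 D10131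
theorem N10035 : nd 10035 = n10132 := ndS (p := 8489) (l := 1) rfl N8489 D10132
theorem N10036 : nd 10036 = n10133 := ndS (p := 8494) (l := 3) rfl N8494 D10133
theorem N10037 : nd 10037 = n10134 := ndS (p := 8495) (l := 5) rfl N8495 D10134
theorem N10038 : nd 10038 = n10135 := ndS (p := 8495) (l := 7) rfl N8495 D10135
theorem N10039 : nd 10039 = n10136 := ndS (p := 8496) (l := 7) rfl N8496 D10136
theorem N10040 : nd 10040 = n10137 := ndS (p := 8497) (l := 3) rfl N8497 D10137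
theorem N10041 : nd 10041 = n10138 := ndS (p := 8498) (l := 4) rfl N8498 D10138
theorem N10042 : nd 10042 = n10139 := ndS (p := 8498) (l := 6) rfl N8498 D10139
theorem N10043 : nd 10043 = n10140 := ndS (p := 8499) (l := 5) rfl N8499 D10140
theorem N10044 : nd 10044 = n10141 := ndS (p := 8500) (l := 5) rfl N8500 D10141
theorem N10045 : nd 10045 = n10142 := ndS (p := 8501) (l := 1) rfl N8501 D10142
theorem N10046 : nd 10046 = n10143 := ndS (p := 8502) (l := 5) rfl N8502 D10143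
theorem N10047 : nd 10047 = n10144 := ndS (p := 8502) (l := 7) rfl N8502 D10144
theorem N10048 : nd 10048 = n10145 := ndS (p := 8503) (l := 1) rfl N8503 D10145
theorem N10049 : nd 10049 = n10146 := ndS (p := 8503) (l := 7) rfl N8503 D10146
theorem N10050 : nd 10050 = n10147 := ndS (p := 8505) (l := 0) rfl N8505 D10147
theorem N10051 : nd 10051 = n10148 := ndS (p := 8505) (l := 2) rfl N8505 D10148
theorem N10052 : nd 10052 = n10149 := ndS (p := 8506) (l := 2) rfl N8506 D10149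
theorem N10053 : nd 10053 = n10150 := ndS (p := 8506) (l := 6) rfl N8506 D10150
theorem N10054 : nd 10054 = n10151 := ndS (p := 8507) (l := 5) rfl N8507 D10151
theorem N10055 : nd 10055 = n10152 := ndS (p := 8508) (l := 1) rfl N8508 D10152
theorem N10056 : nd 10056 = n10153 := ndS (p := 8509) (l := 2) rfl N8509 D10153
theorem N10057 : nd 10057 = n10154 := ndS (p := 8510) (l := 1) rfl N8510 D10154
theorem N10058 : nd 10058 = n10155 := ndS (p := 8511) (l := 5) rfl N8511 D10155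
theorem N10059 : nd 10059 = n10156 := ndS (p := 8513) (l := 2) rfl N8513 D10156
theorem N10060 : nd 10060 = n10157 := ndS (p := 8514) (l := 7) rfl N8514 D10157
theorem N10061 : nd 10061 = n10158 := ndS (p := 8515) (l := 3) rfl N8515 D10158
theorem N10062 : nd 10062 = n10159 := ndS (p := 8517) (l := 3) rfl N8517 D10159
theorem N10063 : nd 10063 = n10160 := ndS (p := 8518) (l := 5) rfl N8518 D10160
theorem N10064 : nd 10064 = n10161 := ndS (p := 8519) (l := 7) rfl N8519 D10161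
theorem N10065 : nd 10065 = n10162 := ndS (p := 8520) (l := 3) rfl N8520 D10162
theorem N10066 : nd 10066 = n10163 := ndS (p := 8521) (l := 7) rfl N8521 D10163
theorem N10067 : nd 10067 = n10164 := ndS (p := 8522) (l := 3) rfl N8522 D10164
theorem N10068 : nd 10068 = n10165 := ndS (p := 8523) (l := 4) rfl N8523 D10165
theorem N10069 : nd 10069 = n10166 := ndS (p := 8524) (l := 2) rfl N8524 D10166
theorem N10070 : nd 10070 = n10167 := ndS (p := 8525) (l := 3) rfl N8525 D10167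
theorem N10071 : nd 10071 = n10168 := ndS (p := 8527) (l := 1) rfl N8527 D10168
theorem N10072 : nd 10072 = n10169 := ndS (p := 8530) (l := 2) rfl N8530 D10169
theorem N10073 : nd 10073 = n10170 := ndS (p := 8531) (l := 1) rfl N8531 D10170
theorem N10074 : nd 10074 = n10171 := ndS (p := 8531) (l := 7) rfl N8531 D10171
theorem N10075 : nd 10075 = n10172 := ndS (p := 8532) (l := 3) rfl N8532 D10172
theorem N10076 : nd 10076 = n10173 := ndS (p := 8533) (l := 2) rfl N8533 D10173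
theorem N10077 : nd 10077 = n10174 := ndS (p := 8534) (l := 6) rfl N8534 D10174
theorem N10078 : nd 10078 = n10175 := ndS (p := 8535) (l := 0) rfl N8535 D10175
theorem N10079 : nd 10079 = n10176 := ndS (p := 8536) (l := 0) rfl N8536 D10176
theorem N10080 : nd 10080 = n10177 := ndS (p := 8536) (l := 2) rfl N8536 D10177
theorem N10081 : nd 10081 = n10178 := ndS (p := 8536) (l := 7) rfl N8536 D10178
theorem N10082 : nd 10082 = n10179 := ndS (p := 8537) (l := 3) rfl N8537 D10179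
theorem N10083 : nd 10083 = n10180 := ndS (p := 8537) (l := 6) rfl N8537 D10180
theorem N10084 : nd 10084 = n10181 := ndS (p := 8538) (l := 2) rfl N8538 D10181
theorem N10085 : nd 10085 = n10182 := ndS (p := 8539) (l := 2) rfl N8539 D10182
theorem N10086 : nd 10086 = n10183 := ndS (p := 8539) (l := 7) rfl N8539 D10183
theorem N10087 : nd 10087 = n10184 := ndS (p := 8540) (l := 7) rfl N8540 D10184
theorem N10088 : nd 10088 = n10185 := ndS (p := 8541) (l := 6) rfl N8541 D10185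
theorem N10089 : nd 10089 = n10186 := ndS (p := 8542) (l := 2) rfl N8542 D10186
theorem N10090 : nd 10090 = n10187 := ndS (p := 8542) (l := 4) rfl N8542 D10187
theorem N10091 : nd 10091 = n10188 := ndS (p := 8542) (l := 6) rfl N8542 D10188
theorem N10092 : nd 10092 = n10189 := ndS (p := 8544) (l := 4) rfl N8544 D10189
theorem N10093 : nd 10093 = n10190 := ndS (p := 8546) (l := 2) rfl N8546 D10190
theorem N10094 : nd 10094 = n10191 := ndS (p := 8547) (l := 3) rfl N8547 D10191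
theorem N10095 : nd 10095 = n10192 := ndS (p := 8548) (l := 7) rfl N8548 D10192
theorem N10096 : nd 10096 = n10193 := ndS (p := 8552) (l := 7) rfl N8552 D10193
theorem N10097 : nd 10097 = n10194 := ndS (p := 8553) (l := 4) rfl N8553 D10194
theorem N10098 : nd 10098 = n10195 := ndS (p := 8554) (l := 3) rfl N8554 D10195
theorem N10099 : nd 10099 = n10196 := ndS (p := 8555) (l := 1) rfl N8555 D10196
theorem N10100 : nd 10100 = n10197 := ndS (p := 8556) (l := 2) rfl N8556 D10197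
theorem N10101 : nd 10101 = n10198 := ndS (p := 8557) (l := 3) rfl N8557 D10198
theorem N10102 : nd 10102 = n10199 := ndS (p := 8558) (l := 4) rfl N8558 D10199
theorem N10103 : nd 10103 = n10200 := ndS (p := 8559) (l := 3) rfl N8559 D10200
theorem N10104 : nd 10104 = n10201 := ndS (p := 8559) (l := 6) rfl N8559 D10201
theorem N10105 : nd 10105 = n10202 := ndS (p := 8560) (l := 2) rfl N8560 D10202
theorem N10106 : nd 10106 = n10203 := ndS (p := 8562) (l := 0) rfl N8562 D10203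
theorem N10107 : nd 10107 = n10204 := ndS (p := 8562) (l := 7) rfl N8562 D10204
theorem N10108 : nd 10108 = n10205 := ndS (p := 8563) (l := 3) rfl N8563 D10205
theorem N10109 : nd 10109 = n10206 := ndS (p := 8563) (l := 6) rfl N8563 D10206
theorem N10110 : nd 10110 = n10207 := ndS (p := 8564) (l := 4) rfl N8564 D10207
theorem N10111 : nd 10111 = n10208 := ndS (p := 8566) (l := 3) rfl N8566 D10208
theorem N10112 : nd 10112 = n10209 := ndS (p := 8566) (l := 6) rfl N8566 D10209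
theorem N10113 : nd 10113 = n10210 := ndS (p := 8567) (l := 6) rfl N8567 D10210
theorem N10114 : nd 10114 = n10211 := ndS (p := 8568) (l := 5) rfl N8568 D10211
theorem N10115 : nd 10115 = n10212 := ndS (p := 8569) (l := 6) rfl N8569 D10212
theorem N10116 : nd 10116 = n10213 := ndS (p := 8570) (l := 6) rfl N8570 D10213
theorem N10117 : nd 10117 = n10214 := ndS (p := 8571) (l := 5) rfl N8571 D10214
theorem N10118 : nd 10118 = n10215 := ndS (p := 8572) (l := 1) rfl N8572 D10215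
theorem N10119 : nd 10119 = n10216 := ndS (p := 8573) (l := 3) rfl N8573 D10216
theorem N10120 : nd 10120 = n10217 := ndS (p := 8574) (l := 4) rfl N8574 D10217
theorem N10121 : nd 10121 = n10218 := ndS (p := 8574) (l := 6) rfl N8574 D10218
theorem N10122 : nd 10122 = n10219 := ndS (p := 8575) (l := 5) rfl N8575 D10219
theorem N10123 : nd 10123 = n10220 := ndS (p := 8576) (l := 1) rfl N8576 D10220
theorem N10124 : nd 10124 = n10221 := ndS (p := 8577) (l := 5) rfl N8577 D10221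
theorem N10125 : nd 10125 = n10222 := ndS (p := 8578) (l := 1) rfl N8578 D10222
theorem N10126 : nd 10126 = n10223 := ndS (p := 8578) (l := 7) rfl N8578 D10223
theorem N10127 : nd 10127 = n10224 := ndS (p := 8580) (l := 0) rfl N8580 D10224
theorem N10128 : nd 10128 = n10225 := ndS (p := 8581) (l := 2) rfl N8581 D10225
theorem N10129 : nd 10129 = n10226 := ndS (p := 8581) (l := 6) rfl N8581 D10226
theorem N10130 : nd 10130 = n10227 := ndS (p := 8582) (l := 5) rfl N8582 D10227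
theorem N10131 : nd 10131 = n10228 := ndS (p := 8583) (l := 5) rfl N8583 D10228
theorem N10132 : nd 10132 = n10229 := ndS (p := 8583) (l := 7) rfl N8583 D10229
theorem N10133 : nd 10133 = n10230 := ndS (p := 8585) (l := 5) rfl N8585 D10230
theorem N10134 : nd 10134 = n10231 := ndS (p := 8586) (l := 5) rfl N8586 D10231
theorem N10135 : nd 10135 = n10232 := ndS (p := 8587) (l := 7) rfl N8587 D10232
theorem N10136 : nd 10136 = n10233 := ndS (p := 8594) (l := 6) rfl N8594 D10233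
theorem N10137 : nd 10137 = n10234 := ndS (p := 8595) (l := 5) rfl N8595 D10234
theorem N10138 : nd 10138 = n10235 := ndS (p := 8597) (l := 5) rfl N8597 D10235
theorem N10139 : nd 10139 = n10236 := ndS (p := 8600) (l := 6) rfl N8600 D10236
theorem N10140 : nd 10140 = n10237 := ndS (p := 8601) (l := 6) rfl N8601 D10237
theorem N10141 : nd 10141 = n10238 := ndS (p := 8602) (l := 5) rfl N8602 D10238
theorem N10142 : nd 10142 = n10239 := ndS (p := 8603) (l := 5) rfl N8603 D10239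
theorem N10143 : nd 10143 = n10240 := ndS (p := 8603) (l := 7) rfl N8603 D10240
theorem N10144 : nd 10144 = n10241 := ndS (p := 8604) (l := 1) rfl N8604 D10241
theorem N10145 : nd 10145 = n10242 := ndS (p := 8605) (l := 1) rfl N8605 D10242
theorem N10146 : nd 10146 = n10243 := ndS (p := 8605) (l := 7) rfl N8605 D10243
theorem N10147 : nd 10147 = n10244 := ndS (p := 8608) (l := 5) rfl N8608 D10244
theorem N10148 : nd 10148 = n10245 := ndS (p := 8608) (l := 7) rfl N8608 D10245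
theorem N10149 : nd 10149 = n10246 := ndS (p := 8609) (l := 5) rfl N8609 D10246
theorem N10150 : nd 10150 = n10247 := ndS (p := 8610) (l := 1) rfl N8610 D10247
theorem N10151 : nd 10151 = n10248 := ndS (p := 8610) (l := 7) rfl N8610 D10248
theorem N10152 : nd 10152 = n10249 := ndS (p := 8612) (l := 1) rfl N8612 D10249
theorem N10153 : nd 10153 = n10250 := ndS (p := 8612) (l := 7) rfl N8612 D10250
theorem N10154 : nd 10154 = n10251 := ndS (p := 8613) (l := 3) rfl N8613 D10251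
theorem N10155 : nd 10155 = n10252 := ndS (p := 8614) (l := 2) rfl N8614 D10252
theorem N10156 : nd 10156 = n10253 := ndS (p := 8615) (l := 2) rfl N8615 D10253
theorem N10157 : nd 10157 = n10254 := ndS (p := 8615) (l := 7) rfl N8615 D10254
theorem N10158 : nd 10158 = n10255 := ndS (p := 8616) (l := 3) rfl N8616 D10255
theorem N10159 : nd 10159 = n10256 := ndS (p := 8616) (l := 6) rfl N8616 D10256
theorem N10160 : nd 10160 = n10257 := ndS (p := 8617) (l := 4) rfl N8617 D10257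
theorem N10161 : nd 10161 = n10258 := ndS (p := 8618) (l := 7) rfl N8618 D10258
theorem N10162 : nd 10162 = n10259 := ndS (p := 8621) (l := 2) rfl N8621 D10259
theorem N10163 : nd 10163 = n10260 := ndS (p := 8623) (l := 3) rfl N8623 D10260
theorem N10164 : nd 10164 = n10261 := ndS (p := 8624) (l := 4) rfl N8624 D10261
theorem N10165 : nd 10165 = n10262 := ndS (p := 8627) (l := 5) rfl N8627 D10262
theorem N10166 : nd 10166 = n10263 := ndS (p := 8628) (l := 1) rfl N8628 D10263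
theorem N10167 : nd 10167 = n10264 := ndS (p := 8636) (l := 2) rfl N8636 D10264
theorem N10168 : nd 10168 = n10265 := ndS (p := 8637) (l := 5) rfl N8637 D10265
theorem N10169 : nd 10169 = n10266 := ndS (p := 8638) (l := 1) rfl N8638 D10266
theorem N10170 : nd 10170 = n10267 := ndS (p := 8638) (l := 7) rfl N8638 D10267
theorem N10171 : nd 10171 = n10268 := ndS (p := 8639) (l := 3) rfl N8639 D10268
theorem N10172 : nd 10172 = n10269 := ndS (p := 8642) (l := 1) rfl N8642 D10269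
theorem N10173 : nd 10173 = n10270 := ndS (p := 8642) (l := 7) rfl N8642 D10270
theorem N10174 : nd 10174 = n10271 := ndS (p := 8646) (l := 4) rfl N8646 D10271
theorem N10175 : nd 10175 = n10272 := ndS (p := 8648) (l := 7) rfl N8648 D10272
theorem N10176 : nd 10176 = n10273 := ndS (p := 8650) (l := 3) rfl N8650 D10273
theorem N10177 : nd 10177 = n10274 := ndS (p := 8650) (l := 6) rfl N8650 D10274
theorem N10178 : nd 10178 = n10275 := ndS (p := 8651) (l := 2) rfl N8651 D10275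
theorem N10179 : nd 10179 = n10276 := ndS (p := 8651) (l := 4) rfl N8651 D10276
theorem N10180 : nd 10180 = n10277 := ndS (p := 8654) (l := 1) rfl N8654 D10277
theorem N10181 : nd 10181 = n10278 := ndS (p := 8655) (l := 0) rfl N8655 D10278
theorem N10182 : nd 10182 = n10279 := ndS (p := 8655) (l := 7) rfl N8655 D10279
theorem N10183 : nd 10183 = n10280 := ndS (p := 8656) (l := 3) rfl N8656 D10280
theorem N10184 : nd 10184 = n10281 := ndS (p := 8656) (l := 6) rfl N8656 D10281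
theorem N10185 : nd 10185 = n10282 := ndS (p := 8657) (l := 2) rfl N8657 D10282
theorem N10186 : nd 10186 = n10283 := ndS (p := 8658) (l := 2) rfl N8658 D10283
theorem N10187 : nd 10187 = n10284 := ndS (p := 8658) (l := 4) rfl N8658 D10284
theorem N10188 : nd 10188 = n10285 := ndS (p := 8658) (l := 6) rfl N8658 D10285
theorem N10189 : nd 10189 = n10286 := ndS (p := 8662) (l := 2) rfl N8662 D10286
theorem N10190 : nd 10190 = n10287 := ndS (p := 8662) (l := 4) rfl N8662 D10287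
theorem N10191 : nd 10191 = n10288 := ndS (p := 8662) (l := 6) rfl N8662 D10288
theorem N10192 : nd 10192 = n10289 := ndS (p := 8663) (l := 5) rfl N8663 D10289
theorem N10193 : nd 10193 = n10290 := ndS (p := 8664) (l := 1) rfl N8664 D10290
theorem N10194 : nd 10194 = n10291 := ndS (p := 8665) (l := 0) rfl N8665 D10291
theorem N10195 : nd 10195 = n10292 := ndS (p := 8665) (l := 2) rfl N8665 D10292
theorem N10196 : nd 10196 = n10293 := ndS (p := 8666) (l := 3) rfl N8666 D10293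
theorem N10197 : nd 10197 = n10294 := ndS (p := 8667) (l := 2) rfl N8667 D10294
theorem N10198 : nd 10198 = n10295 := ndS (p := 8667) (l := 4) rfl N8667 D10295
theorem N10199 : nd 10199 = n10296 := ndS (p := 8667) (l := 6) rfl N8667 D10296
theorem N10200 : nd 10200 = n10297 := ndS (p := 8668) (l := 5) rfl N8668 D10297
theorem N10201 : nd 10201 = n10298 := ndS (p := 8669) (l := 1) rfl N8669 D10298
theorem N10202 : nd 10202 = n10299 := ndS (p := 8670) (l := 1) rfl N8670 D10299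
theorem N10203 : nd 10203 = n10300 := ndS (p := 8670) (l := 4) rfl N8670 D10300
theorem N10204 : nd 10204 = n10301 := ndS (p := 8670) (l := 6) rfl N8670 D10301
theorem N10205 : nd 10205 = n10302 := ndS (p := 8671) (l := 6) rfl N8671 D10302
theorem N10206 : nd 10206 = n10303 := ndS (p := 8672) (l := 5) rfl N8672 D10303
theorem N10207 : nd 10207 = n10304 := ndS (p := 8672) (l := 7) rfl N8672 D10304
theorem N10208 : nd 10208 = n10305 := ndS (p := 8673) (l := 1) rfl N8673 D10305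
theorem N10209 : nd 10209 = n10306 := ndS (p := 8674) (l := 5) rfl N8674 D10306
theorem N10210 : nd 10210 = n10307 := ndS (p := 8674) (l := 7) rfl N8674 D10307
theorem N10211 : nd 10211 = n10308 := ndS (p := 8675) (l := 1) rfl N8675 D10308
theorem N10212 : nd 10212 = n10309 := ndS (p := 8675) (l := 7) rfl N8675 D10309
theorem N10213 : nd 10213 = n10310 := ndS (p := 8677) (l := 0) rfl N8677 D10310
theorem N10214 : nd 10214 = n10311 := ndS (p := 8677) (l := 2) rfl N8677 D10311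
theorem N10215 : nd 10215 = n10312 := ndS (p := 8678) (l := 5) rfl N8678 D10312
theorem N10216 : nd 10216 = n10313 := ndS (p := 8678) (l := 7) rfl N8678 D10313
theorem N10217 : nd 10217 = n10314 := ndS (p := 8679) (l := 1) rfl N8679 D10314
theorem N10218 : nd 10218 = n10315 := ndS (p := 8679) (l := 7) rfl N8679 D10315
theorem N10219 : nd 10219 = n10316 := ndS (p := 8680) (l := 3) rfl N8680 D10316
theorem N10220 : nd 10220 = n10317 := ndS (p := 8681) (l := 1) rfl N8681 D10317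
theorem N10221 : nd 10221 = n10318 := ndS (p := 8681) (l := 7) rfl N8681 D10318
theorem N10222 : nd 10222 = n10319 := ndS (p := 8683) (l := 0) rfl N8683 D10319
theorem N10223 : nd 10223 = n10320 := ndS (p := 8683) (l := 2) rfl N8683 D10320
theorem N10224 : nd 10224 = n10321 := ndS (p := 8683) (l := 7) rfl N8683 D10321
theorem N10225 : nd 10225 = n10322 := ndS (p := 8684) (l := 6) rfl N8684 D10322
theorem N10226 : nd 10226 = n10323 := ndS (p := 8685) (l := 2) rfl N8685 D10323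
theorem N10227 : nd 10227 = n10324 := ndS (p := 8686) (l := 3) rfl N8686 D10324
theorem N10228 : nd 10228 = n10325 := ndS (p := 8687) (l := 4) rfl N8687 D10325
theorem N10229 : nd 10229 = n10326 := ndS (p := 8688) (l := 6) rfl N8688 D10326
theorem N10230 : nd 10230 = n10327 := ndS (p := 8689) (l := 5) rfl N8689 D10327
theorem N10231 : nd 10231 = n10328 := ndS (p := 8690) (l := 1) rfl N8690 D10328
theorem N10232 : nd 10232 = n10329 := ndS (p := 8691) (l := 0) rfl N8691 D10329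
theorem N10233 : nd 10233 = n10330 := ndS (p := 8691) (l := 2) rfl N8691 D10330
theorem N10234 : nd 10234 = n10331 := ndS (p := 8692) (l := 0) rfl N8692 D10331
theorem N10235 : nd 10235 = n10332 := ndS (p := 8692) (l := 2) rfl N8692 D10332
theorem N10236 : nd 10236 = n10333 := ndS (p := 8693) (l := 6) rfl N8693 D10333
theorem N10237 : nd 10237 = n10334 := ndS (p := 8694) (l := 2) rfl N8694 D10334
theorem N10238 : nd 10238 = n10335 := ndS (p := 8695) (l := 3) rfl N8695 D10335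
theorem N10239 : nd 10239 = n10336 := ndS (p := 8696) (l := 0) rfl N8696 D10336
theorem N10240 : nd 10240 = n10337 := ndS (p := 8696) (l := 5) rfl N8696 D10337
theorem N10241 : nd 10241 = n10338 := ndS (p := 8696) (l := 6) rfl N8696 D10338
theorem N10242 : nd 10242 = n10339 := ndS (p := 8697) (l := 3) rfl N8697 D10339
theorem N10243 : nd 10243 = n10340 := ndS (p := 8697) (l := 6) rfl N8697 D10340
theorem N10244 : nd 10244 = n10341 := ndS (p := 8698) (l := 5) rfl N8698 D10341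
theorem N10245 : nd 10245 = n10342 := ndS (p := 8699) (l := 5) rfl N8699 D10342
theorem N10246 : nd 10246 = n10343 := ndS (p := 8700) (l := 1) rfl N8700 D10343
theorem N10247 : nd 10247 = n10344 := ndS (p := 8701) (l := 0) rfl N8701 D10344
theorem N10248 : nd 10248 = n10345 := ndS (p := 8701) (l := 2) rfl N8701 D10345
theorem N10249 : nd 10249 = n10346 := ndS (p := 8702) (l := 1) rfl N8702 D10346
theorem N10250 : nd 10250 = n10347 := ndS (p := 8703) (l := 1) rfl N8703 D10347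
theorem N10251 : nd 10251 = n10348 := ndS (p := 8703) (l := 7) rfl N8703 D10348
theorem N10252 : nd 10252 = n10349 := ndS (p := 8704) (l := 3) rfl N8704 D10349
theorem N10253 : nd 10253 = n10350 := ndS (p := 8705) (l := 2) rfl N8705 D10350
theorem N10254 : nd 10254 = n10351 := ndS (p := 8707) (l := 2) rfl N8707 D10351
theorem N10255 : nd 10255 = n10352 := ndS (p := 8708) (l := 3) rfl N8708 D10352
theorem N10256 : nd 10256 = n10353 := ndS (p := 8709) (l := 1) rfl N8709 D10353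
theorem N10257 : nd 10257 = n10354 := ndS (p := 8709) (l := 7) rfl N8709 D10354
theorem N10258 : nd 10258 = n10355 := ndS (p := 8710) (l := 3) rfl N8710 D10355
theorem N10259 : nd 10259 = n10356 := ndS (p := 8711) (l := 1) rfl N8711 D10356
theorem N10260 : nd 10260 = n10357 := ndS (p := 8711) (l := 7) rfl N8711 D10357
theorem N10261 : nd 10261 = n10358 := ndS (p := 8712) (l := 3) rfl N8712 D10358
theorem N10262 : nd 10262 = n10359 := ndS (p := 8713) (l := 0) rfl N8713 D10359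
theorem N10263 : nd 10263 = n10360 := ndS (p := 8713) (l := 2) rfl N8713 D10360
theorem N10264 : nd 10264 = n10361 := ndS (p := 8713) (l := 7) rfl N8713 D10361
theorem N10265 : nd 10265 = n10362 := ndS (p := 8714) (l := 3) rfl N8714 D10362
theorem N10266 : nd 10266 = n10363 := ndS (p := 8715) (l := 4) rfl N8715 D10363
theorem N10267 : nd 10267 = n10364 := ndS (p := 8716) (l := 2) rfl N8716 D10364
theorem N10268 : nd 10268 = n10365 := ndS (p := 8718) (l := 3) rfl N8718 D10365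
theorem N10269 : nd 10269 = n10366 := ndS (p := 8719) (l := 1) rfl N8719 D10366
theorem N10270 : nd 10270 = n10367 := ndS (p := 8719) (l := 3) rfl N8719 D10367
theorem N10271 : nd 10271 = n10368 := ndS (p := 8720) (l := 4) rfl N8720 D10368
theorem N10272 : nd 10272 = n10369 := ndS (p := 8720) (l := 7) rfl N8720 D10369
theorem N10273 : nd 10273 = n10370 := ndS (p := 8723) (l := 2) rfl N8723 D10370
theorem N10274 : nd 10274 = n10371 := ndS (p := 8724) (l := 1) rfl N8724 D10371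
theorem N10275 : nd 10275 = n10372 := ndS (p := 8724) (l := 7) rfl N8724 D10372
theorem N10276 : nd 10276 = n10373 := ndS (p := 8725) (l := 3) rfl N8725 D10373
theorem N10277 : nd 10277 = n10374 := ndS (p := 8726) (l := 7) rfl N8726 D10374
theorem N10278 : nd 10278 = n10375 := ndS (p := 8727) (l := 3) rfl N8727 D10375
theorem N10279 : nd 10279 = n10376 := ndS (p := 8728) (l := 7) rfl N8728 D10376
theorem N10280 : nd 10280 = n10377 := ndS (p := 8731) (l := 3) rfl N8731 D10377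
theorem N10281 : nd 10281 = n10378 := ndS (p := 8731) (l := 6) rfl N8731 D10378
theorem N10282 : nd 10282 = n10379 := ndS (p := 8732) (l := 2) rfl N8732 D10379
theorem N10283 : nd 10283 = n10380 := ndS (p := 8732) (l := 4) rfl N8732 D10380
theorem N10284 : nd 10284 = n10381 := ndS (p := 8733) (l := 7) rfl N8733 D10381
theorem N10285 : nd 10285 = n10382 := ndS (p := 8734) (l := 3) rfl N8734 D10382
theorem N10286 : nd 10286 = n10383 := ndS (p := 8735) (l := 2) rfl N8735 D10383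
theorem N10287 : nd 10287 = n10384 := ndS (p := 8735) (l := 4) rfl N8735 D10384
theorem N10288 : nd 10288 = n10385 := ndS (p := 8739) (l := 3) rfl N8739 D10385
theorem N10289 : nd 10289 = n10386 := ndS (p := 8740) (l := 3) rfl N8740 D10386
theorem N10290 : nd 10290 = n10387 := ndS (p := 8741) (l := 4) rfl N8741 D10387
theorem N10291 : nd 10291 = n10388 := ndS (p := 8741) (l := 7) rfl N8741 D10388
theorem N10292 : nd 10292 = n10389 := ndS (p := 8742) (l := 7) rfl N8742 D10389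
theorem N10293 : nd 10293 = n10390 := ndS (p := 8743) (l := 3) rfl N8743 D10390
theorem N10294 : nd 10294 = n10391 := ndS (p := 8744) (l := 6) rfl N8744 D10391
theorem N10295 : nd 10295 = n10392 := ndS (p := 8745) (l := 3) rfl N8745 D10392
theorem N10296 : nd 10296 = n10393 := ndS (p := 8746) (l := 4) rfl N8746 D10393
theorem N10297 : nd 10297 = n10394 := ndS (p := 8747) (l := 4) rfl N8747 D10394
theorem N10298 : nd 10298 = n10395 := ndS (p := 8747) (l := 7) rfl N8747 D10395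
theorem N10299 : nd 10299 = n10396 := ndS (p := 8748) (l := 7) rfl N8748 D10396
theorem N10300 : nd 10300 = n10397 := ndS (p := 8750) (l := 1) rfl N8750 D10397
theorem N10301 : nd 10301 = n10398 := ndS (p := 8750) (l := 7) rfl N8750 D10398
theorem N10302 : nd 10302 = n10399 := ndS (p := 8751) (l := 3) rfl N8751 D10399
theorem N10303 : nd 10303 = n10400 := ndS (p := 8752) (l := 2) rfl N8752 D10400
theorem N10304 : nd 10304 = n10401 := ndS (p := 8753) (l := 6) rfl N8753 D10401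
theorem N10305 : nd 10305 = n10402 := ndS (p := 8754) (l := 7) rfl N8754 D10402
theorem N10306 : nd 10306 = n10403 := ndS (p := 8755) (l := 3) rfl N8755 D10403
theorem N10307 : nd 10307 = n10404 := ndS (p := 8756) (l := 6) rfl N8756 D10404
theorem N10308 : nd 10308 = n10405 := ndS (p := 8757) (l := 7) rfl N8757 D10405
theorem N10309 : nd 10309 = n10406 := ndS (p := 8758) (l := 3) rfl N8758 D10406
theorem N10310 : nd 10310 = n10407 := ndS (p := 8758) (l := 6) rfl N8758 D10407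
theorem N10311 : nd 10311 = n10408 := ndS (p := 8759) (l := 2) rfl N8759 D10408
theorem N10312 : nd 10312 = n10409 := ndS (p := 8759) (l := 4) rfl N8759 D10409
theorem N10313 : nd 10313 = n10410 := ndS (p := 8762) (l := 7) rfl N8762 D10410
theorem N10314 : nd 10314 = n10411 := ndS (p := 8763) (l := 3) rfl N8763 D10411
theorem N10315 : nd 10315 = n10412 := ndS (p := 8764) (l := 7) rfl N8764 D10412
theorem N10316 : nd 10316 = n10413 := ndS (p := 8765) (l := 3) rfl N8765 D10413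
theorem N10317 : nd 10317 = n10414 := ndS (p := 8766) (l := 3) rfl N8766 D10414
theorem N10318 : nd 10318 = n10415 := ndS (p := 8767) (l := 2) rfl N8767 D10415
theorem N10319 : nd 10319 = n10416 := ndS (p := 8767) (l := 4) rfl N8767 D10416
theorem N10320 : nd 10320 = n10417 := ndS (p := 8770) (l := 3) rfl N8770 D10417
theorem N10321 : nd 10321 = n10418 := ndS (p := 8771) (l := 4) rfl N8771 D10418
theorem N10322 : nd 10322 = n10419 := ndS (p := 8774) (l := 3) rfl N8774 D10419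
theorem N10323 : nd 10323 = n10420 := ndS (p := 8774) (l := 6) rfl N8774 D10420
theorem N10324 : nd 10324 = n10421 := ndS (p := 8775) (l := 2) rfl N8775 D10421
theorem N10325 : nd 10325 = n10422 := ndS (p := 8775) (l := 4) rfl N8775 D10422
theorem N10326 : nd 10326 = n10423 := ndS (p := 8775) (l := 6) rfl N8775 D10423
theorem N10327 : nd 10327 = n10424 := ndS (p := 8777) (l := 4) rfl N8777 D10424
theorem N10328 : nd 10328 = n10425 := ndS (p := 8780) (l := 7) rfl N8780 D10425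
theorem N10329 : nd 10329 = n10426 := ndS (p := 8781) (l := 3) rfl N8781 D10426
theorem N10330 : nd 10330 = n10427 := ndS (p := 8781) (l := 6) rfl N8781 D10427
theorem N10331 : nd 10331 = n10428 := ndS (p := 8783) (l := 3) rfl N8783 D10428
theorem N10332 : nd 10332 = n10429 := ndS (p := 8784) (l := 4) rfl N8784 D10429
theorem N10333 : nd 10333 = n10430 := ndS (p := 8785) (l := 3) rfl N8785 D10430
theorem N10334 : nd 10334 = n10431 := ndS (p := 8786) (l := 4) rfl N8786 D10431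
theorem N10335 : nd 10335 = n10432 := ndS (p := 8786) (l := 6) rfl N8786 D10432
theorem N10336 : nd 10336 = n10433 := ndS (p := 8789) (l := 1) rfl N8789 D10433
theorem N10337 : nd 10337 = n10434 := ndS (p := 8790) (l := 1) rfl N8790 D10434
theorem N10338 : nd 10338 = n10435 := ndS (p := 8791) (l := 0) rfl N8791 D10435
theorem N10339 : nd 10339 = n10436 := ndS (p := 8792) (l := 3) rfl N8792 D10436
theorem N10340 : nd 10340 = n10437 := ndS (p := 8792) (l := 6) rfl N8792 D10437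
theorem N10341 : nd 10341 = n10438 := ndS (p := 8795) (l := 7) rfl N8795 D10438
theorem N10342 : nd 10342 = n10439 := ndS (p := 8796) (l := 3) rfl N8796 D10439
theorem N10343 : nd 10343 = n10440 := ndS (p := 8796) (l := 6) rfl N8796 D10440
theorem N10344 : nd 10344 = n10441 := ndS (p := 8797) (l := 5) rfl N8797 D10441
theorem N10345 : nd 10345 = n10442 := ndS (p := 8798) (l := 0) rfl N8798 D10442
theorem N10346 : nd 10346 = n10443 := ndS (p := 8798) (l := 7) rfl N8798 D10443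
theorem N10347 : nd 10347 = n10444 := ndS (p := 8799) (l := 3) rfl N8799 D10444
theorem N10348 : nd 10348 = n10445 := ndS (p := 8799) (l := 6) rfl N8799 D10445
theorem N10349 : nd 10349 = n10446 := ndS (p := 8800) (l := 4) rfl N8800 D10446
theorem N10350 : nd 10350 = n10447 := ndS (p := 8801) (l := 6) rfl N8801 D10447
theorem N10351 : nd 10351 = n10448 := ndS (p := 8804) (l := 3) rfl N8804 D10448
theorem N10352 : nd 10352 = n10449 := ndS (p := 8805) (l := 4) rfl N8805 D10449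
theorem N10353 : nd 10353 = n10450 := ndS (p := 8806) (l := 2) rfl N8806 D10450
theorem N10354 : nd 10354 = n10451 := ndS (p := 8806) (l := 7) rfl N8806 D10451
theorem N10355 : nd 10355 = n10452 := ndS (p := 8808) (l := 3) rfl N8808 D10452
theorem N10356 : nd 10356 = n10453 := ndS (p := 8808) (l := 6) rfl N8808 D10453
theorem N10357 : nd 10357 = n10454 := ndS (p := 8809) (l := 4) rfl N8809 D10454
theorem N10358 : nd 10358 = n10455 := ndS (p := 8809) (l := 6) rfl N8809 D10455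
theorem N10359 : nd 10359 = n10456 := ndS (p := 8812) (l := 2) rfl N8812 D10456
theorem N10360 : nd 10360 = n10457 := ndS (p := 8813) (l := 1) rfl N8813 D10457
theorem N10361 : nd 10361 = n10458 := ndS (p := 8813) (l := 6) rfl N8813 D10458
theorem N10362 : nd 10362 = n10459 := ndS (p := 8814) (l := 5) rfl N8814 D10459
theorem N10363 : nd 10363 = n10460 := ndS (p := 8817) (l := 3) rfl N8817 D10460
theorem N10364 : nd 10364 = n10461 := ndS (p := 8818) (l := 1) rfl N8818 D10461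
theorem N10365 : nd 10365 = n10462 := ndS (p := 8818) (l := 6) rfl N8818 D10462
theorem N10366 : nd 10366 = n10463 := ndS (p := 8819) (l := 5) rfl N8819 D10463
theorem N10367 : nd 10367 = n10464 := ndS (p := 8820) (l := 1) rfl N8820 D10464
theorem N10368 : nd 10368 = n10465 := ndS (p := 8821) (l := 4) rfl N8821 D10465
theorem N10369 : nd 10369 = n10466 := ndS (p := 8822) (l := 0) rfl N8822 D10466
theorem N10370 : nd 10370 = n10467 := ndS (p := 8822) (l := 2) rfl N8822 D10467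
theorem N10371 : nd 10371 = n10468 := ndS (p := 8823) (l := 2) rfl N8823 D10468
theorem N10372 : nd 10372 = n10469 := ndS (p := 8823) (l := 6) rfl N8823 D10469
theorem N10373 : nd 10373 = n10470 := ndS (p := 8824) (l := 5) rfl N8824 D10470
theorem N10374 : nd 10374 = n10471 := ndS (p := 8825) (l := 6) rfl N8825 D10471
theorem N10375 : nd 10375 = n10472 := ndS (p := 8826) (l := 5) rfl N8826 D10472
theorem N10376 : nd 10376 = n10473 := ndS (p := 8826) (l := 7) rfl N8826 D10473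
theorem N10377 : nd 10377 = n10474 := ndS (p := 8829) (l := 5) rfl N8829 D10474
theorem N10378 : nd 10378 = n10475 := ndS (p := 8830) (l := 1) rfl N8830 D10475
theorem N10379 : nd 10379 = n10476 := ndS (p := 8832) (l := 1) rfl N8832 D10476
theorem N10380 : nd 10380 = n10477 := ndS (p := 8834) (l := 3) rfl N8834 D10477
theorem N10381 : nd 10381 = n10478 := ndS (p := 8835) (l := 2) rfl N8835 D10478
theorem N10382 : nd 10382 = n10479 := ndS (p := 8837) (l := 4) rfl N8837 D10479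
theorem N10383 : nd 10383 = n10480 := ndS (p := 8839) (l := 1) rfl N8839 D10480
theorem N10384 : nd 10384 = n10481 := ndS (p := 8841) (l := 0) rfl N8841 D10481
theorem N10385 : nd 10385 = n10482 := ndS (p := 8845) (l := 4) rfl N8845 D10482
theorem N10386 : nd 10386 = n10483 := ndS (p := 8847) (l := 3) rfl N8847 D10483
theorem N10387 : nd 10387 = n10484 := ndS (p := 8848) (l := 2) rfl N8848 D10484
theorem N10388 : nd 10388 = n10485 := ndS (p := 8848) (l := 4) rfl N8848 D10485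
theorem N10389 : nd 10389 = n10486 := ndS (p := 8849) (l := 2) rfl N8849 D10486
theorem N10390 : nd 10390 = n10487 := ndS (p := 8849) (l := 4) rfl N8849 D10487
theorem N10391 : nd 10391 = n10488 := ndS (p := 8850) (l := 2) rfl N8850 D10488
theorem N10392 : nd 10392 = n10489 := ndS (p := 8850) (l := 4) rfl N8850 D10489
theorem N10393 : nd 10393 = n10490 := ndS (p := 8850) (l := 6) rfl N8850 D10490
theorem N10394 : nd 10394 = n10491 := ndS (p := 8852) (l := 4) rfl N8852 D10491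
theorem N10395 : nd 10395 = n10492 := ndS (p := 8854) (l := 5) rfl N8854 D10492
theorem N10396 : nd 10396 = n10493 := ndS (p := 8854) (l := 7) rfl N8854 D10493
theorem N10397 : nd 10397 = n10494 := ndS (p := 8855) (l := 1) rfl N8855 D10494
theorem N10398 : nd 10398 = n10495 := ndS (p := 8863) (l := 3) rfl N8863 D10495
theorem N10399 : nd 10399 = n10496 := ndS (p := 8865) (l := 4) rfl N8865 D10496
theorem N10400 : nd 10400 = n10497 := ndS (p := 8865) (l := 7) rfl N8865 D10497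
theorem N10401 : nd 10401 = n10498 := ndS (p := 8868) (l := 6) rfl N8868 D10498
theorem N10402 : nd 10402 = n10499 := ndS (p := 8871) (l := 1) rfl N8871 D10499
theorem N10403 : nd 10403 = n10500 := ndS (p := 8872) (l := 5) rfl N8872 D10500
theorem N10404 : nd 10404 = n10501 := ndS (p := 8874) (l := 3) rfl N8874 D10501
theorem N10405 : nd 10405 = n10502 := ndS (p := 8875) (l := 2) rfl N8875 D10502
theorem N10406 : nd 10406 = n10503 := ndS (p := 8878) (l := 1) rfl N8878 D10503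
theorem N10407 : nd 10407 = n10504 := ndS (p := 8886) (l := 0) rfl N8886 D10504
theorem N10408 : nd 10408 = n10505 := ndS (p := 8886) (l := 2) rfl N8886 D10505
theorem N10409 : nd 10409 = n10506 := ndS (p := 8887) (l := 2) rfl N8887 D10506
theorem N10410 : nd 10410 = n10507 := ndS (p := 8888) (l := 3) rfl N8888 D10507
theorem N10411 : nd 10411 = n10508 := ndS (p := 8889) (l := 0) rfl N8889 D10508
theorem N10412 : nd 10412 = n10509 := ndS (p := 8889) (l := 2) rfl N8889 D10509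
theorem N10413 : nd 10413 = n10510 := ndS (p := 8891) (l := 2) rfl N8891 D10510
theorem N10414 : nd 10414 = n10511 := ndS (p := 8892) (l := 3) rfl N8892 D10511
theorem N10415 : nd 10415 = n10512 := ndS (p := 8900) (l := 3) rfl N8900 D10512
theorem N10416 : nd 10416 = n10513 := ndS (p := 8902) (l := 3) rfl N8902 D10513
theorem N10417 : nd 10417 = n10514 := ndS (p := 8903) (l := 4) rfl N8903 D10514
theorem N10418 : nd 10418 = n10515 := ndS (p := 8903) (l := 7) rfl N8903 D10515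
theorem N10419 : nd 10419 = n10516 := ndS (p := 8904) (l := 2) rfl N8904 D10516
theorem N10420 : nd 10420 = n10517 := ndS (p := 8905) (l := 3) rfl N8905 D10517
theorem N10421 : nd 10421 = n10518 := ndS (p := 8906) (l := 4) rfl N8906 D10518
theorem N10422 : nd 10422 = n10519 := ndS (p := 8906) (l := 7) rfl N8906 D10519
theorem N10423 : nd 10423 = n10520 := ndS (p := 8908) (l := 4) rfl N8908 D10520
theorem N10424 : nd 10424 = n10521 := ndS (p := 8908) (l := 7) rfl N8908 D10521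
theorem N10425 : nd 10425 = n10522 := ndS (p := 8909) (l := 5) rfl N8909 D10522
theorem N10426 : nd 10426 = n10523 := ndS (p := 8910) (l := 1) rfl N8910 D10523
theorem N10427 : nd 10427 = n10524 := ndS (p := 8912) (l := 1) rfl N8912 D10524
theorem N10428 : nd 10428 = n10525 := ndS (p := 8914) (l := 0) rfl N8914 D10525
theorem N10429 : nd 10429 = n10526 := ndS (p := 8916) (l := 7) rfl N8916 D10526
theorem N10430 : nd 10430 = n10527 := ndS (p := 8917) (l := 6) rfl N8917 D10527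
theorem N10431 : nd 10431 = n10528 := ndS (p := 8918) (l := 2) rfl N8918 D10528
theorem N10432 : nd 10432 = n10529 := ndS (p := 8919) (l := 3) rfl N8919 D10529
theorem N10433 : nd 10433 = n10530 := ndS (p := 8920) (l := 4) rfl N8920 D10530
theorem N10434 : nd 10434 = n10531 := ndS (p := 8920) (l := 7) rfl N8920 D10531
theorem N10435 : nd 10435 = n10532 := ndS (p := 8921) (l := 7) rfl N8921 D10532
theorem N10436 : nd 10436 = n10533 := ndS (p := 8922) (l := 6) rfl N8922 D10533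
theorem N10437 : nd 10437 = n10534 := ndS (p := 8923) (l := 7) rfl N8923 D10534
theorem N10438 : nd 10438 = n10535 := ndS (p := 8924) (l := 3) rfl N8924 D10535
theorem N10439 : nd 10439 = n10536 := ndS (p := 8925) (l := 3) rfl N8925 D10536
theorem N10440 : nd 10440 = n10537 := ndS (p := 8926) (l := 4) rfl N8926 D10537
theorem N10441 : nd 10441 = n10538 := ndS (p := 8927) (l := 3) rfl N8927 D10538
theorem N10442 : nd 10442 = n10539 := ndS (p := 8927) (l := 6) rfl N8927 D10539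
theorem N10443 : nd 10443 = n10540 := ndS (p := 8928) (l := 5) rfl N8928 D10540
theorem N10444 : nd 10444 = n10541 := ndS (p := 8929) (l := 3) rfl N8929 D10541
theorem N10445 : nd 10445 = n10542 := ndS (p := 8930) (l := 4) rfl N8930 D10542
theorem N10446 : nd 10446 = n10543 := ndS (p := 8931) (l := 4) rfl N8931 D10543
theorem N10447 : nd 10447 = n10544 := ndS (p := 8932) (l := 4) rfl N8932 D10544
theorem N10448 : nd 10448 = n10545 := ndS (p := 8934) (l := 7) rfl N8934 D10545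
theorem N10449 : nd 10449 = n10546 := ndS (p := 8935) (l := 3) rfl N8935 D10546
theorem N10450 : nd 10450 = n10547 := ndS (p := 8936) (l := 2) rfl N8936 D10547
theorem N10451 : nd 10451 = n10548 := ndS (p := 8936) (l := 4) rfl N8936 D10548
theorem N10452 : nd 10452 = n10549 := ndS (p := 8937) (l := 7) rfl N8937 D10549
theorem N10453 : nd 10453 = n10550 := ndS (p := 8938) (l := 3) rfl N8938 D10550
theorem N10454 : nd 10454 = n10551 := ndS (p := 8938) (l := 6) rfl N8938 D10551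
theorem N10455 : nd 10455 = n10552 := ndS (p := 8939) (l := 4) rfl N8939 D10552
theorem N10456 : nd 10456 = n10553 := ndS (p := 8940) (l := 3) rfl N8940 D10553
theorem N10457 : nd 10457 = n10554 := ndS (p := 8941) (l := 2) rfl N8941 D10554
theorem N10458 : nd 10458 = n10555 := ndS (p := 8941) (l := 4) rfl N8941 D10555
theorem N10459 : nd 10459 = n10556 := ndS (p := 8941) (l := 6) rfl N8941 D10556
theorem N10460 : nd 10460 = n10557 := ndS (p := 8943) (l := 1) rfl N8943 D10557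
theorem N10461 : nd 10461 = n10558 := ndS (p := 8943) (l := 4) rfl N8943 D10558
theorem N10462 : nd 10462 = n10559 := ndS (p := 8945) (l := 4) rfl N8945 D10559
theorem N10463 : nd 10463 = n10560 := ndS (p := 8947) (l := 4) rfl N8947 D10560
theorem N10464 : nd 10464 = n10561 := ndS (p := 8948) (l := 6) rfl N8948 D10561
theorem N10465 : nd 10465 = n10562 := ndS (p := 8950) (l := 3) rfl N8950 D10562
theorem N10466 : nd 10466 = n10563 := ndS (p := 8951) (l := 5) rfl N8951 D10563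
theorem N10467 : nd 10467 = n10564 := ndS (p := 8951) (l := 7) rfl N8951 D10564
theorem N10468 : nd 10468 = n10565 := ndS (p := 8952) (l := 1) rfl N8952 D10565
theorem N10469 : nd 10469 = n10566 := ndS (p := 8952) (l := 7) rfl N8952 D10566
theorem N10470 : nd 10470 = n10567 := ndS (p := 8953) (l := 3) rfl N8953 D10567
theorem N10471 : nd 10471 = n10568 := ndS (p := 8954) (l := 6) rfl N8954 D10568
theorem N10472 : nd 10472 = n10569 := ndS (p := 8955) (l := 0) rfl N8955 D10569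
theorem N10473 : nd 10473 = n10570 := ndS (p := 8955) (l := 2) rfl N8955 D10570
theorem N10474 : nd 10474 = n10571 := ndS (p := 8955) (l := 7) rfl N8955 D10571
theorem N10475 : nd 10475 = n10572 := ndS (p := 8956) (l := 3) rfl N8956 D10572
theorem N10476 : nd 10476 = n10573 := ndS (p := 8956) (l := 6) rfl N8956 D10573
theorem N10477 : nd 10477 = n10574 := ndS (p := 8957) (l := 4) rfl N8957 D10574
theorem N10478 : nd 10478 = n10575 := ndS (p := 8958) (l := 3) rfl N8958 D10575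
theorem N10479 : nd 10479 = n10576 := ndS (p := 8960) (l := 7) rfl N8960 D10576
theorem N10480 : nd 10480 = n10577 := ndS (p := 8961) (l := 7) rfl N8961 D10577
theorem N10481 : nd 10481 = n10578 := ndS (p := 8962) (l := 1) rfl N8962 D10578
theorem N10482 : nd 10482 = n10579 := ndS (p := 8962) (l := 7) rfl N8962 D10579
theorem N10483 : nd 10483 = n10580 := ndS (p := 8963) (l := 6) rfl N8963 D10580
theorem N10484 : nd 10484 = n10581 := ndS (p := 8964) (l := 5) rfl N8964 D10581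
theorem N10485 : nd 10485 = n10582 := ndS (p := 8965) (l := 7) rfl N8965 D10582
theorem N10486 : nd 10486 = n10583 := ndS (p := 8966) (l := 3) rfl N8966 D10583
theorem N10487 : nd 10487 = n10584 := ndS (p := 8966) (l := 6) rfl N8966 D10584
theorem N10488 : nd 10488 = n10585 := ndS (p := 8967) (l := 4) rfl N8967 D10585
theorem N10489 : nd 10489 = n10586 := ndS (p := 8970) (l := 3) rfl N8970 D10586
theorem N10490 : nd 10490 = n10587 := ndS (p := 8972) (l := 3) rfl N8972 D10587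
theorem N10491 : nd 10491 = n10588 := ndS (p := 8972) (l := 6) rfl N8972 D10588
theorem N10492 : nd 10492 = n10589 := ndS (p := 8973) (l := 4) rfl N8973 D10589
theorem N10493 : nd 10493 = n10590 := ndS (p := 8974) (l := 7) rfl N8974 D10590
theorem N10494 : nd 10494 = n10591 := ndS (p := 8975) (l := 3) rfl N8975 D10591
theorem N10495 : nd 10495 = n10592 := ndS (p := 8976) (l := 3) rfl N8976 D10592
theorem N10496 : nd 10496 = n10593 := ndS (p := 8976) (l := 6) rfl N8976 D10593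
theorem N10497 : nd 10497 = n10594 := ndS (p := 8977) (l := 4) rfl N8977 D10594
theorem N10498 : nd 10498 = n10595 := ndS (p := 8977) (l := 6) rfl N8977 D10595
theorem N10499 : nd 10499 = n10596 := ndS (p := 8980) (l := 7) rfl N8980 D10596
theorem N10500 : nd 10500 = n10597 := ndS (p := 8983) (l := 6) rfl N8983 D10597
theorem N10501 : nd 10501 = n10598 := ndS (p := 8986) (l := 5) rfl N8986 D10598
theorem N10502 : nd 10502 = n10599 := ndS (p := 8988) (l := 3) rfl N8988 D10599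
theorem N10503 : nd 10503 = n10600 := ndS (p := 8988) (l := 6) rfl N8988 D10600
theorem N10504 : nd 10504 = n10601 := ndS (p := 8989) (l := 5) rfl N8989 D10601
theorem N10505 : nd 10505 = n10602 := ndS (p := 8990) (l := 6) rfl N8990 D10602
theorem N10506 : nd 10506 = n10603 := ndS (p := 8991) (l := 5) rfl N8991 D10603
theorem N10507 : nd 10507 = n10604 := ndS (p := 8992) (l := 1) rfl N8992 D10604
theorem N10508 : nd 10508 = n10605 := ndS (p := 8993) (l := 7) rfl N8993 D10605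
theorem N10509 : nd 10509 = n10606 := ndS (p := 8994) (l := 3) rfl N8994 D10606
theorem N10510 : nd 10510 = n10607 := ndS (p := 8994) (l := 6) rfl N8994 D10607
theorem N10511 : nd 10511 = n10608 := ndS (p := 8995) (l := 4) rfl N8995 D10608
theorem N10512 : nd 10512 = n10609 := ndS (p := 8995) (l := 6) rfl N8995 D10609
theorem N10513 : nd 10513 = n10610 := ndS (p := 9000) (l := 2) rfl N9000 D10610
theorem N10514 : nd 10514 = n10611 := ndS (p := 9000) (l := 4) rfl N9000 D10611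
theorem N10515 : nd 10515 = n10612 := ndS (p := 9000) (l := 6) rfl N9000 D10612
theorem N10516 : nd 10516 = n10613 := ndS (p := 9002) (l := 2) rfl N9002 D10613
theorem N10517 : nd 10517 = n10614 := ndS (p := 9002) (l := 4) rfl N9002 D10614
theorem N10518 : nd 10518 = n10615 := ndS (p := 9002) (l := 6) rfl N9002 D10615
theorem N10519 : nd 10519 = n10616 := ndS (p := 9004) (l := 1) rfl N9004 D10616
theorem N10520 : nd 10520 = n10617 := ndS (p := 9004) (l := 4) rfl N9004 D10617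
theorem N10521 : nd 10521 = n10618 := ndS (p := 9004) (l := 6) rfl N9004 D10618
theorem N10522 : nd 10522 = n10619 := ndS (p := 9005) (l := 6) rfl N9005 D10619
theorem N10523 : nd 10523 = n10620 := ndS (p := 9006) (l := 5) rfl N9006 D10620
theorem N10524 : nd 10524 = n10621 := ndS (p := 9007) (l := 1) rfl N9007 D10621
theorem N10525 : nd 10525 = n10622 := ndS (p := 9009) (l := 6) rfl N9009 D10622
theorem N10526 : nd 10526 = n10623 := ndS (p := 9010) (l := 2) rfl N9010 D10623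
theorem N10527 : nd 10527 = n10624 := ndS (p := 9010) (l := 4) rfl N9010 D10624
theorem N10528 : nd 10528 = n10625 := ndS (p := 9010) (l := 6) rfl N9010 D10625
theorem N10529 : nd 10529 = n10626 := ndS (p := 9011) (l := 5) rfl N9011 D10626
theorem N10530 : nd 10530 = n10627 := ndS (p := 9012) (l := 1) rfl N9012 D10627
theorem N10531 : nd 10531 = n10628 := ndS (p := 9012) (l := 4) rfl N9012 D10628
theorem N10532 : nd 10532 = n10629 := ndS (p := 9012) (l := 6) rfl N9012 D10629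
theorem N10533 : nd 10533 = n10630 := ndS (p := 9013) (l := 6) rfl N9013 D10630
theorem N10534 : nd 10534 = n10631 := ndS (p := 9014) (l := 7) rfl N9014 D10631
theorem N10535 : nd 10535 = n10632 := ndS (p := 9015) (l := 4) rfl N9015 D10632
theorem N10536 : nd 10536 = n10633 := ndS (p := 9016) (l := 3) rfl N9016 D10633
theorem N10537 : nd 10537 = n10634 := ndS (p := 9017) (l := 0) rfl N9017 D10634
theorem N10538 : nd 10538 = n10635 := ndS (p := 9017) (l := 4) rfl N9017 D10635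
theorem N10539 : nd 10539 = n10636 := ndS (p := 9018) (l := 6) rfl N9018 D10636
theorem N10540 : nd 10540 = n10637 := ndS (p := 9020) (l := 7) rfl N9020 D10637
theorem N10541 : nd 10541 = n10638 := ndS (p := 9022) (l := 3) rfl N9022 D10638
theorem N10542 : nd 10542 = n10639 := ndS (p := 9024) (l := 1) rfl N9024 D10639
theorem N10543 : nd 10543 = n10640 := ndS (p := 9025) (l := 2) rfl N9025 D10640
theorem N10544 : nd 10544 = n10641 := ndS (p := 9026) (l := 3) rfl N9026 D10641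
theorem N10545 : nd 10545 = n10642 := ndS (p := 9027) (l := 2) rfl N9027 D10642
theorem N10546 : nd 10546 = n10643 := ndS (p := 9027) (l := 6) rfl N9027 D10643
theorem N10547 : nd 10547 = n10644 := ndS (p := 9028) (l := 5) rfl N9028 D10644
theorem N10548 : nd 10548 = n10645 := ndS (p := 9029) (l := 1) rfl N9029 D10645
theorem N10549 : nd 10549 = n10646 := ndS (p := 9031) (l := 5) rfl N9031 D10646
theorem N10550 : nd 10550 = n10647 := ndS (p := 9032) (l := 1) rfl N9032 D10647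
theorem N10551 : nd 10551 = n10648 := ndS (p := 9033) (l := 1) rfl N9033 D10648
theorem N10552 : nd 10552 = n10649 := ndS (p := 9034) (l := 0) rfl N9034 D10649
theorem N10553 : nd 10553 = n10650 := ndS (p := 9034) (l := 2) rfl N9034 D10650
theorem N10554 : nd 10554 = n10651 := ndS (p := 9035) (l := 0) rfl N9035 D10651
theorem N10555 : nd 10555 = n10652 := ndS (p := 9035) (l := 4) rfl N9035 D10652
theorem N10556 : nd 10556 = n10653 := ndS (p := 9035) (l := 5) rfl N9035 D10653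
theorem N10557 : nd 10557 = n10654 := ndS (p := 9038) (l := 7) rfl N9038 D10654
theorem N10558 : nd 10558 = n10655 := ndS (p := 9039) (l := 1) rfl N9039 D10655
theorem N10559 : nd 10559 = n10656 := ndS (p := 9039) (l := 7) rfl N9039 D10656
theorem N10560 : nd 10560 = n10657 := ndS (p := 9041) (l := 0) rfl N9041 D10657
theorem N10561 : nd 10561 = n10658 := ndS (p := 9041) (l := 2) rfl N9041 D10658
theorem N10562 : nd 10562 = n10659 := ndS (p := 9042) (l := 0) rfl N9042 D10659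
theorem N10563 : nd 10563 = n10660 := ndS (p := 9042) (l := 2) rfl N9042 D10660
theorem N10564 : nd 10564 = n10661 := ndS (p := 9042) (l := 7) rfl N9042 D10661
theorem N10565 : nd 10565 = n10662 := ndS (p := 9043) (l := 6) rfl N9043 D10662
theorem N10566 : nd 10566 = n10663 := ndS (p := 9044) (l := 2) rfl N9044 D10663
theorem N10567 : nd 10567 = n10664 := ndS (p := 9045) (l := 3) rfl N9045 D10664
theorem N10568 : nd 10568 = n10665 := ndS (p := 9046) (l := 7) rfl N9046 D10665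
theorem N10569 : nd 10569 = n10666 := ndS (p := 9048) (l := 0) rfl N9048 D10666
theorem N10570 : nd 10570 = n10667 := ndS (p := 9048) (l := 2) rfl N9048 D10667
theorem N10571 : nd 10571 = n10668 := ndS (p := 9048) (l := 7) rfl N9048 D10668
theorem N10572 : nd 10572 = n10669 := ndS (p := 9049) (l := 6) rfl N9049 D10669
theorem N10573 : nd 10573 = n10670 := ndS (p := 9050) (l := 2) rfl N9050 D10670
theorem N10574 : nd 10574 = n10671 := ndS (p := 9052) (l := 2) rfl N9052 D10671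
theorem N10575 : nd 10575 = n10672 := ndS (p := 9052) (l := 7) rfl N9052 D10672
theorem N10576 : nd 10576 = n10673 := ndS (p := 9053) (l := 3) rfl N9053 D10673
theorem N10577 : nd 10577 = n10674 := ndS (p := 9053) (l := 7) rfl N9053 D10674
theorem N10578 : nd 10578 = n10675 := ndS (p := 9056) (l := 3) rfl N9056 D10675
theorem N10579 : nd 10579 = n10676 := ndS (p := 9057) (l := 4) rfl N9057 D10676
theorem N10580 : nd 10580 = n10677 := ndS (p := 9057) (l := 7) rfl N9057 D10677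
theorem N10581 : nd 10581 = n10678 := ndS (p := 9060) (l := 1) rfl N9060 D10678
theorem N10582 : nd 10582 = n10679 := ndS (p := 9061) (l := 2) rfl N9061 D10679
theorem N10583 : nd 10583 = n10680 := ndS (p := 9063) (l := 3) rfl N9063 D10680
theorem N10584 : nd 10584 = n10681 := ndS (p := 9065) (l := 3) rfl N9065 D10681
theorem N10585 : nd 10585 = n10682 := ndS (p := 9066) (l := 4) rfl N9066 D10682
theorem N10586 : nd 10586 = n10683 := ndS (p := 9067) (l := 4) rfl N9067 D10683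
theorem N10587 : nd 10587 = n10684 := ndS (p := 9068) (l := 4) rfl N9068 D10684
theorem N10588 : nd 10588 = n10685 := ndS (p := 9069) (l := 3) rfl N9069 D10685
theorem N10589 : nd 10589 = n10686 := ndS (p := 9069) (l := 5) rfl N9069 D10686
theorem N10590 : nd 10590 = n10687 := ndS (p := 9069) (l := 6) rfl N9069 D10687
theorem N10591 : nd 10591 = n10688 := ndS (p := 9076) (l := 3) rfl N9076 D10688
theorem N10592 : nd 10592 = n10689 := ndS (p := 9081) (l := 3) rfl N9081 D10689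
theorem N10593 : nd 10593 = n10690 := ndS (p := 9083) (l := 4) rfl N9083 D10690
theorem N10594 : nd 10594 = n10691 := ndS (p := 9083) (l := 7) rfl N9083 D10691
theorem N10595 : nd 10595 = n10692 := ndS (p := 9084) (l := 1) rfl N9084 D10692
theorem N10596 : nd 10596 = n10693 := ndS (p := 9085) (l := 1) rfl N9085 D10693
theorem N10597 : nd 10597 = n10694 := ndS (p := 9087) (l := 0) rfl N9087 D10694
theorem N10598 : nd 10598 = n10695 := ndS (p := 9090) (l := 7) rfl N9090 D10695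
theorem N10599 : nd 10599 = n10696 := ndS (p := 9091) (l := 6) rfl N9091 D10696
theorem N10600 : nd 10600 = n10697 := ndS (p := 9098) (l := 2) rfl N9098 D10697
theorem N10601 : nd 10601 = n10698 := ndS (p := 9099) (l := 6) rfl N9099 D10698
theorem N10602 : nd 10602 = n10699 := ndS (p := 9100) (l := 3) rfl N9100 D10699
theorem N10603 : nd 10603 = n10700 := ndS (p := 9101) (l := 4) rfl N9101 D10700
theorem N10604 : nd 10604 = n10701 := ndS (p := 9102) (l := 7) rfl N9102 D10701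
theorem N10605 : nd 10605 = n10702 := ndS (p := 9104) (l := 7) rfl N9104 D10702
theorem N10606 : nd 10606 = n10703 := ndS (p := 9105) (l := 3) rfl N9105 D10703
theorem N10607 : nd 10607 = n10704 := ndS (p := 9106) (l := 7) rfl N9106 D10704
theorem N10608 : nd 10608 = n10705 := ndS (p := 9107) (l := 3) rfl N9107 D10705
theorem N10609 : nd 10609 = n10706 := ndS (p := 9108) (l := 3) rfl N9108 D10706
theorem N10610 : nd 10610 = n10707 := ndS (p := 9109) (l := 4) rfl N9109 D10707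
theorem N10611 : nd 10611 = n10708 := ndS (p := 9110) (l := 3) rfl N9110 D10708
theorem N10612 : nd 10612 = n10709 := ndS (p := 9110) (l := 6) rfl N9110 D10709
theorem N10613 : nd 10613 = n10710 := ndS (p := 9111) (l := 5) rfl N9111 D10710
theorem N10614 : nd 10614 = n10711 := ndS (p := 9112) (l := 7) rfl N9112 D10711
theorem N10615 : nd 10615 = n10712 := ndS (p := 9113) (l := 3) rfl N9113 D10712
theorem N10616 : nd 10616 = n10713 := ndS (p := 9114) (l := 2) rfl N9114 D10713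
theorem N10617 : nd 10617 = n10714 := ndS (p := 9114) (l := 4) rfl N9114 D10714
theorem N10618 : nd 10618 = n10715 := ndS (p := 9115) (l := 4) rfl N9115 D10715
theorem N10619 : nd 10619 = n10716 := ndS (p := 9116) (l := 2) rfl N9116 D10716
theorem N10620 : nd 10620 = n10717 := ndS (p := 9116) (l := 4) rfl N9116 D10717
theorem N10621 : nd 10621 = n10718 := ndS (p := 9117) (l := 4) rfl N9117 D10718
theorem N10622 : nd 10622 = n10719 := ndS (p := 9119) (l := 1) rfl N9119 D10719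
theorem N10623 : nd 10623 = n10720 := ndS (p := 9119) (l := 7) rfl N9119 D10720
theorem N10624 : nd 10624 = n10721 := ndS (p := 9121) (l := 3) rfl N9121 D10721
theorem N10625 : nd 10625 = n10722 := ndS (p := 9122) (l := 2) rfl N9122 D10722
theorem N10626 : nd 10626 = n10723 := ndS (p := 9122) (l := 4) rfl N9122 D10723
theorem N10627 : nd 10627 = n10724 := ndS (p := 9123) (l := 1) rfl N9123 D10724
theorem N10628 : nd 10628 = n10725 := ndS (p := 9123) (l := 4) rfl N9123 D10725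
theorem N10629 : nd 10629 = n10726 := ndS (p := 9125) (l := 5) rfl N9125 D10726
theorem N10630 : nd 10630 = n10727 := ndS (p := 9127) (l := 4) rfl N9127 D10727
theorem N10631 : nd 10631 = n10728 := ndS (p := 9129) (l := 4) rfl N9129 D10728
theorem N10632 : nd 10632 = n10729 := ndS (p := 9131) (l := 4) rfl N9131 D10729
theorem N10633 : nd 10633 = n10730 := ndS (p := 9132) (l := 1) rfl N9132 D10730
theorem N10634 : nd 10634 = n10731 := ndS (p := 9132) (l := 4) rfl N9132 D10731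
theorem N10635 : nd 10635 = n10732 := ndS (p := 9134) (l := 0) rfl N9134 D10732
theorem N10636 : nd 10636 = n10733 := ndS (p := 9134) (l := 4) rfl N9134 D10733
theorem N10637 : nd 10637 = n10734 := ndS (p := 9134) (l := 5) rfl N9134 D10734
theorem N10638 : nd 10638 = n10735 := ndS (p := 9135) (l := 3) rfl N9135 D10735
theorem N10639 : nd 10639 = n10736 := ndS (p := 9136) (l := 1) rfl N9136 D10736
theorem N10640 : nd 10640 = n10737 := ndS (p := 9138) (l := 1) rfl N9138 D10737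
theorem N10641 : nd 10641 = n10738 := ndS (p := 9139) (l := 1) rfl N9139 D10738
theorem N10642 : nd 10642 = n10739 := ndS (p := 9139) (l := 7) rfl N9139 D10739
theorem N10643 : nd 10643 = n10740 := ndS (p := 9141) (l := 0) rfl N9141 D10740
theorem N10644 : nd 10644 = n10741 := ndS (p := 9142) (l := 3) rfl N9142 D10741
theorem N10645 : nd 10645 = n10742 := ndS (p := 9145) (l := 5) rfl N9145 D10742
theorem N10646 : nd 10646 = n10743 := ndS (p := 9148) (l := 4) rfl N9148 D10743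
theorem N10647 : nd 10647 = n10744 := ndS (p := 9148) (l := 6) rfl N9148 D10744
theorem N10648 : nd 10648 = n10745 := ndS (p := 9149) (l := 5) rfl N9149 D10745
theorem N10649 : nd 10649 = n10746 := ndS (p := 9150) (l := 1) rfl N9150 D10746
theorem N10650 : nd 10650 = n10747 := ndS (p := 9152) (l := 3) rfl N9152 D10747
theorem N10651 : nd 10651 = n10748 := ndS (p := 9153) (l := 4) rfl N9153 D10748
theorem N10652 : nd 10652 = n10749 := ndS (p := 9153) (l := 6) rfl N9153 D10749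
theorem N10653 : nd 10653 = n10750 := ndS (p := 9158) (l := 4) rfl N9158 D10750
theorem N10654 : nd 10654 = n10751 := ndS (p := 9159) (l := 4) rfl N9159 D10751
theorem N10655 : nd 10655 = n10752 := ndS (p := 9160) (l := 6) rfl N9160 D10752
theorem N10656 : nd 10656 = n10753 := ndS (p := 9161) (l := 5) rfl N9161 D10753
theorem N10657 : nd 10657 = n10754 := ndS (p := 9165) (l := 6) rfl N9165 D10754
theorem N10658 : nd 10658 = n10755 := ndS (p := 9166) (l := 4) rfl N9166 D10755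
theorem N10659 : nd 10659 = n10756 := ndS (p := 9166) (l := 6) rfl N9166 D10756
theorem N10660 : nd 10660 = n10757 := ndS (p := 9167) (l := 5) rfl N9167 D10757
theorem N10661 : nd 10661 = n10758 := ndS (p := 9168) (l := 6) rfl N9168 D10758
theorem N10662 : nd 10662 = n10759 := ndS (p := 9169) (l := 7) rfl N9169 D10759
theorem N10663 : nd 10663 = n10760 := ndS (p := 9173) (l := 7) rfl N9173 D10760
theorem N10664 : nd 10664 = n10761 := ndS (p := 9180) (l := 4) rfl N9180 D10761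
theorem N10665 : nd 10665 = n10762 := ndS (p := 9180) (l := 7) rfl N9180 D10762
theorem N10666 : nd 10666 = n10763 := ndS (p := 9181) (l := 0) rfl N9181 D10763
theorem N10667 : nd 10667 = n10764 := ndS (p := 9181) (l := 2) rfl N9181 D10764
theorem N10668 : nd 10668 = n10765 := ndS (p := 9182) (l := 0) rfl N9182 D10765
theorem N10669 : nd 10669 = n10766 := ndS (p := 9182) (l := 2) rfl N9182 D10766
theorem N10670 : nd 10670 = n10767 := ndS (p := 9183) (l := 6) rfl N9183 D10767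
theorem N10671 : nd 10671 = n10768 := ndS (p := 9184) (l := 2) rfl N9184 D10768
theorem N10672 : nd 10672 = n10769 := ndS (p := 9185) (l := 3) rfl N9185 D10769
theorem N10673 : nd 10673 = n10770 := ndS (p := 9186) (l := 2) rfl N9186 D10770
theorem N10674 : nd 10674 = n10771 := ndS (p := 9187) (l := 3) rfl N9187 D10771
theorem N10675 : nd 10675 = n10772 := ndS (p := 9188) (l := 1) rfl N9188 D10772
theorem N10676 : nd 10676 = n10773 := ndS (p := 9188) (l := 3) rfl N9188 D10773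
theorem N10677 : nd 10677 = n10774 := ndS (p := 9189) (l := 4) rfl N9189 D10774
theorem N10678 : nd 10678 = n10775 := ndS (p := 9189) (l := 7) rfl N9189 D10775
theorem N10679 : nd 10679 = n10776 := ndS (p := 9190) (l := 2) rfl N9190 D10776
theorem N10680 : nd 10680 = n10777 := ndS (p := 9191) (l := 6) rfl N9191 D10777
theorem N10681 : nd 10681 = n10778 := ndS (p := 9192) (l := 3) rfl N9192 D10778
theorem N10682 : nd 10682 = n10779 := ndS (p := 9193) (l := 3) rfl N9193 D10779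
theorem N10683 : nd 10683 = n10780 := ndS (p := 9194) (l := 3) rfl N9194 D10780
theorem N10684 : nd 10684 = n10781 := ndS (p := 9196) (l := 4) rfl N9196 D10781
theorem N10685 : nd 10685 = n10782 := ndS (p := 9196) (l := 7) rfl N9196 D10782
theorem N10686 : nd 10686 = n10783 := ndS (p := 9198) (l := 3) rfl N9198 D10783
theorem N10687 : nd 10687 = n10784 := ndS (p := 9198) (l := 5) rfl N9198 D10784
theorem N10688 : nd 10688 = n10785 := ndS (p := 9199) (l := 4) rfl N9199 D10785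
theorem N10689 : nd 10689 = n10786 := ndS (p := 9199) (l := 7) rfl N9199 D10786
theorem N10690 : nd 10690 = n10787 := ndS (p := 9200) (l := 7) rfl N9200 D10787
theorem N10691 : nd 10691 = n10788 := ndS (p := 9201) (l := 6) rfl N9201 D10788
theorem N10692 : nd 10692 = n10789 := ndS (p := 9203) (l := 1) rfl N9203 D10789
theorem N10693 : nd 10693 = n10790 := ndS (p := 9203) (l := 7) rfl N9203 D10790
theorem N10694 : nd 10694 = n10791 := ndS (p := 9204) (l := 3) rfl N9204 D10791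
theorem N10695 : nd 10695 = n10792 := ndS (p := 9205) (l := 0) rfl N9205 D10792
theorem N10696 : nd 10696 = n10793 := ndS (p := 9205) (l := 2) rfl N9205 D10793
theorem N10697 : nd 10697 = n10794 := ndS (p := 9207) (l := 3) rfl N9207 D10794
theorem N10698 : nd 10698 = n10795 := ndS (p := 9208) (l := 4) rfl N9208 D10795
theorem N10699 : nd 10699 = n10796 := ndS (p := 9209) (l := 3) rfl N9209 D10796
theorem N10700 : nd 10700 = n10797 := ndS (p := 9209) (l := 5) rfl N9209 D10797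
theorem N10701 : nd 10701 = n10798 := ndS (p := 9210) (l := 4) rfl N9210 D10798
theorem N10702 : nd 10702 = n10799 := ndS (p := 9210) (l := 7) rfl N9210 D10799
theorem N10703 : nd 10703 = n10800 := ndS (p := 9211) (l := 7) rfl N9211 D10800
theorem N10704 : nd 10704 = n10801 := ndS (p := 9212) (l := 6) rfl N9212 D10801
theorem N10705 : nd 10705 = n10802 := ndS (p := 9213) (l := 3) rfl N9213 D10802
theorem N10706 : nd 10706 = n10803 := ndS (p := 9214) (l := 4) rfl N9214 D10803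
theorem N10707 : nd 10707 = n10804 := ndS (p := 9214) (l := 7) rfl N9214 D10804
theorem N10708 : nd 10708 = n10805 := ndS (p := 9215) (l := 3) rfl N9215 D10805
theorem N10709 : nd 10709 = n10806 := ndS (p := 9216) (l := 4) rfl N9216 D10806
theorem N10710 : nd 10710 = n10807 := ndS (p := 9216) (l := 7) rfl N9216 D10807
theorem N10711 : nd 10711 = n10808 := ndS (p := 9217) (l := 7) rfl N9217 D10808
theorem N10712 : nd 10712 = n10809 := ndS (p := 9218) (l := 6) rfl N9218 D10809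
theorem N10713 : nd 10713 = n10810 := ndS (p := 9219) (l := 2) rfl N9219 D10810
theorem N10714 : nd 10714 = n10811 := ndS (p := 9221) (l := 2) rfl N9221 D10811
theorem N10715 : nd 10715 = n10812 := ndS (p := 9222) (l := 3) rfl N9222 D10812
theorem N10716 : nd 10716 = n10813 := ndS (p := 9223) (l := 3) rfl N9223 D10813
theorem N10717 : nd 10717 = n10814 := ndS (p := 9224) (l := 4) rfl N9224 D10814
theorem N10718 : nd 10718 = n10815 := ndS (p := 9224) (l := 7) rfl N9224 D10815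
theorem N10719 : nd 10719 = n10816 := ndS (p := 9225) (l := 7) rfl N9225 D10816
theorem N10720 : nd 10720 = n10817 := ndS (p := 9226) (l := 6) rfl N9226 D10817
theorem N10721 : nd 10721 = n10818 := ndS (p := 9227) (l := 2) rfl N9227 D10818
theorem N10722 : nd 10722 = n10819 := ndS (p := 9227) (l := 4) rfl N9227 D10819
theorem N10723 : nd 10723 = n10820 := ndS (p := 9227) (l := 5) rfl N9227 D10820
theorem N10724 : nd 10724 = n10821 := ndS (p := 9227) (l := 7) rfl N9227 D10821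
theorem N10725 : nd 10725 = n10822 := ndS (p := 9228) (l := 6) rfl N9228 D10822
theorem N10726 : nd 10726 = n10823 := ndS (p := 9229) (l := 7) rfl N9229 D10823
theorem N10727 : nd 10727 = n10824 := ndS (p := 9230) (l := 6) rfl N9230 D10824
theorem N10728 : nd 10728 = n10825 := ndS (p := 9231) (l := 3) rfl N9231 D10825
theorem N10729 : nd 10729 = n10826 := ndS (p := 9231) (l := 6) rfl N9231 D10826
theorem N10730 : nd 10730 = n10827 := ndS (p := 9232) (l := 5) rfl N9232 D10827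
theorem N10731 : nd 10731 = n10828 := ndS (p := 9233) (l := 2) rfl N9233 D10828
theorem N10732 : nd 10732 = n10829 := ndS (p := 9235) (l := 2) rfl N9235 D10829
theorem N10733 : nd 10733 = n10830 := ndS (p := 9236) (l := 3) rfl N9236 D10830
theorem N10734 : nd 10734 = n10831 := ndS (p := 9237) (l := 1) rfl N9237 D10831
theorem N10735 : nd 10735 = n10832 := ndS (p := 9237) (l := 3) rfl N9237 D10832
theorem N10736 : nd 10736 = n10833 := ndS (p := 9238) (l := 4) rfl N9238 D10833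
theorem N10737 : nd 10737 = n10834 := ndS (p := 9238) (l := 7) rfl N9238 D10834
theorem N10738 : nd 10738 = n10835 := ndS (p := 9239) (l := 3) rfl N9239 D10835
theorem N10739 : nd 10739 = n10836 := ndS (p := 9239) (l := 5) rfl N9239 D10836
theorem N10740 : nd 10740 = n10837 := ndS (p := 9240) (l := 4) rfl N9240 D10837
theorem N10741 : nd 10741 = n10838 := ndS (p := 9240) (l := 7) rfl N9240 D10838
theorem N10742 : nd 10742 = n10839 := ndS (p := 9241) (l := 7) rfl N9241 D10839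
theorem N10743 : nd 10743 = n10840 := ndS (p := 9242) (l := 6) rfl N9242 D10840
theorem N10744 : nd 10744 = n10841 := ndS (p := 9243) (l := 2) rfl N9243 D10841
theorem N10745 : nd 10745 = n10842 := ndS (p := 9243) (l := 4) rfl N9243 D10842
theorem N10746 : nd 10746 = n10843 := ndS (p := 9243) (l := 5) rfl N9243 D10843
theorem N10747 : nd 10747 = n10844 := ndS (p := 9243) (l := 7) rfl N9243 D10844
theorem N10748 : nd 10748 = n10845 := ndS (p := 9245) (l := 7) rfl N9245 D10845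
theorem N10749 : nd 10749 = n10846 := ndS (p := 9246) (l := 6) rfl N9246 D10846
theorem N10750 : nd 10750 = n10847 := ndS (p := 9247) (l := 3) rfl N9247 D10847
theorem N10751 : nd 10751 = n10848 := ndS (p := 9247) (l := 6) rfl N9247 D10848
theorem N10752 : nd 10752 = n10849 := ndS (p := 9248) (l := 5) rfl N9248 D10849
theorem N10753 : nd 10753 = n10850 := ndS (p := 9249) (l := 3) rfl N9249 D10850
theorem N10754 : nd 10754 = n10851 := ndS (p := 9250) (l := 2) rfl N9250 D10851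
theorem N10755 : nd 10755 = n10852 := ndS (p := 9250) (l := 4) rfl N9250 D10852
theorem N10756 : nd 10756 = n10853 := ndS (p := 9251) (l := 2) rfl N9251 D10853
theorem N10757 : nd 10757 = n10854 := ndS (p := 9251) (l := 7) rfl N9251 D10854
theorem N10758 : nd 10758 = n10855 := ndS (p := 9252) (l := 3) rfl N9252 D10855
theorem N10759 : nd 10759 = n10856 := ndS (p := 9252) (l := 7) rfl N9252 D10856
theorem N10760 : nd 10760 = n10857 := ndS (p := 9253) (l := 3) rfl N9253 D10857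
theorem N10761 : nd 10761 = n10858 := ndS (p := 9254) (l := 2) rfl N9254 D10858
theorem N10762 : nd 10762 = n10859 := ndS (p := 9254) (l := 4) rfl N9254 D10859
theorem N10763 : nd 10763 = n10860 := ndS (p := 9255) (l := 4) rfl N9255 D10860
theorem N10764 : nd 10764 = n10861 := ndS (p := 9257) (l := 1) rfl N9257 D10861
theorem N10765 : nd 10765 = n10862 := ndS (p := 9257) (l := 3) rfl N9257 D10862
theorem N10766 : nd 10766 = n10863 := ndS (p := 9258) (l := 4) rfl N9258 D10863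
theorem N10767 : nd 10767 = n10864 := ndS (p := 9258) (l := 7) rfl N9258 D10864
theorem N10768 : nd 10768 = n10865 := ndS (p := 9259) (l := 4) rfl N9259 D10865
theorem N10769 : nd 10769 = n10866 := ndS (p := 9259) (l := 7) rfl N9259 D10866
theorem N10770 : nd 10770 = n10867 := ndS (p := 9260) (l := 7) rfl N9260 D10867
theorem N10771 : nd 10771 = n10868 := ndS (p := 9262) (l := 3) rfl N9262 D10868
theorem N10772 : nd 10772 = n10869 := ndS (p := 9262) (l := 6) rfl N9262 D10869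
theorem N10773 : nd 10773 = n10870 := ndS (p := 9263) (l := 5) rfl N9263 D10870
theorem N10774 : nd 10774 = n10871 := ndS (p := 9264) (l := 4) rfl N9264 D10871
theorem N10775 : nd 10775 = n10872 := ndS (p := 9264) (l := 7) rfl N9264 D10872
theorem N10776 : nd 10776 = n10873 := ndS (p := 9265) (l := 5) rfl N9265 D10873
theorem N10777 : nd 10777 = n10874 := ndS (p := 9265) (l := 7) rfl N9265 D10874
theorem N10778 : nd 10778 = n10875 := ndS (p := 9266) (l := 6) rfl N9266 D10875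
theorem N10779 : nd 10779 = n10876 := ndS (p := 9266) (l := 7) rfl N9266 D10876
theorem N10780 : nd 10780 = n10877 := ndS (p := 9267) (l := 6) rfl N9267 D10877
theorem N10781 : nd 10781 = n10878 := ndS (p := 9269) (l := 3) rfl N9269 D10878
theorem N10782 : nd 10782 = n10879 := ndS (p := 9269) (l := 6) rfl N9269 D10879
theorem N10783 : nd 10783 = n10880 := ndS (p := 9270) (l := 5) rfl N9270 D10880
theorem N10784 : nd 10784 = n10881 := ndS (p := 9271) (l := 2) rfl N9271 D10881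
theorem N10785 : nd 10785 = n10882 := ndS (p := 9271) (l := 6) rfl N9271 D10882
theorem N10786 : nd 10786 = n10883 := ndS (p := 9272) (l := 5) rfl N9272 D10883
theorem N10787 : nd 10787 = n10884 := ndS (p := 9273) (l := 1) rfl N9273 D10884
theorem N10788 : nd 10788 = n10885 := ndS (p := 9274) (l := 3) rfl N9274 D10885
theorem N10789 : nd 10789 = n10886 := ndS (p := 9275) (l := 4) rfl N9275 D10886
theorem N10790 : nd 10790 = n10887 := ndS (p := 9276) (l := 1) rfl N9276 D10887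
theorem N10791 : nd 10791 = n10888 := ndS (p := 9276) (l := 4) rfl N9276 D10888
theorem N10792 : nd 10792 = n10889 := ndS (p := 9278) (l := 3) rfl N9278 D10889
theorem N10793 : nd 10793 = n10890 := ndS (p := 9281) (l := 5) rfl N9281 D10890
theorem N10794 : nd 10794 = n10891 := ndS (p := 9282) (l := 5) rfl N9282 D10891
theorem N10795 : nd 10795 = n10892 := ndS (p := 9282) (l := 7) rfl N9282 D10892
theorem N10796 : nd 10796 = n10893 := ndS (p := 9283) (l := 1) rfl N9283 D10893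
theorem N10797 : nd 10797 = n10894 := ndS (p := 9284) (l := 5) rfl N9284 D10894
theorem N10798 : nd 10798 = n10895 := ndS (p := 9285) (l := 7) rfl N9285 D10895
theorem N10799 : nd 10799 = n10896 := ndS (p := 9286) (l := 3) rfl N9286 D10896
theorem N10800 : nd 10800 = n10897 := ndS (p := 9287) (l := 4) rfl N9287 D10897
theorem N10801 : nd 10801 = n10898 := ndS (p := 9287) (l := 6) rfl N9287 D10898
theorem N10802 : nd 10802 = n10899 := ndS (p := 9288) (l := 5) rfl N9288 D10899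
theorem N10803 : nd 10803 = n10900 := ndS (p := 9290) (l := 1) rfl N9290 D10900
theorem N10804 : nd 10804 = n10901 := ndS (p := 9290) (l := 7) rfl N9290 D10901
theorem N10805 : nd 10805 = n10902 := ndS (p := 9292) (l := 3) rfl N9292 D10902
theorem N10806 : nd 10806 = n10903 := ndS (p := 9292) (l := 6) rfl N9292 D10903
theorem N10807 : nd 10807 = n10904 := ndS (p := 9293) (l := 2) rfl N9293 D10904
theorem N10808 : nd 10808 = n10905 := ndS (p := 9293) (l := 4) rfl N9293 D10905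
theorem N10809 : nd 10809 = n10906 := ndS (p := 9294) (l := 1) rfl N9294 D10906
theorem N10810 : nd 10810 = n10907 := ndS (p := 9294) (l := 4) rfl N9294 D10907
theorem N10811 : nd 10811 = n10908 := ndS (p := 9296) (l := 0) rfl N9296 D10908
theorem N10812 : nd 10812 = n10909 := ndS (p := 9296) (l := 2) rfl N9296 D10909
theorem N10813 : nd 10813 = n10910 := ndS (p := 9296) (l := 7) rfl N9296 D10910
theorem N10814 : nd 10814 = n10911 := ndS (p := 9297) (l := 6) rfl N9297 D10911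
theorem N10815 : nd 10815 = n10912 := ndS (p := 9298) (l := 3) rfl N9298 D10912
theorem N10816 : nd 10816 = n10913 := ndS (p := 9299) (l := 3) rfl N9299 D10913
theorem N10817 : nd 10817 = n10914 := ndS (p := 9300) (l := 2) rfl N9300 D10914
theorem N10818 : nd 10818 = n10915 := ndS (p := 9300) (l := 4) rfl N9300 D10915
theorem N10819 : nd 10819 = n10916 := ndS (p := 9300) (l := 6) rfl N9300 D10916
theorem N10820 : nd 10820 = n10917 := ndS (p := 9302) (l := 1) rfl N9302 D10917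
theorem N10821 : nd 10821 = n10918 := ndS (p := 9302) (l := 4) rfl N9302 D10918
theorem N10822 : nd 10822 = n10919 := ndS (p := 9305) (l := 4) rfl N9305 D10919
theorem N10823 : nd 10823 = n10920 := ndS (p := 9306) (l := 1) rfl N9306 D10920
theorem N10824 : nd 10824 = n10921 := ndS (p := 9306) (l := 4) rfl N9306 D10921
theorem N10825 : nd 10825 = n10922 := ndS (p := 9308) (l := 0) rfl N9308 D10922
theorem N10826 : nd 10826 = n10923 := ndS (p := 9308) (l := 4) rfl N9308 D10923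
theorem N10827 : nd 10827 = n10924 := ndS (p := 9308) (l := 5) rfl N9308 D10924
theorem N10828 : nd 10828 = n10925 := ndS (p := 9309) (l := 3) rfl N9309 D10925
theorem N10829 : nd 10829 = n10926 := ndS (p := 9310) (l := 5) rfl N9310 D10926
theorem N10830 : nd 10830 = n10927 := ndS (p := 9311) (l := 5) rfl N9311 D10927
theorem N10831 : nd 10831 = n10928 := ndS (p := 9312) (l := 1) rfl N9312 D10928
theorem N10832 : nd 10832 = n10929 := ndS (p := 9313) (l := 5) rfl N9313 D10929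
theorem N10833 : nd 10833 = n10930 := ndS (p := 9313) (l := 7) rfl N9313 D10930
theorem N10834 : nd 10834 = n10931 := ndS (p := 9314) (l := 1) rfl N9314 D10931
theorem N10835 : nd 10835 = n10932 := ndS (p := 9314) (l := 7) rfl N9314 D10932
theorem N10836 : nd 10836 = n10933 := ndS (p := 9316) (l := 0) rfl N9316 D10933
theorem N10837 : nd 10837 = n10934 := ndS (p := 9317) (l := 4) rfl N9317 D10934
theorem N10838 : nd 10838 = n10935 := ndS (p := 9318) (l := 6) rfl N9318 D10935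
theorem N10839 : nd 10839 = n10936 := ndS (p := 9319) (l := 5) rfl N9319 D10936
theorem N10840 : nd 10840 = n10937 := ndS (p := 9321) (l := 1) rfl N9321 D10937
theorem N10841 : nd 10841 = n10938 := ndS (p := 9321) (l := 4) rfl N9321 D10938
theorem N10842 : nd 10842 = n10939 := ndS (p := 9323) (l := 0) rfl N9323 D10939
theorem N10843 : nd 10843 = n10940 := ndS (p := 9323) (l := 4) rfl N9323 D10940
theorem N10844 : nd 10844 = n10941 := ndS (p := 9323) (l := 5) rfl N9323 D10941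
theorem N10845 : nd 10845 = n10942 := ndS (p := 9324) (l := 3) rfl N9324 D10942
theorem N10846 : nd 10846 = n10943 := ndS (p := 9325) (l := 3) rfl N9325 D10943
theorem N10847 : nd 10847 = n10944 := ndS (p := 9327) (l := 4) rfl N9327 D10944
theorem N10848 : nd 10848 = n10945 := ndS (p := 9327) (l := 5) rfl N9327 D10945
theorem N10849 : nd 10849 = n10946 := ndS (p := 9328) (l := 3) rfl N9328 D10946
theorem N10850 : nd 10850 = n10947 := ndS (p := 9328) (l := 5) rfl N9328 D10947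
theorem N10851 : nd 10851 = n10948 := ndS (p := 9329) (l := 6) rfl N9329 D10948
theorem N10852 : nd 10852 = n10949 := ndS (p := 9330) (l := 7) rfl N9330 D10949
theorem N10853 : nd 10853 = n10950 := ndS (p := 9331) (l := 7) rfl N9331 D10950
theorem N10854 : nd 10854 = n10951 := ndS (p := 9332) (l := 3) rfl N9332 D10951
theorem N10855 : nd 10855 = n10952 := ndS (p := 9333) (l := 0) rfl N9333 D10952
theorem N10856 : nd 10856 = n10953 := ndS (p := 9336) (l := 3) rfl N9336 D10953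
theorem N10857 : nd 10857 = n10954 := ndS (p := 9336) (l := 5) rfl N9336 D10954
theorem N10858 : nd 10858 = n10955 := ndS (p := 9338) (l := 2) rfl N9338 D10955
theorem N10859 : nd 10859 = n10956 := ndS (p := 9338) (l := 5) rfl N9338 D10956
theorem N10860 : nd 10860 = n10957 := ndS (p := 9339) (l := 6) rfl N9339 D10957
theorem N10861 : nd 10861 = n10958 := ndS (p := 9343) (l := 6) rfl N9343 D10958
theorem N10862 : nd 10862 = n10959 := ndS (p := 9344) (l := 5) rfl N9344 D10959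
theorem N10863 : nd 10863 = n10960 := ndS (p := 9345) (l := 1) rfl N9345 D10960
theorem N10864 : nd 10864 = n10961 := ndS (p := 9346) (l := 5) rfl N9346 D10961
theorem N10865 : nd 10865 = n10962 := ndS (p := 9346) (l := 7) rfl N9346 D10962
theorem N10866 : nd 10866 = n10963 := ndS (p := 9347) (l := 1) rfl N9347 D10963
theorem N10867 : nd 10867 = n10964 := ndS (p := 9347) (l := 7) rfl N9347 D10964
theorem N10868 : nd 10868 = n10965 := ndS (p := 9348) (l := 3) rfl N9348 D10965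
theorem N10869 : nd 10869 = n10966 := ndS (p := 9349) (l := 0) rfl N9349 D10966
theorem N10870 : nd 10870 = n10967 := ndS (p := 9349) (l := 7) rfl N9349 D10967
theorem N10871 : nd 10871 = n10968 := ndS (p := 9350) (l := 3) rfl N9350 D10968
theorem N10872 : nd 10872 = n10969 := ndS (p := 9350) (l := 6) rfl N9350 D10969
theorem N10873 : nd 10873 = n10970 := ndS (p := 9351) (l := 4) rfl N9351 D10970
theorem N10874 : nd 10874 = n10971 := ndS (p := 9354) (l := 3) rfl N9354 D10971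
theorem N10875 : nd 10875 = n10972 := ndS (p := 9356) (l := 3) rfl N9356 D10972
theorem N10876 : nd 10876 = n10973 := ndS (p := 9357) (l := 4) rfl N9357 D10973
theorem N10877 : nd 10877 = n10974 := ndS (p := 9358) (l := 2) rfl N9358 D10974
theorem N10878 : nd 10878 = n10975 := ndS (p := 9358) (l := 7) rfl N9358 D10975
theorem N10879 : nd 10879 = n10976 := ndS (p := 9359) (l := 3) rfl N9359 D10976
theorem N10880 : nd 10880 = n10977 := ndS (p := 9360) (l := 3) rfl N9360 D10977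
theorem N10881 : nd 10881 = n10978 := ndS (p := 9360) (l := 6) rfl N9360 D10978
theorem N10882 : nd 10882 = n10979 := ndS (p := 9361) (l := 4) rfl N9361 D10979
theorem N10883 : nd 10883 = n10980 := ndS (p := 9361) (l := 6) rfl N9361 D10980
theorem N10884 : nd 10884 = n10981 := ndS (p := 9364) (l := 4) rfl N9364 D10981
theorem N10885 : nd 10885 = n10982 := ndS (p := 9364) (l := 7) rfl N9364 D10982
theorem N10886 : nd 10886 = n10983 := ndS (p := 9365) (l := 7) rfl N9365 D10983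
theorem N10887 : nd 10887 = n10984 := ndS (p := 9367) (l := 6) rfl N9367 D10984
theorem N10888 : nd 10888 = n10985 := ndS (p := 9369) (l := 3) rfl N9369 D10985
theorem N10889 : nd 10889 = n10986 := ndS (p := 9369) (l := 6) rfl N9369 D10986
theorem N10890 : nd 10890 = n10987 := ndS (p := 9371) (l := 7) rfl N9371 D10987
theorem N10891 : nd 10891 = n10988 := ndS (p := 9372) (l := 3) rfl N9372 D10988
theorem N10892 : nd 10892 = n10989 := ndS (p := 9372) (l := 6) rfl N9372 D10989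
theorem N10893 : nd 10893 = n10990 := ndS (p := 9373) (l := 4) rfl N9373 D10990
theorem N10894 : nd 10894 = n10991 := ndS (p := 9373) (l := 6) rfl N9373 D10991
theorem N10895 : nd 10895 = n10992 := ndS (p := 9374) (l := 5) rfl N9374 D10992
theorem N10896 : nd 10896 = n10993 := ndS (p := 9376) (l := 7) rfl N9376 D10993
theorem N10897 : nd 10897 = n10994 := ndS (p := 9377) (l := 3) rfl N9377 D10994
theorem N10898 : nd 10898 = n10995 := ndS (p := 9377) (l := 6) rfl N9377 D10995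
theorem N10899 : nd 10899 = n10996 := ndS (p := 9378) (l := 2) rfl N9378 D10996
theorem N10900 : nd 10900 = n10997 := ndS (p := 9378) (l := 4) rfl N9378 D10997
theorem N10901 : nd 10901 = n10998 := ndS (p := 9378) (l := 6) rfl N9378 D10998
theorem N10902 : nd 10902 = n10999 := ndS (p := 9380) (l := 4) rfl N9380 D10999
theorem N10903 : nd 10903 = n11000 := ndS (p := 9382) (l := 1) rfl N9382 D11000
theorem N10904 : nd 10904 = n11001 := ndS (p := 9384) (l := 4) rfl N9384 D11001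
theorem N10905 : nd 10905 = n11002 := ndS (p := 9384) (l := 6) rfl N9384 D11002
theorem N10906 : nd 10906 = n11003 := ndS (p := 9387) (l := 4) rfl N9387 D11003
theorem N10907 : nd 10907 = n11004 := ndS (p := 9388) (l := 6) rfl N9388 D11004
theorem N10908 : nd 10908 = n11005 := ndS (p := 9389) (l := 5) rfl N9389 D11005
theorem N10909 : nd 10909 = n11006 := ndS (p := 9394) (l := 4) rfl N9394 D11006
theorem N10910 : nd 10910 = n11007 := ndS (p := 9396) (l := 6) rfl N9396 D11007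
theorem N10911 : nd 10911 = n11008 := ndS (p := 9404) (l := 2) rfl N9404 D11008
theorem N10912 : nd 10912 = n11009 := ndS (p := 9404) (l := 4) rfl N9404 D11009
theorem N10913 : nd 10913 = n11010 := ndS (p := 9404) (l := 6) rfl N9404 D11010
theorem N10914 : nd 10914 = n11011 := ndS (p := 9405) (l := 5) rfl N9405 D11011
theorem N10915 : nd 10915 = n11012 := ndS (p := 9407) (l := 7) rfl N9407 D11012
theorem N10916 : nd 10916 = n11013 := ndS (p := 9409) (l := 4) rfl N9409 D11013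
theorem N10917 : nd 10917 = n11014 := ndS (p := 9409) (l := 6) rfl N9409 D11014
theorem N10918 : nd 10918 = n11015 := ndS (p := 9410) (l := 5) rfl N9410 D11015
theorem N10919 : nd 10919 = n11016 := ndS (p := 9411) (l := 6) rfl N9411 D11016
theorem N10920 : nd 10920 = n11017 := ndS (p := 9412) (l := 5) rfl N9412 D11017
theorem N10921 : nd 10921 = n11018 := ndS (p := 9413) (l := 1) rfl N9413 D11018
theorem N10922 : nd 10922 = n11019 := ndS (p := 9414) (l := 2) rfl N9414 D11019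
theorem N10923 : nd 10923 = n11020 := ndS (p := 9415) (l := 3) rfl N9415 D11020
theorem N10924 : nd 10924 = n11021 := ndS (p := 9415) (l := 6) rfl N9415 D11021
theorem N10925 : nd 10925 = n11022 := ndS (p := 9416) (l := 2) rfl N9416 D11022
theorem N10926 : nd 10926 = n11023 := ndS (p := 9416) (l := 4) rfl N9416 D11023
theorem N10927 : nd 10927 = n11024 := ndS (p := 9416) (l := 6) rfl N9416 D11024
theorem N10928 : nd 10928 = n11025 := ndS (p := 9417) (l := 5) rfl N9417 D11025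
theorem N10929 : nd 10929 = n11026 := ndS (p := 9418) (l := 1) rfl N9418 D11026
theorem N10930 : nd 10930 = n11027 := ndS (p := 9418) (l := 4) rfl N9418 D11027
theorem N10931 : nd 10931 = n11028 := ndS (p := 9418) (l := 6) rfl N9418 D11028
theorem N10932 : nd 10932 = n11029 := ndS (p := 9419) (l := 6) rfl N9419 D11029
theorem N10933 : nd 10933 = n11030 := ndS (p := 9420) (l := 7) rfl N9420 D11030
theorem N10934 : nd 10934 = n11031 := ndS (p := 9421) (l := 3) rfl N9421 D11031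
theorem N10935 : nd 10935 = n11032 := ndS (p := 9422) (l := 4) rfl N9422 D11032
theorem N10936 : nd 10936 = n11033 := ndS (p := 9422) (l := 6) rfl N9422 D11033
theorem N10937 : nd 10937 = n11034 := ndS (p := 9423) (l := 3) rfl N9423 D11034
theorem N10938 : nd 10938 = n11035 := ndS (p := 9425) (l := 4) rfl N9425 D11035
theorem N10939 : nd 10939 = n11036 := ndS (p := 9426) (l := 3) rfl N9426 D11036
theorem N10940 : nd 10940 = n11037 := ndS (p := 9426) (l := 5) rfl N9426 D11037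
theorem N10941 : nd 10941 = n11038 := ndS (p := 9429) (l := 3) rfl N9429 D11038
theorem N10942 : nd 10942 = n11039 := ndS (p := 9432) (l := 1) rfl N9432 D11039
theorem N10943 : nd 10943 = n11040 := ndS (p := 9432) (l := 4) rfl N9432 D11040
theorem N10944 : nd 10944 = n11041 := ndS (p := 9432) (l := 6) rfl N9432 D11041
theorem N10945 : nd 10945 = n11042 := ndS (p := 9433) (l := 6) rfl N9433 D11042
theorem N10946 : nd 10946 = n11043 := ndS (p := 9434) (l := 7) rfl N9434 D11043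
theorem N10947 : nd 10947 = n11044 := ndS (p := 9435) (l := 7) rfl N9435 D11044
theorem N10948 : nd 10948 = n11045 := ndS (p := 9438) (l := 1) rfl N9438 D11045
theorem N10949 : nd 10949 = n11046 := ndS (p := 9438) (l := 4) rfl N9438 D11046
theorem N10950 : nd 10950 = n11047 := ndS (p := 9440) (l := 4) rfl N9440 D11047
theorem N10951 : nd 10951 = n11048 := ndS (p := 9440) (l := 6) rfl N9440 D11048
theorem N10952 : nd 10952 = n11049 := ndS (p := 9441) (l := 3) rfl N9441 D11049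
theorem N10953 : nd 10953 = n11050 := ndS (p := 9441) (l := 6) rfl N9441 D11050
theorem N10954 : nd 10954 = n11051 := ndS (p := 9442) (l := 5) rfl N9442 D11051
theorem N10955 : nd 10955 = n11052 := ndS (p := 9443) (l := 5) rfl N9443 D11052
theorem N10956 : nd 10956 = n11053 := ndS (p := 9444) (l := 1) rfl N9444 D11053
theorem N10957 : nd 10957 = n11054 := ndS (p := 9448) (l := 1) rfl N9448 D11054
theorem N10958 : nd 10958 = n11055 := ndS (p := 9448) (l := 4) rfl N9448 D11055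
theorem N10959 : nd 10959 = n11056 := ndS (p := 9449) (l := 6) rfl N9449 D11056
theorem N10960 : nd 10960 = n11057 := ndS (p := 9450) (l := 5) rfl N9450 D11057
theorem N10961 : nd 10961 = n11058 := ndS (p := 9452) (l := 0) rfl N9452 D11058
theorem N10962 : nd 10962 = n11059 := ndS (p := 9452) (l := 4) rfl N9452 D11059
theorem N10963 : nd 10963 = n11060 := ndS (p := 9452) (l := 6) rfl N9452 D11060
theorem N10964 : nd 10964 = n11061 := ndS (p := 9453) (l := 3) rfl N9453 D11061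
theorem N10965 : nd 10965 = n11062 := ndS (p := 9453) (l := 6) rfl N9453 D11062
theorem N10966 : nd 10966 = n11063 := ndS (p := 9454) (l := 7) rfl N9454 D11063
theorem N10967 : nd 10967 = n11064 := ndS (p := 9455) (l := 7) rfl N9455 D11064
theorem N10968 : nd 10968 = n11065 := ndS (p := 9459) (l := 6) rfl N9459 D11065
theorem N10969 : nd 10969 = n11066 := ndS (p := 9461) (l := 6) rfl N9461 D11066
theorem N10970 : nd 10970 = n11067 := ndS (p := 9465) (l := 3) rfl N9465 D11067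
theorem N10971 : nd 10971 = n11068 := ndS (p := 9466) (l := 2) rfl N9466 D11068
theorem N10972 : nd 10972 = n11069 := ndS (p := 9466) (l := 4) rfl N9466 D11069
theorem N10973 : nd 10973 = n11070 := ndS (p := 9467) (l := 2) rfl N9467 D11070
theorem N10974 : nd 10974 = n11071 := ndS (p := 9474) (l := 2) rfl N9474 D11071
theorem N10975 : nd 10975 = n11072 := ndS (p := 9474) (l := 5) rfl N9474 D11072
theorem N10976 : nd 10976 = n11073 := ndS (p := 9474) (l := 7) rfl N9474 D11073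
theorem N10977 : nd 10977 = n11074 := ndS (p := 9477) (l := 2) rfl N9477 D11074
theorem N10978 : nd 10978 = n11075 := ndS (p := 9480) (l := 2) rfl N9480 D11075
theorem N10979 : nd 10979 = n11076 := ndS (p := 9480) (l := 5) rfl N9480 D11076
theorem N10980 : nd 10980 = n11077 := ndS (p := 9480) (l := 7) rfl N9480 D11077
theorem N10981 : nd 10981 = n11078 := ndS (p := 9483) (l := 3) rfl N9483 D11078
theorem N10982 : nd 10982 = n11079 := ndS (p := 9483) (l := 5) rfl N9483 D11079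
theorem N10983 : nd 10983 = n11080 := ndS (p := 9485) (l := 2) rfl N9485 D11080
theorem N10984 : nd 10984 = n11081 := ndS (p := 9485) (l := 5) rfl N9485 D11081
theorem N10985 : nd 10985 = n11082 := ndS (p := 9486) (l := 6) rfl N9486 D11082
theorem N10986 : nd 10986 = n11083 := ndS (p := 9491) (l := 6) rfl N9491 D11083
theorem N10987 : nd 10987 = n11084 := ndS (p := 9495) (l := 5) rfl N9495 D11084
theorem N10988 : nd 10988 = n11085 := ndS (p := 9496) (l := 5) rfl N9496 D11085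
theorem N10989 : nd 10989 = n11086 := ndS (p := 9497) (l := 6) rfl N9497 D11086
theorem N10990 : nd 10990 = n11087 := ndS (p := 9498) (l := 7) rfl N9498 D11087
theorem N10991 : nd 10991 = n11088 := ndS (p := 9506) (l := 6) rfl N9506 D11088
theorem N10992 : nd 10992 = n11089 := ndS (p := 9508) (l := 4) rfl N9508 D11089
theorem N10993 : nd 10993 = n11090 := ndS (p := 9511) (l := 6) rfl N9511 D11090
theorem N10994 : nd 10994 = n11091 := ndS (p := 9512) (l := 5) rfl N9512 D11091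
theorem N10995 : nd 10995 = n11092 := ndS (p := 9515) (l := 5) rfl N9515 D11092
theorem N10996 : nd 10996 = n11093 := ndS (p := 9516) (l := 5) rfl N9516 D11093
theorem N10997 : nd 10997 = n11094 := ndS (p := 9517) (l := 6) rfl N9517 D11094
theorem N10998 : nd 10998 = n11095 := ndS (p := 9519) (l := 3) rfl N9519 D11095
theorem N10999 : nd 10999 = n11096 := ndS (p := 9521) (l := 6) rfl N9521 D11096
theorem N11000 : nd 11000 = n11097 := ndS (p := 9522) (l := 6) rfl N9522 D11097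
theorem N11001 : nd 11001 = n11098 := ndS (p := 9523) (l := 7) rfl N9523 D11098
theorem N11002 : nd 11002 = n11099 := ndS (p := 9526) (l := 4) rfl N9526 D11099
theorem N11003 : nd 11003 = n11100 := ndS (p := 9526) (l := 5) rfl N9526 D11100
theorem N11004 : nd 11004 = n11101 := ndS (p := 9532) (l := 5) rfl N9532 D11101
theorem N11005 : nd 11005 = n11102 := ndS (p := 9534) (l := 5) rfl N9534 D11102
theorem N11006 : nd 11006 = n11103 := ndS (p := 9535) (l := 6) rfl N9535 D11103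
theorem N11007 : nd 11007 = n11104 := ndS (p := 9536) (l := 5) rfl N9536 D11104
theorem N11008 : nd 11008 = n11105 := ndS (p := 9537) (l := 1) rfl N9537 D11105
theorem N11009 : nd 11009 = n11106 := ndS (p := 9540) (l := 0) rfl N9540 D11106
theorem N11010 : nd 11010 = n11107 := ndS (p := 9540) (l := 4) rfl N9540 D11107
theorem N11011 : nd 11011 = n11108 := ndS (p := 9540) (l := 5) rfl N9540 D11108
theorem N11012 : nd 11012 = n11109 := ndS (p := 9541) (l := 3) rfl N9541 D11109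
theorem N11013 : nd 11013 = n11110 := ndS (p := 9543) (l := 5) rfl N9543 D11110
theorem N11014 : nd 11014 = n11111 := ndS (p := 9546) (l := 5) rfl N9546 D11111
theorem N11015 : nd 11015 = n11112 := ndS (p := 9547) (l := 5) rfl N9547 D11112
theorem N11016 : nd 11016 = n11113 := ndS (p := 9548) (l := 6) rfl N9548 D11113
theorem N11017 : nd 11017 = n11114 := ndS (p := 9549) (l := 5) rfl N9549 D11114
theorem N11018 : nd 11018 = n11115 := ndS (p := 9550) (l := 5) rfl N9550 D11115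
theorem N11019 : nd 11019 = n11116 := ndS (p := 9551) (l := 6) rfl N9551 D11116
theorem N11020 : nd 11020 = n11117 := ndS (p := 9557) (l := 7) rfl N9557 D11117
theorem N11021 : nd 11021 = n11118 := ndS (p := 9558) (l := 5) rfl N9558 D11118
theorem N11022 : nd 11022 = n11119 := ndS (p := 9560) (l := 7) rfl N9560 D11119
theorem N11023 : nd 11023 = n11120 := ndS (p := 9561) (l := 5) rfl N9561 D11120
theorem N11024 : nd 11024 = n11121 := ndS (p := 9562) (l := 6) rfl N9562 D11121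
theorem N11025 : nd 11025 = n11122 := ndS (p := 9563) (l := 7) rfl N9563 D11122
theorem N11026 : nd 11026 = n11123 := ndS (p := 9564) (l := 3) rfl N9564 D11123
theorem N11027 : nd 11027 = n11124 := ndS (p := 9567) (l := 1) rfl N9567 D11124
theorem N11028 : nd 11028 = n11125 := ndS (p := 9569) (l := 0) rfl N9569 D11125
theorem N11029 : nd 11029 = n11126 := ndS (p := 9569) (l := 4) rfl N9569 D11126
theorem N11030 : nd 11030 = n11127 := ndS (p := 9570) (l := 3) rfl N9570 D11127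
theorem N11031 : nd 11031 = n11128 := ndS (p := 9574) (l := 0) rfl N9574 D11128
theorem N11032 : nd 11032 = n11129 := ndS (p := 9576) (l := 6) rfl N9576 D11129
theorem N11033 : nd 11033 = n11130 := ndS (p := 9577) (l := 5) rfl N9577 D11130
theorem N11034 : nd 11034 = n11131 := ndS (p := 9587) (l := 3) rfl N9587 D11131
theorem N11035 : nd 11035 = n11132 := ndS (p := 9596) (l := 5) rfl N9596 D11132
theorem N11036 : nd 11036 = n11133 := ndS (p := 9597) (l := 1) rfl N9597 D11133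
theorem N11037 : nd 11037 = n11134 := ndS (p := 9597) (l := 6) rfl N9597 D11134
theorem N11038 : nd 11038 = n11135 := ndS (p := 9598) (l := 5) rfl N9598 D11135
theorem N11039 : nd 11039 = n11136 := ndS (p := 9599) (l := 1) rfl N9599 D11136
theorem N11040 : nd 11040 = n11137 := ndS (p := 9600) (l := 5) rfl N9600 D11137
theorem N11041 : nd 11041 = n11138 := ndS (p := 9601) (l := 5) rfl N9601 D11138
theorem N11042 : nd 11042 = n11139 := ndS (p := 9602) (l := 1) rfl N9602 D11139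
theorem N11043 : nd 11043 = n11140 := ndS (p := 9603) (l := 6) rfl N9603 D11140
theorem N11044 : nd 11044 = n11141 := ndS (p := 9604) (l := 5) rfl N9604 D11141
theorem N11045 : nd 11045 = n11142 := ndS (p := 9604) (l := 7) rfl N9604 D11142
theorem N11046 : nd 11046 = n11143 := ndS (p := 9605) (l := 5) rfl N9605 D11143
theorem N11047 : nd 11047 = n11144 := ndS (p := 9606) (l := 1) rfl N9606 D11144
theorem N11048 : nd 11048 = n11145 := ndS (p := 9606) (l := 7) rfl N9606 D11145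
theorem N11049 : nd 11049 = n11146 := ndS (p := 9608) (l := 0) rfl N9608 D11146
theorem N11050 : nd 11050 = n11147 := ndS (p := 9608) (l := 2) rfl N9608 D11147
theorem N11051 : nd 11051 = n11148 := ndS (p := 9609) (l := 6) rfl N9609 D11148
theorem N11052 : nd 11052 = n11149 := ndS (p := 9610) (l := 5) rfl N9610 D11149
theorem N11053 : nd 11053 = n11150 := ndS (p := 9610) (l := 7) rfl N9610 D11150
theorem N11054 : nd 11054 = n11151 := ndS (p := 9613) (l := 3) rfl N9613 D11151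
theorem N11055 : nd 11055 = n11152 := ndS (p := 9613) (l := 6) rfl N9613 D11152
theorem N11056 : nd 11056 = n11153 := ndS (p := 9614) (l := 5) rfl N9614 D11153
theorem N11057 : nd 11057 = n11154 := ndS (p := 9615) (l := 5) rfl N9615 D11154
theorem N11058 : nd 11058 = n11155 := ndS (p := 9616) (l := 1) rfl N9616 D11155
theorem N11059 : nd 11059 = n11156 := ndS (p := 9619) (l := 6) rfl N9619 D11156
theorem N11060 : nd 11060 = n11157 := ndS (p := 9620) (l := 5) rfl N9620 D11157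
theorem N11061 : nd 11061 = n11158 := ndS (p := 9621) (l := 1) rfl N9621 D11158
theorem N11062 : nd 11062 = n11159 := ndS (p := 9623) (l := 3) rfl N9623 D11159
theorem N11063 : nd 11063 = n11160 := ndS (p := 9629) (l := 6) rfl N9629 D11160
theorem N11064 : nd 11064 = n11161 := ndS (p := 9633) (l := 4) rfl N9633 D11161
theorem N11065 : nd 11065 = n11162 := ndS (p := 9634) (l := 2) rfl N9634 D11162
theorem N11066 : nd 11066 = n11163 := ndS (p := 9634) (l := 6) rfl N9634 D11163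
theorem N11067 : nd 11067 = n11164 := ndS (p := 9637) (l := 4) rfl N9637 D11164
theorem N11068 : nd 11068 = n11165 := ndS (p := 9638) (l := 5) rfl N9638 D11165
theorem N11069 : nd 11069 = n11166 := ndS (p := 9639) (l := 1) rfl N9639 D11166
theorem N11070 : nd 11070 = n11167 := ndS (p := 9641) (l := 0) rfl N9641 D11167
theorem N11071 : nd 11071 = n11168 := ndS (p := 9641) (l := 2) rfl N9641 D11168
theorem N11072 : nd 11072 = n11169 := ndS (p := 9642) (l := 1) rfl N9642 D11169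
theorem N11073 : nd 11073 = n11170 := ndS (p := 9643) (l := 0) rfl N9643 D11170
theorem N11074 : nd 11074 = n11171 := ndS (p := 9643) (l := 2) rfl N9643 D11171
theorem N11075 : nd 11075 = n11172 := ndS (p := 9644) (l := 2) rfl N9644 D11172
theorem N11076 : nd 11076 = n11173 := ndS (p := 9646) (l := 2) rfl N9646 D11173
theorem N11077 : nd 11077 = n11174 := ndS (p := 9647) (l := 3) rfl N9647 D11174
theorem N11078 : nd 11078 = n11175 := ndS (p := 9648) (l := 7) rfl N9648 D11175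
theorem N11079 : nd 11079 = n11176 := ndS (p := 9650) (l := 3) rfl N9650 D11176
theorem N11080 : nd 11080 = n11177 := ndS (p := 9651) (l := 3) rfl N9651 D11177
theorem N11081 : nd 11081 = n11178 := ndS (p := 9652) (l := 4) rfl N9652 D11178
theorem N11082 : nd 11082 = n11179 := ndS (p := 9652) (l := 7) rfl N9652 D11179
theorem N11083 : nd 11083 = n11180 := ndS (p := 9653) (l := 1) rfl N9653 D11180
theorem N11084 : nd 11084 = n11181 := ndS (p := 9653) (l := 7) rfl N9653 D11181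
theorem N11085 : nd 11085 = n11182 := ndS (p := 9655) (l := 6) rfl N9655 D11182
theorem N11086 : nd 11086 = n11183 := ndS (p := 9657) (l := 5) rfl N9657 D11183
theorem N11087 : nd 11087 = n11184 := ndS (p := 9657) (l := 7) rfl N9657 D11184
theorem N11088 : nd 11088 = n11185 := ndS (p := 9659) (l := 7) rfl N9659 D11185
theorem N11089 : nd 11089 = n11186 := ndS (p := 9660) (l := 3) rfl N9660 D11186
theorem N11090 : nd 11090 = n11187 := ndS (p := 9661) (l := 7) rfl N9661 D11187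
theorem N11091 : nd 11091 = n11188 := ndS (p := 9663) (l := 7) rfl N9663 D11188
theorem N11092 : nd 11092 = n11189 := ndS (p := 9664) (l := 3) rfl N9664 D11189
theorem N11093 : nd 11093 = n11190 := ndS (p := 9666) (l := 7) rfl N9666 D11190
theorem N11094 : nd 11094 = n11191 := ndS (p := 9667) (l := 3) rfl N9667 D11191
theorem N11095 : nd 11095 = n11192 := ndS (p := 9667) (l := 6) rfl N9667 D11192
theorem N11096 : nd 11096 = n11193 := ndS (p := 9668) (l := 4) rfl N9668 D11193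
theorem N11097 : nd 11097 = n11194 := ndS (p := 9670) (l := 6) rfl N9670 D11194
theorem N11098 : nd 11098 = n11195 := ndS (p := 9672) (l := 5) rfl N9672 D11195
theorem N11099 : nd 11099 = n11196 := ndS (p := 9674) (l := 1) rfl N9674 D11196
theorem N11100 : nd 11100 = n11197 := ndS (p := 9675) (l := 1) rfl N9675 D11197
theorem N11101 : nd 11101 = n11198 := ndS (p := 9675) (l := 7) rfl N9675 D11198
theorem N11102 : nd 11102 = n11199 := ndS (p := 9676) (l := 3) rfl N9676 D11199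
theorem N11103 : nd 11103 = n11200 := ndS (p := 9677) (l := 0) rfl N9677 D11200
theorem N11104 : nd 11104 = n11201 := ndS (p := 9678) (l := 3) rfl N9678 D11201
theorem N11105 : nd 11105 = n11202 := ndS (p := 9678) (l := 6) rfl N9678 D11202
theorem N11106 : nd 11106 = n11203 := ndS (p := 9679) (l := 4) rfl N9679 D11203
theorem N11107 : nd 11107 = n11204 := ndS (p := 9681) (l := 3) rfl N9681 D11204
theorem N11108 : nd 11108 = n11205 := ndS (p := 9683) (l := 3) rfl N9683 D11205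
theorem N11109 : nd 11109 = n11206 := ndS (p := 9683) (l := 6) rfl N9683 D11206
theorem N11110 : nd 11110 = n11207 := ndS (p := 9684) (l := 6) rfl N9684 D11207
theorem N11111 : nd 11111 = n11208 := ndS (p := 9685) (l := 5) rfl N9685 D11208
theorem N11112 : nd 11112 = n11209 := ndS (p := 9686) (l := 2) rfl N9686 D11209
theorem N11113 : nd 11113 = n11210 := ndS (p := 9686) (l := 4) rfl N9686 D11210
theorem N11114 : nd 11114 = n11211 := ndS (p := 9686) (l := 6) rfl N9686 D11211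
theorem N11115 : nd 11115 = n11212 := ndS (p := 9687) (l := 5) rfl N9687 D11212
theorem N11116 : nd 11116 = n11213 := ndS (p := 9688) (l := 5) rfl N9688 D11213
theorem N11117 : nd 11117 = n11214 := ndS (p := 9688) (l := 7) rfl N9688 D11214
theorem N11118 : nd 11118 = n11215 := ndS (p := 9689) (l := 1) rfl N9689 D11215
theorem N11119 : nd 11119 = n11216 := ndS (p := 9690) (l := 5) rfl N9690 D11216
theorem N11120 : nd 11120 = n11217 := ndS (p := 9691) (l := 5) rfl N9691 D11217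
theorem N11121 : nd 11121 = n11218 := ndS (p := 9692) (l := 1) rfl N9692 D11218
theorem N11122 : nd 11122 = n11219 := ndS (p := 9692) (l := 7) rfl N9692 D11219
theorem N11123 : nd 11123 = n11220 := ndS (p := 9694) (l := 0) rfl N9694 D11220
theorem N11124 : nd 11124 = n11221 := ndS (p := 9694) (l := 2) rfl N9694 D11221
theorem N11125 : nd 11125 = n11222 := ndS (p := 9695) (l := 3) rfl N9695 D11222
theorem N11126 : nd 11126 = n11223 := ndS (p := 9696) (l := 2) rfl N9696 D11223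
theorem N11127 : nd 11127 = n11224 := ndS (p := 9696) (l := 4) rfl N9696 D11224
theorem N11128 : nd 11128 = n11225 := ndS (p := 9696) (l := 6) rfl N9696 D11225
theorem N11129 : nd 11129 = n11226 := ndS (p := 9698) (l := 1) rfl N9698 D11226
theorem N11130 : nd 11130 = n11227 := ndS (p := 9699) (l := 6) rfl N9699 D11227
theorem N11131 : nd 11131 = n11228 := ndS (p := 9700) (l := 5) rfl N9700 D11228
theorem N11132 : nd 11132 = n11229 := ndS (p := 9700) (l := 7) rfl N9700 D11229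
theorem N11133 : nd 11133 = n11230 := ndS (p := 9701) (l := 1) rfl N9701 D11230
theorem N11134 : nd 11134 = n11231 := ndS (p := 9702) (l := 5) rfl N9702 D11231
theorem N11135 : nd 11135 = n11232 := ndS (p := 9702) (l := 7) rfl N9702 D11232
theorem N11136 : nd 11136 = n11233 := ndS (p := 9703) (l := 1) rfl N9703 D11233
theorem N11137 : nd 11137 = n11234 := ndS (p := 9703) (l := 7) rfl N9703 D11234
theorem N11138 : nd 11138 = n11235 := ndS (p := 9707) (l := 7) rfl N9707 D11235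
theorem N11139 : nd 11139 = n11236 := ndS (p := 9708) (l := 3) rfl N9708 D11236
theorem N11140 : nd 11140 = n11237 := ndS (p := 9713) (l := 3) rfl N9713 D11237
theorem N11141 : nd 11141 = n11238 := ndS (p := 9715) (l := 5) rfl N9715 D11238
theorem N11142 : nd 11142 = n11239 := ndS (p := 9716) (l := 1) rfl N9716 D11239
theorem N11143 : nd 11143 = n11240 := ndS (p := 9717) (l := 6) rfl N9717 D11240
theorem N11144 : nd 11144 = n11241 := ndS (p := 9718) (l := 5) rfl N9718 D11241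
theorem N11145 : nd 11145 = n11242 := ndS (p := 9719) (l := 5) rfl N9719 D11242
theorem N11146 : nd 11146 = n11243 := ndS (p := 9720) (l := 1) rfl N9720 D11243
theorem N11147 : nd 11147 = n11244 := ndS (p := 9720) (l := 7) rfl N9720 D11244
theorem N11148 : nd 11148 = n11245 := ndS (p := 9723) (l := 6) rfl N9723 D11245
theorem N11149 : nd 11149 = n11246 := ndS (p := 9724) (l := 5) rfl N9724 D11246
theorem N11150 : nd 11150 = n11247 := ndS (p := 9725) (l := 1) rfl N9725 D11247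
theorem N11151 : nd 11151 = n11248 := ndS (p := 9727) (l := 0) rfl N9727 D11248
theorem N11152 : nd 11152 = n11249 := ndS (p := 9727) (l := 2) rfl N9727 D11249
theorem N11153 : nd 11153 = n11250 := ndS (p := 9728) (l := 6) rfl N9728 D11250
theorem N11154 : nd 11154 = n11251 := ndS (p := 9730) (l := 3) rfl N9730 D11251
theorem N11155 : nd 11155 = n11252 := ndS (p := 9731) (l := 0) rfl N9731 D11252
theorem N11156 : nd 11156 = n11253 := ndS (p := 9731) (l := 2) rfl N9731 D11253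
theorem N11157 : nd 11157 = n11254 := ndS (p := 9732) (l := 5) rfl N9732 D11254
theorem N11158 : nd 11158 = n11255 := ndS (p := 9735) (l := 2) rfl N9735 D11255
theorem N11159 : nd 11159 = n11256 := ndS (p := 9737) (l := 3) rfl N9737 D11256
theorem N11160 : nd 11160 = n11257 := ndS (p := 9739) (l := 5) rfl N9739 D11257
theorem N11161 : nd 11161 = n11258 := ndS (p := 9739) (l := 7) rfl N9739 D11258
theorem N11162 : nd 11162 = n11259 := ndS (p := 9740) (l := 1) rfl N9740 D11259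
theorem N11163 : nd 11163 = n11260 := ndS (p := 9741) (l := 2) rfl N9741 D11260
theorem N11164 : nd 11164 = n11261 := ndS (p := 9741) (l := 7) rfl N9741 D11261
theorem N11165 : nd 11165 = n11262 := ndS (p := 9742) (l := 3) rfl N9742 D11262
theorem N11166 : nd 11166 = n11263 := ndS (p := 9743) (l := 4) rfl N9743 D11263
theorem N11167 : nd 11167 = n11264 := ndS (p := 9744) (l := 3) rfl N9744 D11264
theorem N11168 : nd 11168 = n11265 := ndS (p := 9745) (l := 3) rfl N9745 D11265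
theorem N11169 : nd 11169 = n11266 := ndS (p := 9746) (l := 4) rfl N9746 D11266
theorem N11170 : nd 11170 = n11267 := ndS (p := 9746) (l := 7) rfl N9746 D11267
theorem N11171 : nd 11171 = n11268 := ndS (p := 9747) (l := 5) rfl N9747 D11268
theorem N11172 : nd 11172 = n11269 := ndS (p := 9748) (l := 1) rfl N9748 D11269
theorem N11173 : nd 11173 = n11270 := ndS (p := 9748) (l := 7) rfl N9748 D11270
theorem N11174 : nd 11174 = n11271 := ndS (p := 9749) (l := 3) rfl N9749 D11271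
theorem N11175 : nd 11175 = n11272 := ndS (p := 9751) (l := 7) rfl N9751 D11272
theorem N11176 : nd 11176 = n11273 := ndS (p := 9753) (l := 3) rfl N9753 D11273
theorem N11177 : nd 11177 = n11274 := ndS (p := 9753) (l := 6) rfl N9753 D11274
theorem N11178 : nd 11178 = n11275 := ndS (p := 9754) (l := 2) rfl N9754 D11275
theorem N11179 : nd 11179 = n11276 := ndS (p := 9754) (l := 4) rfl N9754 D11276
theorem N11180 : nd 11180 = n11277 := ndS (p := 9755) (l := 3) rfl N9755 D11277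
theorem N11181 : nd 11181 = n11278 := ndS (p := 9756) (l := 4) rfl N9756 D11278
theorem N11182 : nd 11182 = n11279 := ndS (p := 9759) (l := 3) rfl N9759 D11279
theorem N11183 : nd 11183 = n11280 := ndS (p := 9760) (l := 3) rfl N9760 D11280
theorem N11184 : nd 11184 = n11281 := ndS (p := 9761) (l := 4) rfl N9761 D11281
theorem N11185 : nd 11185 = n11282 := ndS (p := 9761) (l := 7) rfl N9761 D11282
theorem N11186 : nd 11186 = n11283 := ndS (p := 9762) (l := 4) rfl N9762 D11283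
theorem N11187 : nd 11187 = n11284 := ndS (p := 9764) (l := 7) rfl N9764 D11284
theorem N11188 : nd 11188 = n11285 := ndS (p := 9765) (l := 7) rfl N9765 D11285
theorem N11189 : nd 11189 = n11286 := ndS (p := 9767) (l := 5) rfl N9767 D11286
theorem N11190 : nd 11190 = n11287 := ndS (p := 9768) (l := 5) rfl N9768 D11287
theorem N11191 : nd 11191 = n11288 := ndS (p := 9770) (l := 1) rfl N9770 D11288
theorem N11192 : nd 11192 = n11289 := ndS (p := 9771) (l := 2) rfl N9771 D11289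
theorem N11193 : nd 11193 = n11290 := ndS (p := 9772) (l := 6) rfl N9772 D11290
theorem N11194 : nd 11194 = n11291 := ndS (p := 9774) (l := 7) rfl N9774 D11291
theorem N11195 : nd 11195 = n11292 := ndS (p := 9775) (l := 3) rfl N9775 D11292
theorem N11196 : nd 11196 = n11293 := ndS (p := 9776) (l := 7) rfl N9776 D11293
theorem N11197 : nd 11197 = n11294 := ndS (p := 9777) (l := 6) rfl N9777 D11294
theorem N11198 : nd 11198 = n11295 := ndS (p := 9778) (l := 2) rfl N9778 D11295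
theorem N11199 : nd 11199 = n11296 := ndS (p := 9782) (l := 5) rfl N9782 D11296
theorem N11200 : nd 11200 = n11297 := ndS (p := 9783) (l := 1) rfl N9783 D11297
theorem N11201 : nd 11201 = n11298 := ndS (p := 9785) (l := 2) rfl N9785 D11298
theorem N11202 : nd 11202 = n11299 := ndS (p := 9786) (l := 2) rfl N9786 D11299
theorem N11203 : nd 11203 = n11300 := ndS (p := 9788) (l := 3) rfl N9788 D11300
theorem N11204 : nd 11204 = n11301 := ndS (p := 9789) (l := 1) rfl N9789 D11301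
theorem N11205 : nd 11205 = n11302 := ndS (p := 9789) (l := 7) rfl N9789 D11302
theorem N11206 : nd 11206 = n11303 := ndS (p := 9791) (l := 1) rfl N9791 D11303
theorem N11207 : nd 11207 = n11304 := ndS (p := 9792) (l := 2) rfl N9792 D11304
theorem N11208 : nd 11208 = n11305 := ndS (p := 9793) (l := 6) rfl N9793 D11305
theorem N11209 : nd 11209 = n11306 := ndS (p := 9797) (l := 2) rfl N9797 D11306
theorem N11210 : nd 11210 = n11307 := ndS (p := 9798) (l := 7) rfl N9798 D11307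
theorem N11211 : nd 11211 = n11308 := ndS (p := 9799) (l := 3) rfl N9799 D11308
theorem N11212 : nd 11212 = n11309 := ndS (p := 9800) (l := 4) rfl N9800 D11309
theorem N11213 : nd 11213 = n11310 := ndS (p := 9800) (l := 6) rfl N9800 D11310
theorem N11214 : nd 11214 = n11311 := ndS (p := 9803) (l := 1) rfl N9803 D11311
theorem N11215 : nd 11215 = n11312 := ndS (p := 9804) (l := 3) rfl N9804 D11312
theorem N11216 : nd 11216 = n11313 := ndS (p := 9806) (l := 1) rfl N9806 D11313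
theorem N11217 : nd 11217 = n11314 := ndS (p := 9808) (l := 3) rfl N9808 D11314
theorem N11218 : nd 11218 = n11315 := ndS (p := 9809) (l := 4) rfl N9809 D11315
theorem N11219 : nd 11219 = n11316 := ndS (p := 9811) (l := 6) rfl N9811 D11316
theorem N11220 : nd 11220 = n11317 := ndS (p := 9817) (l := 3) rfl N9817 D11317
theorem N11221 : nd 11221 = n11318 := ndS (p := 9818) (l := 1) rfl N9818 D11318
theorem N11222 : nd 11222 = n11319 := ndS (p := 9821) (l := 2) rfl N9821 D11319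
theorem N11223 : nd 11223 = n11320 := ndS (p := 9822) (l := 3) rfl N9822 D11320
theorem N11224 : nd 11224 = n11321 := ndS (p := 9823) (l := 4) rfl N9823 D11321
theorem N11225 : nd 11225 = n11322 := ndS (p := 9824) (l := 7) rfl N9824 D11322
theorem N11226 : nd 11226 = n11323 := ndS (p := 9825) (l := 6) rfl N9825 D11323
theorem N11227 : nd 11227 = n11324 := ndS (p := 9827) (l := 3) rfl N9827 D11324
theorem N11228 : nd 11228 = n11325 := ndS (p := 9829) (l := 2) rfl N9829 D11325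
theorem N11229 : nd 11229 = n11326 := ndS (p := 9830) (l := 3) rfl N9830 D11326
theorem N11230 : nd 11230 = n11327 := ndS (p := 9830) (l := 6) rfl N9830 D11327
theorem N11231 : nd 11231 = n11328 := ndS (p := 9832) (l := 3) rfl N9832 D11328
theorem N11232 : nd 11232 = n11329 := ndS (p := 9833) (l := 4) rfl N9833 D11329
theorem N11233 : nd 11233 = n11330 := ndS (p := 9833) (l := 7) rfl N9833 D11330
theorem N11234 : nd 11234 = n11331 := ndS (p := 9834) (l := 0) rfl N9834 D11331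
theorem N11235 : nd 11235 = n11332 := ndS (p := 9834) (l := 2) rfl N9834 D11332
theorem N11236 : nd 11236 = n11333 := ndS (p := 9835) (l := 3) rfl N9835 D11333
theorem N11237 : nd 11237 = n11334 := ndS (p := 9835) (l := 6) rfl N9835 D11334
theorem N11238 : nd 11238 = n11335 := ndS (p := 9837) (l := 3) rfl N9837 D11335
theorem N11239 : nd 11239 = n11336 := ndS (p := 9839) (l := 4) rfl N9839 D11336
theorem N11240 : nd 11240 = n11337 := ndS (p := 9841) (l := 3) rfl N9841 D11337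
theorem N11241 : nd 11241 = n11338 := ndS (p := 9841) (l := 6) rfl N9841 D11338
theorem N11242 : nd 11242 = n11339 := ndS (p := 9843) (l := 7) rfl N9843 D11339
theorem N11243 : nd 11243 = n11340 := ndS (p := 9845) (l := 7) rfl N9845 D11340
theorem N11244 : nd 11244 = n11341 := ndS (p := 9847) (l := 0) rfl N9847 D11341
theorem N11245 : nd 11245 = n11342 := ndS (p := 9847) (l := 7) rfl N9847 D11342
theorem N11246 : nd 11246 = n11343 := ndS (p := 9848) (l := 6) rfl N9848 D11343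
theorem N11247 : nd 11247 = n11344 := ndS (p := 9849) (l := 2) rfl N9849 D11344
theorem N11248 : nd 11248 = n11345 := ndS (p := 9849) (l := 4) rfl N9849 D11345
theorem N11249 : nd 11249 = n11346 := ndS (p := 9849) (l := 6) rfl N9849 D11346
theorem N11250 : nd 11250 = n11347 := ndS (p := 9851) (l := 1) rfl N9851 D11347
theorem N11251 : nd 11251 = n11348 := ndS (p := 9851) (l := 4) rfl N9851 D11348
theorem N11252 : nd 11252 = n11349 := ndS (p := 9855) (l := 2) rfl N9855 D11349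
theorem N11253 : nd 11253 = n11350 := ndS (p := 9855) (l := 7) rfl N9855 D11350
theorem N11254 : nd 11254 = n11351 := ndS (p := 9856) (l := 7) rfl N9856 D11351
theorem N11255 : nd 11255 = n11352 := ndS (p := 9857) (l := 3) rfl N9857 D11352
theorem N11256 : nd 11256 = n11353 := ndS (p := 9857) (l := 6) rfl N9857 D11353
theorem N11257 : nd 11257 = n11354 := ndS (p := 9858) (l := 2) rfl N9858 D11354
theorem N11258 : nd 11258 = n11355 := ndS (p := 9858) (l := 4) rfl N9858 D11355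
theorem N11259 : nd 11259 = n11356 := ndS (p := 9858) (l := 6) rfl N9858 D11356
theorem N11260 : nd 11260 = n11357 := ndS (p := 9860) (l := 1) rfl N9860 D11357
theorem N11261 : nd 11261 = n11358 := ndS (p := 9860) (l := 4) rfl N9860 D11358
theorem N11262 : nd 11262 = n11359 := ndS (p := 9862) (l := 3) rfl N9862 D11359
theorem N11263 : nd 11263 = n11360 := ndS (p := 9870) (l := 4) rfl N9870 D11360
theorem N11264 : nd 11264 = n11361 := ndS (p := 9871) (l := 0) rfl N9871 D11361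
theorem N11265 : nd 11265 = n11362 := ndS (p := 9871) (l := 2) rfl N9871 D11362
theorem N11266 : nd 11266 = n11363 := ndS (p := 9873) (l := 2) rfl N9873 D11363
theorem N11267 : nd 11267 = n11364 := ndS (p := 9874) (l := 3) rfl N9874 D11364
theorem N11268 : nd 11268 = n11365 := ndS (p := 9880) (l := 7) rfl N9880 D11365
theorem N11269 : nd 11269 = n11366 := ndS (p := 9881) (l := 7) rfl N9881 D11366
theorem N11270 : nd 11270 = n11367 := ndS (p := 9882) (l := 3) rfl N9882 D11367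
theorem N11271 : nd 11271 = n11368 := ndS (p := 9884) (l := 5) rfl N9884 D11368
theorem N11272 : nd 11272 = n11369 := ndS (p := 9885) (l := 7) rfl N9885 D11369
theorem N11273 : nd 11273 = n11370 := ndS (p := 9886) (l := 3) rfl N9886 D11370
theorem N11274 : nd 11274 = n11371 := ndS (p := 9887) (l := 3) rfl N9887 D11371
theorem N11275 : nd 11275 = n11372 := ndS (p := 9887) (l := 6) rfl N9887 D11372
theorem N11276 : nd 11276 = n11373 := ndS (p := 9888) (l := 2) rfl N9888 D11373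
theorem N11277 : nd 11277 = n11374 := ndS (p := 9888) (l := 4) rfl N9888 D11374
theorem N11278 : nd 11278 = n11375 := ndS (p := 9891) (l := 5) rfl N9891 D11375
theorem N11279 : nd 11279 = n11376 := ndS (p := 9894) (l := 7) rfl N9894 D11376
theorem N11280 : nd 11280 = n11377 := ndS (p := 9896) (l := 3) rfl N9896 D11377
theorem N11281 : nd 11281 = n11378 := ndS (p := 9897) (l := 7) rfl N9897 D11378
theorem N11282 : nd 11282 = n11379 := ndS (p := 9898) (l := 3) rfl N9898 D11379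
theorem N11283 : nd 11283 = n11380 := ndS (p := 9899) (l := 4) rfl N9899 D11380
theorem N11284 : nd 11284 = n11381 := ndS (p := 9900) (l := 2) rfl N9900 D11381
theorem N11285 : nd 11285 = n11382 := ndS (p := 9901) (l := 3) rfl N9901 D11382
theorem N11286 : nd 11286 = n11383 := ndS (p := 9903) (l := 1) rfl N9903 D11383
theorem N11287 : nd 11287 = n11384 := ndS (p := 9904) (l := 2) rfl N9904 D11384
theorem N11288 : nd 11288 = n11385 := ndS (p := 9905) (l := 3) rfl N9905 D11385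
theorem N11289 : nd 11289 = n11386 := ndS (p := 9906) (l := 4) rfl N9906 D11386
theorem N11290 : nd 11290 = n11387 := ndS (p := 9906) (l := 7) rfl N9906 D11387
theorem N11291 : nd 11291 = n11388 := ndS (p := 9908) (l := 2) rfl N9908 D11388
theorem N11292 : nd 11292 = n11389 := ndS (p := 9909) (l := 6) rfl N9909 D11389
theorem N11293 : nd 11293 = n11390 := ndS (p := 9910) (l := 3) rfl N9910 D11390
theorem N11294 : nd 11294 = n11391 := ndS (p := 9911) (l := 4) rfl N9911 D11391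
theorem N11295 : nd 11295 = n11392 := ndS (p := 9911) (l := 7) rfl N9911 D11392
theorem N11296 : nd 11296 = n11393 := ndS (p := 9912) (l := 3) rfl N9912 D11393
theorem N11297 : nd 11297 = n11394 := ndS (p := 9913) (l := 4) rfl N9913 D11394
theorem N11298 : nd 11298 = n11395 := ndS (p := 9913) (l := 7) rfl N9913 D11395
theorem N11299 : nd 11299 = n11396 := ndS (p := 9914) (l := 7) rfl N9914 D11396
theorem N11300 : nd 11300 = n11397 := ndS (p := 9915) (l := 6) rfl N9915 D11397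
theorem N11301 : nd 11301 = n11398 := ndS (p := 9916) (l := 6) rfl N9916 D11398
theorem N11302 : nd 11302 = n11399 := ndS (p := 9917) (l := 3) rfl N9917 D11399
theorem N11303 : nd 11303 = n11400 := ndS (p := 9917) (l := 6) rfl N9917 D11400
theorem N11304 : nd 11304 = n11401 := ndS (p := 9918) (l := 4) rfl N9918 D11401
theorem N11305 : nd 11305 = n11402 := ndS (p := 9920) (l := 3) rfl N9920 D11402
theorem N11306 : nd 11306 = n11403 := ndS (p := 9921) (l := 3) rfl N9921 D11403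
theorem N11307 : nd 11307 = n11404 := ndS (p := 9922) (l := 2) rfl N9922 D11404
theorem N11308 : nd 11308 = n11405 := ndS (p := 9922) (l := 4) rfl N9922 D11405
theorem N11309 : nd 11309 = n11406 := ndS (p := 9923) (l := 2) rfl N9923 D11406
theorem N11310 : nd 11310 = n11407 := ndS (p := 9923) (l := 4) rfl N9923 D11407
theorem N11311 : nd 11311 = n11408 := ndS (p := 9924) (l := 2) rfl N9924 D11408
theorem N11312 : nd 11312 = n11409 := ndS (p := 9924) (l := 4) rfl N9924 D11409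
theorem N11313 : nd 11313 = n11410 := ndS (p := 9924) (l := 6) rfl N9924 D11410
theorem N11314 : nd 11314 = n11411 := ndS (p := 9926) (l := 4) rfl N9926 D11411
theorem N11315 : nd 11315 = n11412 := ndS (p := 9934) (l := 5) rfl N9934 D11412
theorem N11316 : nd 11316 = n11413 := ndS (p := 9936) (l := 3) rfl N9936 D11413
theorem N11317 : nd 11317 = n11414 := ndS (p := 9938) (l := 3) rfl N9938 D11414
theorem N11318 : nd 11318 = n11415 := ndS (p := 9939) (l := 4) rfl N9939 D11415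
theorem N11319 : nd 11319 = n11416 := ndS (p := 9941) (l := 5) rfl N9941 D11416
theorem N11320 : nd 11320 = n11417 := ndS (p := 9942) (l := 1) rfl N9942 D11417
theorem N11321 : nd 11321 = n11418 := ndS (p := 9944) (l := 3) rfl N9944 D11418
theorem N11322 : nd 11322 = n11419 := ndS (p := 9945) (l := 4) rfl N9945 D11419
theorem N11323 : nd 11323 = n11420 := ndS (p := 9948) (l := 3) rfl N9948 D11420
theorem N11324 : nd 11324 = n11421 := ndS (p := 9949) (l := 2) rfl N9949 D11421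
theorem N11325 : nd 11325 = n11422 := ndS (p := 9949) (l := 4) rfl N9949 D11422
theorem N11326 : nd 11326 = n11423 := ndS (p := 9952) (l := 2) rfl N9952 D11423
theorem N11327 : nd 11327 = n11424 := ndS (p := 9952) (l := 4) rfl N9952 D11424
theorem N11328 : nd 11328 = n11425 := ndS (p := 9952) (l := 6) rfl N9952 D11425
theorem N11329 : nd 11329 = n11426 := ndS (p := 9954) (l := 1) rfl N9954 D11426
theorem N11330 : nd 11330 = n11427 := ndS (p := 9954) (l := 4) rfl N9954 D11427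
theorem N11331 : nd 11331 = n11428 := ndS (p := 9956) (l := 1) rfl N9956 D11428
theorem N11332 : nd 11332 = n11429 := ndS (p := 9956) (l := 6) rfl N9956 D11429
theorem N11333 : nd 11333 = n11430 := ndS (p := 9958) (l := 5) rfl N9958 D11430
theorem N11334 : nd 11334 = n11431 := ndS (p := 9976) (l := 7) rfl N9976 D11431
theorem N11335 : nd 11335 = n11432 := ndS (p := 9985) (l := 4) rfl N9985 D11432
theorem N11336 : nd 11336 = n11433 := ndS (p := 9988) (l := 7) rfl N9988 D11433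
theorem N11337 : nd 11337 = n11434 := ndS (p := 9989) (l := 7) rfl N9989 D11434
theorem N11338 : nd 11338 = n11435 := ndS (p := 9990) (l := 6) rfl N9990 D11435
theorem N11339 : nd 11339 = n11436 := ndS (p := 9991) (l := 3) rfl N9991 D11436
theorem N11340 : nd 11340 = n11437 := ndS (p := 9991) (l := 6) rfl N9991 D11437
theorem N11341 : nd 11341 = n11438 := ndS (p := 9992) (l := 5) rfl N9992 D11438
theorem N11342 : nd 11342 = n11439 := ndS (p := 10016) (l := 5) rfl N10016 D11439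
theorem N11343 : nd 11343 = n11440 := ndS (p := 10022) (l := 5) rfl N10022 D11440
theorem N11344 : nd 11344 = n11441 := ndS (p := 10023) (l := 1) rfl N10023 D11441
theorem N11345 : nd 11345 = n11442 := ndS (p := 10036) (l := 2) rfl N10036 D11442
theorem N11346 : nd 11346 = n11443 := ndS (p := 10036) (l := 4) rfl N10036 D11443
theorem N11347 : nd 11347 = n11444 := ndS (p := 10037) (l := 7) rfl N10037 D11444
theorem N11348 : nd 11348 = n11445 := ndS (p := 10038) (l := 3) rfl N10038 D11445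
theorem N11349 : nd 11349 = n11446 := ndS (p := 10039) (l := 3) rfl N10039 D11446
theorem N11350 : nd 11350 = n11447 := ndS (p := 10040) (l := 4) rfl N10040 D11447
theorem N11351 : nd 11351 = n11448 := ndS (p := 10041) (l := 6) rfl N10041 D11448
theorem N11352 : nd 11352 = n11449 := ndS (p := 10042) (l := 5) rfl N10042 D11449
theorem N11353 : nd 11353 = n11450 := ndS (p := 10043) (l := 1) rfl N10043 D11450
theorem N11354 : nd 11354 = n11451 := ndS (p := 10045) (l := 0) rfl N10045 D11451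
theorem N11355 : nd 11355 = n11452 := ndS (p := 10045) (l := 2) rfl N10045 D11452
theorem N11356 : nd 11356 = n11453 := ndS (p := 10046) (l := 7) rfl N10046 D11453
theorem N11357 : nd 11357 = n11454 := ndS (p := 10051) (l := 3) rfl N10051 D11454
theorem N11358 : nd 11358 = n11455 := ndS (p := 10053) (l := 5) rfl N10053 D11455
theorem N11359 : nd 11359 = n11456 := ndS (p := 10056) (l := 3) rfl N10056 D11456
theorem N11360 : nd 11360 = n11457 := ndS (p := 10059) (l := 3) rfl N10059 D11457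
theorem N11361 : nd 11361 = n11458 := ndS (p := 10060) (l := 3) rfl N10060 D11458
theorem N11362 : nd 11362 = n11459 := ndS (p := 10061) (l := 4) rfl N10061 D11459
theorem N11363 : nd 11363 = n11460 := ndS (p := 10064) (l := 3) rfl N10064 D11460
theorem N11364 : nd 11364 = n11461 := ndS (p := 10065) (l := 2) rfl N10065 D11461
theorem N11365 : nd 11365 = n11462 := ndS (p := 10065) (l := 4) rfl N10065 D11462
theorem N11366 : nd 11366 = n11463 := ndS (p := 10067) (l := 4) rfl N10067 D11463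
theorem N11367 : nd 11367 = n11464 := ndS (p := 10074) (l := 3) rfl N10074 D11464
theorem N11368 : nd 11368 = n11465 := ndS (p := 10075) (l := 2) rfl N10075 D11465
theorem N11369 : nd 11369 = n11466 := ndS (p := 10076) (l := 3) rfl N10076 D11466
theorem N11370 : nd 11370 = n11467 := ndS (p := 10081) (l := 3) rfl N10081 D11467
theorem N11371 : nd 11371 = n11468 := ndS (p := 10082) (l := 2) rfl N10082 D11468
theorem N11372 : nd 11372 = n11469 := ndS (p := 10082) (l := 6) rfl N10082 D11469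
theorem N11373 : nd 11373 = n11470 := ndS (p := 10089) (l := 4) rfl N10089 D11470
theorem N11374 : nd 11374 = n11471 := ndS (p := 10089) (l := 6) rfl N10089 D11471
theorem N11375 : nd 11375 = n11472 := ndS (p := 10093) (l := 3) rfl N10093 D11472
theorem N11376 : nd 11376 = n11473 := ndS (p := 10098) (l := 4) rfl N10098 D11473
theorem N11377 : nd 11377 = n11474 := ndS (p := 10100) (l := 3) rfl N10100 D11474
theorem N11378 : nd 11378 = n11475 := ndS (p := 10101) (l := 4) rfl N10101 D11475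
theorem N11379 : nd 11379 = n11476 := ndS (p := 10103) (l := 2) rfl N10103 D11476
theorem N11380 : nd 11380 = n11477 := ndS (p := 10103) (l := 6) rfl N10103 D11477
theorem N11381 : nd 11381 = n11478 := ndS (p := 10107) (l := 3) rfl N10107 D11478
theorem N11382 : nd 11382 = n11479 := ndS (p := 10108) (l := 4) rfl N10108 D11479
theorem N11383 : nd 11383 = n11480 := ndS (p := 10108) (l := 6) rfl N10108 D11480
theorem N11384 : nd 11384 = n11481 := ndS (p := 10111) (l := 2) rfl N10111 D11481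
theorem N11385 : nd 11385 = n11482 := ndS (p := 10111) (l := 4) rfl N10111 D11482
theorem N11386 : nd 11386 = n11483 := ndS (p := 10111) (l := 6) rfl N10111 D11483
theorem N11387 : nd 11387 = n11484 := ndS (p := 10112) (l := 5) rfl N10112 D11484
theorem N11388 : nd 11388 = n11485 := ndS (p := 10113) (l := 5) rfl N10113 D11485
theorem N11389 : nd 11389 = n11486 := ndS (p := 10113) (l := 7) rfl N10113 D11486
theorem N11390 : nd 11390 = n11487 := ndS (p := 10115) (l := 5) rfl N10115 D11487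
theorem N11391 : nd 11391 = n11488 := ndS (p := 10116) (l := 5) rfl N10116 D11488
theorem N11392 : nd 11392 = n11489 := ndS (p := 10117) (l := 1) rfl N10117 D11489
theorem N11393 : nd 11393 = n11490 := ndS (p := 10119) (l := 4) rfl N10119 D11490
theorem N11394 : nd 11394 = n11491 := ndS (p := 10120) (l := 6) rfl N10120 D11491
theorem N11395 : nd 11395 = n11492 := ndS (p := 10121) (l := 5) rfl N10121 D11492
theorem N11396 : nd 11396 = n11493 := ndS (p := 10122) (l := 1) rfl N10122 D11493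
theorem N11397 : nd 11397 = n11494 := ndS (p := 10129) (l := 5) rfl N10129 D11494
theorem N11398 : nd 11398 = n11495 := ndS (p := 10131) (l := 7) rfl N10131 D11495
theorem N11399 : nd 11399 = n11496 := ndS (p := 10133) (l := 1) rfl N10133 D11496
theorem N11400 : nd 11400 = n11497 := ndS (p := 10136) (l := 5) rfl N10136 D11497
theorem N11401 : nd 11401 = n11498 := ndS (p := 10139) (l := 5) rfl N10139 D11498
theorem N11402 : nd 11402 = n11499 := ndS (p := 10140) (l := 5) rfl N10140 D11499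
theorem N11403 : nd 11403 = n11500 := ndS (p := 10141) (l := 1) rfl N10141 D11500
theorem N11404 : nd 11404 = n11501 := ndS (p := 10147) (l := 7) rfl N10147 D11501
theorem N11405 : nd 11405 = n11502 := ndS (p := 10149) (l := 1) rfl N10149 D11502
theorem N11406 : nd 11406 = n11503 := ndS (p := 10150) (l := 2) rfl N10150 D11503
theorem N11407 : nd 11407 = n11504 := ndS (p := 10151) (l := 6) rfl N10151 D11504
theorem N11408 : nd 11408 = n11505 := ndS (p := 10154) (l := 4) rfl N10154 D11505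
theorem N11409 : nd 11409 = n11506 := ndS (p := 10156) (l := 7) rfl N10156 D11506
theorem N11410 : nd 11410 = n11507 := ndS (p := 10157) (l := 3) rfl N10157 D11507
theorem N11411 : nd 11411 = n11508 := ndS (p := 10158) (l := 4) rfl N10158 D11508
theorem N11412 : nd 11412 = n11509 := ndS (p := 10158) (l := 6) rfl N10158 D11509
theorem N11413 : nd 11413 = n11510 := ndS (p := 10161) (l := 3) rfl N10161 D11510
theorem N11414 : nd 11414 = n11511 := ndS (p := 10163) (l := 4) rfl N10163 D11511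
theorem N11415 : nd 11415 = n11512 := ndS (p := 10166) (l := 2) rfl N10166 D11512
theorem N11416 : nd 11416 = n11513 := ndS (p := 10170) (l := 3) rfl N10170 D11513
theorem N11417 : nd 11417 = n11514 := ndS (p := 10176) (l := 2) rfl N10176 D11514
theorem N11418 : nd 11418 = n11515 := ndS (p := 10176) (l := 4) rfl N10176 D11515
theorem N11419 : nd 11419 = n11516 := ndS (p := 10176) (l := 6) rfl N10176 D11516
theorem N11420 : nd 11420 = n11517 := ndS (p := 10182) (l := 3) rfl N10182 D11517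
theorem N11421 : nd 11421 = n11518 := ndS (p := 10183) (l := 2) rfl N10183 D11518
theorem N11422 : nd 11422 = n11519 := ndS (p := 10183) (l := 6) rfl N10183 D11519
theorem N11423 : nd 11423 = n11520 := ndS (p := 10189) (l := 4) rfl N10189 D11520
theorem N11424 : nd 11424 = n11521 := ndS (p := 10190) (l := 6) rfl N10190 D11521
theorem N11425 : nd 11425 = n11522 := ndS (p := 10191) (l := 5) rfl N10191 D11522
theorem N11426 : nd 11426 = n11523 := ndS (p := 10192) (l := 1) rfl N10192 D11523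
theorem N11427 : nd 11427 = n11524 := ndS (p := 10193) (l := 0) rfl N10193 D11524
theorem N11428 : nd 11428 = n11525 := ndS (p := 10193) (l := 2) rfl N10193 D11525
theorem N11429 : nd 11429 = n11526 := ndS (p := 10195) (l := 3) rfl N10195 D11526
theorem N11430 : nd 11430 = n11527 := ndS (p := 10196) (l := 2) rfl N10196 D11527
theorem N11431 : nd 11431 = n11528 := ndS (p := 10196) (l := 4) rfl N10196 D11528
theorem N11432 : nd 11432 = n11529 := ndS (p := 10197) (l := 4) rfl N10197 D11529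
theorem N11433 : nd 11433 = n11530 := ndS (p := 10198) (l := 6) rfl N10198 D11530
theorem N11434 : nd 11434 = n11531 := ndS (p := 10199) (l := 5) rfl N10199 D11531
theorem N11435 : nd 11435 = n11532 := ndS (p := 10200) (l := 1) rfl N10200 D11532
theorem N11436 : nd 11436 = n11533 := ndS (p := 10201) (l := 0) rfl N10201 D11533
theorem N11437 : nd 11437 = n11534 := ndS (p := 10201) (l := 2) rfl N10201 D11534
theorem N11438 : nd 11438 = n11535 := ndS (p := 10202) (l := 0) rfl N10202 D11535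
theorem N11439 : nd 11439 = n11536 := ndS (p := 10202) (l := 4) rfl N10202 D11536
theorem N11440 : nd 11440 = n11537 := ndS (p := 10202) (l := 5) rfl N10202 D11537
theorem N11441 : nd 11441 = n11538 := ndS (p := 10203) (l := 3) rfl N10203 D11538
theorem N11442 : nd 11442 = n11539 := ndS (p := 10203) (l := 6) rfl N10203 D11539
theorem N11443 : nd 11443 = n11540 := ndS (p := 10204) (l := 5) rfl N10204 D11540
theorem N11444 : nd 11444 = n11541 := ndS (p := 10205) (l := 5) rfl N10205 D11541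
theorem N11445 : nd 11445 = n11542 := ndS (p := 10205) (l := 7) rfl N10205 D11542
theorem N11446 : nd 11446 = n11543 := ndS (p := 10206) (l := 1) rfl N10206 D11543
theorem N11447 : nd 11447 = n11544 := ndS (p := 10206) (l := 7) rfl N10206 D11544
theorem N11448 : nd 11448 = n11545 := ndS (p := 10209) (l := 1) rfl N10209 D11545
theorem N11449 : nd 11449 = n11546 := ndS (p := 10209) (l := 7) rfl N10209 D11546
theorem N11450 : nd 11450 = n11547 := ndS (p := 10210) (l := 3) rfl N10210 D11547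
theorem N11451 : nd 11451 = n11548 := ndS (p := 10211) (l := 0) rfl N10211 D11548
theorem N11452 : nd 11452 = n11549 := ndS (p := 10211) (l := 2) rfl N10211 D11549
theorem N11453 : nd 11453 = n11550 := ndS (p := 10211) (l := 7) rfl N10211 D11550
theorem N11454 : nd 11454 = n11551 := ndS (p := 10212) (l := 6) rfl N10212 D11551
theorem N11455 : nd 11455 = n11552 := ndS (p := 10214) (l := 3) rfl N10214 D11552
theorem N11456 : nd 11456 = n11553 := ndS (p := 10215) (l := 1) rfl N10215 D11553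
theorem N11457 : nd 11457 = n11554 := ndS (p := 10215) (l := 7) rfl N10215 D11554
theorem N11458 : nd 11458 = n11555 := ndS (p := 10216) (l := 3) rfl N10216 D11555
theorem N11459 : nd 11459 = n11556 := ndS (p := 10217) (l := 0) rfl N10217 D11556
theorem N11460 : nd 11460 = n11557 := ndS (p := 10217) (l := 2) rfl N10217 D11557
theorem N11461 : nd 11461 = n11558 := ndS (p := 10217) (l := 7) rfl N10217 D11558
theorem N11462 : nd 11462 = n11559 := ndS (p := 10218) (l := 3) rfl N10218 D11559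
theorem N11463 : nd 11463 = n11560 := ndS (p := 10218) (l := 6) rfl N10218 D11560
theorem N11464 : nd 11464 = n11561 := ndS (p := 10219) (l := 4) rfl N10219 D11561
theorem N11465 : nd 11465 = n11562 := ndS (p := 10223) (l := 3) rfl N10223 D11562
theorem N11466 : nd 11466 = n11563 := ndS (p := 10226) (l := 3) rfl N10226 D11563
theorem N11467 : nd 11467 = n11564 := ndS (p := 10227) (l := 4) rfl N10227 D11564
theorem N11468 : nd 11468 = n11565 := ndS (p := 10227) (l := 7) rfl N10227 D11565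
theorem N11469 : nd 11469 = n11566 := ndS (p := 10228) (l := 3) rfl N10228 D11566
theorem N11470 : nd 11470 = n11567 := ndS (p := 10229) (l := 5) rfl N10229 D11567
theorem N11471 : nd 11471 = n11568 := ndS (p := 10230) (l := 1) rfl N10230 D11568
theorem N11472 : nd 11472 = n11569 := ndS (p := 10233) (l := 3) rfl N10233 D11569
theorem N11473 : nd 11473 = n11570 := ndS (p := 10235) (l := 3) rfl N10235 D11570
theorem N11474 : nd 11474 = n11571 := ndS (p := 10237) (l := 3) rfl N10237 D11571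
theorem N11475 : nd 11475 = n11572 := ndS (p := 10238) (l := 4) rfl N10238 D11572
theorem N11476 : nd 11476 = n11573 := ndS (p := 10238) (l := 7) rfl N10238 D11573
theorem N11477 : nd 11477 = n11574 := ndS (p := 10242) (l := 6) rfl N10242 D11574
theorem N11478 : nd 11478 = n11575 := ndS (p := 10243) (l := 5) rfl N10243 D11575
theorem N11479 : nd 11479 = n11576 := ndS (p := 10249) (l := 2) rfl N10249 D11576
theorem N11480 : nd 11480 = n11577 := ndS (p := 10250) (l := 2) rfl N10250 D11577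
theorem N11481 : nd 11481 = n11578 := ndS (p := 10251) (l := 3) rfl N10251 D11578
theorem N11482 : nd 11482 = n11579 := ndS (p := 10253) (l := 3) rfl N10253 D11579
theorem N11483 : nd 11483 = n11580 := ndS (p := 10254) (l := 3) rfl N10254 D11580
theorem N11484 : nd 11484 = n11581 := ndS (p := 10255) (l := 4) rfl N10255 D11581
theorem N11485 : nd 11485 = n11582 := ndS (p := 10255) (l := 7) rfl N10255 D11582
theorem N11486 : nd 11486 = n11583 := ndS (p := 10256) (l := 7) rfl N10256 D11583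
theorem N11487 : nd 11487 = n11584 := ndS (p := 10257) (l := 3) rfl N10257 D11584
theorem N11488 : nd 11488 = n11585 := ndS (p := 10257) (l := 6) rfl N10257 D11585
theorem N11489 : nd 11489 = n11586 := ndS (p := 10258) (l := 4) rfl N10258 D11586
theorem N11490 : nd 11490 = n11587 := ndS (p := 10259) (l := 2) rfl N10259 D11587
theorem N11491 : nd 11491 = n11588 := ndS (p := 10259) (l := 7) rfl N10259 D11588
theorem N11492 : nd 11492 = n11589 := ndS (p := 10260) (l := 3) rfl N10260 D11589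
theorem N11493 : nd 11493 = n11590 := ndS (p := 10261) (l := 4) rfl N10261 D11590
theorem N11494 : nd 11494 = n11591 := ndS (p := 10262) (l := 2) rfl N10262 D11591
theorem N11495 : nd 11495 = n11592 := ndS (p := 10262) (l := 7) rfl N10262 D11592
theorem N11496 : nd 11496 = n11593 := ndS (p := 10263) (l := 3) rfl N10263 D11593
theorem N11497 : nd 11497 = n11594 := ndS (p := 10264) (l := 3) rfl N10264 D11594
theorem N11498 : nd 11498 = n11595 := ndS (p := 10265) (l := 4) rfl N10265 D11595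
theorem N11499 : nd 11499 = n11596 := ndS (p := 10267) (l := 3) rfl N10267 D11596
theorem N11500 : nd 11500 = n11597 := ndS (p := 10268) (l := 4) rfl N10268 D11597
theorem N11501 : nd 11501 = n11598 := ndS (p := 10269) (l := 3) rfl N10269 D11598
theorem N11502 : nd 11502 = n11599 := ndS (p := 10270) (l := 4) rfl N10270 D11599
theorem N11503 : nd 11503 = n11600 := ndS (p := 10270) (l := 7) rfl N10270 D11600
theorem N11504 : nd 11504 = n11601 := ndS (p := 10271) (l := 7) rfl N10271 D11601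
theorem N11505 : nd 11505 = n11602 := ndS (p := 10272) (l := 6) rfl N10272 D11602
theorem N11506 : nd 11506 = n11603 := ndS (p := 10275) (l := 3) rfl N10275 D11603
theorem N11507 : nd 11507 = n11604 := ndS (p := 10276) (l := 4) rfl N10276 D11604
theorem N11508 : nd 11508 = n11605 := ndS (p := 10277) (l := 3) rfl N10277 D11605
theorem N11509 : nd 11509 = n11606 := ndS (p := 10277) (l := 6) rfl N10277 D11606
theorem N11510 : nd 11510 = n11607 := ndS (p := 10278) (l := 4) rfl N10278 D11607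
theorem N11511 : nd 11511 = n11608 := ndS (p := 10280) (l := 2) rfl N10280 D11608
theorem N11512 : nd 11512 = n11609 := ndS (p := 10280) (l := 4) rfl N10280 D11609
theorem N11513 : nd 11513 = n11610 := ndS (p := 10280) (l := 6) rfl N10280 D11610
theorem N11514 : nd 11514 = n11611 := ndS (p := 10282) (l := 4) rfl N10282 D11611
theorem N11515 : nd 11515 = n11612 := ndS (p := 10285) (l := 4) rfl N10285 D11612
theorem N11516 : nd 11516 = n11613 := ndS (p := 10286) (l := 4) rfl N10286 D11613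
theorem N11517 : nd 11517 = n11614 := ndS (p := 10288) (l := 4) rfl N10288 D11614
theorem N11518 : nd 11518 = n11615 := ndS (p := 10289) (l := 4) rfl N10289 D11615
theorem N11519 : nd 11519 = n11616 := ndS (p := 10290) (l := 7) rfl N10290 D11616
theorem N11520 : nd 11520 = n11617 := ndS (p := 10292) (l := 3) rfl N10292 D11617
theorem N11521 : nd 11521 = n11618 := ndS (p := 10292) (l := 6) rfl N10292 D11618
theorem N11522 : nd 11522 = n11619 := ndS (p := 10293) (l := 4) rfl N10293 D11619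
theorem N11523 : nd 11523 = n11620 := ndS (p := 10295) (l := 4) rfl N10295 D11620
theorem N11524 : nd 11524 = n11621 := ndS (p := 10297) (l := 7) rfl N10297 D11621
theorem N11525 : nd 11525 = n11622 := ndS (p := 10299) (l := 3) rfl N10299 D11622
theorem N11526 : nd 11526 = n11623 := ndS (p := 10301) (l := 3) rfl N10301 D11623
theorem N11527 : nd 11527 = n11624 := ndS (p := 10302) (l := 2) rfl N10302 D11624
theorem N11528 : nd 11528 = n11625 := ndS (p := 10302) (l := 4) rfl N10302 D11625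
theorem N11529 : nd 11529 = n11626 := ndS (p := 10305) (l := 3) rfl N10305 D11626
theorem N11530 : nd 11530 = n11627 := ndS (p := 10305) (l := 6) rfl N10305 D11627
theorem N11531 : nd 11531 = n11628 := ndS (p := 10306) (l := 4) rfl N10306 D11628
theorem N11532 : nd 11532 = n11629 := ndS (p := 10308) (l := 3) rfl N10308 D11629
theorem N11533 : nd 11533 = n11630 := ndS (p := 10309) (l := 2) rfl N10309 D11630
theorem N11534 : nd 11534 = n11631 := ndS (p := 10309) (l := 4) rfl N10309 D11631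
theorem N11535 : nd 11535 = n11632 := ndS (p := 10309) (l := 6) rfl N10309 D11632
theorem N11536 : nd 11536 = n11633 := ndS (p := 10311) (l := 4) rfl N10311 D11633
theorem N11537 : nd 11537 = n11634 := ndS (p := 10313) (l := 3) rfl N10313 D11634
theorem N11538 : nd 11538 = n11635 := ndS (p := 10314) (l := 4) rfl N10314 D11635
theorem N11539 : nd 11539 = n11636 := ndS (p := 10315) (l := 3) rfl N10315 D11636
theorem N11540 : nd 11540 = n11637 := ndS (p := 10316) (l := 4) rfl N10316 D11637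
theorem N11541 : nd 11541 = n11638 := ndS (p := 10317) (l := 2) rfl N10317 D11638
theorem N11542 : nd 11542 = n11639 := ndS (p := 10317) (l := 4) rfl N10317 D11639
theorem N11543 : nd 11543 = n11640 := ndS (p := 10318) (l := 4) rfl N10318 D11640
theorem N11544 : nd 11544 = n11641 := ndS (p := 10320) (l := 4) rfl N10320 D11641
theorem N11545 : nd 11545 = n11642 := ndS (p := 10322) (l := 4) rfl N10322 D11642
theorem N11546 : nd 11546 = n11643 := ndS (p := 10322) (l := 6) rfl N10322 D11643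
theorem N11547 : nd 11547 = n11644 := ndS (p := 10324) (l := 4) rfl N10324 D11644
theorem N11548 : nd 11548 = n11645 := ndS (p := 10325) (l := 6) rfl N10325 D11645
theorem N11549 : nd 11549 = n11646 := ndS (p := 10327) (l := 3) rfl N10327 D11646
theorem N11550 : nd 11550 = n11647 := ndS (p := 10328) (l := 3) rfl N10328 D11647
theorem N11551 : nd 11551 = n11648 := ndS (p := 10328) (l := 6) rfl N10328 D11648
theorem N11552 : nd 11552 = n11649 := ndS (p := 10329) (l := 4) rfl N10329 D11649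
theorem N11553 : nd 11553 = n11650 := ndS (p := 10329) (l := 6) rfl N10329 D11650
theorem N11554 : nd 11554 = n11651 := ndS (p := 10331) (l := 4) rfl N10331 D11651
theorem N11555 : nd 11555 = n11652 := ndS (p := 10333) (l := 4) rfl N10333 D11652
theorem N11556 : nd 11556 = n11653 := ndS (p := 10334) (l := 6) rfl N10334 D11653
theorem N11557 : nd 11557 = n11654 := ndS (p := 10336) (l := 0) rfl N10336 D11654
theorem N11558 : nd 11558 = n11655 := ndS (p := 10337) (l := 0) rfl N10337 D11655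
theorem N11559 : nd 11559 = n11656 := ndS (p := 10339) (l := 2) rfl N10339 D11656
theorem N11560 : nd 11560 = n11657 := ndS (p := 10339) (l := 6) rfl N10339 D11657
theorem N11561 : nd 11561 = n11658 := ndS (p := 10341) (l := 3) rfl N10341 D11658
theorem N11562 : nd 11562 = n11659 := ndS (p := 10341) (l := 6) rfl N10341 D11659
theorem N11563 : nd 11563 = n11660 := ndS (p := 10342) (l := 4) rfl N10342 D11660
theorem N11564 : nd 11564 = n11661 := ndS (p := 10343) (l := 5) rfl N10343 D11661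
theorem N11565 : nd 11565 = n11662 := ndS (p := 10344) (l := 1) rfl N10344 D11662
theorem N11566 : nd 11566 = n11663 := ndS (p := 10346) (l := 3) rfl N10346 D11663
theorem N11567 : nd 11567 = n11664 := ndS (p := 10346) (l := 6) rfl N10346 D11664
theorem N11568 : nd 11568 = n11665 := ndS (p := 10347) (l := 4) rfl N10347 D11665
theorem N11569 : nd 11569 = n11666 := ndS (p := 10347) (l := 6) rfl N10347 D11666
theorem N11570 : nd 11570 = n11667 := ndS (p := 10351) (l := 4) rfl N10351 D11667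
theorem N11571 : nd 11571 = n11668 := ndS (p := 10354) (l := 6) rfl N10354 D11668
theorem N11572 : nd 11572 = n11669 := ndS (p := 10355) (l := 2) rfl N10355 D11669
theorem N11573 : nd 11573 = n11670 := ndS (p := 10355) (l := 4) rfl N10355 D11670
theorem N11574 : nd 11574 = n11671 := ndS (p := 10355) (l := 6) rfl N10355 D11671
theorem N11575 : nd 11575 = n11672 := ndS (p := 10356) (l := 5) rfl N10356 D11672
theorem N11576 : nd 11576 = n11673 := ndS (p := 10357) (l := 6) rfl N10357 D11673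
theorem N11577 : nd 11577 = n11674 := ndS (p := 10361) (l := 5) rfl N10361 D11674
theorem N11578 : nd 11578 = n11675 := ndS (p := 10363) (l := 2) rfl N10363 D11675
theorem N11579 : nd 11579 = n11676 := ndS (p := 10363) (l := 4) rfl N10363 D11676
theorem N11580 : nd 11580 = n11677 := ndS (p := 10365) (l := 5) rfl N10365 D11677
theorem N11581 : nd 11581 = n11678 := ndS (p := 10366) (l := 1) rfl N10366 D11678
theorem N11582 : nd 11582 = n11679 := ndS (p := 10370) (l := 3) rfl N10370 D11679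
theorem N11583 : nd 11583 = n11680 := ndS (p := 10372) (l := 5) rfl N10372 D11680
theorem N11584 : nd 11584 = n11681 := ndS (p := 10374) (l := 5) rfl N10374 D11681
theorem N11585 : nd 11585 = n11682 := ndS (p := 10374) (l := 7) rfl N10374 D11682
theorem N11586 : nd 11586 = n11683 := ndS (p := 10375) (l := 7) rfl N10375 D11683
theorem N11587 : nd 11587 = n11684 := ndS (p := 10377) (l := 1) rfl N10377 D11684
theorem N11588 : nd 11588 = n11685 := ndS (p := 10386) (l := 2) rfl N10386 D11685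
theorem N11589 : nd 11589 = n11686 := ndS (p := 10387) (l := 4) rfl N10387 D11686
theorem N11590 : nd 11590 = n11687 := ndS (p := 10391) (l := 4) rfl N10391 D11687
theorem N11591 : nd 11591 = n11688 := ndS (p := 10394) (l := 3) rfl N10394 D11688
theorem N11592 : nd 11592 = n11689 := ndS (p := 10401) (l := 5) rfl N10401 D11689
theorem N11593 : nd 11593 = n11690 := ndS (p := 10403) (l := 1) rfl N10403 D11690
theorem N11594 : nd 11594 = n11691 := ndS (p := 10407) (l := 2) rfl N10407 D11691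
theorem N11595 : nd 11595 = n11692 := ndS (p := 10408) (l := 3) rfl N10408 D11692
theorem N11596 : nd 11596 = n11693 := ndS (p := 10409) (l := 3) rfl N10409 D11693
theorem N11597 : nd 11597 = n11694 := ndS (p := 10410) (l := 4) rfl N10410 D11694
theorem N11598 : nd 11598 = n11695 := ndS (p := 10410) (l := 7) rfl N10410 D11695
theorem N11599 : nd 11599 = n11696 := ndS (p := 10412) (l := 3) rfl N10412 D11696
theorem N11600 : nd 11600 = n11697 := ndS (p := 10414) (l := 4) rfl N10414 D11697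
theorem N11601 : nd 11601 = n11698 := ndS (p := 10415) (l := 4) rfl N10415 D11698
theorem N11602 : nd 11602 = n11699 := ndS (p := 10416) (l := 4) rfl N10416 D11699
theorem N11603 : nd 11603 = n11700 := ndS (p := 10416) (l := 7) rfl N10416 D11700
theorem N11604 : nd 11604 = n11701 := ndS (p := 10417) (l := 7) rfl N10417 D11701
theorem N11605 : nd 11605 = n11702 := ndS (p := 10419) (l := 3) rfl N10419 D11702
theorem N11606 : nd 11606 = n11703 := ndS (p := 10420) (l := 4) rfl N10420 D11703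
theorem N11607 : nd 11607 = n11704 := ndS (p := 10420) (l := 7) rfl N10420 D11704
theorem N11608 : nd 11608 = n11705 := ndS (p := 10421) (l := 7) rfl N10421 D11705
theorem N11609 : nd 11609 = n11706 := ndS (p := 10422) (l := 6) rfl N10422 D11706
theorem N11610 : nd 11610 = n11707 := ndS (p := 10423) (l := 7) rfl N10423 D11707
theorem N11611 : nd 11611 = n11708 := ndS (p := 10425) (l := 1) rfl N10425 D11708
theorem N11612 : nd 11612 = n11709 := ndS (p := 10429) (l := 3) rfl N10429 D11709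
theorem N11613 : nd 11613 = n11710 := ndS (p := 10429) (l := 6) rfl N10429 D11710
theorem N11614 : nd 11614 = n11711 := ndS (p := 10432) (l := 4) rfl N10432 D11711
theorem N11615 : nd 11615 = n11712 := ndS (p := 10433) (l := 7) rfl N10433 D11712
theorem N11616 : nd 11616 = n11713 := ndS (p := 10435) (l := 3) rfl N10435 D11713
theorem N11617 : nd 11617 = n11714 := ndS (p := 10435) (l := 6) rfl N10435 D11714
theorem N11618 : nd 11618 = n11715 := ndS (p := 10437) (l := 3) rfl N10437 D11715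
theorem N11619 : nd 11619 = n11716 := ndS (p := 10438) (l := 4) rfl N10438 D11716
theorem N11620 : nd 11620 = n11717 := ndS (p := 10439) (l := 4) rfl N10439 D11717
theorem N11621 : nd 11621 = n11718 := ndS (p := 10441) (l := 2) rfl N10441 D11718
theorem N11622 : nd 11622 = n11719 := ndS (p := 10441) (l := 6) rfl N10441 D11719
theorem N11623 : nd 11623 = n11720 := ndS (p := 10442) (l := 5) rfl N10442 D11720
theorem N11624 : nd 11624 = n11721 := ndS (p := 10444) (l := 4) rfl N10444 D11721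
theorem N11625 : nd 11625 = n11722 := ndS (p := 10448) (l := 3) rfl N10448 D11722
theorem N11626 : nd 11626 = n11723 := ndS (p := 10448) (l := 6) rfl N10448 D11723
theorem N11627 : nd 11627 = n11724 := ndS (p := 10449) (l := 4) rfl N10449 D11724
theorem N11628 : nd 11628 = n11725 := ndS (p := 10450) (l := 4) rfl N10450 D11725
theorem N11629 : nd 11629 = n11726 := ndS (p := 10452) (l := 3) rfl N10452 D11726
theorem N11630 : nd 11630 = n11727 := ndS (p := 10453) (l := 4) rfl N10453 D11727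
theorem N11631 : nd 11631 = n11728 := ndS (p := 10453) (l := 6) rfl N10453 D11728
theorem N11632 : nd 11632 = n11729 := ndS (p := 10456) (l := 4) rfl N10456 D11729
theorem N11633 : nd 11633 = n11730 := ndS (p := 10457) (l := 1) rfl N10457 D11730
theorem N11634 : nd 11634 = n11731 := ndS (p := 10457) (l := 4) rfl N10457 D11731
theorem N11635 : nd 11635 = n11732 := ndS (p := 10458) (l := 6) rfl N10458 D11732
theorem N11636 : nd 11636 = n11733 := ndS (p := 10460) (l := 4) rfl N10460 D11733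
theorem N11637 : nd 11637 = n11734 := ndS (p := 10460) (l := 5) rfl N10460 D11734
theorem N11638 : nd 11638 = n11735 := ndS (p := 10461) (l := 3) rfl N10461 D11735
theorem N11639 : nd 11639 = n11736 := ndS (p := 10462) (l := 3) rfl N10462 D11736
theorem N11640 : nd 11640 = n11737 := ndS (p := 10463) (l := 3) rfl N10463 D11737
theorem N11641 : nd 11641 = n11738 := ndS (p := 10466) (l := 1) rfl N10466 D11738
theorem N11642 : nd 11642 = n11739 := ndS (p := 10466) (l := 7) rfl N10466 D11739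
theorem N11643 : nd 11643 = n11740 := ndS (p := 10468) (l := 7) rfl N10468 D11740
theorem N11644 : nd 11644 = n11741 := ndS (p := 10469) (l := 3) rfl N10469 D11741
theorem N11645 : nd 11645 = n11742 := ndS (p := 10469) (l := 6) rfl N10469 D11742
theorem N11646 : nd 11646 = n11743 := ndS (p := 10470) (l := 4) rfl N10470 D11743
theorem N11647 : nd 11647 = n11744 := ndS (p := 10473) (l := 3) rfl N10473 D11744
theorem N11648 : nd 11648 = n11745 := ndS (p := 10474) (l := 3) rfl N10474 D11745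
theorem N11649 : nd 11649 = n11746 := ndS (p := 10475) (l := 4) rfl N10475 D11746
theorem N11650 : nd 11650 = n11747 := ndS (p := 10475) (l := 6) rfl N10475 D11747
theorem N11651 : nd 11651 = n11748 := ndS (p := 10478) (l := 7) rfl N10478 D11748
theorem N11652 : nd 11652 = n11749 := ndS (p := 10480) (l := 3) rfl N10480 D11749
theorem N11653 : nd 11653 = n11750 := ndS (p := 10481) (l := 7) rfl N10481 D11750
theorem N11654 : nd 11654 = n11751 := ndS (p := 10483) (l := 5) rfl N10483 D11751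
theorem N11655 : nd 11655 = n11752 := ndS (p := 10484) (l := 1) rfl N10484 D11752
theorem N11656 : nd 11656 = n11753 := ndS (p := 10485) (l := 3) rfl N10485 D11753
theorem N11657 : nd 11657 = n11754 := ndS (p := 10486) (l := 4) rfl N10486 D11754
theorem N11658 : nd 11658 = n11755 := ndS (p := 10486) (l := 6) rfl N10486 D11755
theorem N11659 : nd 11659 = n11756 := ndS (p := 10489) (l := 2) rfl N10489 D11756
theorem N11660 : nd 11660 = n11757 := ndS (p := 10489) (l := 4) rfl N10489 D11757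
theorem N11661 : nd 11661 = n11758 := ndS (p := 10490) (l := 4) rfl N10490 D11758
theorem N11662 : nd 11662 = n11759 := ndS (p := 10490) (l := 6) rfl N10490 D11759
theorem N11663 : nd 11663 = n11760 := ndS (p := 10495) (l := 2) rfl N10495 D11760
theorem N11664 : nd 11664 = n11761 := ndS (p := 10495) (l := 4) rfl N10495 D11761
theorem N11665 : nd 11665 = n11762 := ndS (p := 10495) (l := 6) rfl N10495 D11762
theorem N11666 : nd 11666 = n11763 := ndS (p := 10497) (l := 6) rfl N10497 D11763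
theorem N11667 : nd 11667 = n11764 := ndS (p := 10498) (l := 7) rfl N10498 D11764
theorem N11668 : nd 11668 = n11765 := ndS (p := 10500) (l := 5) rfl N10500 D11765
theorem N11669 : nd 11669 = n11766 := ndS (p := 10501) (l := 1) rfl N10501 D11766
theorem N11670 : nd 11670 = n11767 := ndS (p := 10502) (l := 2) rfl N10502 D11767
theorem N11671 : nd 11671 = n11768 := ndS (p := 10502) (l := 6) rfl N10502 D11768
theorem N11672 : nd 11672 = n11769 := ndS (p := 10503) (l := 5) rfl N10503 D11769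
theorem N11673 : nd 11673 = n11770 := ndS (p := 10505) (l := 5) rfl N10505 D11770
theorem N11674 : nd 11674 = n11771 := ndS (p := 10506) (l := 1) rfl N10506 D11771
theorem N11675 : nd 11675 = n11772 := ndS (p := 10507) (l := 2) rfl N10507 D11772
theorem N11676 : nd 11676 = n11773 := ndS (p := 10508) (l := 3) rfl N10508 D11773
theorem N11677 : nd 11677 = n11774 := ndS (p := 10509) (l := 4) rfl N10509 D11774
theorem N11678 : nd 11678 = n11775 := ndS (p := 10511) (l := 6) rfl N10511 D11775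
theorem N11679 : nd 11679 = n11776 := ndS (p := 10513) (l := 1) rfl N10513 D11776
theorem N11680 : nd 11680 = n11777 := ndS (p := 10513) (l := 4) rfl N10513 D11777
theorem N11681 : nd 11681 = n11778 := ndS (p := 10513) (l := 6) rfl N10513 D11778
theorem N11682 : nd 11682 = n11779 := ndS (p := 10514) (l := 6) rfl N10514 D11779
theorem N11683 : nd 11683 = n11780 := ndS (p := 10516) (l := 1) rfl N10516 D11780
theorem N11684 : nd 11684 = n11781 := ndS (p := 10516) (l := 4) rfl N10516 D11781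
theorem N11685 : nd 11685 = n11782 := ndS (p := 10516) (l := 6) rfl N10516 D11782
theorem N11686 : nd 11686 = n11783 := ndS (p := 10517) (l := 6) rfl N10517 D11783
theorem N11687 : nd 11687 = n11784 := ndS (p := 10518) (l := 7) rfl N10518 D11784
theorem N11688 : nd 11688 = n11785 := ndS (p := 10519) (l := 4) rfl N10519 D11785
theorem N11689 : nd 11689 = n11786 := ndS (p := 10519) (l := 6) rfl N10519 D11786
theorem N11690 : nd 11690 = n11787 := ndS (p := 10520) (l := 3) rfl N10520 D11787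
theorem N11691 : nd 11691 = n11788 := ndS (p := 10520) (l := 6) rfl N10520 D11788
theorem N11692 : nd 11692 = n11789 := ndS (p := 10521) (l := 5) rfl N10521 D11789
theorem N11693 : nd 11693 = n11790 := ndS (p := 10522) (l := 5) rfl N10522 D11790
theorem N11694 : nd 11694 = n11791 := ndS (p := 10523) (l := 1) rfl N10523 D11791
theorem N11695 : nd 11695 = n11792 := ndS (p := 10526) (l := 4) rfl N10526 D11792
theorem N11696 : nd 11696 = n11793 := ndS (p := 10527) (l := 6) rfl N10527 D11793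
theorem N11697 : nd 11697 = n11794 := ndS (p := 10528) (l := 5) rfl N10528 D11794
theorem N11698 : nd 11698 = n11795 := ndS (p := 10530) (l := 4) rfl N10530 D11795
theorem N11699 : nd 11699 = n11796 := ndS (p := 10531) (l := 6) rfl N10531 D11796
theorem N11700 : nd 11700 = n11797 := ndS (p := 10533) (l := 7) rfl N10533 D11797
theorem N11701 : nd 11701 = n11798 := ndS (p := 10535) (l := 3) rfl N10535 D11798
theorem N11702 : nd 11702 = n11799 := ndS (p := 10543) (l := 3) rfl N10543 D11799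
theorem N11703 : nd 11703 = n11800 := ndS (p := 10544) (l := 4) rfl N10544 D11800
theorem N11704 : nd 11704 = n11801 := ndS (p := 10546) (l := 5) rfl N10546 D11801
theorem N11705 : nd 11705 = n11802 := ndS (p := 10547) (l := 1) rfl N10547 D11802
theorem N11706 : nd 11706 = n11803 := ndS (p := 10548) (l := 0) rfl N10548 D11803
theorem N11707 : nd 11707 = n11804 := ndS (p := 10548) (l := 2) rfl N10548 D11804
theorem N11708 : nd 11708 = n11805 := ndS (p := 10549) (l := 1) rfl N10549 D11805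
theorem N11709 : nd 11709 = n11806 := ndS (p := 10550) (l := 0) rfl N10550 D11806
theorem N11710 : nd 11710 = n11807 := ndS (p := 10550) (l := 2) rfl N10550 D11807
theorem N11711 : nd 11711 = n11808 := ndS (p := 10551) (l := 0) rfl N10551 D11808
theorem N11712 : nd 11712 = n11809 := ndS (p := 10552) (l := 2) rfl N10552 D11809
theorem N11713 : nd 11713 = n11810 := ndS (p := 10553) (l := 3) rfl N10553 D11810
theorem N11714 : nd 11714 = n11811 := ndS (p := 10563) (l := 3) rfl N10563 D11811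
theorem N11715 : nd 11715 = n11812 := ndS (p := 10567) (l := 4) rfl N10567 D11812
theorem N11716 : nd 11716 = n11813 := ndS (p := 10573) (l := 3) rfl N10573 D11813
theorem N11717 : nd 11717 = n11814 := ndS (p := 10574) (l := 3) rfl N10574 D11814
theorem N11718 : nd 11718 = n11815 := ndS (p := 10576) (l := 4) rfl N10576 D11815
theorem N11719 : nd 11719 = n11816 := ndS (p := 10576) (l := 7) rfl N10576 D11816
theorem N11720 : nd 11720 = n11817 := ndS (p := 10578) (l := 4) rfl N10578 D11817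
theorem N11721 : nd 11721 = n11818 := ndS (p := 10578) (l := 7) rfl N10578 D11818
theorem N11722 : nd 11722 = n11819 := ndS (p := 10579) (l := 7) rfl N10579 D11819
theorem N11723 : nd 11723 = n11820 := ndS (p := 10580) (l := 6) rfl N10580 D11820
theorem N11724 : nd 11724 = n11821 := ndS (p := 10583) (l := 4) rfl N10583 D11821
theorem N11725 : nd 11725 = n11822 := ndS (p := 10593) (l := 7) rfl N10593 D11822
theorem N11726 : nd 11726 = n11823 := ndS (p := 10594) (l := 6) rfl N10594 D11823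
theorem N11727 : nd 11727 = n11824 := ndS (p := 10598) (l := 3) rfl N10598 D11824
theorem N11728 : nd 11728 = n11825 := ndS (p := 10598) (l := 6) rfl N10598 D11825
theorem N11729 : nd 11729 = n11826 := ndS (p := 10599) (l := 5) rfl N10599 D11826
theorem N11730 : nd 11730 = n11827 := ndS (p := 10600) (l := 3) rfl N10600 D11827
theorem N11731 : nd 11731 = n11828 := ndS (p := 10602) (l := 4) rfl N10602 D11828
theorem N11732 : nd 11732 = n11829 := ndS (p := 10604) (l := 3) rfl N10604 D11829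
theorem N11733 : nd 11733 = n11830 := ndS (p := 10605) (l := 3) rfl N10605 D11830
theorem N11734 : nd 11734 = n11831 := ndS (p := 10606) (l := 4) rfl N10606 D11831
theorem N11735 : nd 11735 = n11832 := ndS (p := 10607) (l := 3) rfl N10607 D11832
theorem N11736 : nd 11736 = n11833 := ndS (p := 10608) (l := 4) rfl N10608 D11833
theorem N11737 : nd 11737 = n11834 := ndS (p := 10609) (l := 4) rfl N10609 D11834
theorem N11738 : nd 11738 = n11835 := ndS (p := 10611) (l := 2) rfl N10611 D11835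
theorem N11739 : nd 11739 = n11836 := ndS (p := 10611) (l := 6) rfl N10611 D11836
theorem N11740 : nd 11740 = n11837 := ndS (p := 10612) (l := 5) rfl N10612 D11837
theorem N11741 : nd 11741 = n11838 := ndS (p := 10613) (l := 1) rfl N10613 D11838
theorem N11742 : nd 11742 = n11839 := ndS (p := 10614) (l := 3) rfl N10614 D11839
theorem N11743 : nd 11743 = n11840 := ndS (p := 10615) (l := 4) rfl N10615 D11840
theorem N11744 : nd 11744 = n11841 := ndS (p := 10616) (l := 1) rfl N10616 D11841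
theorem N11745 : nd 11745 = n11842 := ndS (p := 10616) (l := 4) rfl N10616 D11842
theorem N11746 : nd 11746 = n11843 := ndS (p := 10619) (l := 1) rfl N10619 D11843
theorem N11747 : nd 11747 = n11844 := ndS (p := 10619) (l := 4) rfl N10619 D11844
theorem N11748 : nd 11748 = n11845 := ndS (p := 10621) (l := 3) rfl N10621 D11845
theorem N11749 : nd 11749 = n11846 := ndS (p := 10624) (l := 2) rfl N10624 D11846
theorem N11750 : nd 11750 = n11847 := ndS (p := 10624) (l := 4) rfl N10624 D11847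
theorem N11751 : nd 11751 = n11848 := ndS (p := 10625) (l := 4) rfl N10625 D11848
theorem N11752 : nd 11752 = n11849 := ndS (p := 10627) (l := 4) rfl N10627 D11849
theorem N11753 : nd 11753 = n11850 := ndS (p := 10627) (l := 5) rfl N10627 D11850
theorem N11754 : nd 11754 = n11851 := ndS (p := 10628) (l := 3) rfl N10628 D11851
theorem N11755 : nd 11755 = n11852 := ndS (p := 10631) (l := 3) rfl N10631 D11852
theorem N11756 : nd 11756 = n11853 := ndS (p := 10633) (l := 4) rfl N10633 D11853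
theorem N11757 : nd 11757 = n11854 := ndS (p := 10634) (l := 3) rfl N10634 D11854
theorem N11758 : nd 11758 = n11855 := ndS (p := 10635) (l := 4) rfl N10635 D11855
theorem N11759 : nd 11759 = n11856 := ndS (p := 10636) (l := 3) rfl N10636 D11856
theorem N11760 : nd 11760 = n11857 := ndS (p := 10636) (l := 5) rfl N10636 D11857
theorem N11761 : nd 11761 = n11858 := ndS (p := 10637) (l := 6) rfl N10637 D11858
theorem N11762 : nd 11762 = n11859 := ndS (p := 10638) (l := 7) rfl N10638 D11859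
theorem N11763 : nd 11763 = n11860 := ndS (p := 10646) (l := 6) rfl N10646 D11860
theorem N11764 : nd 11764 = n11861 := ndS (p := 10647) (l := 5) rfl N10647 D11861
theorem N11765 : nd 11765 = n11862 := ndS (p := 10648) (l := 1) rfl N10648 D11862
theorem N11766 : nd 11766 = n11863 := ndS (p := 10649) (l := 2) rfl N10649 D11863
theorem N11767 : nd 11767 = n11864 := ndS (p := 10650) (l := 4) rfl N10650 D11864
theorem N11768 : nd 11768 = n11865 := ndS (p := 10651) (l := 6) rfl N10651 D11865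
theorem N11769 : nd 11769 = n11866 := ndS (p := 10655) (l := 5) rfl N10655 D11866
theorem N11770 : nd 11770 = n11867 := ndS (p := 10658) (l := 6) rfl N10658 D11867
theorem N11771 : nd 11771 = n11868 := ndS (p := 10659) (l := 5) rfl N10659 D11868
theorem N11772 : nd 11772 = n11869 := ndS (p := 10661) (l := 7) rfl N10661 D11869
theorem N11773 : nd 11773 = n11870 := ndS (p := 10664) (l := 7) rfl N10664 D11870
theorem N11774 : nd 11774 = n11871 := ndS (p := 10668) (l := 2) rfl N10668 D11871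
theorem N11775 : nd 11775 = n11872 := ndS (p := 10669) (l := 3) rfl N10669 D11872
theorem N11776 : nd 11776 = n11873 := ndS (p := 10671) (l := 3) rfl N10671 D11873
theorem N11777 : nd 11777 = n11874 := ndS (p := 10672) (l := 4) rfl N10672 D11874
theorem N11778 : nd 11778 = n11875 := ndS (p := 10672) (l := 7) rfl N10672 D11875
theorem N11779 : nd 11779 = n11876 := ndS (p := 10673) (l := 3) rfl N10673 D11876
theorem N11780 : nd 11780 = n11877 := ndS (p := 10674) (l := 4) rfl N10674 D11877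
theorem N11781 : nd 11781 = n11878 := ndS (p := 10675) (l := 3) rfl N10675 D11878
theorem N11782 : nd 11782 = n11879 := ndS (p := 10676) (l := 4) rfl N10676 D11879
theorem N11783 : nd 11783 = n11880 := ndS (p := 10676) (l := 7) rfl N10676 D11880
theorem N11784 : nd 11784 = n11881 := ndS (p := 10677) (l := 7) rfl N10677 D11881
theorem N11785 : nd 11785 = n11882 := ndS (p := 10679) (l := 3) rfl N10679 D11882
theorem N11786 : nd 11786 = n11883 := ndS (p := 10681) (l := 4) rfl N10681 D11883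
theorem N11787 : nd 11787 = n11884 := ndS (p := 10681) (l := 7) rfl N10681 D11884
theorem N11788 : nd 11788 = n11885 := ndS (p := 10682) (l := 4) rfl N10682 D11885
theorem N11789 : nd 11789 = n11886 := ndS (p := 10683) (l := 4) rfl N10683 D11886
theorem N11790 : nd 11790 = n11887 := ndS (p := 10683) (l := 7) rfl N10683 D11887
theorem N11791 : nd 11791 = n11888 := ndS (p := 10684) (l := 7) rfl N10684 D11888
theorem N11792 : nd 11792 = n11889 := ndS (p := 10686) (l := 2) rfl N10686 D11889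
theorem N11793 : nd 11793 = n11890 := ndS (p := 10686) (l := 4) rfl N10686 D11890
theorem N11794 : nd 11794 = n11891 := ndS (p := 10686) (l := 5) rfl N10686 D11891
theorem N11795 : nd 11795 = n11892 := ndS (p := 10686) (l := 7) rfl N10686 D11892
theorem N11796 : nd 11796 = n11893 := ndS (p := 10688) (l := 7) rfl N10688 D11893
theorem N11797 : nd 11797 = n11894 := ndS (p := 10690) (l := 3) rfl N10690 D11894
theorem N11798 : nd 11798 = n11895 := ndS (p := 10690) (l := 6) rfl N10690 D11895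
theorem N11799 : nd 11799 = n11896 := ndS (p := 10692) (l := 2) rfl N10692 D11896
theorem N11800 : nd 11800 = n11897 := ndS (p := 10692) (l := 7) rfl N10692 D11897
theorem N11801 : nd 11801 = n11898 := ndS (p := 10693) (l := 3) rfl N10693 D11898
theorem N11802 : nd 11802 = n11899 := ndS (p := 10694) (l := 4) rfl N10694 D11899
theorem N11803 : nd 11803 = n11900 := ndS (p := 10696) (l := 3) rfl N10696 D11900
theorem N11804 : nd 11804 = n11901 := ndS (p := 10697) (l := 4) rfl N10697 D11901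
theorem N11805 : nd 11805 = n11902 := ndS (p := 10699) (l := 2) rfl N10699 D11902
theorem N11806 : nd 11806 = n11903 := ndS (p := 10699) (l := 4) rfl N10699 D11903
theorem N11807 : nd 11807 = n11904 := ndS (p := 10699) (l := 5) rfl N10699 D11904
theorem N11808 : nd 11808 = n11905 := ndS (p := 10699) (l := 7) rfl N10699 D11905
theorem N11809 : nd 11809 = n11906 := ndS (p := 10701) (l := 7) rfl N10701 D11906
theorem N11810 : nd 11810 = n11907 := ndS (p := 10702) (l := 6) rfl N10702 D11907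
theorem N11811 : nd 11811 = n11908 := ndS (p := 10703) (l := 3) rfl N10703 D11908
theorem N11812 : nd 11812 = n11909 := ndS (p := 10703) (l := 6) rfl N10703 D11909
theorem N11813 : nd 11813 = n11910 := ndS (p := 10704) (l := 5) rfl N10704 D11910
theorem N11814 : nd 11814 = n11911 := ndS (p := 10706) (l := 7) rfl N10706 D11911
theorem N11815 : nd 11815 = n11912 := ndS (p := 10707) (l := 6) rfl N10707 D11912
theorem N11816 : nd 11816 = n11913 := ndS (p := 10708) (l := 2) rfl N10708 D11913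
theorem N11817 : nd 11817 = n11914 := ndS (p := 10708) (l := 4) rfl N10708 D11914
theorem N11818 : nd 11818 = n11915 := ndS (p := 10709) (l := 7) rfl N10709 D11915
theorem N11819 : nd 11819 = n11916 := ndS (p := 10710) (l := 6) rfl N10710 D11916
theorem N11820 : nd 11820 = n11917 := ndS (p := 10711) (l := 3) rfl N10711 D11917
theorem N11821 : nd 11821 = n11918 := ndS (p := 10711) (l := 6) rfl N10711 D11918
theorem N11822 : nd 11822 = n11919 := ndS (p := 10713) (l := 3) rfl N10713 D11919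
theorem N11823 : nd 11823 = n11920 := ndS (p := 10714) (l := 3) rfl N10714 D11920
theorem N11824 : nd 11824 = n11921 := ndS (p := 10715) (l := 4) rfl N10715 D11921
theorem N11825 : nd 11825 = n11922 := ndS (p := 10715) (l := 7) rfl N10715 D11922
theorem N11826 : nd 11826 = n11923 := ndS (p := 10716) (l := 4) rfl N10716 D11923
theorem N11827 : nd 11827 = n11924 := ndS (p := 10717) (l := 7) rfl N10717 D11924
theorem N11828 : nd 11828 = n11925 := ndS (p := 10719) (l := 3) rfl N10719 D11925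
theorem N11829 : nd 11829 = n11926 := ndS (p := 10719) (l := 6) rfl N10719 D11926
theorem N11830 : nd 11830 = n11927 := ndS (p := 10720) (l := 5) rfl N10720 D11927
theorem N11831 : nd 11831 = n11928 := ndS (p := 10721) (l := 4) rfl N10721 D11928
theorem N11832 : nd 11832 = n11929 := ndS (p := 10722) (l := 5) rfl N10722 D11929
theorem N11833 : nd 11833 = n11930 := ndS (p := 10722) (l := 7) rfl N10722 D11930
theorem N11834 : nd 11834 = n11931 := ndS (p := 10723) (l := 6) rfl N10723 D11931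
theorem N11835 : nd 11835 = n11932 := ndS (p := 10723) (l := 7) rfl N10723 D11932
theorem N11836 : nd 11836 = n11933 := ndS (p := 10726) (l := 3) rfl N10726 D11933
theorem N11837 : nd 11837 = n11934 := ndS (p := 10726) (l := 6) rfl N10726 D11934
theorem N11838 : nd 11838 = n11935 := ndS (p := 10728) (l := 2) rfl N10728 D11935
theorem N11839 : nd 11839 = n11936 := ndS (p := 10728) (l := 6) rfl N10728 D11936
theorem N11840 : nd 11840 = n11937 := ndS (p := 10729) (l := 5) rfl N10729 D11937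
theorem N11841 : nd 11841 = n11938 := ndS (p := 10731) (l := 3) rfl N10731 D11938
theorem N11842 : nd 11842 = n11939 := ndS (p := 10732) (l := 3) rfl N10732 D11939
theorem N11843 : nd 11843 = n11940 := ndS (p := 10733) (l := 4) rfl N10733 D11940
theorem N11844 : nd 11844 = n11941 := ndS (p := 10733) (l := 7) rfl N10733 D11941
theorem N11845 : nd 11845 = n11942 := ndS (p := 10734) (l := 3) rfl N10734 D11942
theorem N11846 : nd 11846 = n11943 := ndS (p := 10734) (l := 5) rfl N10734 D11943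
theorem N11847 : nd 11847 = n11944 := ndS (p := 10735) (l := 4) rfl N10735 D11944
theorem N11848 : nd 11848 = n11945 := ndS (p := 10736) (l := 7) rfl N10736 D11945
theorem N11849 : nd 11849 = n11946 := ndS (p := 10738) (l := 2) rfl N10738 D11946
theorem N11850 : nd 11850 = n11947 := ndS (p := 10738) (l := 4) rfl N10738 D11947
theorem N11851 : nd 11851 = n11948 := ndS (p := 10738) (l := 5) rfl N10738 D11948
theorem N11852 : nd 11852 = n11949 := ndS (p := 10738) (l := 7) rfl N10738 D11949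
theorem N11853 : nd 11853 = n11950 := ndS (p := 10739) (l := 6) rfl N10739 D11950
theorem N11854 : nd 11854 = n11951 := ndS (p := 10741) (l := 6) rfl N10741 D11951
theorem N11855 : nd 11855 = n11952 := ndS (p := 10742) (l := 6) rfl N10742 D11952
theorem N11856 : nd 11856 = n11953 := ndS (p := 10743) (l := 5) rfl N10743 D11953
theorem N11857 : nd 11857 = n11954 := ndS (p := 10745) (l := 7) rfl N10745 D11954
theorem N11858 : nd 11858 = n11955 := ndS (p := 10746) (l := 7) rfl N10746 D11955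
theorem N11859 : nd 11859 = n11956 := ndS (p := 10748) (l := 6) rfl N10748 D11956
theorem N11860 : nd 11860 = n11957 := ndS (p := 10749) (l := 5) rfl N10749 D11957
theorem N11861 : nd 11861 = n11958 := ndS (p := 10750) (l := 6) rfl N10750 D11958
theorem N11862 : nd 11862 = n11959 := ndS (p := 10751) (l := 5) rfl N10751 D11959
theorem N11863 : nd 11863 = n11960 := ndS (p := 10753) (l := 2) rfl N10753 D11960
theorem N11864 : nd 11864 = n11961 := ndS (p := 10753) (l := 4) rfl N10753 D11961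
theorem N11865 : nd 11865 = n11962 := ndS (p := 10754) (l := 4) rfl N10754 D11962
theorem N11866 : nd 11866 = n11963 := ndS (p := 10756) (l := 3) rfl N10756 D11963
theorem N11867 : nd 11867 = n11964 := ndS (p := 10757) (l := 3) rfl N10757 D11964
theorem N11868 : nd 11868 = n11965 := ndS (p := 10758) (l := 4) rfl N10758 D11965
theorem N11869 : nd 11869 = n11966 := ndS (p := 10758) (l := 7) rfl N10758 D11966
theorem N11870 : nd 11870 = n11967 := ndS (p := 10760) (l := 2) rfl N10760 D11967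
theorem N11871 : nd 11871 = n11968 := ndS (p := 10760) (l := 4) rfl N10760 D11968
theorem N11872 : nd 11872 = n11969 := ndS (p := 10761) (l := 4) rfl N10761 D11969
theorem N11873 : nd 11873 = n11970 := ndS (p := 10764) (l := 3) rfl N10764 D11970
theorem N11874 : nd 11874 = n11971 := ndS (p := 10765) (l := 4) rfl N10765 D11971
theorem N11875 : nd 11875 = n11972 := ndS (p := 10765) (l := 7) rfl N10765 D11972
theorem N11876 : nd 11876 = n11973 := ndS (p := 10766) (l := 7) rfl N10766 D11973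
theorem N11877 : nd 11877 = n11974 := ndS (p := 10768) (l := 7) rfl N10768 D11974
theorem N11878 : nd 11878 = n11975 := ndS (p := 10770) (l := 3) rfl N10770 D11975
theorem N11879 : nd 11879 = n11976 := ndS (p := 10771) (l := 6) rfl N10771 D11976
theorem N11880 : nd 11880 = n11977 := ndS (p := 10772) (l := 5) rfl N10772 D11977
theorem N11881 : nd 11881 = n11978 := ndS (p := 10774) (l := 7) rfl N10774 D11978
theorem N11882 : nd 11882 = n11979 := ndS (p := 10775) (l := 6) rfl N10775 D11979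
theorem N11883 : nd 11883 = n11980 := ndS (p := 10776) (l := 6) rfl N10776 D11980
theorem N11884 : nd 11884 = n11981 := ndS (p := 10776) (l := 7) rfl N10776 D11981
theorem N11885 : nd 11885 = n11982 := ndS (p := 10777) (l := 3) rfl N10777 D11982
theorem N11886 : nd 11886 = n11983 := ndS (p := 10777) (l := 6) rfl N10777 D11983
theorem N11887 : nd 11887 = n11984 := ndS (p := 10778) (l := 7) rfl N10778 D11984
theorem N11888 : nd 11888 = n11985 := ndS (p := 10779) (l := 6) rfl N10779 D11985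
theorem N11889 : nd 11889 = n11986 := ndS (p := 10780) (l := 5) rfl N10780 D11986
theorem N11890 : nd 11890 = n11987 := ndS (p := 10781) (l := 6) rfl N10781 D11987
theorem N11891 : nd 11891 = n11988 := ndS (p := 10782) (l := 5) rfl N10782 D11988
theorem N11892 : nd 11892 = n11989 := ndS (p := 10784) (l := 1) rfl N10784 D11989
theorem N11893 : nd 11893 = n11990 := ndS (p := 10784) (l := 6) rfl N10784 D11990
theorem N11894 : nd 11894 = n11991 := ndS (p := 10785) (l := 5) rfl N10785 D11991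
theorem N11895 : nd 11895 = n11992 := ndS (p := 10785) (l := 7) rfl N10785 D11992
theorem N11896 : nd 11896 = n11993 := ndS (p := 10786) (l := 1) rfl N10786 D11993
theorem N11897 : nd 11897 = n11994 := ndS (p := 10787) (l := 2) rfl N10787 D11994
theorem N11898 : nd 11898 = n11995 := ndS (p := 10788) (l := 4) rfl N10788 D11995
theorem N11899 : nd 11899 = n11996 := ndS (p := 10790) (l := 4) rfl N10790 D11996
theorem N11900 : nd 11900 = n11997 := ndS (p := 10791) (l := 3) rfl N10791 D11997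
theorem N11901 : nd 11901 = n11998 := ndS (p := 10792) (l := 7) rfl N10792 D11998
theorem N11902 : nd 11902 = n11999 := ndS (p := 10794) (l := 1) rfl N10794 D11999
theorem N11903 : nd 11903 = n12000 := ndS (p := 10794) (l := 7) rfl N10794 D12000
theorem N11904 : nd 11904 = n12001 := ndS (p := 10798) (l := 3) rfl N10798 D12001
theorem N11905 : nd 11905 = n12002 := ndS (p := 10799) (l := 4) rfl N10799 D12002
theorem N11906 : nd 11906 = n12003 := ndS (p := 10800) (l := 6) rfl N10800 D12003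
theorem N11907 : nd 11907 = n12004 := ndS (p := 10801) (l := 5) rfl N10801 D12004
theorem N11908 : nd 11908 = n12005 := ndS (p := 10804) (l := 6) rfl N10804 D12005
theorem N11909 : nd 11909 = n12006 := ndS (p := 10805) (l := 2) rfl N10805 D12006
theorem N11910 : nd 11910 = n12007 := ndS (p := 10805) (l := 4) rfl N10805 D12007
theorem N11911 : nd 11911 = n12008 := ndS (p := 10805) (l := 6) rfl N10805 D12008
theorem N11912 : nd 11912 = n12009 := ndS (p := 10807) (l := 1) rfl N10807 D12009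
theorem N11913 : nd 11913 = n12010 := ndS (p := 10807) (l := 4) rfl N10807 D12010
theorem N11914 : nd 11914 = n12011 := ndS (p := 10809) (l := 0) rfl N10809 D12011
theorem N11915 : nd 11915 = n12012 := ndS (p := 10809) (l := 4) rfl N10809 D12012
theorem N11916 : nd 11916 = n12013 := ndS (p := 10810) (l := 3) rfl N10810 D12013
theorem N11917 : nd 11917 = n12014 := ndS (p := 10812) (l := 3) rfl N10812 D12014
theorem N11918 : nd 11918 = n12015 := ndS (p := 10816) (l := 4) rfl N10816 D12015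
theorem N11919 : nd 11919 = n12016 := ndS (p := 10817) (l := 1) rfl N10817 D12016
theorem N11920 : nd 11920 = n12017 := ndS (p := 10817) (l := 4) rfl N10817 D12017
theorem N11921 : nd 11921 = n12018 := ndS (p := 10817) (l := 6) rfl N10817 D12018
theorem N11922 : nd 11922 = n12019 := ndS (p := 10818) (l := 6) rfl N10818 D12019
theorem N11923 : nd 11923 = n12020 := ndS (p := 10820) (l := 4) rfl N10820 D12020
theorem N11924 : nd 11924 = n12021 := ndS (p := 10821) (l := 3) rfl N10821 D12021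
theorem N11925 : nd 11925 = n12022 := ndS (p := 10823) (l := 4) rfl N10823 D12022
theorem N11926 : nd 11926 = n12023 := ndS (p := 10824) (l := 3) rfl N10824 D12023
theorem N11927 : nd 11927 = n12024 := ndS (p := 10825) (l := 4) rfl N10825 D12024
theorem N11928 : nd 11928 = n12025 := ndS (p := 10826) (l := 3) rfl N10826 D12025
theorem N11929 : nd 11929 = n12026 := ndS (p := 10826) (l := 5) rfl N10826 D12026
theorem N11930 : nd 11930 = n12027 := ndS (p := 10828) (l := 7) rfl N10828 D12027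
theorem N11931 : nd 11931 = n12028 := ndS (p := 10830) (l := 1) rfl N10830 D12028
theorem N11932 : nd 11932 = n12029 := ndS (p := 10832) (l := 7) rfl N10832 D12029
theorem N11933 : nd 11933 = n12030 := ndS (p := 10834) (l := 0) rfl N10834 D12030
theorem N11934 : nd 11934 = n12031 := ndS (p := 10838) (l := 5) rfl N10838 D12031
theorem N11935 : nd 11935 = n12032 := ndS (p := 10840) (l := 4) rfl N10840 D12032
theorem N11936 : nd 11936 = n12033 := ndS (p := 10841) (l := 3) rfl N10841 D12033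
theorem N11937 : nd 11937 = n12034 := ndS (p := 10842) (l := 4) rfl N10842 D12034
theorem N11938 : nd 11938 = n12035 := ndS (p := 10842) (l := 5) rfl N10842 D12035
theorem N11939 : nd 11939 = n12036 := ndS (p := 10843) (l := 3) rfl N10843 D12036
theorem N11940 : nd 11940 = n12037 := ndS (p := 10843) (l := 5) rfl N10843 D12037
theorem N11941 : nd 11941 = n12038 := ndS (p := 10844) (l := 6) rfl N10844 D12038
theorem N11942 : nd 11942 = n12039 := ndS (p := 10845) (l := 7) rfl N10845 D12039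
theorem N11943 : nd 11943 = n12040 := ndS (p := 10846) (l := 7) rfl N10846 D12040
theorem N11944 : nd 11944 = n12041 := ndS (p := 10847) (l := 3) rfl N10847 D12041
theorem N11945 : nd 11945 = n12042 := ndS (p := 10847) (l := 5) rfl N10847 D12042
theorem N11946 : nd 11946 = n12043 := ndS (p := 10849) (l := 2) rfl N10849 D12043
theorem N11947 : nd 11947 = n12044 := ndS (p := 10849) (l := 5) rfl N10849 D12044
theorem N11948 : nd 11948 = n12045 := ndS (p := 10849) (l := 7) rfl N10849 D12045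
theorem N11949 : nd 11949 = n12046 := ndS (p := 10850) (l := 6) rfl N10850 D12046
theorem N11950 : nd 11950 = n12047 := ndS (p := 10852) (l := 6) rfl N10852 D12047
theorem N11951 : nd 11951 = n12048 := ndS (p := 10856) (l := 5) rfl N10856 D12048
theorem N11952 : nd 11952 = n12049 := ndS (p := 10858) (l := 5) rfl N10858 D12049
theorem N11953 : nd 11953 = n12050 := ndS (p := 10861) (l := 5) rfl N10861 D12050
theorem N11954 : nd 11954 = n12051 := ndS (p := 10862) (l := 1) rfl N10862 D12051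
theorem N11955 : nd 11955 = n12052 := ndS (p := 10864) (l := 7) rfl N10864 D12052
theorem N11956 : nd 11956 = n12053 := ndS (p := 10865) (l := 3) rfl N10865 D12053
theorem N11957 : nd 11957 = n12054 := ndS (p := 10866) (l := 7) rfl N10866 D12054
theorem N11958 : nd 11958 = n12055 := ndS (p := 10867) (l := 3) rfl N10867 D12055
theorem N11959 : nd 11959 = n12056 := ndS (p := 10867) (l := 6) rfl N10867 D12056
theorem N11960 : nd 11960 = n12057 := ndS (p := 10868) (l := 4) rfl N10868 D12057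
theorem N11961 : nd 11961 = n12058 := ndS (p := 10870) (l := 3) rfl N10870 D12058
theorem N11962 : nd 11962 = n12059 := ndS (p := 10871) (l := 4) rfl N10871 D12059
theorem N11963 : nd 11963 = n12060 := ndS (p := 10871) (l := 6) rfl N10871 D12060
theorem N11964 : nd 11964 = n12061 := ndS (p := 10874) (l := 2) rfl N10874 D12061
theorem N11965 : nd 11965 = n12062 := ndS (p := 10874) (l := 4) rfl N10874 D12062
theorem N11966 : nd 11966 = n12063 := ndS (p := 10875) (l := 4) rfl N10875 D12063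
theorem N11967 : nd 11967 = n12064 := ndS (p := 10880) (l := 4) rfl N10880 D12064
theorem N11968 : nd 11968 = n12065 := ndS (p := 10882) (l := 6) rfl N10882 D12065
theorem N11969 : nd 11969 = n12066 := ndS (p := 10883) (l := 7) rfl N10883 D12066
theorem N11970 : nd 11970 = n12067 := ndS (p := 10884) (l := 7) rfl N10884 D12067
theorem N11971 : nd 11971 = n12068 := ndS (p := 10888) (l := 4) rfl N10888 D12068
theorem N11972 : nd 11972 = n12069 := ndS (p := 10888) (l := 6) rfl N10888 D12069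
theorem N11973 : nd 11973 = n12070 := ndS (p := 10890) (l := 3) rfl N10890 D12070
theorem N11974 : nd 11974 = n12071 := ndS (p := 10891) (l := 4) rfl N10891 D12071
theorem N11975 : nd 11975 = n12072 := ndS (p := 10891) (l := 6) rfl N10891 D12072
theorem N11976 : nd 11976 = n12073 := ndS (p := 10892) (l := 5) rfl N10892 D12073
theorem N11977 : nd 11977 = n12074 := ndS (p := 10893) (l := 6) rfl N10893 D12074
theorem N11978 : nd 11978 = n12075 := ndS (p := 10894) (l := 5) rfl N10894 D12075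
theorem N11979 : nd 11979 = n12076 := ndS (p := 10896) (l := 3) rfl N10896 D12076
theorem N11980 : nd 11980 = n12077 := ndS (p := 10897) (l := 2) rfl N10897 D12077
theorem N11981 : nd 11981 = n12078 := ndS (p := 10897) (l := 4) rfl N10897 D12078
theorem N11982 : nd 11982 = n12079 := ndS (p := 10897) (l := 6) rfl N10897 D12079
theorem N11983 : nd 11983 = n12080 := ndS (p := 10899) (l := 1) rfl N10899 D12080
theorem N11984 : nd 11984 = n12081 := ndS (p := 10899) (l := 4) rfl N10899 D12081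
theorem N11985 : nd 11985 = n12082 := ndS (p := 10900) (l := 6) rfl N10900 D12082
theorem N11986 : nd 11986 = n12083 := ndS (p := 10904) (l := 6) rfl N10904 D12083
theorem N11987 : nd 11987 = n12084 := ndS (p := 10907) (l := 5) rfl N10907 D12084
theorem N11988 : nd 11988 = n12085 := ndS (p := 10911) (l := 1) rfl N10911 D12085
theorem N11989 : nd 11989 = n12086 := ndS (p := 10911) (l := 4) rfl N10911 D12086
theorem N11990 : nd 11990 = n12087 := ndS (p := 10911) (l := 6) rfl N10911 D12087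
theorem N11991 : nd 11991 = n12088 := ndS (p := 10912) (l := 6) rfl N10912 D12088
theorem N11992 : nd 11992 = n12089 := ndS (p := 10913) (l := 5) rfl N10913 D12089
theorem N11993 : nd 11993 = n12090 := ndS (p := 10913) (l := 7) rfl N10913 D12090
theorem N11994 : nd 11994 = n12091 := ndS (p := 10916) (l := 6) rfl N10916 D12091
theorem N11995 : nd 11995 = n12092 := ndS (p := 10917) (l := 5) rfl N10917 D12092
theorem N11996 : nd 11996 = n12093 := ndS (p := 10919) (l := 5) rfl N10919 D12093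
theorem N11997 : nd 11997 = n12094 := ndS (p := 10920) (l := 1) rfl N10920 D12094
theorem N11998 : nd 11998 = n12095 := ndS (p := 10923) (l := 6) rfl N10923 D12095
theorem N11999 : nd 11999 = n12096 := ndS (p := 10925) (l := 4) rfl N10925 D12096
theorem N12000 : nd 12000 = n12097 := ndS (p := 10925) (l := 6) rfl N10925 D12097
theorem N12001 : nd 12001 = n12098 := ndS (p := 10926) (l := 6) rfl N10926 D12098
theorem N12002 : nd 12002 = n12099 := ndS (p := 10929) (l := 4) rfl N10929 D12099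
theorem N12003 : nd 12003 = n12100 := ndS (p := 10929) (l := 6) rfl N10929 D12100
theorem N12004 : nd 12004 = n12101 := ndS (p := 10930) (l := 3) rfl N10930 D12101
theorem N12005 : nd 12005 = n12102 := ndS (p := 10930) (l := 6) rfl N10930 D12102
theorem N12006 : nd 12006 = n12103 := ndS (p := 10932) (l := 7) rfl N10932 D12103
theorem N12007 : nd 12007 = n12104 := ndS (p := 10942) (l := 4) rfl N10942 D12104
theorem N12008 : nd 12008 = n12105 := ndS (p := 10943) (l := 3) rfl N10943 D12105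
theorem N12009 : nd 12009 = n12106 := ndS (p := 10943) (l := 6) rfl N10943 D12106
theorem N12010 : nd 12010 = n12107 := ndS (p := 10945) (l := 7) rfl N10945 D12107
theorem N12011 : nd 12011 = n12108 := ndS (p := 10948) (l := 0) rfl N10948 D12108
theorem N12012 : nd 12012 = n12109 := ndS (p := 10950) (l := 6) rfl N10950 D12109
theorem N12013 : nd 12013 = n12110 := ndS (p := 10951) (l := 5) rfl N10951 D12110
theorem N12014 : nd 12014 = n12111 := ndS (p := 10955) (l := 1) rfl N10955 D12111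
theorem N12015 : nd 12015 = n12112 := ndS (p := 10959) (l := 5) rfl N10959 D12112
theorem N12016 : nd 12016 = n12113 := ndS (p := 10961) (l := 4) rfl N10961 D12113
theorem N12017 : nd 12017 = n12114 := ndS (p := 10962) (l := 6) rfl N10962 D12114
theorem N12018 : nd 12018 = n12115 := ndS (p := 10964) (l := 6) rfl N10964 D12115
theorem N12019 : nd 12019 = n12116 := ndS (p := 10965) (l := 7) rfl N10965 D12116
theorem N12020 : nd 12020 = n12117 := ndS (p := 10967) (l := 3) rfl N10967 D12117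
theorem N12021 : nd 12021 = n12118 := ndS (p := 10970) (l := 4) rfl N10970 D12118
theorem N12022 : nd 12022 = n12119 := ndS (p := 10971) (l := 4) rfl N10971 D12119
theorem N12023 : nd 12023 = n12120 := ndS (p := 10981) (l := 2) rfl N10981 D12120
theorem N12024 : nd 12024 = n12121 := ndS (p := 10981) (l := 5) rfl N10981 D12121
theorem N12025 : nd 12025 = n12122 := ndS (p := 10982) (l := 6) rfl N10982 D12122
theorem N12026 : nd 12026 = n12123 := ndS (p := 10983) (l := 5) rfl N10983 D12123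
theorem N12027 : nd 12027 = n12124 := ndS (p := 10985) (l := 7) rfl N10985 D12124
theorem N12028 : nd 12028 = n12125 := ndS (p := 10987) (l := 6) rfl N10987 D12125
theorem N12029 : nd 12029 = n12126 := ndS (p := 10989) (l := 7) rfl N10989 D12126
theorem N12030 : nd 12030 = n12127 := ndS (p := 10990) (l := 3) rfl N10990 D12127
theorem N12031 : nd 12031 = n12128 := ndS (p := 10993) (l := 5) rfl N10993 D12128
theorem N12032 : nd 12032 = n12129 := ndS (p := 10994) (l := 1) rfl N10994 D12129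
theorem N12033 : nd 12033 = n12130 := ndS (p := 10995) (l := 6) rfl N10995 D12130
theorem N12034 : nd 12034 = n12131 := ndS (p := 10997) (l := 7) rfl N10997 D12131
theorem N12035 : nd 12035 = n12132 := ndS (p := 11006) (l := 5) rfl N11006 D12132
theorem N12036 : nd 12036 = n12133 := ndS (p := 11007) (l := 1) rfl N11007 D12133
theorem N12037 : nd 12037 = n12134 := ndS (p := 11009) (l := 5) rfl N11009 D12134
theorem N12038 : nd 12038 = n12135 := ndS (p := 11010) (l := 3) rfl N11010 D12135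
theorem N12039 : nd 12039 = n12136 := ndS (p := 11010) (l := 5) rfl N11010 D12136
theorem N12040 : nd 12040 = n12137 := ndS (p := 11024) (l := 7) rfl N11024 D12137
theorem N12041 : nd 12041 = n12138 := ndS (p := 11025) (l := 3) rfl N11025 D12138
theorem N12042 : nd 12042 = n12139 := ndS (p := 11028) (l := 4) rfl N11028 D12139
theorem N12043 : nd 12043 = n12140 := ndS (p := 11032) (l := 5) rfl N11032 D12140
theorem N12044 : nd 12044 = n12141 := ndS (p := 11037) (l := 5) rfl N11037 D12141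
theorem N12045 : nd 12045 = n12142 := ndS (p := 11038) (l := 1) rfl N11038 D12142
theorem N12046 : nd 12046 = n12143 := ndS (p := 11041) (l := 1) rfl N11041 D12143
theorem N12047 : nd 12047 = n12144 := ndS (p := 11043) (l := 5) rfl N11043 D12144
theorem N12048 : nd 12048 = n12145 := ndS (p := 11044) (l := 7) rfl N11044 D12145
theorem N12049 : nd 12049 = n12146 := ndS (p := 11047) (l := 2) rfl N11047 D12146
theorem N12050 : nd 12050 = n12147 := ndS (p := 11050) (l := 3) rfl N11050 D12147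
theorem N12051 : nd 12051 = n12148 := ndS (p := 11051) (l := 5) rfl N11051 D12148
theorem N12052 : nd 12052 = n12149 := ndS (p := 11052) (l := 7) rfl N11052 D12149
theorem N12053 : nd 12053 = n12150 := ndS (p := 11055) (l := 5) rfl N11055 D12150
theorem N12054 : nd 12054 = n12151 := ndS (p := 11056) (l := 1) rfl N11056 D12151
theorem N12055 : nd 12055 = n12152 := ndS (p := 11068) (l := 1) rfl N11068 D12152
theorem N12056 : nd 12056 = n12153 := ndS (p := 11069) (l := 0) rfl N11069 D12153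
theorem N12057 : nd 12057 = n12154 := ndS (p := 11069) (l := 2) rfl N11069 D12154
theorem N12058 : nd 12058 = n12155 := ndS (p := 11070) (l := 2) rfl N11070 D12155
theorem N12059 : nd 12059 = n12156 := ndS (p := 11071) (l := 3) rfl N11071 D12156
theorem N12060 : nd 12060 = n12157 := ndS (p := 11072) (l := 2) rfl N11072 D12157
theorem N12061 : nd 12061 = n12158 := ndS (p := 11073) (l := 2) rfl N11073 D12158
theorem N12062 : nd 12062 = n12159 := ndS (p := 11074) (l := 3) rfl N11074 D12159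
theorem N12063 : nd 12063 = n12160 := ndS (p := 11075) (l := 3) rfl N11075 D12160
theorem N12064 : nd 12064 = n12161 := ndS (p := 11076) (l := 3) rfl N11076 D12161
theorem N12065 : nd 12065 = n12162 := ndS (p := 11077) (l := 4) rfl N11077 D12162
theorem N12066 : nd 12066 = n12163 := ndS (p := 11077) (l := 7) rfl N11077 D12163
theorem N12067 : nd 12067 = n12164 := ndS (p := 11079) (l := 4) rfl N11079 D12164
theorem N12068 : nd 12068 = n12165 := ndS (p := 11080) (l := 4) rfl N11080 D12165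
theorem N12069 : nd 12069 = n12166 := ndS (p := 11080) (l := 7) rfl N11080 D12166
theorem N12070 : nd 12070 = n12167 := ndS (p := 11081) (l := 7) rfl N11081 D12167
theorem N12071 : nd 12071 = n12168 := ndS (p := 11087) (l := 3) rfl N11087 D12168
theorem N12072 : nd 12072 = n12169 := ndS (p := 11088) (l := 3) rfl N11088 D12169
theorem N12073 : nd 12073 = n12170 := ndS (p := 11089) (l := 4) rfl N11089 D12170
theorem N12074 : nd 12074 = n12171 := ndS (p := 11092) (l := 4) rfl N11092 D12171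
theorem N12075 : nd 12075 = n12172 := ndS (p := 11093) (l := 3) rfl N11093 D12172
theorem N12076 : nd 12076 = n12173 := ndS (p := 11093) (l := 6) rfl N11093 D12173
theorem N12077 : nd 12077 = n12174 := ndS (p := 11094) (l := 4) rfl N11094 D12174
theorem N12078 : nd 12078 = n12175 := ndS (p := 11094) (l := 6) rfl N11094 D12175
theorem N12079 : nd 12079 = n12176 := ndS (p := 11101) (l := 3) rfl N11101 D12176
theorem N12080 : nd 12080 = n12177 := ndS (p := 11104) (l := 4) rfl N11104 D12177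
theorem N12081 : nd 12081 = n12178 := ndS (p := 11104) (l := 6) rfl N11104 D12178
theorem N12082 : nd 12082 = n12179 := ndS (p := 11107) (l := 2) rfl N11107 D12179
theorem N12083 : nd 12083 = n12180 := ndS (p := 11107) (l := 4) rfl N11107 D12180
theorem N12084 : nd 12084 = n12181 := ndS (p := 11108) (l := 4) rfl N11108 D12181
theorem N12085 : nd 12085 = n12182 := ndS (p := 11108) (l := 6) rfl N11108 D12182
theorem N12086 : nd 12086 = n12183 := ndS (p := 11112) (l := 4) rfl N11112 D12183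
theorem N12087 : nd 12087 = n12184 := ndS (p := 11113) (l := 6) rfl N11113 D12184
theorem N12088 : nd 12088 = n12185 := ndS (p := 11114) (l := 5) rfl N11114 D12185
theorem N12089 : nd 12089 = n12186 := ndS (p := 11116) (l := 7) rfl N11116 D12186
theorem N12090 : nd 12090 = n12187 := ndS (p := 11119) (l := 1) rfl N11119 D12187
theorem N12091 : nd 12091 = n12188 := ndS (p := 11125) (l := 2) rfl N11125 D12188
theorem N12092 : nd 12092 = n12189 := ndS (p := 11125) (l := 4) rfl N11125 D12189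
theorem N12093 : nd 12093 = n12190 := ndS (p := 11126) (l := 4) rfl N11126 D12190
theorem N12094 : nd 12094 = n12191 := ndS (p := 11127) (l := 6) rfl N11127 D12191
theorem N12095 : nd 12095 = n12192 := ndS (p := 11130) (l := 5) rfl N11130 D12192
theorem N12096 : nd 12096 = n12193 := ndS (p := 11130) (l := 7) rfl N11130 D12193
theorem N12097 : nd 12097 = n12194 := ndS (p := 11131) (l := 7) rfl N11131 D12194
theorem N12098 : nd 12098 = n12195 := ndS (p := 11138) (l := 3) rfl N11138 D12195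
theorem N12099 : nd 12099 = n12196 := ndS (p := 11139) (l := 4) rfl N11139 D12196
theorem N12100 : nd 12100 = n12197 := ndS (p := 11141) (l := 1) rfl N11141 D12197
theorem N12101 : nd 12101 = n12198 := ndS (p := 11143) (l := 5) rfl N11143 D12198
theorem N12102 : nd 12102 = n12199 := ndS (p := 11146) (l := 2) rfl N11146 D12199
theorem N12103 : nd 12103 = n12200 := ndS (p := 11146) (l := 7) rfl N11146 D12200
theorem N12104 : nd 12104 = n12201 := ndS (p := 11147) (l := 6) rfl N11147 D12201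
theorem N12105 : nd 12105 = n12202 := ndS (p := 11148) (l := 5) rfl N11148 D12202
theorem N12106 : nd 12106 = n12203 := ndS (p := 11149) (l := 1) rfl N11149 D12203
theorem N12107 : nd 12107 = n12204 := ndS (p := 11150) (l := 0) rfl N11150 D12204
theorem N12108 : nd 12108 = n12205 := ndS (p := 11150) (l := 2) rfl N11150 D12205
theorem N12109 : nd 12109 = n12206 := ndS (p := 11152) (l := 3) rfl N11152 D12206
theorem N12110 : nd 12110 = n12207 := ndS (p := 11158) (l := 3) rfl N11158 D12207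
theorem N12111 : nd 12111 = n12208 := ndS (p := 11160) (l := 7) rfl N11160 D12208
theorem N12112 : nd 12112 = n12209 := ndS (p := 11164) (l := 3) rfl N11164 D12209
theorem N12113 : nd 12113 = n12210 := ndS (p := 11165) (l := 4) rfl N11165 D12210
theorem N12114 : nd 12114 = n12211 := ndS (p := 11168) (l := 7) rfl N11168 D12211
theorem N12115 : nd 12115 = n12212 := ndS (p := 11169) (l := 7) rfl N11169 D12212
theorem N12116 : nd 12116 = n12213 := ndS (p := 11172) (l := 2) rfl N11172 D12213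
theorem N12117 : nd 12117 = n12214 := ndS (p := 11172) (l := 7) rfl N11172 D12214
theorem N12118 : nd 12118 = n12215 := ndS (p := 11173) (l := 3) rfl N11173 D12215
theorem N12119 : nd 12119 = n12216 := ndS (p := 11173) (l := 6) rfl N11173 D12216
theorem N12120 : nd 12120 = n12217 := ndS (p := 11174) (l := 4) rfl N11174 D12217
theorem N12121 : nd 12121 = n12218 := ndS (p := 11176) (l := 2) rfl N11176 D12218
theorem N12122 : nd 12122 = n12219 := ndS (p := 11176) (l := 4) rfl N11176 D12219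
theorem N12123 : nd 12123 = n12220 := ndS (p := 11176) (l := 6) rfl N11176 D12220
theorem N12124 : nd 12124 = n12221 := ndS (p := 11178) (l := 4) rfl N11178 D12221
theorem N12125 : nd 12125 = n12222 := ndS (p := 11180) (l := 4) rfl N11180 D12222
theorem N12126 : nd 12126 = n12223 := ndS (p := 11182) (l := 4) rfl N11182 D12223
theorem N12127 : nd 12127 = n12224 := ndS (p := 11191) (l := 2) rfl N11191 D12224
theorem N12128 : nd 12128 = n12225 := ndS (p := 11192) (l := 3) rfl N11192 D12225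
theorem N12129 : nd 12129 = n12226 := ndS (p := 11194) (l := 3) rfl N11194 D12226
theorem N12130 : nd 12130 = n12227 := ndS (p := 11200) (l := 2) rfl N11200 D12227
theorem N12131 : nd 12131 = n12228 := ndS (p := 11201) (l := 3) rfl N11201 D12228
theorem N12132 : nd 12132 = n12229 := ndS (p := 11202) (l := 3) rfl N11202 D12229
theorem N12133 : nd 12133 = n12230 := ndS (p := 11203) (l := 4) rfl N11203 D12230
theorem N12134 : nd 12134 = n12231 := ndS (p := 11204) (l := 2) rfl N11204 D12231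
theorem N12135 : nd 12135 = n12232 := ndS (p := 11204) (l := 7) rfl N11204 D12232
theorem N12136 : nd 12136 = n12233 := ndS (p := 11206) (l := 2) rfl N11206 D12233
theorem N12137 : nd 12137 = n12234 := ndS (p := 11215) (l := 4) rfl N11215 D12234
theorem N12138 : nd 12138 = n12235 := ndS (p := 11217) (l := 4) rfl N11217 D12235
theorem N12139 : nd 12139 = n12236 := ndS (p := 11220) (l := 4) rfl N11220 D12236
theorem N12140 : nd 12140 = n12237 := ndS (p := 11221) (l := 2) rfl N11221 D12237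
theorem N12141 : nd 12141 = n12238 := ndS (p := 11222) (l := 3) rfl N11222 D12238
theorem N12142 : nd 12142 = n12239 := ndS (p := 11223) (l := 4) rfl N11223 D12239
theorem N12143 : nd 12143 = n12240 := ndS (p := 11223) (l := 7) rfl N11223 D12240
theorem N12144 : nd 12144 = n12241 := ndS (p := 11227) (l := 4) rfl N11227 D12241
theorem N12145 : nd 12145 = n12242 := ndS (p := 11228) (l := 3) rfl N11228 D12242
theorem N12146 : nd 12146 = n12243 := ndS (p := 11229) (l := 6) rfl N11229 D12243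
theorem N12147 : nd 12147 = n12244 := ndS (p := 11231) (l := 4) rfl N11231 D12244
theorem N12148 : nd 12148 = n12245 := ndS (p := 11232) (l := 7) rfl N11232 D12245
theorem N12149 : nd 12149 = n12246 := ndS (p := 11234) (l := 2) rfl N11234 D12246
theorem N12150 : nd 12150 = n12247 := ndS (p := 11235) (l := 3) rfl N11235 D12247
theorem N12151 : nd 12151 = n12248 := ndS (p := 11238) (l := 4) rfl N11238 D12248
theorem N12152 : nd 12152 = n12249 := ndS (p := 11252) (l := 7) rfl N11252 D12249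
theorem N12153 : nd 12153 = n12250 := ndS (p := 11254) (l := 3) rfl N11254 D12250
theorem N12154 : nd 12154 = n12251 := ndS (p := 11255) (l := 2) rfl N11255 D12251
theorem N12155 : nd 12155 = n12252 := ndS (p := 11269) (l := 3) rfl N11269 D12252
theorem N12156 : nd 12156 = n12253 := ndS (p := 11270) (l := 4) rfl N11270 D12253
theorem N12157 : nd 12157 = n12254 := ndS (p := 11273) (l := 4) rfl N11273 D12254
theorem N12158 : nd 12158 = n12255 := ndS (p := 11274) (l := 4) rfl N11274 D12255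
theorem N12159 : nd 12159 = n12256 := ndS (p := 11276) (l := 4) rfl N11276 D12256
theorem N12160 : nd 12160 = n12257 := ndS (p := 11279) (l := 3) rfl N11279 D12257
theorem N12161 : nd 12161 = n12258 := ndS (p := 11280) (l := 4) rfl N11280 D12258
theorem N12162 : nd 12162 = n12259 := ndS (p := 11282) (l := 4) rfl N11282 D12259
theorem N12163 : nd 12163 = n12260 := ndS (p := 11284) (l := 3) rfl N11284 D12260
theorem N12164 : nd 12164 = n12261 := ndS (p := 11285) (l := 4) rfl N11285 D12261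
theorem N12165 : nd 12165 = n12262 := ndS (p := 11285) (l := 7) rfl N11285 D12262
theorem N12166 : nd 12166 = n12263 := ndS (p := 11288) (l := 4) rfl N11288 D12263
theorem N12167 : nd 12167 = n12264 := ndS (p := 11289) (l := 7) rfl N11289 D12264
theorem N12168 : nd 12168 = n12265 := ndS (p := 11291) (l := 3) rfl N11291 D12265
theorem N12169 : nd 12169 = n12266 := ndS (p := 11293) (l := 4) rfl N11293 D12266
theorem N12170 : nd 12170 = n12267 := ndS (p := 11294) (l := 7) rfl N11294 D12267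
theorem N12171 : nd 12171 = n12268 := ndS (p := 11296) (l := 4) rfl N11296 D12268
theorem N12172 : nd 12172 = n12269 := ndS (p := 11296) (l := 7) rfl N11296 D12269
theorem N12173 : nd 12173 = n12270 := ndS (p := 11297) (l := 7) rfl N11297 D12270
theorem N12174 : nd 12174 = n12271 := ndS (p := 11298) (l := 6) rfl N11298 D12271
theorem N12175 : nd 12175 = n12272 := ndS (p := 11299) (l := 3) rfl N11299 D12272
theorem N12176 : nd 12176 = n12273 := ndS (p := 11299) (l := 6) rfl N11299 D12273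
theorem N12177 : nd 12177 = n12274 := ndS (p := 11300) (l := 5) rfl N11300 D12274
theorem N12178 : nd 12178 = n12275 := ndS (p := 11302) (l := 4) rfl N11302 D12275
theorem N12179 : nd 12179 = n12276 := ndS (p := 11302) (l := 6) rfl N11302 D12276
theorem N12180 : nd 12180 = n12277 := ndS (p := 11305) (l := 4) rfl N11305 D12277
theorem N12181 : nd 12181 = n12278 := ndS (p := 11306) (l := 2) rfl N11306 D12278
theorem N12182 : nd 12182 = n12279 := ndS (p := 11306) (l := 4) rfl N11306 D12279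
theorem N12183 : nd 12183 = n12280 := ndS (p := 11307) (l := 4) rfl N11307 D12280
theorem N12184 : nd 12184 = n12281 := ndS (p := 11309) (l := 4) rfl N11309 D12281
theorem N12185 : nd 12185 = n12282 := ndS (p := 11311) (l := 4) rfl N11311 D12282
theorem N12186 : nd 12186 = n12283 := ndS (p := 11312) (l := 6) rfl N11312 D12283
theorem N12187 : nd 12187 = n12284 := ndS (p := 11314) (l := 3) rfl N11314 D12284
theorem N12188 : nd 12188 = n12285 := ndS (p := 11316) (l := 4) rfl N11316 D12285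
theorem N12189 : nd 12189 = n12286 := ndS (p := 11317) (l := 4) rfl N11317 D12286
theorem N12190 : nd 12190 = n12287 := ndS (p := 11321) (l := 4) rfl N11321 D12287
theorem N12191 : nd 12191 = n12288 := ndS (p := 11323) (l := 2) rfl N11323 D12288
theorem N12192 : nd 12192 = n12289 := ndS (p := 11323) (l := 4) rfl N11323 D12289
theorem N12193 : nd 12193 = n12290 := ndS (p := 11324) (l := 1) rfl N11324 D12290
theorem N12194 : nd 12194 = n12291 := ndS (p := 11324) (l := 4) rfl N11324 D12291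
theorem N12195 : nd 12195 = n12292 := ndS (p := 11326) (l := 4) rfl N11326 D12292
theorem N12196 : nd 12196 = n12293 := ndS (p := 11327) (l := 6) rfl N11327 D12293
theorem N12197 : nd 12197 = n12294 := ndS (p := 11329) (l := 4) rfl N11329 D12294
theorem N12198 : nd 12198 = n12295 := ndS (p := 11329) (l := 5) rfl N11329 D12295
theorem N12199 : nd 12199 = n12296 := ndS (p := 11337) (l := 3) rfl N11337 D12296
theorem N12200 : nd 12200 = n12297 := ndS (p := 11339) (l := 6) rfl N11339 D12297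
theorem N12201 : nd 12201 = n12298 := ndS (p := 11344) (l := 2) rfl N11344 D12298
theorem N12202 : nd 12202 = n12299 := ndS (p := 11345) (l := 4) rfl N11345 D12299
theorem N12203 : nd 12203 = n12300 := ndS (p := 11347) (l := 3) rfl N11347 D12300
theorem N12204 : nd 12204 = n12301 := ndS (p := 11349) (l := 4) rfl N11349 D12301
theorem N12205 : nd 12205 = n12302 := ndS (p := 11351) (l := 5) rfl N11351 D12302
theorem N12206 : nd 12206 = n12303 := ndS (p := 11361) (l := 4) rfl N11361 D12303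
theorem N12207 : nd 12207 = n12304 := ndS (p := 11363) (l := 4) rfl N11363 D12304
theorem N12208 : nd 12208 = n12305 := ndS (p := 11364) (l := 4) rfl N11364 D12305
theorem N12209 : nd 12209 = n12306 := ndS (p := 11367) (l := 2) rfl N11367 D12306
theorem N12210 : nd 12210 = n12307 := ndS (p := 11369) (l := 4) rfl N11369 D12307
theorem N12211 : nd 12211 = n12308 := ndS (p := 11377) (l := 4) rfl N11377 D12308
theorem N12212 : nd 12212 = n12309 := ndS (p := 11379) (l := 6) rfl N11379 D12309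
theorem N12213 : nd 12213 = n12310 := ndS (p := 11381) (l := 4) rfl N11381 D12310
theorem N12214 : nd 12214 = n12311 := ndS (p := 11382) (l := 6) rfl N11382 D12311
theorem N12215 : nd 12215 = n12312 := ndS (p := 11384) (l := 4) rfl N11384 D12312
theorem N12216 : nd 12216 = n12313 := ndS (p := 11385) (l := 6) rfl N11385 D12313
theorem N12217 : nd 12217 = n12314 := ndS (p := 11386) (l := 5) rfl N11386 D12314
theorem N12218 : nd 12218 = n12315 := ndS (p := 11386) (l := 7) rfl N11386 D12315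
theorem N12219 : nd 12219 = n12316 := ndS (p := 11388) (l := 7) rfl N11388 D12316
theorem N12220 : nd 12220 = n12317 := ndS (p := 11394) (l := 5) rfl N11394 D12317
theorem N12221 : nd 12221 = n12318 := ndS (p := 11395) (l := 1) rfl N11395 D12318
theorem N12222 : nd 12222 = n12319 := ndS (p := 11403) (l := 2) rfl N11403 D12319
theorem N12223 : nd 12223 = n12320 := ndS (p := 11413) (l := 4) rfl N11413 D12320
theorem N12224 : nd 12224 = n12321 := ndS (p := 11420) (l := 2) rfl N11420 D12321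
theorem N12225 : nd 12225 = n12322 := ndS (p := 11423) (l := 3) rfl N11423 D12322
theorem N12226 : nd 12226 = n12323 := ndS (p := 11424) (l := 5) rfl N11424 D12323
theorem N12227 : nd 12227 = n12324 := ndS (p := 11425) (l := 1) rfl N11425 D12324
theorem N12228 : nd 12228 = n12325 := ndS (p := 11428) (l := 3) rfl N11428 D12325
theorem N12229 : nd 12229 = n12326 := ndS (p := 11429) (l := 4) rfl N11429 D12326
theorem N12230 : nd 12230 = n12327 := ndS (p := 11429) (l := 7) rfl N11429 D12327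
theorem N12231 : nd 12231 = n12328 := ndS (p := 11430) (l := 4) rfl N11430 D12328
theorem N12232 : nd 12232 = n12329 := ndS (p := 11432) (l := 3) rfl N11432 D12329
theorem N12233 : nd 12233 = n12330 := ndS (p := 11433) (l := 5) rfl N11433 D12330
theorem N12234 : nd 12234 = n12331 := ndS (p := 11434) (l := 1) rfl N11434 D12331
theorem N12235 : nd 12235 = n12332 := ndS (p := 11437) (l := 3) rfl N11437 D12332
theorem N12236 : nd 12236 = n12333 := ndS (p := 11438) (l := 4) rfl N11438 D12333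
theorem N12237 : nd 12237 = n12334 := ndS (p := 11439) (l := 5) rfl N11439 D12334
theorem N12238 : nd 12238 = n12335 := ndS (p := 11441) (l := 6) rfl N11441 D12335
theorem N12239 : nd 12239 = n12336 := ndS (p := 11442) (l := 5) rfl N11442 D12336
theorem N12240 : nd 12240 = n12337 := ndS (p := 11444) (l := 1) rfl N11444 D12337
theorem N12241 : nd 12241 = n12338 := ndS (p := 11444) (l := 7) rfl N11444 D12338
theorem N12242 : nd 12242 = n12339 := ndS (p := 11445) (l := 3) rfl N11445 D12339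
theorem N12243 : nd 12243 = n12340 := ndS (p := 11446) (l := 2) rfl N11446 D12340
theorem N12244 : nd 12244 = n12341 := ndS (p := 11446) (l := 7) rfl N11446 D12341
theorem N12245 : nd 12245 = n12342 := ndS (p := 11447) (l := 6) rfl N11447 D12342
theorem N12246 : nd 12246 = n12343 := ndS (p := 11449) (l := 3) rfl N11449 D12343
theorem N12247 : nd 12247 = n12344 := ndS (p := 11452) (l := 3) rfl N11452 D12344
theorem N12248 : nd 12248 = n12345 := ndS (p := 11455) (l := 4) rfl N11455 D12345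
theorem N12249 : nd 12249 = n12346 := ndS (p := 11455) (l := 7) rfl N11455 D12346
theorem N12250 : nd 12250 = n12347 := ndS (p := 11457) (l := 3) rfl N11457 D12347
theorem N12251 : nd 12251 = n12348 := ndS (p := 11458) (l := 4) rfl N11458 D12348
theorem N12252 : nd 12252 = n12349 := ndS (p := 11460) (l := 3) rfl N11460 D12349
theorem N12253 : nd 12253 = n12350 := ndS (p := 11461) (l := 3) rfl N11461 D12350
theorem N12254 : nd 12254 = n12351 := ndS (p := 11462) (l := 4) rfl N11462 D12351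
theorem N12255 : nd 12255 = n12352 := ndS (p := 11462) (l := 6) rfl N11462 D12352
theorem N12256 : nd 12256 = n12353 := ndS (p := 11465) (l := 4) rfl N11465 D12353
theorem N12257 : nd 12257 = n12354 := ndS (p := 11466) (l := 4) rfl N11466 D12354
theorem N12258 : nd 12258 = n12355 := ndS (p := 11466) (l := 7) rfl N11466 D12355
theorem N12259 : nd 12259 = n12356 := ndS (p := 11467) (l := 7) rfl N11467 D12356
theorem N12260 : nd 12260 = n12357 := ndS (p := 11472) (l := 4) rfl N11472 D12357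
theorem N12261 : nd 12261 = n12358 := ndS (p := 11473) (l := 4) rfl N11473 D12358
theorem N12262 : nd 12262 = n12359 := ndS (p := 11474) (l := 4) rfl N11474 D12359
theorem N12263 : nd 12263 = n12360 := ndS (p := 11475) (l := 7) rfl N11475 D12360
theorem N12264 : nd 12264 = n12361 := ndS (p := 11477) (l := 5) rfl N11477 D12361
theorem N12265 : nd 12265 = n12362 := ndS (p := 11479) (l := 3) rfl N11479 D12362
theorem N12266 : nd 12266 = n12363 := ndS (p := 11480) (l := 3) rfl N11480 D12363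
theorem N12267 : nd 12267 = n12364 := ndS (p := 11482) (l := 4) rfl N11482 D12364
theorem N12268 : nd 12268 = n12365 := ndS (p := 11482) (l := 7) rfl N11482 D12365
theorem N12269 : nd 12269 = n12366 := ndS (p := 11483) (l := 4) rfl N11483 D12366
theorem N12270 : nd 12270 = n12367 := ndS (p := 11484) (l := 7) rfl N11484 D12367
theorem N12271 : nd 12271 = n12368 := ndS (p := 11485) (l := 6) rfl N11485 D12368
theorem N12272 : nd 12272 = n12369 := ndS (p := 11486) (l := 3) rfl N11486 D12369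
theorem N12273 : nd 12273 = n12370 := ndS (p := 11487) (l := 4) rfl N11487 D12370
theorem N12274 : nd 12274 = n12371 := ndS (p := 11487) (l := 6) rfl N11487 D12371
theorem N12275 : nd 12275 = n12372 := ndS (p := 11490) (l := 3) rfl N11490 D12372
theorem N12276 : nd 12276 = n12373 := ndS (p := 11491) (l := 3) rfl N11491 D12373
theorem N12277 : nd 12277 = n12374 := ndS (p := 11492) (l := 4) rfl N11492 D12374
theorem N12278 : nd 12278 = n12375 := ndS (p := 11496) (l := 4) rfl N11496 D12375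
theorem N12279 : nd 12279 = n12376 := ndS (p := 11497) (l := 4) rfl N11497 D12376
theorem N12280 : nd 12280 = n12377 := ndS (p := 11499) (l := 4) rfl N11499 D12377
theorem N12281 : nd 12281 = n12378 := ndS (p := 11501) (l := 2) rfl N11501 D12378
theorem N12282 : nd 12282 = n12379 := ndS (p := 11501) (l := 4) rfl N11501 D12379
theorem N12283 : nd 12283 = n12380 := ndS (p := 11501) (l := 7) rfl N11501 D12380
theorem N12284 : nd 12284 = n12381 := ndS (p := 11502) (l := 7) rfl N11502 D12381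
theorem N12285 : nd 12285 = n12382 := ndS (p := 11504) (l := 3) rfl N11504 D12382
theorem N12286 : nd 12286 = n12383 := ndS (p := 11504) (l := 6) rfl N11504 D12383
theorem N12287 : nd 12287 = n12384 := ndS (p := 11506) (l := 4) rfl N11506 D12384
theorem N12288 : nd 12288 = n12385 := ndS (p := 11508) (l := 4) rfl N11508 D12385
theorem N12289 : nd 12289 = n12386 := ndS (p := 11508) (l := 6) rfl N11508 D12386
theorem N12290 : nd 12290 = n12387 := ndS (p := 11511) (l := 4) rfl N11511 D12387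
theorem N12291 : nd 12291 = n12388 := ndS (p := 11512) (l := 6) rfl N11512 D12388
theorem N12292 : nd 12292 = n12389 := ndS (p := 11519) (l := 3) rfl N11519 D12389
theorem N12293 : nd 12293 = n12390 := ndS (p := 11520) (l := 4) rfl N11520 D12390
theorem N12294 : nd 12294 = n12391 := ndS (p := 11520) (l := 6) rfl N11520 D12391
theorem N12295 : nd 12295 = n12392 := ndS (p := 11524) (l := 3) rfl N11524 D12392
theorem N12296 : nd 12296 = n12393 := ndS (p := 11526) (l := 4) rfl N11526 D12393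
theorem N12297 : nd 12297 = n12394 := ndS (p := 11527) (l := 4) rfl N11527 D12394
theorem N12298 : nd 12298 = n12395 := ndS (p := 11529) (l := 4) rfl N11529 D12395
theorem N12299 : nd 12299 = n12396 := ndS (p := 11529) (l := 6) rfl N11529 D12396
theorem N12300 : nd 12300 = n12397 := ndS (p := 11532) (l := 4) rfl N11532 D12397
theorem N12301 : nd 12301 = n12398 := ndS (p := 11533) (l := 4) rfl N11533 D12398
theorem N12302 : nd 12302 = n12399 := ndS (p := 11534) (l := 6) rfl N11534 D12399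
theorem N12303 : nd 12303 = n12400 := ndS (p := 11537) (l := 4) rfl N11537 D12400
theorem N12304 : nd 12304 = n12401 := ndS (p := 11539) (l := 4) rfl N11539 D12401
theorem N12305 : nd 12305 = n12402 := ndS (p := 11541) (l := 4) rfl N11541 D12402
theorem N12306 : nd 12306 = n12403 := ndS (p := 11543) (l := 3) rfl N11543 D12403
theorem N12307 : nd 12307 = n12404 := ndS (p := 11545) (l := 6) rfl N11545 D12404
theorem N12308 : nd 12308 = n12405 := ndS (p := 11547) (l := 3) rfl N11547 D12405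
theorem N12309 : nd 12309 = n12406 := ndS (p := 11550) (l := 4) rfl N11550 D12406
theorem N12310 : nd 12310 = n12407 := ndS (p := 11552) (l := 6) rfl N11552 D12407
theorem N12311 : nd 12311 = n12408 := ndS (p := 11561) (l := 4) rfl N11561 D12408
theorem N12312 : nd 12312 = n12409 := ndS (p := 11561) (l := 6) rfl N11561 D12409
theorem N12313 : nd 12313 = n12410 := ndS (p := 11565) (l := 2) rfl N11565 D12410
theorem N12314 : nd 12314 = n12411 := ndS (p := 11566) (l := 4) rfl N11566 D12411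
theorem N12315 : nd 12315 = n12412 := ndS (p := 11568) (l := 6) rfl N11568 D12412
theorem N12316 : nd 12316 = n12413 := ndS (p := 11572) (l := 4) rfl N11572 D12413
theorem N12317 : nd 12317 = n12414 := ndS (p := 11573) (l := 6) rfl N11573 D12414
theorem N12318 : nd 12318 = n12415 := ndS (p := 11574) (l := 5) rfl N11574 D12415
theorem N12319 : nd 12319 = n12416 := ndS (p := 11584) (l := 7) rfl N11584 D12416
theorem N12320 : nd 12320 = n12417 := ndS (p := 11589) (l := 3) rfl N11589 D12417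
theorem N12321 : nd 12321 = n12418 := ndS (p := 11594) (l := 3) rfl N11594 D12418
theorem N12322 : nd 12322 = n12419 := ndS (p := 11595) (l := 4) rfl N11595 D12419
theorem N12323 : nd 12323 = n12420 := ndS (p := 11596) (l := 4) rfl N11596 D12420
theorem N12324 : nd 12324 = n12421 := ndS (p := 11597) (l := 7) rfl N11597 D12421
theorem N12325 : nd 12325 = n12422 := ndS (p := 11599) (l := 4) rfl N11599 D12422
theorem N12326 : nd 12326 = n12423 := ndS (p := 11602) (l := 7) rfl N11602 D12423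
theorem N12327 : nd 12327 = n12424 := ndS (p := 11604) (l := 3) rfl N11604 D12424
theorem N12328 : nd 12328 = n12425 := ndS (p := 11605) (l := 4) rfl N11605 D12425
theorem N12329 : nd 12329 = n12426 := ndS (p := 11606) (l := 7) rfl N11606 D12426
theorem N12330 : nd 12330 = n12427 := ndS (p := 11608) (l := 3) rfl N11608 D12427
theorem N12331 : nd 12331 = n12428 := ndS (p := 11608) (l := 6) rfl N11608 D12428
theorem N12332 : nd 12332 = n12429 := ndS (p := 11615) (l := 3) rfl N11615 D12429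
theorem N12333 : nd 12333 = n12430 := ndS (p := 11616) (l := 2) rfl N11616 D12430
theorem N12334 : nd 12334 = n12431 := ndS (p := 11616) (l := 6) rfl N11616 D12431
theorem N12335 : nd 12335 = n12432 := ndS (p := 11618) (l := 4) rfl N11618 D12432
theorem N12336 : nd 12336 = n12433 := ndS (p := 11621) (l := 1) rfl N11621 D12433
theorem N12337 : nd 12337 = n12434 := ndS (p := 11625) (l := 4) rfl N11625 D12434
theorem N12338 : nd 12338 = n12435 := ndS (p := 11625) (l := 6) rfl N11625 D12435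
theorem N12339 : nd 12339 = n12436 := ndS (p := 11628) (l := 3) rfl N11628 D12436
theorem N12340 : nd 12340 = n12437 := ndS (p := 11629) (l := 4) rfl N11629 D12437
theorem N12341 : nd 12341 = n12438 := ndS (p := 11630) (l := 6) rfl N11630 D12438
theorem N12342 : nd 12342 = n12439 := ndS (p := 11633) (l := 4) rfl N11633 D12439
theorem N12343 : nd 12343 = n12440 := ndS (p := 11633) (l := 5) rfl N11633 D12440
theorem N12344 : nd 12344 = n12441 := ndS (p := 11634) (l := 3) rfl N11634 D12441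
theorem N12345 : nd 12345 = n12442 := ndS (p := 11636) (l := 3) rfl N11636 D12442
theorem N12346 : nd 12346 = n12443 := ndS (p := 11636) (l := 5) rfl N11636 D12443
theorem N12347 : nd 12347 = n12444 := ndS (p := 11637) (l := 6) rfl N11637 D12444
theorem N12348 : nd 12348 = n12445 := ndS (p := 11641) (l := 7) rfl N11641 D12445
theorem N12349 : nd 12349 = n12446 := ndS (p := 11643) (l := 3) rfl N11643 D12446
theorem N12350 : nd 12350 = n12447 := ndS (p := 11644) (l := 4) rfl N11644 D12447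
theorem N12351 : nd 12351 = n12448 := ndS (p := 11644) (l := 6) rfl N11644 D12448
theorem N12352 : nd 12352 = n12449 := ndS (p := 11648) (l := 4) rfl N11648 D12449
theorem N12353 : nd 12353 = n12450 := ndS (p := 11649) (l := 6) rfl N11649 D12450
theorem N12354 : nd 12354 = n12451 := ndS (p := 11654) (l := 1) rfl N11654 D12451
theorem N12355 : nd 12355 = n12452 := ndS (p := 11656) (l := 4) rfl N11656 D12452
theorem N12356 : nd 12356 = n12453 := ndS (p := 11657) (l := 6) rfl N11657 D12453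
theorem N12357 : nd 12357 = n12454 := ndS (p := 11659) (l := 4) rfl N11659 D12454
theorem N12358 : nd 12358 = n12455 := ndS (p := 11661) (l := 6) rfl N11661 D12455
theorem N12359 : nd 12359 = n12456 := ndS (p := 11662) (l := 7) rfl N11662 D12456
theorem N12360 : nd 12360 = n12457 := ndS (p := 11663) (l := 4) rfl N11663 D12457
theorem N12361 : nd 12361 = n12458 := ndS (p := 11664) (l := 6) rfl N11664 D12458
theorem N12362 : nd 12362 = n12459 := ndS (p := 11666) (l := 7) rfl N11666 D12459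
theorem N12363 : nd 12363 = n12460 := ndS (p := 11671) (l := 5) rfl N11671 D12460
theorem N12364 : nd 12364 = n12461 := ndS (p := 11679) (l := 4) rfl N11679 D12461
theorem N12365 : nd 12365 = n12462 := ndS (p := 11680) (l := 6) rfl N11680 D12462
theorem N12366 : nd 12366 = n12463 := ndS (p := 11683) (l := 4) rfl N11683 D12463
theorem N12367 : nd 12367 = n12464 := ndS (p := 11684) (l := 6) rfl N11684 D12464
theorem N12368 : nd 12368 = n12465 := ndS (p := 11686) (l := 7) rfl N11686 D12465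
theorem N12369 : nd 12369 = n12466 := ndS (p := 11688) (l := 3) rfl N11688 D12466
theorem N12370 : nd 12370 = n12467 := ndS (p := 11688) (l := 6) rfl N11688 D12467
theorem N12371 : nd 12371 = n12468 := ndS (p := 11689) (l := 5) rfl N11689 D12468
theorem N12372 : nd 12372 = n12469 := ndS (p := 11690) (l := 6) rfl N11690 D12469
theorem N12373 : nd 12373 = n12470 := ndS (p := 11691) (l := 5) rfl N11691 D12470
theorem N12374 : nd 12374 = n12471 := ndS (p := 11692) (l := 1) rfl N11692 D12471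
theorem N12375 : nd 12375 = n12472 := ndS (p := 11693) (l := 1) rfl N11693 D12472
theorem N12376 : nd 12376 = n12473 := ndS (p := 11695) (l := 3) rfl N11695 D12473
theorem N12377 : nd 12377 = n12474 := ndS (p := 11700) (l := 3) rfl N11700 D12474
theorem N12378 : nd 12378 = n12475 := ndS (p := 11702) (l := 4) rfl N11702 D12475
theorem N12379 : nd 12379 = n12476 := ndS (p := 11713) (l := 4) rfl N11713 D12476
theorem N12380 : nd 12380 = n12477 := ndS (p := 11714) (l := 4) rfl N11714 D12477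
theorem N12381 : nd 12381 = n12478 := ndS (p := 11716) (l := 4) rfl N11716 D12478
theorem N12382 : nd 12382 = n12479 := ndS (p := 11717) (l := 4) rfl N11717 D12479
theorem N12383 : nd 12383 = n12480 := ndS (p := 11718) (l := 7) rfl N11718 D12480
theorem N12384 : nd 12384 = n12481 := ndS (p := 11720) (l := 7) rfl N11720 D12481
theorem N12385 : nd 12385 = n12482 := ndS (p := 11722) (l := 3) rfl N11722 D12482
theorem N12386 : nd 12386 = n12483 := ndS (p := 11722) (l := 6) rfl N11722 D12483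
theorem N12387 : nd 12387 = n12484 := ndS (p := 11725) (l := 6) rfl N11725 D12484
theorem N12388 : nd 12388 = n12485 := ndS (p := 11727) (l := 6) rfl N11727 D12485
theorem N12389 : nd 12389 = n12486 := ndS (p := 11728) (l := 5) rfl N11728 D12486
theorem N12390 : nd 12390 = n12487 := ndS (p := 11730) (l := 4) rfl N11730 D12487
theorem N12391 : nd 12391 = n12488 := ndS (p := 11733) (l := 4) rfl N11733 D12488
theorem N12392 : nd 12392 = n12489 := ndS (p := 11735) (l := 4) rfl N11735 D12489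
theorem N12393 : nd 12393 = n12490 := ndS (p := 11738) (l := 1) rfl N11738 D12490
theorem N12394 : nd 12394 = n12491 := ndS (p := 11738) (l := 6) rfl N11738 D12491
theorem N12395 : nd 12395 = n12492 := ndS (p := 11739) (l := 5) rfl N11739 D12492
theorem N12396 : nd 12396 = n12493 := ndS (p := 11739) (l := 7) rfl N11739 D12493
theorem N12397 : nd 12397 = n12494 := ndS (p := 11740) (l := 1) rfl N11740 D12494
theorem N12398 : nd 12398 = n12495 := ndS (p := 11742) (l := 4) rfl N11742 D12495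
theorem N12399 : nd 12399 = n12496 := ndS (p := 11744) (l := 4) rfl N11744 D12496
theorem N12400 : nd 12400 = n12497 := ndS (p := 11749) (l := 1) rfl N11749 D12497
theorem N12401 : nd 12401 = n12498 := ndS (p := 11749) (l := 4) rfl N11749 D12498
theorem N12402 : nd 12402 = n12499 := ndS (p := 11751) (l := 3) rfl N11751 D12499
theorem N12403 : nd 12403 = n12500 := ndS (p := 11752) (l := 3) rfl N11752 D12500
theorem N12404 : nd 12404 = n12501 := ndS (p := 11752) (l := 5) rfl N11752 D12501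
theorem N12405 : nd 12405 = n12502 := ndS (p := 11754) (l := 7) rfl N11754 D12502
theorem N12406 : nd 12406 = n12503 := ndS (p := 11755) (l := 7) rfl N11755 D12503
theorem N12407 : nd 12407 = n12504 := ndS (p := 11758) (l := 3) rfl N11758 D12504
theorem N12408 : nd 12408 = n12505 := ndS (p := 11759) (l := 2) rfl N11759 D12505
theorem N12409 : nd 12409 = n12506 := ndS (p := 11759) (l := 7) rfl N11759 D12506
theorem N12410 : nd 12410 = n12507 := ndS (p := 11760) (l := 6) rfl N11760 D12507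
theorem N12411 : nd 12411 = n12508 := ndS (p := 11762) (l := 6) rfl N11762 D12508
theorem N12412 : nd 12412 = n12509 := ndS (p := 11763) (l := 5) rfl N11763 D12509
theorem N12413 : nd 12413 = n12510 := ndS (p := 11764) (l := 1) rfl N11764 D12510
theorem N12414 : nd 12414 = n12511 := ndS (p := 11770) (l := 5) rfl N11770 D12511
theorem N12415 : nd 12415 = n12512 := ndS (p := 11772) (l := 3) rfl N11772 D12512
theorem N12416 : nd 12416 = n12513 := ndS (p := 11773) (l := 3) rfl N11773 D12513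
theorem N12417 : nd 12417 = n12514 := ndS (p := 11774) (l := 3) rfl N11774 D12514
theorem N12418 : nd 12418 = n12515 := ndS (p := 11775) (l := 4) rfl N11775 D12515
theorem N12419 : nd 12419 = n12516 := ndS (p := 11776) (l := 4) rfl N11776 D12516
theorem N12420 : nd 12420 = n12517 := ndS (p := 11776) (l := 7) rfl N11776 D12517
theorem N12421 : nd 12421 = n12518 := ndS (p := 11777) (l := 7) rfl N11777 D12518
theorem N12422 : nd 12422 = n12519 := ndS (p := 11779) (l := 4) rfl N11779 D12519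
theorem N12423 : nd 12423 = n12520 := ndS (p := 11781) (l := 4) rfl N11781 D12520
theorem N12424 : nd 12424 = n12521 := ndS (p := 11782) (l := 7) rfl N11782 D12521
theorem N12425 : nd 12425 = n12522 := ndS (p := 11784) (l := 3) rfl N11784 D12522
theorem N12426 : nd 12426 = n12523 := ndS (p := 11785) (l := 4) rfl N11785 D12523
theorem N12427 : nd 12427 = n12524 := ndS (p := 11785) (l := 7) rfl N11785 D12524
theorem N12428 : nd 12428 = n12525 := ndS (p := 11786) (l := 7) rfl N11786 D12525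
theorem N12429 : nd 12429 = n12526 := ndS (p := 11789) (l := 7) rfl N11789 D12526
theorem N12430 : nd 12430 = n12527 := ndS (p := 11791) (l := 3) rfl N11791 D12527
theorem N12431 : nd 12431 = n12528 := ndS (p := 11792) (l := 4) rfl N11792 D12528
theorem N12432 : nd 12432 = n12529 := ndS (p := 11793) (l := 5) rfl N11793 D12529
theorem N12433 : nd 12433 = n12530 := ndS (p := 11793) (l := 7) rfl N11793 D12530
theorem N12434 : nd 12434 = n12531 := ndS (p := 11796) (l := 3) rfl N11796 D12531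
theorem N12435 : nd 12435 = n12532 := ndS (p := 11797) (l := 2) rfl N11797 D12532
theorem N12436 : nd 12436 = n12533 := ndS (p := 11797) (l := 6) rfl N11797 D12533
theorem N12437 : nd 12437 = n12534 := ndS (p := 11801) (l := 4) rfl N11801 D12534
theorem N12438 : nd 12438 = n12535 := ndS (p := 11803) (l := 4) rfl N11803 D12535
theorem N12439 : nd 12439 = n12536 := ndS (p := 11805) (l := 4) rfl N11805 D12536
theorem N12440 : nd 12440 = n12537 := ndS (p := 11806) (l := 7) rfl N11806 D12537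
theorem N12441 : nd 12441 = n12538 := ndS (p := 11809) (l := 6) rfl N11809 D12538
theorem N12442 : nd 12442 = n12539 := ndS (p := 11811) (l := 6) rfl N11811 D12539
theorem N12443 : nd 12443 = n12540 := ndS (p := 11812) (l := 5) rfl N11812 D12540
theorem N12444 : nd 12444 = n12541 := ndS (p := 11814) (l := 6) rfl N11814 D12541
theorem N12445 : nd 12445 = n12542 := ndS (p := 11816) (l := 4) rfl N11816 D12542
theorem N12446 : nd 12446 = n12543 := ndS (p := 11818) (l := 3) rfl N11818 D12543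
theorem N12447 : nd 12447 = n12544 := ndS (p := 11818) (l := 6) rfl N11818 D12544
theorem N12448 : nd 12448 = n12545 := ndS (p := 11820) (l := 2) rfl N11820 D12545
theorem N12449 : nd 12449 = n12546 := ndS (p := 11822) (l := 4) rfl N11822 D12546
theorem N12450 : nd 12450 = n12547 := ndS (p := 11823) (l := 4) rfl N11823 D12547
theorem N12451 : nd 12451 = n12548 := ndS (p := 11824) (l := 7) rfl N11824 D12548
theorem N12452 : nd 12452 = n12549 := ndS (p := 11827) (l := 3) rfl N11827 D12549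
theorem N12453 : nd 12453 = n12550 := ndS (p := 11828) (l := 6) rfl N11828 D12550
theorem N12454 : nd 12454 = n12551 := ndS (p := 11829) (l := 5) rfl N11829 D12551
theorem N12455 : nd 12455 = n12552 := ndS (p := 11832) (l := 6) rfl N11832 D12552
theorem N12456 : nd 12456 = n12553 := ndS (p := 11833) (l := 3) rfl N11833 D12553
theorem N12457 : nd 12457 = n12554 := ndS (p := 11836) (l := 6) rfl N11836 D12554
theorem N12458 : nd 12458 = n12555 := ndS (p := 11838) (l := 1) rfl N11838 D12555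
theorem N12459 : nd 12459 = n12556 := ndS (p := 11838) (l := 6) rfl N11838 D12556
theorem N12460 : nd 12460 = n12557 := ndS (p := 11839) (l := 5) rfl N11839 D12557
theorem N12461 : nd 12461 = n12558 := ndS (p := 11839) (l := 7) rfl N11839 D12558
theorem N12462 : nd 12462 = n12559 := ndS (p := 11841) (l := 4) rfl N11841 D12559
theorem N12463 : nd 12463 = n12560 := ndS (p := 11842) (l := 4) rfl N11842 D12560
theorem N12464 : nd 12464 = n12561 := ndS (p := 11843) (l := 7) rfl N11843 D12561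
theorem N12465 : nd 12465 = n12562 := ndS (p := 11845) (l := 4) rfl N11845 D12562
theorem N12466 : nd 12466 = n12563 := ndS (p := 11845) (l := 5) rfl N11845 D12563
theorem N12467 : nd 12467 = n12564 := ndS (p := 11849) (l := 5) rfl N11849 D12564
theorem N12468 : nd 12468 = n12565 := ndS (p := 11850) (l := 5) rfl N11850 D12565
theorem N12469 : nd 12469 = n12566 := ndS (p := 11851) (l := 6) rfl N11851 D12566
theorem N12470 : nd 12470 = n12567 := ndS (p := 11851) (l := 7) rfl N11851 D12567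
theorem N12471 : nd 12471 = n12568 := ndS (p := 11854) (l := 5) rfl N11854 D12568
theorem N12472 : nd 12472 = n12569 := ndS (p := 11855) (l := 5) rfl N11855 D12569
theorem N12473 : nd 12473 = n12570 := ndS (p := 11859) (l := 5) rfl N11859 D12570
theorem N12474 : nd 12474 = n12571 := ndS (p := 11861) (l := 5) rfl N11861 D12571
theorem N12475 : nd 12475 = n12572 := ndS (p := 11861) (l := 7) rfl N11861 D12572
theorem N12476 : nd 12476 = n12573 := ndS (p := 11863) (l := 4) rfl N11863 D12573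
theorem N12477 : nd 12477 = n12574 := ndS (p := 11866) (l := 4) rfl N11866 D12574
theorem N12478 : nd 12478 = n12575 := ndS (p := 11867) (l := 4) rfl N11867 D12575
theorem N12479 : nd 12479 = n12576 := ndS (p := 11868) (l := 7) rfl N11868 D12576
theorem N12480 : nd 12480 = n12577 := ndS (p := 11870) (l := 4) rfl N11870 D12577
theorem N12481 : nd 12481 = n12578 := ndS (p := 11873) (l := 4) rfl N11873 D12578
theorem N12482 : nd 12482 = n12579 := ndS (p := 11873) (l := 7) rfl N11873 D12579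
theorem N12483 : nd 12483 = n12580 := ndS (p := 11874) (l := 7) rfl N11874 D12580
theorem N12484 : nd 12484 = n12581 := ndS (p := 11876) (l := 3) rfl N11876 D12581
theorem N12485 : nd 12485 = n12582 := ndS (p := 11878) (l := 2) rfl N11878 D12582
theorem N12486 : nd 12486 = n12583 := ndS (p := 11879) (l := 5) rfl N11879 D12583
theorem N12487 : nd 12487 = n12584 := ndS (p := 11881) (l := 6) rfl N11881 D12584
theorem N12488 : nd 12488 = n12585 := ndS (p := 11882) (l := 5) rfl N11882 D12585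
theorem N12489 : nd 12489 = n12586 := ndS (p := 11883) (l := 7) rfl N11883 D12586
theorem N12490 : nd 12490 = n12587 := ndS (p := 11884) (l := 3) rfl N11884 D12587
theorem N12491 : nd 12491 = n12588 := ndS (p := 11884) (l := 6) rfl N11884 D12588
theorem N12492 : nd 12492 = n12589 := ndS (p := 11885) (l := 2) rfl N11885 D12589
theorem N12493 : nd 12493 = n12590 := ndS (p := 11885) (l := 6) rfl N11885 D12590
theorem N12494 : nd 12494 = n12591 := ndS (p := 11886) (l := 5) rfl N11886 D12591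
theorem N12495 : nd 12495 = n12592 := ndS (p := 11892) (l := 0) rfl N11892 D12592
theorem N12496 : nd 12496 = n12593 := ndS (p := 11892) (l := 6) rfl N11892 D12593
theorem N12497 : nd 12497 = n12594 := ndS (p := 11893) (l := 5) rfl N11893 D12594
theorem N12498 : nd 12498 = n12595 := ndS (p := 11893) (l := 7) rfl N11893 D12595
theorem N12499 : nd 12499 = n12596 := ndS (p := 11894) (l := 1) rfl N11894 D12596
theorem N12500 : nd 12500 = n12597 := ndS (p := 11896) (l := 2) rfl N11896 D12597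
theorem N12501 : nd 12501 = n12598 := ndS (p := 11901) (l := 6) rfl N11901 D12598
theorem N12502 : nd 12502 = n12599 := ndS (p := 11904) (l := 4) rfl N11904 D12599
theorem N12503 : nd 12503 = n12600 := ndS (p := 11906) (l := 5) rfl N11906 D12600
theorem N12504 : nd 12504 = n12601 := ndS (p := 11909) (l := 4) rfl N11909 D12601
theorem N12505 : nd 12505 = n12602 := ndS (p := 11910) (l := 6) rfl N11910 D12602
theorem N12506 : nd 12506 = n12603 := ndS (p := 11912) (l := 4) rfl N11912 D12603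
theorem N12507 : nd 12507 = n12604 := ndS (p := 11913) (l := 3) rfl N11913 D12604
theorem N12508 : nd 12508 = n12605 := ndS (p := 11915) (l := 3) rfl N11915 D12605
theorem N12509 : nd 12509 = n12606 := ndS (p := 11919) (l := 4) rfl N11919 D12606
theorem N12510 : nd 12510 = n12607 := ndS (p := 11920) (l := 3) rfl N11920 D12607
theorem N12511 : nd 12511 = n12608 := ndS (p := 11920) (l := 6) rfl N11920 D12608
theorem N12512 : nd 12512 = n12609 := ndS (p := 11925) (l := 3) rfl N11925 D12609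
theorem N12513 : nd 12513 = n12610 := ndS (p := 11935) (l := 3) rfl N11935 D12610
theorem N12514 : nd 12514 = n12611 := ndS (p := 11937) (l := 3) rfl N11937 D12611
theorem N12515 : nd 12515 = n12612 := ndS (p := 11937) (l := 5) rfl N11937 D12612
theorem N12516 : nd 12516 = n12613 := ndS (p := 11939) (l := 2) rfl N11939 D12613
theorem N12517 : nd 12517 = n12614 := ndS (p := 11939) (l := 5) rfl N11939 D12614
theorem N12518 : nd 12518 = n12615 := ndS (p := 11939) (l := 7) rfl N11939 D12615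
theorem N12519 : nd 12519 = n12616 := ndS (p := 11940) (l := 6) rfl N11940 D12616
theorem N12520 : nd 12520 = n12617 := ndS (p := 11942) (l := 6) rfl N11942 D12617
theorem N12521 : nd 12521 = n12618 := ndS (p := 11946) (l := 7) rfl N11946 D12618
theorem N12522 : nd 12522 = n12619 := ndS (p := 11947) (l := 6) rfl N11947 D12619
theorem N12523 : nd 12523 = n12620 := ndS (p := 11950) (l := 5) rfl N11950 D12620
theorem N12524 : nd 12524 = n12621 := ndS (p := 11956) (l := 4) rfl N11956 D12621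
theorem N12525 : nd 12525 = n12622 := ndS (p := 11957) (l := 3) rfl N11957 D12622
theorem N12526 : nd 12526 = n12623 := ndS (p := 11958) (l := 4) rfl N11958 D12623
theorem N12527 : nd 12527 = n12624 := ndS (p := 11958) (l := 6) rfl N11958 D12624
theorem N12528 : nd 12528 = n12625 := ndS (p := 11961) (l := 2) rfl N11961 D12625
theorem N12529 : nd 12529 = n12626 := ndS (p := 11961) (l := 4) rfl N11961 D12626
theorem N12530 : nd 12530 = n12627 := ndS (p := 11962) (l := 6) rfl N11962 D12627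
theorem N12531 : nd 12531 = n12628 := ndS (p := 11963) (l := 7) rfl N11963 D12628
theorem N12532 : nd 12532 = n12629 := ndS (p := 11964) (l := 4) rfl N11964 D12629
theorem N12533 : nd 12533 = n12630 := ndS (p := 11968) (l := 7) rfl N11968 D12630
theorem N12534 : nd 12534 = n12631 := ndS (p := 11971) (l := 6) rfl N11971 D12631
theorem N12535 : nd 12535 = n12632 := ndS (p := 11974) (l := 6) rfl N11974 D12632
theorem N12536 : nd 12536 = n12633 := ndS (p := 11977) (l := 5) rfl N11977 D12633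
theorem N12537 : nd 12537 = n12634 := ndS (p := 11983) (l := 4) rfl N11983 D12634
theorem N12538 : nd 12538 = n12635 := ndS (p := 11988) (l := 4) rfl N11988 D12635
theorem N12539 : nd 12539 = n12636 := ndS (p := 11989) (l := 6) rfl N11989 D12636
theorem N12540 : nd 12540 = n12637 := ndS (p := 11991) (l := 5) rfl N11991 D12637
theorem N12541 : nd 12541 = n12638 := ndS (p := 11991) (l := 7) rfl N11991 D12638
theorem N12542 : nd 12542 = n12639 := ndS (p := 11994) (l := 5) rfl N11994 D12639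
theorem N12543 : nd 12543 = n12640 := ndS (p := 11996) (l := 1) rfl N11996 D12640
theorem N12544 : nd 12544 = n12641 := ndS (p := 11999) (l := 6) rfl N11999 D12641
theorem N12545 : nd 12545 = n12642 := ndS (p := 12006) (l := 3) rfl N12006 D12642
theorem N12546 : nd 12546 = n12643 := ndS (p := 12012) (l := 5) rfl N12012 D12643
theorem N12547 : nd 12547 = n12644 := ndS (p := 12020) (l := 2) rfl N12020 D12644
theorem N12548 : nd 12548 = n12645 := ndS (p := 12038) (l := 5) rfl N12038 D12645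
theorem N12549 : nd 12549 = n12646 := ndS (p := 12058) (l := 3) rfl N12058 D12646
theorem N12550 : nd 12550 = n12647 := ndS (p := 12059) (l := 4) rfl N12059 D12647
theorem N12551 : nd 12551 = n12648 := ndS (p := 12062) (l := 4) rfl N12062 D12648
theorem N12552 : nd 12552 = n12649 := ndS (p := 12063) (l := 4) rfl N12063 D12649
theorem N12553 : nd 12553 = n12650 := ndS (p := 12064) (l := 4) rfl N12064 D12650
theorem N12554 : nd 12554 = n12651 := ndS (p := 12064) (l := 7) rfl N12064 D12651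
theorem N12555 : nd 12555 = n12652 := ndS (p := 12065) (l := 7) rfl N12065 D12652
theorem N12556 : nd 12556 = n12653 := ndS (p := 12071) (l := 4) rfl N12071 D12653
theorem N12557 : nd 12557 = n12654 := ndS (p := 12072) (l := 4) rfl N12072 D12654
theorem N12558 : nd 12558 = n12655 := ndS (p := 12075) (l := 6) rfl N12075 D12655
theorem N12559 : nd 12559 = n12656 := ndS (p := 12077) (l := 6) rfl N12077 D12656
theorem N12560 : nd 12560 = n12657 := ndS (p := 12080) (l := 6) rfl N12080 D12657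
theorem N12561 : nd 12561 = n12658 := ndS (p := 12082) (l := 4) rfl N12082 D12658
theorem N12562 : nd 12562 = n12659 := ndS (p := 12084) (l := 6) rfl N12084 D12659
theorem N12563 : nd 12563 = n12660 := ndS (p := 12087) (l := 5) rfl N12087 D12660
theorem N12564 : nd 12564 = n12661 := ndS (p := 12091) (l := 4) rfl N12091 D12661
theorem N12565 : nd 12565 = n12662 := ndS (p := 12093) (l := 3) rfl N12093 D12662
theorem N12566 : nd 12566 = n12663 := ndS (p := 12095) (l := 7) rfl N12095 D12663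
theorem N12567 : nd 12567 = n12664 := ndS (p := 12098) (l := 4) rfl N12098 D12664
theorem N12568 : nd 12568 = n12665 := ndS (p := 12112) (l := 4) rfl N12112 D12665
theorem N12569 : nd 12569 = n12666 := ndS (p := 12118) (l := 4) rfl N12118 D12666
theorem N12570 : nd 12570 = n12667 := ndS (p := 12121) (l := 4) rfl N12121 D12667
theorem N12571 : nd 12571 = n12668 := ndS (p := 12122) (l := 6) rfl N12122 D12668
theorem N12572 : nd 12572 = n12669 := ndS (p := 12123) (l := 7) rfl N12123 D12669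
theorem N12573 : nd 12573 = n12670 := ndS (p := 12128) (l := 4) rfl N12128 D12670
theorem N12574 : nd 12574 = n12671 := ndS (p := 12131) (l := 4) rfl N12131 D12671
theorem N12575 : nd 12575 = n12672 := ndS (p := 12132) (l := 4) rfl N12132 D12672
theorem N12576 : nd 12576 = n12673 := ndS (p := 12141) (l := 4) rfl N12141 D12673
theorem N12577 : nd 12577 = n12674 := ndS (p := 12145) (l := 4) rfl N12145 D12674
theorem N12578 : nd 12578 = n12675 := ndS (p := 12150) (l := 4) rfl N12150 D12675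
theorem N12579 : nd 12579 = n12676 := ndS (p := 12159) (l := 3) rfl N12159 D12676
theorem N12580 : nd 12580 = n12677 := ndS (p := 12160) (l := 4) rfl N12160 D12677
theorem N12581 : nd 12581 = n12678 := ndS (p := 12168) (l := 4) rfl N12168 D12678
theorem N12582 : nd 12582 = n12679 := ndS (p := 12171) (l := 7) rfl N12171 D12679
theorem N12583 : nd 12583 = n12680 := ndS (p := 12173) (l := 3) rfl N12173 D12680
theorem N12584 : nd 12584 = n12681 := ndS (p := 12173) (l := 6) rfl N12173 D12681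
theorem N12585 : nd 12585 = n12682 := ndS (p := 12175) (l := 6) rfl N12175 D12682
theorem N12586 : nd 12586 = n12683 := ndS (p := 12176) (l := 5) rfl N12176 D12683
theorem N12587 : nd 12587 = n12684 := ndS (p := 12178) (l := 6) rfl N12178 D12684
theorem N12588 : nd 12588 = n12685 := ndS (p := 12181) (l := 4) rfl N12181 D12685
theorem N12589 : nd 12589 = n12686 := ndS (p := 12183) (l := 3) rfl N12183 D12686
theorem N12590 : nd 12590 = n12687 := ndS (p := 12191) (l := 4) rfl N12191 D12687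
theorem N12591 : nd 12591 = n12688 := ndS (p := 12193) (l := 4) rfl N12193 D12688
theorem N12592 : nd 12592 = n12689 := ndS (p := 12197) (l := 5) rfl N12197 D12689
theorem N12593 : nd 12593 = n12690 := ndS (p := 12216) (l := 5) rfl N12216 D12690
theorem N12594 : nd 12594 = n12691 := ndS (p := 12217) (l := 7) rfl N12217 D12691
theorem N12595 : nd 12595 = n12692 := ndS (p := 12220) (l := 1) rfl N12220 D12692
theorem N12596 : nd 12596 = n12693 := ndS (p := 12226) (l := 1) rfl N12226 D12693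
theorem N12597 : nd 12597 = n12694 := ndS (p := 12228) (l := 4) rfl N12228 D12694
theorem N12598 : nd 12598 = n12695 := ndS (p := 12229) (l := 7) rfl N12229 D12695
theorem N12599 : nd 12599 = n12696 := ndS (p := 12233) (l := 1) rfl N12233 D12696
theorem N12600 : nd 12600 = n12697 := ndS (p := 12235) (l := 4) rfl N12235 D12697
theorem N12601 : nd 12601 = n12698 := ndS (p := 12238) (l := 5) rfl N12238 D12698
theorem N12602 : nd 12602 = n12699 := ndS (p := 12240) (l := 2) rfl N12240 D12699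
theorem N12603 : nd 12603 = n12700 := ndS (p := 12240) (l := 7) rfl N12240 D12700
theorem N12604 : nd 12604 = n12701 := ndS (p := 12241) (l := 3) rfl N12241 D12701
theorem N12605 : nd 12605 = n12702 := ndS (p := 12241) (l := 6) rfl N12241 D12702
theorem N12606 : nd 12606 = n12703 := ndS (p := 12247) (l := 4) rfl N12247 D12703
theorem N12607 : nd 12607 = n12704 := ndS (p := 12248) (l := 7) rfl N12248 D12704
theorem N12608 : nd 12608 = n12705 := ndS (p := 12250) (l := 4) rfl N12250 D12705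
theorem N12609 : nd 12609 = n12706 := ndS (p := 12252) (l := 4) rfl N12252 D12706
theorem N12610 : nd 12610 = n12707 := ndS (p := 12253) (l := 4) rfl N12253 D12707
theorem N12611 : nd 12611 = n12708 := ndS (p := 12254) (l := 6) rfl N12254 D12708
theorem N12612 : nd 12612 = n12709 := ndS (p := 12257) (l := 7) rfl N12257 D12709
theorem N12613 : nd 12613 = n12710 := ndS (p := 12259) (l := 3) rfl N12259 D12710
theorem N12614 : nd 12614 = n12711 := ndS (p := 12263) (l := 3) rfl N12263 D12711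
theorem N12615 : nd 12615 = n12712 := ndS (p := 12265) (l := 4) rfl N12265 D12712
theorem N12616 : nd 12616 = n12713 := ndS (p := 12266) (l := 4) rfl N12266 D12713
theorem N12617 : nd 12617 = n12714 := ndS (p := 12267) (l := 7) rfl N12267 D12714
theorem N12618 : nd 12618 = n12715 := ndS (p := 12270) (l := 6) rfl N12270 D12715
theorem N12619 : nd 12619 = n12716 := ndS (p := 12272) (l := 4) rfl N12272 D12716
theorem N12620 : nd 12620 = n12717 := ndS (p := 12273) (l := 6) rfl N12273 D12717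
theorem N12621 : nd 12621 = n12718 := ndS (p := 12275) (l := 4) rfl N12275 D12718
theorem N12622 : nd 12622 = n12719 := ndS (p := 12276) (l := 4) rfl N12276 D12719
theorem N12623 : nd 12623 = n12720 := ndS (p := 12281) (l := 4) rfl N12281 D12720
theorem N12624 : nd 12624 = n12721 := ndS (p := 12282) (l := 7) rfl N12282 D12721
theorem N12625 : nd 12625 = n12722 := ndS (p := 12284) (l := 3) rfl N12284 D12722
theorem N12626 : nd 12626 = n12723 := ndS (p := 12285) (l := 6) rfl N12285 D12723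
theorem N12627 : nd 12627 = n12724 := ndS (p := 12288) (l := 6) rfl N12288 D12724
theorem N12628 : nd 12628 = n12725 := ndS (p := 12293) (l := 6) rfl N12293 D12725
theorem N12629 : nd 12629 = n12726 := ndS (p := 12298) (l := 6) rfl N12298 D12726
theorem N12630 : nd 12630 = n12727 := ndS (p := 12305) (l := 3) rfl N12305 D12727
theorem N12631 : nd 12631 = n12728 := ndS (p := 12311) (l := 6) rfl N12311 D12728
theorem N12632 : nd 12632 = n12729 := ndS (p := 12316) (l := 3) rfl N12316 D12729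
theorem N12633 : nd 12633 = n12730 := ndS (p := 12329) (l := 3) rfl N12329 D12730
theorem N12634 : nd 12634 = n12731 := ndS (p := 12332) (l := 2) rfl N12332 D12731
theorem N12635 : nd 12635 = n12732 := ndS (p := 12337) (l := 6) rfl N12337 D12732
theorem N12636 : nd 12636 = n12733 := ndS (p := 12342) (l := 5) rfl N12342 D12733
theorem N12637 : nd 12637 = n12734 := ndS (p := 12345) (l := 2) rfl N12345 D12734
theorem N12638 : nd 12638 = n12735 := ndS (p := 12345) (l := 5) rfl N12345 D12735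
theorem N12639 : nd 12639 = n12736 := ndS (p := 12346) (l := 6) rfl N12346 D12736
theorem N12640 : nd 12640 = n12737 := ndS (p := 12349) (l := 4) rfl N12349 D12737
theorem N12641 : nd 12641 = n12738 := ndS (p := 12350) (l := 6) rfl N12350 D12738
theorem N12642 : nd 12642 = n12739 := ndS (p := 12358) (l := 7) rfl N12358 D12739
theorem N12643 : nd 12643 = n12740 := ndS (p := 12369) (l := 6) rfl N12369 D12740
theorem N12644 : nd 12644 = n12741 := ndS (p := 12370) (l := 5) rfl N12370 D12741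
theorem N12645 : nd 12645 = n12742 := ndS (p := 12372) (l := 5) rfl N12372 D12742
theorem N12646 : nd 12646 = n12743 := ndS (p := 12373) (l := 1) rfl N12373 D12743
theorem N12647 : nd 12647 = n12744 := ndS (p := 12388) (l := 5) rfl N12388 D12744
theorem N12648 : nd 12648 = n12745 := ndS (p := 12393) (l := 6) rfl N12393 D12745
theorem N12649 : nd 12649 = n12746 := ndS (p := 12395) (l := 1) rfl N12395 D12746
theorem N12650 : nd 12650 = n12747 := ndS (p := 12395) (l := 7) rfl N12395 D12747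
theorem N12651 : nd 12651 = n12748 := ndS (p := 12400) (l := 4) rfl N12400 D12748
theorem N12652 : nd 12652 = n12749 := ndS (p := 12401) (l := 3) rfl N12401 D12749
theorem N12653 : nd 12653 = n12750 := ndS (p := 12407) (l := 2) rfl N12407 D12750
theorem N12654 : nd 12654 = n12751 := ndS (p := 12408) (l := 7) rfl N12408 D12751
theorem N12655 : nd 12655 = n12752 := ndS (p := 12409) (l := 6) rfl N12409 D12752
theorem N12656 : nd 12656 = n12753 := ndS (p := 12415) (l := 2) rfl N12415 D12753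
theorem N12657 : nd 12657 = n12754 := ndS (p := 12417) (l := 4) rfl N12417 D12754
theorem N12658 : nd 12658 = n12755 := ndS (p := 12419) (l := 7) rfl N12419 D12755
theorem N12659 : nd 12659 = n12756 := ndS (p := 12426) (l := 7) rfl N12426 D12756
theorem N12660 : nd 12660 = n12757 := ndS (p := 12436) (l := 7) rfl N12436 D12757
theorem N12661 : nd 12661 = n12758 := ndS (p := 12451) (l := 3) rfl N12451 D12758
theorem N12662 : nd 12662 = n12759 := ndS (p := 12453) (l := 5) rfl N12453 D12759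
theorem N12663 : nd 12663 = n12760 := ndS (p := 12465) (l := 5) rfl N12465 D12760
theorem N12664 : nd 12664 = n12761 := ndS (p := 12481) (l := 7) rfl N12481 D12761
theorem N12665 : nd 12665 = n12762 := ndS (p := 12487) (l := 5) rfl N12487 D12762
theorem N12666 : nd 12666 = n12763 := ndS (p := 12493) (l := 5) rfl N12493 D12763
theorem N12667 : nd 12667 = n12764 := ndS (p := 12504) (l := 3) rfl N12504 D12764
theorem N12668 : nd 12668 = n12765 := ndS (p := 12510) (l := 6) rfl N12510 D12765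
theorem N12669 : nd 12669 = n12766 := ndS (p := 12514) (l := 2) rfl N12514 D12766
theorem N12670 : nd 12670 = n12767 := ndS (p := 12514) (l := 5) rfl N12514 D12767
theorem N12671 : nd 12671 = n12768 := ndS (p := 12530) (l := 7) rfl N12530 D12768
theorem Q1 : ∀ i, i < 1 → P i := stepQ 0 Q0 (allL N0 (tt N0 F1) (tt N0 F2) (tt N0 F3) (tt N0 F4) (tt N0 F5) (tt N0 F6) (tt N0 F7) (tt N1 D1))
theorem Q2 : ∀ i, i < 2 → P i := stepQ 1 Q1 (allL N1 (tt N1 F8) (tt N1 F9) (tt N1 F10) (tt N2 D2) (tt N1 F11) (tt N1 F12) (tt N3 D3) (tt N0 (iv D1)))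
theorem Q3 : ∀ i, i < 3 → P i := stepQ 2 Q2 (allL N2 (tt N2 F13) (tt N2 F14) (tt N4 D4) (tt N1 (iv D2)) (tt N5 D5) (tt N2 F15) (tt N6 D6) (tt N2 F16))
theorem Q4 : ∀ i, i < 4 → P i := stepQ 3 Q3 (allL N3 (tt N3 F17) (tt N3 F18) (tt N3 F19) (tt N6 (iv F33)) (tt N3 F20) (tt N7 D7) (tt N1 (iv D3)) (tt N3 F21))
theorem Q5 : ∀ i, i < 5 → P i := stepQ 4 Q4 (allL N4 (tt N4 F22) (tt N8 D8) (tt N2 (iv D4)) (tt N4 F23) (tt N9 D9) (tt N4 F24) (tt N10 D10) (tt N4 F25))
theorem Q6 : ∀ i, i < 6 → P i := stepQ 5 Q5 (allL N5 (tt N5 F26) (tt N5 F27) (tt N9 (iv F43)) (tt N5 F28) (tt N2 (iv D5)) (tt N5 F29) (tt N11 D11) (tt N5 F30))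
theorem Q7 : ∀ i, i < 7 → P i := stepQ 6 Q6 (allL N6 (tt N6 F31) (tt N6 F32) (tt N10 (iv F47)) (tt N3 F33) (tt N11 (iv F52)) (tt N12 D12) (tt N2 (iv D6)) (tt N13 D13))
theorem Q8 : ∀ i, i < 8 → P i := stepQ 7 Q7 (allL N7 (tt N7 F34) (tt N14 D14) (tt N7 F35) (tt N12 (iv F54)) (tt N7 F36) (tt N3 (iv D7)) (tt N7 F37) (tt N7 F38))
theorem Q9 : ∀ i, i < 9 → P i := stepQ 8 Q8 (allL N8 (tt N15 D15) (tt N4 (iv D8)) (tt N8 F39) (tt N8 F40) (tt N16 D16) (tt N17 D17) (tt N18 D18) (tt N8 F41))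
theorem Q10 : ∀ i, i < 10 → P i := stepQ 9 Q9 (allL N9 (tt N9 F42) (tt N16 (iv F68)) (tt N5 F43) (tt N19 D19) (tt N4 (iv D9)) (tt N9 F44) (tt N20 D20) (tt N9 F45))
theorem Q11 : ∀ i, i < 11 → P i := stepQ 10 Q10 (allL N10 (tt N10 F46) (tt N18 (iv F75)) (tt N6 F47) (tt N10 F48) (tt N20 (iv F84)) (tt N21 D21) (tt N4 (iv D10)) (tt N22 D22))
theorem Q12 : ∀ i, i < 12 → P i := stepQ 11 Q11 (allL N11 (tt N11 F49) (tt N11 F50) (tt N20 (iv F83)) (tt N11 F51) (tt N6 F52) (tt N23 D23) (tt N5 (iv D11)) (tt N24 D24))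
theorem Q13 : ∀ i, i < 13 → P i := stepQ 12 Q12 (allL N12 (tt N12 F53) (tt N25 D25) (tt N21 (iv F86)) (tt N7 F54) (tt N23 (iv F94)) (tt N6 (iv D12)) (tt N12 F55) (tt N26 D26))
theorem Q14 : ∀ i, i < 14 → P i := stepQ 13 Q13 (allL N13 (tt N13 F56) (tt N13 F57) (tt N22 (iv F90)) (tt N13 F58) (tt N24 (iv F98)) (tt N26 (iv F105)) (tt N13 F59) (tt N6 (iv D13)))
theorem Q15 : ∀ i, i < 15 → P i := stepQ 14 Q14 (allL N14 (tt N27 D27) (tt N7 (iv D14)) (tt N28 D28) (tt N25 (iv F100)) (tt N14 F60) (tt N14 F61) (tt N14 F62) (tt N14 F63))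
theorem Q16 : ∀ i, i < 16 → P i := stepQ 15 Q15 (allL N15 (tt N8 (iv D15)) (tt N15 F64) (tt N15 F65) (tt N15 F66) (tt N29 D29) (tt N30 D30) (tt N31 D31) (tt N15 F67))
theorem Q17 : ∀ i, i < 17 → P i := stepQ 16 Q16 (allL N16 (tt N29 (iv F116)) (tt N9 F68) (tt N16 F69) (tt N32 D32) (tt N8 (iv D16)) (tt N33 D33) (tt N34 D34) (tt N16 F70))
theorem Q18 : ∀ i, i < 18 → P i := stepQ 17 Q17 (allL N17 (tt N30 (iv F120)) (tt N17 F71) (tt N17 F72) (tt N17 F73) (tt N33 (iv F132)) (tt N8 (iv D17)) (tt N35 D35) (tt N17 F74))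
theorem Q19 : ∀ i, i < 19 → P i := stepQ 18 Q18 (allL N18 (tt N31 (iv F124)) (tt N10 F75) (tt N18 F76) (tt N18 F77) (tt N34 (iv F136)) (tt N36 D36) (tt N8 (iv D18)) (tt N37 D37))
theorem Q20 : ∀ i, i < 20 → P i := stepQ 19 Q19 (allL N19 (tt N19 F78) (tt N32 (iv F128)) (tt N19 F79) (tt N9 (iv D19)) (tt N19 F80) (tt N19 F81) (tt N38 D38) (tt N39 D39))
theorem Q21 : ∀ i, i < 21 → P i := stepQ 20 Q20 (allL N20 (tt N20 F82) (tt N34 (iv F134)) (tt N11 F83) (tt N38 (iv F147)) (tt N10 F84) (tt N40 D40) (tt N9 (iv D20)) (tt N41 D41))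
theorem Q22 : ∀ i, i < 22 → P i := stepQ 21 Q21 (allL N21 (tt N21 F85) (tt N42 D42) (tt N12 F86) (tt N21 F87) (tt N40 (iv F156)) (tt N10 (iv D21)) (tt N21 F88) (tt N43 D43))
theorem Q23 : ∀ i, i < 23 → P i := stepQ 22 Q22 (allL N22 (tt N22 F89) (tt N37 (iv F142)) (tt N13 F90) (tt N44 D44) (tt N41 (iv F160)) (tt N43 (iv F166)) (tt N22 F91) (tt N10 (iv D22)))
theorem Q24 : ∀ i, i < 24 → P i := stepQ 23 Q23 (allL N23 (tt N23 F92) (tt N45 D45) (tt N40 (iv F155)) (tt N23 F93) (tt N12 F94) (tt N11 (iv D23)) (tt N23 F95) (tt N46 D46))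
theorem Q25 : ∀ i, i < 25 → P i := stepQ 24 Q24 (allL N24 (tt N24 F96) (tt N24 F97) (tt N41 (iv F159)) (tt N47 D47) (tt N13 F98) (tt N46 (iv F177)) (tt N24 F99) (tt N11 (iv D24)))
theorem Q26 : ∀ i, i < 26 → P i := stepQ 25 Q25 (allL N25 (tt N48 D48) (tt N12 (iv D25)) (tt N49 D49) (tt N14 F100) (tt N45 (iv F172)) (tt N25 F101) (tt N25 F102) (tt N50 D50))
theorem Q27 : ∀ i, i < 27 → P i := stepQ 26 Q26 (allL N26 (tt N26 F103) (tt N50 (iv F189)) (tt N43 (iv F165)) (tt N26 F104) (tt N46 (iv F176)) (tt N13 F105) (tt N51 D51) (tt N12 (iv D26)))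
theorem Q28 : ∀ i, i < 28 → P i := stepQ 27 Q27 (allL N27 (tt N14 (iv D27)) (tt N27 F106) (tt N52 D52) (tt N48 (iv F184)) (tt N27 F107) (tt N27 F108) (tt N27 F109) (tt N27 F110))
theorem Q29 : ∀ i, i < 29 → P i := stepQ 28 Q28 (allL N28 (tt N52 (iv F196)) (tt N28 F111) (tt N14 (iv D28)) (tt N53 D53) (tt N28 F112) (tt N28 F113) (tt N28 F114) (tt N28 F115))
theorem Q30 : ∀ i, i < 30 → P i := stepQ 29 Q29 (allL N29 (tt N16 F116) (tt N29 F117) (tt N29 F118) (tt N54 D54) (tt N15 (iv D29)) (tt N55 D55) (tt N56 D56) (tt N29 F119))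
theorem Q31 : ∀ i, i < 31 → P i := stepQ 30 Q30 (allL N30 (tt N17 F120) (tt N57 D57) (tt N30 F121) (tt N30 F122) (tt N55 (iv F209)) (tt N15 (iv D30)) (tt N58 D58) (tt N30 F123))
theorem Q32 : ∀ i, i < 32 → P i := stepQ 31 Q31 (allL N31 (tt N18 F124) (tt N31 F125) (tt N31 F126) (tt N31 F127) (tt N56 (iv F214)) (tt N59 D59) (tt N15 (iv D31)) (tt N60 D60))
theorem Q33 : ∀ i, i < 33 → P i := stepQ 32 Q32 (allL N32 (tt N54 (iv F204)) (tt N19 F128) (tt N61 D61) (tt N16 (iv D32)) (tt N32 F129) (tt N62 D62) (tt N63 D63) (tt N64 D64))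
theorem Q34 : ∀ i, i < 34 → P i := stepQ 33 Q33 (allL N33 (tt N55 (iv F207)) (tt N33 F130) (tt N33 F131) (tt N62 (iv F233)) (tt N17 F132) (tt N16 (iv D33)) (tt N65 D65) (tt N33 F133))
theorem Q35 : ∀ i, i < 35 → P i := stepQ 34 Q34 (allL N34 (tt N56 (iv F211)) (tt N20 F134) (tt N34 F135) (tt N63 (iv F236)) (tt N18 F136) (tt N66 D66) (tt N16 (iv D34)) (tt N67 D67))
theorem Q36 : ∀ i, i < 36 → P i := stepQ 35 Q35 (allL N35 (tt N58 (iv F219)) (tt N35 F137) (tt N35 F138) (tt N35 F139) (tt N65 (iv F243)) (tt N68 D68) (tt N17 (iv D35)) (tt N69 D69))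
theorem Q37 : ∀ i, i < 37 → P i := stepQ 36 Q36 (allL N36 (tt N59 (iv F222)) (tt N70 D70) (tt N36 F140) (tt N36 F141) (tt N66 (iv F245)) (tt N18 (iv D36)) (tt N68 (iv F252)) (tt N71 D71))
theorem Q38 : ∀ i, i < 38 → P i := stepQ 37 Q37 (allL N37 (tt N60 (iv F225)) (tt N22 F142) (tt N37 F143) (tt N72 D72) (tt N67 (iv F248)) (tt N71 (iv F259)) (tt N37 F144) (tt N18 (iv D37)))
theorem Q39 : ∀ i, i < 39 → P i := stepQ 38 Q38 (allL N38 (tt N38 F145) (tt N63 (iv F235)) (tt N38 F146) (tt N20 F147) (tt N38 F148) (tt N73 D73) (tt N19 (iv D38)) (tt N74 D74))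
theorem Q40 : ∀ i, i < 40 → P i := stepQ 39 Q39 (allL N39 (tt N39 F149) (tt N64 (iv F238)) (tt N39 F150) (tt N39 F151) (tt N39 F152) (tt N39 F153) (tt N75 D75) (tt N19 (iv D39)))
theorem Q41 : ∀ i, i < 41 → P i := stepQ 40 Q40 (allL N40 (tt N40 F154) (tt N76 D76) (tt N23 F155) (tt N73 (iv F265)) (tt N21 F156) (tt N20 (iv D40)) (tt N40 F157) (tt N77 D77))
theorem Q42 : ∀ i, i < 42 → P i := stepQ 41 Q41 (allL N41 (tt N41 F158) (tt N67 (iv F246)) (tt N24 F159) (tt N78 D78) (tt N22 F160) (tt N77 (iv F280)) (tt N41 F161) (tt N20 (iv D41)))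
theorem Q43 : ∀ i, i < 43 → P i := stepQ 42 Q42 (allL N42 (tt N79 D79) (tt N21 (iv D42)) (tt N80 D80) (tt N42 F162) (tt N76 (iv F275)) (tt N70 (iv F257)) (tt N42 F163) (tt N81 D81))
theorem Q44 : ∀ i, i < 44 → P i := stepQ 43 Q43 (allL N43 (tt N43 F164) (tt N81 (iv F288)) (tt N26 F165) (tt N82 D82) (tt N77 (iv F279)) (tt N22 F166) (tt N83 D83) (tt N21 (iv D43)))
theorem Q45 : ∀ i, i < 45 → P i := stepQ 44 Q44 (allL N44 (tt N44 F167) (tt N72 (iv F260)) (tt N44 F168) (tt N22 (iv D44)) (tt N84 D84) (tt N82 (iv F291)) (tt N44 F169) (tt N44 F170))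
theorem Q46 : ∀ i, i < 46 → P i := stepQ 45 Q45 (allL N45 (tt N85 D85) (tt N23 (iv D45)) (tt N86 D86) (tt N45 F171) (tt N25 F172) (tt N45 F173) (tt N45 F174) (tt N87 D87))
theorem Q47 : ∀ i, i < 47 → P i := stepQ 46 Q46 (allL N46 (tt N46 F175) (tt N87 (iv F309)) (tt N77 (iv F278)) (tt N88 D88) (tt N26 F176) (tt N24 F177) (tt N89 D89) (tt N23 (iv D46)))
theorem Q48 : ∀ i, i < 48 → P i := stepQ 47 Q47 (allL N47 (tt N47 F178) (tt N47 F179) (tt N90 D90) (tt N24 (iv D47)) (tt N47 F180) (tt N88 (iv F314)) (tt N47 F181) (tt N47 F182))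
theorem Q49 : ∀ i, i < 49 → P i := stepQ 48 Q48 (allL N48 (tt N25 (iv D48)) (tt N48 F183) (tt N91 D91) (tt N27 F184) (tt N85 (iv F303)) (tt N48 F185) (tt N48 F186) (tt N92 D92))
theorem Q50 : ∀ i, i < 50 → P i := stepQ 49 Q49 (allL N49 (tt N91 (iv F324)) (tt N80 (iv F286)) (tt N25 (iv D49)) (tt N93 D93) (tt N86 (iv F306)) (tt N49 F187) (tt N49 F188) (tt N94 D94))
theorem Q51 : ∀ i, i < 51 → P i := stepQ 50 Q50 (allL N50 (tt N92 (iv F327)) (tt N26 F189) (tt N94 (iv F334)) (tt N50 F190) (tt N87 (iv F310)) (tt N50 F191) (tt N95 D95) (tt N25 (iv D50)))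
theorem Q52 : ∀ i, i < 52 → P i := stepQ 51 Q51 (allL N51 (tt N51 F192) (tt N95 (iv F336)) (tt N83 (iv F294)) (tt N51 F193) (tt N89 (iv F317)) (tt N51 F194) (tt N26 (iv D51)) (tt N51 F195))
theorem Q53 : ∀ i, i < 53 → P i := stepQ 52 Q52 (allL N52 (tt N28 F196) (tt N96 D96) (tt N27 (iv D52)) (tt N97 D97) (tt N52 F197) (tt N52 F198) (tt N52 F199) (tt N52 F200))
theorem Q54 : ∀ i, i < 54 → P i := stepQ 53 Q53 (allL N53 (tt N97 (iv F344)) (tt N53 F201) (tt N93 (iv F331)) (tt N28 (iv D53)) (tt N98 D98) (tt N53 F202) (tt N53 F203) (tt N99 D99))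
theorem Q55 : ∀ i, i < 55 → P i := stepQ 54 Q54 (allL N54 (tt N32 F204) (tt N54 F205) (tt N100 D100) (tt N29 (iv D54)) (tt N54 F206) (tt N101 D101) (tt N102 D102) (tt N103 D103))
theorem Q56 : ∀ i, i < 56 → P i := stepQ 55 Q55 (allL N55 (tt N33 F207) (tt N104 D104) (tt N55 F208) (tt N101 (iv F358)) (tt N30 F209) (tt N29 (iv D55)) (tt N105 D105) (tt N55 F210))
theorem Q57 : ∀ i, i < 57 → P i := stepQ 56 Q56 (allL N56 (tt N34 F211) (tt N56 F212) (tt N56 F213) (tt N102 (iv F362)) (tt N31 F214) (tt N106 D106) (tt N29 (iv D56)) (tt N107 D107))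
theorem Q58 : ∀ i, i < 58 → P i := stepQ 57 Q57 (allL N57 (tt N57 F215) (tt N30 (iv D57)) (tt N108 D108) (tt N57 F216) (tt N104 (iv F369)) (tt N57 F217) (tt N109 D109) (tt N57 F218))
theorem Q59 : ∀ i, i < 59 → P i := stepQ 58 Q58 (allL N58 (tt N35 F219) (tt N109 (iv F388)) (tt N58 F220) (tt N58 F221) (tt N105 (iv F374)) (tt N110 D110) (tt N30 (iv D58)) (tt N111 D111))
theorem Q60 : ∀ i, i < 60 → P i := stepQ 59 Q59 (allL N59 (tt N36 F222) (tt N112 D112) (tt N59 F223) (tt N59 F224) (tt N106 (iv F377)) (tt N31 (iv D59)) (tt N110 (iv F393)) (tt N113 D113))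
theorem Q61 : ∀ i, i < 61 → P i := stepQ 60 Q60 (allL N60 (tt N37 F225) (tt N60 F226) (tt N60 F227) (tt N114 D114) (tt N107 (iv F381)) (tt N113 (iv F401)) (tt N60 F228) (tt N31 (iv D60)))
theorem Q62 : ∀ i, i < 62 → P i := stepQ 61 Q61 (allL N61 (tt N100 (iv F354)) (tt N61 F229) (tt N32 (iv D61)) (tt N61 F230) (tt N61 F231) (tt N64 F1417) (tt N115 D116) (tt N62 F1418))
theorem Q63 : ∀ i, i < 63 → P i := stepQ 62 Q62 (allL N62 (tt N101 (iv F357)) (tt N62 F232) (tt N64 (iv F1415)) (tt N33 F233) (tt N62 F234) (tt N32 (iv D62)) (tt N116 D118) (tt N61 (iv F1418)))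
theorem Q64 : ∀ i, i < 64 → P i := stepQ 63 Q63 (allL N63 (tt N102 (iv F360)) (tt N38 F235) (tt N115 (iv F410)) (tt N34 F236) (tt N63 F237) (tt N117 D120) (tt N32 (iv D63)) (tt N118 D121))
theorem Q65 : ∀ i, i < 65 → P i := stepQ 64 Q64 (allL N64 (tt N103 (iv F364)) (tt N39 F238) (tt N62 F1415) (tt N64 F239) (tt N64 F240) (tt N61 (iv F1417)) (tt N119 D122) (tt N32 (iv D64)))
theorem Q66 : ∀ i, i < 66 → P i := stepQ 65 Q65 (allL N65 (tt N105 (iv F372)) (tt N65 F241) (tt N65 F242) (tt N116 (iv F417)) (tt N35 F243) (tt N120 D123) (tt N33 (iv D65)) (tt N121 D124))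
theorem Q67 : ∀ i, i < 67 → P i := stepQ 66 Q66 (allL N66 (tt N106 (iv F375)) (tt N122 D125) (tt N66 F244) (tt N117 (iv F423)) (tt N36 F245) (tt N34 (iv D66)) (tt N120 (iv F432)) (tt N123 D126))
theorem Q68 : ∀ i, i < 68 → P i := stepQ 67 Q67 (allL N67 (tt N107 (iv F378)) (tt N41 F246) (tt N67 F247) (tt N124 D127) (tt N37 F248) (tt N123 (iv F441)) (tt N67 F249) (tt N34 (iv D67)))
theorem Q69 : ∀ i, i < 69 → P i := stepQ 68 Q68 (allL N68 (tt N110 (iv F390)) (tt N125 D128) (tt N68 F250) (tt N68 F251) (tt N120 (iv F431)) (tt N35 (iv D68)) (tt N36 F252) (tt N126 D129))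
theorem Q70 : ∀ i, i < 70 → P i := stepQ 69 Q69 (allL N69 (tt N111 (iv F394)) (tt N69 F253) (tt N69 F254) (tt N127 D130) (tt N121 (iv F435)) (tt N126 (iv F448)) (tt N69 F255) (tt N35 (iv D69)))
theorem Q71 : ∀ i, i < 71 → P i := stepQ 70 Q70 (allL N70 (tt N128 D131) (tt N36 (iv D70)) (tt N129 D132) (tt N70 F256) (tt N122 (iv F437)) (tt N42 F257) (tt N125 (iv F446)) (tt N130 D133))
theorem Q72 : ∀ i, i < 72 → P i := stepQ 71 Q71 (allL N71 (tt N113 (iv F399)) (tt N130 (iv F456)) (tt N71 F258) (tt N131 D134) (tt N123 (iv F440)) (tt N37 F259) (tt N132 D135) (tt N36 (iv D71)))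
theorem Q73 : ∀ i, i < 73 → P i := stepQ 72 Q72 (allL N72 (tt N114 (iv F402)) (tt N44 F260) (tt N133 D136) (tt N37 (iv D72)) (tt N134 D137) (tt N131 (iv F458)) (tt N72 F261) (tt N72 F262))
theorem Q74 : ∀ i, i < 74 → P i := stepQ 73 Q73 (allL N73 (tt N73 F263) (tt N135 D138) (tt N73 F264) (tt N40 F265) (tt N73 F266) (tt N38 (iv D73)) (tt N73 F267) (tt N136 D139))
theorem Q75 : ∀ i, i < 75 → P i := stepQ 74 Q74 (allL N74 (tt N74 F268) (tt N118 (iv F425)) (tt N74 F269) (tt N137 D140) (tt N74 F270) (tt N136 (iv F475)) (tt N138 D141) (tt N38 (iv D74)))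
theorem Q76 : ∀ i, i < 76 → P i := stepQ 75 Q75 (allL N75 (tt N75 F271) (tt N119 (iv F427)) (tt N75 F272) (tt N75 F273) (tt N75 F274) (tt N139 D142) (tt N39 (iv D75)) (tt N138 (iv F481)))
theorem Q77 : ∀ i, i < 77 → P i := stepQ 76 Q76 (allL N76 (tt N140 D143) (tt N40 (iv D76)) (tt N141 D144) (tt N135 (iv F469)) (tt N42 F275) (tt N122 (iv F438)) (tt N76 F276) (tt N142 D145))
theorem Q78 : ∀ i, i < 78 → P i := stepQ 77 Q77 (allL N77 (tt N77 F277) (tt N142 (iv F493)) (tt N46 F278) (tt N143 D146) (tt N43 F279) (tt N41 F280) (tt N144 D147) (tt N40 (iv D77)))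
theorem Q79 : ∀ i, i < 79 → P i := stepQ 78 Q78 (allL N78 (tt N78 F281) (tt N124 (iv F442)) (tt N145 D148) (tt N41 (iv D78)) (tt N146 D149) (tt N143 (iv F496)) (tt N78 F282) (tt N137 (iv F477)))
theorem Q80 : ∀ i, i < 80 → P i := stepQ 79 Q79 (allL N79 (tt N42 (iv D79)) (tt N79 F283) (tt N147 D150) (tt N79 F284) (tt N140 (iv F488)) (tt N128 (iv F453)) (tt N79 F285) (tt N148 D151))
theorem Q81 : ∀ i, i < 81 → P i := stepQ 80 Q80 (allL N80 (tt N147 (iv F508)) (tt N49 F286) (tt N42 (iv D80)) (tt N149 D152) (tt N141 (iv F491)) (tt N129 (iv F455)) (tt N80 F287) (tt N150 D153))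
theorem Q82 : ∀ i, i < 82 → P i := stepQ 81 Q81 (allL N81 (tt N148 (iv F510)) (tt N43 F288) (tt N150 (iv F516)) (tt N151 D154) (tt N142 (iv F494)) (tt N130 (iv F457)) (tt N152 D155) (tt N42 (iv D81)))
theorem Q83 : ∀ i, i < 83 → P i := stepQ 82 Q82 (allL N82 (tt N82 F289) (tt N151 (iv F517)) (tt N82 F290) (tt N43 (iv D82)) (tt N153 D156) (tt N44 F291) (tt N154 D157) (tt N82 F292))
theorem Q84 : ∀ i, i < 84 → P i := stepQ 83 Q83 (allL N83 (tt N83 F293) (tt N152 (iv F519)) (tt N51 F294) (tt N154 (iv F527)) (tt N144 (iv F499)) (tt N83 F295) (tt N43 (iv D83)) (tt N83 F296))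
theorem Q85 : ∀ i, i < 85 → P i := stepQ 84 Q84 (allL N84 (tt N84 F297) (tt N134 (iv F466)) (tt N84 F298) (tt N146 (iv F506)) (tt N44 (iv D84)) (tt N153 (iv F523)) (tt N84 F299) (tt N84 F300))
theorem Q86 : ∀ i, i < 86 → P i := stepQ 85 Q85 (allL N85 (tt N45 (iv D85)) (tt N85 F301) (tt N155 D158) (tt N85 F302) (tt N48 F303) (tt N85 F304) (tt N85 F305) (tt N156 D159))
theorem Q87 : ∀ i, i < 87 → P i := stepQ 86 Q86 (allL N86 (tt N155 (iv F529)) (tt N141 (iv F490)) (tt N45 (iv D86)) (tt N157 D160) (tt N49 F306) (tt N86 F307) (tt N86 F308) (tt N158 D161))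
theorem Q88 : ∀ i, i < 88 → P i := stepQ 87 Q87 (allL N87 (tt N156 (iv F533)) (tt N46 F309) (tt N158 (iv F540)) (tt N159 D162) (tt N50 F310) (tt N87 F311) (tt N160 D163) (tt N45 (iv D87)))
theorem Q89 : ∀ i, i < 89 → P i := stepQ 88 Q88 (allL N88 (tt N88 F312) (tt N159 (iv F543)) (tt N161 D164) (tt N46 (iv D88)) (tt N88 F313) (tt N47 F314) (tt N162 D165) (tt N88 F315))
theorem Q90 : ∀ i, i < 90 → P i := stepQ 89 Q89 (allL N89 (tt N89 F316) (tt N160 (iv F547)) (tt N144 (iv F498)) (tt N162 (iv F555)) (tt N51 F317) (tt N89 F318) (tt N46 (iv D89)) (tt N89 F319))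
theorem Q91 : ∀ i, i < 91 → P i := stepQ 90 Q90 (allL N90 (tt N90 F320) (tt N163 D166) (tt N47 (iv D90)) (tt N145 (iv F503)) (tt N90 F321) (tt N161 (iv F552)) (tt N90 F322) (tt N90 F323))
theorem Q92 : ∀ i, i < 92 → P i := stepQ 91 Q91 (allL N91 (tt N49 F324) (tt N164 D167) (tt N48 (iv D91)) (tt N165 D168) (tt N155 (iv F530)) (tt N91 F325) (tt N91 F326) (tt N166 D169))
theorem Q93 : ∀ i, i < 93 → P i := stepQ 92 Q92 (allL N92 (tt N50 F327) (tt N92 F328) (tt N166 (iv F569)) (tt N92 F329) (tt N156 (iv F535)) (tt N92 F330) (tt N167 D170) (tt N48 (iv D92)))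
theorem Q94 : ∀ i, i < 94 → P i := stepQ 93 Q93 (allL N93 (tt N165 (iv F564)) (tt N149 (iv F512)) (tt N53 F331) (tt N49 (iv D93)) (tt N168 D171) (tt N93 F332) (tt N93 F333) (tt N169 D172))
theorem Q95 : ∀ i, i < 95 → P i := stepQ 94 Q94 (allL N94 (tt N166 (iv F568)) (tt N150 (iv F515)) (tt N50 F334) (tt N132 (iv F1405)) (tt N158 (iv F541)) (tt N94 F335) (tt N131 F1401) (tt N49 (iv D94)))
theorem Q96 : ∀ i, i < 96 → P i := stepQ 95 Q95 (allL N95 (tt N167 (iv F571)) (tt N51 F336) (tt N131 F1395) (tt N95 F337) (tt N160 (iv F548)) (tt N133 F1396) (tt N50 (iv D95)) (tt N95 F338))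
theorem Q97 : ∀ i, i < 97 → P i := stepQ 96 Q96 (allL N96 (tt N96 F339) (tt N52 (iv D96)) (tt N96 F340) (tt N170 D176) (tt N96 F341) (tt N171 D177) (tt N96 F342) (tt N96 F343))
theorem Q98 : ∀ i, i < 98 → P i := stepQ 97 Q97 (allL N97 (tt N53 F344) (tt N170 (iv F589)) (tt N165 (iv F565)) (tt N52 (iv D97)) (tt N172 D178) (tt N97 F345) (tt N97 F346) (tt N173 D179))
theorem Q99 : ∀ i, i < 99 → P i := stepQ 98 Q98 (allL N98 (tt N172 (iv F596)) (tt N98 F347) (tt N168 (iv F575)) (tt N98 F348) (tt N53 (iv D98)) (tt N98 F349) (tt N98 F350) (tt N174 D180))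
theorem Q100 : ∀ i, i < 100 → P i := stepQ 99 Q99 (allL N99 (tt N173 (iv F600)) (tt N99 F351) (tt N169 (iv F578)) (tt N99 F352) (tt N174 (iv F604)) (tt N99 F353) (tt N175 D181) (tt N53 (iv D99)))
theorem Q101 : ∀ i, i < 101 → P i := stepQ 100 Q100 (allL N100 (tt N61 F354) (tt N176 D182) (tt N54 (iv D100)) (tt N100 F355) (tt N100 F356) (tt N103 F1421) (tt N177 D184) (tt N101 F1422))
theorem Q102 : ∀ i, i < 102 → P i := stepQ 101 Q101 (allL N101 (tt N62 F357) (tt N178 D186) (tt N103 (iv F1420)) (tt N55 F358) (tt N101 F359) (tt N54 (iv D101)) (tt N179 D187) (tt N100 (iv F1422)))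
theorem Q103 : ∀ i, i < 103 → P i := stepQ 102 Q102 (allL N102 (tt N63 F360) (tt N102 F361) (tt N177 (iv F618)) (tt N56 F362) (tt N102 F363) (tt N180 D189) (tt N54 (iv D102)) (tt N181 D190))
theorem Q104 : ∀ i, i < 104 → P i := stepQ 103 Q103 (allL N103 (tt N64 F364) (tt N103 F365) (tt N101 F1420) (tt N103 F366) (tt N103 F367) (tt N100 (iv F1421)) (tt N182 D191) (tt N54 (iv D103)))
theorem Q105 : ∀ i, i < 105 → P i := stepQ 104 Q104 (allL N104 (tt N104 F368) (tt N55 (iv D104)) (tt N183 D192) (tt N178 (iv F625)) (tt N57 F369) (tt N104 F370) (tt N184 D193) (tt N104 F371))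
theorem Q106 : ∀ i, i < 106 → P i := stepQ 105 Q105 (allL N105 (tt N65 F372) (tt N184 (iv F651)) (tt N105 F373) (tt N179 (iv F629)) (tt N58 F374) (tt N185 D194) (tt N55 (iv D105)) (tt N186 D195))
theorem Q107 : ∀ i, i < 107 → P i := stepQ 106 Q106 (allL N106 (tt N66 F375) (tt N187 D196) (tt N106 F376) (tt N180 (iv F636)) (tt N59 F377) (tt N56 (iv D106)) (tt N185 (iv F656)) (tt N188 D197))
theorem Q108 : ∀ i, i < 108 → P i := stepQ 107 Q107 (allL N107 (tt N67 F378) (tt N107 F379) (tt N107 F380) (tt N189 D198) (tt N60 F381) (tt N188 (iv F666)) (tt N107 F382) (tt N56 (iv D107)))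
theorem Q109 : ∀ i, i < 109 → P i := stepQ 108 Q108 (allL N108 (tt N108 F383) (tt N108 F384) (tt N57 (iv D108)) (tt N190 D199) (tt N183 (iv F647)) (tt N108 F385) (tt N191 D200) (tt N108 F386))
theorem Q110 : ∀ i, i < 110 → P i := stepQ 109 Q109 (allL N109 (tt N109 F387) (tt N58 F388) (tt N191 (iv F676)) (tt N109 F389) (tt N184 (iv F652)) (tt N192 D201) (tt N57 (iv D109)) (tt N193 D202))
theorem Q111 : ∀ i, i < 111 → P i := stepQ 110 Q110 (allL N110 (tt N68 F390) (tt N194 D203) (tt N110 F391) (tt N110 F392) (tt N185 (iv F655)) (tt N58 (iv D110)) (tt N59 F393) (tt N195 D204))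
theorem Q112 : ∀ i, i < 112 → P i := stepQ 111 Q111 (allL N111 (tt N69 F394) (tt N193 (iv F681)) (tt N111 F395) (tt N196 D205) (tt N186 (iv F659)) (tt N195 (iv F687)) (tt N111 F396) (tt N58 (iv D111)))
theorem Q113 : ∀ i, i < 113 → P i := stepQ 112 Q112 (allL N112 (tt N197 D206) (tt N59 (iv D112)) (tt N198 D207) (tt N112 F397) (tt N187 (iv F661)) (tt N112 F398) (tt N194 (iv F684)) (tt N199 D208))
theorem Q114 : ∀ i, i < 114 → P i := stepQ 113 Q113 (allL N113 (tt N71 F399) (tt N199 (iv F696)) (tt N113 F400) (tt N200 D209) (tt N188 (iv F665)) (tt N60 F401) (tt N201 D210) (tt N59 (iv D113)))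
theorem Q115 : ∀ i, i < 115 → P i := stepQ 114 Q114 (allL N114 (tt N72 F402) (tt N114 F403) (tt N202 D211) (tt N60 (iv D114)) (tt N203 D212) (tt N200 (iv F699)) (tt N114 F404) (tt N114 F405))
theorem Q116 : ∀ i, i < 116 → P i := stepQ 115 Q115 (allL N115 (tt N177 (iv F617)) (tt N115 F409) (tt N63 F410) (tt N115 F411) (tt N115 F412) (tt N204 D216) (tt N61 (iv D116)) (tt N205 D217))
theorem Q117 : ∀ i, i < 117 → P i := stepQ 116 Q116 (allL N116 (tt N179 (iv F628)) (tt N116 F416) (tt N119 (iv F1412)) (tt N65 F417) (tt N116 F418) (tt N206 D220) (tt N62 (iv D118)) (tt N207 D221))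
theorem Q118 : ∀ i, i < 118 → P i := stepQ 117 Q117 (allL N117 (tt N180 (iv F635)) (tt N208 D223) (tt N204 (iv F722)) (tt N66 F423) (tt N117 F424) (tt N63 (iv D120)) (tt N206 (iv F736)) (tt N209 D224))
theorem Q119 : ∀ i, i < 119 → P i := stepQ 118 Q118 (allL N118 (tt N181 (iv F638)) (tt N74 F425) (tt N205 (iv F726)) (tt N210 D225) (tt N118 F426) (tt N209 (iv F746)) (tt N211 D226) (tt N63 (iv D121)))
theorem Q120 : ∀ i, i < 120 → P i := stepQ 119 Q119 (allL N119 (tt N182 (iv F641)) (tt N75 F427) (tt N116 F1412) (tt N119 F428) (tt N119 F429) (tt N212 D227) (tt N64 (iv D122)) (tt N211 (iv F751)))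
theorem Q121 : ∀ i, i < 121 → P i := stepQ 120 Q120 (allL N120 (tt N185 (iv F653)) (tt N213 D228) (tt N120 F430) (tt N206 (iv F734)) (tt N68 F431) (tt N65 (iv D123)) (tt N66 F432) (tt N214 D229))
theorem Q122 : ∀ i, i < 122 → P i := stepQ 121 Q121 (allL N121 (tt N186 (iv F657)) (tt N121 F433) (tt N121 F434) (tt N215 D230) (tt N69 F435) (tt N214 (iv F759)) (tt N121 F436) (tt N65 (iv D124)))
theorem Q123 : ∀ i, i < 123 → P i := stepQ 122 Q122 (allL N122 (tt N216 D231) (tt N66 (iv D125)) (tt N217 D232) (tt N208 (iv F742)) (tt N70 F437) (tt N76 F438) (tt N213 (iv F756)) (tt N218 D233))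
theorem Q124 : ∀ i, i < 124 → P i := stepQ 123 Q123 (allL N123 (tt N188 (iv F663)) (tt N218 (iv F767)) (tt N123 F439) (tt N219 D234) (tt N71 F440) (tt N67 F441) (tt N220 D235) (tt N66 (iv D126)))
theorem Q125 : ∀ i, i < 125 → P i := stepQ 124 Q124 (allL N124 (tt N189 (iv F667)) (tt N78 F442) (tt N221 D236) (tt N67 (iv D127)) (tt N222 D237) (tt N219 (iv F770)) (tt N124 F443) (tt N210 (iv F748)))
theorem Q126 : ∀ i, i < 126 → P i := stepQ 125 Q125 (allL N125 (tt N223 D238) (tt N68 (iv D128)) (tt N224 D239) (tt N125 F444) (tt N213 (iv F754)) (tt N125 F445) (tt N70 F446) (tt N225 D240))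
theorem Q127 : ∀ i, i < 127 → P i := stepQ 126 Q126 (allL N126 (tt N195 (iv F685)) (tt N225 (iv F785)) (tt N126 F447) (tt N226 D241) (tt N214 (iv F758)) (tt N69 F448) (tt N227 D242) (tt N68 (iv D129)))
theorem Q128 : ∀ i, i < 128 → P i := stepQ 127 Q127 (allL N127 (tt N196 (iv F688)) (tt N127 F449) (tt N228 D243) (tt N69 (iv D130)) (tt N229 D244) (tt N226 (iv F787)) (tt N127 F450) (tt N127 F451))
theorem Q129 : ∀ i, i < 129 → P i := stepQ 128 Q128 (allL N128 (tt N70 (iv D131)) (tt N197 (iv F691)) (tt N230 D245) (tt N128 F452) (tt N216 (iv F762)) (tt N79 F453) (tt N223 (iv F781)) (tt N231 D246))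
theorem Q130 : ∀ i, i < 130 → P i := stepQ 129 Q129 (allL N129 (tt N230 (iv F798)) (tt N129 F454) (tt N70 (iv D132)) (tt N232 D247) (tt N217 (iv F765)) (tt N80 F455) (tt N224 (iv F784)) (tt N233 D248))
theorem Q131 : ∀ i, i < 131 → P i := stepQ 130 Q130 (allL N130 (tt N231 (iv F800)) (tt N71 F456) (tt N233 (iv F806)) (tt N234 D249) (tt N218 (iv F768)) (tt N81 F457) (tt N235 D250) (tt N70 (iv D133)))
theorem Q132 : ∀ i, i < 132 → P i := stepQ 131 Q131 (allL N131 (tt N200 (iv F698)) (tt N234 (iv F808)) (tt N95 (iv F1395)) (tt N71 (iv D134)) (tt N236 D252) (tt N72 F458) (tt N94 (iv F1401)) (tt N131 F459))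
theorem Q133 : ∀ i, i < 133 → P i := stepQ 132 Q132 (allL N132 (tt N201 (iv F701)) (tt N235 (iv F811)) (tt N132 F460) (tt N94 F1405) (tt N220 (iv F772)) (tt N132 F461) (tt N71 (iv D135)) (tt N227 (iv F791)))
theorem Q134 : ∀ i, i < 134 → P i := stepQ 133 Q133 (allL N133 (tt N202 (iv F704)) (tt N133 F462) (tt N72 (iv D136)) (tt N133 F463) (tt N237 D254) (tt N95 (iv F1396)) (tt N133 F464) (tt N133 F465))
theorem Q135 : ∀ i, i < 135 → P i := stepQ 134 Q134 (allL N134 (tt N203 (iv F708)) (tt N84 F466) (tt N237 (iv F820)) (tt N222 (iv F777)) (tt N72 (iv D137)) (tt N236 (iv F815)) (tt N134 F467) (tt N134 F468))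
theorem Q136 : ∀ i, i < 136 → P i := stepQ 135 Q135 (allL N135 (tt N238 D255) (tt N73 (iv D138)) (tt N239 D256) (tt N76 F469) (tt N135 F470) (tt N208 (iv F744)) (tt N135 F471) (tt N240 D257))
theorem Q137 : ∀ i, i < 137 → P i := stepQ 136 Q136 (allL N136 (tt N136 F472) (tt N240 (iv F830)) (tt N136 F473) (tt N241 D258) (tt N136 F474) (tt N74 F475) (tt N242 D259) (tt N73 (iv D139)))
theorem Q138 : ∀ i, i < 138 → P i := stepQ 137 Q137 (allL N137 (tt N137 F476) (tt N210 (iv F747)) (tt N243 D260) (tt N74 (iv D140)) (tt N244 D261) (tt N241 (iv F833)) (tt N245 D262) (tt N78 F477))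
theorem Q139 : ∀ i, i < 139 → P i := stepQ 138 Q138 (allL N138 (tt N138 F478) (tt N211 (iv F749)) (tt N138 F479) (tt N245 (iv F846)) (tt N138 F480) (tt N246 D263) (tt N74 (iv D141)) (tt N75 F481))
theorem Q140 : ∀ i, i < 140 → P i := stepQ 139 Q139 (allL N139 (tt N139 F482) (tt N247 D264) (tt N139 F483) (tt N139 F484) (tt N139 F485) (tt N75 (iv D142)) (tt N139 F486) (tt N246 (iv F851)))
theorem Q141 : ∀ i, i < 141 → P i := stepQ 140 Q140 (allL N140 (tt N76 (iv D143)) (tt N140 F487) (tt N248 D265) (tt N238 (iv F824)) (tt N79 F488) (tt N216 (iv F763)) (tt N140 F489) (tt N249 D266))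
theorem Q142 : ∀ i, i < 142 → P i := stepQ 141 Q141 (allL N141 (tt N248 (iv F855)) (tt N86 F490) (tt N76 (iv D144)) (tt N250 D267) (tt N80 F491) (tt N217 (iv F766)) (tt N141 F492) (tt N251 D268))
theorem Q143 : ∀ i, i < 143 → P i := stepQ 142 Q142 (allL N142 (tt N249 (iv F858)) (tt N77 F493) (tt N251 (iv F864)) (tt N252 D269) (tt N81 F494) (tt N218 (iv F769)) (tt N253 D270) (tt N76 (iv D145)))
theorem Q144 : ∀ i, i < 144 → P i := stepQ 143 Q143 (allL N143 (tt N143 F495) (tt N252 (iv F866)) (tt N254 D271) (tt N77 (iv D146)) (tt N255 D272) (tt N78 F496) (tt N256 D273) (tt N241 (iv F834)))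
theorem Q145 : ∀ i, i < 145 → P i := stepQ 144 Q144 (allL N144 (tt N144 F497) (tt N253 (iv F867)) (tt N89 F498) (tt N256 (iv F877)) (tt N83 F499) (tt N144 F500) (tt N77 (iv D147)) (tt N144 F501))
theorem Q146 : ∀ i, i < 146 → P i := stepQ 145 Q145 (allL N145 (tt N145 F502) (tt N257 D274) (tt N78 (iv D148)) (tt N90 F503) (tt N258 D275) (tt N254 (iv F872)) (tt N145 F504) (tt N243 (iv F841)))
theorem Q147 : ∀ i, i < 147 → P i := stepQ 146 Q146 (allL N146 (tt N146 F505) (tt N222 (iv F776)) (tt N258 (iv F882)) (tt N84 F506) (tt N78 (iv D149)) (tt N255 (iv F875)) (tt N146 F507) (tt N244 (iv F844)))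
theorem Q148 : ∀ i, i < 148 → P i := stepQ 147 Q147 (allL N147 (tt N80 F508) (tt N259 D276) (tt N79 (iv D150)) (tt N260 D277) (tt N248 (iv F856)) (tt N230 (iv F799)) (tt N147 F509) (tt N261 D278))
theorem Q149 : ∀ i, i < 149 → P i := stepQ 148 Q148 (allL N148 (tt N81 F510) (tt N148 F511) (tt N261 (iv F892)) (tt N262 D279) (tt N249 (iv F860)) (tt N231 (iv F801)) (tt N263 D280) (tt N79 (iv D151)))
theorem Q150 : ∀ i, i < 150 → P i := stepQ 149 Q149 (allL N149 (tt N260 (iv F888)) (tt N93 F512) (tt N149 F513) (tt N80 (iv D152)) (tt N264 D281) (tt N232 (iv F804)) (tt N149 F514) (tt N265 D282))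
theorem Q151 : ∀ i, i < 151 → P i := stepQ 150 Q150 (allL N150 (tt N261 (iv F891)) (tt N94 F515) (tt N81 F516) (tt N235 (iv F1407)) (tt N251 (iv F865)) (tt N233 (iv F807)) (tt N234 (iv F1398)) (tt N80 (iv D153)))
theorem Q152 : ∀ i, i < 152 → P i := stepQ 151 Q151 (allL N151 (tt N262 (iv F893)) (tt N82 F517) (tt N266 D285) (tt N81 (iv D154)) (tt N267 D286) (tt N234 (iv F809)) (tt N268 D287) (tt N151 F518))
theorem Q153 : ∀ i, i < 153 → P i := stepQ 152 Q152 (allL N152 (tt N263 (iv F896)) (tt N83 F519) (tt N234 (iv F1397)) (tt N268 (iv F913)) (tt N253 (iv F868)) (tt N266 (iv F1472)) (tt N81 (iv D155)) (tt N152 F520))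
theorem Q154 : ∀ i, i < 154 → P i := stepQ 153 Q153 (allL N153 (tt N153 F521) (tt N267 (iv F910)) (tt N153 F522) (tt N255 (iv F874)) (tt N82 (iv D156)) (tt N84 F523) (tt N269 D289) (tt N153 F524))
theorem Q155 : ∀ i, i < 155 → P i := stepQ 154 Q154 (allL N154 (tt N154 F525) (tt N268 (iv F912)) (tt N154 F526) (tt N83 F527) (tt N269 (iv F918)) (tt N154 F528) (tt N82 (iv D157)) (tt N270 D290))
theorem Q156 : ∀ i, i < 156 → P i := stepQ 155 Q155 (allL N155 (tt N86 F529) (tt N271 D291) (tt N85 (iv D158)) (tt N272 D292) (tt N91 F530) (tt N155 F531) (tt N155 F532) (tt N273 D293))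
theorem Q157 : ∀ i, i < 157 → P i := stepQ 156 Q156 (allL N156 (tt N87 F533) (tt N156 F534) (tt N273 (iv F933)) (tt N274 D294) (tt N92 F535) (tt N156 F536) (tt N275 D295) (tt N85 (iv D159)))
theorem Q158 : ∀ i, i < 158 → P i := stepQ 157 Q157 (allL N157 (tt N272 (iv F928)) (tt N250 (iv F861)) (tt N157 F537) (tt N86 (iv D160)) (tt N276 D296) (tt N157 F538) (tt N157 F539) (tt N277 D297))
theorem Q159 : ∀ i, i < 159 → P i := stepQ 158 Q158 (allL N158 (tt N273 (iv F932)) (tt N251 (iv F863)) (tt N87 F540) (tt N278 D298) (tt N94 F541) (tt N158 F542) (tt N236 (iv F1400)) (tt N86 (iv D161)))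
theorem Q160 : ∀ i, i < 160 → P i := stepQ 159 Q159 (allL N159 (tt N274 (iv F936)) (tt N88 F543) (tt N279 D300) (tt N87 (iv D162)) (tt N159 F544) (tt N159 F545) (tt N280 D301) (tt N159 F546))
theorem Q161 : ∀ i, i < 161 → P i := stepQ 160 Q160 (allL N160 (tt N275 (iv F941)) (tt N89 F547) (tt N236 (iv F1399)) (tt N280 (iv F959)) (tt N95 F548) (tt N237 (iv F1394)) (tt N87 (iv D163)) (tt N160 F549))
theorem Q162 : ∀ i, i < 162 → P i := stepQ 161 Q161 (allL N161 (tt N161 F550) (tt N281 D303) (tt N88 (iv D164)) (tt N254 (iv F871)) (tt N161 F551) (tt N90 F552) (tt N282 D304) (tt N161 F553))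
theorem Q163 : ∀ i, i < 163 → P i := stepQ 162 Q162 (allL N162 (tt N162 F554) (tt N280 (iv F958)) (tt N282 (iv F968)) (tt N89 F555) (tt N162 F556) (tt N162 F557) (tt N88 (iv D165)) (tt N283 D305))
theorem Q164 : ∀ i, i < 164 → P i := stepQ 163 Q163 (allL N163 (tt N284 D306) (tt N90 (iv D166)) (tt N163 F558) (tt N257 (iv F879)) (tt N163 F559) (tt N285 D307) (tt N163 F560) (tt N163 F561))
theorem Q165 : ∀ i, i < 165 → P i := stepQ 164 Q164 (allL N164 (tt N259 (iv F885)) (tt N91 (iv D167)) (tt N164 F562) (tt N286 D308) (tt N271 (iv F926)) (tt N287 D309) (tt N164 F563) (tt N288 D310))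
theorem Q166 : ∀ i, i < 166 → P i := stepQ 165 Q165 (allL N165 (tt N93 F564) (tt N286 (iv F984)) (tt N97 F565) (tt N91 (iv D168)) (tt N289 D311) (tt N165 F566) (tt N165 F567) (tt N290 D312))
theorem Q167 : ∀ i, i < 167 → P i := stepQ 166 Q166 (allL N166 (tt N94 F568) (tt N288 (iv F988)) (tt N92 F569) (tt N201 (iv F1406)) (tt N273 (iv F934)) (tt N166 F570) (tt N200 F1404) (tt N91 (iv D169)))
theorem Q168 : ∀ i, i < 168 → P i := stepQ 167 Q167 (allL N167 (tt N95 F571) (tt N167 F572) (tt N200 F1402) (tt N167 F573) (tt N275 (iv F943)) (tt N202 F1403) (tt N92 (iv D170)) (tt N167 F574))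
theorem Q169 : ∀ i, i < 169 → P i := stepQ 168 Q168 (allL N168 (tt N289 (iv F990)) (tt N264 (iv F899)) (tt N98 F575) (tt N276 (iv F946)) (tt N93 (iv D171)) (tt N168 F576) (tt N168 F577) (tt N291 D316))
theorem Q170 : ∀ i, i < 170 → P i := stepQ 169 Q169 (allL N169 (tt N290 (iv F994)) (tt N265 (iv F902)) (tt N99 F578) (tt N227 (iv F1408)) (tt N291 (iv F1008)) (tt N169 F579) (tt N226 (iv F1411)) (tt N93 (iv D172)))
theorem Q171 : ∀ i, i < 171 → P i := stepQ 170 Q170 (allL N170 (tt N170 F588) (tt N97 F589) (tt N192 (iv F1452)) (tt N96 (iv D176)) (tt N292 D323) (tt N191 (iv F1453)) (tt N170 F590) (tt N293 D325))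
theorem Q172 : ∀ i, i < 172 → P i := stepQ 171 Q171 (allL N171 (tt N171 F591) (tt N171 F592) (tt N171 F593) (tt N191 F1454) (tt N171 F594) (tt N96 (iv D177)) (tt N190 (iv F1455)) (tt N171 F595))
theorem Q173 : ∀ i, i < 173 → P i := stepQ 172 Q172 (allL N172 (tt N98 F596) (tt N292 (iv F1026)) (tt N289 (iv F991)) (tt N172 F597) (tt N97 (iv D178)) (tt N172 F598) (tt N172 F599) (tt N294 D327))
theorem Q174 : ∀ i, i < 174 → P i := stepQ 173 Q173 (allL N173 (tt N99 F600) (tt N293 (iv F1033)) (tt N290 (iv F995)) (tt N173 F601) (tt N294 (iv F1041)) (tt N173 F602) (tt N295 D328) (tt N97 (iv D179)))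
theorem Q175 : ∀ i, i < 175 → P i := stepQ 174 Q174 (allL N174 (tt N294 (iv F1040)) (tt N174 F603) (tt N291 (iv F1007)) (tt N296 D329) (tt N99 F604) (tt N174 F605) (tt N297 D330) (tt N98 (iv D180)))
theorem Q176 : ∀ i, i < 176 → P i := stepQ 175 Q175 (allL N175 (tt N295 (iv F1043)) (tt N175 F606) (tt N226 (iv F1410)) (tt N175 F607) (tt N297 (iv F1051)) (tt N228 (iv F1441)) (tt N99 (iv D181)) (tt N175 F608))
theorem Q177 : ∀ i, i < 177 → P i := stepQ 176 Q176 (allL N176 (tt N176 F609) (tt N100 (iv D182)) (tt N176 F610) (tt N176 F611) (tt N176 F612) (tt N176 F1426) (tt N298 D333) (tt N178 F1425))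
theorem Q178 : ∀ i, i < 178 → P i := stepQ 177 Q177 (allL N177 (tt N115 F617) (tt N298 (iv F1061)) (tt N102 F618) (tt N177 F619) (tt N177 F620) (tt N299 D338) (tt N100 (iv D184)) (tt N300 D339))
theorem Q179 : ∀ i, i < 179 → P i := stepQ 178 Q178 (allL N178 (tt N178 F624) (tt N101 (iv D186)) (tt N178 F1424) (tt N104 F625) (tt N178 F626) (tt N178 F627) (tt N301 D343) (tt N176 (iv F1425)))
theorem Q180 : ∀ i, i < 180 → P i := stepQ 179 Q179 (allL N179 (tt N116 F628) (tt N301 (iv F1096)) (tt N182 (iv F1413)) (tt N105 F629) (tt N179 F630) (tt N302 D345) (tt N101 (iv D187)) (tt N303 D346))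
theorem Q181 : ∀ i, i < 181 → P i := stepQ 180 Q180 (allL N180 (tt N117 F635) (tt N304 D348) (tt N299 (iv F1080)) (tt N106 F636) (tt N180 F637) (tt N102 (iv D189)) (tt N302 (iv F1107)) (tt N305 D349))
theorem Q182 : ∀ i, i < 182 → P i := stepQ 181 Q181 (allL N181 (tt N118 F638) (tt N181 F639) (tt N300 (iv F1084)) (tt N306 D350) (tt N181 F640) (tt N305 (iv F1118)) (tt N307 D351) (tt N102 (iv D190)))
theorem Q183 : ∀ i, i < 183 → P i := stepQ 182 Q182 (allL N182 (tt N119 F641) (tt N182 F642) (tt N179 F1413) (tt N182 F643) (tt N182 F644) (tt N308 D352) (tt N103 (iv D191)) (tt N307 (iv F1125)))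
theorem Q184 : ∀ i, i < 184 → P i := stepQ 183 Q183 (allL N183 (tt N183 F645) (tt N183 F646) (tt N104 (iv D192)) (tt N183 F1427) (tt N108 F647) (tt N183 F648) (tt N309 D354) (tt N183 F649))
theorem Q185 : ∀ i, i < 185 → P i := stepQ 184 Q184 (allL N184 (tt N184 F650) (tt N105 F651) (tt N309 (iv F1134)) (tt N301 (iv F1097)) (tt N109 F652) (tt N310 D355) (tt N104 (iv D193)) (tt N311 D356))
theorem Q186 : ∀ i, i < 186 → P i := stepQ 185 Q185 (allL N185 (tt N120 F653) (tt N312 D357) (tt N185 F654) (tt N302 (iv F1105)) (tt N110 F655) (tt N105 (iv D194)) (tt N106 F656) (tt N313 D358))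
theorem Q187 : ∀ i, i < 187 → P i := stepQ 186 Q186 (allL N186 (tt N121 F657) (tt N311 (iv F1140)) (tt N186 F658) (tt N314 D359) (tt N111 F659) (tt N313 (iv F1148)) (tt N186 F660) (tt N105 (iv D195)))
theorem Q188 : ∀ i, i < 188 → P i := stepQ 187 Q187 (allL N187 (tt N315 D360) (tt N106 (iv D196)) (tt N316 D361) (tt N304 (iv F1113)) (tt N112 F661) (tt N187 F662) (tt N312 (iv F1144)) (tt N317 D362))
theorem Q189 : ∀ i, i < 189 → P i := stepQ 188 Q188 (allL N188 (tt N123 F663) (tt N317 (iv F1157)) (tt N188 F664) (tt N318 D363) (tt N113 F665) (tt N107 F666) (tt N319 D364) (tt N106 (iv D197)))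
theorem Q190 : ∀ i, i < 190 → P i := stepQ 189 Q189 (allL N189 (tt N124 F667) (tt N189 F668) (tt N320 D365) (tt N107 (iv D198)) (tt N321 D366) (tt N318 (iv F1161)) (tt N189 F669) (tt N306 (iv F1121)))
theorem Q191 : ∀ i, i < 191 → P i := stepQ 190 Q190 (allL N190 (tt N190 F670) (tt N190 F671) (tt N190 F672) (tt N108 (iv D199)) (tt N190 F1431) (tt N190 F673) (tt N171 F1455) (tt N322 D369))
theorem Q192 : ∀ i, i < 192 → P i := stepQ 191 Q191 (allL N191 (tt N191 F674) (tt N191 F675) (tt N109 F676) (tt N171 (iv F1454)) (tt N309 (iv F1135)) (tt N170 F1453) (tt N108 (iv D200)) (tt N323 D371))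
theorem Q193 : ∀ i, i < 193 → P i := stepQ 192 Q192 (allL N192 (tt N192 F677) (tt N324 D372) (tt N170 F1452) (tt N192 F678) (tt N310 (iv F1137)) (tt N109 (iv D201)) (tt N192 F679) (tt N325 D373))
theorem Q194 : ∀ i, i < 194 → P i := stepQ 193 Q193 (allL N193 (tt N193 F680) (tt N111 F681) (tt N323 (iv F1191)) (tt N326 D374) (tt N311 (iv F1141)) (tt N325 (iv F1197)) (tt N193 F682) (tt N109 (iv D202)))
theorem Q195 : ∀ i, i < 195 → P i := stepQ 194 Q194 (allL N194 (tt N327 D375) (tt N110 (iv D203)) (tt N328 D376) (tt N194 F683) (tt N312 (iv F1143)) (tt N324 (iv F1194)) (tt N112 F684) (tt N329 D377))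
theorem Q196 : ∀ i, i < 196 → P i := stepQ 195 Q195 (allL N195 (tt N126 F685) (tt N329 (iv F1207)) (tt N195 F686) (tt N330 D378) (tt N313 (iv F1147)) (tt N111 F687) (tt N331 D379) (tt N110 (iv D204)))
theorem Q197 : ∀ i, i < 197 → P i := stepQ 196 Q196 (allL N196 (tt N127 F688) (tt N326 (iv F1199)) (tt N332 D380) (tt N111 (iv D205)) (tt N333 D381) (tt N330 (iv F1209)) (tt N196 F689) (tt N196 F690))
theorem Q198 : ∀ i, i < 198 → P i := stepQ 197 Q197 (allL N197 (tt N112 (iv D206)) (tt N128 F691) (tt N334 D382) (tt N197 F692) (tt N315 (iv F1152)) (tt N197 F693) (tt N327 (iv F1204)) (tt N335 D383))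
theorem Q199 : ∀ i, i < 199 → P i := stepQ 198 Q198 (allL N198 (tt N334 (iv F1222)) (tt N198 F694) (tt N112 (iv D207)) (tt N336 D384) (tt N316 (iv F1155)) (tt N198 F695) (tt N328 (iv F1206)) (tt N337 D385))
theorem Q200 : ∀ i, i < 200 → P i := stepQ 199 Q199 (allL N199 (tt N335 (iv F1224)) (tt N113 F696) (tt N337 (iv F1231)) (tt N338 D386) (tt N317 (iv F1158)) (tt N199 F697) (tt N339 D387) (tt N112 (iv D208)))
theorem Q201 : ∀ i, i < 201 → P i := stepQ 200 Q200 (allL N200 (tt N131 F698) (tt N338 (iv F1233)) (tt N167 (iv F1402)) (tt N113 (iv D209)) (tt N340 D389) (tt N114 F699) (tt N166 (iv F1404)) (tt N200 F700))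
theorem Q202 : ∀ i, i < 202 → P i := stepQ 201 Q201 (allL N201 (tt N132 F701) (tt N339 (iv F1236)) (tt N201 F702) (tt N166 F1406) (tt N319 (iv F1164)) (tt N201 F703) (tt N113 (iv D210)) (tt N331 (iv F1214)))
theorem Q203 : ∀ i, i < 203 → P i := stepQ 202 Q202 (allL N202 (tt N133 F704) (tt N341 D391) (tt N114 (iv D211)) (tt N202 F705) (tt N342 D392) (tt N167 (iv F1403)) (tt N202 F706) (tt N202 F707))
theorem Q204 : ∀ i, i < 204 → P i := stepQ 203 Q203 (allL N203 (tt N134 F708) (tt N203 F709) (tt N342 (iv F1253)) (tt N321 (iv F1171)) (tt N114 (iv D212)) (tt N340 (iv F1242)) (tt N203 F710) (tt N203 F711))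
theorem Q205 : ∀ i, i < 205 → P i := stepQ 204 Q204 (allL N204 (tt N299 (iv F1079)) (tt N343 D400) (tt N117 F722) (tt N204 F723) (tt N204 F724) (tt N115 (iv D216)) (tt N212 F1423) (tt N344 D401))
theorem Q206 : ∀ i, i < 206 → P i := stepQ 205 Q205 (allL N205 (tt N300 (iv F1083)) (tt N205 F725) (tt N118 F726) (tt N345 D402) (tt N205 F727) (tt N344 (iv F1284)) (tt N207 F1419) (tt N115 (iv D217)))
theorem Q207 : ∀ i, i < 207 → P i := stepQ 206 Q206 (allL N206 (tt N302 (iv F1104)) (tt N346 D407) (tt N212 (iv F1414)) (tt N120 F734) (tt N206 F735) (tt N116 (iv D220)) (tt N117 F736) (tt N347 D408))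
theorem Q208 : ∀ i, i < 208 → P i := stepQ 207 Q207 (allL N207 (tt N303 (iv F1108)) (tt N207 F737) (tt N211 (iv F1416)) (tt N348 D409) (tt N207 F738) (tt N347 (iv F1305)) (tt N205 (iv F1419)) (tt N116 (iv D221)))
theorem Q209 : ∀ i, i < 209 → P i := stepQ 208 Q208 (allL N208 (tt N349 D412) (tt N117 (iv D223)) (tt N350 D413) (tt N122 F742) (tt N208 F743) (tt N135 F744) (tt N346 (iv F1303)) (tt N351 D414))
theorem Q210 : ∀ i, i < 210 → P i := stepQ 209 Q209 (allL N209 (tt N305 (iv F1116)) (tt N351 (iv F1319)) (tt N344 (iv F1282)) (tt N352 D415) (tt N209 F745) (tt N118 F746) (tt N353 D416) (tt N117 (iv D224)))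
theorem Q211 : ∀ i, i < 211 → P i := stepQ 210 Q210 (allL N210 (tt N306 (iv F1119)) (tt N137 F747) (tt N354 D417) (tt N118 (iv D225)) (tt N355 D418) (tt N352 (iv F1322)) (tt N356 D419) (tt N124 F748))
theorem Q212 : ∀ i, i < 212 → P i := stepQ 211 Q211 (allL N211 (tt N307 (iv F1122)) (tt N138 F749) (tt N207 F1416) (tt N356 (iv F1330)) (tt N211 F750) (tt N357 D420) (tt N118 (iv D226)) (tt N119 F751))
theorem Q213 : ∀ i, i < 213 → P i := stepQ 212 Q212 (allL N212 (tt N308 (iv F1126)) (tt N358 D421) (tt N206 F1414) (tt N212 F752) (tt N212 F753) (tt N119 (iv D227)) (tt N204 (iv F1423)) (tt N357 (iv F1333)))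
theorem Q214 : ∀ i, i < 214 → P i := stepQ 213 Q213 (allL N213 (tt N359 D422) (tt N120 (iv D228)) (tt N360 D423) (tt N346 (iv F1300)) (tt N125 F754) (tt N213 F755) (tt N122 F756) (tt N361 D424))
theorem Q215 : ∀ i, i < 215 → P i := stepQ 214 Q214 (allL N214 (tt N313 (iv F1145)) (tt N361 (iv F1344)) (tt N214 F757) (tt N362 D425) (tt N126 F758) (tt N121 F759) (tt N363 D426) (tt N120 (iv D229)))
theorem Q216 : ∀ i, i < 216 → P i := stepQ 215 Q215 (allL N215 (tt N314 (iv F1149)) (tt N215 F760) (tt N364 D427) (tt N121 (iv D230)) (tt N365 D428) (tt N362 (iv F1347)) (tt N215 F761) (tt N348 (iv F1307)))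
theorem Q217 : ∀ i, i < 217 → P i := stepQ 216 Q216 (allL N216 (tt N122 (iv D231)) (tt N315 (iv F1151)) (tt N366 D429) (tt N349 (iv F1314)) (tt N128 F762) (tt N140 F763) (tt N359 (iv F1339)) (tt N367 D430))
theorem Q218 : ∀ i, i < 218 → P i := stepQ 217 Q217 (allL N217 (tt N366 (iv F1357)) (tt N217 F764) (tt N122 (iv D232)) (tt N368 D431) (tt N129 F765) (tt N141 F766) (tt N360 (iv F1343)) (tt N369 D432))
theorem Q219 : ∀ i, i < 219 → P i := stepQ 218 Q218 (allL N218 (tt N367 (iv F1360)) (tt N123 F767) (tt N369 (iv F1366)) (tt N370 D433) (tt N130 F768) (tt N142 F769) (tt N371 D434) (tt N122 (iv D233)))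
theorem Q220 : ∀ i, i < 220 → P i := stepQ 219 Q219 (allL N219 (tt N318 (iv F1160)) (tt N370 (iv F1369)) (tt N372 D435) (tt N123 (iv D234)) (tt N373 D436) (tt N124 F770) (tt N374 D437) (tt N352 (iv F1323)))
theorem Q221 : ∀ i, i < 221 → P i := stepQ 220 Q220 (allL N220 (tt N319 (iv F1162)) (tt N371 (iv F1371)) (tt N220 F771) (tt N374 (iv F1377)) (tt N132 F772) (tt N220 F773) (tt N123 (iv D235)) (tt N363 (iv F1351)))
theorem Q222 : ∀ i, i < 222 → P i := stepQ 221 Q221 (allL N221 (tt N320 (iv F1166)) (tt N375 D438) (tt N124 (iv D236)) (tt N221 F774) (tt N376 D439) (tt N372 (iv F1374)) (tt N221 F775) (tt N354 (iv F1325)))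
theorem Q223 : ∀ i, i < 223 → P i := stepQ 222 Q222 (allL N222 (tt N321 (iv F1169)) (tt N146 F776) (tt N376 (iv F1382)) (tt N134 F777) (tt N124 (iv D237)) (tt N373 (iv F1376)) (tt N222 F778) (tt N355 (iv F1328)))
theorem Q224 : ∀ i, i < 224 → P i := stepQ 223 Q223 (allL N223 (tt N125 (iv D238)) (tt N327 (iv F1202)) (tt N377 D440) (tt N223 F779) (tt N359 (iv F1337)) (tt N223 F780) (tt N128 F781) (tt N378 D441))
theorem Q225 : ∀ i, i < 225 → P i := stepQ 224 Q224 (allL N224 (tt N377 (iv F1384)) (tt N224 F782) (tt N125 (iv D239)) (tt N379 D442) (tt N360 (iv F1341)) (tt N224 F783) (tt N129 F784) (tt N380 D443))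
theorem Q226 : ∀ i, i < 226 → P i := stepQ 225 Q225 (allL N225 (tt N378 (iv F1387)) (tt N126 F785) (tt N380 (iv F1474)) (tt N381 D444) (tt N361 (iv F1345)) (tt N225 F786) (tt N382 D445) (tt N125 (iv D240)))
theorem Q227 : ∀ i, i < 227 → P i := stepQ 226 Q226 (allL N226 (tt N330 (iv F1208)) (tt N381 (iv F1477)) (tt N175 F1410) (tt N126 (iv D241)) (tt N383 D446) (tt N127 F787) (tt N169 F1411) (tt N226 F788))
theorem Q228 : ∀ i, i < 228 → P i := stepQ 227 Q227 (allL N227 (tt N331 (iv F1211)) (tt N382 (iv F1482)) (tt N227 F789) (tt N169 F1408) (tt N363 (iv F1349)) (tt N227 F790) (tt N126 (iv D242)) (tt N132 F791))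
theorem Q229 : ∀ i, i < 229 → P i := stepQ 228 Q228 (allL N228 (tt N332 (iv F1215)) (tt N384 D447) (tt N127 (iv D243)) (tt N228 F792) (tt N385 D448) (tt N175 F1441) (tt N228 F793) (tt N228 F794))
theorem Q230 : ∀ i, i < 230 → P i := stepQ 229 Q229 (allL N229 (tt N333 (iv F1219)) (tt N229 F795) (tt N385 (iv F1495)) (tt N365 (iv F1355)) (tt N127 (iv D244)) (tt N383 (iv F1486)) (tt N229 F796) (tt N229 F797))
theorem Q231 : ∀ i, i < 231 → P i := stepQ 230 Q230 (allL N230 (tt N129 F798) (tt N386 D449) (tt N128 (iv D245)) (tt N387 D450) (tt N366 (iv F1358)) (tt N147 F799) (tt N377 (iv F1386)) (tt N388 D451))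
theorem Q232 : ∀ i, i < 232 → P i := stepQ 231 Q231 (allL N231 (tt N130 F800) (tt N335 (iv F1225)) (tt N388 (iv F1504)) (tt N389 D452) (tt N367 (iv F1361)) (tt N148 F801) (tt N390 D453) (tt N128 (iv D246)))
theorem Q233 : ∀ i, i < 233 → P i := stepQ 232 Q232 (allL N232 (tt N387 (iv F1500)) (tt N232 F802) (tt N232 F803) (tt N129 (iv D247)) (tt N391 D454) (tt N149 F804) (tt N379 (iv F1392)) (tt N392 D455))
theorem Q234 : ∀ i, i < 234 → P i := stepQ 233 Q233 (allL N233 (tt N388 (iv F1503)) (tt N233 F805) (tt N130 F806) (tt N393 D456) (tt N369 (iv F1367)) (tt N150 F807) (tt N394 D457) (tt N129 (iv D248)))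
theorem Q235 : ∀ i, i < 235 → P i := stepQ 234 Q234 (allL N234 (tt N389 (iv F1506)) (tt N131 F808) (tt N152 F1397) (tt N130 (iv D249)) (tt N395 D458) (tt N151 F809) (tt N150 F1398) (tt N234 F810))
theorem Q236 : ∀ i, i < 236 → P i := stepQ 235 Q235 (allL N235 (tt N390 (iv F1511)) (tt N132 F811) (tt N394 (iv F1525)) (tt N150 F1407) (tt N371 (iv F1372)) (tt N393 (iv F1522)) (tt N130 (iv D250)) (tt N382 (iv F1484)))
theorem Q237 : ∀ i, i < 237 → P i := stepQ 236 Q236 (allL N236 (tt N340 (iv F1241)) (tt N395 (iv F1528)) (tt N160 F1399) (tt N373 (iv F1375)) (tt N131 (iv D252)) (tt N134 F815) (tt N158 F1400) (tt N236 F816))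
theorem Q238 : ∀ i, i < 238 → P i := stepQ 237 Q237 (allL N237 (tt N342 (iv F1252)) (tt N237 F819) (tt N134 F820) (tt N396 D459) (tt N133 (iv D254)) (tt N160 F1394) (tt N237 F821) (tt N237 F822))
theorem Q239 : ∀ i, i < 239 → P i := stepQ 238 Q238 (allL N238 (tt N135 (iv D255)) (tt N238 F823) (tt N397 D460) (tt N140 F824) (tt N238 F825) (tt N349 (iv F1316)) (tt N238 F826) (tt N398 D461))
theorem Q240 : ∀ i, i < 240 → P i := stepQ 239 Q239 (allL N239 (tt N397 (iv F1537)) (tt N239 F827) (tt N135 (iv D256)) (tt N399 D462) (tt N239 F828) (tt N350 (iv F1318)) (tt N239 F829) (tt N400 D463))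
theorem Q241 : ∀ i, i < 241 → P i := stepQ 240 Q240 (allL N240 (tt N398 (iv F1540)) (tt N136 F830) (tt N400 (iv F1547)) (tt N401 D464) (tt N240 F831) (tt N351 (iv F1321)) (tt N402 D465) (tt N135 (iv D257)))
theorem Q242 : ∀ i, i < 242 → P i := stepQ 241 Q241 (allL N241 (tt N241 F832) (tt N401 (iv F1549)) (tt N403 D466) (tt N136 (iv D258)) (tt N404 D467) (tt N137 F833) (tt N405 D468) (tt N143 F834))
theorem Q243 : ∀ i, i < 243 → P i := stepQ 242 Q242 (allL N242 (tt N242 F835) (tt N402 (iv F1551)) (tt N242 F836) (tt N405 (iv F1565)) (tt N242 F837) (tt N406 D469) (tt N136 (iv D259)) (tt N242 F838))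
theorem Q244 : ∀ i, i < 244 → P i := stepQ 243 Q243 (allL N243 (tt N243 F839) (tt N407 D470) (tt N137 (iv D260)) (tt N243 F840) (tt N408 D471) (tt N403 (iv F1556)) (tt N409 D472) (tt N145 F841))
theorem Q245 : ∀ i, i < 245 → P i := stepQ 244 Q244 (allL N244 (tt N244 F842) (tt N355 (iv F1326)) (tt N408 (iv F1575)) (tt N244 F843) (tt N137 (iv D261)) (tt N404 (iv F1560)) (tt N410 D473) (tt N146 F844))
theorem Q246 : ∀ i, i < 246 → P i := stepQ 245 Q245 (allL N245 (tt N245 F845) (tt N356 (iv F1329)) (tt N409 (iv F1580)) (tt N138 F846) (tt N410 (iv F1585)) (tt N411 D474) (tt N137 (iv D262)) (tt N245 F847))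
theorem Q247 : ∀ i, i < 247 → P i := stepQ 246 Q246 (allL N246 (tt N246 F848) (tt N412 D475) (tt N246 F849) (tt N411 (iv F1590)) (tt N246 F850) (tt N138 (iv D263)) (tt N406 (iv F1570)) (tt N139 F851))
theorem Q248 : ∀ i, i < 248 → P i := stepQ 247 Q247 (allL N247 (tt N413 D476) (tt N139 (iv D264)) (tt N414 D477) (tt N247 F852) (tt N247 F853) (tt N358 (iv F1336)) (tt N247 F854) (tt N412 (iv F1595)))
theorem Q249 : ∀ i, i < 249 → P i := stepQ 248 Q248 (allL N248 (tt N141 F855) (tt N415 D478) (tt N140 (iv D265)) (tt N416 D479) (tt N147 F856) (tt N366 (iv F1359)) (tt N248 F857) (tt N417 D480))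
theorem Q250 : ∀ i, i < 250 → P i := stepQ 249 Q249 (allL N249 (tt N142 F858) (tt N249 F859) (tt N417 (iv F1610)) (tt N418 D481) (tt N148 F860) (tt N367 (iv F1362)) (tt N419 D482) (tt N140 (iv D266)))
theorem Q251 : ∀ i, i < 251 → P i := stepQ 250 Q250 (allL N250 (tt N416 (iv F1607)) (tt N157 F861) (tt N399 (iv F1544)) (tt N141 (iv D267)) (tt N420 D483) (tt N368 (iv F1364)) (tt N250 F862) (tt N421 D484))
theorem Q252 : ∀ i, i < 252 → P i := stepQ 251 Q251 (allL N251 (tt N417 (iv F1609)) (tt N158 F863) (tt N142 F864) (tt N422 D485) (tt N150 F865) (tt N369 (iv F1368)) (tt N395 (iv F1531)) (tt N141 (iv D268)))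
theorem Q253 : ∀ i, i < 253 → P i := stepQ 252 Q252 (allL N252 (tt N418 (iv F1612)) (tt N143 F866) (tt N423 D486) (tt N142 (iv D269)) (tt N424 D487) (tt N370 (iv F1370)) (tt N425 D488) (tt N401 (iv F1550)))
theorem Q254 : ∀ i, i < 254 → P i := stepQ 253 Q253 (allL N253 (tt N419 (iv F1614)) (tt N144 F867) (tt N395 (iv F1529)) (tt N425 (iv F1626)) (tt N152 F868) (tt N426 D489) (tt N142 (iv D270)) (tt N253 F869))
theorem Q255 : ∀ i, i < 255 → P i := stepQ 254 Q254 (allL N254 (tt N254 F870) (tt N427 D490) (tt N143 (iv D271)) (tt N161 F871) (tt N428 D491) (tt N145 F872) (tt N429 D492) (tt N403 (iv F1557)))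
theorem Q256 : ∀ i, i < 256 → P i := stepQ 255 Q255 (allL N255 (tt N255 F873) (tt N424 (iv F1623)) (tt N428 (iv F1633)) (tt N153 F874) (tt N143 (iv D272)) (tt N146 F875) (tt N430 D493) (tt N404 (iv F1561)))
theorem Q257 : ∀ i, i < 257 → P i := stepQ 256 Q256 (allL N256 (tt N256 F876) (tt N425 (iv F1625)) (tt N429 (iv F1638)) (tt N144 F877) (tt N430 (iv F1643)) (tt N256 F878) (tt N143 (iv D273)) (tt N431 D494))
theorem Q258 : ∀ i, i < 258 → P i := stepQ 257 Q257 (allL N257 (tt N432 D495) (tt N145 (iv D274)) (tt N375 (iv F1379)) (tt N163 F879) (tt N433 D496) (tt N434 D497) (tt N257 F880) (tt N407 (iv F1573)))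
theorem Q259 : ∀ i, i < 259 → P i := stepQ 258 Q258 (allL N258 (tt N258 F881) (tt N433 (iv F1655)) (tt N146 F882) (tt N258 F883) (tt N145 (iv D275)) (tt N428 (iv F1635)) (tt N258 F884) (tt N408 (iv F1577)))
theorem Q260 : ∀ i, i < 260 → P i := stepQ 259 Q259 (allL N259 (tt N164 F885) (tt N147 (iv D276)) (tt N259 F886) (tt N435 D498) (tt N415 (iv F1605)) (tt N436 D499) (tt N259 F887) (tt N437 D500))
theorem Q261 : ∀ i, i < 261 → P i := stepQ 260 Q260 (allL N260 (tt N149 F888) (tt N435 (iv F1660)) (tt N260 F889) (tt N147 (iv D277)) (tt N438 D501) (tt N387 (iv F1502)) (tt N260 F890) (tt N439 D502))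
theorem Q262 : ∀ i, i < 262 → P i := stepQ 261 Q261 (allL N261 (tt N150 F891) (tt N437 (iv F1665)) (tt N148 F892) (tt N390 (iv F1512)) (tt N417 (iv F1611)) (tt N388 (iv F1505)) (tt N389 F1510) (tt N147 (iv D278)))
theorem Q263 : ∀ i, i < 263 → P i := stepQ 262 Q262 (allL N262 (tt N151 F893) (tt N262 F894) (tt N440 D503) (tt N148 (iv D279)) (tt N441 D504) (tt N389 (iv F1507)) (tt N442 D505) (tt N262 F895))
theorem Q264 : ∀ i, i < 264 → P i := stepQ 263 Q263 (allL N263 (tt N152 F896) (tt N263 F897) (tt N389 F1509) (tt N442 (iv F1680)) (tt N419 (iv F1616)) (tt N440 (iv F1673)) (tt N148 (iv D280)) (tt N263 F898))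
theorem Q265 : ∀ i, i < 265 → P i := stepQ 264 Q264 (allL N264 (tt N438 (iv F1667)) (tt N168 F899) (tt N264 F900) (tt N420 (iv F1619)) (tt N149 (iv D281)) (tt N391 (iv F1515)) (tt N264 F901) (tt N443 D506))
theorem Q266 : ∀ i, i < 266 → P i := stepQ 265 Q265 (allL N265 (tt N439 (iv F1670)) (tt N169 F902) (tt N265 F903) (tt N382 (iv F1483)) (tt N443 (iv F1683)) (tt N392 (iv F1518)) (tt N381 F1481) (tt N149 (iv D282)))
theorem Q267 : ∀ i, i < 267 → P i := stepQ 266 Q266 (allL N266 (tt N440 (iv F1672)) (tt N266 F908) (tt N151 (iv D285)) (tt N394 (iv F1526)) (tt N426 (iv F1629)) (tt N152 F1472) (tt N393 F1523) (tt N266 F909))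
theorem Q268 : ∀ i, i < 268 → P i := stepQ 267 Q267 (allL N267 (tt N441 (iv F1675)) (tt N153 F910) (tt N426 (iv F1628)) (tt N424 (iv F1624)) (tt N151 (iv D286)) (tt N395 (iv F1530)) (tt N444 D507) (tt N267 F911))
theorem Q269 : ∀ i, i < 269 → P i := stepQ 268 Q268 (allL N268 (tt N442 (iv F1678)) (tt N154 F912) (tt N393 (iv F1521)) (tt N152 F913) (tt N444 (iv F1685)) (tt N394 (iv F1527)) (tt N151 (iv D287)) (tt N445 D508))
theorem Q270 : ∀ i, i < 270 → P i := stepQ 269 Q269 (allL N269 (tt N269 F916) (tt N444 (iv F1684)) (tt N269 F917) (tt N430 (iv F1642)) (tt N154 F918) (tt N269 F919) (tt N153 (iv D289)) (tt N446 D509))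
theorem Q271 : ∀ i, i < 271 → P i := stepQ 270 Q270 (allL N270 (tt N270 F920) (tt N445 (iv F1686)) (tt N270 F921) (tt N270 F922) (tt N446 (iv F1691)) (tt N270 F923) (tt N270 F924) (tt N154 (iv D290)))
theorem Q272 : ∀ i, i < 272 → P i := stepQ 271 Q271 (allL N271 (tt N415 (iv F1603)) (tt N155 (iv D291)) (tt N271 F925) (tt N447 D510) (tt N164 F926) (tt N448 D511) (tt N271 F927) (tt N449 D512))
theorem Q273 : ∀ i, i < 273 → P i := stepQ 272 Q272 (allL N272 (tt N157 F928) (tt N447 (iv F1694)) (tt N272 F929) (tt N155 (iv D292)) (tt N450 D513) (tt N272 F930) (tt N272 F931) (tt N451 D514))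
theorem Q274 : ∀ i, i < 274 → P i := stepQ 273 Q273 (allL N273 (tt N158 F932) (tt N449 (iv F1699)) (tt N156 F933) (tt N452 D515) (tt N166 F934) (tt N273 F935) (tt N340 (iv F1469)) (tt N155 (iv D293)))
theorem Q275 : ∀ i, i < 275 → P i := stepQ 274 Q274 (allL N274 (tt N159 F936) (tt N274 F937) (tt N453 D516) (tt N156 (iv D294)) (tt N274 F938) (tt N274 F939) (tt N454 D517) (tt N274 F940))
theorem Q276 : ∀ i, i < 276 → P i := stepQ 275 Q275 (allL N275 (tt N160 F941) (tt N275 F942) (tt N340 F1470) (tt N454 (iv F1718)) (tt N167 F943) (tt N342 (iv F1471)) (tt N156 (iv D295)) (tt N275 F944))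
theorem Q277 : ∀ i, i < 277 → P i := stepQ 276 Q276 (allL N276 (tt N450 (iv F1702)) (tt N420 (iv F1618)) (tt N276 F945) (tt N168 F946) (tt N157 (iv D296)) (tt N276 F947) (tt N276 F948) (tt N455 D518))
theorem Q278 : ∀ i, i < 278 → P i := stepQ 277 Q277 (allL N277 (tt N451 (iv F1707)) (tt N421 (iv F1621)) (tt N277 F949) (tt N456 D519) (tt N455 (iv F1721)) (tt N277 F950) (tt N457 D520) (tt N157 (iv D297)))
theorem Q279 : ∀ i, i < 279 → P i := stepQ 278 Q278 (allL N278 (tt N452 (iv F1710)) (tt N422 (iv F1622)) (tt N458 D521) (tt N158 (iv D298)) (tt N374 F1467) (tt N278 F951) (tt N373 (iv F1468)) (tt N456 (iv F1724)))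
theorem Q280 : ∀ i, i < 280 → P i := stepQ 279 Q279 (allL N279 (tt N453 (iv F1712)) (tt N459 D522) (tt N159 (iv D300)) (tt N458 (iv F1727)) (tt N279 F955) (tt N279 F956) (tt N460 D523) (tt N279 F957))
theorem Q281 : ∀ i, i < 281 → P i := stepQ 280 Q280 (allL N280 (tt N454 (iv F1716)) (tt N162 F958) (tt N460 (iv F1732)) (tt N160 F959) (tt N280 F960) (tt N396 (iv F1535)) (tt N159 (iv D301)) (tt N461 D524))
theorem Q282 : ∀ i, i < 282 → P i := stepQ 281 Q281 (allL N281 (tt N462 D525) (tt N161 (iv D303)) (tt N459 (iv F1729)) (tt N427 (iv F1631)) (tt N281 F965) (tt N463 D526) (tt N464 D527) (tt N281 F966))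
theorem Q283 : ∀ i, i < 283 → P i := stepQ 282 Q282 (allL N282 (tt N282 F967) (tt N464 (iv F1744)) (tt N162 F968) (tt N429 (iv F1639)) (tt N282 F969) (tt N282 F970) (tt N161 (iv D304)) (tt N465 D528))
theorem Q284 : ∀ i, i < 284 → P i := stepQ 283 Q283 (allL N283 (tt N283 F971) (tt N461 (iv F1734)) (tt N465 (iv F1747)) (tt N283 F972) (tt N283 F973) (tt N283 F974) (tt N283 F975) (tt N162 (iv D305)))
theorem Q285 : ∀ i, i < 285 → P i := stepQ 284 Q284 (allL N284 (tt N163 (iv D306)) (tt N284 F976) (tt N284 F977) (tt N432 (iv F1653)) (tt N284 F978) (tt N466 D529) (tt N284 F979) (tt N284 F980))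
theorem Q286 : ∀ i, i < 286 → P i := stepQ 285 Q285 (allL N285 (tt N466 (iv F1752)) (tt N463 (iv F1741)) (tt N285 F981) (tt N434 (iv F1658)) (tt N285 F982) (tt N163 (iv D307)) (tt N467 D530) (tt N285 F983))
theorem Q287 : ∀ i, i < 287 → P i := stepQ 286 Q286 (allL N286 (tt N435 (iv F1659)) (tt N165 F984) (tt N324 F1461) (tt N164 (iv D308)) (tt N468 D531) (tt N328 (iv F1462)) (tt N286 F985) (tt N469 D532))
theorem Q288 : ∀ i, i < 288 → P i := stepQ 287 Q287 (allL N287 (tt N436 (iv F1662)) (tt N287 F986) (tt N287 F987) (tt N328 F1463) (tt N448 (iv F1698)) (tt N164 (iv D309)) (tt N336 (iv F1464)) (tt N470 D533))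
theorem Q289 : ∀ i, i < 289 → P i := stepQ 288 Q288 (allL N288 (tt N437 (iv F1664)) (tt N166 F988) (tt N288 F989) (tt N339 F1444) (tt N449 (iv F1701)) (tt N470 (iv F1764)) (tt N338 (iv F1445)) (tt N164 (iv D310)))
theorem Q290 : ∀ i, i < 290 → P i := stepQ 289 Q289 (allL N289 (tt N168 F990) (tt N468 (iv F1759)) (tt N172 F991) (tt N450 (iv F1704)) (tt N165 (iv D311)) (tt N289 F992) (tt N289 F993) (tt N471 D534))
theorem Q291 : ∀ i, i < 291 → P i := stepQ 290 Q290 (allL N290 (tt N169 F994) (tt N469 (iv F1761)) (tt N173 F995) (tt N331 F1409) (tt N471 (iv F1768)) (tt N290 F996) (tt N330 F1438) (tt N165 (iv D312)))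
theorem Q292 : ∀ i, i < 292 → P i := stepQ 291 Q291 (allL N291 (tt N471 (iv F1766)) (tt N443 (iv F1681)) (tt N174 F1007) (tt N472 D535) (tt N169 F1008) (tt N291 F1009) (tt N383 (iv F1487)) (tt N168 (iv D316)))
theorem Q293 : ∀ i, i < 293 → P i := stepQ 292 Q292 (allL N292 (tt N292 F1025) (tt N172 F1026) (tt N310 (iv F1460)) (tt N292 F1027) (tt N170 (iv D323)) (tt N309 F1459) (tt N292 F1028) (tt N473 D536))
theorem Q294 : ∀ i, i < 294 → P i := stepQ 293 Q293 (allL N293 (tt N293 F1032) (tt N173 F1033) (tt N325 F1458) (tt N293 F1034) (tt N473 (iv F1773)) (tt N323 (iv F1457)) (tt N474 D537) (tt N170 (iv D325)))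
theorem Q295 : ∀ i, i < 295 → P i := stepQ 294 Q294 (allL N294 (tt N174 F1040) (tt N473 (iv F1772)) (tt N471 (iv F1767)) (tt N475 D538) (tt N173 F1041) (tt N294 F1042) (tt N476 D539) (tt N172 (iv D327)))
theorem Q296 : ∀ i, i < 296 → P i := stepQ 295 Q295 (allL N295 (tt N175 F1043) (tt N474 (iv F1775)) (tt N330 (iv F1439)) (tt N295 F1044) (tt N476 (iv F1784)) (tt N332 F1440) (tt N173 (iv D328)) (tt N295 F1045))
theorem Q297 : ∀ i, i < 297 → P i := stepQ 296 Q296 (allL N296 (tt N475 (iv F1779)) (tt N296 F1046) (tt N477 D540) (tt N174 (iv D329)) (tt N296 F1047) (tt N296 F1048) (tt N478 D541) (tt N296 F1049))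
theorem Q298 : ∀ i, i < 298 → P i := stepQ 297 Q297 (allL N297 (tt N476 (iv F1783)) (tt N297 F1050) (tt N383 (iv F1485)) (tt N478 (iv F1790)) (tt N175 F1051) (tt N385 (iv F1496)) (tt N174 (iv D330)) (tt N297 F1052))
theorem Q299 : ∀ i, i < 299 → P i := stepQ 298 Q298 (allL N298 (tt N298 F1060) (tt N177 F1061) (tt N298 F1062) (tt N298 F1063) (tt N298 F1064) (tt N479 D542) (tt N176 (iv D333)) (tt N480 D543))
theorem Q300 : ∀ i, i < 300 → P i := stepQ 299 Q299 (allL N299 (tt N204 F1079) (tt N481 D544) (tt N180 F1080) (tt N299 F1081) (tt N299 F1082) (tt N177 (iv D338)) (tt N308 (iv F1433)) (tt N482 D545))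
theorem Q301 : ∀ i, i < 301 → P i := stepQ 300 Q300 (allL N300 (tt N205 F1083) (tt N480 (iv F1798)) (tt N181 F1084) (tt N483 D546) (tt N300 F1085) (tt N482 (iv F1806)) (tt N303 (iv F1436)) (tt N177 (iv D339)))
theorem Q302 : ∀ i, i < 302 → P i := stepQ 301 Q301 (allL N301 (tt N301 F1095) (tt N179 F1096) (tt N301 F1428) (tt N184 F1097) (tt N301 F1098) (tt N484 D547) (tt N178 (iv D343)) (tt N485 D548))
theorem Q303 : ∀ i, i < 303 → P i := stepQ 302 Q302 (allL N302 (tt N206 F1104) (tt N486 D549) (tt N308 F1435) (tt N185 F1105) (tt N302 F1106) (tt N179 (iv D345)) (tt N180 F1107) (tt N487 D550))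
theorem Q304 : ∀ i, i < 304 → P i := stepQ 303 Q303 (allL N303 (tt N207 F1108) (tt N485 (iv F1815)) (tt N307 (iv F1437)) (tt N488 D551) (tt N303 F1109) (tt N487 (iv F1824)) (tt N300 F1436) (tt N179 (iv D346)))
theorem Q305 : ∀ i, i < 305 → P i := stepQ 304 Q304 (allL N304 (tt N489 D552) (tt N180 (iv D348)) (tt N490 D553) (tt N187 F1113) (tt N304 F1114) (tt N304 F1115) (tt N486 (iv F1821)) (tt N491 D554))
theorem Q306 : ∀ i, i < 306 → P i := stepQ 305 Q305 (allL N305 (tt N209 F1116) (tt N491 (iv F1834)) (tt N482 (iv F1804)) (tt N492 D555) (tt N305 F1117) (tt N181 F1118) (tt N493 D556) (tt N180 (iv D349)))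
theorem Q307 : ∀ i, i < 307 → P i := stepQ 306 Q306 (allL N306 (tt N210 F1119) (tt N306 F1120) (tt N494 D557) (tt N181 (iv D350)) (tt N495 D558) (tt N492 (iv F1838)) (tt N496 D559) (tt N189 F1121))
theorem Q308 : ∀ i, i < 308 → P i := stepQ 307 Q307 (allL N307 (tt N211 F1122) (tt N307 F1123) (tt N303 F1437) (tt N496 (iv F1850)) (tt N307 F1124) (tt N497 D560) (tt N181 (iv D351)) (tt N182 F1125))
theorem Q309 : ∀ i, i < 309 → P i := stepQ 308 Q308 (allL N308 (tt N212 F1126) (tt N498 D561) (tt N302 (iv F1435)) (tt N308 F1127) (tt N308 F1128) (tt N182 (iv D352)) (tt N299 F1433) (tt N497 (iv F1855)))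
theorem Q310 : ∀ i, i < 310 → P i := stepQ 309 Q309 (allL N309 (tt N309 F1132) (tt N309 F1133) (tt N184 F1134) (tt N309 F1429) (tt N191 F1135) (tt N292 (iv F1459)) (tt N183 (iv D354)) (tt N499 D562))
theorem Q311 : ∀ i, i < 311 → P i := stepQ 310 Q310 (allL N310 (tt N310 F1136) (tt N500 D563) (tt N292 F1460) (tt N484 (iv F1811)) (tt N192 F1137) (tt N184 (iv D355)) (tt N310 F1138) (tt N501 D564))
theorem Q312 : ∀ i, i < 312 → P i := stepQ 311 Q311 (allL N311 (tt N311 F1139) (tt N186 F1140) (tt N499 (iv F1862)) (tt N502 D565) (tt N193 F1141) (tt N501 (iv F1873)) (tt N311 F1142) (tt N184 (iv D356)))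
theorem Q313 : ∀ i, i < 313 → P i := stepQ 312 Q312 (allL N312 (tt N503 D566) (tt N185 (iv D357)) (tt N504 D567) (tt N486 (iv F1819)) (tt N194 F1143) (tt N500 (iv F1868)) (tt N187 F1144) (tt N505 D568))
theorem Q314 : ∀ i, i < 314 → P i := stepQ 313 Q313 (allL N313 (tt N214 F1145) (tt N505 (iv F1884)) (tt N313 F1146) (tt N506 D569) (tt N195 F1147) (tt N186 F1148) (tt N507 D570) (tt N185 (iv D358)))
theorem Q315 : ∀ i, i < 315 → P i := stepQ 314 Q314 (allL N314 (tt N215 F1149) (tt N502 (iv F1875)) (tt N508 D571) (tt N186 (iv D359)) (tt N509 D572) (tt N506 (iv F1887)) (tt N314 F1150) (tt N488 (iv F1827)))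
theorem Q316 : ∀ i, i < 316 → P i := stepQ 315 Q315 (allL N315 (tt N187 (iv D360)) (tt N216 F1151) (tt N510 D573) (tt N489 (iv F1829)) (tt N197 F1152) (tt N315 F1153) (tt N503 (iv F1879)) (tt N511 D574))
theorem Q317 : ∀ i, i < 317 → P i := stepQ 316 Q316 (allL N316 (tt N510 (iv F1899)) (tt N316 F1154) (tt N187 (iv D361)) (tt N512 D575) (tt N198 F1155) (tt N316 F1156) (tt N504 (iv F1883)) (tt N513 D576))
theorem Q318 : ∀ i, i < 318 → P i := stepQ 317 Q317 (allL N317 (tt N511 (iv F1902)) (tt N188 F1157) (tt N513 (iv F1909)) (tt N514 D577) (tt N199 F1158) (tt N317 F1159) (tt N515 D578) (tt N187 (iv D362)))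
theorem Q319 : ∀ i, i < 319 → P i := stepQ 318 Q318 (allL N318 (tt N219 F1160) (tt N514 (iv F1912)) (tt N516 D579) (tt N188 (iv D363)) (tt N517 D580) (tt N189 F1161) (tt N518 D581) (tt N492 (iv F1839)))
theorem Q320 : ∀ i, i < 320 → P i := stepQ 319 Q319 (allL N319 (tt N220 F1162) (tt N515 (iv F1914)) (tt N319 F1163) (tt N518 (iv F1924)) (tt N201 F1164) (tt N319 F1165) (tt N188 (iv D364)) (tt N507 (iv F1892)))
theorem Q321 : ∀ i, i < 321 → P i := stepQ 320 Q320 (allL N320 (tt N221 F1166) (tt N519 D582) (tt N189 (iv D365)) (tt N320 F1167) (tt N520 D583) (tt N516 (iv F1918)) (tt N320 F1168) (tt N494 (iv F1843)))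
theorem Q322 : ∀ i, i < 322 → P i := stepQ 321 Q321 (allL N321 (tt N222 F1169) (tt N321 F1170) (tt N520 (iv F1931)) (tt N203 F1171) (tt N189 (iv D366)) (tt N517 (iv F1921)) (tt N321 F1172) (tt N495 (iv F1847)))
theorem Q323 : ∀ i, i < 323 → P i := stepQ 322 Q322 (allL N322 (tt N322 F1181) (tt N322 F1182) (tt N322 F1183) (tt N322 F1184) (tt N322 F1432) (tt N322 F1185) (tt N322 F1449) (tt N190 (iv D369)))
theorem Q324 : ∀ i, i < 324 → P i := stepQ 323 Q323 (allL N323 (tt N323 F1189) (tt N323 F1190) (tt N193 F1191) (tt N323 F1451) (tt N499 (iv F1863)) (tt N293 F1457) (tt N323 F1192) (tt N191 (iv D371)))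
theorem Q325 : ∀ i, i < 325 → P i := stepQ 324 Q324 (allL N324 (tt N521 D584) (tt N192 (iv D372)) (tt N286 (iv F1461)) (tt N324 F1193) (tt N500 (iv F1867)) (tt N194 F1194) (tt N324 F1195) (tt N522 D585))
theorem Q326 : ∀ i, i < 326 → P i := stepQ 325 Q325 (allL N325 (tt N325 F1196) (tt N522 (iv F1938)) (tt N293 (iv F1458)) (tt N523 D586) (tt N501 (iv F1872)) (tt N193 F1197) (tt N524 D587) (tt N192 (iv D373)))
theorem Q327 : ∀ i, i < 327 → P i := stepQ 326 Q326 (allL N326 (tt N326 F1198) (tt N196 F1199) (tt N326 F1466) (tt N193 (iv D374)) (tt N525 D588) (tt N523 (iv F1943)) (tt N326 F1200) (tt N326 F1201))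
theorem Q328 : ∀ i, i < 328 → P i := stepQ 327 Q327 (allL N327 (tt N194 (iv D375)) (tt N223 F1202) (tt N526 D589) (tt N327 F1203) (tt N503 (iv F1878)) (tt N521 (iv F1936)) (tt N197 F1204) (tt N527 D590))
theorem Q329 : ∀ i, i < 329 → P i := stepQ 328 Q328 (allL N328 (tt N526 (iv F1954)) (tt N328 F1205) (tt N194 (iv D376)) (tt N287 (iv F1463)) (tt N504 (iv F1881)) (tt N286 F1462) (tt N198 F1206) (tt N528 D591))
theorem Q330 : ∀ i, i < 330 → P i := stepQ 329 Q329 (allL N329 (tt N527 (iv F1958)) (tt N195 F1207) (tt N528 (iv F1961)) (tt N529 D592) (tt N505 (iv F1885)) (tt N522 (iv F1940)) (tt N530 D593) (tt N194 (iv D377)))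
theorem Q331 : ∀ i, i < 331 → P i := stepQ 330 Q330 (allL N330 (tt N226 F1208) (tt N529 (iv F1963)) (tt N295 F1439) (tt N195 (iv D378)) (tt N531 D594) (tt N196 F1209) (tt N290 (iv F1438)) (tt N330 F1210))
theorem Q332 : ∀ i, i < 332 → P i := stepQ 331 Q331 (allL N331 (tt N227 F1211) (tt N530 (iv F1966)) (tt N331 F1212) (tt N290 (iv F1409)) (tt N507 (iv F1890)) (tt N331 F1213) (tt N195 (iv D379)) (tt N201 F1214))
theorem Q333 : ∀ i, i < 333 → P i := stepQ 332 Q332 (allL N332 (tt N228 F1215) (tt N332 F1465) (tt N196 (iv D380)) (tt N332 F1216) (tt N532 D595) (tt N295 (iv F1440)) (tt N332 F1217) (tt N332 F1218))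
theorem Q334 : ∀ i, i < 334 → P i := stepQ 333 Q333 (allL N333 (tt N229 F1219) (tt N525 (iv F1950)) (tt N532 (iv F1976)) (tt N509 (iv F1897)) (tt N196 (iv D381)) (tt N531 (iv F1971)) (tt N333 F1220) (tt N333 F1221))
theorem Q335 : ∀ i, i < 335 → P i := stepQ 334 Q334 (allL N334 (tt N198 F1222) (tt N533 D596) (tt N197 (iv D382)) (tt N534 D597) (tt N510 (iv F1900)) (tt N334 F1223) (tt N526 (iv F1956)) (tt N535 D598))
theorem Q336 : ∀ i, i < 336 → P i := stepQ 335 Q335 (allL N335 (tt N199 F1224) (tt N231 F1225) (tt N535 (iv F1988)) (tt N536 D599) (tt N511 (iv F1904)) (tt N335 F1226) (tt N537 D600) (tt N197 (iv D383)))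
theorem Q337 : ∀ i, i < 337 → P i := stepQ 336 Q336 (allL N336 (tt N534 (iv F1982)) (tt N336 F1227) (tt N336 F1228) (tt N198 (iv D384)) (tt N538 D601) (tt N336 F1229) (tt N287 F1464) (tt N336 F1448))
theorem Q338 : ∀ i, i < 338 → P i := stepQ 337 Q337 (allL N337 (tt N535 (iv F1987)) (tt N337 F1230) (tt N199 F1231) (tt N337 F1447) (tt N513 (iv F1910)) (tt N337 F1232) (tt N539 D602) (tt N198 (iv D385)))
theorem Q339 : ∀ i, i < 339 → P i := stepQ 338 Q338 (allL N338 (tt N536 (iv F1991)) (tt N200 F1233) (tt N338 F1446) (tt N199 (iv D386)) (tt N540 D603) (tt N338 F1234) (tt N288 F1445) (tt N338 F1235))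
theorem Q340 : ∀ i, i < 340 → P i := stepQ 339 Q339 (allL N339 (tt N537 (iv F1997)) (tt N201 F1236) (tt N539 (iv F2006)) (tt N288 (iv F1444)) (tt N515 (iv F1915)) (tt N541 D604) (tt N199 (iv D387)) (tt N530 (iv F1968)))
theorem Q341 : ∀ i, i < 341 → P i := stepQ 340 Q340 (allL N340 (tt N236 F1241) (tt N540 (iv F2008)) (tt N275 (iv F1470)) (tt N517 (iv F1920)) (tt N200 (iv D389)) (tt N203 F1242) (tt N273 F1469) (tt N340 F1243))
theorem Q342 : ∀ i, i < 342 → P i := stepQ 341 Q341 (allL N341 (tt N341 F1247) (tt N202 (iv D391)) (tt N341 F1248) (tt N341 F1249) (tt N542 D605) (tt N341 F1456) (tt N341 F1250) (tt N341 F1251))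
theorem Q343 : ∀ i, i < 343 → P i := stepQ 342 Q342 (allL N342 (tt N237 F1252) (tt N542 (iv F2017)) (tt N203 F1253) (tt N543 D606) (tt N202 (iv D392)) (tt N275 F1471) (tt N342 F1254) (tt N342 F1255))
theorem Q344 : ∀ i, i < 344 → P i := stepQ 343 Q343 (allL N343 (tt N544 D607) (tt N204 (iv D400)) (tt N545 D608) (tt N343 F1279) (tt N343 F1280) (tt N343 F1281) (tt N358 (iv F1434)) (tt N546 D609))
theorem Q345 : ∀ i, i < 345 → P i := stepQ 344 Q344 (allL N344 (tt N482 (iv F1803)) (tt N546 (iv F2032)) (tt N209 F1282) (tt N547 D610) (tt N344 F1283) (tt N205 F1284) (tt N548 D611) (tt N204 (iv D401)))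
theorem Q346 : ∀ i, i < 346 → P i := stepQ 345 Q345 (allL N345 (tt N483 (iv F1807)) (tt N345 F1285) (tt N549 D612) (tt N205 (iv D402)) (tt N550 D613) (tt N547 (iv F2035)) (tt N348 (iv F1442)) (tt N345 F1286))
theorem Q347 : ∀ i, i < 347 → P i := stepQ 346 Q346 (allL N346 (tt N551 D614) (tt N206 (iv D407)) (tt N552 D615) (tt N213 F1300) (tt N346 F1301) (tt N346 F1302) (tt N208 F1303) (tt N553 D616))
theorem Q348 : ∀ i, i < 348 → P i := stepQ 347 Q347 (allL N347 (tt N487 (iv F1822)) (tt N553 (iv F2051)) (tt N357 F1443) (tt N554 D617) (tt N347 F1304) (tt N207 F1305) (tt N555 D618) (tt N206 (iv D408)))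
theorem Q349 : ∀ i, i < 349 → P i := stepQ 348 Q348 (allL N348 (tt N488 (iv F1825)) (tt N348 F1306) (tt N556 D619) (tt N207 (iv D409)) (tt N557 D620) (tt N554 (iv F2054)) (tt N345 F1442) (tt N215 F1307))
theorem Q350 : ∀ i, i < 350 → P i := stepQ 349 Q349 (allL N349 (tt N208 (iv D412)) (tt N489 (iv F1828)) (tt N558 D621) (tt N216 F1314) (tt N349 F1315) (tt N238 F1316) (tt N551 (iv F2047)) (tt N559 D622))
theorem Q351 : ∀ i, i < 351 → P i := stepQ 350 Q350 (allL N350 (tt N558 (iv F2065)) (tt N545 (iv F2029)) (tt N208 (iv D413)) (tt N560 D623) (tt N350 F1317) (tt N239 F1318) (tt N552 (iv F2050)) (tt N561 D624))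
theorem Q352 : ∀ i, i < 352 → P i := stepQ 351 Q351 (allL N351 (tt N559 (iv F2068)) (tt N209 F1319) (tt N561 (iv F2073)) (tt N562 D625) (tt N351 F1320) (tt N240 F1321) (tt N563 D626) (tt N208 (iv D414)))
theorem Q353 : ∀ i, i < 353 → P i := stepQ 352 Q352 (allL N352 (tt N492 (iv F1837)) (tt N562 (iv F2076)) (tt N564 D627) (tt N209 (iv D415)) (tt N565 D628) (tt N210 F1322) (tt N566 D629) (tt N219 F1323))
theorem Q354 : ∀ i, i < 354 → P i := stepQ 353 Q353 (allL N353 (tt N493 (iv F1840)) (tt N563 (iv F2079)) (tt N548 (iv F2037)) (tt N566 (iv F2086)) (tt N353 F1324) (tt N567 D630) (tt N209 (iv D416)) (tt N555 (iv F2058)))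
theorem Q355 : ∀ i, i < 355 → P i := stepQ 354 Q354 (allL N354 (tt N494 (iv F1842)) (tt N568 D631) (tt N210 (iv D417)) (tt N549 (iv F2039)) (tt N569 D632) (tt N564 (iv F2081)) (tt N570 D633) (tt N221 F1325))
theorem Q356 : ∀ i, i < 356 → P i := stepQ 355 Q355 (allL N355 (tt N495 (iv F1844)) (tt N244 F1326) (tt N569 (iv F2093)) (tt N355 F1327) (tt N210 (iv D418)) (tt N565 (iv F2084)) (tt N571 D634) (tt N222 F1328))
theorem Q357 : ∀ i, i < 357 → P i := stepQ 356 Q356 (allL N356 (tt N496 (iv F1848)) (tt N245 F1329) (tt N570 (iv F2095)) (tt N211 F1330) (tt N571 (iv F2100)) (tt N572 D635) (tt N210 (iv D419)) (tt N356 F1331))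
theorem Q358 : ∀ i, i < 358 → P i := stepQ 357 Q357 (allL N357 (tt N497 (iv F1852)) (tt N573 D636) (tt N347 (iv F1443)) (tt N572 (iv F2102)) (tt N357 F1332) (tt N211 (iv D420)) (tt N567 (iv F2089)) (tt N212 F1333))
theorem Q359 : ∀ i, i < 359 → P i := stepQ 358 Q358 (allL N358 (tt N574 D637) (tt N212 (iv D421)) (tt N575 D638) (tt N358 F1334) (tt N358 F1335) (tt N247 F1336) (tt N343 F1434) (tt N573 (iv F2106)))
theorem Q360 : ∀ i, i < 360 → P i := stepQ 359 Q359 (allL N359 (tt N213 (iv D422)) (tt N503 (iv F1877)) (tt N576 D639) (tt N551 (iv F2044)) (tt N223 F1337) (tt N359 F1338) (tt N216 F1339) (tt N577 D640))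
theorem Q361 : ∀ i, i < 361 → P i := stepQ 360 Q360 (allL N360 (tt N576 (iv F2115)) (tt N360 F1340) (tt N213 (iv D423)) (tt N578 D641) (tt N224 F1341) (tt N360 F1342) (tt N217 F1343) (tt N579 D642))
theorem Q362 : ∀ i, i < 362 → P i := stepQ 361 Q361 (allL N361 (tt N577 (iv F2119)) (tt N214 F1344) (tt N579 (iv F2126)) (tt N580 D643) (tt N225 F1345) (tt N361 F1346) (tt N581 D644) (tt N213 (iv D424)))
theorem Q363 : ∀ i, i < 363 → P i := stepQ 362 Q362 (allL N362 (tt N506 (iv F1886)) (tt N580 (iv F2129)) (tt N582 D645) (tt N214 (iv D425)) (tt N583 D646) (tt N215 F1347) (tt N584 D647) (tt N554 (iv F2055)))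
theorem Q364 : ∀ i, i < 364 → P i := stepQ 363 Q363 (allL N363 (tt N507 (iv F1888)) (tt N581 (iv F2131)) (tt N363 F1348) (tt N584 (iv F2139)) (tt N227 F1349) (tt N363 F1350) (tt N214 (iv D426)) (tt N220 F1351))
theorem Q365 : ∀ i, i < 365 → P i := stepQ 364 Q364 (allL N364 (tt N508 (iv F1893)) (tt N585 D648) (tt N215 (iv D427)) (tt N364 F1352) (tt N586 D649) (tt N582 (iv F2135)) (tt N364 F1353) (tt N556 (iv F2060)))
theorem Q366 : ∀ i, i < 366 → P i := stepQ 365 Q365 (allL N365 (tt N509 (iv F1896)) (tt N365 F1354) (tt N586 (iv F2145)) (tt N229 F1355) (tt N215 (iv D428)) (tt N583 (iv F2137)) (tt N365 F1356) (tt N557 (iv F2064)))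
theorem Q367 : ∀ i, i < 367 → P i := stepQ 366 Q366 (allL N366 (tt N217 F1357) (tt N587 D650) (tt N216 (iv D429)) (tt N588 D651) (tt N230 F1358) (tt N248 F1359) (tt N576 (iv F2118)) (tt N589 D652))
theorem Q368 : ∀ i, i < 368 → P i := stepQ 367 Q367 (allL N367 (tt N218 F1360) (tt N511 (iv F1903)) (tt N589 (iv F2152)) (tt N590 D653) (tt N231 F1361) (tt N249 F1362) (tt N591 D654) (tt N216 (iv D430)))
theorem Q369 : ∀ i, i < 369 → P i := stepQ 368 Q368 (allL N368 (tt N588 (iv F2149)) (tt N368 F1363) (tt N560 (iv F2071)) (tt N217 (iv D431)) (tt N592 D655) (tt N250 F1364) (tt N578 (iv F2124)) (tt N593 D656))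
theorem Q370 : ∀ i, i < 370 → P i := stepQ 369 Q369 (allL N369 (tt N589 (iv F2151)) (tt N369 F1365) (tt N218 F1366) (tt N594 D657) (tt N233 F1367) (tt N251 F1368) (tt N595 D658) (tt N217 (iv D432)))
theorem Q371 : ∀ i, i < 371 → P i := stepQ 370 Q370 (allL N370 (tt N590 (iv F2155)) (tt N219 F1369) (tt N596 D659) (tt N218 (iv D433)) (tt N597 D660) (tt N252 F1370) (tt N598 D661) (tt N562 (iv F2078)))
theorem Q372 : ∀ i, i < 372 → P i := stepQ 371 Q371 (allL N371 (tt N591 (iv F2157)) (tt N220 F1371) (tt N595 (iv F2167)) (tt N598 (iv F2176)) (tt N235 F1372) (tt N599 D662) (tt N218 (iv D434)) (tt N581 (iv F2133)))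
theorem Q373 : ∀ i, i < 373 → P i := stepQ 372 Q372 (allL N372 (tt N516 (iv F1916)) (tt N600 D663) (tt N219 (iv D435)) (tt N372 F1373) (tt N601 D664) (tt N221 F1374) (tt N602 D665) (tt N564 (iv F2082)))
theorem Q374 : ∀ i, i < 374 → P i := stepQ 373 Q373 (allL N373 (tt N517 (iv F1919)) (tt N597 (iv F2171)) (tt N601 (iv F2183)) (tt N236 F1375) (tt N219 (iv D436)) (tt N222 F1376) (tt N278 F1468) (tt N565 (iv F2085)))
theorem Q375 : ∀ i, i < 375 → P i := stepQ 374 Q374 (allL N374 (tt N518 (iv F1923)) (tt N598 (iv F2175)) (tt N602 (iv F2187)) (tt N220 F1377) (tt N278 (iv F1467)) (tt N374 F1378) (tt N219 (iv D437)) (tt N603 D666))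
theorem Q376 : ∀ i, i < 376 → P i := stepQ 375 Q375 (allL N375 (tt N604 D667) (tt N221 (iv D438)) (tt N257 F1379) (tt N375 F1380) (tt N605 D668) (tt N606 D669) (tt N375 F1381) (tt N568 (iv F2092)))
theorem Q377 : ∀ i, i < 377 → P i := stepQ 376 Q376 (allL N376 (tt N520 (iv F1930)) (tt N605 (iv F2196)) (tt N222 F1382) (tt N607 D670) (tt N221 (iv D439)) (tt N601 (iv F2184)) (tt N376 F1383) (tt N569 (iv F2094)))
theorem Q378 : ∀ i, i < 378 → P i := stepQ 377 Q377 (allL N377 (tt N224 F1384) (tt N608 D671) (tt N223 (iv D440)) (tt N609 D672) (tt N576 (iv F2116)) (tt N377 F1385) (tt N230 F1386) (tt N610 D673))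
theorem Q379 : ∀ i, i < 379 → P i := stepQ 378 Q378 (allL N378 (tt N225 F1387) (tt N527 (iv F1959)) (tt N610 (iv F2213)) (tt N611 D674) (tt N577 (iv F2120)) (tt N378 F1388) (tt N612 D675) (tt N223 (iv D441)))
theorem Q380 : ∀ i, i < 380 → P i := stepQ 379 Q379 (allL N379 (tt N609 (iv F2207)) (tt N379 F1389) (tt N379 F1390) (tt N224 (iv D442)) (tt N613 D676) (tt N379 F1391) (tt N232 F1392) (tt N379 F1393))
theorem Q381 : ∀ i, i < 381 → P i := stepQ 380 Q380 (allL N380 (tt N610 (iv F2212)) (tt N380 F1473) (tt N225 F1474) (tt N380 F1475) (tt N579 (iv F2127)) (tt N380 F1476) (tt N614 D677) (tt N224 (iv D443)))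
theorem Q382 : ∀ i, i < 382 → P i := stepQ 381 Q381 (allL N381 (tt N611 (iv F2216)) (tt N226 F1477) (tt N381 F1478) (tt N225 (iv D444)) (tt N615 D678) (tt N381 F1479) (tt N265 (iv F1481)) (tt N381 F1480))
theorem Q383 : ∀ i, i < 383 → P i := stepQ 382 Q382 (allL N382 (tt N612 (iv F2221)) (tt N227 F1482) (tt N614 (iv F2230)) (tt N265 F1483) (tt N581 (iv F2132)) (tt N616 D679) (tt N225 (iv D445)) (tt N235 F1484))
theorem Q384 : ∀ i, i < 384 → P i := stepQ 383 Q383 (allL N383 (tt N531 (iv F1969)) (tt N615 (iv F2234)) (tt N297 F1485) (tt N583 (iv F2136)) (tt N226 (iv D446)) (tt N229 F1486) (tt N291 F1487) (tt N383 F1488))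
theorem Q385 : ∀ i, i < 385 → P i := stepQ 384 Q384 (allL N384 (tt N384 F1489) (tt N228 (iv D447)) (tt N384 F1490) (tt N384 F1491) (tt N617 D680) (tt N384 F1492) (tt N384 F1493) (tt N384 F1494))
theorem Q386 : ∀ i, i < 386 → P i := stepQ 385 Q385 (allL N385 (tt N532 (iv F1974)) (tt N617 (iv F2245)) (tt N229 F1495) (tt N618 D681) (tt N228 (iv D448)) (tt N297 F1496) (tt N385 F1497) (tt N385 F1498))
theorem Q387 : ∀ i, i < 387 → P i := stepQ 386 Q386 (allL N386 (tt N386 F1499) (tt N230 (iv D449)) (tt N533 (iv F1981)) (tt N619 D682) (tt N587 (iv F2148)) (tt N620 D683) (tt N608 (iv F2206)) (tt N621 D684))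
theorem Q388 : ∀ i, i < 388 → P i := stepQ 387 Q387 (allL N387 (tt N232 F1500) (tt N619 (iv F2254)) (tt N387 F1501) (tt N230 (iv D450)) (tt N622 D685) (tt N260 F1502) (tt N609 (iv F2210)) (tt N623 D686))
theorem Q389 : ∀ i, i < 389 → P i := stepQ 388 Q388 (allL N388 (tt N233 F1503) (tt N621 (iv F2258)) (tt N231 F1504) (tt N624 D687) (tt N589 (iv F2153)) (tt N261 F1505) (tt N625 D688) (tt N230 (iv D451)))
theorem Q390 : ∀ i, i < 390 → P i := stepQ 389 Q389 (allL N389 (tt N234 F1506) (tt N536 (iv F1992)) (tt N263 (iv F1509)) (tt N231 (iv D452)) (tt N626 D689) (tt N262 F1507) (tt N261 (iv F1510)) (tt N389 F1508))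
theorem Q391 : ∀ i, i < 391 → P i := stepQ 390 Q390 (allL N390 (tt N235 F1511) (tt N537 (iv F1998)) (tt N625 (iv F2271)) (tt N261 F1512) (tt N591 (iv F2158)) (tt N624 (iv F2268)) (tt N231 (iv D453)) (tt N612 (iv F2223)))
theorem Q392 : ∀ i, i < 392 → P i := stepQ 391 Q391 (allL N391 (tt N622 (iv F2259)) (tt N391 F1513) (tt N391 F1514) (tt N592 (iv F2160)) (tt N232 (iv D454)) (tt N264 F1515) (tt N613 (iv F2227)) (tt N627 D690))
theorem Q393 : ∀ i, i < 393 → P i := stepQ 392 Q392 (allL N392 (tt N623 (iv F2262)) (tt N392 F1516) (tt N392 F1517) (tt N616 (iv F2241)) (tt N627 (iv F2281)) (tt N265 F1518) (tt N392 F1519) (tt N232 (iv D455)))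
theorem Q394 : ∀ i, i < 394 → P i := stepQ 393 Q393 (allL N393 (tt N624 (iv F2266)) (tt N393 F1520) (tt N268 F1521) (tt N233 (iv D456)) (tt N599 (iv F2180)) (tt N235 F1522) (tt N266 (iv F1523)) (tt N616 (iv F2243)))
theorem Q395 : ∀ i, i < 395 → P i := stepQ 394 Q394 (allL N394 (tt N625 (iv F2270)) (tt N394 F1524) (tt N235 F1525) (tt N266 F1526) (tt N595 (iv F2168)) (tt N268 F1527) (tt N233 (iv D457)) (tt N614 (iv F2232)))
theorem Q396 : ∀ i, i < 396 → P i := stepQ 395 Q395 (allL N395 (tt N626 (iv F2274)) (tt N236 F1528) (tt N253 F1529) (tt N597 (iv F2172)) (tt N234 (iv D458)) (tt N267 F1530) (tt N251 F1531) (tt N395 F1532))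
theorem Q397 : ∀ i, i < 397 → P i := stepQ 396 Q396 (allL N396 (tt N543 (iv F2022)) (tt N396 F1533) (tt N607 (iv F2201)) (tt N237 (iv D459)) (tt N396 F1534) (tt N280 F1535) (tt N396 F1536) (tt N628 D691))
theorem Q398 : ∀ i, i < 398 → P i := stepQ 397 Q397 (allL N397 (tt N239 F1537) (tt N629 D692) (tt N238 (iv D460)) (tt N630 D693) (tt N397 F1538) (tt N558 (iv F2067)) (tt N397 F1539) (tt N631 D694))
theorem Q399 : ∀ i, i < 399 → P i := stepQ 398 Q398 (allL N398 (tt N240 F1540) (tt N398 F1541) (tt N631 (iv F2296)) (tt N632 D695) (tt N398 F1542) (tt N559 (iv F2070)) (tt N633 D696) (tt N238 (iv D461)))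
theorem Q400 : ∀ i, i < 400 → P i := stepQ 399 Q399 (allL N399 (tt N630 (iv F2292)) (tt N399 F1543) (tt N250 F1544) (tt N239 (iv D462)) (tt N634 D697) (tt N560 (iv F2072)) (tt N399 F1545) (tt N635 D698))
theorem Q401 : ∀ i, i < 401 → P i := stepQ 400 Q400 (allL N400 (tt N631 (iv F2295)) (tt N400 F1546) (tt N240 F1547) (tt N636 D699) (tt N400 F1548) (tt N561 (iv F2075)) (tt N637 D700) (tt N239 (iv D463)))
theorem Q402 : ∀ i, i < 402 → P i := stepQ 401 Q401 (allL N401 (tt N632 (iv F2298)) (tt N241 F1549) (tt N638 D701) (tt N240 (iv D464)) (tt N639 D702) (tt N562 (iv F2077)) (tt N640 D703) (tt N252 F1550))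
theorem Q403 : ∀ i, i < 403 → P i := stepQ 402 Q402 (allL N402 (tt N633 (iv F2301)) (tt N242 F1551) (tt N637 (iv F2313)) (tt N640 (iv F2321)) (tt N402 F1552) (tt N641 D704) (tt N240 (iv D465)) (tt N402 F1553))
theorem Q404 : ∀ i, i < 404 → P i := stepQ 403 Q403 (allL N403 (tt N403 F1554) (tt N642 D705) (tt N241 (iv D466)) (tt N403 F1555) (tt N405 (iv F1566)) (tt N243 F1556) (tt N404 F1562) (tt N254 F1557))
theorem Q405 : ∀ i, i < 405 → P i := stepQ 404 Q404 (allL N404 (tt N404 F1558) (tt N639 (iv F2317)) (tt N405 (iv F1564)) (tt N404 F1559) (tt N241 (iv D467)) (tt N244 F1560) (tt N403 (iv F1562)) (tt N255 F1561))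
theorem Q406 : ∀ i, i < 406 → P i := stepQ 405 Q405 (allL N405 (tt N405 F1563) (tt N640 (iv F2320)) (tt N404 F1564) (tt N242 F1565) (tt N403 F1566) (tt N408 (iv F1576)) (tt N241 (iv D468)) (tt N428 (iv F1636)))
theorem Q407 : ∀ i, i < 407 → P i := stepQ 406 Q406 (allL N406 (tt N406 F1567) (tt N643 D706) (tt N406 F1568) (tt N408 F1578) (tt N406 F1569) (tt N242 (iv D469)) (tt N246 F1570) (tt N406 F1571))
theorem Q408 : ∀ i, i < 408 → P i := stepQ 407 Q407 (allL N407 (tt N644 D707) (tt N243 (iv D470)) (tt N568 (iv F2091)) (tt N407 F1572) (tt N645 D708) (tt N646 D709) (tt N647 D710) (tt N257 F1573))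
theorem Q409 : ∀ i, i < 409 → P i := stepQ 408 Q408 (allL N408 (tt N408 F1574) (tt N645 (iv F2334)) (tt N244 F1575) (tt N406 (iv F1578)) (tt N243 (iv D471)) (tt N405 F1576) (tt N411 (iv F1592)) (tt N258 F1577))
theorem Q410 : ∀ i, i < 410 → P i := stepQ 409 Q409 (allL N409 (tt N409 F1579) (tt N647 (iv F2339)) (tt N245 F1580) (tt N409 F1581) (tt N411 (iv F1591)) (tt N410 (iv F1586)) (tt N243 (iv D472)) (tt N409 F1582))
theorem Q411 : ∀ i, i < 411 → P i := stepQ 410 Q410 (allL N410 (tt N410 F1583) (tt N571 (iv F2098)) (tt N411 (iv F1589)) (tt N410 F1584) (tt N245 F1585) (tt N409 F1586) (tt N244 (iv D473)) (tt N410 F1587))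
theorem Q412 : ∀ i, i < 412 → P i := stepQ 411 Q411 (allL N411 (tt N411 F1588) (tt N648 D711) (tt N410 F1589) (tt N246 F1590) (tt N409 F1591) (tt N245 (iv D474)) (tt N408 F1592) (tt N411 F1593))
theorem Q413 : ∀ i, i < 413 → P i := stepQ 412 Q412 (allL N412 (tt N649 D712) (tt N246 (iv D475)) (tt N650 D713) (tt N648 (iv F2342)) (tt N412 F1594) (tt N573 (iv F2105)) (tt N643 (iv F2329)) (tt N247 F1595))
theorem Q414 : ∀ i, i < 414 → P i := stepQ 413 Q413 (allL N413 (tt N247 (iv D476)) (tt N413 F1596) (tt N651 D714) (tt N413 F1597) (tt N413 F1598) (tt N574 (iv F2109)) (tt N413 F1599) (tt N649 (iv F2348)))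
theorem Q415 : ∀ i, i < 415 → P i := stepQ 414 Q414 (allL N414 (tt N651 (iv F2352)) (tt N414 F1600) (tt N247 (iv D477)) (tt N652 D715) (tt N414 F1601) (tt N575 (iv F2113)) (tt N414 F1602) (tt N650 (iv F2351)))
theorem Q416 : ∀ i, i < 416 → P i := stepQ 415 Q415 (allL N415 (tt N271 F1603) (tt N248 (iv D478)) (tt N415 F1604) (tt N653 D716) (tt N259 F1605) (tt N654 D717) (tt N415 F1606) (tt N655 D718))
theorem Q417 : ∀ i, i < 417 → P i := stepQ 416 Q416 (allL N416 (tt N250 F1607) (tt N653 (iv F2359)) (tt N630 (iv F2293)) (tt N248 (iv D479)) (tt N656 D719) (tt N588 (iv F2150)) (tt N416 F1608) (tt N657 D720))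
theorem Q418 : ∀ i, i < 418 → P i := stepQ 417 Q417 (allL N417 (tt N251 F1609) (tt N655 (iv F2365)) (tt N249 F1610) (tt N658 D721) (tt N261 F1611) (tt N589 (iv F2154)) (tt N626 (iv F2277)) (tt N248 (iv D480)))
theorem Q419 : ∀ i, i < 419 → P i := stepQ 418 Q418 (allL N418 (tt N252 F1612) (tt N418 F1613) (tt N659 D722) (tt N249 (iv D481)) (tt N660 D723) (tt N590 (iv F2156)) (tt N661 D724) (tt N632 (iv F2300)))
theorem Q420 : ∀ i, i < 420 → P i := stepQ 419 Q419 (allL N419 (tt N253 F1614) (tt N419 F1615) (tt N626 (iv F2275)) (tt N661 (iv F2379)) (tt N263 F1616) (tt N662 D725) (tt N249 (iv D482)) (tt N419 F1617))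
theorem Q421 : ∀ i, i < 421 → P i := stepQ 420 Q420 (allL N420 (tt N656 (iv F2368)) (tt N276 F1618) (tt N634 (iv F2306)) (tt N264 F1619) (tt N250 (iv D483)) (tt N592 (iv F2161)) (tt N420 F1620) (tt N663 D726))
theorem Q422 : ∀ i, i < 422 → P i := stepQ 421 Q421 (allL N421 (tt N657 (iv F2371)) (tt N277 F1621) (tt N635 (iv F2310)) (tt N664 D727) (tt N663 (iv F2385)) (tt N593 (iv F2163)) (tt N665 D728) (tt N250 (iv D484)))
theorem Q423 : ∀ i, i < 423 → P i := stepQ 422 Q422 (allL N422 (tt N658 (iv F2372)) (tt N278 F1622) (tt N666 D729) (tt N251 (iv D485)) (tt N598 (iv F2177)) (tt N594 (iv F2165)) (tt N597 F2174) (tt N664 (iv F2387)))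
theorem Q424 : ∀ i, i < 424 → P i := stepQ 423 Q423 (allL N423 (tt N659 (iv F2373)) (tt N667 D730) (tt N252 (iv D486)) (tt N666 (iv F2390)) (tt N668 D731) (tt N596 (iv F2170)) (tt N669 D732) (tt N638 (iv F2316)))
theorem Q425 : ∀ i, i < 425 → P i := stepQ 424 Q424 (allL N424 (tt N660 (iv F2374)) (tt N255 F1623) (tt N668 (iv F2392)) (tt N267 F1624) (tt N252 (iv D487)) (tt N597 (iv F2173)) (tt N670 D733) (tt N639 (iv F2319)))
theorem Q426 : ∀ i, i < 426 → P i := stepQ 425 Q425 (allL N425 (tt N661 (iv F2377)) (tt N256 F1625) (tt N669 (iv F2393)) (tt N253 F1626) (tt N670 (iv F2396)) (tt N671 D734) (tt N252 (iv D488)) (tt N672 D735))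
theorem Q427 : ∀ i, i < 427 → P i := stepQ 426 Q426 (allL N426 (tt N662 (iv F2380)) (tt N426 F1627) (tt N267 F1628) (tt N671 (iv F2398)) (tt N266 F1629) (tt N253 (iv D489)) (tt N599 (iv F2181)) (tt N426 F1630))
theorem Q428 : ∀ i, i < 428 → P i := stepQ 427 Q427 (allL N427 (tt N673 D736) (tt N254 (iv D490)) (tt N667 (iv F2391)) (tt N281 F1631) (tt N674 D737) (tt N675 D738) (tt N676 D739) (tt N642 (iv F2327)))
theorem Q429 : ∀ i, i < 429 → P i := stepQ 428 Q428 (allL N428 (tt N428 F1632) (tt N674 (iv F2403)) (tt N255 F1633) (tt N428 F1634) (tt N254 (iv D491)) (tt N258 F1635) (tt N431 (iv F1651)) (tt N405 F1636))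
theorem Q430 : ∀ i, i < 430 → P i := stepQ 429 Q429 (allL N429 (tt N429 F1637) (tt N676 (iv F2409)) (tt N256 F1638) (tt N282 F1639) (tt N431 (iv F1649)) (tt N429 F1640) (tt N254 (iv D492)) (tt N430 (iv F1645)))
theorem Q431 : ∀ i, i < 431 → P i := stepQ 430 Q430 (allL N430 (tt N430 F1641) (tt N670 (iv F2394)) (tt N431 (iv F1647)) (tt N269 F1642) (tt N256 F1643) (tt N430 F1644) (tt N255 (iv D493)) (tt N429 F1645))
theorem Q432 : ∀ i, i < 432 → P i := stepQ 431 Q431 (allL N431 (tt N431 F1646) (tt N672 (iv F2399)) (tt N430 F1647) (tt N431 F1648) (tt N429 F1649) (tt N431 F1650) (tt N428 F1651) (tt N256 (iv D494)))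
theorem Q433 : ∀ i, i < 433 → P i := stepQ 432 Q432 (allL N432 (tt N257 (iv D495)) (tt N432 F1652) (tt N604 (iv F2193)) (tt N284 F1653) (tt N677 D740) (tt N678 D741) (tt N432 F1654) (tt N644 (iv F2333)))
theorem Q434 : ∀ i, i < 434 → P i := stepQ 433 Q433 (allL N433 (tt N677 (iv F2413)) (tt N258 F1655) (tt N605 (iv F2197)) (tt N433 F1656) (tt N257 (iv D496)) (tt N679 D742) (tt N433 F1657) (tt N645 (iv F2335)))
theorem Q435 : ∀ i, i < 435 → P i := stepQ 434 Q434 (allL N434 (tt N678 (iv F2417)) (tt N675 (iv F2407)) (tt N606 (iv F2199)) (tt N285 F1658) (tt N679 (iv F2420)) (tt N257 (iv D497)) (tt N680 D743) (tt N646 (iv F2338)))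
theorem Q436 : ∀ i, i < 436 → P i := stepQ 435 Q435 (allL N435 (tt N286 F1659) (tt N260 F1660) (tt N521 (iv F1934)) (tt N259 (iv D498)) (tt N681 D744) (tt N526 (iv F1955)) (tt N435 F1661) (tt N682 D745))
theorem Q437 : ∀ i, i < 437 → P i := stepQ 436 Q436 (allL N436 (tt N287 F1662) (tt N620 (iv F2256)) (tt N436 F1663) (tt N526 F1957) (tt N654 (iv F2363)) (tt N259 (iv D499)) (tt N534 (iv F1985)) (tt N683 D746))
theorem Q438 : ∀ i, i < 438 → P i := stepQ 437 Q437 (allL N437 (tt N288 F1664) (tt N261 F1665) (tt N437 F1666) (tt N537 (iv F1999)) (tt N655 (iv F2367)) (tt N683 (iv F2430)) (tt N536 F1996) (tt N259 (iv D500)))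
theorem Q439 : ∀ i, i < 439 → P i := stepQ 438 Q438 (allL N438 (tt N264 F1667) (tt N681 (iv F2424)) (tt N438 F1668) (tt N656 (iv F2369)) (tt N260 (iv D501)) (tt N622 (iv F2261)) (tt N438 F1669) (tt N684 D747))
theorem Q440 : ∀ i, i < 440 → P i := stepQ 439 Q439 (allL N439 (tt N265 F1670) (tt N682 (iv F2427)) (tt N439 F1671) (tt N612 (iv F2222)) (tt N684 (iv F2434)) (tt N623 (iv F2264)) (tt N611 F2220) (tt N260 (iv D502)))
theorem Q441 : ∀ i, i < 441 → P i := stepQ 440 Q440 (allL N440 (tt N266 F1672) (tt N685 D748) (tt N262 (iv D503)) (tt N625 (iv F2272)) (tt N662 (iv F2382)) (tt N263 F1673) (tt N624 F2269) (tt N440 F1674))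
theorem Q442 : ∀ i, i < 442 → P i := stepQ 441 Q441 (allL N441 (tt N267 F1675) (tt N441 F1676) (tt N662 (iv F2381)) (tt N660 (iv F2376)) (tt N262 (iv D504)) (tt N626 (iv F2276)) (tt N686 D749) (tt N441 F1677))
theorem Q443 : ∀ i, i < 443 → P i := stepQ 442 Q442 (allL N442 (tt N268 F1678) (tt N442 F1679) (tt N624 (iv F2267)) (tt N263 F1680) (tt N686 (iv F2441)) (tt N625 (iv F2273)) (tt N262 (iv D505)) (tt N687 D750))
theorem Q444 : ∀ i, i < 444 → P i := stepQ 443 Q443 (allL N443 (tt N684 (iv F2432)) (tt N291 F1681) (tt N443 F1682) (tt N688 D751) (tt N265 F1683) (tt N627 (iv F2282)) (tt N615 (iv F2237)) (tt N264 (iv D506)))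
theorem Q445 : ∀ i, i < 445 → P i := stepQ 444 Q444 (allL N444 (tt N686 (iv F2439)) (tt N269 F1684) (tt N599 (iv F2179)) (tt N670 (iv F2395)) (tt N268 F1685) (tt N595 (iv F2169)) (tt N267 (iv D507)) (tt N689 D752))
theorem Q446 : ∀ i, i < 446 → P i := stepQ 445 Q445 (allL N445 (tt N687 (iv F2442)) (tt N270 F1686) (tt N616 (iv F2240)) (tt N445 F1687) (tt N689 (iv F2448)) (tt N614 F2233) (tt N445 F1688) (tt N268 (iv D508)))
theorem Q447 : ∀ i, i < 447 → P i := stepQ 446 Q446 (allL N446 (tt N446 F1689) (tt N689 (iv F2447)) (tt N446 F1690) (tt N465 (iv F1748)) (tt N270 F1691) (tt N446 F1692) (tt N446 F1693) (tt N269 (iv D509)))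
theorem Q448 : ∀ i, i < 448 → P i := stepQ 447 Q447 (allL N447 (tt N653 (iv F2358)) (tt N272 F1694) (tt N690 D753) (tt N271 (iv D510)) (tt N691 D754) (tt N692 D755) (tt N447 F1695) (tt N693 D756))
theorem Q449 : ∀ i, i < 449 → P i := stepQ 448 Q448 (allL N448 (tt N654 (iv F2361)) (tt N448 F1696) (tt N448 F1697) (tt N692 (iv F2457)) (tt N287 F1698) (tt N271 (iv D511)) (tt N538 (iv F2003)) (tt N694 D757))
theorem Q450 : ∀ i, i < 450 → P i := stepQ 449 Q449 (allL N449 (tt N655 (iv F2364)) (tt N273 F1699) (tt N449 F1700) (tt N695 D758) (tt N288 F1701) (tt N694 (iv F2462)) (tt N540 (iv F2011)) (tt N271 (iv D512)))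
theorem Q451 : ∀ i, i < 451 → P i := stepQ 450 Q450 (allL N450 (tt N276 F1702) (tt N691 (iv F2453)) (tt N450 F1703) (tt N289 F1704) (tt N272 (iv D513)) (tt N450 F1705) (tt N450 F1706) (tt N696 D759))
theorem Q452 : ∀ i, i < 452 → P i := stepQ 451 Q451 (allL N451 (tt N277 F1707) (tt N693 (iv F2458)) (tt N451 F1708) (tt N697 D760) (tt N696 (iv F2467)) (tt N451 F1709) (tt N698 D761) (tt N272 (iv D514)))
theorem Q453 : ∀ i, i < 453 → P i := stepQ 452 Q452 (allL N452 (tt N278 F1710) (tt N695 (iv F2464)) (tt N699 D762) (tt N273 (iv D515)) (tt N518 (iv F1925)) (tt N452 F1711) (tt N517 F1922) (tt N697 (iv F2471)))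
theorem Q454 : ∀ i, i < 454 → P i := stepQ 453 Q453 (allL N453 (tt N279 F1712) (tt N700 D763) (tt N274 (iv D516)) (tt N699 (iv F2476)) (tt N453 F1713) (tt N453 F1714) (tt N701 D764) (tt N453 F1715))
theorem Q455 : ∀ i, i < 455 → P i := stepQ 454 Q454 (allL N454 (tt N280 F1716) (tt N454 F1717) (tt N701 (iv F2482)) (tt N275 F1718) (tt N454 F1719) (tt N543 (iv F2024)) (tt N274 (iv D517)) (tt N702 D765))
theorem Q456 : ∀ i, i < 456 → P i := stepQ 455 Q455 (allL N455 (tt N696 (iv F2465)) (tt N663 (iv F2384)) (tt N455 F1720) (tt N703 D766) (tt N277 F1721) (tt N455 F1722) (tt N704 D767) (tt N276 (iv D518)))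
theorem Q457 : ∀ i, i < 457 → P i := stepQ 456 Q456 (allL N456 (tt N697 (iv F2469)) (tt N664 (iv F2386)) (tt N705 D768) (tt N277 (iv D519)) (tt N603 (iv F2191)) (tt N456 F1723) (tt N706 D769) (tt N278 F1724))
theorem Q458 : ∀ i, i < 458 → P i := stepQ 457 Q457 (allL N457 (tt N698 (iv F2472)) (tt N665 (iv F2388)) (tt N457 F1725) (tt N706 (iv F2497)) (tt N704 (iv F2492)) (tt N707 D770) (tt N277 (iv D520)) (tt N457 F1726))
theorem Q459 : ∀ i, i < 459 → P i := stepQ 458 Q458 (allL N458 (tt N699 (iv F2475)) (tt N708 D771) (tt N278 (iv D521)) (tt N279 F1727) (tt N602 (iv F2189)) (tt N458 F1728) (tt N601 (iv F2186)) (tt N705 (iv F2496)))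
theorem Q460 : ∀ i, i < 460 → P i := stepQ 459 Q459 (allL N459 (tt N709 D772) (tt N279 (iv D522)) (tt N281 F1729) (tt N708 (iv F2501)) (tt N459 F1730) (tt N710 D773) (tt N711 D774) (tt N459 F1731))
theorem Q461 : ∀ i, i < 461 → P i := stepQ 460 Q460 (allL N460 (tt N701 (iv F2481)) (tt N711 (iv F2509)) (tt N280 F1732) (tt N601 F2185) (tt N460 F1733) (tt N607 (iv F2203)) (tt N279 (iv D523)) (tt N712 D775))
theorem Q462 : ∀ i, i < 462 → P i := stepQ 461 Q461 (allL N461 (tt N702 (iv F2484)) (tt N283 F1734) (tt N712 (iv F2512)) (tt N461 F1735) (tt N461 F1736) (tt N628 (iv F2287)) (tt N461 F1737) (tt N280 (iv D524)))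
theorem Q463 : ∀ i, i < 463 → P i := stepQ 462 Q462 (allL N462 (tt N281 (iv D525)) (tt N462 F1738) (tt N709 (iv F2502)) (tt N673 (iv F2402)) (tt N462 F1739) (tt N713 D776) (tt N714 D777) (tt N462 F1740))
theorem Q464 : ∀ i, i < 464 → P i := stepQ 463 Q463 (allL N463 (tt N713 (iv F2515)) (tt N285 F1741) (tt N710 (iv F2506)) (tt N675 (iv F2408)) (tt N463 F1742) (tt N281 (iv D526)) (tt N715 D778) (tt N463 F1743))
theorem Q465 : ∀ i, i < 465 → P i := stepQ 464 Q464 (allL N464 (tt N714 (iv F2518)) (tt N282 F1744) (tt N711 (iv F2510)) (tt N676 (iv F2410)) (tt N464 F1745) (tt N716 D779) (tt N281 (iv D527)) (tt N717 D780))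
theorem Q466 : ∀ i, i < 466 → P i := stepQ 465 Q465 (allL N465 (tt N465 F1746) (tt N717 (iv F2525)) (tt N283 F1747) (tt N446 F1748) (tt N465 F1749) (tt N465 F1750) (tt N465 F1751) (tt N282 (iv D528)))
theorem Q467 : ∀ i, i < 467 → P i := stepQ 466 Q466 (allL N466 (tt N285 F1752) (tt N718 D781) (tt N466 F1753) (tt N678 (iv F2418)) (tt N466 F1754) (tt N284 (iv D529)) (tt N719 D782) (tt N466 F1755))
theorem Q468 : ∀ i, i < 468 → P i := stepQ 467 Q467 (allL N467 (tt N719 (iv F2532)) (tt N715 (iv F2521)) (tt N467 F1756) (tt N680 (iv F2421)) (tt N467 F1757) (tt N467 F1758) (tt N285 (iv D530)) (tt N720 D783))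
theorem Q469 : ∀ i, i < 469 → P i := stepQ 468 Q468 (allL N468 (tt N681 (iv F2423)) (tt N289 F1759) (tt N500 (iv F1866)) (tt N691 (iv F2454)) (tt N286 (iv D531)) (tt N504 (iv F1882)) (tt N468 F1760) (tt N721 D784))
theorem Q470 : ∀ i, i < 470 → P i := stepQ 469 Q469 (allL N469 (tt N682 (iv F2426)) (tt N290 F1761) (tt N522 (iv F1939)) (tt N530 (iv F1967)) (tt N721 (iv F2541)) (tt N528 (iv F1962)) (tt N529 F1965) (tt N286 (iv D532)))
theorem Q471 : ∀ i, i < 471 → P i := stepQ 470 Q470 (allL N470 (tt N683 (iv F2428)) (tt N470 F1762) (tt N470 F1763) (tt N541 (iv F2014)) (tt N694 (iv F2461)) (tt N288 F1764) (tt N470 F1765) (tt N287 (iv D533)))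
theorem Q472 : ∀ i, i < 472 → P i := stepQ 471 Q471 (allL N471 (tt N291 F1766) (tt N721 (iv F2540)) (tt N294 F1767) (tt N722 D785) (tt N290 F1768) (tt N471 F1769) (tt N531 (iv F1972)) (tt N289 (iv D534)))
theorem Q473 : ∀ i, i < 473 → P i := stepQ 472 Q472 (allL N472 (tt N722 (iv F2542)) (tt N688 (iv F2446)) (tt N723 D786) (tt N291 (iv D535)) (tt N584 (iv F2140)) (tt N472 F1770) (tt N583 F2138) (tt N703 (iv F2490)))
theorem Q474 : ∀ i, i < 474 → P i := stepQ 473 Q473 (allL N473 (tt N473 F1771) (tt N294 F1772) (tt N501 (iv F1871)) (tt N724 D787) (tt N293 F1773) (tt N499 (iv F1864)) (tt N725 D788) (tt N292 (iv D536)))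
theorem Q475 : ∀ i, i < 475 → P i := stepQ 474 Q474 (allL N474 (tt N474 F1774) (tt N295 F1775) (tt N524 (iv F1946)) (tt N474 F1776) (tt N725 (iv F2552)) (tt N474 F1777) (tt N293 (iv D537)) (tt N474 F1778))
theorem Q476 : ∀ i, i < 476 → P i := stepQ 475 Q475 (allL N475 (tt N296 F1779) (tt N724 (iv F2547)) (tt N726 D789) (tt N294 (iv D538)) (tt N475 F1780) (tt N475 F1781) (tt N727 D790) (tt N475 F1782))
theorem Q477 : ∀ i, i < 477 → P i := stepQ 476 Q476 (allL N476 (tt N297 F1783) (tt N725 (iv F2551)) (tt N531 (iv F1970)) (tt N727 (iv F2560)) (tt N295 F1784) (tt N532 (iv F1977)) (tt N294 (iv D539)) (tt N476 F1785))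
theorem Q478 : ∀ i, i < 478 → P i := stepQ 477 Q477 (allL N477 (tt N726 (iv F2555)) (tt N728 D791) (tt N296 (iv D540)) (tt N723 (iv F2544)) (tt N477 F1786) (tt N477 F1787) (tt N729 D792) (tt N477 F1788))
theorem Q479 : ∀ i, i < 479 → P i := stepQ 478 Q478 (allL N478 (tt N727 (iv F2559)) (tt N478 F1789) (tt N729 (iv F2565)) (tt N297 F1790) (tt N478 F1791) (tt N618 (iv F2251)) (tt N296 (iv D541)) (tt N730 D793))
theorem Q480 : ∀ i, i < 480 → P i := stepQ 479 Q479 (allL N479 (tt N479 F1792) (tt N731 D794) (tt N479 F1793) (tt N479 F1794) (tt N479 F1795) (tt N298 (iv D542)) (tt N479 F1796) (tt N732 D795))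
theorem Q481 : ∀ i, i < 481 → P i := stepQ 480 Q480 (allL N480 (tt N480 F1797) (tt N300 F1798) (tt N480 F1799) (tt N733 D796) (tt N480 F1800) (tt N732 (iv F2578)) (tt N485 (iv F1818)) (tt N298 (iv D543)))
theorem Q482 : ∀ i, i < 482 → P i := stepQ 481 Q481 (allL N481 (tt N734 D797) (tt N299 (iv D544)) (tt N735 D798) (tt N481 F1801) (tt N481 F1802) (tt N731 (iv F2573)) (tt N498 (iv F1859)) (tt N736 D799))
theorem Q483 : ∀ i, i < 483 → P i := stepQ 482 Q482 (allL N482 (tt N344 F1803) (tt N736 (iv F2587)) (tt N305 F1804) (tt N737 D800) (tt N482 F1805) (tt N300 F1806) (tt N738 D801) (tt N299 (iv D545)))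
theorem Q484 : ∀ i, i < 484 → P i := stepQ 483 Q483 (allL N483 (tt N345 F1807) (tt N733 (iv F2580)) (tt N739 D802) (tt N300 (iv D546)) (tt N740 D803) (tt N737 (iv F2590)) (tt N488 (iv F1826)) (tt N483 F1808))
theorem Q485 : ∀ i, i < 485 → P i := stepQ 484 Q484 (allL N484 (tt N484 F1809) (tt N741 D804) (tt N484 F1810) (tt N310 F1811) (tt N484 F1812) (tt N301 (iv D547)) (tt N484 F1813) (tt N742 D805))
theorem Q486 : ∀ i, i < 486 → P i := stepQ 485 Q485 (allL N485 (tt N485 F1814) (tt N303 F1815) (tt N485 F1816) (tt N743 D806) (tt N485 F1817) (tt N742 (iv F2608)) (tt N480 F1818) (tt N301 (iv D548)))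
theorem Q487 : ∀ i, i < 487 → P i := stepQ 486 Q486 (allL N486 (tt N744 D807) (tt N302 (iv D549)) (tt N745 D808) (tt N312 F1819) (tt N486 F1820) (tt N741 (iv F2603)) (tt N304 F1821) (tt N746 D809))
theorem Q488 : ∀ i, i < 488 → P i := stepQ 487 Q487 (allL N487 (tt N347 F1822) (tt N746 (iv F2619)) (tt N497 (iv F1853)) (tt N747 D810) (tt N487 F1823) (tt N303 F1824) (tt N748 D811) (tt N302 (iv D550)))
theorem Q489 : ∀ i, i < 489 → P i := stepQ 488 Q488 (allL N488 (tt N348 F1825) (tt N743 (iv F2610)) (tt N749 D812) (tt N303 (iv D551)) (tt N750 D813) (tt N747 (iv F2622)) (tt N483 F1826) (tt N314 F1827))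
theorem Q490 : ∀ i, i < 490 → P i := stepQ 489 Q489 (allL N489 (tt N304 (iv D552)) (tt N349 F1828) (tt N751 D814) (tt N315 F1829) (tt N489 F1830) (tt N489 F1831) (tt N744 (iv F2616)) (tt N752 D815))
theorem Q491 : ∀ i, i < 491 → P i := stepQ 490 Q490 (allL N490 (tt N751 (iv F2635)) (tt N735 (iv F2585)) (tt N304 (iv D553)) (tt N753 D816) (tt N490 F1832) (tt N490 F1833) (tt N745 (iv F2618)) (tt N754 D817))
theorem Q492 : ∀ i, i < 492 → P i := stepQ 491 Q491 (allL N491 (tt N752 (iv F2638)) (tt N305 F1834) (tt N754 (iv F2644)) (tt N755 D818) (tt N491 F1835) (tt N491 F1836) (tt N756 D819) (tt N304 (iv D554)))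
theorem Q493 : ∀ i, i < 493 → P i := stepQ 492 Q492 (allL N492 (tt N352 F1837) (tt N755 (iv F2647)) (tt N757 D820) (tt N305 (iv D555)) (tt N758 D821) (tt N306 F1838) (tt N759 D822) (tt N318 F1839))
theorem Q494 : ∀ i, i < 494 → P i := stepQ 493 Q493 (allL N493 (tt N353 F1840) (tt N756 (iv F2650)) (tt N738 (iv F2593)) (tt N759 (iv F2660)) (tt N493 F1841) (tt N760 D823) (tt N305 (iv D556)) (tt N748 (iv F2627)))
theorem Q495 : ∀ i, i < 495 → P i := stepQ 494 Q494 (allL N494 (tt N354 F1842) (tt N761 D824) (tt N306 (iv D557)) (tt N739 (iv F2596)) (tt N762 D825) (tt N757 (iv F2653)) (tt N763 D826) (tt N320 F1843))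
theorem Q496 : ∀ i, i < 496 → P i := stepQ 495 Q495 (allL N495 (tt N355 F1844) (tt N495 F1845) (tt N762 (iv F2669)) (tt N495 F1846) (tt N306 (iv D558)) (tt N758 (iv F2657)) (tt N764 D827) (tt N321 F1847))
theorem Q497 : ∀ i, i < 497 → P i := stepQ 496 Q496 (allL N496 (tt N356 F1848) (tt N496 F1849) (tt N763 (iv F2672)) (tt N307 F1850) (tt N764 (iv F2678)) (tt N765 D828) (tt N306 (iv D559)) (tt N496 F1851))
theorem Q498 : ∀ i, i < 498 → P i := stepQ 497 Q497 (allL N497 (tt N357 F1852) (tt N766 D829) (tt N487 F1853) (tt N765 (iv F2681)) (tt N497 F1854) (tt N307 (iv D560)) (tt N760 (iv F2664)) (tt N308 F1855))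
theorem Q499 : ∀ i, i < 499 → P i := stepQ 498 Q498 (allL N498 (tt N767 D830) (tt N308 (iv D561)) (tt N768 D831) (tt N498 F1856) (tt N498 F1857) (tt N498 F1858) (tt N481 F1859) (tt N766 (iv F2685)))
theorem Q500 : ∀ i, i < 500 → P i := stepQ 499 Q499 (allL N499 (tt N499 F1860) (tt N499 F1861) (tt N311 F1862) (tt N769 D832) (tt N323 F1863) (tt N473 F1864) (tt N499 F1865) (tt N309 (iv D562)))
theorem Q501 : ∀ i, i < 501 → P i := stepQ 500 Q500 (allL N500 (tt N770 D833) (tt N310 (iv D563)) (tt N468 F1866) (tt N741 (iv F2601)) (tt N324 F1867) (tt N312 F1868) (tt N500 F1869) (tt N771 D834))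
theorem Q502 : ∀ i, i < 502 → P i := stepQ 501 Q501 (allL N501 (tt N501 F1870) (tt N771 (iv F2706)) (tt N473 F1871) (tt N772 D835) (tt N325 F1872) (tt N311 F1873) (tt N773 D836) (tt N310 (iv D564)))
theorem Q503 : ∀ i, i < 503 → P i := stepQ 502 Q502 (allL N502 (tt N502 F1874) (tt N314 F1875) (tt N774 D837) (tt N311 (iv D565)) (tt N775 D838) (tt N772 (iv F2711)) (tt N502 F1876) (tt N743 (iv F2612)))
theorem Q504 : ∀ i, i < 504 → P i := stepQ 503 Q503 (allL N503 (tt N312 (iv D566)) (tt N359 F1877) (tt N776 D839) (tt N744 (iv F2614)) (tt N327 F1878) (tt N770 (iv F2704)) (tt N315 F1879) (tt N777 D840))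
theorem Q505 : ∀ i, i < 505 → P i := stepQ 504 Q504 (allL N504 (tt N776 (iv F2723)) (tt N504 F1880) (tt N312 (iv D567)) (tt N778 D841) (tt N328 F1881) (tt N468 F1882) (tt N316 F1883) (tt N779 D842))
theorem Q506 : ∀ i, i < 506 → P i := stepQ 505 Q505 (allL N505 (tt N777 (iv F2727)) (tt N313 F1884) (tt N779 (iv F2735)) (tt N780 D843) (tt N329 F1885) (tt N771 (iv F2709)) (tt N781 D844) (tt N312 (iv D568)))
theorem Q507 : ∀ i, i < 507 → P i := stepQ 506 Q506 (allL N506 (tt N362 F1886) (tt N780 (iv F2738)) (tt N782 D845) (tt N313 (iv D569)) (tt N783 D846) (tt N314 F1887) (tt N784 D847) (tt N747 (iv F2623)))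
theorem Q508 : ∀ i, i < 508 → P i := stepQ 507 Q507 (allL N507 (tt N363 F1888) (tt N781 (iv F2739)) (tt N507 F1889) (tt N784 (iv F2750)) (tt N331 F1890) (tt N507 F1891) (tt N313 (iv D570)) (tt N319 F1892))
theorem Q509 : ∀ i, i < 509 → P i := stepQ 508 Q508 (allL N508 (tt N364 F1893) (tt N785 D848) (tt N314 (iv D571)) (tt N508 F1894) (tt N786 D849) (tt N782 (iv F2744)) (tt N508 F1895) (tt N749 (iv F2630)))
theorem Q510 : ∀ i, i < 510 → P i := stepQ 509 Q509 (allL N509 (tt N365 F1896) (tt N775 (iv F2720)) (tt N786 (iv F2756)) (tt N333 F1897) (tt N314 (iv D572)) (tt N783 (iv F2747)) (tt N509 F1898) (tt N750 (iv F2634)))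
theorem Q511 : ∀ i, i < 511 → P i := stepQ 510 Q510 (allL N510 (tt N316 F1899) (tt N787 D850) (tt N315 (iv D573)) (tt N788 D851) (tt N334 F1900) (tt N510 F1901) (tt N776 (iv F2726)) (tt N789 D852))
theorem Q512 : ∀ i, i < 512 → P i := stepQ 511 Q511 (allL N511 (tt N317 F1902) (tt N367 F1903) (tt N789 (iv F2764)) (tt N790 D853) (tt N335 F1904) (tt N511 F1905) (tt N791 D854) (tt N315 (iv D574)))
theorem Q513 : ∀ i, i < 513 → P i := stepQ 512 Q512 (allL N512 (tt N788 (iv F2761)) (tt N512 F1906) (tt N753 (iv F2642)) (tt N316 (iv D575)) (tt N792 D855) (tt N512 F1907) (tt N778 (iv F2733)) (tt N793 D856))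
theorem Q514 : ∀ i, i < 514 → P i := stepQ 513 Q513 (allL N513 (tt N789 (iv F2763)) (tt N513 F1908) (tt N317 F1909) (tt N794 D857) (tt N337 F1910) (tt N513 F1911) (tt N795 D858) (tt N316 (iv D576)))
theorem Q515 : ∀ i, i < 515 → P i := stepQ 514 Q514 (allL N514 (tt N790 (iv F2767)) (tt N318 F1912) (tt N796 D859) (tt N317 (iv D577)) (tt N797 D860) (tt N514 F1913) (tt N798 D861) (tt N755 (iv F2649)))
theorem Q516 : ∀ i, i < 516 → P i := stepQ 515 Q515 (allL N515 (tt N791 (iv F2770)) (tt N319 F1914) (tt N795 (iv F2783)) (tt N798 (iv F2791)) (tt N339 F1915) (tt N799 D862) (tt N317 (iv D578)) (tt N781 (iv F2741)))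
theorem Q517 : ∀ i, i < 517 → P i := stepQ 516 Q516 (allL N516 (tt N372 F1916) (tt N800 D863) (tt N318 (iv D579)) (tt N516 F1917) (tt N801 D864) (tt N320 F1918) (tt N802 D865) (tt N757 (iv F2654)))
theorem Q518 : ∀ i, i < 518 → P i := stepQ 517 Q517 (allL N517 (tt N373 F1919) (tt N797 (iv F2786)) (tt N801 (iv F2798)) (tt N340 F1920) (tt N318 (iv D580)) (tt N321 F1921) (tt N452 (iv F1922)) (tt N758 (iv F2658)))
theorem Q519 : ∀ i, i < 519 → P i := stepQ 518 Q518 (allL N518 (tt N374 F1923) (tt N798 (iv F2790)) (tt N802 (iv F2803)) (tt N319 F1924) (tt N452 F1925) (tt N518 F1926) (tt N318 (iv D581)) (tt N803 D866))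
theorem Q520 : ∀ i, i < 520 → P i := stepQ 519 Q519 (allL N519 (tt N804 D867) (tt N320 (iv D582)) (tt N519 F1927) (tt N519 F1928) (tt N805 D868) (tt N806 D869) (tt N519 F1929) (tt N761 (iv F2667)))
theorem Q521 : ∀ i, i < 521 → P i := stepQ 520 Q520 (allL N520 (tt N376 F1930) (tt N805 (iv F2814)) (tt N321 F1931) (tt N807 D870) (tt N320 (iv D583)) (tt N801 (iv F2799)) (tt N520 F1932) (tt N762 (iv F2670)))
theorem Q522 : ∀ i, i < 522 → P i := stepQ 521 Q521 (allL N521 (tt N324 (iv D584)) (tt N521 F1933) (tt N435 F1934) (tt N521 F1935) (tt N770 (iv F2703)) (tt N327 F1936) (tt N521 F1937) (tt N808 D871))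
theorem Q523 : ∀ i, i < 523 → P i := stepQ 522 Q522 (allL N522 (tt N808 (iv F2824)) (tt N325 F1938) (tt N469 F1939) (tt N809 D872) (tt N771 (iv F2708)) (tt N329 F1940) (tt N810 D873) (tt N324 (iv D585)))
theorem Q524 : ∀ i, i < 524 → P i := stepQ 523 Q523 (allL N523 (tt N523 F1941) (tt N809 (iv F2828)) (tt N523 F1942) (tt N325 (iv D586)) (tt N811 D874) (tt N326 F1943) (tt N812 D875) (tt N523 F1944))
theorem Q525 : ∀ i, i < 525 → P i := stepQ 524 Q524 (allL N524 (tt N524 F1945) (tt N810 (iv F2831)) (tt N474 F1946) (tt N812 (iv F2840)) (tt N773 (iv F2714)) (tt N524 F1947) (tt N325 (iv D587)) (tt N524 F1948))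
theorem Q526 : ∀ i, i < 526 → P i := stepQ 525 Q525 (allL N525 (tt N525 F1949) (tt N333 F1950) (tt N525 F1951) (tt N775 (iv F2721)) (tt N326 (iv D588)) (tt N811 (iv F2836)) (tt N525 F1952) (tt N525 F1953))
theorem Q527 : ∀ i, i < 527 → P i := stepQ 526 Q526 (allL N526 (tt N328 F1954) (tt N813 D876) (tt N327 (iv D589)) (tt N436 (iv F1957)) (tt N776 (iv F2724)) (tt N435 F1955) (tt N334 F1956) (tt N814 D877))
theorem Q528 : ∀ i, i < 528 → P i := stepQ 527 Q527 (allL N527 (tt N329 F1958) (tt N378 F1959) (tt N814 (iv F2848)) (tt N815 D878) (tt N777 (iv F2729)) (tt N808 (iv F2827)) (tt N816 D879) (tt N327 (iv D590)))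
theorem Q529 : ∀ i, i < 529 → P i := stepQ 528 Q528 (allL N528 (tt N814 (iv F2847)) (tt N528 F1960) (tt N329 F1961) (tt N817 D880) (tt N779 (iv F2736)) (tt N469 F1962) (tt N818 D881) (tt N328 (iv D591)))
theorem Q530 : ∀ i, i < 530 → P i := stepQ 529 Q529 (allL N529 (tt N815 (iv F2850)) (tt N330 F1963) (tt N810 (iv F2832)) (tt N329 (iv D592)) (tt N819 D882) (tt N809 (iv F2829)) (tt N469 (iv F1965)) (tt N529 F1964))
theorem Q531 : ∀ i, i < 531 → P i := stepQ 530 Q530 (allL N530 (tt N816 (iv F2854)) (tt N331 F1966) (tt N818 (iv F2862)) (tt N469 F1967) (tt N781 (iv F2740)) (tt N817 (iv F2859)) (tt N329 (iv D593)) (tt N339 F1968))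
theorem Q532 : ∀ i, i < 532 → P i := stepQ 531 Q531 (allL N531 (tt N383 F1969) (tt N819 (iv F2864)) (tt N476 F1970) (tt N783 (iv F2746)) (tt N330 (iv D594)) (tt N333 F1971) (tt N471 F1972) (tt N531 F1973))
theorem Q533 : ∀ i, i < 533 → P i := stepQ 532 Q532 (allL N532 (tt N385 F1974) (tt N532 F1975) (tt N333 F1976) (tt N820 D883) (tt N332 (iv D595)) (tt N476 F1977) (tt N532 F1978) (tt N532 F1979))
theorem Q534 : ∀ i, i < 534 → P i := stepQ 533 Q533 (allL N533 (tt N533 F1980) (tt N334 (iv D596)) (tt N386 F1981) (tt N821 D884) (tt N787 (iv F2760)) (tt N822 D885) (tt N813 (iv F2846)) (tt N823 D886))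
theorem Q535 : ∀ i, i < 535 → P i := stepQ 534 Q534 (allL N534 (tt N336 F1982) (tt N821 (iv F2873)) (tt N534 F1983) (tt N334 (iv D597)) (tt N824 D887) (tt N534 F1984) (tt N436 F1985) (tt N534 F1986))
theorem Q536 : ∀ i, i < 536 → P i := stepQ 535 Q535 (allL N535 (tt N337 F1987) (tt N823 (iv F2880)) (tt N335 F1988) (tt N535 F1989) (tt N789 (iv F2765)) (tt N535 F1990) (tt N825 D888) (tt N334 (iv D598)))
theorem Q537 : ∀ i, i < 537 → P i := stepQ 536 Q536 (allL N536 (tt N338 F1991) (tt N389 F1992) (tt N536 F1993) (tt N335 (iv D599)) (tt N826 D889) (tt N536 F1994) (tt N437 (iv F1996)) (tt N536 F1995))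
theorem Q538 : ∀ i, i < 538 → P i := stepQ 537 Q537 (allL N537 (tt N339 F1997) (tt N390 F1998) (tt N825 (iv F2889)) (tt N437 F1999) (tt N791 (iv F2772)) (tt N827 D890) (tt N335 (iv D600)) (tt N816 (iv F2857)))
theorem Q539 : ∀ i, i < 539 → P i := stepQ 538 Q538 (allL N538 (tt N824 (iv F2883)) (tt N538 F2000) (tt N538 F2001) (tt N792 (iv F2774)) (tt N336 (iv D601)) (tt N538 F2002) (tt N448 F2003) (tt N538 F2004))
theorem Q540 : ∀ i, i < 540 → P i := stepQ 539 Q539 (allL N539 (tt N825 (iv F2888)) (tt N539 F2005) (tt N339 F2006) (tt N539 F2007) (tt N795 (iv F2784)) (tt N828 D891) (tt N337 (iv D602)) (tt N818 (iv F2863)))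
theorem Q541 : ∀ i, i < 541 → P i := stepQ 540 Q540 (allL N540 (tt N826 (iv F2891)) (tt N340 F2008) (tt N540 F2009) (tt N797 (iv F2787)) (tt N338 (iv D603)) (tt N540 F2010) (tt N449 F2011) (tt N540 F2012))
theorem Q542 : ∀ i, i < 542 → P i := stepQ 541 Q541 (allL N541 (tt N827 (iv F2897)) (tt N541 F2013) (tt N828 (iv F2900)) (tt N470 F2014) (tt N799 (iv F2794)) (tt N339 (iv D604)) (tt N541 F2015) (tt N817 (iv F2860)))
theorem Q543 : ∀ i, i < 543 → P i := stepQ 542 Q542 (allL N542 (tt N542 F2016) (tt N342 F2017) (tt N542 F2018) (tt N829 D892) (tt N341 (iv D605)) (tt N542 F2019) (tt N542 F2020) (tt N542 F2021))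
theorem Q544 : ∀ i, i < 544 → P i := stepQ 543 Q543 (allL N543 (tt N396 F2022) (tt N829 (iv F2904)) (tt N807 (iv F2820)) (tt N342 (iv D606)) (tt N543 F2023) (tt N454 F2024) (tt N543 F2025) (tt N830 D893))
theorem Q545 : ∀ i, i < 545 → P i := stepQ 544 Q544 (allL N544 (tt N343 (iv D607)) (tt N734 (iv F2582)) (tt N831 D894) (tt N544 F2026) (tt N544 F2027) (tt N544 F2028) (tt N574 (iv F2110)) (tt N832 D895))
theorem Q546 : ∀ i, i < 546 → P i := stepQ 545 Q545 (allL N545 (tt N831 (iv F2912)) (tt N350 F2029) (tt N343 (iv D608)) (tt N833 D896) (tt N545 F2030) (tt N545 F2031) (tt N575 (iv F2114)) (tt N834 D897))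
theorem Q547 : ∀ i, i < 547 → P i := stepQ 546 Q546 (allL N546 (tt N832 (iv F2915)) (tt N344 F2032) (tt N834 (iv F2922)) (tt N835 D898) (tt N546 F2033) (tt N546 F2034) (tt N836 D899) (tt N343 (iv D609)))
theorem Q548 : ∀ i, i < 548 → P i := stepQ 547 Q547 (allL N547 (tt N737 (iv F2589)) (tt N835 (iv F2925)) (tt N837 D900) (tt N344 (iv D610)) (tt N838 D901) (tt N345 F2035) (tt N839 D902) (tt N547 F2036))
theorem Q549 : ∀ i, i < 549 → P i := stepQ 548 Q548 (allL N548 (tt N738 (iv F2592)) (tt N836 (iv F2928)) (tt N353 F2037) (tt N839 (iv F2936)) (tt N548 F2038) (tt N555 (iv F2057)) (tt N344 (iv D611)) (tt N567 (iv F2090)))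
theorem Q550 : ∀ i, i < 550 → P i := stepQ 549 Q549 (allL N549 (tt N739 (iv F2595)) (tt N840 D903) (tt N345 (iv D612)) (tt N354 F2039) (tt N841 D904) (tt N837 (iv F2931)) (tt N556 (iv F2059)) (tt N549 F2040))
theorem Q551 : ∀ i, i < 551 → P i := stepQ 550 Q550 (allL N550 (tt N740 (iv F2598)) (tt N550 F2041) (tt N841 (iv F2940)) (tt N550 F2042) (tt N345 (iv D613)) (tt N838 (iv F2934)) (tt N557 (iv F2063)) (tt N550 F2043))
theorem Q552 : ∀ i, i < 552 → P i := stepQ 551 Q551 (allL N551 (tt N346 (iv D614)) (tt N744 (iv F2613)) (tt N842 D905) (tt N359 F2044) (tt N551 F2045) (tt N551 F2046) (tt N349 F2047) (tt N843 D906))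
theorem Q553 : ∀ i, i < 553 → P i := stepQ 552 Q552 (allL N552 (tt N842 (iv F2942)) (tt N575 (iv F2111)) (tt N346 (iv D615)) (tt N844 D907) (tt N552 F2048) (tt N552 F2049) (tt N350 F2050) (tt N845 D908))
theorem Q554 : ∀ i, i < 554 → P i := stepQ 553 Q553 (allL N553 (tt N843 (iv F2946)) (tt N347 F2051) (tt N845 (iv F2952)) (tt N846 D909) (tt N553 F2052) (tt N553 F2053) (tt N847 D910) (tt N346 (iv D616)))
theorem Q555 : ∀ i, i < 555 → P i := stepQ 554 Q554 (allL N554 (tt N747 (iv F2621)) (tt N846 (iv F2955)) (tt N848 D911) (tt N347 (iv D617)) (tt N849 D912) (tt N348 F2054) (tt N850 D913) (tt N362 F2055))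
theorem Q556 : ∀ i, i < 556 → P i := stepQ 555 Q555 (allL N555 (tt N748 (iv F2624)) (tt N847 (iv F2958)) (tt N567 (iv F2087)) (tt N850 (iv F2966)) (tt N555 F2056) (tt N548 F2057) (tt N347 (iv D618)) (tt N353 F2058))
theorem Q557 : ∀ i, i < 557 → P i := stepQ 556 Q556 (allL N556 (tt N749 (iv F2628)) (tt N851 D914) (tt N348 (iv D619)) (tt N570 (iv F2096)) (tt N852 D915) (tt N848 (iv F2961)) (tt N549 F2059) (tt N364 F2060))
theorem Q558 : ∀ i, i < 558 → P i := stepQ 557 Q557 (allL N557 (tt N750 (iv F2631)) (tt N557 F2061) (tt N852 (iv F2971)) (tt N557 F2062) (tt N348 (iv D620)) (tt N849 (iv F2964)) (tt N550 F2063) (tt N365 F2064))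
theorem Q559 : ∀ i, i < 559 → P i := stepQ 558 Q558 (allL N558 (tt N350 F2065) (tt N853 D916) (tt N349 (iv D621)) (tt N854 D917) (tt N558 F2066) (tt N397 F2067) (tt N842 (iv F2945)) (tt N855 D918))
theorem Q560 : ∀ i, i < 560 → P i := stepQ 559 Q559 (allL N559 (tt N351 F2068) (tt N752 (iv F2639)) (tt N855 (iv F2979)) (tt N856 D919) (tt N559 F2069) (tt N398 F2070) (tt N857 D920) (tt N349 (iv D622)))
theorem Q561 : ∀ i, i < 561 → P i := stepQ 560 Q560 (allL N560 (tt N854 (iv F2975)) (tt N833 (iv F2918)) (tt N368 F2071) (tt N350 (iv D623)) (tt N858 D921) (tt N399 F2072) (tt N844 (iv F2951)) (tt N859 D922))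
theorem Q562 : ∀ i, i < 562 → P i := stepQ 561 Q561 (allL N561 (tt N855 (iv F2978)) (tt N834 (iv F2921)) (tt N351 F2073) (tt N860 D923) (tt N561 F2074) (tt N400 F2075) (tt N861 D924) (tt N350 (iv D624)))
theorem Q563 : ∀ i, i < 563 → P i := stepQ 562 Q562 (allL N562 (tt N856 (iv F2982)) (tt N352 F2076) (tt N862 D925) (tt N351 (iv D625)) (tt N863 D926) (tt N401 F2077) (tt N864 D927) (tt N370 F2078))
theorem Q564 : ∀ i, i < 564 → P i := stepQ 563 Q563 (allL N563 (tt N857 (iv F2985)) (tt N353 F2079) (tt N861 (iv F2993)) (tt N864 (iv F3002)) (tt N563 F2080) (tt N865 D928) (tt N351 (iv D626)) (tt N847 (iv F2960)))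
theorem Q565 : ∀ i, i < 565 → P i := stepQ 564 Q564 (allL N564 (tt N757 (iv F2652)) (tt N866 D929) (tt N352 (iv D627)) (tt N837 (iv F2930)) (tt N867 D930) (tt N354 F2081) (tt N868 D931) (tt N372 F2082))
theorem Q566 : ∀ i, i < 566 → P i := stepQ 565 Q565 (allL N565 (tt N758 (iv F2655)) (tt N863 (iv F2997)) (tt N867 (iv F3006)) (tt N565 F2083) (tt N352 (iv D628)) (tt N355 F2084) (tt N869 D932) (tt N373 F2085))
theorem Q567 : ∀ i, i < 567 → P i := stepQ 566 Q566 (allL N566 (tt N759 (iv F2659)) (tt N864 (iv F3001)) (tt N868 (iv F3009)) (tt N353 F2086) (tt N869 (iv F3011)) (tt N870 D933) (tt N352 (iv D629)) (tt N871 D934))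
theorem Q568 : ∀ i, i < 568 → P i := stepQ 567 Q567 (allL N567 (tt N760 (iv F2661)) (tt N872 D935) (tt N555 F2087) (tt N870 (iv F3013)) (tt N567 F2088) (tt N353 (iv D630)) (tt N357 F2089) (tt N548 F2090))
theorem Q569 : ∀ i, i < 569 → P i := stepQ 568 Q568 (allL N568 (tt N873 D936) (tt N354 (iv D631)) (tt N407 F2091) (tt N840 (iv F2938)) (tt N874 D937) (tt N875 D938) (tt N876 D939) (tt N375 F2092))
theorem Q570 : ∀ i, i < 570 → P i := stepQ 569 Q569 (allL N569 (tt N762 (iv F2668)) (tt N874 (iv F3022)) (tt N355 F2093) (tt N877 D940) (tt N354 (iv D632)) (tt N867 (iv F3007)) (tt N878 D941) (tt N376 F2094))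
theorem Q571 : ∀ i, i < 571 → P i := stepQ 570 Q570 (allL N570 (tt N763 (iv F2671)) (tt N876 (iv F3027)) (tt N356 F2095) (tt N556 F2096) (tt N878 (iv F3033)) (tt N879 D942) (tt N354 (iv D633)) (tt N570 F2097))
theorem Q572 : ∀ i, i < 572 → P i := stepQ 571 Q571 (allL N571 (tt N764 (iv F2675)) (tt N410 F2098) (tt N878 (iv F3032)) (tt N571 F2099) (tt N356 F2100) (tt N880 D943) (tt N355 (iv D634)) (tt N571 F2101))
theorem Q573 : ∀ i, i < 573 → P i := stepQ 572 Q572 (allL N572 (tt N765 (iv F2680)) (tt N881 D944) (tt N879 (iv F3035)) (tt N357 F2102) (tt N880 (iv F3039)) (tt N356 (iv D635)) (tt N870 (iv F3014)) (tt N572 F2103))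
theorem Q574 : ∀ i, i < 574 → P i := stepQ 573 Q573 (allL N573 (tt N882 D945) (tt N357 (iv D636)) (tt N883 D946) (tt N881 (iv F3041)) (tt N573 F2104) (tt N412 F2105) (tt N872 (iv F3018)) (tt N358 F2106))
theorem Q575 : ∀ i, i < 575 → P i := stepQ 574 Q574 (allL N574 (tt N358 (iv D637)) (tt N767 (iv F2686)) (tt N884 D947) (tt N574 F2107) (tt N574 F2108) (tt N413 F2109) (tt N544 F2110) (tt N882 (iv F3046)))
theorem Q576 : ∀ i, i < 576 → P i := stepQ 575 Q575 (allL N575 (tt N884 (iv F3051)) (tt N552 F2111) (tt N358 (iv D638)) (tt N885 D948) (tt N575 F2112) (tt N414 F2113) (tt N545 F2114) (tt N883 (iv F3050)))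
theorem Q577 : ∀ i, i < 577 → P i := stepQ 576 Q576 (allL N576 (tt N360 F2115) (tt N886 D949) (tt N359 (iv D639)) (tt N887 D950) (tt N377 F2116) (tt N576 F2117) (tt N366 F2118) (tt N888 D951))
theorem Q578 : ∀ i, i < 578 → P i := stepQ 577 Q577 (allL N577 (tt N361 F2119) (tt N777 (iv F2728)) (tt N888 (iv F3066)) (tt N889 D952) (tt N378 F2120) (tt N577 F2121) (tt N890 D953) (tt N359 (iv D640)))
theorem Q579 : ∀ i, i < 579 → P i := stepQ 578 Q578 (allL N578 (tt N887 (iv F3062)) (tt N578 F2122) (tt N844 (iv F2949)) (tt N360 (iv D641)) (tt N891 D954) (tt N578 F2123) (tt N368 F2124) (tt N892 D955))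
theorem Q580 : ∀ i, i < 580 → P i := stepQ 579 Q579 (allL N579 (tt N888 (iv F3065)) (tt N579 F2125) (tt N361 F2126) (tt N893 D956) (tt N380 F2127) (tt N579 F2128) (tt N894 D957) (tt N360 (iv D642)))
theorem Q581 : ∀ i, i < 581 → P i := stepQ 580 Q580 (allL N580 (tt N889 (iv F3069)) (tt N362 F2129) (tt N895 D958) (tt N361 (iv D643)) (tt N896 D959) (tt N580 F2130) (tt N897 D960) (tt N846 (iv F2957)))
theorem Q582 : ∀ i, i < 582 → P i := stepQ 581 Q581 (allL N581 (tt N890 (iv F3071)) (tt N363 F2131) (tt N894 (iv F3084)) (tt N897 (iv F3094)) (tt N382 F2132) (tt N898 D961) (tt N361 (iv D644)) (tt N371 F2133))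
theorem Q583 : ∀ i, i < 583 → P i := stepQ 582 Q582 (allL N582 (tt N782 (iv F2742)) (tt N899 D962) (tt N362 (iv D645)) (tt N582 F2134) (tt N900 D963) (tt N364 F2135) (tt N901 D964) (tt N848 (iv F2962)))
theorem Q584 : ∀ i, i < 584 → P i := stepQ 583 Q583 (allL N583 (tt N783 (iv F2745)) (tt N896 (iv F3089)) (tt N900 (iv F3102)) (tt N383 F2136) (tt N362 (iv D646)) (tt N365 F2137) (tt N472 (iv F2138)) (tt N849 (iv F2965)))
theorem Q585 : ∀ i, i < 585 → P i := stepQ 584 Q584 (allL N584 (tt N784 (iv F2749)) (tt N897 (iv F3093)) (tt N901 (iv F3106)) (tt N363 F2139) (tt N472 F2140) (tt N584 F2141) (tt N362 (iv D647)) (tt N902 D965))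
theorem Q586 : ∀ i, i < 586 → P i := stepQ 585 Q585 (allL N585 (tt N903 D966) (tt N364 (iv D648)) (tt N585 F2142) (tt N585 F2143) (tt N904 D967) (tt N905 D968) (tt N585 F2144) (tt N851 (iv F2970)))
theorem Q587 : ∀ i, i < 587 → P i := stepQ 586 Q586 (allL N586 (tt N786 (iv F2755)) (tt N904 (iv F3116)) (tt N365 F2145) (tt N906 D969) (tt N364 (iv D649)) (tt N900 (iv F3103)) (tt N586 F2146) (tt N852 (iv F2973)))
theorem Q588 : ∀ i, i < 588 → P i := stepQ 587 Q587 (allL N587 (tt N587 F2147) (tt N366 (iv D650)) (tt N787 (iv F2759)) (tt N907 D970) (tt N386 F2148) (tt N908 D971) (tt N886 (iv F3061)) (tt N909 D972))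
theorem Q589 : ∀ i, i < 589 → P i := stepQ 588 Q588 (allL N588 (tt N368 F2149) (tt N907 (iv F3126)) (tt N854 (iv F2976)) (tt N366 (iv D651)) (tt N910 D973) (tt N416 F2150) (tt N887 (iv F3064)) (tt N911 D974))
theorem Q590 : ∀ i, i < 590 → P i := stepQ 589 Q589 (allL N589 (tt N369 F2151) (tt N909 (iv F3131)) (tt N367 F2152) (tt N912 D975) (tt N388 F2153) (tt N417 F2154) (tt N913 D976) (tt N366 (iv D652)))
theorem Q591 : ∀ i, i < 591 → P i := stepQ 590 Q590 (allL N590 (tt N370 F2155) (tt N790 (iv F2768)) (tt N914 D977) (tt N367 (iv D653)) (tt N915 D978) (tt N418 F2156) (tt N916 D979) (tt N856 (iv F2984)))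
theorem Q592 : ∀ i, i < 592 → P i := stepQ 591 Q591 (allL N591 (tt N371 F2157) (tt N791 (iv F2771)) (tt N913 (iv F3141)) (tt N916 (iv F3151)) (tt N390 F2158) (tt N917 D980) (tt N367 (iv D654)) (tt N890 (iv F3073)))
theorem Q593 : ∀ i, i < 593 → P i := stepQ 592 Q592 (allL N592 (tt N910 (iv F3133)) (tt N592 F2159) (tt N858 (iv F2987)) (tt N391 F2160) (tt N368 (iv D655)) (tt N420 F2161) (tt N891 (iv F3077)) (tt N918 D981))
theorem Q594 : ∀ i, i < 594 → P i := stepQ 593 Q593 (allL N593 (tt N911 (iv F3136)) (tt N593 F2162) (tt N859 (iv F2990)) (tt N919 D982) (tt N918 (iv F3158)) (tt N421 F2163) (tt N920 D983) (tt N368 (iv D656)))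
theorem Q595 : ∀ i, i < 595 → P i := stepQ 594 Q594 (allL N594 (tt N912 (iv F3138)) (tt N594 F2164) (tt N921 D984) (tt N369 (iv D657)) (tt N922 D985) (tt N422 F2165) (tt N923 D986) (tt N919 (iv F3162)))
theorem Q596 : ∀ i, i < 596 → P i := stepQ 595 Q595 (allL N595 (tt N913 (iv F3140)) (tt N595 F2166) (tt N371 F2167) (tt N923 (iv F3171)) (tt N394 F2168) (tt N444 F2169) (tt N369 (iv D658)) (tt N894 (iv F3086)))
theorem Q597 : ∀ i, i < 597 → P i := stepQ 596 Q596 (allL N596 (tt N914 (iv F3144)) (tt N924 D987) (tt N370 (iv D659)) (tt N921 (iv F3164)) (tt N925 D988) (tt N423 F2170) (tt N926 D989) (tt N862 (iv F2996)))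
theorem Q598 : ∀ i, i < 598 → P i := stepQ 597 Q597 (allL N597 (tt N915 (iv F3146)) (tt N373 F2171) (tt N925 (iv F3175)) (tt N395 F2172) (tt N370 (iv D660)) (tt N424 F2173) (tt N422 (iv F2174)) (tt N863 (iv F3000)))
theorem Q599 : ∀ i, i < 599 → P i := stepQ 598 Q598 (allL N598 (tt N916 (iv F3150)) (tt N374 F2175) (tt N926 (iv F3179)) (tt N371 F2176) (tt N422 F2177) (tt N922 (iv F3168)) (tt N370 (iv D661)) (tt N927 D990))
theorem Q600 : ∀ i, i < 600 → P i := stepQ 599 Q599 (allL N599 (tt N917 (iv F3153)) (tt N599 F2178) (tt N444 F2179) (tt N922 (iv F3167)) (tt N393 F2180) (tt N371 (iv D662)) (tt N426 F2181) (tt N898 (iv F3100)))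
theorem Q601 : ∀ i, i < 601 → P i := stepQ 600 Q600 (allL N600 (tt N928 D991) (tt N372 (iv D663)) (tt N924 (iv F3174)) (tt N600 F2182) (tt N929 D992) (tt N930 D993) (tt N931 D994) (tt N866 (iv F3005)))
theorem Q602 : ∀ i, i < 602 → P i := stepQ 601 Q601 (allL N601 (tt N801 (iv F2797)) (tt N929 (iv F3184)) (tt N373 F2183) (tt N460 (iv F2185)) (tt N372 (iv D664)) (tt N376 F2184) (tt N458 F2186) (tt N867 (iv F3008)))
theorem Q603 : ∀ i, i < 603 → P i := stepQ 602 Q602 (allL N602 (tt N802 (iv F2802)) (tt N931 (iv F3189)) (tt N374 F2187) (tt N602 F2188) (tt N458 F2189) (tt N602 F2190) (tt N372 (iv D665)) (tt N932 D995))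
theorem Q604 : ∀ i, i < 604 → P i := stepQ 603 Q603 (allL N603 (tt N803 (iv F2807)) (tt N927 (iv F3181)) (tt N932 (iv F3192)) (tt N902 (iv F3110)) (tt N456 F2191) (tt N603 F2192) (tt N871 (iv F3016)) (tt N374 (iv D666)))
theorem Q605 : ∀ i, i < 605 → P i := stepQ 604 Q604 (allL N604 (tt N375 (iv D667)) (tt N804 (iv F2810)) (tt N432 F2193) (tt N604 F2194) (tt N933 D996) (tt N934 D997) (tt N604 F2195) (tt N873 (iv F3021)))
theorem Q606 : ∀ i, i < 606 → P i := stepQ 605 Q605 (allL N605 (tt N933 (iv F3195)) (tt N376 F2196) (tt N433 F2197) (tt N935 D998) (tt N375 (iv D668)) (tt N936 D999) (tt N605 F2198) (tt N874 (iv F3024)))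
theorem Q607 : ∀ i, i < 607 → P i := stepQ 606 Q606 (allL N606 (tt N934 (iv F3198)) (tt N930 (iv F3187)) (tt N434 F2199) (tt N606 F2200) (tt N936 (iv F3206)) (tt N375 (iv D669)) (tt N937 D1000) (tt N875 (iv F3026)))
theorem Q608 : ∀ i, i < 608 → P i := stepQ 607 Q607 (allL N607 (tt N807 (iv F2819)) (tt N935 (iv F3201)) (tt N396 F2201) (tt N376 (iv D670)) (tt N607 F2202) (tt N460 F2203) (tt N607 F2204) (tt N938 D1001))
theorem Q609 : ∀ i, i < 609 → P i := stepQ 608 Q608 (allL N608 (tt N608 F2205) (tt N377 (iv D671)) (tt N813 (iv F2843)) (tt N939 D1002) (tt N886 (iv F3060)) (tt N940 D1003) (tt N386 F2206) (tt N941 D1004))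
theorem Q610 : ∀ i, i < 610 → P i := stepQ 609 Q609 (allL N609 (tt N379 F2207) (tt N939 (iv F3214)) (tt N609 F2208) (tt N377 (iv D672)) (tt N942 D1005) (tt N609 F2209) (tt N387 F2210) (tt N609 F2211))
theorem Q611 : ∀ i, i < 611 → P i := stepQ 610 Q610 (allL N610 (tt N380 F2212) (tt N941 (iv F3221)) (tt N378 F2213) (tt N610 F2214) (tt N888 (iv F3067)) (tt N610 F2215) (tt N943 D1006) (tt N377 (iv D673)))
theorem Q612 : ∀ i, i < 612 → P i := stepQ 611 Q611 (allL N611 (tt N381 F2216) (tt N815 (iv F2851)) (tt N611 F2217) (tt N378 (iv D674)) (tt N944 D1007) (tt N611 F2218) (tt N439 (iv F2220)) (tt N611 F2219))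
theorem Q613 : ∀ i, i < 613 → P i := stepQ 612 Q612 (allL N612 (tt N382 F2221) (tt N816 (iv F2855)) (tt N943 (iv F3229)) (tt N439 F2222) (tt N890 (iv F3072)) (tt N945 D1008) (tt N378 (iv D675)) (tt N390 F2223))
theorem Q614 : ∀ i, i < 614 → P i := stepQ 613 Q613 (allL N613 (tt N942 (iv F3223)) (tt N613 F2224) (tt N613 F2225) (tt N891 (iv F3075)) (tt N379 (iv D676)) (tt N613 F2226) (tt N391 F2227) (tt N613 F2228))
theorem Q615 : ∀ i, i < 615 → P i := stepQ 614 Q614 (allL N614 (tt N943 (iv F3228)) (tt N614 F2229) (tt N382 F2230) (tt N614 F2231) (tt N894 (iv F3085)) (tt N445 (iv F2233)) (tt N380 (iv D677)) (tt N394 F2232))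
theorem Q616 : ∀ i, i < 616 → P i := stepQ 615 Q615 (allL N615 (tt N944 (iv F3233)) (tt N383 F2234) (tt N615 F2235) (tt N896 (iv F3090)) (tt N381 (iv D678)) (tt N615 F2236) (tt N443 F2237) (tt N615 F2238))
theorem Q617 : ∀ i, i < 617 → P i := stepQ 616 Q616 (allL N616 (tt N945 (iv F3238)) (tt N616 F2239) (tt N445 F2240) (tt N392 F2241) (tt N898 (iv F3098)) (tt N382 (iv D679)) (tt N616 F2242) (tt N393 F2243))
theorem Q618 : ∀ i, i < 618 → P i := stepQ 617 Q617 (allL N617 (tt N617 F2244) (tt N385 F2245) (tt N617 F2246) (tt N946 D1009) (tt N384 (iv D680)) (tt N617 F2247) (tt N617 F2248) (tt N617 F2249))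
theorem Q619 : ∀ i, i < 619 → P i := stepQ 618 Q618 (allL N618 (tt N820 (iv F2867)) (tt N946 (iv F3244)) (tt N906 (iv F3121)) (tt N385 (iv D681)) (tt N618 F2250) (tt N478 F2251) (tt N618 F2252) (tt N947 D1010))
theorem Q620 : ∀ i, i < 620 → P i := stepQ 619 Q619 (allL N619 (tt N619 F2253) (tt N387 F2254) (tt N940 (iv F3219)) (tt N386 (iv D682)) (tt N948 D1011) (tt N813 (iv F2845)) (tt N939 (iv F3215)) (tt N949 D1012))
theorem Q621 : ∀ i, i < 621 → P i := stepQ 620 Q620 (allL N620 (tt N620 F2255) (tt N436 F2256) (tt N822 (iv F2878)) (tt N813 (iv F2844)) (tt N908 (iv F3129)) (tt N386 (iv D683)) (tt N821 (iv F2874)) (tt N950 D1013))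
theorem Q622 : ∀ i, i < 622 → P i := stepQ 621 Q621 (allL N621 (tt N621 F2257) (tt N388 F2258) (tt N823 (iv F2881)) (tt N951 D1014) (tt N909 (iv F3132)) (tt N950 (iv F3258)) (tt N952 D1015) (tt N386 (iv D684)))
theorem Q623 : ∀ i, i < 623 → P i := stepQ 622 Q622 (allL N622 (tt N391 F2259) (tt N948 (iv F3252)) (tt N622 F2260) (tt N910 (iv F3134)) (tt N387 (iv D685)) (tt N438 F2261) (tt N942 (iv F3226)) (tt N953 D1016))
theorem Q624 : ∀ i, i < 624 → P i := stepQ 623 Q623 (allL N623 (tt N392 F2262) (tt N949 (iv F3254)) (tt N623 F2263) (tt N945 (iv F3240)) (tt N953 (iv F3270)) (tt N439 F2264) (tt N623 F2265) (tt N387 (iv D686)))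
theorem Q625 : ∀ i, i < 625 → P i := stepQ 624 Q624 (allL N624 (tt N393 F2266) (tt N951 (iv F3261)) (tt N442 F2267) (tt N388 (iv D687)) (tt N917 (iv F3155)) (tt N390 F2268) (tt N440 (iv F2269)) (tt N945 (iv F3242)))
theorem Q626 : ∀ i, i < 626 → P i := stepQ 625 Q625 (allL N625 (tt N394 F2270) (tt N952 (iv F3265)) (tt N390 F2271) (tt N440 F2272) (tt N913 (iv F3142)) (tt N442 F2273) (tt N388 (iv D688)) (tt N943 (iv F3231)))
theorem Q627 : ∀ i, i < 627 → P i := stepQ 626 Q626 (allL N626 (tt N395 F2274) (tt N826 (iv F2892)) (tt N419 F2275) (tt N915 (iv F3147)) (tt N389 (iv D689)) (tt N441 F2276) (tt N417 F2277) (tt N626 F2278))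
theorem Q628 : ∀ i, i < 628 → P i := stepQ 627 Q627 (allL N627 (tt N953 (iv F3268)) (tt N627 F2279) (tt N627 F2280) (tt N954 D1017) (tt N392 F2281) (tt N443 F2282) (tt N627 F2283) (tt N391 (iv D690)))
theorem Q629 : ∀ i, i < 629 → P i := stepQ 628 Q628 (allL N628 (tt N830 (iv F2908)) (tt N628 F2284) (tt N938 (iv F3210)) (tt N628 F2285) (tt N628 F2286) (tt N461 F2287) (tt N955 D1018) (tt N396 (iv D691)))
theorem Q630 : ∀ i, i < 630 → P i := stepQ 629 Q629 (allL N629 (tt N629 F2288) (tt N397 (iv D692)) (tt N629 F2289) (tt N956 D1019) (tt N629 F2290) (tt N957 D1020) (tt N629 F2291) (tt N958 D1021))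
theorem Q631 : ∀ i, i < 631 → P i := stepQ 630 Q630 (allL N630 (tt N399 F2292) (tt N956 (iv F3282)) (tt N416 F2293) (tt N397 (iv D693)) (tt N959 D1022) (tt N854 (iv F2977)) (tt N630 F2294) (tt N960 D1023))
theorem Q632 : ∀ i, i < 632 → P i := stepQ 631 Q631 (allL N631 (tt N400 F2295) (tt N958 (iv F3288)) (tt N398 F2296) (tt N961 D1024) (tt N631 F2297) (tt N855 (iv F2981)) (tt N962 D1025) (tt N397 (iv D694)))
theorem Q633 : ∀ i, i < 633 → P i := stepQ 632 Q632 (allL N632 (tt N401 F2298) (tt N632 F2299) (tt N963 D1026) (tt N398 (iv D695)) (tt N964 D1027) (tt N856 (iv F2983)) (tt N965 D1028) (tt N418 F2300))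
theorem Q634 : ∀ i, i < 634 → P i := stepQ 633 Q633 (allL N633 (tt N402 F2301) (tt N633 F2302) (tt N962 (iv F3299)) (tt N965 (iv F3310)) (tt N633 F2303) (tt N966 D1029) (tt N398 (iv D696)) (tt N633 F2304))
theorem Q635 : ∀ i, i < 635 → P i := stepQ 634 Q634 (allL N634 (tt N959 (iv F3291)) (tt N634 F2305) (tt N420 F2306) (tt N634 F2307) (tt N399 (iv D697)) (tt N858 (iv F2989)) (tt N634 F2308) (tt N967 D1030))
theorem Q636 : ∀ i, i < 636 → P i := stepQ 635 Q635 (allL N635 (tt N960 (iv F3295)) (tt N635 F2309) (tt N421 F2310) (tt N968 D1031) (tt N967 (iv F3316)) (tt N859 (iv F2991)) (tt N969 D1032) (tt N399 (iv D698)))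
theorem Q637 : ∀ i, i < 637 → P i := stepQ 636 Q636 (allL N636 (tt N961 (iv F3297)) (tt N636 F2311) (tt N970 D1033) (tt N400 (iv D699)) (tt N971 D1034) (tt N860 (iv F2992)) (tt N972 D1035) (tt N968 (iv F3318)))
theorem Q638 : ∀ i, i < 638 → P i := stepQ 637 Q637 (allL N637 (tt N962 (iv F3298)) (tt N637 F2312) (tt N402 F2313) (tt N972 (iv F3326)) (tt N637 F2314) (tt N973 D1036) (tt N400 (iv D700)) (tt N637 F2315))
theorem Q639 : ∀ i, i < 639 → P i := stepQ 638 Q638 (allL N638 (tt N963 (iv F3302)) (tt N974 D1037) (tt N401 (iv D701)) (tt N970 (iv F3322)) (tt N975 D1038) (tt N862 (iv F2995)) (tt N976 D1039) (tt N423 F2316))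
theorem Q640 : ∀ i, i < 640 → P i := stepQ 639 Q639 (allL N639 (tt N964 (iv F3304)) (tt N404 F2317) (tt N975 (iv F3332)) (tt N639 F2318) (tt N401 (iv D702)) (tt N863 (iv F2999)) (tt N642 (iv F2326)) (tt N424 F2319))
theorem Q641 : ∀ i, i < 641 → P i := stepQ 640 Q640 (allL N640 (tt N965 (iv F3308)) (tt N405 F2320) (tt N976 (iv F3336)) (tt N402 F2321) (tt N642 (iv F2325)) (tt N977 D1040) (tt N401 (iv D703)) (tt N674 (iv F2405)))
theorem Q642 : ∀ i, i < 642 → P i := stepQ 641 Q641 (allL N641 (tt N966 (iv F3311)) (tt N978 D1041) (tt N973 (iv F3327)) (tt N977 (iv F3338)) (tt N641 F2322) (tt N402 (iv D704)) (tt N865 (iv F3004)) (tt N641 F2323))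
theorem Q643 : ∀ i, i < 643 → P i := stepQ 642 Q642 (allL N642 (tt N979 D1042) (tt N403 (iv D705)) (tt N974 (iv F3330)) (tt N642 F2324) (tt N640 F2325) (tt N980 D1043) (tt N639 F2326) (tt N427 F2327))
theorem Q644 : ∀ i, i < 644 → P i := stepQ 643 Q643 (allL N643 (tt N981 D1044) (tt N406 (iv D706)) (tt N982 D1045) (tt N645 F2336) (tt N643 F2328) (tt N978 (iv F3340)) (tt N412 F2329) (tt N643 F2330))
theorem Q645 : ∀ i, i < 645 → P i := stepQ 644 Q644 (allL N644 (tt N407 (iv D707)) (tt N644 F2331) (tt N873 (iv F3020)) (tt N644 F2332) (tt N983 D1046) (tt N984 D1047) (tt N985 D1048) (tt N432 F2333))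
theorem Q646 : ∀ i, i < 646 → P i := stepQ 645 Q645 (allL N645 (tt N983 (iv F3359)) (tt N408 F2334) (tt N874 (iv F3023)) (tt N643 (iv F2336)) (tt N407 (iv D708)) (tt N986 D1049) (tt N648 (iv F2344)) (tt N433 F2335))
theorem Q647 : ∀ i, i < 647 → P i := stepQ 646 Q646 (allL N646 (tt N984 (iv F3363)) (tt N980 (iv F3347)) (tt N875 (iv F3025)) (tt N646 F2337) (tt N986 (iv F3372)) (tt N407 (iv D709)) (tt N987 D1050) (tt N434 F2338))
theorem Q648 : ∀ i, i < 648 → P i := stepQ 647 Q647 (allL N647 (tt N985 (iv F3366)) (tt N409 F2339) (tt N876 (iv F3028)) (tt N647 F2340) (tt N648 (iv F2343)) (tt N988 D1051) (tt N407 (iv D710)) (tt N647 F2341))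
theorem Q649 : ∀ i, i < 649 → P i := stepQ 648 Q648 (allL N648 (tt N989 D1052) (tt N411 (iv D711)) (tt N990 D1053) (tt N412 F2342) (tt N647 F2343) (tt N881 (iv F3042)) (tt N645 F2344) (tt N648 F2345))
theorem Q650 : ∀ i, i < 650 → P i := stepQ 649 Q649 (allL N649 (tt N412 (iv D712)) (tt N649 F2346) (tt N991 D1054) (tt N989 (iv F3380)) (tt N649 F2347) (tt N882 (iv F3045)) (tt N981 (iv F3353)) (tt N413 F2348))
theorem Q651 : ∀ i, i < 651 → P i := stepQ 650 Q650 (allL N650 (tt N991 (iv F3388)) (tt N650 F2349) (tt N412 (iv D713)) (tt N992 D1055) (tt N650 F2350) (tt N883 (iv F3049)) (tt N982 (iv F3357)) (tt N414 F2351))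
theorem Q652 : ∀ i, i < 652 → P i := stepQ 651 Q651 (allL N651 (tt N414 F2352) (tt N993 D1056) (tt N413 (iv D714)) (tt N994 D1057) (tt N651 F2353) (tt N884 (iv F3053)) (tt N651 F2354) (tt N991 (iv F3390)))
theorem Q653 : ∀ i, i < 653 → P i := stepQ 652 Q652 (allL N652 (tt N994 (iv F3396)) (tt N652 F2355) (tt N652 F2356) (tt N414 (iv D715)) (tt N995 D1058) (tt N885 (iv F3057)) (tt N652 F2357) (tt N996 D1059))
theorem Q654 : ∀ i, i < 654 → P i := stepQ 653 Q653 (allL N653 (tt N447 F2358) (tt N416 F2359) (tt N997 D1060) (tt N415 (iv D716)) (tt N998 D1061) (tt N999 D1062) (tt N653 F2360) (tt N1000 D1063))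
theorem Q655 : ∀ i, i < 655 → P i := stepQ 654 Q654 (allL N654 (tt N448 F2361) (tt N908 (iv F3128)) (tt N654 F2362) (tt N999 (iv F3413)) (tt N436 F2363) (tt N415 (iv D717)) (tt N824 (iv F2886)) (tt N1001 D1064))
theorem Q656 : ∀ i, i < 656 → P i := stepQ 655 Q655 (allL N655 (tt N449 F2364) (tt N417 F2365) (tt N655 F2366) (tt N1002 D1065) (tt N437 F2367) (tt N1001 (iv F3419)) (tt N826 (iv F2895)) (tt N415 (iv D718)))
theorem Q657 : ∀ i, i < 657 → P i := stepQ 656 Q656 (allL N656 (tt N420 F2368) (tt N998 (iv F3409)) (tt N959 (iv F3292)) (tt N438 F2369) (tt N416 (iv D719)) (tt N910 (iv F3135)) (tt N656 F2370) (tt N1003 D1066))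
theorem Q658 : ∀ i, i < 658 → P i := stepQ 657 Q657 (allL N657 (tt N421 F2371) (tt N1000 (iv F3415)) (tt N960 (iv F3296)) (tt N1004 D1067) (tt N1003 (iv F3424)) (tt N911 (iv F3137)) (tt N1005 D1068) (tt N416 (iv D720)))
theorem Q659 : ∀ i, i < 659 → P i := stepQ 658 Q658 (allL N658 (tt N422 F2372) (tt N1002 (iv F3422)) (tt N1006 D1069) (tt N417 (iv D721)) (tt N916 (iv F3152)) (tt N912 (iv F3139)) (tt N915 F3149) (tt N1004 (iv F3426)))
theorem Q660 : ∀ i, i < 660 → P i := stepQ 659 Q659 (allL N659 (tt N423 F2373) (tt N1007 D1070) (tt N418 (iv D722)) (tt N1006 (iv F3430)) (tt N1008 D1071) (tt N914 (iv F3145)) (tt N1009 D1072) (tt N963 (iv F3303)))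
theorem Q661 : ∀ i, i < 661 → P i := stepQ 660 Q660 (allL N660 (tt N424 F2374) (tt N660 F2375) (tt N1008 (iv F3433)) (tt N441 F2376) (tt N418 (iv D723)) (tt N915 (iv F3148)) (tt N1010 D1073) (tt N964 (iv F3307)))
theorem Q662 : ∀ i, i < 662 → P i := stepQ 661 Q661 (allL N661 (tt N425 F2377) (tt N661 F2378) (tt N1009 (iv F3435)) (tt N419 F2379) (tt N1010 (iv F3439)) (tt N1011 D1074) (tt N418 (iv D724)) (tt N1012 D1075))
theorem Q663 : ∀ i, i < 663 → P i := stepQ 662 Q662 (allL N662 (tt N426 F2380) (tt N1013 D1076) (tt N441 F2381) (tt N1011 (iv F3441)) (tt N440 F2382) (tt N419 (iv D725)) (tt N917 (iv F3156)) (tt N662 F2383))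
theorem Q664 : ∀ i, i < 664 → P i := stepQ 663 Q663 (allL N663 (tt N1003 (iv F3423)) (tt N455 F2384) (tt N967 (iv F3315)) (tt N1014 D1077) (tt N421 F2385) (tt N918 (iv F3159)) (tt N1015 D1078) (tt N420 (iv D726)))
theorem Q665 : ∀ i, i < 665 → P i := stepQ 664 Q664 (allL N664 (tt N1004 (iv F3425)) (tt N456 F2386) (tt N1016 D1079) (tt N421 (iv D727)) (tt N927 (iv F3182)) (tt N919 (iv F3161)) (tt N1017 D1080) (tt N422 F2387))
theorem Q666 : ∀ i, i < 666 → P i := stepQ 665 Q665 (allL N665 (tt N1005 (iv F3427)) (tt N457 F2388) (tt N969 (iv F3320)) (tt N1017 (iv F3457)) (tt N1015 (iv F3453)) (tt N1018 D1081) (tt N421 (iv D728)) (tt N665 F2389))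
theorem Q667 : ∀ i, i < 667 → P i := stepQ 666 Q666 (allL N666 (tt N1006 (iv F3429)) (tt N1019 D1082) (tt N422 (iv D729)) (tt N423 F2390) (tt N926 (iv F3180)) (tt N921 (iv F3165)) (tt N925 F3178) (tt N1016 (iv F3455)))
theorem Q668 : ∀ i, i < 668 → P i := stepQ 667 Q667 (allL N667 (tt N1020 D1083) (tt N423 (iv D730)) (tt N427 F2391) (tt N1019 (iv F3460)) (tt N1021 D1084) (tt N1022 D1085) (tt N1023 D1086) (tt N974 (iv F3331)))
theorem Q669 : ∀ i, i < 669 → P i := stepQ 668 Q668 (allL N668 (tt N1008 (iv F3432)) (tt N1021 (iv F3462)) (tt N424 F2392) (tt N1024 D1087) (tt N423 (iv D731)) (tt N925 (iv F3176)) (tt N1025 D1088) (tt N975 (iv F3333)))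
theorem Q670 : ∀ i, i < 670 → P i := stepQ 669 Q669 (allL N669 (tt N1009 (iv F3434)) (tt N1023 (iv F3466)) (tt N425 F2393) (tt N925 F3177) (tt N1025 (iv F3471)) (tt N1024 (iv F3469)) (tt N423 (iv D732)) (tt N1026 D1089))
theorem Q671 : ∀ i, i < 671 → P i := stepQ 670 Q670 (allL N670 (tt N1010 (iv F3436)) (tt N430 F2394) (tt N1025 (iv F3470)) (tt N444 F2395) (tt N425 F2396) (tt N923 (iv F3173)) (tt N424 (iv D733)) (tt N676 (iv F2412)))
theorem Q672 : ∀ i, i < 672 → P i := stepQ 671 Q671 (allL N671 (tt N1011 (iv F3440)) (tt N671 F2397) (tt N1024 (iv F3468)) (tt N426 F2398) (tt N923 (iv F3172)) (tt N425 (iv D734)) (tt N922 F3169) (tt N1027 D1090))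
theorem Q673 : ∀ i, i < 673 → P i := stepQ 672 Q672 (allL N672 (tt N1012 (iv F3442)) (tt N431 F2399) (tt N1026 (iv F3474)) (tt N672 F2400) (tt N676 (iv F2411)) (tt N1027 (iv F3479)) (tt N674 F2406) (tt N425 (iv D735)))
theorem Q674 : ∀ i, i < 674 → P i := stepQ 673 Q673 (allL N673 (tt N427 (iv D736)) (tt N673 F2401) (tt N1020 (iv F3461)) (tt N462 F2402) (tt N1028 D1091) (tt N1029 D1092) (tt N1030 D1093) (tt N979 (iv F3346)))
theorem Q675 : ∀ i, i < 675 → P i := stepQ 674 Q674 (allL N674 (tt N1028 (iv F3480)) (tt N428 F2403) (tt N1021 (iv F3463)) (tt N674 F2404) (tt N427 (iv D737)) (tt N1031 D1094) (tt N672 (iv F2406)) (tt N640 F2405))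
theorem Q676 : ∀ i, i < 676 → P i := stepQ 675 Q675 (allL N675 (tt N1029 (iv F3485)) (tt N434 F2407) (tt N1022 (iv F3465)) (tt N463 F2408) (tt N1031 (iv F3494)) (tt N427 (iv D738)) (tt N1032 D1095) (tt N980 (iv F3350)))
theorem Q677 : ∀ i, i < 677 → P i := stepQ 676 Q676 (allL N676 (tt N1030 (iv F3487)) (tt N429 F2409) (tt N1023 (iv F3467)) (tt N464 F2410) (tt N672 F2411) (tt N1033 D1096) (tt N427 (iv D739)) (tt N670 F2412))
theorem Q678 : ∀ i, i < 678 → P i := stepQ 677 Q677 (allL N677 (tt N433 F2413) (tt N677 F2414) (tt N933 (iv F3196)) (tt N677 F2415) (tt N432 (iv D740)) (tt N1034 D1097) (tt N677 F2416) (tt N983 (iv F3361)))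
theorem Q679 : ∀ i, i < 679 → P i := stepQ 678 Q678 (allL N678 (tt N434 F2417) (tt N1035 D1098) (tt N934 (iv F3199)) (tt N466 F2418) (tt N1034 (iv F3504)) (tt N432 (iv D741)) (tt N1036 D1099) (tt N984 (iv F3365)))
theorem Q680 : ∀ i, i < 680 → P i := stepQ 679 Q679 (allL N679 (tt N1034 (iv F3502)) (tt N1031 (iv F3492)) (tt N936 (iv F3205)) (tt N679 F2419) (tt N434 F2420) (tt N433 (iv D742)) (tt N1037 D1100) (tt N986 (iv F3373)))
theorem Q681 : ∀ i, i < 681 → P i := stepQ 680 Q680 (allL N680 (tt N1036 (iv F3507)) (tt N1032 (iv F3496)) (tt N937 (iv F3207)) (tt N467 F2421) (tt N1037 (iv F3511)) (tt N680 F2422) (tt N434 (iv D743)) (tt N1038 D1101))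
theorem Q682 : ∀ i, i < 682 → P i := stepQ 681 Q681 (allL N681 (tt N468 F2423) (tt N438 F2424) (tt N770 (iv F2702)) (tt N998 (iv F3410)) (tt N435 (iv D744)) (tt N776 (iv F2725)) (tt N681 F2425) (tt N1039 D1102))
theorem Q683 : ∀ i, i < 683 → P i := stepQ 682 Q682 (allL N682 (tt N469 F2426) (tt N439 F2427) (tt N808 (iv F2826)) (tt N816 (iv F2856)) (tt N1039 (iv F3516)) (tt N814 (iv F2849)) (tt N815 F2853) (tt N435 (iv D745)))
theorem Q684 : ∀ i, i < 684 → P i := stepQ 683 Q683 (allL N683 (tt N470 F2428) (tt N950 (iv F3257)) (tt N683 F2429) (tt N827 (iv F2898)) (tt N1001 (iv F3418)) (tt N437 F2430) (tt N683 F2431) (tt N436 (iv D746)))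
theorem Q685 : ∀ i, i < 685 → P i := stepQ 684 Q684 (allL N684 (tt N443 F2432) (tt N1039 (iv F3515)) (tt N684 F2433) (tt N1040 D1103) (tt N439 F2434) (tt N953 (iv F3271)) (tt N944 (iv F3236)) (tt N438 (iv D747)))
theorem Q686 : ∀ i, i < 686 → P i := stepQ 685 Q685 (allL N685 (tt N685 F2435) (tt N440 (iv D748)) (tt N685 F2436) (tt N952 (iv F3266)) (tt N1013 (iv F3447)) (tt N685 F2437) (tt N951 F3263) (tt N685 F2438))
theorem Q687 : ∀ i, i < 687 → P i := stepQ 686 Q686 (allL N686 (tt N444 F2439) (tt N686 F2440) (tt N917 (iv F3154)) (tt N1010 (iv F3438)) (tt N442 F2441) (tt N913 (iv F3143)) (tt N441 (iv D749)) (tt N1041 D1104))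
theorem Q688 : ∀ i, i < 688 → P i := stepQ 687 Q687 (allL N687 (tt N445 F2442) (tt N687 F2443) (tt N945 (iv F3239)) (tt N687 F2444) (tt N1041 (iv F3520)) (tt N943 F3232) (tt N687 F2445) (tt N442 (iv D750)))
theorem Q689 : ∀ i, i < 689 → P i := stepQ 688 Q688 (allL N688 (tt N1040 (iv F3517)) (tt N472 F2446) (tt N1042 D1105) (tt N443 (iv D751)) (tt N897 (iv F3095)) (tt N954 (iv F3274)) (tt N896 F3092) (tt N1014 (iv F3451)))
theorem Q690 : ∀ i, i < 690 → P i := stepQ 689 Q689 (allL N689 (tt N1041 (iv F3518)) (tt N446 F2447) (tt N898 (iv F3097)) (tt N717 (iv F2526)) (tt N445 F2448) (tt N894 F3087) (tt N689 F2449) (tt N444 (iv D752)))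
theorem Q691 : ∀ i, i < 691 → P i := stepQ 690 Q690 (allL N690 (tt N997 (iv F3405)) (tt N690 F2450) (tt N447 (iv D753)) (tt N690 F2451) (tt N1043 D1106) (tt N1044 D1107) (tt N690 F2452) (tt N1045 D1108))
theorem Q692 : ∀ i, i < 692 → P i := stepQ 691 Q691 (allL N691 (tt N998 (iv F3408)) (tt N450 F2453) (tt N1043 (iv F3524)) (tt N468 F2454) (tt N447 (iv D754)) (tt N778 (iv F2732)) (tt N691 F2455) (tt N1046 D1109))
theorem Q693 : ∀ i, i < 693 → P i := stepQ 692 Q692 (allL N692 (tt N999 (iv F3412)) (tt N692 F2456) (tt N1044 (iv F3526)) (tt N448 F2457) (tt N778 (iv F2731)) (tt N447 (iv D755)) (tt N792 (iv F2776)) (tt N1047 D1110))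
theorem Q694 : ∀ i, i < 694 → P i := stepQ 693 Q693 (allL N693 (tt N1000 (iv F3414)) (tt N451 F2458) (tt N1045 (iv F3529)) (tt N1048 D1111) (tt N1046 (iv F3531)) (tt N1047 (iv F3533)) (tt N1049 D1112) (tt N447 (iv D756)))
theorem Q695 : ∀ i, i < 695 → P i := stepQ 694 Q694 (allL N694 (tt N1001 (iv F3416)) (tt N694 F2459) (tt N694 F2460) (tt N1050 D1113) (tt N470 F2461) (tt N449 F2462) (tt N694 F2463) (tt N448 (iv D757)))
theorem Q696 : ∀ i, i < 696 → P i := stepQ 695 Q695 (allL N695 (tt N1002 (iv F3421)) (tt N452 F2464) (tt N1051 D1114) (tt N449 (iv D758)) (tt N798 (iv F2792)) (tt N1050 (iv F3539)) (tt N797 F2789) (tt N1048 (iv F3535)))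
theorem Q697 : ∀ i, i < 697 → P i := stepQ 696 Q696 (allL N696 (tt N455 F2465) (tt N1046 (iv F3530)) (tt N696 F2466) (tt N1052 D1115) (tt N451 F2467) (tt N696 F2468) (tt N1053 D1116) (tt N450 (iv D759)))
theorem Q698 : ∀ i, i < 698 → P i := stepQ 697 Q697 (allL N697 (tt N456 F2469) (tt N1048 (iv F3534)) (tt N1054 D1117) (tt N451 (iv D760)) (tt N803 (iv F2808)) (tt N697 F2470) (tt N1055 D1118) (tt N452 F2471))
theorem Q699 : ∀ i, i < 699 → P i := stepQ 698 Q698 (allL N698 (tt N457 F2472) (tt N1049 (iv F3536)) (tt N698 F2473) (tt N1055 (iv F3554)) (tt N1053 (iv F3547)) (tt N1056 D1119) (tt N451 (iv D761)) (tt N698 F2474))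
theorem Q700 : ∀ i, i < 700 → P i := stepQ 699 Q699 (allL N699 (tt N458 F2475) (tt N1057 D1120) (tt N452 (iv D762)) (tt N453 F2476) (tt N802 (iv F2805)) (tt N699 F2477) (tt N801 (iv F2801)) (tt N1054 (iv F3552)))
theorem Q701 : ∀ i, i < 701 → P i := stepQ 700 Q700 (allL N700 (tt N1058 D1121) (tt N453 (iv D763)) (tt N700 F2478) (tt N1057 (iv F3559)) (tt N700 F2479) (tt N1059 D1122) (tt N1060 D1123) (tt N700 F2480))
theorem Q702 : ∀ i, i < 702 → P i := stepQ 701 Q701 (allL N701 (tt N460 F2481) (tt N1060 (iv F3568)) (tt N454 F2482) (tt N801 F2800) (tt N701 F2483) (tt N807 (iv F2822)) (tt N453 (iv D764)) (tt N1061 D1124))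
theorem Q703 : ∀ i, i < 703 → P i := stepQ 702 Q702 (allL N702 (tt N461 F2484) (tt N702 F2485) (tt N1061 (iv F3572)) (tt N702 F2486) (tt N702 F2487) (tt N830 (iv F2911)) (tt N702 F2488) (tt N454 (iv D765)))
theorem Q704 : ∀ i, i < 704 → P i := stepQ 703 Q703 (allL N703 (tt N1052 (iv F3542)) (tt N1014 (iv F3450)) (tt N1062 D1125) (tt N455 (iv D766)) (tt N902 (iv F3111)) (tt N703 F2489) (tt N1063 D1126) (tt N472 F2490))
theorem Q705 : ∀ i, i < 705 → P i := stepQ 704 Q704 (allL N704 (tt N1053 (iv F3545)) (tt N1015 (iv F3452)) (tt N704 F2491) (tt N1063 (iv F3578)) (tt N457 F2492) (tt N1064 D1127) (tt N455 (iv D767)) (tt N704 F2493))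
theorem Q706 : ∀ i, i < 706 → P i := stepQ 705 Q705 (allL N705 (tt N1054 (iv F3549)) (tt N1065 D1128) (tt N456 (iv D768)) (tt N705 F2494) (tt N932 (iv F3193)) (tt N705 F2495) (tt N1066 D1129) (tt N458 F2496))
theorem Q707 : ∀ i, i < 707 → P i := stepQ 706 Q706 (allL N706 (tt N1055 (iv F3553)) (tt N1017 (iv F3456)) (tt N1066 (iv F3585)) (tt N457 F2497) (tt N871 (iv F3015)) (tt N1067 D1130) (tt N456 (iv D769)) (tt N869 (iv F3012)))
theorem Q708 : ∀ i, i < 708 → P i := stepQ 707 Q707 (allL N707 (tt N1056 (iv F3555)) (tt N1068 D1131) (tt N707 F2498) (tt N1067 (iv F3587)) (tt N1064 (iv F3580)) (tt N457 (iv D770)) (tt N707 F2499) (tt N707 F2500))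
theorem Q709 : ∀ i, i < 709 → P i := stepQ 708 Q708 (allL N708 (tt N1069 D1132) (tt N458 (iv D771)) (tt N1019 (iv F3459)) (tt N459 F2501) (tt N931 (iv F3191)) (tt N1070 D1133) (tt N929 F3186) (tt N1065 (iv F3584)))
theorem Q710 : ∀ i, i < 710 → P i := stepQ 709 Q709 (allL N709 (tt N459 (iv D772)) (tt N1058 (iv F3560)) (tt N462 F2502) (tt N1069 (iv F3591)) (tt N709 F2503) (tt N1071 D1134) (tt N1072 D1135) (tt N709 F2504))
theorem Q711 : ∀ i, i < 711 → P i := stepQ 710 Q710 (allL N710 (tt N1071 (iv F3594)) (tt N710 F2505) (tt N463 F2506) (tt N1070 (iv F3593)) (tt N710 F2507) (tt N459 (iv D773)) (tt N1073 D1136) (tt N710 F2508))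
theorem Q712 : ∀ i, i < 712 → P i := stepQ 711 Q711 (allL N711 (tt N1072 (iv F3598)) (tt N460 F2509) (tt N464 F2510) (tt N929 F3185) (tt N711 F2511) (tt N1074 D1137) (tt N459 (iv D774)) (tt N1075 D1138))
theorem Q713 : ∀ i, i < 713 → P i := stepQ 712 Q712 (allL N712 (tt N1061 (iv F3571)) (tt N1075 (iv F3606)) (tt N461 F2512) (tt N1076 D1139) (tt N712 F2513) (tt N938 (iv F3212)) (tt N712 F2514) (tt N460 (iv D775)))
theorem Q714 : ∀ i, i < 714 → P i := stepQ 713 Q713 (allL N713 (tt N463 F2515) (tt N1077 D1140) (tt N1071 (iv F3595)) (tt N1029 (iv F3486)) (tt N713 F2516) (tt N462 (iv D776)) (tt N1078 D1141) (tt N713 F2517))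
theorem Q715 : ∀ i, i < 715 → P i := stepQ 714 Q714 (allL N714 (tt N464 F2518) (tt N714 F2519) (tt N1072 (iv F3599)) (tt N1030 (iv F3489)) (tt N714 F2520) (tt N1079 D1142) (tt N462 (iv D777)) (tt N1080 D1143))
theorem Q716 : ∀ i, i < 716 → P i := stepQ 715 Q715 (allL N715 (tt N1078 (iv F3616)) (tt N467 F2521) (tt N1073 (iv F3602)) (tt N1032 (iv F3497)) (tt N715 F2522) (tt N1081 D1144) (tt N463 (iv D778)) (tt N1082 D1145))
theorem Q717 : ∀ i, i < 717 → P i := stepQ 716 Q716 (allL N716 (tt N1079 (iv F3618)) (tt N716 F2523) (tt N1074 (iv F3604)) (tt N1033 (iv F3499)) (tt N716 F2524) (tt N464 (iv D779)) (tt N1081 (iv F3627)) (tt N1083 D1146))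
theorem Q718 : ∀ i, i < 718 → P i := stepQ 717 Q717 (allL N717 (tt N1080 (iv F3620)) (tt N465 F2525) (tt N1075 (iv F3607)) (tt N689 F2526) (tt N717 F2527) (tt N1083 (iv F3634)) (tt N717 F2528) (tt N464 (iv D780)))
theorem Q719 : ∀ i, i < 719 → P i := stepQ 718 Q718 (allL N718 (tt N1077 (iv F3612)) (tt N466 (iv D781)) (tt N1084 D1147) (tt N1035 (iv F3505)) (tt N718 F2529) (tt N718 F2530) (tt N1085 D1148) (tt N718 F2531))
theorem Q720 : ∀ i, i < 720 → P i := stepQ 719 Q719 (allL N719 (tt N467 F2532) (tt N1085 (iv F3640)) (tt N719 F2533) (tt N1036 (iv F3508)) (tt N719 F2534) (tt N719 F2535) (tt N466 (iv D782)) (tt N1086 D1149))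
theorem Q721 : ∀ i, i < 721 → P i := stepQ 720 Q720 (allL N720 (tt N1086 (iv F3642)) (tt N1082 (iv F3628)) (tt N720 F2536) (tt N1087 D1150) (tt N720 F2537) (tt N720 F2538) (tt N720 F2539) (tt N467 (iv D783)))
theorem Q722 : ∀ i, i < 722 → P i := stepQ 721 Q721 (allL N721 (tt N1039 (iv F3514)) (tt N471 F2540) (tt N771 (iv F2707)) (tt N1088 D1151) (tt N469 F2541) (tt N779 (iv F2737)) (tt N819 (iv F2865)) (tt N468 (iv D784)))
theorem Q723 : ∀ i, i < 723 → P i := stepQ 722 Q722 (allL N722 (tt N472 F2542) (tt N1088 (iv F3649)) (tt N1089 D1152) (tt N471 (iv D785)) (tt N784 (iv F2751)) (tt N722 F2543) (tt N783 F2748) (tt N1052 (iv F3544)))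
theorem Q724 : ∀ i, i < 724 → P i := stepQ 723 Q723 (allL N723 (tt N1089 (iv F3650)) (tt N1090 D1153) (tt N472 (iv D786)) (tt N477 F2544) (tt N901 (iv F3108)) (tt N723 F2545) (tt N900 (iv F3105)) (tt N1062 (iv F3577)))
theorem Q725 : ∀ i, i < 725 → P i := stepQ 724 Q724 (allL N724 (tt N724 F2546) (tt N475 F2547) (tt N1091 D1154) (tt N473 (iv D787)) (tt N724 F2548) (tt N769 (iv F2698)) (tt N1092 D1155) (tt N724 F2549))
theorem Q726 : ∀ i, i < 726 → P i := stepQ 725 Q725 (allL N725 (tt N725 F2550) (tt N476 F2551) (tt N773 (iv F2713)) (tt N1092 (iv F3659)) (tt N474 F2552) (tt N725 F2553) (tt N473 (iv D788)) (tt N725 F2554))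
theorem Q727 : ∀ i, i < 727 → P i := stepQ 726 Q726 (allL N726 (tt N477 F2555) (tt N1093 D1156) (tt N475 (iv D789)) (tt N1089 (iv F3651)) (tt N726 F2556) (tt N726 F2557) (tt N1094 D1157) (tt N726 F2558))
theorem Q728 : ∀ i, i < 728 → P i := stepQ 727 Q727 (allL N727 (tt N478 F2559) (tt N1092 (iv F3658)) (tt N1094 (iv F3665)) (tt N476 F2560) (tt N727 F2561) (tt N820 (iv F2870)) (tt N475 (iv D790)) (tt N1095 D1158))
theorem Q729 : ∀ i, i < 729 → P i := stepQ 728 Q728 (allL N728 (tt N1096 D1159) (tt N477 (iv D791)) (tt N728 F2562) (tt N1090 (iv F3653)) (tt N728 F2563) (tt N1097 D1160) (tt N1098 D1161) (tt N728 F2564))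
theorem Q730 : ∀ i, i < 730 → P i := stepQ 729 Q729 (allL N729 (tt N1094 (iv F3664)) (tt N1098 (iv F3678)) (tt N478 F2565) (tt N900 F3104) (tt N729 F2566) (tt N906 (iv F3123)) (tt N477 (iv D792)) (tt N1099 D1162))
theorem Q731 : ∀ i, i < 731 → P i := stepQ 730 Q730 (allL N730 (tt N1095 (iv F3667)) (tt N730 F2567) (tt N1099 (iv F3681)) (tt N730 F2568) (tt N730 F2569) (tt N947 (iv F3250)) (tt N730 F2570) (tt N478 (iv D793)))
theorem Q732 : ∀ i, i < 732 → P i := stepQ 731 Q731 (allL N731 (tt N1100 D1163) (tt N479 (iv D794)) (tt N1101 D1164) (tt N731 F2571) (tt N731 F2572) (tt N481 F2573) (tt N731 F2574) (tt N1102 D1165))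
theorem Q733 : ∀ i, i < 733 → P i := stepQ 732 Q732 (allL N732 (tt N732 F2575) (tt N1102 (iv F3693)) (tt N732 F2576) (tt N1103 D1166) (tt N732 F2577) (tt N480 F2578) (tt N1104 D1167) (tt N479 (iv D795)))
theorem Q734 : ∀ i, i < 734 → P i := stepQ 733 Q733 (allL N733 (tt N733 F2579) (tt N483 F2580) (tt N1105 D1168) (tt N480 (iv D796)) (tt N1106 D1169) (tt N1103 (iv F3697)) (tt N743 (iv F2611)) (tt N733 F2581))
theorem Q735 : ∀ i, i < 735 → P i := stepQ 734 Q734 (allL N734 (tt N481 (iv D797)) (tt N544 F2582) (tt N1107 D1170) (tt N734 F2583) (tt N734 F2584) (tt N1100 (iv F3687)) (tt N767 (iv F2690)) (tt N1108 D1171))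
theorem Q736 : ∀ i, i < 736 → P i := stepQ 735 Q735 (allL N735 (tt N1107 (iv F3713)) (tt N490 F2585) (tt N481 (iv D798)) (tt N1109 D1172) (tt N735 F2586) (tt N1101 (iv F3691)) (tt N768 (iv F2694)) (tt N1110 D1173))
theorem Q737 : ∀ i, i < 737 → P i := stepQ 736 Q736 (allL N736 (tt N1108 (iv F3715)) (tt N482 F2587) (tt N1110 (iv F3721)) (tt N1111 D1174) (tt N736 F2588) (tt N1102 (iv F3695)) (tt N1112 D1175) (tt N481 (iv D799)))
theorem Q738 : ∀ i, i < 738 → P i := stepQ 737 Q737 (allL N737 (tt N547 F2589) (tt N1111 (iv F3723)) (tt N1113 D1176) (tt N482 (iv D800)) (tt N1114 D1177) (tt N483 F2590) (tt N1115 D1178) (tt N737 F2591))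
theorem Q739 : ∀ i, i < 739 → P i := stepQ 738 Q738 (allL N738 (tt N548 F2592) (tt N1112 (iv F3725)) (tt N493 F2593) (tt N1115 (iv F3736)) (tt N738 F2594) (tt N748 (iv F2626)) (tt N482 (iv D801)) (tt N760 (iv F2665)))
theorem Q740 : ∀ i, i < 740 → P i := stepQ 739 Q739 (allL N739 (tt N549 F2595) (tt N1116 D1179) (tt N483 (iv D802)) (tt N494 F2596) (tt N1117 D1180) (tt N1113 (iv F3729)) (tt N749 (iv F2629)) (tt N739 F2597))
theorem Q741 : ∀ i, i < 741 → P i := stepQ 740 Q740 (allL N740 (tt N550 F2598) (tt N1106 (iv F3708)) (tt N1117 (iv F3740)) (tt N740 F2599) (tt N483 (iv D803)) (tt N1114 (iv F3733)) (tt N750 (iv F2633)) (tt N740 F2600))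
theorem Q742 : ∀ i, i < 742 → P i := stepQ 741 Q741 (allL N741 (tt N1118 D1181) (tt N484 (iv D804)) (tt N1119 D1182) (tt N500 F2601) (tt N741 F2602) (tt N486 F2603) (tt N741 F2604) (tt N1120 D1183))
theorem Q743 : ∀ i, i < 743 → P i := stepQ 742 Q742 (allL N742 (tt N742 F2605) (tt N1120 (iv F3752)) (tt N742 F2606) (tt N1121 D1184) (tt N742 F2607) (tt N485 F2608) (tt N1122 D1185) (tt N484 (iv D805)))
theorem Q744 : ∀ i, i < 744 → P i := stepQ 743 Q743 (allL N743 (tt N743 F2609) (tt N488 F2610) (tt N1123 D1186) (tt N485 (iv D806)) (tt N1124 D1187) (tt N1121 (iv F3756)) (tt N733 F2611) (tt N502 F2612))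
theorem Q745 : ∀ i, i < 745 → P i := stepQ 744 Q744 (allL N744 (tt N486 (iv D807)) (tt N551 F2613) (tt N1125 D1188) (tt N503 F2614) (tt N744 F2615) (tt N1118 (iv F3745)) (tt N489 F2616) (tt N1126 D1189))
theorem Q746 : ∀ i, i < 746 → P i := stepQ 745 Q745 (allL N745 (tt N1125 (iv F3772)) (tt N768 (iv F2691)) (tt N486 (iv D808)) (tt N1127 D1190) (tt N745 F2617) (tt N1119 (iv F3750)) (tt N490 F2618) (tt N1128 D1191))
theorem Q747 : ∀ i, i < 747 → P i := stepQ 746 Q746 (allL N746 (tt N1126 (iv F3775)) (tt N487 F2619) (tt N1128 (iv F3782)) (tt N1129 D1192) (tt N746 F2620) (tt N1120 (iv F3754)) (tt N1130 D1193) (tt N486 (iv D809)))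
theorem Q748 : ∀ i, i < 748 → P i := stepQ 747 Q747 (allL N747 (tt N554 F2621) (tt N1129 (iv F3784)) (tt N1131 D1194) (tt N487 (iv D810)) (tt N1132 D1195) (tt N488 F2622) (tt N1133 D1196) (tt N506 F2623))
theorem Q749 : ∀ i, i < 749 → P i := stepQ 748 Q748 (allL N748 (tt N555 F2624) (tt N1130 (iv F3786)) (tt N760 (iv F2662)) (tt N1133 (iv F3797)) (tt N748 F2625) (tt N738 F2626) (tt N487 (iv D811)) (tt N493 F2627))
theorem Q750 : ∀ i, i < 750 → P i := stepQ 749 Q749 (allL N749 (tt N556 F2628) (tt N1134 D1197) (tt N488 (iv D812)) (tt N763 (iv F2673)) (tt N1135 D1198) (tt N1131 (iv F3790)) (tt N739 F2629) (tt N508 F2630))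
theorem Q751 : ∀ i, i < 751 → P i := stepQ 750 Q750 (allL N750 (tt N557 F2631) (tt N1124 (iv F3768)) (tt N1135 (iv F3802)) (tt N750 F2632) (tt N488 (iv D813)) (tt N1132 (iv F3794)) (tt N740 F2633) (tt N509 F2634))
theorem Q752 : ∀ i, i < 752 → P i := stepQ 751 Q751 (allL N751 (tt N490 F2635) (tt N1136 D1199) (tt N489 (iv D814)) (tt N1137 D1200) (tt N751 F2636) (tt N751 F2637) (tt N1125 (iv F3774)) (tt N1138 D1201))
theorem Q753 : ∀ i, i < 753 → P i := stepQ 752 Q752 (allL N752 (tt N491 F2638) (tt N559 F2639) (tt N1138 (iv F3811)) (tt N1139 D1202) (tt N752 F2640) (tt N752 F2641) (tt N1140 D1203) (tt N489 (iv D815)))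
theorem Q754 : ∀ i, i < 754 → P i := stepQ 753 Q753 (allL N753 (tt N1137 (iv F3807)) (tt N1109 (iv F3718)) (tt N512 F2642) (tt N490 (iv D816)) (tt N1141 D1204) (tt N753 F2643) (tt N1127 (iv F3780)) (tt N1142 D1205))
theorem Q755 : ∀ i, i < 755 → P i := stepQ 754 Q754 (allL N754 (tt N1138 (iv F3810)) (tt N1110 (iv F3720)) (tt N491 F2644) (tt N1143 D1206) (tt N754 F2645) (tt N754 F2646) (tt N1144 D1207) (tt N490 (iv D817)))
theorem Q756 : ∀ i, i < 756 → P i := stepQ 755 Q755 (allL N755 (tt N1139 (iv F3814)) (tt N492 F2647) (tt N1145 D1208) (tt N491 (iv D818)) (tt N1146 D1209) (tt N755 F2648) (tt N1147 D1210) (tt N514 F2649))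
theorem Q757 : ∀ i, i < 757 → P i := stepQ 756 Q756 (allL N756 (tt N1140 (iv F3818)) (tt N493 F2650) (tt N1144 (iv F3828)) (tt N1147 (iv F3837)) (tt N756 F2651) (tt N1148 D1211) (tt N491 (iv D819)) (tt N1130 (iv F3788)))
theorem Q758 : ∀ i, i < 758 → P i := stepQ 757 Q757 (allL N757 (tt N564 F2652) (tt N1149 D1212) (tt N492 (iv D820)) (tt N1113 (iv F3728)) (tt N1150 D1213) (tt N494 F2653) (tt N1151 D1214) (tt N516 F2654))
theorem Q759 : ∀ i, i < 759 → P i := stepQ 758 Q758 (allL N758 (tt N565 F2655) (tt N1146 (iv F3832)) (tt N1150 (iv F3842)) (tt N758 F2656) (tt N492 (iv D821)) (tt N495 F2657) (tt N1152 D1215) (tt N517 F2658))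
theorem Q760 : ∀ i, i < 760 → P i := stepQ 759 Q759 (allL N759 (tt N566 F2659) (tt N1147 (iv F3836)) (tt N1151 (iv F3846)) (tt N493 F2660) (tt N1152 (iv F3849)) (tt N1153 D1216) (tt N492 (iv D822)) (tt N1154 D1217))
theorem Q761 : ∀ i, i < 761 → P i := stepQ 760 Q760 (allL N760 (tt N567 F2661) (tt N1155 D1218) (tt N748 F2662) (tt N1153 (iv F3852)) (tt N760 F2663) (tt N493 (iv D823)) (tt N497 F2664) (tt N738 F2665))
theorem Q762 : ∀ i, i < 762 → P i := stepQ 761 Q761 (allL N761 (tt N1156 D1219) (tt N494 (iv D824)) (tt N761 F2666) (tt N1116 (iv F3737)) (tt N1157 D1220) (tt N1158 D1221) (tt N1159 D1222) (tt N519 F2667))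
theorem Q763 : ∀ i, i < 763 → P i := stepQ 762 Q762 (allL N762 (tt N569 F2668) (tt N1157 (iv F3863)) (tt N495 F2669) (tt N1160 D1223) (tt N494 (iv D825)) (tt N1150 (iv F3843)) (tt N1161 D1224) (tt N520 F2670))
theorem Q764 : ∀ i, i < 764 → P i := stepQ 763 Q763 (allL N763 (tt N570 F2671) (tt N1159 (iv F3868)) (tt N496 F2672) (tt N749 F2673) (tt N1161 (iv F3876)) (tt N1162 D1225) (tt N494 (iv D826)) (tt N763 F2674))
theorem Q765 : ∀ i, i < 765 → P i := stepQ 764 Q764 (allL N764 (tt N571 F2675) (tt N764 F2676) (tt N1161 (iv F3875)) (tt N764 F2677) (tt N496 F2678) (tt N1163 D1226) (tt N495 (iv D827)) (tt N764 F2679))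
theorem Q766 : ∀ i, i < 766 → P i := stepQ 765 Q765 (allL N765 (tt N572 F2680) (tt N1164 D1227) (tt N1162 (iv F3879)) (tt N497 F2681) (tt N1163 (iv F3884)) (tt N496 (iv D828)) (tt N1153 (iv F3853)) (tt N765 F2682))
theorem Q767 : ∀ i, i < 767 → P i := stepQ 766 Q766 (allL N766 (tt N1165 D1228) (tt N497 (iv D829)) (tt N1166 D1229) (tt N1164 (iv F3886)) (tt N766 F2683) (tt N766 F2684) (tt N1155 (iv F3858)) (tt N498 F2685))
theorem Q768 : ∀ i, i < 768 → P i := stepQ 767 Q767 (allL N767 (tt N498 (iv D830)) (tt N574 F2686) (tt N1167 D1230) (tt N767 F2687) (tt N767 F2688) (tt N767 F2689) (tt N734 F2690) (tt N1165 (iv F3892)))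
theorem Q769 : ∀ i, i < 769 → P i := stepQ 768 Q768 (allL N768 (tt N1167 (iv F3897)) (tt N745 F2691) (tt N498 (iv D831)) (tt N1168 D1231) (tt N768 F2692) (tt N768 F2693) (tt N735 F2694) (tt N1166 (iv F3896)))
theorem Q770 : ∀ i, i < 770 → P i := stepQ 769 Q769 (allL N769 (tt N769 F2695) (tt N769 F2696) (tt N1169 D1232) (tt N499 (iv D832)) (tt N769 F2697) (tt N724 F2698) (tt N769 F2699) (tt N769 F2700))
theorem Q771 : ∀ i, i < 771 → P i := stepQ 770 Q770 (allL N770 (tt N500 (iv D833)) (tt N770 F2701) (tt N681 F2702) (tt N1118 (iv F3743)) (tt N521 F2703) (tt N503 F2704) (tt N770 F2705) (tt N1170 D1233))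
theorem Q772 : ∀ i, i < 772 → P i := stepQ 771 Q771 (allL N771 (tt N1170 (iv F3911)) (tt N501 F2706) (tt N721 F2707) (tt N1171 D1234) (tt N522 F2708) (tt N505 F2709) (tt N1172 D1235) (tt N500 (iv D834)))
theorem Q773 : ∀ i, i < 773 → P i := stepQ 772 Q772 (allL N772 (tt N772 F2710) (tt N1171 (iv F3916)) (tt N1173 D1236) (tt N501 (iv D835)) (tt N1174 D1237) (tt N502 F2711) (tt N1175 D1238) (tt N1121 (iv F3757)))
theorem Q774 : ∀ i, i < 774 → P i := stepQ 773 Q773 (allL N773 (tt N773 F2712) (tt N1172 (iv F3918)) (tt N725 F2713) (tt N1175 (iv F3929)) (tt N524 F2714) (tt N773 F2715) (tt N501 (iv D836)) (tt N773 F2716))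
theorem Q775 : ∀ i, i < 775 → P i := stepQ 774 Q774 (allL N774 (tt N774 F2717) (tt N1176 D1239) (tt N502 (iv D837)) (tt N1169 (iv F3906)) (tt N1177 D1240) (tt N1173 (iv F3924)) (tt N774 F2718) (tt N1123 (iv F3766)))
theorem Q776 : ∀ i, i < 776 → P i := stepQ 775 Q775 (allL N775 (tt N775 F2719) (tt N509 F2720) (tt N1177 (iv F3934)) (tt N525 F2721) (tt N502 (iv D838)) (tt N1174 (iv F3927)) (tt N775 F2722) (tt N1124 (iv F3771)))
theorem Q777 : ∀ i, i < 777 → P i := stepQ 776 Q776 (allL N776 (tt N504 F2723) (tt N1178 D1241) (tt N503 (iv D839)) (tt N1179 D1242) (tt N526 F2724) (tt N681 F2725) (tt N510 F2726) (tt N1180 D1243))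
theorem Q778 : ∀ i, i < 778 → P i := stepQ 777 Q777 (allL N777 (tt N505 F2727) (tt N577 F2728) (tt N1180 (iv F3947)) (tt N1181 D1244) (tt N527 F2729) (tt N1170 (iv F3915)) (tt N1182 D1245) (tt N503 (iv D840)))
theorem Q779 : ∀ i, i < 779 → P i := stepQ 778 Q778 (allL N778 (tt N1179 (iv F3942)) (tt N778 F2730) (tt N1127 (iv F3778)) (tt N504 (iv D841)) (tt N692 F2731) (tt N691 F2732) (tt N512 F2733) (tt N1183 D1246))
theorem Q780 : ∀ i, i < 780 → P i := stepQ 779 Q779 (allL N779 (tt N1180 (iv F3946)) (tt N779 F2734) (tt N505 F2735) (tt N1184 D1247) (tt N528 F2736) (tt N721 F2737) (tt N1185 D1248) (tt N504 (iv D842)))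
theorem Q781 : ∀ i, i < 781 → P i := stepQ 780 Q780 (allL N780 (tt N1181 (iv F3950)) (tt N506 F2738) (tt N1186 D1249) (tt N505 (iv D843)) (tt N1187 D1250) (tt N1171 (iv F3917)) (tt N1188 D1251) (tt N1129 (iv F3785)))
theorem Q782 : ∀ i, i < 782 → P i := stepQ 781 Q781 (allL N781 (tt N1182 (iv F3952)) (tt N507 F2739) (tt N1185 (iv F3962)) (tt N1188 (iv F3969)) (tt N530 F2740) (tt N1189 D1252) (tt N505 (iv D844)) (tt N515 F2741))
theorem Q783 : ∀ i, i < 783 → P i := stepQ 782 Q782 (allL N782 (tt N582 F2742) (tt N1190 D1253) (tt N506 (iv D845)) (tt N782 F2743) (tt N1191 D1254) (tt N508 F2744) (tt N1192 D1255) (tt N1131 (iv F3791)))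
theorem Q784 : ∀ i, i < 784 → P i := stepQ 783 Q783 (allL N783 (tt N583 F2745) (tt N1187 (iv F3965)) (tt N1191 (iv F3976)) (tt N531 F2746) (tt N506 (iv D846)) (tt N509 F2747) (tt N722 (iv F2748)) (tt N1132 (iv F3795)))
theorem Q785 : ∀ i, i < 785 → P i := stepQ 784 Q784 (allL N784 (tt N584 F2749) (tt N1188 (iv F3968)) (tt N1192 (iv F3981)) (tt N507 F2750) (tt N722 F2751) (tt N784 F2752) (tt N506 (iv D847)) (tt N1193 D1256))
theorem Q786 : ∀ i, i < 786 → P i := stepQ 785 Q785 (allL N785 (tt N1194 D1257) (tt N508 (iv D848)) (tt N1176 (iv F3931)) (tt N785 F2753) (tt N1195 D1258) (tt N1196 D1259) (tt N785 F2754) (tt N1134 (iv F3800)))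
theorem Q787 : ∀ i, i < 787 → P i := stepQ 786 Q786 (allL N786 (tt N586 F2755) (tt N1195 (iv F3992)) (tt N509 F2756) (tt N1197 D1260) (tt N508 (iv D849)) (tt N1191 (iv F3977)) (tt N786 F2757) (tt N1135 (iv F3804)))
theorem Q788 : ∀ i, i < 788 → P i := stepQ 787 Q787 (allL N787 (tt N787 F2758) (tt N510 (iv D850)) (tt N587 F2759) (tt N1198 D1261) (tt N533 F2760) (tt N1199 D1262) (tt N1178 (iv F3941)) (tt N1200 D1263))
theorem Q789 : ∀ i, i < 789 → P i := stepQ 788 Q788 (allL N788 (tt N512 F2761) (tt N1198 (iv F4001)) (tt N1137 (iv F3808)) (tt N510 (iv D851)) (tt N1201 D1264) (tt N788 F2762) (tt N1179 (iv F3945)) (tt N1202 D1265))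
theorem Q790 : ∀ i, i < 790 → P i := stepQ 789 Q789 (allL N789 (tt N513 F2763) (tt N1200 (iv F4007)) (tt N511 F2764) (tt N1203 D1266) (tt N535 F2765) (tt N789 F2766) (tt N1204 D1267) (tt N510 (iv D852)))
theorem Q791 : ∀ i, i < 791 → P i := stepQ 790 Q790 (allL N790 (tt N514 F2767) (tt N590 F2768) (tt N1205 D1268) (tt N511 (iv D853)) (tt N1206 D1269) (tt N790 F2769) (tt N1207 D1270) (tt N1139 (iv F3817)))
theorem Q792 : ∀ i, i < 792 → P i := stepQ 791 Q791 (allL N791 (tt N515 F2770) (tt N591 F2771) (tt N1204 (iv F4020)) (tt N1207 (iv F4031)) (tt N537 F2772) (tt N1208 D1271) (tt N511 (iv D854)) (tt N1182 (iv F3955)))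
theorem Q793 : ∀ i, i < 793 → P i := stepQ 792 Q792 (allL N792 (tt N1201 (iv F4010)) (tt N792 F2773) (tt N1141 (iv F3821)) (tt N538 F2774) (tt N512 (iv D855)) (tt N792 F2775) (tt N692 F2776) (tt N1209 D1272))
theorem Q794 : ∀ i, i < 794 → P i := stepQ 793 Q793 (allL N793 (tt N1202 (iv F4014)) (tt N793 F2777) (tt N1142 (iv F3825)) (tt N1210 D1273) (tt N1209 (iv F4038)) (tt N793 F2778) (tt N1211 D1274) (tt N512 (iv D856)))
theorem Q795 : ∀ i, i < 795 → P i := stepQ 794 Q794 (allL N794 (tt N1203 (iv F4016)) (tt N794 F2779) (tt N1212 D1275) (tt N513 (iv D857)) (tt N794 F2780) (tt N794 F2781) (tt N1213 D1276) (tt N1210 (iv F4043)))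
theorem Q796 : ∀ i, i < 796 → P i := stepQ 795 Q795 (allL N795 (tt N1204 (iv F4019)) (tt N795 F2782) (tt N515 F2783) (tt N1213 (iv F4049)) (tt N539 F2784) (tt N1214 D1277) (tt N513 (iv D858)) (tt N1185 (iv F3964)))
theorem Q797 : ∀ i, i < 797 → P i := stepQ 796 Q796 (allL N796 (tt N1205 (iv F4022)) (tt N1215 D1278) (tt N514 (iv D859)) (tt N1212 (iv F4045)) (tt N1216 D1279) (tt N796 F2785) (tt N1217 D1280) (tt N1145 (iv F3831)))
theorem Q798 : ∀ i, i < 798 → P i := stepQ 797 Q797 (allL N797 (tt N1206 (iv F4024)) (tt N517 F2786) (tt N1216 (iv F4055)) (tt N540 F2787) (tt N514 (iv D860)) (tt N797 F2788) (tt N695 (iv F2789)) (tt N1146 (iv F3835)))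
theorem Q799 : ∀ i, i < 799 → P i := stepQ 798 Q798 (allL N798 (tt N1207 (iv F4029)) (tt N518 F2790) (tt N1217 (iv F4059)) (tt N515 F2791) (tt N695 F2792) (tt N1218 D1281) (tt N514 (iv D861)) (tt N1219 D1282))
theorem Q800 : ∀ i, i < 800 → P i := stepQ 799 Q799 (allL N799 (tt N1208 (iv F4033)) (tt N799 F2793) (tt N1214 (iv F4051)) (tt N1218 (iv F4062)) (tt N541 F2794) (tt N515 (iv D862)) (tt N799 F2795) (tt N1189 (iv F3973)))
theorem Q801 : ∀ i, i < 801 → P i := stepQ 800 Q800 (allL N800 (tt N1220 D1283) (tt N516 (iv D863)) (tt N1215 (iv F4054)) (tt N800 F2796) (tt N1221 D1284) (tt N1222 D1285) (tt N1223 D1286) (tt N1149 (iv F3840)))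
theorem Q802 : ∀ i, i < 802 → P i := stepQ 801 Q801 (allL N801 (tt N601 F2797) (tt N1221 (iv F4069)) (tt N517 F2798) (tt N701 (iv F2800)) (tt N516 (iv D864)) (tt N520 F2799) (tt N699 F2801) (tt N1150 (iv F3844)))
theorem Q803 : ∀ i, i < 803 → P i := stepQ 802 Q802 (allL N802 (tt N602 F2802) (tt N1223 (iv F4074)) (tt N518 F2803) (tt N802 F2804) (tt N699 F2805) (tt N802 F2806) (tt N516 (iv D865)) (tt N1224 D1287))
theorem Q804 : ∀ i, i < 804 → P i := stepQ 803 Q803 (allL N803 (tt N603 F2807) (tt N1219 (iv F4065)) (tt N1224 (iv F4078)) (tt N1193 (iv F3986)) (tt N697 F2808) (tt N803 F2809) (tt N1154 (iv F3856)) (tt N518 (iv D866)))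
theorem Q805 : ∀ i, i < 805 → P i := stepQ 804 Q804 (allL N804 (tt N519 (iv D867)) (tt N604 F2810) (tt N804 F2811) (tt N804 F2812) (tt N1225 D1288) (tt N1226 D1289) (tt N804 F2813) (tt N1156 (iv F3862)))
theorem Q806 : ∀ i, i < 806 → P i := stepQ 805 Q805 (allL N805 (tt N1225 (iv F4081)) (tt N520 F2814) (tt N805 F2815) (tt N1227 D1290) (tt N519 (iv D868)) (tt N1228 D1291) (tt N805 F2816) (tt N1157 (iv F3865)))
theorem Q807 : ∀ i, i < 807 → P i := stepQ 806 Q806 (allL N806 (tt N1226 (iv F4085)) (tt N1222 (iv F4072)) (tt N806 F2817) (tt N806 F2818) (tt N1228 (iv F4092)) (tt N519 (iv D869)) (tt N1229 D1292) (tt N1158 (iv F3867)))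
theorem Q808 : ∀ i, i < 808 → P i := stepQ 807 Q807 (allL N807 (tt N607 F2819) (tt N1227 (iv F4088)) (tt N543 F2820) (tt N520 (iv D870)) (tt N807 F2821) (tt N701 F2822) (tt N807 F2823) (tt N1230 D1293))
theorem Q809 : ∀ i, i < 809 → P i := stepQ 808 Q808 (allL N808 (tt N522 F2824) (tt N808 F2825) (tt N682 F2826) (tt N1231 D1294) (tt N1170 (iv F3914)) (tt N527 F2827) (tt N1232 D1295) (tt N521 (iv D871)))
theorem Q810 : ∀ i, i < 810 → P i := stepQ 809 Q809 (allL N809 (tt N1231 (iv F4100)) (tt N523 F2828) (tt N1233 D1296) (tt N522 (iv D872)) (tt N1234 D1297) (tt N529 F2829) (tt N1235 D1298) (tt N809 F2830))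
theorem Q811 : ∀ i, i < 811 → P i := stepQ 810 Q810 (allL N810 (tt N1232 (iv F4104)) (tt N524 F2831) (tt N529 F2832) (tt N1235 (iv F4118)) (tt N1172 (iv F3920)) (tt N1233 (iv F4110)) (tt N522 (iv D873)) (tt N810 F2833))
theorem Q812 : ∀ i, i < 812 → P i := stepQ 811 Q811 (allL N811 (tt N811 F2834) (tt N1234 (iv F4113)) (tt N811 F2835) (tt N1174 (iv F3926)) (tt N523 (iv D874)) (tt N525 F2836) (tt N1236 D1299) (tt N811 F2837))
theorem Q813 : ∀ i, i < 813 → P i := stepQ 812 Q812 (allL N812 (tt N812 F2838) (tt N1235 (iv F4116)) (tt N812 F2839) (tt N524 F2840) (tt N1236 (iv F4123)) (tt N812 F2841) (tt N523 (iv D875)) (tt N1237 D1300))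
theorem Q814 : ∀ i, i < 814 → P i := stepQ 813 Q813 (allL N813 (tt N813 F2842) (tt N526 (iv D876)) (tt N608 F2843) (tt N620 F2844) (tt N1178 (iv F3939)) (tt N619 F2845) (tt N533 F2846) (tt N1238 D1301))
theorem Q815 : ∀ i, i < 815 → P i := stepQ 814 Q814 (allL N814 (tt N528 F2847) (tt N1238 (iv F4132)) (tt N527 F2848) (tt N1239 D1302) (tt N1180 (iv F3948)) (tt N682 F2849) (tt N1240 D1303) (tt N526 (iv D877)))
theorem Q816 : ∀ i, i < 816 → P i := stepQ 815 Q815 (allL N815 (tt N529 F2850) (tt N611 F2851) (tt N1232 (iv F4106)) (tt N527 (iv D878)) (tt N1241 D1304) (tt N1231 (iv F4102)) (tt N682 (iv F2853)) (tt N815 F2852))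
theorem Q817 : ∀ i, i < 817 → P i := stepQ 816 Q816 (allL N816 (tt N530 F2854) (tt N612 F2855) (tt N1240 (iv F4139)) (tt N682 F2856) (tt N1182 (iv F3954)) (tt N1239 (iv F4136)) (tt N527 (iv D879)) (tt N537 F2857))
theorem Q818 : ∀ i, i < 818 → P i := stepQ 817 Q817 (allL N817 (tt N1239 (iv F4135)) (tt N817 F2858) (tt N1235 (iv F4117)) (tt N528 (iv D880)) (tt N1189 (iv F3972)) (tt N530 F2859) (tt N1233 F4112) (tt N541 F2860))
theorem Q819 : ∀ i, i < 819 → P i := stepQ 818 Q818 (allL N818 (tt N1240 (iv F4138)) (tt N818 F2861) (tt N530 F2862) (tt N1233 (iv F4109)) (tt N1185 (iv F3963)) (tt N1235 (iv F4119)) (tt N528 (iv D881)) (tt N539 F2863))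
theorem Q820 : ∀ i, i < 820 → P i := stepQ 819 Q819 (allL N819 (tt N1241 (iv F4141)) (tt N531 F2864) (tt N1172 (iv F3919)) (tt N1187 (iv F3966)) (tt N529 (iv D882)) (tt N1234 (iv F4114)) (tt N721 F2865) (tt N819 F2866))
theorem Q821 : ∀ i, i < 821 → P i := stepQ 820 Q820 (allL N820 (tt N618 F2867) (tt N820 F2868) (tt N1197 (iv F3996)) (tt N532 (iv D883)) (tt N820 F2869) (tt N727 F2870) (tt N820 F2871) (tt N1242 D1305))
theorem Q822 : ∀ i, i < 822 → P i := stepQ 821 Q821 (allL N821 (tt N821 F2872) (tt N534 F2873) (tt N1243 D1306) (tt N533 (iv D884)) (tt N1244 D1307) (tt N1245 D1308) (tt N620 F2874) (tt N821 F2875))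
theorem Q823 : ∀ i, i < 823 → P i := stepQ 822 Q822 (allL N822 (tt N822 F2876) (tt N822 F2877) (tt N620 F2878) (tt N1245 (iv F4163)) (tt N1199 (iv F4005)) (tt N533 (iv D885)) (tt N1243 (iv F4153)) (tt N1246 D1309))
theorem Q824 : ∀ i, i < 824 → P i := stepQ 823 Q823 (allL N823 (tt N823 F2879) (tt N535 F2880) (tt N621 F2881) (tt N823 F2882) (tt N1200 (iv F4009)) (tt N1246 (iv F4170)) (tt N1247 D1310) (tt N533 (iv D886)))
theorem Q825 : ∀ i, i < 825 → P i := stepQ 824 Q824 (allL N824 (tt N538 F2883) (tt N1244 (iv F4157)) (tt N824 F2884) (tt N1201 (iv F4011)) (tt N534 (iv D887)) (tt N824 F2885) (tt N654 F2886) (tt N824 F2887))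
theorem Q826 : ∀ i, i < 826 → P i := stepQ 825 Q825 (allL N825 (tt N539 F2888) (tt N1247 (iv F4173)) (tt N537 F2889) (tt N825 F2890) (tt N1204 (iv F4021)) (tt N1248 D1311) (tt N535 (iv D888)) (tt N1240 (iv F4140)))
theorem Q827 : ∀ i, i < 827 → P i := stepQ 826 Q826 (allL N826 (tt N540 F2891) (tt N626 F2892) (tt N826 F2893) (tt N1206 (iv F4026)) (tt N536 (iv D889)) (tt N826 F2894) (tt N655 F2895) (tt N826 F2896))
theorem Q828 : ∀ i, i < 828 → P i := stepQ 827 Q827 (allL N827 (tt N541 F2897) (tt N1249 D1312) (tt N1248 (iv F4179)) (tt N683 F2898) (tt N1208 (iv F4034)) (tt N537 (iv D890)) (tt N827 F2899) (tt N1239 (iv F4137)))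
theorem Q829 : ∀ i, i < 829 → P i := stepQ 828 Q828 (allL N828 (tt N1248 (iv F4177)) (tt N1237 (iv F4126)) (tt N541 F2900) (tt N828 F2901) (tt N1214 (iv F4052)) (tt N539 (iv D891)) (tt N828 F2902) (tt N1235 F4120))
theorem Q830 : ∀ i, i < 830 → P i := stepQ 829 Q829 (allL N829 (tt N829 F2903) (tt N543 F2904) (tt N1250 D1313) (tt N542 (iv D892)) (tt N829 F2905) (tt N829 F2906) (tt N829 F2907) (tt N1251 D1314))
theorem Q831 : ∀ i, i < 831 → P i := stepQ 830 Q830 (allL N830 (tt N628 F2908) (tt N1251 (iv F4193)) (tt N1230 (iv F4097)) (tt N830 F2909) (tt N830 F2910) (tt N702 F2911) (tt N1252 D1315) (tt N543 (iv D893)))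
theorem Q832 : ∀ i, i < 832 → P i := stepQ 831 Q831 (allL N831 (tt N545 F2912) (tt N1253 D1316) (tt N544 (iv D894)) (tt N1254 D1317) (tt N831 F2913) (tt N831 F2914) (tt N884 (iv F3054)) (tt N1255 D1318))
theorem Q833 : ∀ i, i < 833 → P i := stepQ 832 Q832 (allL N832 (tt N546 F2915) (tt N1108 (iv F3716)) (tt N1255 (iv F4208)) (tt N1256 D1319) (tt N832 F2916) (tt N832 F2917) (tt N1257 D1320) (tt N544 (iv D895)))
theorem Q834 : ∀ i, i < 834 → P i := stepQ 833 Q833 (allL N833 (tt N1254 (iv F4204)) (tt N560 F2918) (tt N833 F2919) (tt N545 (iv D896)) (tt N1258 D1321) (tt N833 F2920) (tt N885 (iv F3058)) (tt N1259 D1322))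
theorem Q835 : ∀ i, i < 835 → P i := stepQ 834 Q834 (allL N834 (tt N1255 (iv F4207)) (tt N561 F2921) (tt N546 F2922) (tt N1260 D1323) (tt N834 F2923) (tt N834 F2924) (tt N1261 D1324) (tt N545 (iv D897)))
theorem Q836 : ∀ i, i < 836 → P i := stepQ 835 Q835 (allL N835 (tt N1256 (iv F4211)) (tt N547 F2925) (tt N1262 D1325) (tt N546 (iv D898)) (tt N1263 D1326) (tt N835 F2926) (tt N1264 D1327) (tt N835 F2927))
theorem Q837 : ∀ i, i < 837 → P i := stepQ 836 Q836 (allL N836 (tt N1257 (iv F4214)) (tt N548 F2928) (tt N1261 (iv F4226)) (tt N1264 (iv F4235)) (tt N836 F2929) (tt N1265 D1328) (tt N546 (iv D899)) (tt N872 (iv F3019)))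
theorem Q838 : ∀ i, i < 838 → P i := stepQ 837 Q837 (allL N837 (tt N1113 (iv F3727)) (tt N1266 D1329) (tt N547 (iv D900)) (tt N564 F2930) (tt N1267 D1330) (tt N549 F2931) (tt N1268 D1331) (tt N837 F2932))
theorem Q839 : ∀ i, i < 839 → P i := stepQ 838 Q838 (allL N838 (tt N1114 (iv F3731)) (tt N1263 (iv F4230)) (tt N1267 (iv F4240)) (tt N838 F2933) (tt N547 (iv D901)) (tt N550 F2934) (tt N1269 D1332) (tt N838 F2935))
theorem Q840 : ∀ i, i < 840 → P i := stepQ 839 Q839 (allL N839 (tt N1115 (iv F3735)) (tt N1264 (iv F4234)) (tt N1268 (iv F4243)) (tt N548 F2936) (tt N1269 (iv F4246)) (tt N850 (iv F2967)) (tt N547 (iv D902)) (tt N1270 D1333))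
theorem Q841 : ∀ i, i < 841 → P i := stepQ 840 Q840 (allL N840 (tt N1271 D1334) (tt N549 (iv D903)) (tt N840 F2937) (tt N568 F2938) (tt N1272 D1335) (tt N1273 D1336) (tt N851 (iv F2969)) (tt N840 F2939))
theorem Q842 : ∀ i, i < 842 → P i := stepQ 841 Q841 (allL N841 (tt N1117 (iv F3739)) (tt N1272 (iv F4251)) (tt N550 F2940) (tt N1274 D1337) (tt N549 (iv D904)) (tt N1267 (iv F4241)) (tt N852 (iv F2972)) (tt N841 F2941))
theorem Q843 : ∀ i, i < 843 → P i := stepQ 842 Q842 (allL N842 (tt N552 F2942) (tt N1275 D1338) (tt N551 (iv D905)) (tt N1276 D1339) (tt N842 F2943) (tt N842 F2944) (tt N558 F2945) (tt N1277 D1340))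
theorem Q844 : ∀ i, i < 844 → P i := stepQ 843 Q843 (allL N843 (tt N553 F2946) (tt N1126 (iv F3776)) (tt N1277 (iv F4266)) (tt N1278 D1341) (tt N843 F2947) (tt N843 F2948) (tt N1279 D1342) (tt N551 (iv D906)))
theorem Q845 : ∀ i, i < 845 → P i := stepQ 844 Q844 (allL N844 (tt N1276 (iv F4261)) (tt N885 (iv F3055)) (tt N578 F2949) (tt N552 (iv D907)) (tt N1280 D1343) (tt N844 F2950) (tt N560 F2951) (tt N1281 D1344))
theorem Q846 : ∀ i, i < 846 → P i := stepQ 845 Q845 (allL N845 (tt N1277 (iv F4265)) (tt N883 (iv F3047)) (tt N553 F2952) (tt N1282 D1345) (tt N845 F2953) (tt N845 F2954) (tt N1283 D1346) (tt N552 (iv D908)))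
theorem Q847 : ∀ i, i < 847 → P i := stepQ 846 Q846 (allL N846 (tt N1278 (iv F4269)) (tt N554 F2955) (tt N1284 D1347) (tt N553 (iv D909)) (tt N1285 D1348) (tt N846 F2956) (tt N1286 D1349) (tt N580 F2957))
theorem Q848 : ∀ i, i < 848 → P i := stepQ 847 Q847 (allL N847 (tt N1279 (iv F4272)) (tt N555 F2958) (tt N1283 (iv F4282)) (tt N1286 (iv F4292)) (tt N847 F2959) (tt N1287 D1350) (tt N553 (iv D910)) (tt N563 F2960))
theorem Q849 : ∀ i, i < 849 → P i := stepQ 848 Q848 (allL N848 (tt N1131 (iv F3789)) (tt N1288 D1351) (tt N554 (iv D911)) (tt N879 (iv F3036)) (tt N1289 D1352) (tt N556 F2961) (tt N1290 D1353) (tt N582 F2962))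
theorem Q850 : ∀ i, i < 850 → P i := stepQ 849 Q849 (allL N849 (tt N1132 (iv F3792)) (tt N1285 (iv F4287)) (tt N1289 (iv F4298)) (tt N849 F2963) (tt N554 (iv D912)) (tt N557 F2964) (tt N1291 D1354) (tt N583 F2965))
theorem Q851 : ∀ i, i < 851 → P i := stepQ 850 Q850 (allL N850 (tt N1133 (iv F3796)) (tt N1286 (iv F4291)) (tt N1290 (iv F4301)) (tt N555 F2966) (tt N1291 (iv F4304)) (tt N839 F2967) (tt N554 (iv D913)) (tt N1292 D1355))
theorem Q852 : ∀ i, i < 852 → P i := stepQ 851 Q851 (allL N851 (tt N1293 D1356) (tt N556 (iv D914)) (tt N851 F2968) (tt N876 (iv F3029)) (tt N1294 D1357) (tt N1295 D1358) (tt N840 F2969) (tt N585 F2970))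
theorem Q853 : ∀ i, i < 853 → P i := stepQ 852 Q852 (allL N852 (tt N1135 (iv F3801)) (tt N1294 (iv F4314)) (tt N557 F2971) (tt N1296 D1359) (tt N556 (iv D915)) (tt N1289 (iv F4299)) (tt N841 F2972) (tt N586 F2973))
theorem Q854 : ∀ i, i < 854 → P i := stepQ 853 Q853 (allL N853 (tt N1253 (iv F4202)) (tt N558 (iv D916)) (tt N1136 (iv F3805)) (tt N1297 D1360) (tt N853 F2974) (tt N1298 D1361) (tt N1275 (iv F4260)) (tt N1299 D1362))
theorem Q855 : ∀ i, i < 855 → P i := stepQ 854 Q854 (allL N854 (tt N560 F2975) (tt N1297 (iv F4322)) (tt N588 F2976) (tt N558 (iv D917)) (tt N1300 D1363) (tt N630 F2977) (tt N1276 (iv F4264)) (tt N1301 D1364))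
theorem Q856 : ∀ i, i < 856 → P i := stepQ 855 Q855 (allL N855 (tt N561 F2978) (tt N1299 (iv F4325)) (tt N559 F2979) (tt N1302 D1365) (tt N855 F2980) (tt N631 F2981) (tt N1303 D1366) (tt N558 (iv D918)))
theorem Q857 : ∀ i, i < 857 → P i := stepQ 856 Q856 (allL N856 (tt N562 F2982) (tt N1139 (iv F3815)) (tt N1304 D1367) (tt N559 (iv D919)) (tt N1305 D1368) (tt N632 F2983) (tt N1306 D1369) (tt N590 F2984))
theorem Q858 : ∀ i, i < 858 → P i := stepQ 857 Q857 (allL N857 (tt N563 F2985) (tt N1140 (iv F3819)) (tt N1303 (iv F4337)) (tt N1306 (iv F4347)) (tt N857 F2986) (tt N1307 D1370) (tt N559 (iv D920)) (tt N1279 (iv F4274)))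
theorem Q859 : ∀ i, i < 859 → P i := stepQ 858 Q858 (allL N858 (tt N1300 (iv F4327)) (tt N1258 (iv F4216)) (tt N592 F2987) (tt N858 F2988) (tt N560 (iv D921)) (tt N634 F2989) (tt N1280 (iv F4278)) (tt N1308 D1371))
theorem Q860 : ∀ i, i < 860 → P i := stepQ 859 Q859 (allL N859 (tt N1301 (iv F4331)) (tt N1259 (iv F4220)) (tt N593 F2990) (tt N1309 D1372) (tt N1308 (iv F4352)) (tt N635 F2991) (tt N1310 D1373) (tt N560 (iv D922)))
theorem Q861 : ∀ i, i < 861 → P i := stepQ 860 Q860 (allL N860 (tt N1302 (iv F4334)) (tt N1260 (iv F4223)) (tt N1311 D1374) (tt N561 (iv D923)) (tt N1312 D1375) (tt N636 F2992) (tt N1313 D1376) (tt N1309 (iv F4355)))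
theorem Q862 : ∀ i, i < 862 → P i := stepQ 861 Q861 (allL N861 (tt N1303 (iv F4336)) (tt N1261 (iv F4225)) (tt N563 F2993) (tt N1313 (iv F4361)) (tt N861 F2994) (tt N1314 D1377) (tt N561 (iv D924)) (tt N1283 (iv F4284)))
theorem Q863 : ∀ i, i < 863 → P i := stepQ 862 Q862 (allL N862 (tt N1304 (iv F4339)) (tt N1315 D1378) (tt N562 (iv D925)) (tt N1311 (iv F4357)) (tt N1316 D1379) (tt N638 F2995) (tt N1317 D1380) (tt N596 F2996))
theorem Q864 : ∀ i, i < 864 → P i := stepQ 863 Q863 (allL N863 (tt N1305 (iv F4342)) (tt N565 F2997) (tt N1316 (iv F4367)) (tt N863 F2998) (tt N562 (iv D926)) (tt N639 F2999) (tt N1318 D1381) (tt N597 F3000))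
theorem Q865 : ∀ i, i < 865 → P i := stepQ 864 Q864 (allL N864 (tt N1306 (iv F4346)) (tt N566 F3001) (tt N1317 (iv F4370)) (tt N563 F3002) (tt N1318 (iv F4373)) (tt N1319 D1382) (tt N562 (iv D927)) (tt N1320 D1383))
theorem Q866 : ∀ i, i < 866 → P i := stepQ 865 Q865 (allL N865 (tt N1307 (iv F4348)) (tt N1321 D1384) (tt N1314 (iv F4362)) (tt N1319 (iv F4375)) (tt N865 F3003) (tt N563 (iv D928)) (tt N641 F3004) (tt N1287 (iv F4296)))
theorem Q867 : ∀ i, i < 867 → P i := stepQ 866 Q866 (allL N866 (tt N1322 D1385) (tt N564 (iv D929)) (tt N1315 (iv F4365)) (tt N1266 (iv F4238)) (tt N1323 D1386) (tt N1324 D1387) (tt N1325 D1388) (tt N600 F3005))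
theorem Q868 : ∀ i, i < 868 → P i := stepQ 867 Q867 (allL N867 (tt N1150 (iv F3841)) (tt N1323 (iv F4385)) (tt N565 F3006) (tt N1326 D1389) (tt N564 (iv D930)) (tt N569 F3007) (tt N1327 D1390) (tt N601 F3008))
theorem Q869 : ∀ i, i < 869 → P i := stepQ 868 Q868 (allL N868 (tt N1151 (iv F3845)) (tt N1325 (iv F4389)) (tt N566 F3009) (tt N1268 (iv F4244)) (tt N1327 (iv F4394)) (tt N1328 D1391) (tt N564 (iv D931)) (tt N1329 D1392))
theorem Q870 : ∀ i, i < 870 → P i := stepQ 869 Q869 (allL N869 (tt N1152 (iv F3847)) (tt N1318 (iv F4371)) (tt N1327 (iv F4393)) (tt N869 F3010) (tt N566 F3011) (tt N1330 D1393) (tt N565 (iv D932)) (tt N706 F3012))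
theorem Q871 : ∀ i, i < 871 → P i := stepQ 870 Q870 (allL N870 (tt N1153 (iv F3851)) (tt N1331 D1394) (tt N1328 (iv F4396)) (tt N567 F3013) (tt N1330 (iv F4403)) (tt N566 (iv D933)) (tt N572 F3014) (tt N1332 D1395))
theorem Q872 : ∀ i, i < 872 → P i := stepQ 871 Q871 (allL N871 (tt N1154 (iv F3854)) (tt N1320 (iv F4377)) (tt N1329 (iv F4399)) (tt N1292 (iv F4307)) (tt N706 F3015) (tt N1332 (iv F4410)) (tt N603 F3016) (tt N566 (iv D934)))
theorem Q873 : ∀ i, i < 873 → P i := stepQ 872 Q872 (allL N872 (tt N1333 D1396) (tt N567 (iv D935)) (tt N1334 D1397) (tt N1331 (iv F4406)) (tt N872 F3017) (tt N1321 (iv F4381)) (tt N573 F3018) (tt N836 F3019))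
theorem Q874 : ∀ i, i < 874 → P i := stepQ 873 Q873 (allL N873 (tt N568 (iv D936)) (tt N1156 (iv F3860)) (tt N644 F3020) (tt N1271 (iv F4249)) (tt N1335 D1398) (tt N1336 D1399) (tt N1337 D1400) (tt N604 F3021))
theorem Q875 : ∀ i, i < 875 → P i := stepQ 874 Q874 (allL N874 (tt N1335 (iv F4419)) (tt N569 F3022) (tt N645 F3023) (tt N1338 D1401) (tt N568 (iv D937)) (tt N1339 D1402) (tt N990 (iv F3386)) (tt N605 F3024))
theorem Q876 : ∀ i, i < 876 → P i := stepQ 875 Q875 (allL N875 (tt N1336 (iv F4422)) (tt N1324 (iv F4387)) (tt N646 F3025) (tt N1273 (iv F4255)) (tt N1339 (iv F4431)) (tt N568 (iv D938)) (tt N1340 D1403) (tt N606 F3026))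
theorem Q877 : ∀ i, i < 877 → P i := stepQ 876 Q876 (allL N876 (tt N1337 (iv F4425)) (tt N570 F3027) (tt N647 F3028) (tt N851 F3029) (tt N990 (iv F3385)) (tt N1341 D1404) (tt N568 (iv D939)) (tt N876 F3030))
theorem Q878 : ∀ i, i < 878 → P i := stepQ 877 Q877 (allL N877 (tt N1160 (iv F3872)) (tt N1338 (iv F4429)) (tt N877 F3031) (tt N569 (iv D940)) (tt N1274 (iv F4258)) (tt N1326 (iv F4391)) (tt N1342 D1405) (tt N1343 D1406))
theorem Q879 : ∀ i, i < 879 → P i := stepQ 878 Q878 (allL N878 (tt N1161 (iv F3874)) (tt N990 (iv F3384)) (tt N571 F3032) (tt N1342 (iv F4438)) (tt N570 F3033) (tt N1344 D1407) (tt N569 (iv D941)) (tt N878 F3034))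
theorem Q880 : ∀ i, i < 880 → P i := stepQ 879 Q879 (allL N879 (tt N1162 (iv F3878)) (tt N1345 D1408) (tt N572 F3035) (tt N848 F3036) (tt N1344 (iv F4444)) (tt N570 (iv D942)) (tt N1328 (iv F4398)) (tt N879 F3037))
theorem Q881 : ∀ i, i < 881 → P i := stepQ 880 Q880 (allL N880 (tt N1163 (iv F3882)) (tt N988 (iv F3375)) (tt N1344 (iv F4443)) (tt N880 F3038) (tt N572 F3039) (tt N571 (iv D943)) (tt N1330 (iv F4404)) (tt N880 F3040))
theorem Q882 : ∀ i, i < 882 → P i := stepQ 881 Q881 (allL N881 (tt N1346 D1409) (tt N572 (iv D944)) (tt N1347 D1410) (tt N573 F3041) (tt N988 (iv F3377)) (tt N648 F3042) (tt N1331 (iv F4407)) (tt N881 F3043))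
theorem Q883 : ∀ i, i < 883 → P i := stepQ 882 Q882 (allL N882 (tt N573 (iv D945)) (tt N1165 (iv F3889)) (tt N1348 D1411) (tt N1346 (iv F4448)) (tt N882 F3044) (tt N649 F3045) (tt N1333 (iv F4413)) (tt N574 F3046))
theorem Q884 : ∀ i, i < 884 → P i := stepQ 883 Q883 (allL N883 (tt N1348 (iv F4454)) (tt N845 F3047) (tt N573 (iv D946)) (tt N1349 D1412) (tt N883 F3048) (tt N650 F3049) (tt N1334 (iv F4417)) (tt N575 F3050))
theorem Q885 : ∀ i, i < 885 → P i := stepQ 884 Q884 (allL N884 (tt N575 F3051) (tt N1350 D1413) (tt N574 (iv D947)) (tt N1351 D1414) (tt N884 F3052) (tt N651 F3053) (tt N831 F3054) (tt N1348 (iv F4457)))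
theorem Q886 : ∀ i, i < 886 → P i := stepQ 885 Q885 (allL N885 (tt N1351 (iv F4463)) (tt N844 F3055) (tt N885 F3056) (tt N575 (iv D948)) (tt N1352 D1415) (tt N652 F3057) (tt N833 F3058) (tt N1353 D1416))
theorem Q887 : ∀ i, i < 887 → P i := stepQ 886 Q886 (allL N886 (tt N886 F3059) (tt N576 (iv D949)) (tt N1178 (iv F3938)) (tt N1354 D1417) (tt N608 F3060) (tt N1355 D1418) (tt N587 F3061) (tt N1356 D1419))
theorem Q888 : ∀ i, i < 888 → P i := stepQ 887 Q887 (allL N887 (tt N578 F3062) (tt N1354 (iv F4476)) (tt N1276 (iv F4262)) (tt N576 (iv D950)) (tt N1357 D1420) (tt N887 F3063) (tt N588 F3064) (tt N1358 D1421))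
theorem Q889 : ∀ i, i < 889 → P i := stepQ 888 Q888 (allL N888 (tt N579 F3065) (tt N1356 (iv F4483)) (tt N577 F3066) (tt N1359 D1422) (tt N610 F3067) (tt N888 F3068) (tt N1360 D1423) (tt N576 (iv D951)))
theorem Q890 : ∀ i, i < 890 → P i := stepQ 889 Q889 (allL N889 (tt N580 F3069) (tt N1181 (iv F3951)) (tt N1361 D1424) (tt N577 (iv D952)) (tt N1362 D1425) (tt N889 F3070) (tt N1363 D1426) (tt N1278 (iv F4271)))
theorem Q891 : ∀ i, i < 891 → P i := stepQ 890 Q890 (allL N890 (tt N581 F3071) (tt N1182 (iv F3953)) (tt N1360 (iv F4495)) (tt N1363 (iv F4506)) (tt N612 F3072) (tt N1364 D1427) (tt N577 (iv D953)) (tt N591 F3073))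
theorem Q892 : ∀ i, i < 892 → P i := stepQ 891 Q891 (allL N891 (tt N1357 (iv F4485)) (tt N891 F3074) (tt N1280 (iv F4275)) (tt N613 F3075) (tt N578 (iv D954)) (tt N891 F3076) (tt N592 F3077) (tt N1365 D1428))
theorem Q893 : ∀ i, i < 893 → P i := stepQ 892 Q892 (allL N892 (tt N1358 (iv F4489)) (tt N892 F3078) (tt N1281 (iv F4279)) (tt N1366 D1429) (tt N1365 (iv F4515)) (tt N892 F3079) (tt N1367 D1430) (tt N578 (iv D955)))
theorem Q894 : ∀ i, i < 894 → P i := stepQ 893 Q893 (allL N893 (tt N1359 (iv F4491)) (tt N893 F3080) (tt N1368 D1431) (tt N579 (iv D956)) (tt N893 F3081) (tt N893 F3082) (tt N1083 F3635) (tt N1366 (iv F4520)))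
theorem Q895 : ∀ i, i < 895 → P i := stepQ 894 Q894 (allL N894 (tt N1360 (iv F4494)) (tt N894 F3083) (tt N581 F3084) (tt N1083 (iv F3632)) (tt N614 F3085) (tt N689 (iv F3087)) (tt N579 (iv D957)) (tt N595 F3086))
theorem Q896 : ∀ i, i < 896 → P i := stepQ 895 Q895 (allL N895 (tt N1361 (iv F4499)) (tt N1369 D1432) (tt N580 (iv D958)) (tt N1368 (iv F4523)) (tt N1370 D1433) (tt N895 F3088) (tt N1371 D1434) (tt N1284 (iv F4286)))
theorem Q897 : ∀ i, i < 897 → P i := stepQ 896 Q896 (allL N896 (tt N1362 (iv F4501)) (tt N583 F3089) (tt N1370 (iv F4527)) (tt N615 F3090) (tt N580 (iv D959)) (tt N896 F3091) (tt N688 (iv F3092)) (tt N1285 (iv F4290)))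
theorem Q898 : ∀ i, i < 898 → P i := stepQ 897 Q897 (allL N897 (tt N1363 (iv F4505)) (tt N584 F3093) (tt N1371 (iv F4531)) (tt N581 F3094) (tt N688 F3095) (tt N1372 D1435) (tt N580 (iv D960)) (tt N1373 D1436))
theorem Q899 : ∀ i, i < 899 → P i := stepQ 898 Q898 (allL N898 (tt N1364 (iv F4508)) (tt N898 F3096) (tt N689 F3097) (tt N1372 (iv F4534)) (tt N616 F3098) (tt N581 (iv D961)) (tt N898 F3099) (tt N599 F3100))
theorem Q900 : ∀ i, i < 900 → P i := stepQ 899 Q899 (allL N899 (tt N1374 D1437) (tt N582 (iv D962)) (tt N1369 (iv F4526)) (tt N899 F3101) (tt N1375 D1438) (tt N1376 D1439) (tt N1377 D1440) (tt N1288 (iv F4297)))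
theorem Q901 : ∀ i, i < 901 → P i := stepQ 900 Q900 (allL N900 (tt N1191 (iv F3975)) (tt N1375 (iv F4541)) (tt N583 F3102) (tt N729 (iv F3104)) (tt N582 (iv D963)) (tt N586 F3103) (tt N723 F3105) (tt N1289 (iv F4300)))
theorem Q902 : ∀ i, i < 902 → P i := stepQ 901 Q901 (allL N901 (tt N1192 (iv F3980)) (tt N1377 (iv F4546)) (tt N584 F3106) (tt N901 F3107) (tt N723 F3108) (tt N901 F3109) (tt N582 (iv D964)) (tt N1378 D1441))
theorem Q903 : ∀ i, i < 903 → P i := stepQ 902 Q902 (allL N902 (tt N1193 (iv F3985)) (tt N1373 (iv F4537)) (tt N1378 (iv F4549)) (tt N603 F3110) (tt N703 F3111) (tt N902 F3112) (tt N1292 (iv F4310)) (tt N584 (iv D965)))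
theorem Q904 : ∀ i, i < 904 → P i := stepQ 903 Q903 (allL N903 (tt N585 (iv D966)) (tt N1194 (iv F3989)) (tt N903 F3113) (tt N903 F3114) (tt N1379 D1442) (tt N1380 D1443) (tt N903 F3115) (tt N1293 (iv F4313)))
theorem Q905 : ∀ i, i < 905 → P i := stepQ 904 Q904 (allL N904 (tt N1379 (iv F4552)) (tt N586 F3116) (tt N904 F3117) (tt N1381 D1444) (tt N585 (iv D967)) (tt N1382 D1445) (tt N904 F3118) (tt N1294 (iv F4317)))
theorem Q906 : ∀ i, i < 906 → P i := stepQ 905 Q905 (allL N905 (tt N1380 (iv F4555)) (tt N1376 (iv F4544)) (tt N905 F3119) (tt N905 F3120) (tt N1382 (iv F4562)) (tt N585 (iv D968)) (tt N1383 D1446) (tt N1295 (iv F4319)))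
theorem Q907 : ∀ i, i < 907 → P i := stepQ 906 Q906 (allL N906 (tt N1197 (iv F3995)) (tt N1381 (iv F4558)) (tt N618 F3121) (tt N586 (iv D969)) (tt N906 F3122) (tt N729 F3123) (tt N906 F3124) (tt N1384 D1447))
theorem Q908 : ∀ i, i < 908 → P i := stepQ 907 Q907 (allL N907 (tt N907 F3125) (tt N588 F3126) (tt N1385 D1448) (tt N587 (iv D970)) (tt N1386 D1449) (tt N1387 D1450) (tt N1354 (iv F4477)) (tt N1388 D1451))
theorem Q909 : ∀ i, i < 909 → P i := stepQ 908 Q908 (allL N908 (tt N908 F3127) (tt N654 F3128) (tt N1199 (iv F4004)) (tt N1387 (iv F4575)) (tt N620 F3129) (tt N587 (iv D971)) (tt N1244 (iv F4158)) (tt N1389 D1452))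
theorem Q910 : ∀ i, i < 910 → P i := stepQ 909 Q909 (allL N909 (tt N909 F3130) (tt N589 F3131) (tt N1200 (iv F4008)) (tt N1390 D1453) (tt N621 F3132) (tt N1389 (iv F4581)) (tt N1391 D1454) (tt N587 (iv D972)))
theorem Q911 : ∀ i, i < 911 → P i := stepQ 910 Q910 (allL N910 (tt N592 F3133) (tt N1386 (iv F4571)) (tt N1300 (iv F4328)) (tt N622 F3134) (tt N588 (iv D973)) (tt N656 F3135) (tt N1357 (iv F4488)) (tt N1392 D1455))
theorem Q912 : ∀ i, i < 912 → P i := stepQ 911 Q911 (allL N911 (tt N593 F3136) (tt N1388 (iv F4577)) (tt N1301 (iv F4332)) (tt N1393 D1456) (tt N1392 (iv F4590)) (tt N657 F3137) (tt N1394 D1457) (tt N588 (iv D974)))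
theorem Q913 : ∀ i, i < 913 → P i := stepQ 912 Q912 (allL N912 (tt N594 F3138) (tt N1390 (iv F4584)) (tt N1395 D1458) (tt N589 (iv D975)) (tt N1396 D1459) (tt N658 F3139) (tt N1397 D1460) (tt N1393 (iv F4594)))
theorem Q914 : ∀ i, i < 914 → P i := stepQ 913 Q913 (allL N913 (tt N595 F3140) (tt N1391 (iv F4586)) (tt N591 F3141) (tt N1397 (iv F4604)) (tt N625 F3142) (tt N686 F3143) (tt N589 (iv D976)) (tt N1360 (iv F4497)))
theorem Q915 : ∀ i, i < 915 → P i := stepQ 914 Q914 (allL N914 (tt N596 F3144) (tt N1398 D1461) (tt N590 (iv D977)) (tt N1395 (iv F4597)) (tt N1399 D1462) (tt N659 F3145) (tt N1400 D1463) (tt N1304 (iv F4341)))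
theorem Q916 : ∀ i, i < 916 → P i := stepQ 915 Q915 (allL N915 (tt N597 F3146) (tt N1206 (iv F4025)) (tt N1399 (iv F4608)) (tt N626 F3147) (tt N590 (iv D978)) (tt N660 F3148) (tt N658 (iv F3149)) (tt N1305 (iv F4345)))
theorem Q917 : ∀ i, i < 917 → P i := stepQ 916 Q916 (allL N916 (tt N598 F3150) (tt N1207 (iv F4030)) (tt N1400 (iv F4613)) (tt N591 F3151) (tt N658 F3152) (tt N1396 (iv F4601)) (tt N590 (iv D979)) (tt N1401 D1464))
theorem Q918 : ∀ i, i < 918 → P i := stepQ 917 Q917 (allL N917 (tt N599 F3153) (tt N1402 D1465) (tt N686 F3154) (tt N1396 (iv F4600)) (tt N624 F3155) (tt N591 (iv D980)) (tt N662 F3156) (tt N1364 (iv F4512)))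
theorem Q919 : ∀ i, i < 919 → P i := stepQ 918 Q918 (allL N918 (tt N1392 (iv F4589)) (tt N918 F3157) (tt N1308 (iv F4351)) (tt N1403 D1466) (tt N593 F3158) (tt N663 F3159) (tt N1404 D1467) (tt N592 (iv D981)))
theorem Q920 : ∀ i, i < 920 → P i := stepQ 919 Q919 (allL N919 (tt N1393 (iv F4592)) (tt N919 F3160) (tt N1405 D1468) (tt N593 (iv D982)) (tt N1406 D1469) (tt N664 F3161) (tt N1407 D1470) (tt N594 F3162))
theorem Q921 : ∀ i, i < 921 → P i := stepQ 920 Q920 (allL N920 (tt N1394 (iv F4595)) (tt N920 F3163) (tt N1310 (iv F4356)) (tt N1407 (iv F4632)) (tt N1404 (iv F4625)) (tt N1408 D1471) (tt N593 (iv D983)) (tt N1367 (iv F4522)))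
theorem Q922 : ∀ i, i < 922 → P i := stepQ 921 Q921 (allL N921 (tt N1395 (iv F4596)) (tt N1409 D1472) (tt N594 (iv D984)) (tt N596 F3164) (tt N1410 D1473) (tt N666 F3165) (tt N1411 D1474) (tt N1405 (iv F4627)))
theorem Q923 : ∀ i, i < 923 → P i := stepQ 922 Q922 (allL N922 (tt N1396 (iv F4599)) (tt N922 F3166) (tt N1410 (iv F4636)) (tt N599 F3167) (tt N594 (iv D985)) (tt N598 F3168) (tt N671 (iv F3169)) (tt N1406 (iv F4630)))
theorem Q924 : ∀ i, i < 924 → P i := stepQ 923 Q923 (allL N923 (tt N1397 (iv F4603)) (tt N923 F3170) (tt N1411 (iv F4640)) (tt N595 F3171) (tt N671 F3172) (tt N670 F3173) (tt N594 (iv D986)) (tt N1033 (iv F3501)))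
theorem Q925 : ∀ i, i < 925 → P i := stepQ 924 Q924 (allL N924 (tt N1412 D1475) (tt N596 (iv D987)) (tt N600 F3174) (tt N1409 (iv F4635)) (tt N1413 D1476) (tt N1414 D1477) (tt N1415 D1478) (tt N1315 (iv F4366)))
theorem Q926 : ∀ i, i < 926 → P i := stepQ 925 Q925 (allL N925 (tt N1399 (iv F4607)) (tt N1413 (iv F4645)) (tt N597 F3175) (tt N669 (iv F3177)) (tt N596 (iv D988)) (tt N668 F3176) (tt N666 (iv F3178)) (tt N1316 (iv F4369)))
theorem Q927 : ∀ i, i < 927 → P i := stepQ 926 Q926 (allL N926 (tt N1400 (iv F4612)) (tt N1415 (iv F4651)) (tt N598 F3179) (tt N1411 (iv F4641)) (tt N666 F3180) (tt N1410 (iv F4638)) (tt N596 (iv D989)) (tt N1416 D1479))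
theorem Q928 : ∀ i, i < 928 → P i := stepQ 927 Q927 (allL N927 (tt N1401 (iv F4615)) (tt N603 F3181) (tt N1416 (iv F4654)) (tt N1373 (iv F4538)) (tt N664 F3182) (tt N1406 (iv F4629)) (tt N1320 (iv F4379)) (tt N598 (iv D990)))
theorem Q929 : ∀ i, i < 929 → P i := stepQ 928 Q928 (allL N928 (tt N600 (iv D991)) (tt N1220 (iv F4067)) (tt N1412 (iv F4644)) (tt N928 F3183) (tt N1417 D1480) (tt N1418 D1481) (tt N1419 D1482) (tt N1322 (iv F4384)))
theorem Q930 : ∀ i, i < 930 → P i := stepQ 929 Q929 (allL N929 (tt N1417 (iv F4656)) (tt N601 F3184) (tt N1413 (iv F4646)) (tt N711 (iv F3185)) (tt N600 (iv D992)) (tt N1420 D1483) (tt N708 (iv F3186)) (tt N1323 (iv F4386)))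
theorem Q931 : ∀ i, i < 931 → P i := stepQ 930 Q930 (allL N930 (tt N1418 (iv F4659)) (tt N606 F3187) (tt N1414 (iv F4650)) (tt N930 F3188) (tt N1420 (iv F4666)) (tt N600 (iv D993)) (tt N1421 D1484) (tt N1324 (iv F4388)))
theorem Q932 : ∀ i, i < 932 → P i := stepQ 931 Q931 (allL N931 (tt N1419 (iv F4661)) (tt N602 F3189) (tt N1415 (iv F4652)) (tt N931 F3190) (tt N708 F3191) (tt N1422 D1485) (tt N600 (iv D994)) (tt N1423 D1486))
theorem Q933 : ∀ i, i < 933 → P i := stepQ 932 Q932 (allL N932 (tt N1224 (iv F4077)) (tt N1423 (iv F4672)) (tt N603 F3192) (tt N1424 D1487) (tt N705 F3193) (tt N932 F3194) (tt N1329 (iv F4401)) (tt N602 (iv D995)))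
theorem Q934 : ∀ i, i < 934 → P i := stepQ 933 Q933 (allL N933 (tt N605 F3195) (tt N1225 (iv F4082)) (tt N677 F3196) (tt N1425 D1488) (tt N604 (iv D996)) (tt N1426 D1489) (tt N933 F3197) (tt N1335 (iv F4421)))
theorem Q935 : ∀ i, i < 935 → P i := stepQ 934 Q934 (allL N934 (tt N606 F3198) (tt N1427 D1490) (tt N678 F3199) (tt N934 F3200) (tt N1426 (iv F4687)) (tt N604 (iv D997)) (tt N1428 D1491) (tt N1336 (iv F4424)))
theorem Q936 : ∀ i, i < 936 → P i := stepQ 935 Q935 (allL N935 (tt N1425 (iv F4681)) (tt N607 F3201) (tt N935 F3202) (tt N605 (iv D998)) (tt N935 F3203) (tt N1429 D1492) (tt N935 F3204) (tt N1430 D1493))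
theorem Q937 : ∀ i, i < 937 → P i := stepQ 936 Q936 (allL N936 (tt N1426 (iv F4685)) (tt N1420 (iv F4664)) (tt N679 F3205) (tt N1429 (iv F4695)) (tt N606 F3206) (tt N605 (iv D999)) (tt N1431 D1494) (tt N1339 (iv F4432)))
theorem Q938 : ∀ i, i < 938 → P i := stepQ 937 Q937 (allL N937 (tt N1428 (iv F4689)) (tt N1421 (iv F4667)) (tt N680 F3207) (tt N937 F3208) (tt N1431 (iv F4701)) (tt N937 F3209) (tt N606 (iv D1000)) (tt N1432 D1495))
theorem Q939 : ∀ i, i < 939 → P i := stepQ 938 Q938 (allL N938 (tt N1230 (iv F4096)) (tt N1430 (iv F4697)) (tt N628 F3210) (tt N1343 (iv F4441)) (tt N938 F3211) (tt N712 F3212) (tt N1433 D1496) (tt N607 (iv D1001)))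
theorem Q940 : ∀ i, i < 940 → P i := stepQ 939 Q939 (allL N939 (tt N939 F3213) (tt N609 F3214) (tt N1245 (iv F4162)) (tt N608 (iv D1002)) (tt N1434 D1497) (tt N1243 F4155) (tt N619 F3215) (tt N939 F3216))
theorem Q941 : ∀ i, i < 941 → P i := stepQ 940 Q940 (allL N940 (tt N940 F3217) (tt N940 F3218) (tt N619 F3219) (tt N1243 (iv F4152)) (tt N1355 (iv F4481)) (tt N608 (iv D1003)) (tt N1245 (iv F4164)) (tt N1435 D1498))
theorem Q942 : ∀ i, i < 942 → P i := stepQ 941 Q941 (allL N941 (tt N941 F3220) (tt N610 F3221) (tt N1238 (iv F4133)) (tt N941 F3222) (tt N1356 (iv F4484)) (tt N1435 (iv F4717)) (tt N1436 D1499) (tt N608 (iv D1004)))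
theorem Q943 : ∀ i, i < 943 → P i := stepQ 942 Q942 (allL N942 (tt N613 F3223) (tt N1434 (iv F4710)) (tt N942 F3224) (tt N1357 (iv F4486)) (tt N609 (iv D1005)) (tt N942 F3225) (tt N622 F3226) (tt N942 F3227))
theorem Q944 : ∀ i, i < 944 → P i := stepQ 943 Q943 (allL N943 (tt N614 F3228) (tt N1436 (iv F4720)) (tt N612 F3229) (tt N943 F3230) (tt N1360 (iv F4496)) (tt N687 (iv F3232)) (tt N610 (iv D1006)) (tt N625 F3231))
theorem Q945 : ∀ i, i < 945 → P i := stepQ 944 Q944 (allL N944 (tt N615 F3233) (tt N1241 (iv F4142)) (tt N944 F3234) (tt N1362 (iv F4502)) (tt N611 (iv D1007)) (tt N944 F3235) (tt N684 F3236) (tt N944 F3237))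
theorem Q946 : ∀ i, i < 946 → P i := stepQ 945 Q945 (allL N945 (tt N616 F3238) (tt N1437 D1500) (tt N687 F3239) (tt N623 F3240) (tt N1364 (iv F4510)) (tt N612 (iv D1008)) (tt N945 F3241) (tt N624 F3242))
theorem Q947 : ∀ i, i < 947 → P i := stepQ 946 Q946 (allL N946 (tt N946 F3243) (tt N618 F3244) (tt N1438 D1501) (tt N617 (iv D1009)) (tt N946 F3245) (tt N946 F3246) (tt N946 F3247) (tt N1439 D1502))
theorem Q948 : ∀ i, i < 948 → P i := stepQ 947 Q947 (allL N947 (tt N1242 (iv F4145)) (tt N1439 (iv F4735)) (tt N1384 (iv F4566)) (tt N947 F3248) (tt N947 F3249) (tt N730 F3250) (tt N1440 D1503) (tt N618 (iv D1010)))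
theorem Q949 : ∀ i, i < 949 → P i := stepQ 948 Q948 (allL N948 (tt N948 F3251) (tt N622 F3252) (tt N1355 (iv F4480)) (tt N1386 (iv F4572)) (tt N619 (iv D1011)) (tt N1178 (iv F3940)) (tt N1434 (iv F4711)) (tt N1441 D1504))
theorem Q950 : ∀ i, i < 950 → P i := stepQ 949 Q949 (allL N949 (tt N949 F3253) (tt N623 F3254) (tt N1435 (iv F4715)) (tt N1437 (iv F4726)) (tt N1441 (iv F4745)) (tt N1238 (iv F4134)) (tt N949 F3255) (tt N619 (iv D1012)))
theorem Q951 : ∀ i, i < 951 → P i := stepQ 950 Q950 (allL N950 (tt N950 F3256) (tt N683 F3257) (tt N1246 (iv F4168)) (tt N1249 (iv F4184)) (tt N1389 (iv F4580)) (tt N621 F3258) (tt N950 F3259) (tt N620 (iv D1013)))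
theorem Q952 : ∀ i, i < 952 → P i := stepQ 951 Q951 (allL N951 (tt N951 F3260) (tt N624 F3261) (tt N951 F3262) (tt N621 (iv D1014)) (tt N1402 (iv F4619)) (tt N1249 (iv F4185)) (tt N685 (iv F3263)) (tt N1437 (iv F4728)))
theorem Q953 : ∀ i, i < 953 → P i := stepQ 952 Q952 (allL N952 (tt N952 F3264) (tt N625 F3265) (tt N1247 (iv F4174)) (tt N685 F3266) (tt N1391 (iv F4587)) (tt N952 F3267) (tt N621 (iv D1015)) (tt N1436 (iv F4723)))
theorem Q954 : ∀ i, i < 954 → P i := stepQ 953 Q953 (allL N953 (tt N627 F3268) (tt N1441 (iv F4744)) (tt N953 F3269) (tt N1442 D1505) (tt N623 F3270) (tt N684 F3271) (tt N953 F3272) (tt N622 (iv D1016)))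
theorem Q955 : ∀ i, i < 955 → P i := stepQ 954 Q954 (allL N954 (tt N1442 (iv F4747)) (tt N954 F3273) (tt N1443 D1506) (tt N627 (iv D1017)) (tt N1372 (iv F4535)) (tt N688 F3274) (tt N954 F3275) (tt N1403 (iv F4623)))
theorem Q956 : ∀ i, i < 956 → P i := stepQ 955 Q955 (allL N955 (tt N1252 (iv F4197)) (tt N955 F3276) (tt N1433 (iv F4705)) (tt N955 F3277) (tt N955 F3278) (tt N955 F3279) (tt N628 (iv D1018)) (tt N955 F3280))
theorem Q957 : ∀ i, i < 957 → P i := stepQ 956 Q956 (allL N956 (tt N956 F3281) (tt N630 F3282) (tt N1444 D1507) (tt N629 (iv D1019)) (tt N1445 D1508) (tt N1446 D1509) (tt N956 F3283) (tt N1447 D1510))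
theorem Q958 : ∀ i, i < 958 → P i := stepQ 957 Q957 (allL N957 (tt N957 F3284) (tt N1298 (iv F4323)) (tt N957 F3285) (tt N1446 (iv F4762)) (tt N957 F3286) (tt N629 (iv D1020)) (tt N1448 D1511) (tt N1449 D1512))
theorem Q959 : ∀ i, i < 959 → P i := stepQ 958 Q958 (allL N958 (tt N958 F3287) (tt N631 F3288) (tt N958 F3289) (tt N1450 D1513) (tt N958 F3290) (tt N1449 (iv F4772)) (tt N1451 D1514) (tt N629 (iv D1021)))
theorem Q960 : ∀ i, i < 960 → P i := stepQ 959 Q959 (allL N959 (tt N634 F3291) (tt N1445 (iv F4758)) (tt N656 F3292) (tt N959 F3293) (tt N630 (iv D1022)) (tt N1300 (iv F4330)) (tt N959 F3294) (tt N1452 D1515))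
theorem Q961 : ∀ i, i < 961 → P i := stepQ 960 Q960 (allL N960 (tt N635 F3295) (tt N1447 (iv F4764)) (tt N657 F3296) (tt N1453 D1516) (tt N1452 (iv F4782)) (tt N1301 (iv F4333)) (tt N1454 D1517) (tt N630 (iv D1023)))
theorem Q962 : ∀ i, i < 962 → P i := stepQ 961 Q961 (allL N961 (tt N636 F3297) (tt N1450 (iv F4774)) (tt N1455 D1518) (tt N631 (iv D1024)) (tt N1456 D1519) (tt N1302 (iv F4335)) (tt N1457 D1520) (tt N1453 (iv F4784)))
theorem Q963 : ∀ i, i < 963 → P i := stepQ 962 Q962 (allL N962 (tt N637 F3298) (tt N1451 (iv F4776)) (tt N633 F3299) (tt N1457 (iv F4793)) (tt N962 F3300) (tt N1458 D1521) (tt N631 (iv D1025)) (tt N962 F3301))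
theorem Q964 : ∀ i, i < 964 → P i := stepQ 963 Q963 (allL N963 (tt N638 F3302) (tt N1459 D1522) (tt N632 (iv D1026)) (tt N1455 (iv F4789)) (tt N1460 D1523) (tt N1304 (iv F4340)) (tt N1461 D1524) (tt N659 F3303))
theorem Q965 : ∀ i, i < 965 → P i := stepQ 964 Q964 (allL N964 (tt N639 F3304) (tt N964 F3305) (tt N1460 (iv F4801)) (tt N964 F3306) (tt N632 (iv D1027)) (tt N1305 (iv F4344)) (tt N979 (iv F3345)) (tt N660 F3307))
theorem Q966 : ∀ i, i < 966 → P i := stepQ 965 Q965 (allL N965 (tt N640 F3308) (tt N965 F3309) (tt N1461 (iv F4804)) (tt N633 F3310) (tt N979 (iv F3344)) (tt N1462 D1525) (tt N632 (iv D1028)) (tt N1028 (iv F3483)))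
theorem Q967 : ∀ i, i < 967 → P i := stepQ 966 Q966 (allL N966 (tt N641 F3311) (tt N1463 D1526) (tt N1458 (iv F4795)) (tt N1462 (iv F4806)) (tt N966 F3312) (tt N633 (iv D1029)) (tt N1307 (iv F4350)) (tt N966 F3313))
theorem Q968 : ∀ i, i < 968 → P i := stepQ 967 Q967 (allL N967 (tt N1452 (iv F4780)) (tt N967 F3314) (tt N663 F3315) (tt N1464 D1527) (tt N635 F3316) (tt N1308 (iv F4353)) (tt N1465 D1528) (tt N634 (iv D1030)))
theorem Q969 : ∀ i, i < 969 → P i := stepQ 968 Q968 (allL N968 (tt N1453 (iv F4783)) (tt N968 F3317) (tt N1466 D1529) (tt N635 (iv D1031)) (tt N1467 D1530) (tt N1309 (iv F4354)) (tt N1468 D1531) (tt N636 F3318))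
theorem Q970 : ∀ i, i < 970 → P i := stepQ 969 Q969 (allL N969 (tt N1454 (iv F4785)) (tt N969 F3319) (tt N665 F3320) (tt N1468 (iv F4821)) (tt N1465 (iv F4814)) (tt N1469 D1532) (tt N635 (iv D1032)) (tt N969 F3321))
theorem Q971 : ∀ i, i < 971 → P i := stepQ 970 Q970 (allL N970 (tt N1455 (iv F4788)) (tt N1470 D1533) (tt N636 (iv D1033)) (tt N638 F3322) (tt N1471 D1534) (tt N1311 (iv F4358)) (tt N1472 D1535) (tt N1466 (iv F4817)))
theorem Q972 : ∀ i, i < 972 → P i := stepQ 971 Q971 (allL N971 (tt N1456 (iv F4790)) (tt N971 F3323) (tt N1471 (iv F4826)) (tt N971 F3324) (tt N636 (iv D1034)) (tt N1312 (iv F4360)) (tt N1473 D1536) (tt N1467 (iv F4819)))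
theorem Q973 : ∀ i, i < 973 → P i := stepQ 972 Q972 (allL N972 (tt N1457 (iv F4792)) (tt N972 F3325) (tt N1472 (iv F4827)) (tt N637 F3326) (tt N1473 (iv F4831)) (tt N1423 F4675) (tt N636 (iv D1035)) (tt N1422 (iv F4676)))
theorem Q974 : ∀ i, i < 974 → P i := stepQ 973 Q973 (allL N973 (tt N1458 (iv F4794)) (tt N1424 (iv F4677)) (tt N641 F3327) (tt N1423 (iv F4674)) (tt N973 F3328) (tt N637 (iv D1036)) (tt N1314 (iv F4364)) (tt N973 F3329))
theorem Q975 : ∀ i, i < 975 → P i := stepQ 974 Q974 (allL N974 (tt N1474 D1537) (tt N638 (iv D1037)) (tt N642 F3330) (tt N1470 (iv F4825)) (tt N976 (iv F3337)) (tt N1475 D1538) (tt N975 F3334) (tt N667 F3331))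
theorem Q976 : ∀ i, i < 976 → P i := stepQ 975 Q975 (allL N975 (tt N1460 (iv F4800)) (tt N976 (iv F3335)) (tt N639 F3332) (tt N1476 D1539) (tt N638 (iv D1038)) (tt N1316 (iv F4368)) (tt N974 (iv F3334)) (tt N668 F3333))
theorem Q977 : ∀ i, i < 977 → P i := stepQ 976 Q976 (allL N976 (tt N1461 (iv F4803)) (tt N975 F3335) (tt N640 F3336) (tt N1472 (iv F4828)) (tt N974 F3337) (tt N1477 D1540) (tt N638 (iv D1039)) (tt N1021 (iv F3464)))
theorem Q978 : ∀ i, i < 978 → P i := stepQ 977 Q977 (allL N977 (tt N1462 (iv F4805)) (tt N986 (iv F3370)) (tt N1477 (iv F4843)) (tt N641 F3338) (tt N980 (iv F3349)) (tt N640 (iv D1040)) (tt N1319 (iv F4376)) (tt N1031 (iv F3495)))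
theorem Q979 : ∀ i, i < 979 → P i := stepQ 978 Q978 (allL N978 (tt N1478 D1541) (tt N641 (iv D1041)) (tt N1479 D1542) (tt N986 (iv F3371)) (tt N978 F3339) (tt N643 F3340) (tt N1321 (iv F4382)) (tt N978 F3341))
theorem Q980 : ∀ i, i < 980 → P i := stepQ 979 Q979 (allL N979 (tt N642 (iv D1042)) (tt N979 F3342) (tt N1474 (iv F4834)) (tt N979 F3343) (tt N965 F3344) (tt N1480 D1543) (tt N964 F3345) (tt N673 F3346))
theorem Q981 : ∀ i, i < 981 → P i := stepQ 980 Q980 (allL N980 (tt N1480 (iv F4851)) (tt N646 F3347) (tt N1475 (iv F4838)) (tt N980 F3348) (tt N977 F3349) (tt N642 (iv D1043)) (tt N1481 D1544) (tt N675 F3350))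
theorem Q982 : ∀ i, i < 982 → P i := stepQ 981 Q981 (allL N981 (tt N643 (iv D1044)) (tt N981 F3351) (tt N1482 D1545) (tt N983 F3362) (tt N981 F3352) (tt N1478 (iv F4846)) (tt N649 F3353) (tt N981 F3354))
theorem Q983 : ∀ i, i < 983 → P i := stepQ 982 Q982 (allL N982 (tt N1482 (iv F4859)) (tt N982 F3355) (tt N643 (iv D1045)) (tt N1483 D1546) (tt N982 F3356) (tt N1479 (iv F4849)) (tt N650 F3357) (tt N982 F3358))
theorem Q984 : ∀ i, i < 984 → P i := stepQ 983 Q983 (allL N983 (tt N645 F3359) (tt N983 F3360) (tt N1335 (iv F4420)) (tt N981 (iv F3362)) (tt N644 (iv D1046)) (tt N1484 D1547) (tt N989 (iv F3382)) (tt N677 F3361))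
theorem Q985 : ∀ i, i < 985 → P i := stepQ 984 Q984 (allL N984 (tt N646 F3363) (tt N1485 D1548) (tt N1336 (iv F4423)) (tt N984 F3364) (tt N1484 (iv F4868)) (tt N644 (iv D1047)) (tt N1486 D1549) (tt N678 F3365))
theorem Q986 : ∀ i, i < 986 → P i := stepQ 985 Q985 (allL N985 (tt N647 F3366) (tt N985 F3367) (tt N1337 (iv F4426)) (tt N985 F3368) (tt N989 (iv F3381)) (tt N1487 D1550) (tt N644 (iv D1048)) (tt N985 F3369))
theorem Q987 : ∀ i, i < 987 → P i := stepQ 986 Q986 (allL N986 (tt N1484 (iv F4866)) (tt N977 F3370) (tt N1339 (iv F4430)) (tt N978 F3371) (tt N646 F3372) (tt N645 (iv D1049)) (tt N1488 D1551) (tt N679 F3373))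
theorem Q988 : ∀ i, i < 988 → P i := stepQ 987 Q987 (allL N987 (tt N1486 (iv F4873)) (tt N1481 (iv F4855)) (tt N1340 (iv F4433)) (tt N987 F3374) (tt N1488 (iv F4881)) (tt N1489 D1552) (tt N646 (iv D1050)) (tt N1490 D1553))
theorem Q989 : ∀ i, i < 989 → P i := stepQ 988 Q988 (allL N988 (tt N1487 (iv F4875)) (tt N880 F3375) (tt N1341 (iv F4434)) (tt N988 F3376) (tt N881 F3377) (tt N647 (iv D1051)) (tt N1489 (iv F4886)) (tt N988 F3378))
theorem Q990 : ∀ i, i < 990 → P i := stepQ 989 Q989 (allL N989 (tt N648 (iv D1052)) (tt N989 F3379) (tt N1491 D1554) (tt N649 F3380) (tt N985 F3381) (tt N1346 (iv F4449)) (tt N983 F3382) (tt N989 F3383))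
theorem Q991 : ∀ i, i < 991 → P i := stepQ 990 Q990 (allL N990 (tt N1491 (iv F4888)) (tt N878 F3384) (tt N648 (iv D1053)) (tt N1492 D1555) (tt N876 F3385) (tt N1347 (iv F4452)) (tt N874 F3386) (tt N990 F3387))
theorem Q992 : ∀ i, i < 992 → P i := stepQ 991 Q991 (allL N991 (tt N650 F3388) (tt N1493 D1556) (tt N649 (iv D1054)) (tt N1494 D1557) (tt N991 F3389) (tt N1348 (iv F4456)) (tt N1482 (iv F4861)) (tt N651 F3390))
theorem Q993 : ∀ i, i < 993 → P i := stepQ 992 Q992 (allL N992 (tt N1494 (iv F4899)) (tt N992 F3391) (tt N1492 (iv F4893)) (tt N650 (iv D1055)) (tt N1495 D1558) (tt N1349 (iv F4459)) (tt N1483 (iv F4865)) (tt N1496 D1559))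
theorem Q994 : ∀ i, i < 994 → P i := stepQ 993 Q993 (allL N993 (tt N993 F3392) (tt N651 (iv D1056)) (tt N993 F3393) (tt N1497 D1560) (tt N993 F3394) (tt N1498 D1561) (tt N993 F3395) (tt N1493 (iv F4898)))
theorem Q995 : ∀ i, i < 995 → P i := stepQ 994 Q994 (allL N994 (tt N652 F3396) (tt N1497 (iv F4905)) (tt N994 F3397) (tt N651 (iv D1057)) (tt N1499 D1562) (tt N1351 (iv F4465)) (tt N994 F3398) (tt N1500 D1563))
theorem Q996 : ∀ i, i < 996 → P i := stepQ 995 Q995 (allL N995 (tt N1499 (iv F4910)) (tt N995 F3399) (tt N995 F3400) (tt N995 F3401) (tt N652 (iv D1058)) (tt N1352 (iv F4470)) (tt N995 F3402) (tt N1501 D1564))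
theorem Q997 : ∀ i, i < 997 → P i := stepQ 996 Q996 (allL N996 (tt N1500 (iv F4914)) (tt N996 F3403) (tt N996 F3404) (tt N1496 (iv F4903)) (tt N1501 (iv F4918)) (tt N1353 (iv F4474)) (tt N1502 D1565) (tt N652 (iv D1059)))
theorem Q998 : ∀ i, i < 998 → P i := stepQ 997 Q997 (allL N997 (tt N690 F3405) (tt N1444 (iv F4754)) (tt N653 (iv D1060)) (tt N997 F3406) (tt N1503 D1566) (tt N1504 D1567) (tt N997 F3407) (tt N1505 D1568))
theorem Q999 : ∀ i, i < 999 → P i := stepQ 998 Q998 (allL N998 (tt N691 F3408) (tt N656 F3409) (tt N1503 (iv F4923)) (tt N681 F3410) (tt N653 (iv D1061)) (tt N1179 (iv F3944)) (tt N998 F3411) (tt N1506 D1569))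
theorem Q1000 : ∀ i, i < 1000 → P i := stepQ 999 Q999 (allL N999 (tt N692 F3412) (tt N1387 (iv F4574)) (tt N1504 (iv F4926)) (tt N654 F3413) (tt N1179 (iv F3943)) (tt N653 (iv D1062)) (tt N1201 (iv F4013)) (tt N1507 D1570))
theorem Q1001 : ∀ i, i < 1001 → P i := stepQ 1000 Q1000 (allL N1000 (tt N693 F3414) (tt N657 F3415) (tt N1505 (iv F4929)) (tt N1508 D1571) (tt N1506 (iv F4932)) (tt N1507 (iv F4934)) (tt N1509 D1572) (tt N653 (iv D1063)))
theorem Q1002 : ∀ i, i < 1002 → P i := stepQ 1001 Q1001 (allL N1001 (tt N694 F3416) (tt N1389 (iv F4579)) (tt N1001 F3417) (tt N1510 D1573) (tt N683 F3418) (tt N655 F3419) (tt N1001 F3420) (tt N654 (iv D1064)))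
theorem Q1003 : ∀ i, i < 1003 → P i := stepQ 1002 Q1002 (allL N1002 (tt N695 F3421) (tt N658 F3422) (tt N1511 D1574) (tt N655 (iv D1065)) (tt N1207 (iv F4032)) (tt N1510 (iv F4942)) (tt N1206 F4028) (tt N1508 (iv F4937)))
theorem Q1004 : ∀ i, i < 1004 → P i := stepQ 1003 Q1003 (allL N1003 (tt N663 F3423) (tt N1506 (iv F4931)) (tt N1452 (iv F4781)) (tt N1512 D1575) (tt N657 F3424) (tt N1392 (iv F4591)) (tt N1513 D1576) (tt N656 (iv D1066)))
theorem Q1005 : ∀ i, i < 1005 → P i := stepQ 1004 Q1004 (allL N1004 (tt N664 F3425) (tt N1508 (iv F4936)) (tt N1514 D1577) (tt N657 (iv D1067)) (tt N1401 (iv F4616)) (tt N1393 (iv F4593)) (tt N1515 D1578) (tt N658 F3426))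
theorem Q1006 : ∀ i, i < 1006 → P i := stepQ 1005 Q1005 (allL N1005 (tt N665 F3427) (tt N1509 (iv F4939)) (tt N1454 (iv F4786)) (tt N1515 (iv F4954)) (tt N1513 (iv F4949)) (tt N1516 D1579) (tt N657 (iv D1068)) (tt N1005 F3428))
theorem Q1007 : ∀ i, i < 1007 → P i := stepQ 1006 Q1006 (allL N1006 (tt N666 F3429) (tt N1517 D1580) (tt N658 (iv D1069)) (tt N659 F3430) (tt N1400 (iv F4614)) (tt N1395 (iv F4598)) (tt N1399 F4611) (tt N1514 (iv F4952)))
theorem Q1008 : ∀ i, i < 1008 → P i := stepQ 1007 Q1007 (allL N1007 (tt N1518 D1581) (tt N659 (iv D1070)) (tt N1007 F3431) (tt N1517 (iv F4957)) (tt N1519 D1582) (tt N1520 D1583) (tt N1521 D1584) (tt N1459 (iv F4799)))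
theorem Q1009 : ∀ i, i < 1009 → P i := stepQ 1008 Q1008 (allL N1008 (tt N668 F3432) (tt N1519 (iv F4960)) (tt N660 F3433) (tt N1522 D1585) (tt N659 (iv D1071)) (tt N1399 (iv F4609)) (tt N1523 D1586) (tt N1460 (iv F4802)))
theorem Q1010 : ∀ i, i < 1010 → P i := stepQ 1009 Q1009 (allL N1009 (tt N669 F3434) (tt N1521 (iv F4963)) (tt N661 F3435) (tt N1399 F4610) (tt N1523 (iv F4970)) (tt N1522 (iv F4967)) (tt N659 (iv D1072)) (tt N1524 D1587))
theorem Q1011 : ∀ i, i < 1011 → P i := stepQ 1010 Q1010 (allL N1010 (tt N670 F3436) (tt N1010 F3437) (tt N1523 (iv F4969)) (tt N686 F3438) (tt N661 F3439) (tt N1397 (iv F4606)) (tt N660 (iv D1073)) (tt N1030 (iv F3491)))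
theorem Q1012 : ∀ i, i < 1012 → P i := stepQ 1011 Q1011 (allL N1011 (tt N671 F3440) (tt N1525 D1588) (tt N1522 (iv F4966)) (tt N662 F3441) (tt N1397 (iv F4605)) (tt N661 (iv D1074)) (tt N1396 F4602) (tt N1526 D1589))
theorem Q1013 : ∀ i, i < 1013 → P i := stepQ 1012 Q1012 (allL N1012 (tt N672 F3442) (tt N1012 F3443) (tt N1524 (iv F4972)) (tt N1012 F3444) (tt N1030 (iv F3490)) (tt N1526 (iv F4978)) (tt N1028 F3484) (tt N661 (iv D1075)))
theorem Q1014 : ∀ i, i < 1014 → P i := stepQ 1013 Q1013 (allL N1013 (tt N1013 F3445) (tt N662 (iv D1076)) (tt N1013 F3446) (tt N1525 (iv F4974)) (tt N685 F3447) (tt N1013 F3448) (tt N1402 (iv F4620)) (tt N1013 F3449))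
theorem Q1015 : ∀ i, i < 1015 → P i := stepQ 1014 Q1014 (allL N1014 (tt N1512 (iv F4946)) (tt N703 F3450) (tt N1527 D1590) (tt N663 (iv D1077)) (tt N1373 (iv F4539)) (tt N1403 (iv F4622)) (tt N1528 D1591) (tt N688 F3451))
theorem Q1016 : ∀ i, i < 1016 → P i := stepQ 1015 Q1015 (allL N1015 (tt N1513 (iv F4948)) (tt N704 F3452) (tt N1465 (iv F4813)) (tt N1528 (iv F4981)) (tt N665 F3453) (tt N1529 D1592) (tt N663 (iv D1078)) (tt N1015 F3454))
theorem Q1017 : ∀ i, i < 1017 → P i := stepQ 1016 Q1016 (allL N1016 (tt N1514 (iv F4951)) (tt N1530 D1593) (tt N664 (iv D1079)) (tt N1466 (iv F4816)) (tt N1416 (iv F4655)) (tt N1405 (iv F4626)) (tt N1531 D1594) (tt N666 F3455))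
theorem Q1018 : ∀ i, i < 1018 → P i := stepQ 1017 Q1017 (allL N1017 (tt N1515 (iv F4953)) (tt N706 F3456) (tt N1531 (iv F4986)) (tt N665 F3457) (tt N1320 (iv F4378)) (tt N1532 D1595) (tt N664 (iv D1080)) (tt N1318 (iv F4374)))
theorem Q1019 : ∀ i, i < 1019 → P i := stepQ 1018 Q1018 (allL N1018 (tt N1516 (iv F4955)) (tt N1533 D1596) (tt N1469 (iv F4822)) (tt N1532 (iv F4987)) (tt N1529 (iv F4982)) (tt N665 (iv D1081)) (tt N1408 (iv F4633)) (tt N1018 F3458))
theorem Q1020 : ∀ i, i < 1020 → P i := stepQ 1019 Q1019 (allL N1019 (tt N1534 D1597) (tt N666 (iv D1082)) (tt N708 F3459) (tt N667 F3460) (tt N1415 (iv F4653)) (tt N1535 D1598) (tt N1413 F4648) (tt N1530 (iv F4985)))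
theorem Q1021 : ∀ i, i < 1021 → P i := stepQ 1020 Q1020 (allL N1020 (tt N667 (iv D1083)) (tt N1518 (iv F4958)) (tt N673 F3461) (tt N1534 (iv F4994)) (tt N1536 D1599) (tt N1537 D1600) (tt N1538 D1601) (tt N1474 (iv F4837)))
theorem Q1022 : ∀ i, i < 1022 → P i := stepQ 1021 Q1021 (allL N1021 (tt N1536 (iv F4997)) (tt N668 F3462) (tt N674 F3463) (tt N1539 D1602) (tt N667 (iv D1084)) (tt N1540 D1603) (tt N1026 (iv F3476)) (tt N976 F3464))
theorem Q1023 : ∀ i, i < 1023 → P i := stepQ 1022 Q1022 (allL N1022 (tt N1537 (iv F5001)) (tt N1414 (iv F4649)) (tt N675 F3465) (tt N1535 (iv F4996)) (tt N1540 (iv F5010)) (tt N667 (iv D1085)) (tt N1541 D1604) (tt N1475 (iv F4839)))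
theorem Q1024 : ∀ i, i < 1024 → P i := stepQ 1023 Q1023 (allL N1023 (tt N1538 (iv F5003)) (tt N669 F3466) (tt N676 F3467) (tt N1413 F4647) (tt N1026 (iv F3475)) (tt N1542 D1605) (tt N667 (iv D1086)) (tt N1025 (iv F3472)))
theorem Q1025 : ∀ i, i < 1025 → P i := stepQ 1024 Q1024 (allL N1024 (tt N1522 (iv F4965)) (tt N1539 (iv F5007)) (tt N671 F3468) (tt N668 (iv D1087)) (tt N1411 (iv F4642)) (tt N669 F3469) (tt N1410 F4639) (tt N1543 D1606))
theorem Q1026 : ∀ i, i < 1026 → P i := stepQ 1025 Q1025 (allL N1025 (tt N1523 (iv F4968)) (tt N1026 (iv F3473)) (tt N670 F3470) (tt N1410 (iv F4637)) (tt N669 F3471) (tt N1411 (iv F4643)) (tt N668 (iv D1088)) (tt N1023 F3472))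
theorem Q1027 : ∀ i, i < 1027 → P i := stepQ 1026 Q1026 (allL N1026 (tt N1524 (iv F4971)) (tt N1025 F3473) (tt N672 F3474) (tt N1544 D1607) (tt N1023 F3475) (tt N1543 (iv F5017)) (tt N1021 F3476) (tt N669 (iv D1089)))
theorem Q1028 : ∀ i, i < 1028 → P i := stepQ 1027 Q1027 (allL N1027 (tt N1526 (iv F4976)) (tt N1027 F3477) (tt N1543 (iv F5015)) (tt N1027 F3478) (tt N1033 (iv F3500)) (tt N672 F3479) (tt N1545 D1608) (tt N671 (iv D1090)))
theorem Q1029 : ∀ i, i < 1029 → P i := stepQ 1028 Q1028 (allL N1028 (tt N674 F3480) (tt N1028 F3481) (tt N1536 (iv F4998)) (tt N1028 F3482) (tt N673 (iv D1091)) (tt N1546 D1609) (tt N1012 (iv F3484)) (tt N965 F3483))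
theorem Q1030 : ∀ i, i < 1030 → P i := stepQ 1029 Q1029 (allL N1029 (tt N675 F3485) (tt N1547 D1610) (tt N1537 (iv F5002)) (tt N713 F3486) (tt N1546 (iv F5026)) (tt N673 (iv D1092)) (tt N1548 D1611) (tt N1480 (iv F4854)))
theorem Q1031 : ∀ i, i < 1031 → P i := stepQ 1030 Q1030 (allL N1030 (tt N676 F3487) (tt N1030 F3488) (tt N1538 (iv F5004)) (tt N714 F3489) (tt N1012 F3490) (tt N1549 D1612) (tt N673 (iv D1093)) (tt N1010 F3491))
theorem Q1032 : ∀ i, i < 1032 → P i := stepQ 1031 Q1031 (allL N1031 (tt N1546 (iv F5024)) (tt N679 F3492) (tt N1540 (iv F5009)) (tt N1031 F3493) (tt N675 F3494) (tt N674 (iv D1094)) (tt N1550 D1613) (tt N977 F3495))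
theorem Q1033 : ∀ i, i < 1033 → P i := stepQ 1032 Q1032 (allL N1032 (tt N1548 (iv F5031)) (tt N680 F3496) (tt N1541 (iv F5012)) (tt N715 F3497) (tt N1550 (iv F5039)) (tt N1551 D1614) (tt N675 (iv D1095)) (tt N1552 D1615))
theorem Q1034 : ∀ i, i < 1034 → P i := stepQ 1033 Q1033 (allL N1033 (tt N1549 (iv F5033)) (tt N1033 F3498) (tt N1542 (iv F5013)) (tt N716 F3499) (tt N1027 F3500) (tt N676 (iv D1096)) (tt N1551 (iv F5044)) (tt N923 F3501))
theorem Q1035 : ∀ i, i < 1035 → P i := stepQ 1034 Q1034 (allL N1034 (tt N679 F3502) (tt N1553 D1616) (tt N1426 (iv F4686)) (tt N1034 F3503) (tt N678 F3504) (tt N677 (iv D1097)) (tt N1554 D1617) (tt N1484 (iv F4869)))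
theorem Q1036 : ∀ i, i < 1036 → P i := stepQ 1035 Q1035 (allL N1035 (tt N1547 (iv F5028)) (tt N678 (iv D1098)) (tt N1555 D1618) (tt N718 F3505) (tt N1553 (iv F5051)) (tt N1035 F3506) (tt N1556 D1619) (tt N1485 (iv F4872)))
theorem Q1037 : ∀ i, i < 1037 → P i := stepQ 1036 Q1036 (allL N1036 (tt N680 F3507) (tt N1556 (iv F5058)) (tt N1428 (iv F4690)) (tt N719 F3508) (tt N1554 (iv F5055)) (tt N1036 F3509) (tt N678 (iv D1099)) (tt N1557 D1620))
theorem Q1038 : ∀ i, i < 1038 → P i := stepQ 1037 Q1037 (allL N1037 (tt N1554 (iv F5053)) (tt N1550 (iv F5037)) (tt N1431 (iv F4700)) (tt N1037 F3510) (tt N680 F3511) (tt N1037 F3512) (tt N679 (iv D1100)) (tt N1558 D1621))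
theorem Q1039 : ∀ i, i < 1039 → P i := stepQ 1038 Q1038 (allL N1038 (tt N1557 (iv F5060)) (tt N1552 (iv F5046)) (tt N1432 (iv F4703)) (tt N1559 D1622) (tt N1558 (iv F5062)) (tt N1038 F3513) (tt N1490 (iv F4887)) (tt N680 (iv D1101)))
theorem Q1040 : ∀ i, i < 1040 → P i := stepQ 1039 Q1039 (allL N1039 (tt N721 F3514) (tt N684 F3515) (tt N1170 (iv F3913)) (tt N1560 D1623) (tt N682 F3516) (tt N1180 (iv F3949)) (tt N1241 (iv F4143)) (tt N681 (iv D1102)))
theorem Q1041 : ∀ i, i < 1041 → P i := stepQ 1040 Q1040 (allL N1040 (tt N688 F3517) (tt N1560 (iv F5069)) (tt N1561 D1624) (tt N684 (iv D1103)) (tt N1363 (iv F4507)) (tt N1442 (iv F4748)) (tt N1362 F4504) (tt N1512 (iv F4947)))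
theorem Q1042 : ∀ i, i < 1042 → P i := stepQ 1041 Q1041 (allL N1041 (tt N689 F3518) (tt N1041 F3519) (tt N1364 (iv F4509)) (tt N1080 (iv F3622)) (tt N687 F3520) (tt N1360 F4498) (tt N1041 F3521) (tt N686 (iv D1104)))
theorem Q1043 : ∀ i, i < 1043 → P i := stepQ 1042 Q1042 (allL N1042 (tt N1561 (iv F5070)) (tt N1562 D1625) (tt N688 (iv D1105)) (tt N1042 F3522) (tt N1371 (iv F4532)) (tt N1443 (iv F4751)) (tt N1370 F4530) (tt N1527 (iv F4979)))
theorem Q1044 : ∀ i, i < 1044 → P i := stepQ 1043 Q1043 (allL N1043 (tt N1503 (iv F4922)) (tt N1043 F3523) (tt N691 F3524) (tt N1119 (iv F3748)) (tt N690 (iv D1106)) (tt N1127 (iv F3779)) (tt N1043 F3525) (tt N1563 D1626))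
theorem Q1045 : ∀ i, i < 1045 → P i := stepQ 1044 Q1044 (allL N1044 (tt N1504 (iv F4925)) (tt N1564 D1627) (tt N692 F3526) (tt N1044 F3527) (tt N1127 F3781) (tt N690 (iv D1107)) (tt N1141 (iv F3824)) (tt N1565 D1628))
theorem Q1046 : ∀ i, i < 1046 → P i := stepQ 1045 Q1045 (allL N1045 (tt N1505 (iv F4928)) (tt N1045 F3528) (tt N693 F3529) (tt N1566 D1629) (tt N1563 (iv F5076)) (tt N1565 (iv F5082)) (tt N1567 D1630) (tt N690 (iv D1108)))
theorem Q1047 : ∀ i, i < 1047 → P i := stepQ 1046 Q1046 (allL N1046 (tt N1506 (iv F4930)) (tt N696 F3530) (tt N1563 (iv F5075)) (tt N1568 D1631) (tt N693 F3531) (tt N1183 (iv F3958)) (tt N1569 D1632) (tt N691 (iv D1109)))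
theorem Q1048 : ∀ i, i < 1048 → P i := stepQ 1047 Q1047 (allL N1047 (tt N1507 (iv F4933)) (tt N1047 F3532) (tt N1565 (iv F5081)) (tt N1570 D1633) (tt N1183 (iv F3957)) (tt N693 F3533) (tt N1571 D1634) (tt N692 (iv D1110)))
theorem Q1049 : ∀ i, i < 1049 → P i := stepQ 1048 Q1048 (allL N1048 (tt N1508 (iv F4935)) (tt N697 F3534) (tt N1572 D1635) (tt N693 (iv D1111)) (tt N1219 (iv F4066)) (tt N1570 (iv F5094)) (tt N1573 D1636) (tt N695 F3535))
theorem Q1050 : ∀ i, i < 1050 → P i := stepQ 1049 Q1049 (allL N1049 (tt N1509 (iv F4938)) (tt N698 F3536) (tt N1567 (iv F5086)) (tt N1573 (iv F5099)) (tt N1569 (iv F5091)) (tt N1574 D1637) (tt N693 (iv D1112)) (tt N1049 F3537))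
theorem Q1051 : ∀ i, i < 1051 → P i := stepQ 1050 Q1050 (allL N1050 (tt N1510 (iv F4941)) (tt N1050 F3538) (tt N1575 D1638) (tt N694 (iv D1113)) (tt N1218 (iv F4063)) (tt N695 F3539) (tt N1050 F3540) (tt N1570 (iv F5095)))
theorem Q1052 : ∀ i, i < 1052 → P i := stepQ 1051 Q1051 (allL N1051 (tt N1511 (iv F4944)) (tt N1576 D1639) (tt N695 (iv D1114)) (tt N1051 F3541) (tt N1217 (iv F4060)) (tt N1575 (iv F5102)) (tt N1216 F4058) (tt N1572 (iv F5097)))
theorem Q1053 : ∀ i, i < 1053 → P i := stepQ 1052 Q1052 (allL N1052 (tt N703 F3542) (tt N1568 (iv F5088)) (tt N1577 D1640) (tt N696 (iv D1115)) (tt N1193 (iv F3987)) (tt N1052 F3543) (tt N1578 D1641) (tt N722 F3544))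
theorem Q1054 : ∀ i, i < 1054 → P i := stepQ 1053 Q1053 (allL N1053 (tt N704 F3545) (tt N1569 (iv F5090)) (tt N1053 F3546) (tt N1578 (iv F5111)) (tt N698 F3547) (tt N1579 D1642) (tt N696 (iv D1116)) (tt N1053 F3548))
theorem Q1055 : ∀ i, i < 1055 → P i := stepQ 1054 Q1054 (allL N1054 (tt N705 F3549) (tt N1580 D1643) (tt N697 (iv D1117)) (tt N1054 F3550) (tt N1224 (iv F4079)) (tt N1054 F3551) (tt N1581 D1644) (tt N699 F3552))
theorem Q1056 : ∀ i, i < 1056 → P i := stepQ 1055 Q1055 (allL N1055 (tt N706 F3553) (tt N1573 (iv F5098)) (tt N1581 (iv F5120)) (tt N698 F3554) (tt N1154 (iv F3855)) (tt N1582 D1645) (tt N697 (iv D1118)) (tt N1152 (iv F3850)))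
theorem Q1057 : ∀ i, i < 1057 → P i := stepQ 1056 Q1056 (allL N1056 (tt N707 F3555) (tt N1583 D1646) (tt N1056 F3556) (tt N1582 (iv F5123)) (tt N1579 (iv F5114)) (tt N698 (iv D1119)) (tt N1056 F3557) (tt N1056 F3558))
theorem Q1058 : ∀ i, i < 1058 → P i := stepQ 1057 Q1057 (allL N1057 (tt N1584 D1647) (tt N699 (iv D1120)) (tt N1576 (iv F5104)) (tt N700 F3559) (tt N1223 (iv F4076)) (tt N1585 D1648) (tt N1221 F4071) (tt N1580 (iv F5118)))
theorem Q1059 : ∀ i, i < 1059 → P i := stepQ 1058 Q1058 (allL N1058 (tt N700 (iv D1121)) (tt N709 F3560) (tt N1058 F3561) (tt N1584 (iv F5128)) (tt N1058 F3562) (tt N1586 D1649) (tt N1587 D1650) (tt N1058 F3563))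
theorem Q1060 : ∀ i, i < 1060 → P i := stepQ 1059 Q1059 (allL N1059 (tt N1586 (iv F5131)) (tt N1059 F3564) (tt N1059 F3565) (tt N1585 (iv F5130)) (tt N1059 F3566) (tt N700 (iv D1122)) (tt N1588 D1651) (tt N1059 F3567))
theorem Q1061 : ∀ i, i < 1061 → P i := stepQ 1060 Q1060 (allL N1060 (tt N1587 (iv F5135)) (tt N701 F3568) (tt N1060 F3569) (tt N1221 F4070) (tt N1060 F3570) (tt N1589 D1652) (tt N700 (iv D1123)) (tt N1590 D1653))
theorem Q1062 : ∀ i, i < 1062 → P i := stepQ 1061 Q1061 (allL N1061 (tt N712 F3571) (tt N1590 (iv F5144)) (tt N702 F3572) (tt N1591 D1654) (tt N1061 F3573) (tt N1230 (iv F4099)) (tt N1061 F3574) (tt N701 (iv D1124)))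
theorem Q1063 : ∀ i, i < 1063 → P i := stepQ 1062 Q1062 (allL N1062 (tt N1577 (iv F5106)) (tt N1592 D1655) (tt N703 (iv D1125)) (tt N1062 F3575) (tt N1378 (iv F4550)) (tt N1062 F3576) (tt N1593 D1656) (tt N723 F3577))
theorem Q1064 : ∀ i, i < 1064 → P i := stepQ 1063 Q1063 (allL N1063 (tt N1578 (iv F5110)) (tt N1528 (iv F4980)) (tt N1593 (iv F5153)) (tt N704 F3578) (tt N1292 (iv F4308)) (tt N1594 D1657) (tt N703 (iv D1126)) (tt N1291 (iv F4306)))
theorem Q1065 : ∀ i, i < 1065 → P i := stepQ 1064 Q1064 (allL N1064 (tt N1579 (iv F5112)) (tt N1595 D1658) (tt N1064 F3579) (tt N1594 (iv F5155)) (tt N707 F3580) (tt N704 (iv D1127)) (tt N1064 F3581) (tt N1064 F3582))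
theorem Q1066 : ∀ i, i < 1066 → P i := stepQ 1065 Q1065 (allL N1065 (tt N1596 D1659) (tt N705 (iv D1128)) (tt N1530 (iv F4984)) (tt N1065 F3583) (tt N1423 (iv F4673)) (tt N1473 F4832) (tt N1597 D1660) (tt N708 F3584))
theorem Q1067 : ∀ i, i < 1067 → P i := stepQ 1066 Q1066 (allL N1066 (tt N1581 (iv F5119)) (tt N1597 (iv F5164)) (tt N706 F3585) (tt N1066 F3586) (tt N1329 (iv F4400)) (tt N1598 D1661) (tt N705 (iv D1129)) (tt N1327 (iv F4395)))
theorem Q1068 : ∀ i, i < 1068 → P i := stepQ 1067 Q1067 (allL N1067 (tt N1582 (iv F5122)) (tt N1599 D1662) (tt N1598 (iv F5166)) (tt N707 F3587) (tt N1332 (iv F4409)) (tt N706 (iv D1130)) (tt N1067 F3588) (tt N1330 (iv F4405)))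
theorem Q1069 : ∀ i, i < 1069 → P i := stepQ 1068 Q1068 (allL N1068 (tt N1600 D1663) (tt N707 (iv D1131)) (tt N1601 D1664) (tt N1599 (iv F5169)) (tt N1595 (iv F5159)) (tt N1533 (iv F4991)) (tt N1068 F3589) (tt N1068 F3590))
theorem Q1070 : ∀ i, i < 1070 → P i := stepQ 1069 Q1069 (allL N1069 (tt N708 (iv D1132)) (tt N1584 (iv F5127)) (tt N1534 (iv F4993)) (tt N709 F3591) (tt N1419 (iv F4663)) (tt N1602 D1665) (tt N1417 F4658) (tt N1596 (iv F5163)))
theorem Q1071 : ∀ i, i < 1071 → P i := stepQ 1070 Q1070 (allL N1070 (tt N1602 (iv F5178)) (tt N1070 F3592) (tt N1535 (iv F4995)) (tt N710 F3593) (tt N1422 (iv F4671)) (tt N708 (iv D1133)) (tt N1603 D1666) (tt N1473 F4833))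
theorem Q1072 : ∀ i, i < 1072 → P i := stepQ 1071 Q1071 (allL N1071 (tt N710 F3594) (tt N1604 D1667) (tt N713 F3595) (tt N1602 (iv F5179)) (tt N1071 F3596) (tt N709 (iv D1134)) (tt N1605 D1668) (tt N1071 F3597))
theorem Q1073 : ∀ i, i < 1073 → P i := stepQ 1072 Q1072 (allL N1072 (tt N711 F3598) (tt N1587 (iv F5136)) (tt N714 F3599) (tt N1417 F4657) (tt N1072 F3600) (tt N1606 D1669) (tt N709 (iv D1135)) (tt N1607 D1670))
theorem Q1074 : ∀ i, i < 1074 → P i := stepQ 1073 Q1073 (allL N1073 (tt N1605 (iv F5185)) (tt N1073 F3601) (tt N715 F3602) (tt N1603 (iv F5181)) (tt N1073 F3603) (tt N1608 D1671) (tt N710 (iv D1136)) (tt N1609 D1672))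
theorem Q1075 : ∀ i, i < 1075 → P i := stepQ 1074 Q1074 (allL N1074 (tt N1606 (iv F5188)) (tt N1429 (iv F4693)) (tt N716 F3604) (tt N1420 (iv F4665)) (tt N1074 F3605) (tt N711 (iv D1137)) (tt N1608 (iv F5197)) (tt N1610 D1673))
theorem Q1076 : ∀ i, i < 1076 → P i := stepQ 1075 Q1075 (allL N1075 (tt N1607 (iv F5191)) (tt N712 F3606) (tt N717 F3607) (tt N1611 D1674) (tt N1075 F3608) (tt N1610 (iv F5204)) (tt N1075 F3609) (tt N711 (iv D1138)))
theorem Q1077 : ∀ i, i < 1077 → P i := stepQ 1076 Q1076 (allL N1076 (tt N1591 (iv F5148)) (tt N1611 (iv F5207)) (tt N1076 F3610) (tt N712 (iv D1139)) (tt N1612 D1675) (tt N1343 (iv F4442)) (tt N1076 F3611) (tt N1326 (iv F4392)))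
theorem Q1078 : ∀ i, i < 1078 → P i := stepQ 1077 Q1077 (allL N1077 (tt N718 F3612) (tt N713 (iv D1140)) (tt N1613 D1676) (tt N1547 (iv F5029)) (tt N1077 F3613) (tt N1077 F3614) (tt N1614 D1677) (tt N1077 F3615))
theorem Q1079 : ∀ i, i < 1079 → P i := stepQ 1078 Q1078 (allL N1078 (tt N715 F3616) (tt N1614 (iv F5221)) (tt N1605 (iv F5186)) (tt N1548 (iv F5032)) (tt N1078 F3617) (tt N1615 D1678) (tt N713 (iv D1141)) (tt N1616 D1679))
theorem Q1080 : ∀ i, i < 1080 → P i := stepQ 1079 Q1079 (allL N1079 (tt N716 F3618) (tt N1617 D1680) (tt N1606 (iv F5189)) (tt N1549 (iv F5034)) (tt N1079 F3619) (tt N714 (iv D1142)) (tt N1615 (iv F5225)) (tt N1618 D1681))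
theorem Q1081 : ∀ i, i < 1081 → P i := stepQ 1080 Q1080 (allL N1080 (tt N717 F3620) (tt N1080 F3621) (tt N1607 (iv F5192)) (tt N1041 F3622) (tt N1080 F3623) (tt N1618 (iv F5235)) (tt N1080 F3624) (tt N714 (iv D1143)))
theorem Q1082 : ∀ i, i < 1082 → P i := stepQ 1081 Q1081 (allL N1081 (tt N1615 (iv F5223)) (tt N1081 F3625) (tt N1608 (iv F5195)) (tt N1551 (iv F5042)) (tt N1081 F3626) (tt N715 (iv D1144)) (tt N716 F3627) (tt N1619 D1682))
theorem Q1083 : ∀ i, i < 1083 → P i := stepQ 1082 Q1082 (allL N1082 (tt N1616 (iv F5226)) (tt N720 F3628) (tt N1609 (iv F5199)) (tt N1620 D1683) (tt N1082 F3629) (tt N1619 (iv F5240)) (tt N1082 F3630) (tt N715 (iv D1145)))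
theorem Q1084 : ∀ i, i < 1084 → P i := stepQ 1083 Q1083 (allL N1083 (tt N1618 (iv F5232)) (tt N1083 F3631) (tt N1610 (iv F5202)) (tt N894 F3632) (tt N1083 F3633) (tt N717 F3634) (tt N893 (iv F3635)) (tt N716 (iv D1146)))
theorem Q1085 : ∀ i, i < 1085 → P i := stepQ 1084 Q1084 (allL N1084 (tt N1613 (iv F5216)) (tt N1084 F3636) (tt N718 (iv D1147)) (tt N1621 D1684) (tt N1084 F3637) (tt N1084 F3638) (tt N1622 D1685) (tt N1084 F3639))
theorem Q1086 : ∀ i, i < 1086 → P i := stepQ 1085 Q1085 (allL N1085 (tt N1614 (iv F5220)) (tt N719 F3640) (tt N1622 (iv F5249)) (tt N1556 (iv F5059)) (tt N1085 F3641) (tt N1623 D1686) (tt N718 (iv D1148)) (tt N1624 D1687))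
theorem Q1087 : ∀ i, i < 1087 → P i := stepQ 1086 Q1086 (allL N1086 (tt N720 F3642) (tt N1624 (iv F5254)) (tt N1086 F3643) (tt N1625 D1688) (tt N1086 F3644) (tt N1086 F3645) (tt N1086 F3646) (tt N719 (iv D1149)))
theorem Q1088 : ∀ i, i < 1088 → P i := stepQ 1087 Q1087 (allL N1087 (tt N1625 (iv F5257)) (tt N1620 (iv F5242)) (tt N1626 D1689) (tt N720 (iv D1150)) (tt N1627 D1690) (tt N1087 F3647) (tt N1087 F3648) (tt N1559 (iv F5067)))
theorem Q1089 : ∀ i, i < 1089 → P i := stepQ 1088 Q1088 (allL N1088 (tt N1560 (iv F5068)) (tt N722 F3649) (tt N1628 D1691) (tt N721 (iv D1151)) (tt N1188 (iv F3970)) (tt N1184 (iv F3960)) (tt N1187 F3967) (tt N1568 (iv F5089)))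
theorem Q1090 : ∀ i, i < 1090 → P i := stepQ 1089 Q1089 (allL N1089 (tt N723 F3650) (tt N1629 D1692) (tt N722 (iv D1152)) (tt N726 F3651) (tt N1192 (iv F3983)) (tt N1089 F3652) (tt N1191 (iv F3979)) (tt N1577 (iv F5109)))
theorem Q1091 : ∀ i, i < 1091 → P i := stepQ 1090 Q1090 (allL N1090 (tt N1630 D1693) (tt N723 (iv D1153)) (tt N1562 (iv F5072)) (tt N728 F3653) (tt N1377 (iv F4548)) (tt N1631 D1694) (tt N1375 F4543) (tt N1592 (iv F5152)))
theorem Q1092 : ∀ i, i < 1092 → P i := stepQ 1091 Q1091 (allL N1091 (tt N1091 F3654) (tt N1632 D1695) (tt N724 (iv D1154)) (tt N1173 (iv F3923)) (tt N1091 F3655) (tt N1169 (iv F3908)) (tt N1633 D1696) (tt N1091 F3656))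
theorem Q1093 : ∀ i, i < 1093 → P i := stepQ 1092 Q1092 (allL N1092 (tt N1092 F3657) (tt N727 F3658) (tt N1633 (iv F5274)) (tt N725 F3659) (tt N1092 F3660) (tt N1092 F3661) (tt N724 (iv D1155)) (tt N1634 D1697))
theorem Q1094 : ∀ i, i < 1094 → P i := stepQ 1093 Q1093 (allL N1093 (tt N1635 D1698) (tt N726 (iv D1156)) (tt N1632 (iv F5270)) (tt N1629 (iv F5266)) (tt N1093 F3662) (tt N1636 D1699) (tt N1637 D1700) (tt N1093 F3663))
theorem Q1095 : ∀ i, i < 1095 → P i := stepQ 1094 Q1094 (allL N1094 (tt N729 F3664) (tt N1637 (iv F5289)) (tt N727 F3665) (tt N1191 F3978) (tt N1094 F3666) (tt N1197 (iv F3998)) (tt N726 (iv D1157)) (tt N1638 D1701))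
theorem Q1096 : ∀ i, i < 1096 → P i := stepQ 1095 Q1095 (allL N1095 (tt N730 F3667) (tt N1634 (iv F5278)) (tt N1638 (iv F5292)) (tt N1095 F3668) (tt N1095 F3669) (tt N1242 (iv F4149)) (tt N1095 F3670) (tt N727 (iv D1158)))
theorem Q1097 : ∀ i, i < 1097 → P i := stepQ 1096 Q1096 (allL N1096 (tt N728 (iv D1159)) (tt N1635 (iv F5283)) (tt N1096 F3671) (tt N1630 (iv F5267)) (tt N1096 F3672) (tt N1639 D1702) (tt N1640 D1703) (tt N1096 F3673))
theorem Q1098 : ∀ i, i < 1098 → P i := stepQ 1097 Q1097 (allL N1097 (tt N1639 (iv F5295)) (tt N1097 F3674) (tt N1097 F3675) (tt N1631 (iv F5269)) (tt N1097 F3676) (tt N728 (iv D1160)) (tt N1641 D1704) (tt N1097 F3677))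
theorem Q1099 : ∀ i, i < 1099 → P i := stepQ 1098 Q1098 (allL N1098 (tt N1640 (iv F5299)) (tt N729 F3678) (tt N1098 F3679) (tt N1375 F4542) (tt N1098 F3680) (tt N1642 D1705) (tt N728 (iv D1161)) (tt N1643 D1706))
theorem Q1100 : ∀ i, i < 1100 → P i := stepQ 1099 Q1099 (allL N1099 (tt N1638 (iv F5291)) (tt N1643 (iv F5307)) (tt N730 F3681) (tt N1644 D1707) (tt N1099 F3682) (tt N1384 (iv F4568)) (tt N1099 F3683) (tt N729 (iv D1162)))
theorem Q1101 : ∀ i, i < 1101 → P i := stepQ 1100 Q1100 (allL N1100 (tt N731 (iv D1163)) (tt N1100 F3684) (tt N1645 D1708) (tt N1100 F3685) (tt N1100 F3686) (tt N734 F3687) (tt N1100 F3688) (tt N1646 D1709))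
theorem Q1102 : ∀ i, i < 1102 → P i := stepQ 1101 Q1101 (allL N1101 (tt N1645 (iv F5313)) (tt N1101 F3689) (tt N731 (iv D1164)) (tt N1647 D1710) (tt N1101 F3690) (tt N735 F3691) (tt N1101 F3692) (tt N1648 D1711))
theorem Q1103 : ∀ i, i < 1103 → P i := stepQ 1102 Q1102 (allL N1102 (tt N1646 (iv F5317)) (tt N732 F3693) (tt N1648 (iv F5326)) (tt N1649 D1712) (tt N1102 F3694) (tt N736 F3695) (tt N1650 D1713) (tt N731 (iv D1165)))
theorem Q1104 : ∀ i, i < 1104 → P i := stepQ 1103 Q1103 (allL N1103 (tt N1103 F3696) (tt N1649 (iv F5329)) (tt N1106 (iv F3709)) (tt N732 (iv D1166)) (tt N1105 F3706) (tt N733 F3697) (tt N1651 D1714) (tt N1103 F3698))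
theorem Q1105 : ∀ i, i < 1105 → P i := stepQ 1104 Q1104 (allL N1104 (tt N1104 F3699) (tt N1650 (iv F5332)) (tt N1104 F3700) (tt N1651 (iv F5337)) (tt N1104 F3701) (tt N1122 (iv F3761)) (tt N732 (iv D1167)) (tt N1104 F3702))
theorem Q1106 : ∀ i, i < 1106 → P i := stepQ 1105 Q1105 (allL N1105 (tt N1105 F3703) (tt N1652 D1715) (tt N733 (iv D1168)) (tt N1105 F3704) (tt N1103 (iv F3706)) (tt N1106 (iv F3711)) (tt N1123 (iv F3765)) (tt N1105 F3705))
theorem Q1107 : ∀ i, i < 1107 → P i := stepQ 1106 Q1106 (allL N1106 (tt N1106 F3707) (tt N740 F3708) (tt N1103 F3709) (tt N1106 F3710) (tt N733 (iv D1169)) (tt N1105 F3711) (tt N1124 (iv F3770)) (tt N1106 F3712))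
theorem Q1108 : ∀ i, i < 1108 → P i := stepQ 1107 Q1107 (allL N1107 (tt N735 F3713) (tt N1653 D1716) (tt N734 (iv D1170)) (tt N1654 D1717) (tt N1107 F3714) (tt N1645 (iv F5315)) (tt N1167 (iv F3900)) (tt N1655 D1718))
theorem Q1109 : ∀ i, i < 1109 → P i := stepQ 1108 Q1108 (allL N1108 (tt N736 F3715) (tt N832 F3716) (tt N1655 (iv F5350)) (tt N1656 D1719) (tt N1108 F3717) (tt N1646 (iv F5320)) (tt N1657 D1720) (tt N734 (iv D1171)))
theorem Q1110 : ∀ i, i < 1110 → P i := stepQ 1109 Q1109 (allL N1109 (tt N1654 (iv F5347)) (tt N753 F3718) (tt N1109 F3719) (tt N735 (iv D1172)) (tt N1658 D1721) (tt N1647 (iv F5323)) (tt N1168 (iv F3904)) (tt N1659 D1722))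
theorem Q1111 : ∀ i, i < 1111 → P i := stepQ 1110 Q1110 (allL N1110 (tt N1655 (iv F5349)) (tt N754 F3720) (tt N736 F3721) (tt N1660 D1723) (tt N1110 F3722) (tt N1648 (iv F5328)) (tt N1661 D1724) (tt N735 (iv D1173)))
theorem Q1112 : ∀ i, i < 1112 → P i := stepQ 1111 Q1111 (allL N1111 (tt N1656 (iv F5352)) (tt N737 F3723) (tt N1662 D1725) (tt N736 (iv D1174)) (tt N1663 D1726) (tt N1649 (iv F5330)) (tt N1664 D1727) (tt N1111 F3724))
theorem Q1113 : ∀ i, i < 1113 → P i := stepQ 1112 Q1112 (allL N1112 (tt N1657 (iv F5355)) (tt N738 F3725) (tt N1661 (iv F5366)) (tt N1664 (iv F5374)) (tt N1112 F3726) (tt N1665 D1728) (tt N736 (iv D1175)) (tt N1155 (iv F3859)))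
theorem Q1114 : ∀ i, i < 1114 → P i := stepQ 1113 Q1113 (allL N1113 (tt N837 F3727) (tt N1666 D1729) (tt N737 (iv D1176)) (tt N757 F3728) (tt N1667 D1730) (tt N739 F3729) (tt N1668 D1731) (tt N1113 F3730))
theorem Q1115 : ∀ i, i < 1115 → P i := stepQ 1114 Q1114 (allL N1114 (tt N838 F3731) (tt N1663 (iv F5369)) (tt N1667 (iv F5379)) (tt N1114 F3732) (tt N737 (iv D1177)) (tt N740 F3733) (tt N1669 D1732) (tt N1114 F3734))
theorem Q1116 : ∀ i, i < 1116 → P i := stepQ 1115 Q1115 (allL N1115 (tt N839 F3735) (tt N1664 (iv F5373)) (tt N1668 (iv F5383)) (tt N738 F3736) (tt N1669 (iv F5387)) (tt N1133 (iv F3798)) (tt N737 (iv D1178)) (tt N1670 D1733))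
theorem Q1117 : ∀ i, i < 1117 → P i := stepQ 1116 Q1116 (allL N1116 (tt N1671 D1734) (tt N739 (iv D1179)) (tt N1652 (iv F5340)) (tt N761 F3737) (tt N1672 D1735) (tt N1673 D1736) (tt N1134 (iv F3799)) (tt N1116 F3738))
theorem Q1118 : ∀ i, i < 1118 → P i := stepQ 1117 Q1117 (allL N1117 (tt N841 F3739) (tt N1672 (iv F5393)) (tt N740 F3740) (tt N1674 D1737) (tt N739 (iv D1180)) (tt N1667 (iv F5380)) (tt N1135 (iv F3803)) (tt N1117 F3741))
theorem Q1119 : ∀ i, i < 1119 → P i := stepQ 1118 Q1118 (allL N1118 (tt N741 (iv D1181)) (tt N1118 F3742) (tt N1675 D1738) (tt N770 F3743) (tt N1118 F3744) (tt N744 F3745) (tt N1118 F3746) (tt N1676 D1739))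
theorem Q1120 : ∀ i, i < 1120 → P i := stepQ 1119 Q1119 (allL N1119 (tt N1675 (iv F5404)) (tt N1119 F3747) (tt N741 (iv D1182)) (tt N1043 F3748) (tt N1119 F3749) (tt N745 F3750) (tt N1119 F3751) (tt N1677 D1740))
theorem Q1121 : ∀ i, i < 1121 → P i := stepQ 1120 Q1120 (allL N1120 (tt N1676 (iv F5409)) (tt N742 F3752) (tt N1677 (iv F5414)) (tt N1678 D1741) (tt N1120 F3753) (tt N746 F3754) (tt N1679 D1742) (tt N741 (iv D1183)))
theorem Q1122 : ∀ i, i < 1122 → P i := stepQ 1121 Q1121 (allL N1121 (tt N1121 F3755) (tt N1678 (iv F5417)) (tt N1680 D1743) (tt N742 (iv D1184)) (tt N1681 D1744) (tt N743 F3756) (tt N1682 D1745) (tt N772 F3757))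
theorem Q1123 : ∀ i, i < 1123 → P i := stepQ 1122 Q1122 (allL N1122 (tt N1122 F3758) (tt N1679 (iv F5420)) (tt N1122 F3759) (tt N1682 (iv F5434)) (tt N1122 F3760) (tt N1104 F3761) (tt N742 (iv D1185)) (tt N1122 F3762))
theorem Q1124 : ∀ i, i < 1124 → P i := stepQ 1123 Q1123 (allL N1123 (tt N1123 F3763) (tt N1683 D1746) (tt N743 (iv D1186)) (tt N1123 F3764) (tt N1651 (iv F5338)) (tt N1680 (iv F5425)) (tt N1105 F3765) (tt N774 F3766))
theorem Q1125 : ∀ i, i < 1125 → P i := stepQ 1124 Q1124 (allL N1124 (tt N1124 F3767) (tt N750 F3768) (tt N1651 (iv F5336)) (tt N1124 F3769) (tt N743 (iv D1187)) (tt N1681 (iv F5429)) (tt N1106 F3770) (tt N775 F3771))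
theorem Q1126 : ∀ i, i < 1126 → P i := stepQ 1125 Q1125 (allL N1125 (tt N745 F3772) (tt N1684 D1747) (tt N744 (iv D1188)) (tt N1685 D1748) (tt N1125 F3773) (tt N1675 (iv F5407)) (tt N751 F3774) (tt N1686 D1749))
theorem Q1127 : ∀ i, i < 1127 → P i := stepQ 1126 Q1126 (allL N1126 (tt N746 F3775) (tt N843 F3776) (tt N1686 (iv F5450)) (tt N1687 D1750) (tt N1126 F3777) (tt N1676 (iv F5412)) (tt N1688 D1751) (tt N744 (iv D1189)))
theorem Q1128 : ∀ i, i < 1128 → P i := stepQ 1127 Q1127 (allL N1127 (tt N1685 (iv F5444)) (tt N1168 (iv F3901)) (tt N778 F3778) (tt N745 (iv D1190)) (tt N1044 (iv F3781)) (tt N1043 F3779) (tt N753 F3780) (tt N1689 D1752))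
theorem Q1129 : ∀ i, i < 1129 → P i := stepQ 1128 Q1128 (allL N1128 (tt N1686 (iv F5449)) (tt N1166 (iv F3893)) (tt N746 F3782) (tt N1690 D1753) (tt N1128 F3783) (tt N1677 (iv F5416)) (tt N1691 D1754) (tt N745 (iv D1191)))
theorem Q1130 : ∀ i, i < 1130 → P i := stepQ 1129 Q1129 (allL N1129 (tt N1687 (iv F5452)) (tt N747 F3784) (tt N1692 D1755) (tt N746 (iv D1192)) (tt N1693 D1756) (tt N1678 (iv F5418)) (tt N1694 D1757) (tt N780 F3785))
theorem Q1131 : ∀ i, i < 1131 → P i := stepQ 1130 Q1130 (allL N1130 (tt N1688 (iv F5455)) (tt N748 F3786) (tt N1691 (iv F5462)) (tt N1694 (iv F5470)) (tt N1130 F3787) (tt N1695 D1758) (tt N746 (iv D1193)) (tt N756 F3788))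
theorem Q1132 : ∀ i, i < 1132 → P i := stepQ 1131 Q1131 (allL N1131 (tt N848 F3789) (tt N1696 D1759) (tt N747 (iv D1194)) (tt N1162 (iv F3880)) (tt N1697 D1760) (tt N749 F3790) (tt N1698 D1761) (tt N782 F3791))
theorem Q1133 : ∀ i, i < 1133 → P i := stepQ 1132 Q1132 (allL N1132 (tt N849 F3792) (tt N1693 (iv F5466)) (tt N1697 (iv F5476)) (tt N1132 F3793) (tt N747 (iv D1195)) (tt N750 F3794) (tt N1699 D1762) (tt N783 F3795))
theorem Q1134 : ∀ i, i < 1134 → P i := stepQ 1133 Q1133 (allL N1133 (tt N850 F3796) (tt N1694 (iv F5469)) (tt N1698 (iv F5480)) (tt N748 F3797) (tt N1699 (iv F5484)) (tt N1115 F3798) (tt N747 (iv D1196)) (tt N1700 D1763))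
theorem Q1135 : ∀ i, i < 1135 → P i := stepQ 1134 Q1134 (allL N1134 (tt N1701 D1764) (tt N749 (iv D1197)) (tt N1683 (iv F5437)) (tt N1159 (iv F3870)) (tt N1702 D1765) (tt N1703 D1766) (tt N1116 F3799) (tt N785 F3800))
theorem Q1136 : ∀ i, i < 1136 → P i := stepQ 1135 Q1135 (allL N1135 (tt N852 F3801) (tt N1702 (iv F5495)) (tt N750 F3802) (tt N1704 D1767) (tt N749 (iv D1198)) (tt N1697 (iv F5477)) (tt N1117 F3803) (tt N786 F3804))
theorem Q1137 : ∀ i, i < 1137 → P i := stepQ 1136 Q1136 (allL N1136 (tt N1653 (iv F5344)) (tt N751 (iv D1199)) (tt N853 F3805) (tt N1705 D1768) (tt N1136 F3806) (tt N1706 D1769) (tt N1684 (iv F5443)) (tt N1707 D1770))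
theorem Q1138 : ∀ i, i < 1138 → P i := stepQ 1137 Q1137 (allL N1137 (tt N753 F3807) (tt N1705 (iv F5502)) (tt N788 F3808) (tt N751 (iv D1200)) (tt N1708 D1771) (tt N1137 F3809) (tt N1685 (iv F5447)) (tt N1709 D1772))
theorem Q1139 : ∀ i, i < 1139 → P i := stepQ 1138 Q1138 (allL N1138 (tt N754 F3810) (tt N1707 (iv F5506)) (tt N752 F3811) (tt N1710 D1773) (tt N1138 F3812) (tt N1138 F3813) (tt N1711 D1774) (tt N751 (iv D1201)))
theorem Q1140 : ∀ i, i < 1140 → P i := stepQ 1139 Q1139 (allL N1139 (tt N755 F3814) (tt N856 F3815) (tt N1712 D1775) (tt N752 (iv D1202)) (tt N1713 D1776) (tt N1139 F3816) (tt N1714 D1777) (tt N790 F3817))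
theorem Q1141 : ∀ i, i < 1141 → P i := stepQ 1140 Q1140 (allL N1140 (tt N756 F3818) (tt N857 F3819) (tt N1711 (iv F5520)) (tt N1714 (iv F5532)) (tt N1140 F3820) (tt N1715 D1778) (tt N752 (iv D1203)) (tt N1688 (iv F5458)))
theorem Q1142 : ∀ i, i < 1142 → P i := stepQ 1141 Q1141 (allL N1141 (tt N1708 (iv F5509)) (tt N1658 (iv F5358)) (tt N792 F3821) (tt N1141 F3822) (tt N753 (iv D1204)) (tt N1141 F3823) (tt N1044 F3824) (tt N1716 D1779))
theorem Q1143 : ∀ i, i < 1143 → P i := stepQ 1142 Q1142 (allL N1142 (tt N1709 (iv F5514)) (tt N1659 (iv F5362)) (tt N793 F3825) (tt N1717 D1780) (tt N1716 (iv F5537)) (tt N1142 F3826) (tt N1718 D1781) (tt N753 (iv D1205)))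
theorem Q1144 : ∀ i, i < 1144 → P i := stepQ 1143 Q1143 (allL N1143 (tt N1710 (iv F5517)) (tt N1660 (iv F5364)) (tt N1719 D1782) (tt N754 (iv D1206)) (tt N1720 D1783) (tt N1143 F3827) (tt N1721 D1784) (tt N1717 (iv F5540)))
theorem Q1145 : ∀ i, i < 1145 → P i := stepQ 1144 Q1144 (allL N1144 (tt N1711 (iv F5519)) (tt N1661 (iv F5365)) (tt N756 F3828) (tt N1721 (iv F5546)) (tt N1144 F3829) (tt N1722 D1785) (tt N754 (iv D1207)) (tt N1691 (iv F5464)))
theorem Q1146 : ∀ i, i < 1146 → P i := stepQ 1145 Q1145 (allL N1145 (tt N1712 (iv F5522)) (tt N1723 D1786) (tt N755 (iv D1208)) (tt N1719 (iv F5542)) (tt N1724 D1787) (tt N1145 F3830) (tt N1725 D1788) (tt N796 F3831))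
theorem Q1147 : ∀ i, i < 1147 → P i := stepQ 1146 Q1146 (allL N1146 (tt N1713 (iv F5525)) (tt N758 F3832) (tt N1724 (iv F5552)) (tt N1146 F3833) (tt N755 (iv D1209)) (tt N1146 F3834) (tt N1726 D1789) (tt N797 F3835))
theorem Q1148 : ∀ i, i < 1148 → P i := stepQ 1147 Q1147 (allL N1147 (tt N1714 (iv F5530)) (tt N759 F3836) (tt N1725 (iv F5555)) (tt N756 F3837) (tt N1726 (iv F5558)) (tt N1727 D1790) (tt N755 (iv D1210)) (tt N1728 D1791))
theorem Q1149 : ∀ i, i < 1149 → P i := stepQ 1148 Q1148 (allL N1148 (tt N1715 (iv F5533)) (tt N1729 D1792) (tt N1722 (iv F5547)) (tt N1727 (iv F5560)) (tt N1148 F3838) (tt N756 (iv D1211)) (tt N1148 F3839) (tt N1695 (iv F5473)))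
theorem Q1150 : ∀ i, i < 1150 → P i := stepQ 1149 Q1149 (allL N1149 (tt N1730 D1793) (tt N757 (iv D1212)) (tt N1723 (iv F5550)) (tt N1666 (iv F5376)) (tt N1731 D1794) (tt N1732 D1795) (tt N1733 D1796) (tt N800 F3840))
theorem Q1151 : ∀ i, i < 1151 → P i := stepQ 1150 Q1150 (allL N1150 (tt N867 F3841) (tt N1731 (iv F5571)) (tt N758 F3842) (tt N1734 D1797) (tt N757 (iv D1213)) (tt N762 F3843) (tt N1735 D1798) (tt N801 F3844))
theorem Q1152 : ∀ i, i < 1152 → P i := stepQ 1151 Q1151 (allL N1151 (tt N868 F3845) (tt N1733 (iv F5575)) (tt N759 F3846) (tt N1668 (iv F5384)) (tt N1735 (iv F5582)) (tt N1736 D1799) (tt N757 (iv D1214)) (tt N1737 D1800))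
theorem Q1153 : ∀ i, i < 1153 → P i := stepQ 1152 Q1152 (allL N1152 (tt N869 F3847) (tt N1726 (iv F5556)) (tt N1735 (iv F5581)) (tt N1152 F3848) (tt N759 F3849) (tt N1738 D1801) (tt N758 (iv D1215)) (tt N1055 F3850))
theorem Q1154 : ∀ i, i < 1154 → P i := stepQ 1153 Q1153 (allL N1153 (tt N870 F3851) (tt N1739 D1802) (tt N1736 (iv F5585)) (tt N760 F3852) (tt N1738 (iv F5594)) (tt N759 (iv D1216)) (tt N765 F3853) (tt N1740 D1803))
theorem Q1155 : ∀ i, i < 1155 → P i := stepQ 1154 Q1154 (allL N1154 (tt N871 F3854) (tt N1728 (iv F5562)) (tt N1737 (iv F5589)) (tt N1700 (iv F5488)) (tt N1055 F3855) (tt N1740 (iv F5602)) (tt N803 F3856) (tt N759 (iv D1217)))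
theorem Q1156 : ∀ i, i < 1156 → P i := stepQ 1155 Q1155 (allL N1155 (tt N1741 D1804) (tt N760 (iv D1218)) (tt N1742 D1805) (tt N1739 (iv F5597)) (tt N1155 F3857) (tt N1729 (iv F5566)) (tt N766 F3858) (tt N1112 F3859))
theorem Q1157 : ∀ i, i < 1157 → P i := stepQ 1156 Q1156 (allL N1156 (tt N761 (iv D1219)) (tt N873 F3860) (tt N1156 F3861) (tt N1671 (iv F5391)) (tt N1743 D1806) (tt N1744 D1807) (tt N1745 D1808) (tt N804 F3862))
theorem Q1158 : ∀ i, i < 1158 → P i := stepQ 1157 Q1157 (allL N1157 (tt N1743 (iv F5612)) (tt N762 F3863) (tt N1157 F3864) (tt N1746 D1809) (tt N761 (iv D1220)) (tt N1747 D1810) (tt N1748 D1811) (tt N805 F3865))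
theorem Q1159 : ∀ i, i < 1159 → P i := stepQ 1158 Q1158 (allL N1158 (tt N1744 (iv F5616)) (tt N1732 (iv F5573)) (tt N1158 F3866) (tt N1673 (iv F5398)) (tt N1747 (iv F5626)) (tt N761 (iv D1221)) (tt N1749 D1812) (tt N806 F3867))
theorem Q1160 : ∀ i, i < 1160 → P i := stepQ 1159 Q1159 (allL N1159 (tt N1745 (iv F5619)) (tt N763 F3868) (tt N1159 F3869) (tt N1134 F3870) (tt N1748 (iv F5630)) (tt N1750 D1813) (tt N761 (iv D1222)) (tt N1159 F3871))
theorem Q1161 : ∀ i, i < 1161 → P i := stepQ 1160 Q1160 (allL N1160 (tt N877 F3872) (tt N1746 (iv F5624)) (tt N1160 F3873) (tt N762 (iv D1223)) (tt N1674 (iv F5403)) (tt N1734 (iv F5578)) (tt N1751 D1814) (tt N1752 D1815))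
theorem Q1162 : ∀ i, i < 1162 → P i := stepQ 1161 Q1161 (allL N1161 (tt N878 F3874) (tt N1748 (iv F5628)) (tt N764 F3875) (tt N1751 (iv F5638)) (tt N763 F3876) (tt N1753 D1816) (tt N762 (iv D1224)) (tt N1161 F3877))
theorem Q1163 : ∀ i, i < 1163 → P i := stepQ 1162 Q1162 (allL N1162 (tt N879 F3878) (tt N1754 D1817) (tt N765 F3879) (tt N1131 F3880) (tt N1753 (iv F5646)) (tt N763 (iv D1225)) (tt N1736 (iv F5587)) (tt N1162 F3881))
theorem Q1164 : ∀ i, i < 1164 → P i := stepQ 1163 Q1163 (allL N1163 (tt N880 F3882) (tt N1755 D1818) (tt N1753 (iv F5645)) (tt N1163 F3883) (tt N765 F3884) (tt N764 (iv D1226)) (tt N1738 (iv F5595)) (tt N1163 F3885))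
theorem Q1165 : ∀ i, i < 1165 → P i := stepQ 1164 Q1164 (allL N1164 (tt N1756 D1819) (tt N765 (iv D1227)) (tt N1757 D1820) (tt N766 F3886) (tt N1755 (iv F5651)) (tt N1164 F3887) (tt N1739 (iv F5598)) (tt N1164 F3888))
theorem Q1166 : ∀ i, i < 1166 → P i := stepQ 1165 Q1165 (allL N1165 (tt N766 (iv D1228)) (tt N882 F3889) (tt N1758 D1821) (tt N1756 (iv F5655)) (tt N1165 F3890) (tt N1165 F3891) (tt N1741 (iv F5606)) (tt N767 F3892))
theorem Q1167 : ∀ i, i < 1167 → P i := stepQ 1166 Q1166 (allL N1166 (tt N1758 (iv F5660)) (tt N1128 F3893) (tt N766 (iv D1229)) (tt N1759 D1822) (tt N1166 F3894) (tt N1166 F3895) (tt N1742 (iv F5610)) (tt N768 F3896))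
theorem Q1168 : ∀ i, i < 1168 → P i := stepQ 1167 Q1167 (allL N1167 (tt N768 F3897) (tt N1760 D1823) (tt N767 (iv D1230)) (tt N1761 D1824) (tt N1167 F3898) (tt N1167 F3899) (tt N1107 F3900) (tt N1758 (iv F5663)))
theorem Q1169 : ∀ i, i < 1169 → P i := stepQ 1168 Q1168 (allL N1168 (tt N1761 (iv F5670)) (tt N1127 F3901) (tt N1168 F3902) (tt N768 (iv D1231)) (tt N1564 (iv F5079)) (tt N1168 F3903) (tt N1109 F3904) (tt N1762 D1825))
theorem Q1170 : ∀ i, i < 1170 → P i := stepQ 1169 Q1169 (allL N1169 (tt N1169 F3905) (tt N1763 D1826) (tt N769 (iv D1232)) (tt N774 F3906) (tt N1169 F3907) (tt N1091 F3908) (tt N1169 F3909) (tt N1169 F3910))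
theorem Q1171 : ∀ i, i < 1171 → P i := stepQ 1170 Q1170 (allL N1170 (tt N771 F3911) (tt N1170 F3912) (tt N1039 F3913) (tt N1764 D1827) (tt N808 F3914) (tt N777 F3915) (tt N1765 D1828) (tt N770 (iv D1233)))
theorem Q1172 : ∀ i, i < 1172 → P i := stepQ 1171 Q1171 (allL N1171 (tt N1764 (iv F5682)) (tt N772 F3916) (tt N1766 D1829) (tt N771 (iv D1234)) (tt N1767 D1830) (tt N780 F3917) (tt N1768 D1831) (tt N1678 (iv F5419)))
theorem Q1173 : ∀ i, i < 1173 → P i := stepQ 1172 Q1172 (allL N1172 (tt N1765 (iv F5685)) (tt N773 F3918) (tt N819 F3919) (tt N1768 (iv F5696)) (tt N810 F3920) (tt N1769 D1832) (tt N771 (iv D1235)) (tt N1172 F3921))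
theorem Q1174 : ∀ i, i < 1174 → P i := stepQ 1173 Q1173 (allL N1173 (tt N1173 F3922) (tt N1770 D1833) (tt N772 (iv D1236)) (tt N1091 F3923) (tt N1771 D1834) (tt N774 F3924) (tt N1772 D1835) (tt N1680 (iv F5426)))
theorem Q1175 : ∀ i, i < 1175 → P i := stepQ 1174 Q1174 (allL N1174 (tt N1174 F3925) (tt N1767 (iv F5692)) (tt N1771 (iv F5704)) (tt N811 F3926) (tt N772 (iv D1237)) (tt N775 F3927) (tt N1773 D1836) (tt N1681 (iv F5430)))
theorem Q1176 : ∀ i, i < 1176 → P i := stepQ 1175 Q1175 (allL N1175 (tt N1175 F3928) (tt N1768 (iv F5695)) (tt N1772 (iv F5709)) (tt N773 F3929) (tt N1773 (iv F5714)) (tt N1175 F3930) (tt N772 (iv D1238)) (tt N1774 D1837))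
theorem Q1177 : ∀ i, i < 1177 → P i := stepQ 1176 Q1176 (allL N1176 (tt N1775 D1838) (tt N774 (iv D1239)) (tt N785 F3931) (tt N1763 (iv F5678)) (tt N1776 D1839) (tt N1777 D1840) (tt N1176 F3932) (tt N1683 (iv F5440)))
theorem Q1178 : ∀ i, i < 1178 → P i := stepQ 1177 Q1177 (allL N1177 (tt N1177 F3933) (tt N1776 (iv F5726)) (tt N775 F3934) (tt N1177 F3935) (tt N774 (iv D1240)) (tt N1771 (iv F5706)) (tt N1177 F3936) (tt N1651 F5339))
theorem Q1179 : ∀ i, i < 1179 → P i := stepQ 1178 Q1178 (allL N1178 (tt N1178 F3937) (tt N776 (iv D1241)) (tt N886 F3938) (tt N1778 D1841) (tt N813 F3939) (tt N948 F3940) (tt N787 F3941) (tt N1779 D1842))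
theorem Q1180 : ∀ i, i < 1180 → P i := stepQ 1179 Q1179 (allL N1179 (tt N778 F3942) (tt N1778 (iv F5732)) (tt N1685 (iv F5445)) (tt N776 (iv D1242)) (tt N999 F3943) (tt N998 F3944) (tt N788 F3945) (tt N1780 D1843))
theorem Q1181 : ∀ i, i < 1181 → P i := stepQ 1180 Q1180 (allL N1180 (tt N779 F3946) (tt N1779 (iv F5737)) (tt N777 F3947) (tt N1781 D1844) (tt N814 F3948) (tt N1039 F3949) (tt N1782 D1845) (tt N776 (iv D1243)))
theorem Q1182 : ∀ i, i < 1182 → P i := stepQ 1181 Q1181 (allL N1181 (tt N780 F3950) (tt N889 F3951) (tt N1783 D1846) (tt N777 (iv D1244)) (tt N1784 D1847) (tt N1764 (iv F5684)) (tt N1785 D1848) (tt N1687 (iv F5454)))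
theorem Q1183 : ∀ i, i < 1183 → P i := stepQ 1182 Q1182 (allL N1182 (tt N781 F3952) (tt N890 F3953) (tt N1782 (iv F5747)) (tt N1785 (iv F5757)) (tt N816 F3954) (tt N1786 D1849) (tt N777 (iv D1245)) (tt N791 F3955))
theorem Q1184 : ∀ i, i < 1184 → P i := stepQ 1183 Q1183 (allL N1183 (tt N1780 (iv F5741)) (tt N1183 F3956) (tt N1689 (iv F5459)) (tt N1787 D1850) (tt N1047 F3957) (tt N1046 F3958) (tt N1788 D1851) (tt N778 (iv D1246)))
theorem Q1185 : ∀ i, i < 1185 → P i := stepQ 1184 Q1184 (allL N1184 (tt N1781 (iv F5744)) (tt N1184 F3959) (tt N1789 D1852) (tt N779 (iv D1247)) (tt N1790 D1853) (tt N1088 F3960) (tt N1791 D1854) (tt N1787 (iv F5764)))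
theorem Q1186 : ∀ i, i < 1186 → P i := stepQ 1185 Q1185 (allL N1185 (tt N1782 (iv F5746)) (tt N1185 F3961) (tt N781 F3962) (tt N1791 (iv F5774)) (tt N818 F3963) (tt N1792 D1855) (tt N779 (iv D1248)) (tt N795 F3964))
theorem Q1187 : ∀ i, i < 1187 → P i := stepQ 1186 Q1186 (allL N1186 (tt N1783 (iv F5750)) (tt N1793 D1856) (tt N780 (iv D1249)) (tt N1789 (iv F5768)) (tt N1794 D1857) (tt N1766 (iv F5691)) (tt N1795 D1858) (tt N1692 (iv F5465)))
theorem Q1188 : ∀ i, i < 1188 → P i := stepQ 1187 Q1187 (allL N1187 (tt N1784 (iv F5751)) (tt N783 F3965) (tt N1794 (iv F5781)) (tt N819 F3966) (tt N780 (iv D1250)) (tt N1767 (iv F5694)) (tt N1088 (iv F3967)) (tt N1693 (iv F5468)))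
theorem Q1189 : ∀ i, i < 1189 → P i := stepQ 1188 Q1188 (allL N1188 (tt N1785 (iv F5755)) (tt N784 F3968) (tt N1795 (iv F5783)) (tt N781 F3969) (tt N1088 F3970) (tt N1790 (iv F5772)) (tt N780 (iv D1251)) (tt N1796 D1859))
theorem Q1190 : ∀ i, i < 1190 → P i := stepQ 1189 Q1189 (allL N1189 (tt N1786 (iv F5759)) (tt N1189 F3971) (tt N1792 (iv F5775)) (tt N1790 (iv F5771)) (tt N817 F3972) (tt N781 (iv D1252)) (tt N1769 (iv F5700)) (tt N799 F3973))
theorem Q1191 : ∀ i, i < 1191 → P i := stepQ 1190 Q1190 (allL N1190 (tt N1797 D1860) (tt N782 (iv D1253)) (tt N1793 (iv F5780)) (tt N1190 F3974) (tt N1798 D1861) (tt N1799 D1862) (tt N1800 D1863) (tt N1696 (iv F5474)))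
theorem Q1192 : ∀ i, i < 1192 → P i := stepQ 1191 Q1191 (allL N1191 (tt N900 F3975) (tt N1798 (iv F5790)) (tt N783 F3976) (tt N1094 (iv F3978)) (tt N782 (iv D1254)) (tt N786 F3977) (tt N1089 F3979) (tt N1697 (iv F5478)))
theorem Q1193 : ∀ i, i < 1193 → P i := stepQ 1192 Q1192 (allL N1192 (tt N901 F3980) (tt N1800 (iv F5795)) (tt N784 F3981) (tt N1192 F3982) (tt N1089 F3983) (tt N1192 F3984) (tt N782 (iv D1255)) (tt N1801 D1864))
theorem Q1194 : ∀ i, i < 1194 → P i := stepQ 1193 Q1193 (allL N1193 (tt N902 F3985) (tt N1796 (iv F5785)) (tt N1801 (iv F5799)) (tt N803 F3986) (tt N1052 F3987) (tt N1193 F3988) (tt N1700 (iv F5491)) (tt N784 (iv D1256)))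
theorem Q1195 : ∀ i, i < 1195 → P i := stepQ 1194 Q1194 (allL N1194 (tt N785 (iv D1257)) (tt N903 F3989) (tt N1775 (iv F5724)) (tt N1194 F3990) (tt N1802 D1865) (tt N1803 D1866) (tt N1194 F3991) (tt N1701 (iv F5494)))
theorem Q1196 : ∀ i, i < 1196 → P i := stepQ 1195 Q1195 (allL N1195 (tt N1802 (iv F5802)) (tt N786 F3992) (tt N1776 (iv F5727)) (tt N1804 D1867) (tt N785 (iv D1258)) (tt N1805 D1868) (tt N1195 F3993) (tt N1702 (iv F5497)))
theorem Q1197 : ∀ i, i < 1197 → P i := stepQ 1196 Q1196 (allL N1196 (tt N1803 (iv F5805)) (tt N1799 (iv F5793)) (tt N1777 (iv F5730)) (tt N1196 F3994) (tt N1805 (iv F5811)) (tt N785 (iv D1259)) (tt N1806 D1869) (tt N1703 (iv F5498)))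
theorem Q1198 : ∀ i, i < 1198 → P i := stepQ 1197 Q1197 (allL N1197 (tt N906 F3995) (tt N1804 (iv F5807)) (tt N820 F3996) (tt N786 (iv D1260)) (tt N1197 F3997) (tt N1094 F3998) (tt N1197 F3999) (tt N1807 D1870))
theorem Q1199 : ∀ i, i < 1199 → P i := stepQ 1198 Q1198 (allL N1198 (tt N1198 F4000) (tt N788 F4001) (tt N1808 D1871) (tt N787 (iv D1261)) (tt N1809 D1872) (tt N1810 D1873) (tt N1778 (iv F5735)) (tt N1811 D1874))
theorem Q1200 : ∀ i, i < 1200 → P i := stepQ 1199 Q1199 (allL N1199 (tt N1199 F4002) (tt N1199 F4003) (tt N908 F4004) (tt N1810 (iv F5826)) (tt N822 F4005) (tt N787 (iv D1262)) (tt N1812 D1875) (tt N1813 D1876))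
theorem Q1201 : ∀ i, i < 1201 → P i := stepQ 1200 Q1200 (allL N1200 (tt N1200 F4006) (tt N789 F4007) (tt N909 F4008) (tt N1814 D1877) (tt N823 F4009) (tt N1813 (iv F5839)) (tt N1815 D1878) (tt N787 (iv D1263)))
theorem Q1202 : ∀ i, i < 1202 → P i := stepQ 1201 Q1201 (allL N1201 (tt N792 F4010) (tt N1809 (iv F5821)) (tt N1708 (iv F5510)) (tt N824 F4011) (tt N788 (iv D1264)) (tt N1201 F4012) (tt N999 F4013) (tt N1816 D1879))
theorem Q1203 : ∀ i, i < 1203 → P i := stepQ 1202 Q1202 (allL N1202 (tt N793 F4014) (tt N1811 (iv F5828)) (tt N1709 (iv F5515)) (tt N1817 D1880) (tt N1816 (iv F5851)) (tt N1202 F4015) (tt N1818 D1881) (tt N788 (iv D1265)))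
theorem Q1204 : ∀ i, i < 1204 → P i := stepQ 1203 Q1203 (allL N1203 (tt N794 F4016) (tt N1814 (iv F5842)) (tt N1819 D1882) (tt N789 (iv D1266)) (tt N1203 F4017) (tt N1203 F4018) (tt N1820 D1883) (tt N1817 (iv F5856)))
theorem Q1205 : ∀ i, i < 1205 → P i := stepQ 1204 Q1204 (allL N1204 (tt N795 F4019) (tt N1815 (iv F5845)) (tt N791 F4020) (tt N1820 (iv F5863)) (tt N825 F4021) (tt N1821 D1884) (tt N789 (iv D1267)) (tt N1782 (iv F5749)))
theorem Q1206 : ∀ i, i < 1206 → P i := stepQ 1205 Q1205 (allL N1205 (tt N796 F4022) (tt N1822 D1885) (tt N790 (iv D1268)) (tt N1819 (iv F5859)) (tt N1823 D1886) (tt N1205 F4023) (tt N1824 D1887) (tt N1712 (iv F5524)))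
theorem Q1207 : ∀ i, i < 1207 → P i := stepQ 1206 Q1206 (allL N1206 (tt N797 F4024) (tt N915 F4025) (tt N1823 (iv F5872)) (tt N826 F4026) (tt N790 (iv D1269)) (tt N1206 F4027) (tt N1002 (iv F4028)) (tt N1713 (iv F5529)))
theorem Q1208 : ∀ i, i < 1208 → P i := stepQ 1207 Q1207 (allL N1207 (tt N798 F4029) (tt N916 F4030) (tt N1824 (iv F5877)) (tt N791 F4031) (tt N1002 F4032) (tt N1825 D1888) (tt N790 (iv D1270)) (tt N1826 D1889))
theorem Q1209 : ∀ i, i < 1209 → P i := stepQ 1208 Q1208 (allL N1208 (tt N799 F4033) (tt N1827 D1890) (tt N1821 (iv F5867)) (tt N1825 (iv F5880)) (tt N827 F4034) (tt N791 (iv D1271)) (tt N1208 F4035) (tt N1786 (iv F5761)))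
theorem Q1210 : ∀ i, i < 1210 → P i := stepQ 1209 Q1209 (allL N1209 (tt N1816 (iv F5849)) (tt N1209 F4036) (tt N1716 (iv F5536)) (tt N1209 F4037) (tt N793 F4038) (tt N1209 F4039) (tt N1828 D1891) (tt N792 (iv D1272)))
theorem Q1211 : ∀ i, i < 1211 → P i := stepQ 1210 Q1210 (allL N1210 (tt N1817 (iv F5853)) (tt N1210 F4040) (tt N1829 D1892) (tt N793 (iv D1273)) (tt N1210 F4041) (tt N1210 F4042) (tt N1830 D1893) (tt N794 F4043))
theorem Q1212 : ∀ i, i < 1212 → P i := stepQ 1211 Q1211 (allL N1211 (tt N1818 (iv F5857)) (tt N1211 F4044) (tt N1718 (iv F5541)) (tt N1830 (iv F5899)) (tt N1828 (iv F5893)) (tt N1831 D1894) (tt N793 (iv D1274)) (tt N1788 (iv F5767)))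
theorem Q1213 : ∀ i, i < 1213 → P i := stepQ 1212 Q1212 (allL N1212 (tt N1819 (iv F5858)) (tt N1832 D1895) (tt N794 (iv D1275)) (tt N796 F4045) (tt N1212 F4046) (tt N1212 F4047) (tt N1833 D1896) (tt N1829 (iv F5897)))
theorem Q1214 : ∀ i, i < 1214 → P i := stepQ 1213 Q1213 (allL N1213 (tt N1820 (iv F5862)) (tt N1213 F4048) (tt N1833 (iv F5905)) (tt N795 F4049) (tt N1213 F4050) (tt N1834 D1897) (tt N794 (iv D1276)) (tt N1835 D1898))
theorem Q1215 : ∀ i, i < 1215 → P i := stepQ 1214 Q1214 (allL N1214 (tt N1821 (iv F5865)) (tt N1836 D1899) (tt N799 F4051) (tt N1834 (iv F5908)) (tt N828 F4052) (tt N795 (iv D1277)) (tt N1214 F4053) (tt N1792 (iv F5778)))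
theorem Q1216 : ∀ i, i < 1216 → P i := stepQ 1215 Q1215 (allL N1215 (tt N1837 D1900) (tt N796 (iv D1278)) (tt N800 F4054) (tt N1832 (iv F5903)) (tt N1838 D1901) (tt N1839 D1902) (tt N1840 D1903) (tt N1723 (iv F5551)))
theorem Q1217 : ∀ i, i < 1217 → P i := stepQ 1216 Q1216 (allL N1216 (tt N1823 (iv F5871)) (tt N1838 (iv F5920)) (tt N797 F4055) (tt N1216 F4056) (tt N796 (iv D1279)) (tt N1216 F4057) (tt N1051 (iv F4058)) (tt N1724 (iv F5554)))
theorem Q1218 : ∀ i, i < 1218 → P i := stepQ 1217 Q1217 (allL N1217 (tt N1824 (iv F5876)) (tt N1840 (iv F5926)) (tt N798 F4059) (tt N1833 (iv F5906)) (tt N1051 F4060) (tt N1841 D1904) (tt N796 (iv D1280)) (tt N1842 D1905))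
theorem Q1219 : ∀ i, i < 1219 → P i := stepQ 1218 Q1218 (allL N1218 (tt N1825 (iv F5879)) (tt N1218 F4061) (tt N1841 (iv F5929)) (tt N799 F4062) (tt N1050 F4063) (tt N798 (iv D1281)) (tt N1218 F4064) (tt N1843 D1906))
theorem Q1220 : ∀ i, i < 1220 → P i := stepQ 1219 Q1219 (allL N1219 (tt N1826 (iv F5883)) (tt N803 F4065) (tt N1842 (iv F5932)) (tt N1796 (iv F5786)) (tt N1048 F4066) (tt N1843 (iv F5936)) (tt N1728 (iv F5564)) (tt N798 (iv D1282)))
theorem Q1221 : ∀ i, i < 1221 → P i := stepQ 1220 Q1220 (allL N1220 (tt N800 (iv D1283)) (tt N928 F4067) (tt N1837 (iv F5919)) (tt N1220 F4068) (tt N1844 D1907) (tt N1845 D1908) (tt N1846 D1909) (tt N1730 (iv F5570)))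
theorem Q1222 : ∀ i, i < 1222 → P i := stepQ 1221 Q1221 (allL N1221 (tt N1844 (iv F5937)) (tt N801 F4069) (tt N1838 (iv F5921)) (tt N1060 (iv F4070)) (tt N800 (iv D1284)) (tt N1847 D1910) (tt N1057 (iv F4071)) (tt N1731 (iv F5572)))
theorem Q1223 : ∀ i, i < 1223 → P i := stepQ 1222 Q1222 (allL N1222 (tt N1845 (iv F5941)) (tt N806 F4072) (tt N1839 (iv F5925)) (tt N1222 F4073) (tt N1847 (iv F5949)) (tt N800 (iv D1285)) (tt N1848 D1911) (tt N1732 (iv F5574)))
theorem Q1224 : ∀ i, i < 1224 → P i := stepQ 1223 Q1223 (allL N1223 (tt N1846 (iv F5943)) (tt N802 F4074) (tt N1840 (iv F5927)) (tt N1223 F4075) (tt N1057 F4076) (tt N1849 D1912) (tt N800 (iv D1286)) (tt N1850 D1913))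
theorem Q1225 : ∀ i, i < 1225 → P i := stepQ 1224 Q1224 (allL N1224 (tt N932 F4077) (tt N1850 (iv F5955)) (tt N803 F4078) (tt N1851 D1914) (tt N1054 F4079) (tt N1224 F4080) (tt N1737 (iv F5591)) (tt N802 (iv D1287)))
theorem Q1226 : ∀ i, i < 1226 → P i := stepQ 1225 Q1225 (allL N1225 (tt N805 F4081) (tt N933 F4082) (tt N1225 F4083) (tt N1852 D1915) (tt N804 (iv D1288)) (tt N1853 D1916) (tt N1225 F4084) (tt N1743 (iv F5615)))
theorem Q1227 : ∀ i, i < 1227 → P i := stepQ 1226 Q1226 (allL N1226 (tt N806 F4085) (tt N1854 D1917) (tt N1226 F4086) (tt N1226 F4087) (tt N1853 (iv F5967)) (tt N804 (iv D1289)) (tt N1855 D1918) (tt N1744 (iv F5618)))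
theorem Q1228 : ∀ i, i < 1228 → P i := stepQ 1227 Q1227 (allL N1227 (tt N1852 (iv F5961)) (tt N807 F4088) (tt N1856 D1919) (tt N805 (iv D1290)) (tt N1227 F4089) (tt N1857 D1920) (tt N1227 F4090) (tt N1858 D1921))
theorem Q1229 : ∀ i, i < 1229 → P i := stepQ 1228 Q1228 (allL N1228 (tt N1853 (iv F5965)) (tt N1847 (iv F5947)) (tt N1228 F4091) (tt N1857 (iv F5979)) (tt N806 F4092) (tt N805 (iv D1291)) (tt N1859 D1922) (tt N1747 (iv F5627)))
theorem Q1230 : ∀ i, i < 1230 → P i := stepQ 1229 Q1229 (allL N1229 (tt N1855 (iv F5970)) (tt N1848 (iv F5950)) (tt N1229 F4093) (tt N1229 F4094) (tt N1859 (iv F5984)) (tt N1229 F4095) (tt N806 (iv D1292)) (tt N1860 D1923))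
theorem Q1231 : ∀ i, i < 1231 → P i := stepQ 1230 Q1230 (allL N1230 (tt N938 F4096) (tt N1858 (iv F5981)) (tt N830 F4097) (tt N1752 (iv F5642)) (tt N1230 F4098) (tt N1061 F4099) (tt N1861 D1924) (tt N807 (iv D1293)))
theorem Q1232 : ∀ i, i < 1232 → P i := stepQ 1231 Q1231 (allL N1231 (tt N809 F4100) (tt N1231 F4101) (tt N1862 D1925) (tt N808 (iv D1294)) (tt N1863 D1926) (tt N815 F4102) (tt N1864 D1927) (tt N1231 F4103))
theorem Q1233 : ∀ i, i < 1233 → P i := stepQ 1232 Q1232 (allL N1232 (tt N810 F4104) (tt N1232 F4105) (tt N815 F4106) (tt N1864 (iv F6005)) (tt N1765 (iv F5688)) (tt N1862 (iv F5995)) (tt N808 (iv D1295)) (tt N1232 F4107))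
theorem Q1234 : ∀ i, i < 1234 → P i := stepQ 1233 Q1233 (allL N1233 (tt N1862 (iv F5993)) (tt N1233 F4108) (tt N809 (iv D1296)) (tt N818 F4109) (tt N1769 (iv F5699)) (tt N810 F4110) (tt N817 (iv F4112)) (tt N1233 F4111))
theorem Q1235 : ∀ i, i < 1235 → P i := stepQ 1234 Q1234 (allL N1234 (tt N1863 (iv F5998)) (tt N811 F4113) (tt N1769 (iv F5698)) (tt N1767 (iv F5693)) (tt N809 (iv D1297)) (tt N819 F4114) (tt N1792 (iv F5777)) (tt N1234 F4115))
theorem Q1236 : ∀ i, i < 1236 → P i := stepQ 1235 Q1235 (allL N1235 (tt N1864 (iv F6002)) (tt N812 F4116) (tt N817 F4117) (tt N810 F4118) (tt N1792 (iv F5776)) (tt N818 F4119) (tt N809 (iv D1298)) (tt N828 (iv F4120)))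
theorem Q1237 : ∀ i, i < 1237 → P i := stepQ 1236 Q1236 (allL N1236 (tt N1236 F4121) (tt N1792 F5779) (tt N1236 F4122) (tt N1773 (iv F5713)) (tt N812 F4123) (tt N1236 F4124) (tt N811 (iv D1299)) (tt N1836 (iv F5918)))
theorem Q1238 : ∀ i, i < 1238 → P i := stepQ 1237 Q1237 (allL N1237 (tt N1237 F4125) (tt N828 F4126) (tt N1237 F4127) (tt N1237 F4128) (tt N1836 (iv F5915)) (tt N1237 F4129) (tt N1237 F4130) (tt N812 (iv D1300)))
theorem Q1239 : ∀ i, i < 1239 → P i := stepQ 1238 Q1238 (allL N1238 (tt N1238 F4131) (tt N814 F4132) (tt N941 F4133) (tt N1865 D1928) (tt N1779 (iv F5739)) (tt N949 F4134) (tt N1866 D1929) (tt N813 (iv D1301)))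
theorem Q1240 : ∀ i, i < 1240 → P i := stepQ 1239 Q1239 (allL N1239 (tt N817 F4135) (tt N1865 (iv F6009)) (tt N1864 (iv F6004)) (tt N814 (iv D1302)) (tt N1786 (iv F5760)) (tt N816 F4136) (tt N1862 (iv F5997)) (tt N827 F4137))
theorem Q1241 : ∀ i, i < 1241 → P i := stepQ 1240 Q1240 (allL N1240 (tt N818 F4138) (tt N1866 (iv F6014)) (tt N816 F4139) (tt N1862 (iv F5994)) (tt N1782 (iv F5748)) (tt N1864 (iv F6006)) (tt N814 (iv D1303)) (tt N825 F4140))
theorem Q1242 : ∀ i, i < 1242 → P i := stepQ 1241 Q1241 (allL N1241 (tt N819 F4141) (tt N944 F4142) (tt N1765 (iv F5687)) (tt N1784 (iv F5753)) (tt N815 (iv D1304)) (tt N1863 (iv F6000)) (tt N1039 F4143) (tt N1241 F4144))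
theorem Q1243 : ∀ i, i < 1243 → P i := stepQ 1242 Q1242 (allL N1242 (tt N947 F4145) (tt N1242 F4146) (tt N1807 (iv F5815)) (tt N1242 F4147) (tt N1242 F4148) (tt N1095 F4149) (tt N1867 D1930) (tt N820 (iv D1305)))
theorem Q1244 : ∀ i, i < 1244 → P i := stepQ 1243 Q1243 (allL N1243 (tt N1243 F4150) (tt N1243 F4151) (tt N821 (iv D1306)) (tt N940 F4152) (tt N1812 (iv F5832)) (tt N939 (iv F4155)) (tt N822 F4153) (tt N1243 F4154))
theorem Q1245 : ∀ i, i < 1245 → P i := stepQ 1244 Q1244 (allL N1244 (tt N1244 F4156) (tt N824 F4157) (tt N1812 (iv F5831)) (tt N1809 (iv F5822)) (tt N821 (iv D1307)) (tt N1868 D1931) (tt N908 F4158) (tt N1244 F4159))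
theorem Q1246 : ∀ i, i < 1246 → P i := stepQ 1245 Q1245 (allL N1245 (tt N1245 F4160) (tt N1245 F4161) (tt N939 F4162) (tt N822 F4163) (tt N1868 (iv F6027)) (tt N821 (iv D1308)) (tt N940 F4164) (tt N1245 F4165))
theorem Q1247 : ∀ i, i < 1247 → P i := stepQ 1246 Q1246 (allL N1246 (tt N1246 F4166) (tt N1246 F4167) (tt N950 F4168) (tt N1246 F4169) (tt N1813 (iv F5838)) (tt N823 F4170) (tt N1246 F4171) (tt N822 (iv D1309)))
theorem Q1248 : ∀ i, i < 1248 → P i := stepQ 1247 Q1247 (allL N1247 (tt N1247 F4172) (tt N825 F4173) (tt N952 F4174) (tt N1247 F4175) (tt N1815 (iv F5847)) (tt N1247 F4176) (tt N823 (iv D1310)) (tt N1866 (iv F6017)))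
theorem Q1249 : ∀ i, i < 1249 → P i := stepQ 1248 Q1248 (allL N1248 (tt N828 F4177) (tt N1248 F4178) (tt N827 F4179) (tt N1248 F4180) (tt N1821 (iv F5868)) (tt N825 (iv D1311)) (tt N1248 F4181) (tt N1864 F6007))
theorem Q1250 : ∀ i, i < 1250 → P i := stepQ 1249 Q1249 (allL N1249 (tt N1249 F4182) (tt N827 (iv D1312)) (tt N1249 F4183) (tt N950 F4184) (tt N1827 (iv F5888)) (tt N951 F4185) (tt N1249 F4186) (tt N1865 (iv F6012)))
theorem Q1251 : ∀ i, i < 1251 → P i := stepQ 1250 Q1250 (allL N1250 (tt N1250 F4187) (tt N1856 (iv F5974)) (tt N829 (iv D1313)) (tt N1250 F4188) (tt N1250 F4189) (tt N1250 F4190) (tt N1250 F4191) (tt N1869 D1932))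
theorem Q1252 : ∀ i, i < 1252 → P i := stepQ 1251 Q1251 (allL N1251 (tt N1251 F4192) (tt N830 F4193) (tt N1869 (iv F6031)) (tt N1251 F4194) (tt N1251 F4195) (tt N1251 F4196) (tt N1870 D1933) (tt N829 (iv D1314)))
theorem Q1253 : ∀ i, i < 1253 → P i := stepQ 1252 Q1252 (allL N1252 (tt N955 F4197) (tt N1870 (iv F6035)) (tt N1861 (iv F5989)) (tt N1252 F4198) (tt N1252 F4199) (tt N1252 F4200) (tt N830 (iv D1315)) (tt N1252 F4201))
theorem Q1254 : ∀ i, i < 1254 → P i := stepQ 1253 Q1253 (allL N1253 (tt N853 F4202) (tt N831 (iv D1316)) (tt N1653 (iv F5345)) (tt N1871 D1934) (tt N1253 F4203) (tt N1872 D1935) (tt N1350 (iv F4462)) (tt N1873 D1936))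
theorem Q1255 : ∀ i, i < 1255 → P i := stepQ 1254 Q1254 (allL N1254 (tt N833 F4204) (tt N1871 (iv F6040)) (tt N1254 F4205) (tt N831 (iv D1317)) (tt N1874 D1937) (tt N1254 F4206) (tt N1351 (iv F4466)) (tt N1875 D1938))
theorem Q1256 : ∀ i, i < 1256 → P i := stepQ 1255 Q1255 (allL N1255 (tt N834 F4207) (tt N1873 (iv F6045)) (tt N832 F4208) (tt N1876 D1939) (tt N1255 F4209) (tt N1255 F4210) (tt N1877 D1940) (tt N831 (iv D1318)))
theorem Q1257 : ∀ i, i < 1257 → P i := stepQ 1256 Q1256 (allL N1256 (tt N835 F4211) (tt N1656 (iv F5353)) (tt N1878 D1941) (tt N832 (iv D1319)) (tt N1879 D1942) (tt N1256 F4212) (tt N1880 D1943) (tt N1256 F4213))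
theorem Q1258 : ∀ i, i < 1258 → P i := stepQ 1257 Q1257 (allL N1257 (tt N836 F4214) (tt N1657 (iv F5356)) (tt N1877 (iv F6057)) (tt N1880 (iv F6067)) (tt N1257 F4215) (tt N1881 D1944) (tt N832 (iv D1320)) (tt N1333 (iv F4414)))
theorem Q1259 : ∀ i, i < 1259 → P i := stepQ 1258 Q1258 (allL N1258 (tt N1874 (iv F6047)) (tt N858 F4216) (tt N1258 F4217) (tt N1258 F4218) (tt N833 (iv D1321)) (tt N1258 F4219) (tt N1352 (iv F4471)) (tt N1882 D1945))
theorem Q1260 : ∀ i, i < 1260 → P i := stepQ 1259 Q1259 (allL N1259 (tt N1875 (iv F6051)) (tt N859 F4220) (tt N1259 F4221) (tt N1883 D1946) (tt N1882 (iv F6073)) (tt N1259 F4222) (tt N1884 D1947) (tt N833 (iv D1322)))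
theorem Q1261 : ∀ i, i < 1261 → P i := stepQ 1260 Q1260 (allL N1260 (tt N1876 (iv F6054)) (tt N860 F4223) (tt N1885 D1948) (tt N834 (iv D1323)) (tt N1886 D1949) (tt N1260 F4224) (tt N1887 D1950) (tt N1883 (iv F6077)))
theorem Q1262 : ∀ i, i < 1262 → P i := stepQ 1261 Q1261 (allL N1261 (tt N1877 (iv F6056)) (tt N861 F4225) (tt N836 F4226) (tt N1887 (iv F6089)) (tt N1261 F4227) (tt N1888 D1951) (tt N834 (iv D1324)) (tt N1334 (iv F4418)))
theorem Q1263 : ∀ i, i < 1263 → P i := stepQ 1262 Q1262 (allL N1262 (tt N1878 (iv F6059)) (tt N1889 D1952) (tt N835 (iv D1325)) (tt N1885 (iv F6080)) (tt N1890 D1953) (tt N1262 F4228) (tt N1891 D1954) (tt N1262 F4229))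
theorem Q1264 : ∀ i, i < 1264 → P i := stepQ 1263 Q1263 (allL N1263 (tt N1879 (iv F6062)) (tt N838 F4230) (tt N1890 (iv F6095)) (tt N1263 F4231) (tt N835 (iv D1326)) (tt N1263 F4232) (tt N1892 D1955) (tt N1263 F4233))
theorem Q1265 : ∀ i, i < 1265 → P i := stepQ 1264 Q1264 (allL N1264 (tt N1880 (iv F6066)) (tt N839 F4234) (tt N1891 (iv F6099)) (tt N836 F4235) (tt N1892 (iv F6102)) (tt N1893 D1956) (tt N835 (iv D1327)) (tt N1894 D1957))
theorem Q1266 : ∀ i, i < 1266 → P i := stepQ 1265 Q1265 (allL N1265 (tt N1881 (iv F6068)) (tt N1287 (iv F4293)) (tt N1888 (iv F6090)) (tt N1893 (iv F6103)) (tt N1265 F4236) (tt N836 (iv D1328)) (tt N1265 F4237) (tt N1321 (iv F4383)))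
theorem Q1267 : ∀ i, i < 1267 → P i := stepQ 1266 Q1266 (allL N1266 (tt N1895 D1958) (tt N837 (iv D1329)) (tt N1889 (iv F6093)) (tt N866 F4238) (tt N1896 D1959) (tt N1897 D1960) (tt N1898 D1961) (tt N1266 F4239))
theorem Q1268 : ∀ i, i < 1268 → P i := stepQ 1267 Q1267 (allL N1267 (tt N1667 (iv F5378)) (tt N1896 (iv F6109)) (tt N838 F4240) (tt N1899 D1962) (tt N837 (iv D1330)) (tt N841 F4241) (tt N1900 D1963) (tt N1267 F4242))
theorem Q1269 : ∀ i, i < 1269 → P i := stepQ 1268 Q1268 (allL N1268 (tt N1668 (iv F5382)) (tt N1898 (iv F6114)) (tt N839 F4243) (tt N868 F4244) (tt N1900 (iv F6121)) (tt N1290 (iv F4302)) (tt N837 (iv D1331)) (tt N1901 D1964))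
theorem Q1270 : ∀ i, i < 1270 → P i := stepQ 1269 Q1269 (allL N1269 (tt N1669 (iv F5385)) (tt N1892 (iv F6100)) (tt N1900 (iv F6120)) (tt N1269 F4245) (tt N839 F4246) (tt N1291 (iv F4305)) (tt N838 (iv D1332)) (tt N1594 (iv F5158)))
theorem Q1271 : ∀ i, i < 1271 → P i := stepQ 1270 Q1270 (allL N1270 (tt N1670 (iv F5388)) (tt N1894 (iv F6105)) (tt N1901 (iv F6122)) (tt N1332 (iv F4408)) (tt N1594 (iv F5156)) (tt N1292 (iv F4309)) (tt N1270 F4247) (tt N839 (iv D1333)))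
theorem Q1272 : ∀ i, i < 1272 → P i := stepQ 1271 Q1271 (allL N1271 (tt N840 (iv D1334)) (tt N1671 (iv F5390)) (tt N1271 F4248) (tt N873 F4249) (tt N1902 D1965) (tt N1903 D1966) (tt N1293 (iv F4312)) (tt N1271 F4250))
theorem Q1273 : ∀ i, i < 1273 → P i := stepQ 1272 Q1272 (allL N1272 (tt N1902 (iv F6124)) (tt N841 F4251) (tt N1272 F4252) (tt N1904 D1967) (tt N840 (iv D1335)) (tt N1905 D1968) (tt N1294 (iv F4316)) (tt N1272 F4253))
theorem Q1274 : ∀ i, i < 1274 → P i := stepQ 1273 Q1273 (allL N1273 (tt N1903 (iv F6127)) (tt N1897 (iv F6111)) (tt N1273 F4254) (tt N875 F4255) (tt N1905 (iv F6134)) (tt N840 (iv D1336)) (tt N1906 D1969) (tt N1273 F4256))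
theorem Q1275 : ∀ i, i < 1275 → P i := stepQ 1274 Q1274 (allL N1274 (tt N1674 (iv F5401)) (tt N1904 (iv F6131)) (tt N1274 F4257) (tt N841 (iv D1337)) (tt N877 F4258) (tt N1899 (iv F6118)) (tt N1296 (iv F4321)) (tt N1907 D1970))
theorem Q1276 : ∀ i, i < 1276 → P i := stepQ 1275 Q1275 (allL N1275 (tt N1350 (iv F4460)) (tt N842 (iv D1338)) (tt N1684 (iv F5441)) (tt N1908 D1971) (tt N1275 F4259) (tt N1909 D1972) (tt N853 F4260) (tt N1910 D1973))
theorem Q1277 : ∀ i, i < 1277 → P i := stepQ 1276 Q1276 (allL N1276 (tt N844 F4261) (tt N1908 (iv F6142)) (tt N887 F4262) (tt N842 (iv D1339)) (tt N1911 D1974) (tt N1276 F4263) (tt N854 F4264) (tt N1912 D1975))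
theorem Q1278 : ∀ i, i < 1278 → P i := stepQ 1277 Q1277 (allL N1277 (tt N845 F4265) (tt N1910 (iv F6146)) (tt N843 F4266) (tt N1913 D1976) (tt N1277 F4267) (tt N1277 F4268) (tt N1914 D1977) (tt N842 (iv D1340)))
theorem Q1279 : ∀ i, i < 1279 → P i := stepQ 1278 Q1278 (allL N1278 (tt N846 F4269) (tt N1687 (iv F5453)) (tt N1915 D1978) (tt N843 (iv D1341)) (tt N1916 D1979) (tt N1278 F4270) (tt N1917 D1980) (tt N889 F4271))
theorem Q1280 : ∀ i, i < 1280 → P i := stepQ 1279 Q1279 (allL N1279 (tt N847 F4272) (tt N1688 (iv F5456)) (tt N1914 (iv F6159)) (tt N1917 (iv F6170)) (tt N1279 F4273) (tt N1918 D1981) (tt N843 (iv D1342)) (tt N857 F4274))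
theorem Q1281 : ∀ i, i < 1281 → P i := stepQ 1280 Q1280 (allL N1280 (tt N1911 (iv F6148)) (tt N1352 (iv F4467)) (tt N891 F4275) (tt N1280 F4276) (tt N844 (iv D1343)) (tt N1280 F4277) (tt N858 F4278) (tt N1919 D1982))
theorem Q1282 : ∀ i, i < 1282 → P i := stepQ 1281 Q1281 (allL N1281 (tt N1912 (iv F6153)) (tt N1353 (iv F4472)) (tt N892 F4279) (tt N1920 D1983) (tt N1919 (iv F6176)) (tt N1281 F4280) (tt N1921 D1984) (tt N844 (iv D1344)))
theorem Q1283 : ∀ i, i < 1283 → P i := stepQ 1282 Q1282 (allL N1282 (tt N1913 (iv F6156)) (tt N1349 (iv F4458)) (tt N1922 D1985) (tt N845 (iv D1345)) (tt N1923 D1986) (tt N1282 F4281) (tt N1924 D1987) (tt N1920 (iv F6179)))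
theorem Q1284 : ∀ i, i < 1284 → P i := stepQ 1283 Q1283 (allL N1283 (tt N1914 (iv F6158)) (tt N1334 (iv F4415)) (tt N847 F4282) (tt N1924 (iv F6186)) (tt N1283 F4283) (tt N1925 D1988) (tt N845 (iv D1346)) (tt N861 F4284))
theorem Q1285 : ∀ i, i < 1285 → P i := stepQ 1284 Q1284 (allL N1284 (tt N1915 (iv F6162)) (tt N1926 D1989) (tt N846 (iv D1347)) (tt N1922 (iv F6182)) (tt N1927 D1990) (tt N1284 F4285) (tt N1928 D1991) (tt N895 F4286))
theorem Q1286 : ∀ i, i < 1286 → P i := stepQ 1285 Q1285 (allL N1285 (tt N1916 (iv F6165)) (tt N849 F4287) (tt N1927 (iv F6193)) (tt N1285 F4288) (tt N846 (iv D1348)) (tt N1285 F4289) (tt N1929 D1992) (tt N896 F4290))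
theorem Q1287 : ∀ i, i < 1287 → P i := stepQ 1286 Q1286 (allL N1286 (tt N1917 (iv F6169)) (tt N850 F4291) (tt N1928 (iv F6196)) (tt N847 F4292) (tt N1929 (iv F6199)) (tt N1930 D1993) (tt N846 (iv D1349)) (tt N1931 D1994))
theorem Q1288 : ∀ i, i < 1288 → P i := stepQ 1287 Q1287 (allL N1287 (tt N1918 (iv F6171)) (tt N1265 F4293) (tt N1925 (iv F6187)) (tt N1930 (iv F6202)) (tt N1287 F4294) (tt N847 (iv D1350)) (tt N1287 F4295) (tt N865 F4296))
theorem Q1289 : ∀ i, i < 1289 → P i := stepQ 1288 Q1288 (allL N1288 (tt N1932 D1995) (tt N848 (iv D1351)) (tt N1926 (iv F6191)) (tt N1345 (iv F4446)) (tt N1933 D1996) (tt N1934 D1997) (tt N1935 D1998) (tt N899 F4297))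
theorem Q1290 : ∀ i, i < 1290 → P i := stepQ 1289 Q1289 (allL N1289 (tt N1697 (iv F5475)) (tt N1933 (iv F6209)) (tt N849 F4298) (tt N1936 D1999) (tt N848 (iv D1352)) (tt N852 F4299) (tt N1937 D2000) (tt N900 F4300))
theorem Q1291 : ∀ i, i < 1291 → P i := stepQ 1290 Q1290 (allL N1290 (tt N1698 (iv F5479)) (tt N1935 (iv F6213)) (tt N850 F4301) (tt N1328 (iv F4397)) (tt N1937 (iv F6218)) (tt N1268 F4302) (tt N848 (iv D1353)) (tt N1938 D2001))
theorem Q1292 : ∀ i, i < 1292 → P i := stepQ 1291 Q1291 (allL N1291 (tt N1699 (iv F5482)) (tt N1929 (iv F6197)) (tt N1937 (iv F6217)) (tt N1291 F4303) (tt N850 F4304) (tt N1269 F4305) (tt N849 (iv D1354)) (tt N1063 F4306))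
theorem Q1293 : ∀ i, i < 1293 → P i := stepQ 1292 Q1292 (allL N1292 (tt N1700 (iv F5487)) (tt N1931 (iv F6204)) (tt N1938 (iv F6221)) (tt N871 F4307) (tt N1063 F4308) (tt N1270 F4309) (tt N902 F4310) (tt N850 (iv D1355)))
theorem Q1294 : ∀ i, i < 1294 → P i := stepQ 1293 Q1293 (allL N1293 (tt N851 (iv D1356)) (tt N1701 (iv F5492)) (tt N1293 F4311) (tt N1337 (iv F4427)) (tt N1939 D2002) (tt N1940 D2003) (tt N1271 F4312) (tt N903 F4313))
theorem Q1295 : ∀ i, i < 1295 → P i := stepQ 1294 Q1294 (allL N1294 (tt N1939 (iv F6225)) (tt N852 F4314) (tt N1294 F4315) (tt N1941 D2004) (tt N851 (iv D1357)) (tt N1942 D2005) (tt N1272 F4316) (tt N904 F4317))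
theorem Q1296 : ∀ i, i < 1296 → P i := stepQ 1295 Q1295 (allL N1295 (tt N1940 (iv F6229)) (tt N1934 (iv F6211)) (tt N1295 F4318) (tt N1341 (iv F4435)) (tt N1942 (iv F6237)) (tt N851 (iv D1358)) (tt N1943 D2006) (tt N905 F4319))
theorem Q1297 : ∀ i, i < 1297 → P i := stepQ 1296 Q1296 (allL N1296 (tt N1704 (iv F5499)) (tt N1941 (iv F6232)) (tt N1296 F4320) (tt N852 (iv D1359)) (tt N1342 (iv F4439)) (tt N1936 (iv F6215)) (tt N1274 F4321) (tt N1944 D2007))
theorem Q1298 : ∀ i, i < 1298 → P i := stepQ 1297 Q1297 (allL N1297 (tt N1871 (iv F6039)) (tt N854 F4322) (tt N1945 D2008) (tt N853 (iv D1360)) (tt N1946 D2009) (tt N1947 D2010) (tt N1908 (iv F6143)) (tt N1948 D2011))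
theorem Q1299 : ∀ i, i < 1299 → P i := stepQ 1298 Q1298 (allL N1298 (tt N1872 (iv F6041)) (tt N957 F4323) (tt N1706 (iv F5504)) (tt N1947 (iv F6248)) (tt N1298 F4324) (tt N853 (iv D1361)) (tt N1949 D2012) (tt N1950 D2013))
theorem Q1300 : ∀ i, i < 1300 → P i := stepQ 1299 Q1299 (allL N1299 (tt N1873 (iv F6044)) (tt N855 F4325) (tt N1707 (iv F5507)) (tt N1951 D2014) (tt N1299 F4326) (tt N1950 (iv F6254)) (tt N1952 D2015) (tt N853 (iv D1362)))
theorem Q1301 : ∀ i, i < 1301 → P i := stepQ 1300 Q1300 (allL N1300 (tt N858 F4327) (tt N1946 (iv F6245)) (tt N910 F4328) (tt N1300 F4329) (tt N854 (iv D1363)) (tt N959 F4330) (tt N1911 (iv F6152)) (tt N1953 D2016))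
theorem Q1302 : ∀ i, i < 1302 → P i := stepQ 1301 Q1301 (allL N1301 (tt N859 F4331) (tt N1948 (iv F6249)) (tt N911 F4332) (tt N1954 D2017) (tt N1953 (iv F6260)) (tt N960 F4333) (tt N1955 D2018) (tt N854 (iv D1364)))
theorem Q1303 : ∀ i, i < 1303 → P i := stepQ 1302 Q1302 (allL N1302 (tt N860 F4334) (tt N1951 (iv F6255)) (tt N1956 D2019) (tt N855 (iv D1365)) (tt N1957 D2020) (tt N961 F4335) (tt N1958 D2021) (tt N1954 (iv F6264)))
theorem Q1304 : ∀ i, i < 1304 → P i := stepQ 1303 Q1303 (allL N1303 (tt N861 F4336) (tt N1952 (iv F6256)) (tt N857 F4337) (tt N1958 (iv F6274)) (tt N1303 F4338) (tt N1959 D2022) (tt N855 (iv D1366)) (tt N1914 (iv F6161)))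
theorem Q1305 : ∀ i, i < 1305 → P i := stepQ 1304 Q1304 (allL N1304 (tt N862 F4339) (tt N1960 D2023) (tt N856 (iv D1367)) (tt N1956 (iv F6268)) (tt N1961 D2024) (tt N963 F4340) (tt N1962 D2025) (tt N914 F4341))
theorem Q1306 : ∀ i, i < 1306 → P i := stepQ 1305 Q1305 (allL N1305 (tt N863 F4342) (tt N1713 (iv F5526)) (tt N1961 (iv F6281)) (tt N1305 F4343) (tt N856 (iv D1368)) (tt N964 F4344) (tt N1963 D2026) (tt N915 F4345))
theorem Q1307 : ∀ i, i < 1307 → P i := stepQ 1306 Q1306 (allL N1306 (tt N864 F4346) (tt N1714 (iv F5531)) (tt N1962 (iv F6285)) (tt N857 F4347) (tt N1963 (iv F6288)) (tt N1964 D2027) (tt N856 (iv D1369)) (tt N1965 D2028))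
theorem Q1308 : ∀ i, i < 1308 → P i := stepQ 1307 Q1307 (allL N1307 (tt N865 F4348) (tt N1966 D2029) (tt N1959 (iv F6276)) (tt N1964 (iv F6291)) (tt N1307 F4349) (tt N857 (iv D1370)) (tt N966 F4350) (tt N1918 (iv F6174)))
theorem Q1309 : ∀ i, i < 1309 → P i := stepQ 1308 Q1308 (allL N1308 (tt N1953 (iv F6258)) (tt N1882 (iv F6071)) (tt N918 F4351) (tt N1967 D2030) (tt N859 F4352) (tt N967 F4353) (tt N1968 D2031) (tt N858 (iv D1371)))
theorem Q1310 : ∀ i, i < 1310 → P i := stepQ 1309 Q1309 (allL N1309 (tt N1954 (iv F6262)) (tt N1883 (iv F6075)) (tt N1969 D2032) (tt N859 (iv D1372)) (tt N1970 D2033) (tt N968 F4354) (tt N1971 D2034) (tt N860 F4355))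
theorem Q1311 : ∀ i, i < 1311 → P i := stepQ 1310 Q1310 (allL N1310 (tt N1955 (iv F6265)) (tt N1884 (iv F6078)) (tt N920 F4356) (tt N1971 (iv F6312)) (tt N1968 (iv F6304)) (tt N1972 D2035) (tt N859 (iv D1373)) (tt N1921 (iv F6181)))
theorem Q1312 : ∀ i, i < 1312 → P i := stepQ 1311 Q1311 (allL N1311 (tt N1956 (iv F6267)) (tt N1973 D2036) (tt N860 (iv D1374)) (tt N862 F4357) (tt N1974 D2037) (tt N970 F4358) (tt N1975 D2038) (tt N1969 (iv F6307)))
theorem Q1313 : ∀ i, i < 1313 → P i := stepQ 1312 Q1312 (allL N1312 (tt N1957 (iv F6270)) (tt N1886 (iv F6082)) (tt N1974 (iv F6319)) (tt N1312 F4359) (tt N860 (iv D1375)) (tt N971 F4360) (tt N1976 D2039) (tt N1970 (iv F6311)))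
theorem Q1314 : ∀ i, i < 1314 → P i := stepQ 1313 Q1313 (allL N1313 (tt N1958 (iv F6273)) (tt N1887 (iv F6088)) (tt N1975 (iv F6322)) (tt N861 F4361) (tt N1976 (iv F6325)) (tt N1977 D2040) (tt N860 (iv D1376)) (tt N1978 D2041))
theorem Q1315 : ∀ i, i < 1315 → P i := stepQ 1314 Q1314 (allL N1314 (tt N1959 (iv F6275)) (tt N1979 D2042) (tt N865 F4362) (tt N1977 (iv F6327)) (tt N1314 F4363) (tt N861 (iv D1377)) (tt N973 F4364) (tt N1925 (iv F6190)))
theorem Q1316 : ∀ i, i < 1316 → P i := stepQ 1315 Q1315 (allL N1315 (tt N1980 D2043) (tt N862 (iv D1378)) (tt N866 F4365) (tt N1973 (iv F6316)) (tt N1981 D2044) (tt N1982 D2045) (tt N1983 D2046) (tt N924 F4366))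
theorem Q1317 : ∀ i, i < 1317 → P i := stepQ 1316 Q1316 (allL N1316 (tt N1961 (iv F6280)) (tt N1981 (iv F6338)) (tt N863 F4367) (tt N1984 D2047) (tt N862 (iv D1379)) (tt N975 F4368) (tt N1985 D2048) (tt N925 F4369))
theorem Q1318 : ∀ i, i < 1318 → P i := stepQ 1317 Q1317 (allL N1317 (tt N1962 (iv F6284)) (tt N1983 (iv F6344)) (tt N864 F4370) (tt N1975 (iv F6323)) (tt N1985 (iv F6350)) (tt N1986 D2049) (tt N862 (iv D1380)) (tt N1987 D2050))
theorem Q1319 : ∀ i, i < 1319 → P i := stepQ 1318 Q1318 (allL N1318 (tt N1963 (iv F6286)) (tt N869 F4371) (tt N1985 (iv F6349)) (tt N1318 F4372) (tt N864 F4373) (tt N1481 (iv F4858)) (tt N863 (iv D1381)) (tt N1017 F4374))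
theorem Q1320 : ∀ i, i < 1320 → P i := stepQ 1319 Q1319 (allL N1319 (tt N1964 (iv F6290)) (tt N1488 (iv F4879)) (tt N1986 (iv F6352)) (tt N865 F4375) (tt N1481 (iv F4857)) (tt N864 (iv D1382)) (tt N977 F4376) (tt N1988 D2051))
theorem Q1321 : ∀ i, i < 1321 → P i := stepQ 1320 Q1320 (allL N1320 (tt N1965 (iv F6293)) (tt N871 F4377) (tt N1987 (iv F6354)) (tt N1931 (iv F6205)) (tt N1017 F4378) (tt N1988 (iv F6358)) (tt N927 F4379) (tt N864 (iv D1383)))
theorem Q1322 : ∀ i, i < 1322 → P i := stepQ 1321 Q1321 (allL N1321 (tt N1989 D2052) (tt N865 (iv D1384)) (tt N1990 D2053) (tt N1488 (iv F4880)) (tt N1321 F4380) (tt N872 F4381) (tt N978 F4382) (tt N1265 F4383))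
theorem Q1323 : ∀ i, i < 1323 → P i := stepQ 1322 Q1322 (allL N1322 (tt N866 (iv D1385)) (tt N1730 (iv F5569)) (tt N1980 (iv F6336)) (tt N1895 (iv F6107)) (tt N1991 D2054) (tt N1992 D2055) (tt N1993 D2056) (tt N928 F4384))
theorem Q1324 : ∀ i, i < 1324 → P i := stepQ 1323 Q1323 (allL N1323 (tt N1991 (iv F6367)) (tt N867 F4385) (tt N1981 (iv F6339)) (tt N1994 D2057) (tt N866 (iv D1386)) (tt N1995 D2058) (tt N1996 D2059) (tt N929 F4386))
theorem Q1325 : ∀ i, i < 1325 → P i := stepQ 1324 Q1324 (allL N1324 (tt N1992 (iv F6369)) (tt N875 F4387) (tt N1982 (iv F6342)) (tt N1897 (iv F6112)) (tt N1995 (iv F6375)) (tt N866 (iv D1387)) (tt N1997 D2060) (tt N930 F4388))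
theorem Q1326 : ∀ i, i < 1326 → P i := stepQ 1325 Q1325 (allL N1325 (tt N1993 (iv F6371)) (tt N868 F4389) (tt N1983 (iv F6345)) (tt N1898 (iv F6115)) (tt N1996 (iv F6378)) (tt N1978 (iv F6332)) (tt N866 (iv D1388)) (tt N1977 F6331))
theorem Q1327 : ∀ i, i < 1327 → P i := stepQ 1326 Q1326 (allL N1326 (tt N1734 (iv F5576)) (tt N1994 (iv F6372)) (tt N1326 F4390) (tt N867 (iv D1389)) (tt N1899 (iv F6117)) (tt N877 F4391) (tt N1998 D2061) (tt N1076 F4392))
theorem Q1328 : ∀ i, i < 1328 → P i := stepQ 1327 Q1327 (allL N1327 (tt N1735 (iv F5580)) (tt N1996 (iv F6377)) (tt N869 F4393) (tt N1998 (iv F6382)) (tt N868 F4394) (tt N1999 D2062) (tt N867 (iv D1390)) (tt N1066 F4395))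
theorem Q1329 : ∀ i, i < 1329 → P i := stepQ 1328 Q1328 (allL N1328 (tt N1736 (iv F5584)) (tt N2000 D2063) (tt N870 F4396) (tt N1290 F4397) (tt N1999 (iv F6385)) (tt N868 (iv D1391)) (tt N879 F4398) (tt N2001 D2064))
theorem Q1330 : ∀ i, i < 1330 → P i := stepQ 1329 Q1329 (allL N1329 (tt N1737 (iv F5588)) (tt N1977 (iv F6330)) (tt N871 F4399) (tt N1979 (iv F6333)) (tt N1066 F4400) (tt N2001 (iv F6392)) (tt N932 F4401) (tt N868 (iv D1392)))
theorem Q1331 : ∀ i, i < 1331 → P i := stepQ 1330 Q1330 (allL N1330 (tt N1738 (iv F5592)) (tt N1489 (iv F4883)) (tt N1999 (iv F6384)) (tt N1330 F4402) (tt N870 F4403) (tt N869 (iv D1393)) (tt N880 F4404) (tt N1067 F4405))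
theorem Q1332 : ∀ i, i < 1332 → P i := stepQ 1331 Q1331 (allL N1331 (tt N2002 D2065) (tt N870 (iv D1394)) (tt N2003 D2066) (tt N872 F4406) (tt N1489 (iv F4885)) (tt N1488 (iv F4882)) (tt N881 F4407) (tt N2004 D2067))
theorem Q1333 : ∀ i, i < 1333 → P i := stepQ 1332 Q1332 (allL N1332 (tt N1740 (iv F5599)) (tt N2004 (iv F6397)) (tt N2001 (iv F6390)) (tt N1270 F4408) (tt N1067 F4409) (tt N871 F4410) (tt N1332 F4411) (tt N870 (iv D1395)))
theorem Q1334 : ∀ i, i < 1334 → P i := stepQ 1333 Q1333 (allL N1333 (tt N872 (iv D1396)) (tt N1741 (iv F5604)) (tt N2005 D2068) (tt N2002 (iv F6394)) (tt N1333 F4412) (tt N1989 (iv F6360)) (tt N882 F4413) (tt N1257 F4414))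
theorem Q1335 : ∀ i, i < 1335 → P i := stepQ 1334 Q1334 (allL N1334 (tt N2005 (iv F6401)) (tt N1283 F4415) (tt N872 (iv D1397)) (tt N2006 D2069) (tt N1334 F4416) (tt N1990 (iv F6364)) (tt N883 F4417) (tt N1261 F4418))
theorem Q1336 : ∀ i, i < 1336 → P i := stepQ 1335 Q1335 (allL N1335 (tt N874 F4419) (tt N1743 (iv F5613)) (tt N983 F4420) (tt N2007 D2070) (tt N873 (iv D1398)) (tt N2008 D2071) (tt N1491 (iv F4890)) (tt N933 F4421))
theorem Q1337 : ∀ i, i < 1337 → P i := stepQ 1336 Q1336 (allL N1336 (tt N875 F4422) (tt N2009 D2072) (tt N984 F4423) (tt N1903 (iv F6129)) (tt N2008 (iv F6410)) (tt N873 (iv D1399)) (tt N2010 D2073) (tt N934 F4424))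
theorem Q1338 : ∀ i, i < 1338 → P i := stepQ 1337 Q1337 (allL N1337 (tt N876 F4425) (tt N1745 (iv F5620)) (tt N985 F4426) (tt N1293 F4427) (tt N1491 (iv F4889)) (tt N2011 D2074) (tt N873 (iv D1400)) (tt N1337 F4428))
theorem Q1339 : ∀ i, i < 1339 → P i := stepQ 1338 Q1338 (allL N1338 (tt N2007 (iv F6407)) (tt N877 F4429) (tt N1483 (iv F4864)) (tt N874 (iv D1401)) (tt N1904 (iv F6132)) (tt N2012 D2075) (tt N1492 (iv F4894)) (tt N2013 D2076))
theorem Q1340 : ∀ i, i < 1340 → P i := stepQ 1339 Q1339 (allL N1339 (tt N2008 (iv F6408)) (tt N1995 (iv F6374)) (tt N986 F4430) (tt N2012 (iv F6419)) (tt N875 F4431) (tt N874 (iv D1402)) (tt N2014 D2077) (tt N936 F4432))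
theorem Q1341 : ∀ i, i < 1341 → P i := stepQ 1340 Q1340 (allL N1340 (tt N2010 (iv F6413)) (tt N1997 (iv F6380)) (tt N987 F4433) (tt N1906 (iv F6137)) (tt N2014 (iv F6423)) (tt N2015 D2078) (tt N875 (iv D1403)) (tt N2016 D2079))
theorem Q1342 : ∀ i, i < 1342 → P i := stepQ 1341 Q1341 (allL N1341 (tt N2011 (iv F6415)) (tt N2017 D2080) (tt N988 F4434) (tt N1295 F4435) (tt N1347 (iv F4451)) (tt N876 (iv D1404)) (tt N2015 (iv F6428)) (tt N1341 F4436))
theorem Q1343 : ∀ i, i < 1343 → P i := stepQ 1342 Q1342 (allL N1342 (tt N1751 (iv F5636)) (tt N1492 (iv F4892)) (tt N1342 F4437) (tt N878 F4438) (tt N1296 F4439) (tt N2018 D2081) (tt N877 (iv D1405)) (tt N2019 D2082))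
theorem Q1344 : ∀ i, i < 1344 → P i := stepQ 1343 Q1343 (allL N1343 (tt N1752 (iv F5640)) (tt N2013 (iv F6420)) (tt N1343 F4440) (tt N938 F4441) (tt N1907 (iv F6140)) (tt N1076 F4442) (tt N2020 D2083) (tt N877 (iv D1406)))
theorem Q1345 : ∀ i, i < 1345 → P i := stepQ 1344 Q1344 (allL N1344 (tt N1753 (iv F5644)) (tt N2021 D2084) (tt N880 F4443) (tt N2018 (iv F6435)) (tt N879 F4444) (tt N878 (iv D1407)) (tt N1999 (iv F6386)) (tt N1344 F4445))
theorem Q1346 : ∀ i, i < 1346 → P i := stepQ 1345 Q1345 (allL N1345 (tt N2022 D2085) (tt N879 (iv D1408)) (tt N2023 D2086) (tt N1288 F4446) (tt N2021 (iv F6444)) (tt N2017 (iv F6432)) (tt N2000 (iv F6389)) (tt N1345 F4447))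
theorem Q1347 : ∀ i, i < 1347 → P i := stepQ 1346 Q1346 (allL N1346 (tt N881 (iv D1409)) (tt N1756 (iv F5654)) (tt N2024 D2087) (tt N882 F4448) (tt N1487 (iv F4877)) (tt N989 F4449) (tt N2002 (iv F6395)) (tt N1346 F4450))
theorem Q1348 : ∀ i, i < 1348 → P i := stepQ 1347 Q1347 (allL N1347 (tt N2024 (iv F6452)) (tt N2023 (iv F6448)) (tt N881 (iv D1410)) (tt N2025 D2088) (tt N1341 F4451) (tt N990 F4452) (tt N2003 (iv F6396)) (tt N1347 F4453))
theorem Q1349 : ∀ i, i < 1349 → P i := stepQ 1348 Q1348 (allL N1348 (tt N883 F4454) (tt N2026 D2089) (tt N882 (iv D1411)) (tt N2027 D2090) (tt N1348 F4455) (tt N991 F4456) (tt N2005 (iv F6403)) (tt N884 F4457))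
theorem Q1350 : ∀ i, i < 1350 → P i := stepQ 1349 Q1349 (allL N1349 (tt N2027 (iv F6461)) (tt N1282 F4458) (tt N2025 (iv F6456)) (tt N883 (iv D1412)) (tt N2028 D2091) (tt N992 F4459) (tt N2006 (iv F6406)) (tt N2029 D2092))
theorem Q1351 : ∀ i, i < 1351 → P i := stepQ 1350 Q1350 (allL N1350 (tt N1275 F4460) (tt N884 (iv D1413)) (tt N1760 (iv F5667)) (tt N2030 D2093) (tt N1350 F4461) (tt N2031 D2094) (tt N1253 F4462) (tt N2026 (iv F6460)))
theorem Q1352 : ∀ i, i < 1352 → P i := stepQ 1351 Q1351 (allL N1351 (tt N885 F4463) (tt N2030 (iv F6470)) (tt N1351 F4464) (tt N884 (iv D1414)) (tt N2032 D2095) (tt N994 F4465) (tt N1254 F4466) (tt N2033 D2096))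
theorem Q1353 : ∀ i, i < 1353 → P i := stepQ 1352 Q1352 (allL N1352 (tt N2032 (iv F6475)) (tt N1280 F4467) (tt N1352 F4468) (tt N1352 F4469) (tt N885 (iv D1415)) (tt N995 F4470) (tt N1258 F4471) (tt N2034 D2097))
theorem Q1354 : ∀ i, i < 1354 → P i := stepQ 1353 Q1353 (allL N1353 (tt N2033 (iv F6480)) (tt N1281 F4472) (tt N1353 F4473) (tt N2029 (iv F6467)) (tt N2034 (iv F6485)) (tt N996 F4474) (tt N2035 D2098) (tt N885 (iv D1416)))
theorem Q1355 : ∀ i, i < 1355 → P i := stepQ 1354 Q1354 (allL N1354 (tt N1354 F4475) (tt N887 F4476) (tt N2036 D2099) (tt N886 (iv D1417)) (tt N2037 D2100) (tt N2038 D2101) (tt N907 F4477) (tt N2039 D2102))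
theorem Q1356 : ∀ i, i < 1356 → P i := stepQ 1355 Q1355 (allL N1355 (tt N1355 F4478) (tt N1355 F4479) (tt N948 F4480) (tt N2038 (iv F6498)) (tt N940 F4481) (tt N886 (iv D1418)) (tt N1868 (iv F6028)) (tt N2040 D2103))
theorem Q1357 : ∀ i, i < 1357 → P i := stepQ 1356 Q1356 (allL N1356 (tt N1356 F4482) (tt N888 F4483) (tt N1779 (iv F5738)) (tt N2041 D2104) (tt N941 F4484) (tt N2040 (iv F6505)) (tt N2042 D2105) (tt N886 (iv D1419)))
theorem Q1358 : ∀ i, i < 1358 → P i := stepQ 1357 Q1357 (allL N1357 (tt N891 F4485) (tt N2037 (iv F6493)) (tt N1911 (iv F6149)) (tt N942 F4486) (tt N887 (iv D1420)) (tt N1357 F4487) (tt N910 F4488) (tt N2043 D2106))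
theorem Q1359 : ∀ i, i < 1359 → P i := stepQ 1358 Q1358 (allL N1358 (tt N892 F4489) (tt N2039 (iv F6500)) (tt N1912 (iv F6154)) (tt N2044 D2107) (tt N2043 (iv F6517)) (tt N1358 F4490) (tt N2045 D2108) (tt N887 (iv D1421)))
theorem Q1360 : ∀ i, i < 1360 → P i := stepQ 1359 Q1359 (allL N1359 (tt N893 F4491) (tt N2041 (iv F6508)) (tt N2046 D2109) (tt N888 (iv D1422)) (tt N1359 F4492) (tt N1359 F4493) (tt N1618 F5236) (tt N2044 (iv F6522)))
theorem Q1361 : ∀ i, i < 1361 → P i := stepQ 1360 Q1360 (allL N1360 (tt N894 F4494) (tt N2042 (iv F6511)) (tt N890 F4495) (tt N1618 (iv F5233)) (tt N943 F4496) (tt N1041 (iv F4498)) (tt N888 (iv D1423)) (tt N913 F4497))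
theorem Q1362 : ∀ i, i < 1362 → P i := stepQ 1361 Q1361 (allL N1361 (tt N895 F4499) (tt N2047 D2110) (tt N889 (iv D1424)) (tt N2046 (iv F6526)) (tt N2048 D2111) (tt N1361 F4500) (tt N2049 D2112) (tt N1915 (iv F6164)))
theorem Q1363 : ∀ i, i < 1363 → P i := stepQ 1362 Q1362 (allL N1362 (tt N896 F4501) (tt N1784 (iv F5752)) (tt N2048 (iv F6530)) (tt N944 F4502) (tt N889 (iv D1425)) (tt N1362 F4503) (tt N1040 (iv F4504)) (tt N1916 (iv F6168)))
theorem Q1364 : ∀ i, i < 1364 → P i := stepQ 1363 Q1363 (allL N1363 (tt N897 F4505) (tt N1785 (iv F5756)) (tt N2049 (iv F6535)) (tt N890 F4506) (tt N1040 F4507) (tt N2050 D2113) (tt N889 (iv D1426)) (tt N2051 D2114))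
theorem Q1365 : ∀ i, i < 1365 → P i := stepQ 1364 Q1364 (allL N1364 (tt N898 F4508) (tt N2052 D2115) (tt N1041 F4509) (tt N2050 (iv F6538)) (tt N945 F4510) (tt N890 (iv D1427)) (tt N1364 F4511) (tt N917 F4512))
theorem Q1366 : ∀ i, i < 1366 → P i := stepQ 1365 Q1365 (allL N1365 (tt N2043 (iv F6515)) (tt N1365 F4513) (tt N1919 (iv F6175)) (tt N1365 F4514) (tt N892 F4515) (tt N1365 F4516) (tt N2053 D2116) (tt N891 (iv D1428)))
theorem Q1367 : ∀ i, i < 1367 → P i := stepQ 1366 Q1366 (allL N1366 (tt N2044 (iv F6519)) (tt N1366 F4517) (tt N2054 D2117) (tt N892 (iv D1429)) (tt N1366 F4518) (tt N1366 F4519) (tt N1619 (iv F5241)) (tt N893 F4520))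
theorem Q1368 : ∀ i, i < 1368 → P i := stepQ 1367 Q1367 (allL N1367 (tt N2045 (iv F6523)) (tt N1367 F4521) (tt N1921 (iv F6180)) (tt N1619 (iv F5238)) (tt N2053 (iv F6551)) (tt N1620 (iv F5243)) (tt N892 (iv D1430)) (tt N920 F4522))
theorem Q1369 : ∀ i, i < 1369 → P i := stepQ 1368 Q1368 (allL N1368 (tt N2046 (iv F6525)) (tt N2055 D2118) (tt N893 (iv D1431)) (tt N895 F4523) (tt N1368 F4524) (tt N1368 F4525) (tt N1610 (iv F5206)) (tt N2054 (iv F6555)))
theorem Q1370 : ∀ i, i < 1370 → P i := stepQ 1369 Q1369 (allL N1369 (tt N2056 D2119) (tt N895 (iv D1432)) (tt N899 F4526) (tt N2055 (iv F6557)) (tt N2057 D2120) (tt N2058 D2121) (tt N2059 D2122) (tt N1926 (iv F6192)))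
theorem Q1371 : ∀ i, i < 1371 → P i := stepQ 1370 Q1370 (allL N1370 (tt N2048 (iv F6529)) (tt N2057 (iv F6560)) (tt N896 F4527) (tt N1370 F4528) (tt N895 (iv D1433)) (tt N1370 F4529) (tt N1042 (iv F4530)) (tt N1927 (iv F6195)))
theorem Q1372 : ∀ i, i < 1372 → P i := stepQ 1371 Q1371 (allL N1371 (tt N2049 (iv F6534)) (tt N2059 (iv F6566)) (tt N897 F4531) (tt N1610 F5205) (tt N1042 F4532) (tt N1611 (iv F5209)) (tt N895 (iv D1434)) (tt N2060 D2123))
theorem Q1373 : ∀ i, i < 1373 → P i := stepQ 1372 Q1372 (allL N1372 (tt N2050 (iv F6537)) (tt N1372 F4533) (tt N1611 (iv F5208)) (tt N898 F4534) (tt N954 F4535) (tt N897 (iv D1435)) (tt N1372 F4536) (tt N2061 D2124))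
theorem Q1374 : ∀ i, i < 1374 → P i := stepQ 1373 Q1373 (allL N1373 (tt N2051 (iv F6541)) (tt N902 F4537) (tt N2060 (iv F6572)) (tt N927 F4538) (tt N1014 F4539) (tt N2061 (iv F6580)) (tt N1931 (iv F6207)) (tt N897 (iv D1436)))
theorem Q1375 : ∀ i, i < 1375 → P i := stepQ 1374 Q1374 (allL N1374 (tt N899 (iv D1437)) (tt N1797 (iv F5788)) (tt N2056 (iv F6559)) (tt N1374 F4540) (tt N2062 D2125) (tt N2063 D2126) (tt N2064 D2127) (tt N1932 (iv F6208)))
theorem Q1376 : ∀ i, i < 1376 → P i := stepQ 1375 Q1375 (allL N1375 (tt N2062 (iv F6581)) (tt N900 F4541) (tt N2057 (iv F6561)) (tt N1098 (iv F4542)) (tt N899 (iv D1438)) (tt N2065 D2128) (tt N1090 (iv F4543)) (tt N1933 (iv F6210)))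
theorem Q1377 : ∀ i, i < 1377 → P i := stepQ 1376 Q1376 (allL N1376 (tt N2063 (iv F6584)) (tt N905 F4544) (tt N2058 (iv F6565)) (tt N1376 F4545) (tt N2065 (iv F6591)) (tt N899 (iv D1439)) (tt N2066 D2129) (tt N1934 (iv F6212)))
theorem Q1378 : ∀ i, i < 1378 → P i := stepQ 1377 Q1377 (allL N1377 (tt N2064 (iv F6586)) (tt N901 F4546) (tt N2059 (iv F6567)) (tt N1377 F4547) (tt N1090 F4548) (tt N2067 D2130) (tt N899 (iv D1440)) (tt N2068 D2131))
theorem Q1379 : ∀ i, i < 1379 → P i := stepQ 1378 Q1378 (allL N1378 (tt N1801 (iv F5798)) (tt N2068 (iv F6599)) (tt N902 F4549) (tt N2069 D2132) (tt N1062 F4550) (tt N1378 F4551) (tt N1938 (iv F6224)) (tt N901 (iv D1441)))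
theorem Q1380 : ∀ i, i < 1380 → P i := stepQ 1379 Q1379 (allL N1379 (tt N904 F4552) (tt N1802 (iv F5803)) (tt N1379 F4553) (tt N2070 D2133) (tt N903 (iv D1442)) (tt N2071 D2134) (tt N1379 F4554) (tt N1939 (iv F6228)))
theorem Q1381 : ∀ i, i < 1381 → P i := stepQ 1380 Q1380 (allL N1380 (tt N905 F4555) (tt N2072 D2135) (tt N1380 F4556) (tt N1380 F4557) (tt N2071 (iv F6614)) (tt N903 (iv D1443)) (tt N2073 D2136) (tt N1940 (iv F6231)))
theorem Q1382 : ∀ i, i < 1382 → P i := stepQ 1381 Q1381 (allL N1381 (tt N2070 (iv F6609)) (tt N906 F4558) (tt N2074 D2137) (tt N904 (iv D1444)) (tt N1381 F4559) (tt N2075 D2138) (tt N1381 F4560) (tt N2076 D2139))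
theorem Q1383 : ∀ i, i < 1383 → P i := stepQ 1382 Q1382 (allL N1382 (tt N2071 (iv F6612)) (tt N2065 (iv F6589)) (tt N1382 F4561) (tt N2075 (iv F6625)) (tt N905 F4562) (tt N904 (iv D1445)) (tt N2077 D2140) (tt N1942 (iv F6238)))
theorem Q1384 : ∀ i, i < 1384 → P i := stepQ 1383 Q1383 (allL N1383 (tt N2073 (iv F6616)) (tt N2066 (iv F6592)) (tt N1383 F4563) (tt N1383 F4564) (tt N2077 (iv F6630)) (tt N1383 F4565) (tt N905 (iv D1446)) (tt N2078 D2141))
theorem Q1385 : ∀ i, i < 1385 → P i := stepQ 1384 Q1384 (allL N1384 (tt N1807 (iv F5814)) (tt N2076 (iv F6627)) (tt N947 F4566) (tt N1944 (iv F6242)) (tt N1384 F4567) (tt N1099 F4568) (tt N2079 D2142) (tt N906 (iv D1447)))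
theorem Q1386 : ∀ i, i < 1386 → P i := stepQ 1385 Q1385 (allL N1385 (tt N1385 F4569) (tt N1945 (iv F6244)) (tt N907 (iv D1448)) (tt N1808 (iv F5819)) (tt N2080 D2143) (tt N2081 D2144) (tt N2036 (iv F6491)) (tt N2082 D2145))
theorem Q1387 : ∀ i, i < 1387 → P i := stepQ 1386 Q1386 (allL N1386 (tt N1386 F4570) (tt N910 F4571) (tt N2080 (iv F6639)) (tt N948 F4572) (tt N907 (iv D1449)) (tt N1778 (iv F5734)) (tt N2037 (iv F6495)) (tt N2083 D2146))
theorem Q1388 : ∀ i, i < 1388 → P i := stepQ 1387 Q1387 (allL N1387 (tt N1387 F4573) (tt N999 F4574) (tt N2081 (iv F6641)) (tt N908 F4575) (tt N1778 (iv F5733)) (tt N907 (iv D1450)) (tt N1809 (iv F5823)) (tt N2084 D2147))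
theorem Q1389 : ∀ i, i < 1389 → P i := stepQ 1388 Q1388 (allL N1388 (tt N1388 F4576) (tt N911 F4577) (tt N2082 (iv F6643)) (tt N2085 D2148) (tt N2083 (iv F6646)) (tt N2084 (iv F6649)) (tt N2086 D2149) (tt N907 (iv D1451)))
theorem Q1390 : ∀ i, i < 1390 → P i := stepQ 1389 Q1389 (allL N1389 (tt N1389 F4578) (tt N1001 F4579) (tt N1813 (iv F5837)) (tt N2087 D2150) (tt N950 F4580) (tt N909 F4581) (tt N1389 F4582) (tt N908 (iv D1452)))
theorem Q1391 : ∀ i, i < 1391 → P i := stepQ 1390 Q1390 (allL N1390 (tt N1390 F4583) (tt N912 F4584) (tt N2088 D2151) (tt N909 (iv D1453)) (tt N2089 D2152) (tt N2087 (iv F6657)) (tt N2090 D2153) (tt N2085 (iv F6652)))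
theorem Q1392 : ∀ i, i < 1392 → P i := stepQ 1391 Q1391 (allL N1391 (tt N1391 F4585) (tt N913 F4586) (tt N1815 (iv F5846)) (tt N2090 (iv F6666)) (tt N952 F4587) (tt N1391 F4588) (tt N909 (iv D1454)) (tt N2042 (iv F6514)))
theorem Q1393 : ∀ i, i < 1393 → P i := stepQ 1392 Q1392 (allL N1392 (tt N918 F4589) (tt N2083 (iv F6645)) (tt N1953 (iv F6259)) (tt N2091 D2154) (tt N911 F4590) (tt N1003 F4591) (tt N2092 D2155) (tt N910 (iv D1455)))
theorem Q1394 : ∀ i, i < 1394 → P i := stepQ 1393 Q1393 (allL N1393 (tt N919 F4592) (tt N2085 (iv F6651)) (tt N2093 D2156) (tt N911 (iv D1456)) (tt N2094 D2157) (tt N1004 F4593) (tt N2095 D2158) (tt N912 F4594))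
theorem Q1395 : ∀ i, i < 1395 → P i := stepQ 1394 Q1394 (allL N1394 (tt N920 F4595) (tt N2086 (iv F6654)) (tt N1955 (iv F6266)) (tt N2095 (iv F6681)) (tt N2092 (iv F6673)) (tt N2096 D2159) (tt N911 (iv D1457)) (tt N2045 (iv F6524)))
theorem Q1396 : ∀ i, i < 1396 → P i := stepQ 1395 Q1395 (allL N1395 (tt N921 F4596) (tt N2097 D2160) (tt N912 (iv D1458)) (tt N914 F4597) (tt N2098 D2161) (tt N1006 F4598) (tt N2099 D2162) (tt N2093 (iv F6676)))
theorem Q1397 : ∀ i, i < 1397 → P i := stepQ 1396 Q1396 (allL N1396 (tt N922 F4599) (tt N2089 (iv F6661)) (tt N2098 (iv F6686)) (tt N917 F4600) (tt N912 (iv D1459)) (tt N916 F4601) (tt N1011 (iv F4602)) (tt N2094 (iv F6679)))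
theorem Q1398 : ∀ i, i < 1398 → P i := stepQ 1397 Q1397 (allL N1397 (tt N923 F4603) (tt N2090 (iv F6665)) (tt N2099 (iv F6691)) (tt N913 F4604) (tt N1011 F4605) (tt N1010 F4606) (tt N912 (iv D1460)) (tt N1549 (iv F5036)))
theorem Q1399 : ∀ i, i < 1399 → P i := stepQ 1398 Q1398 (allL N1398 (tt N2100 D2163) (tt N914 (iv D1461)) (tt N1822 (iv F5870)) (tt N2097 (iv F6684)) (tt N2101 D2164) (tt N2102 D2165) (tt N2103 D2166) (tt N1960 (iv F6279)))
theorem Q1400 : ∀ i, i < 1400 → P i := stepQ 1399 Q1399 (allL N1399 (tt N925 F4607) (tt N2101 (iv F6696)) (tt N915 F4608) (tt N1009 (iv F4610)) (tt N914 (iv D1462)) (tt N1008 F4609) (tt N1006 (iv F4611)) (tt N1961 (iv F6283)))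
theorem Q1401 : ∀ i, i < 1401 → P i := stepQ 1400 Q1400 (allL N1400 (tt N926 F4612) (tt N2103 (iv F6700)) (tt N916 F4613) (tt N2099 (iv F6692)) (tt N1006 F4614) (tt N2098 (iv F6688)) (tt N914 (iv D1463)) (tt N2104 D2167))
theorem Q1402 : ∀ i, i < 1402 → P i := stepQ 1401 Q1401 (allL N1401 (tt N927 F4615) (tt N1826 (iv F5884)) (tt N2104 (iv F6703)) (tt N2051 (iv F6542)) (tt N1004 F4616) (tt N2094 (iv F6678)) (tt N1965 (iv F6295)) (tt N916 (iv D1464)))
theorem Q1403 : ∀ i, i < 1403 → P i := stepQ 1402 Q1402 (allL N1402 (tt N1402 F4617) (tt N917 (iv D1465)) (tt N1402 F4618) (tt N2089 (iv F6662)) (tt N951 F4619) (tt N1827 (iv F5889)) (tt N1013 F4620) (tt N2052 (iv F6548)))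
theorem Q1404 : ∀ i, i < 1404 → P i := stepQ 1403 Q1403 (allL N1403 (tt N2091 (iv F6669)) (tt N1403 F4621) (tt N2105 D2168) (tt N918 (iv D1466)) (tt N2061 (iv F6579)) (tt N1014 F4622) (tt N2106 D2169) (tt N954 F4623))
theorem Q1405 : ∀ i, i < 1405 → P i := stepQ 1404 Q1404 (allL N1404 (tt N2092 (iv F6672)) (tt N1404 F4624) (tt N1968 (iv F6303)) (tt N2106 (iv F6711)) (tt N920 F4625) (tt N2107 D2170) (tt N918 (iv D1467)) (tt N2053 (iv F6552)))
theorem Q1406 : ∀ i, i < 1406 → P i := stepQ 1405 Q1405 (allL N1405 (tt N2093 (iv F6674)) (tt N2108 D2171) (tt N919 (iv D1468)) (tt N1969 (iv F6305)) (tt N2109 D2172) (tt N1016 F4626) (tt N2110 D2173) (tt N921 F4627))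
theorem Q1407 : ∀ i, i < 1407 → P i := stepQ 1406 Q1406 (allL N1406 (tt N2094 (iv F6677)) (tt N1406 F4628) (tt N2109 (iv F6720)) (tt N2061 (iv F6578)) (tt N919 (iv D1469)) (tt N927 F4629) (tt N2111 D2174) (tt N922 F4630))
theorem Q1408 : ∀ i, i < 1408 → P i := stepQ 1407 Q1407 (allL N1407 (tt N2095 (iv F6680)) (tt N1407 F4631) (tt N2110 (iv F6724)) (tt N920 F4632) (tt N2111 (iv F6726)) (tt N1552 (iv F5047)) (tt N919 (iv D1470)) (tt N1551 F5045))
theorem Q1409 : ∀ i, i < 1409 → P i := stepQ 1408 Q1408 (allL N1408 (tt N2096 (iv F6682)) (tt N1559 (iv F5064)) (tt N1972 (iv F6313)) (tt N1552 F5049) (tt N2107 (iv F6713)) (tt N920 (iv D1471)) (tt N1018 F4633) (tt N1620 (iv F5245)))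
theorem Q1410 : ∀ i, i < 1410 → P i := stepQ 1409 Q1409 (allL N1409 (tt N2112 D2175) (tt N921 (iv D1472)) (tt N1409 F4634) (tt N924 F4635) (tt N1544 (iv F5020)) (tt N2113 D2176) (tt N2114 D2177) (tt N2108 (iv F6717)))
theorem Q1411 : ∀ i, i < 1411 → P i := stepQ 1410 Q1410 (allL N1410 (tt N2098 (iv F6685)) (tt N1544 (iv F5018)) (tt N922 F4636) (tt N1025 F4637) (tt N921 (iv D1473)) (tt N926 F4638) (tt N1024 (iv F4639)) (tt N2109 (iv F6723)))
theorem Q1412 : ∀ i, i < 1412 → P i := stepQ 1411 Q1411 (allL N1411 (tt N2099 (iv F6690)) (tt N2114 (iv F6733)) (tt N923 F4640) (tt N926 F4641) (tt N1024 F4642) (tt N1025 F4643) (tt N921 (iv D1474)) (tt N1542 (iv F5014)))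
theorem Q1413 : ∀ i, i < 1413 → P i := stepQ 1412 Q1412 (allL N1412 (tt N924 (iv D1475)) (tt N2100 (iv F6695)) (tt N928 F4644) (tt N2112 (iv F6729)) (tt N2115 D2178) (tt N2116 D2179) (tt N2117 D2180) (tt N1980 (iv F6337)))
theorem Q1414 : ∀ i, i < 1414 → P i := stepQ 1413 Q1413 (allL N1413 (tt N2115 (iv F6737)) (tt N925 F4645) (tt N929 F4646) (tt N1023 (iv F4647)) (tt N924 (iv D1476)) (tt N2118 D2181) (tt N1019 (iv F4648)) (tt N1981 (iv F6340)))
theorem Q1415 : ∀ i, i < 1415 → P i := stepQ 1414 Q1414 (allL N1414 (tt N2116 (iv F6741)) (tt N1022 F4649) (tt N930 F4650) (tt N2113 (iv F6732)) (tt N2118 (iv F6749)) (tt N924 (iv D1477)) (tt N2119 D2182) (tt N1982 (iv F6343)))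
theorem Q1416 : ∀ i, i < 1416 → P i := stepQ 1415 Q1415 (allL N1415 (tt N2117 (iv F6743)) (tt N926 F4651) (tt N931 F4652) (tt N2114 (iv F6735)) (tt N1019 F4653) (tt N2120 D2183) (tt N924 (iv D1478)) (tt N2121 D2184))
theorem Q1417 : ∀ i, i < 1417 → P i := stepQ 1416 Q1416 (allL N1416 (tt N2104 (iv F6702)) (tt N2121 (iv F6755)) (tt N927 F4654) (tt N2122 D2185) (tt N1016 F4655) (tt N2109 (iv F6722)) (tt N1987 (iv F6356)) (tt N926 (iv D1479)))
theorem Q1418 : ∀ i, i < 1418 → P i := stepQ 1417 Q1417 (allL N1417 (tt N929 F4656) (tt N1844 (iv F5938)) (tt N2115 (iv F6738)) (tt N1072 (iv F4657)) (tt N928 (iv D1480)) (tt N2123 D2186) (tt N1069 (iv F4658)) (tt N1991 (iv F6368)))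
theorem Q1419 : ∀ i, i < 1419 → P i := stepQ 1418 Q1418 (allL N1418 (tt N930 F4659) (tt N2124 D2187) (tt N2116 (iv F6742)) (tt N1418 F4660) (tt N2123 (iv F6767)) (tt N928 (iv D1481)) (tt N2125 D2188) (tt N1992 (iv F6370)))
theorem Q1420 : ∀ i, i < 1420 → P i := stepQ 1419 Q1419 (allL N1419 (tt N931 F4661) (tt N1846 (iv F5944)) (tt N2117 (iv F6744)) (tt N1419 F4662) (tt N1069 F4663) (tt N2126 D2189) (tt N928 (iv D1482)) (tt N2127 D2190))
theorem Q1421 : ∀ i, i < 1421 → P i := stepQ 1420 Q1420 (allL N1420 (tt N2123 (iv F6765)) (tt N936 F4664) (tt N2118 (iv F6747)) (tt N1074 F4665) (tt N930 F4666) (tt N929 (iv D1483)) (tt N2128 D2191) (tt N1995 (iv F6376)))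
theorem Q1422 : ∀ i, i < 1422 → P i := stepQ 1421 Q1421 (allL N1421 (tt N2125 (iv F6770)) (tt N937 F4667) (tt N2119 (iv F6751)) (tt N1421 F4668) (tt N2128 (iv F6782)) (tt N2129 D2192) (tt N930 (iv D1484)) (tt N2130 D2193))
theorem Q1423 : ∀ i, i < 1423 → P i := stepQ 1422 Q1422 (allL N1422 (tt N2126 (iv F6772)) (tt N1422 F4669) (tt N2120 (iv F6752)) (tt N1422 F4670) (tt N1070 F4671) (tt N931 (iv D1485)) (tt N2129 (iv F6787)) (tt N972 F4676))
theorem Q1424 : ∀ i, i < 1424 → P i := stepQ 1423 Q1423 (allL N1423 (tt N2127 (iv F6776)) (tt N932 F4672) (tt N2121 (iv F6756)) (tt N973 F4674) (tt N1065 F4673) (tt N972 (iv F4675)) (tt N1977 (iv F6329)) (tt N931 (iv D1486)))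
theorem Q1425 : ∀ i, i < 1425 → P i := stepQ 1424 Q1424 (allL N1424 (tt N1851 (iv F5957)) (tt N973 F4677) (tt N2069 (iv F6605)) (tt N932 (iv D1487)) (tt N1424 F4678) (tt N1424 F4679) (tt N1979 (iv F6335)) (tt N1424 F4680))
theorem Q1426 : ∀ i, i < 1426 → P i := stepQ 1425 Q1425 (allL N1425 (tt N935 F4681) (tt N1852 (iv F5962)) (tt N1425 F4682) (tt N933 (iv D1488)) (tt N1425 F4683) (tt N2131 D2194) (tt N1425 F4684) (tt N2132 D2195))
theorem Q1427 : ∀ i, i < 1427 → P i := stepQ 1426 Q1426 (allL N1426 (tt N936 F4685) (tt N2133 D2196) (tt N1034 F4686) (tt N2131 (iv F6794)) (tt N934 F4687) (tt N933 (iv D1489)) (tt N2134 D2197) (tt N2008 (iv F6411)))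
theorem Q1428 : ∀ i, i < 1428 → P i := stepQ 1427 Q1427 (allL N1427 (tt N2124 (iv F6768)) (tt N934 (iv D1490)) (tt N2135 D2198) (tt N1427 F4688) (tt N2133 (iv F6799)) (tt N1854 (iv F5969)) (tt N2136 D2199) (tt N2009 (iv F6412)))
theorem Q1429 : ∀ i, i < 1429 → P i := stepQ 1428 Q1428 (allL N1428 (tt N937 F4689) (tt N2136 (iv F6805)) (tt N1036 F4690) (tt N1428 F4691) (tt N2134 (iv F6802)) (tt N1428 F4692) (tt N934 (iv D1491)) (tt N2137 D2200))
theorem Q1430 : ∀ i, i < 1430 → P i := stepQ 1429 Q1429 (allL N1429 (tt N2131 (iv F6792)) (tt N1074 F4693) (tt N1429 F4694) (tt N936 F4695) (tt N1429 F4696) (tt N935 (iv D1492)) (tt N2138 D2201) (tt N2139 D2202))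
theorem Q1431 : ∀ i, i < 1431 → P i := stepQ 1430 Q1430 (allL N1430 (tt N2132 (iv F6796)) (tt N938 F4697) (tt N1430 F4698) (tt N2013 (iv F6421)) (tt N1430 F4699) (tt N2139 (iv F6819)) (tt N2140 D2203) (tt N935 (iv D1493)))
theorem Q1432 : ∀ i, i < 1432 → P i := stepQ 1431 Q1431 (allL N1431 (tt N2134 (iv F6800)) (tt N2128 (iv F6780)) (tt N1037 F4700) (tt N2138 (iv F6812)) (tt N937 F4701) (tt N1431 F4702) (tt N936 (iv D1494)) (tt N2141 D2204))
theorem Q1433 : ∀ i, i < 1433 → P i := stepQ 1432 Q1432 (allL N1432 (tt N2137 (iv F6807)) (tt N2130 (iv F6789)) (tt N1038 F4703) (tt N2142 D2205) (tt N2141 (iv F6826)) (tt N1432 F4704) (tt N2016 (iv F6430)) (tt N937 (iv D1495)))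
theorem Q1434 : ∀ i, i < 1434 → P i := stepQ 1433 Q1433 (allL N1433 (tt N1861 (iv F5988)) (tt N2140 (iv F6821)) (tt N955 F4705) (tt N2020 (iv F6441)) (tt N1433 F4706) (tt N1433 F4707) (tt N938 (iv D1496)) (tt N1433 F4708))
theorem Q1435 : ∀ i, i < 1435 → P i := stepQ 1434 Q1434 (allL N1434 (tt N1434 F4709) (tt N942 F4710) (tt N1868 (iv F6026)) (tt N2037 (iv F6494)) (tt N939 (iv D1497)) (tt N1812 (iv F5833)) (tt N948 F4711) (tt N1434 F4712))
theorem Q1436 : ∀ i, i < 1436 → P i := stepQ 1435 Q1435 (allL N1435 (tt N1435 F4713) (tt N1435 F4714) (tt N949 F4715) (tt N1435 F4716) (tt N2040 (iv F6504)) (tt N941 F4717) (tt N1435 F4718) (tt N940 (iv D1498)))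
theorem Q1437 : ∀ i, i < 1437 → P i := stepQ 1436 Q1436 (allL N1436 (tt N1436 F4719) (tt N943 F4720) (tt N1866 (iv F6015)) (tt N1436 F4721) (tt N2042 (iv F6512)) (tt N1436 F4722) (tt N941 (iv D1499)) (tt N952 F4723))
theorem Q1438 : ∀ i, i < 1438 → P i := stepQ 1437 Q1437 (allL N1437 (tt N1437 F4724) (tt N945 (iv D1500)) (tt N1437 F4725) (tt N949 F4726) (tt N2052 (iv F6546)) (tt N1865 (iv F6011)) (tt N1437 F4727) (tt N951 F4728))
theorem Q1439 : ∀ i, i < 1439 → P i := stepQ 1438 Q1438 (allL N1438 (tt N1438 F4729) (tt N2074 (iv F6620)) (tt N946 (iv D1501)) (tt N1438 F4730) (tt N1438 F4731) (tt N1438 F4732) (tt N1438 F4733) (tt N2143 D2206))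
theorem Q1440 : ∀ i, i < 1440 → P i := stepQ 1439 Q1439 (allL N1439 (tt N1439 F4734) (tt N947 F4735) (tt N2143 (iv F6832)) (tt N1439 F4736) (tt N1439 F4737) (tt N1439 F4738) (tt N2144 D2207) (tt N946 (iv D1502)))
theorem Q1441 : ∀ i, i < 1441 → P i := stepQ 1440 Q1440 (allL N1440 (tt N1867 (iv F6018)) (tt N2144 (iv F6836)) (tt N2079 (iv F6634)) (tt N1440 F4739) (tt N1440 F4740) (tt N1440 F4741) (tt N947 (iv D1503)) (tt N1440 F4742))
theorem Q1442 : ∀ i, i < 1442 → P i := stepQ 1441 Q1441 (allL N1441 (tt N1441 F4743) (tt N953 F4744) (tt N2040 (iv F6503)) (tt N2145 D2208) (tt N949 F4745) (tt N1779 (iv F5740)) (tt N1441 F4746) (tt N948 (iv D1504)))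
theorem Q1443 : ∀ i, i < 1443 → P i := stepQ 1442 Q1442 (allL N1442 (tt N954 F4747) (tt N2145 (iv F6841)) (tt N2146 D2209) (tt N953 (iv D1505)) (tt N2050 (iv F6539)) (tt N1040 F4748) (tt N1442 F4749) (tt N2091 (iv F6671)))
theorem Q1444 : ∀ i, i < 1444 → P i := stepQ 1443 Q1443 (allL N1443 (tt N2146 (iv F6843)) (tt N1612 (iv F5212)) (tt N954 (iv D1506)) (tt N1443 F4750) (tt N1611 F5211) (tt N1042 F4751) (tt N1443 F4752) (tt N2105 (iv F6708)))
theorem Q1445 : ∀ i, i < 1445 → P i := stepQ 1444 Q1444 (allL N1444 (tt N1444 F4753) (tt N997 F4754) (tt N956 (iv D1507)) (tt N1444 F4755) (tt N2147 D2210) (tt N2148 D2211) (tt N1444 F4756) (tt N2149 D2212))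
theorem Q1446 : ∀ i, i < 1446 → P i := stepQ 1445 Q1445 (allL N1445 (tt N1445 F4757) (tt N959 F4758) (tt N2147 (iv F6849)) (tt N1445 F4759) (tt N956 (iv D1508)) (tt N2150 D2213) (tt N1445 F4760) (tt N2151 D2214))
theorem Q1447 : ∀ i, i < 1447 → P i := stepQ 1446 Q1446 (allL N1446 (tt N1446 F4761) (tt N1947 (iv F6247)) (tt N2148 (iv F6852)) (tt N957 F4762) (tt N2150 (iv F6859)) (tt N956 (iv D1509)) (tt N2152 D2215) (tt N2153 D2216))
theorem Q1448 : ∀ i, i < 1448 → P i := stepQ 1447 Q1447 (allL N1447 (tt N1447 F4763) (tt N960 F4764) (tt N2149 (iv F6856)) (tt N2154 D2217) (tt N2151 (iv F6862)) (tt N2153 (iv F6867)) (tt N2155 D2218) (tt N956 (iv D1510)))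
theorem Q1449 : ∀ i, i < 1449 → P i := stepQ 1448 Q1448 (allL N1448 (tt N1448 F4765) (tt N1949 (iv F6250)) (tt N1448 F4766) (tt N2152 (iv F6864)) (tt N1448 F4767) (tt N1448 F4768) (tt N957 (iv D1511)) (tt N2156 D2219))
theorem Q1450 : ∀ i, i < 1450 → P i := stepQ 1449 Q1449 (allL N1449 (tt N1449 F4769) (tt N1950 (iv F6252)) (tt N1449 F4770) (tt N2157 D2220) (tt N1449 F4771) (tt N958 F4772) (tt N2158 D2221) (tt N957 (iv D1512)))
theorem Q1451 : ∀ i, i < 1451 → P i := stepQ 1450 Q1450 (allL N1450 (tt N1450 F4773) (tt N961 F4774) (tt N2159 D2222) (tt N958 (iv D1513)) (tt N2160 D2223) (tt N2157 (iv F6879)) (tt N2161 D2224) (tt N2154 (iv F6870)))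
theorem Q1452 : ∀ i, i < 1452 → P i := stepQ 1451 Q1451 (allL N1451 (tt N1451 F4775) (tt N962 F4776) (tt N1451 F4777) (tt N2161 (iv F6890)) (tt N1451 F4778) (tt N2162 D2225) (tt N958 (iv D1514)) (tt N1451 F4779))
theorem Q1453 : ∀ i, i < 1453 → P i := stepQ 1452 Q1452 (allL N1452 (tt N967 F4780) (tt N2151 (iv F6861)) (tt N1003 F4781) (tt N2163 D2226) (tt N960 F4782) (tt N1953 (iv F6261)) (tt N2164 D2227) (tt N959 (iv D1515)))
theorem Q1454 : ∀ i, i < 1454 → P i := stepQ 1453 Q1453 (allL N1453 (tt N968 F4783) (tt N2154 (iv F6869)) (tt N2165 D2228) (tt N960 (iv D1516)) (tt N2166 D2229) (tt N1954 (iv F6263)) (tt N2167 D2230) (tt N961 F4784))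
theorem Q1455 : ∀ i, i < 1455 → P i := stepQ 1454 Q1454 (allL N1454 (tt N969 F4785) (tt N2155 (iv F6872)) (tt N1005 F4786) (tt N2167 (iv F6907)) (tt N2164 (iv F6899)) (tt N2168 D2231) (tt N960 (iv D1517)) (tt N1454 F4787))
theorem Q1456 : ∀ i, i < 1456 → P i := stepQ 1455 Q1455 (allL N1455 (tt N970 F4788) (tt N2169 D2232) (tt N961 (iv D1518)) (tt N963 F4789) (tt N2170 D2233) (tt N1956 (iv F6269)) (tt N2171 D2234) (tt N2165 (iv F6903)))
theorem Q1457 : ∀ i, i < 1457 → P i := stepQ 1456 Q1456 (allL N1456 (tt N971 F4790) (tt N2160 (iv F6886)) (tt N2170 (iv F6913)) (tt N1456 F4791) (tt N961 (iv D1519)) (tt N1957 (iv F6272)) (tt N2172 D2235) (tt N2166 (iv F6905)))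
theorem Q1458 : ∀ i, i < 1458 → P i := stepQ 1457 Q1457 (allL N1457 (tt N972 F4792) (tt N2161 (iv F6889)) (tt N2171 (iv F6915)) (tt N962 F4793) (tt N2172 (iv F6919)) (tt N2127 (iv F6778)) (tt N961 (iv D1520)) (tt N2126 F6775))
theorem Q1459 : ∀ i, i < 1459 → P i := stepQ 1458 Q1458 (allL N1458 (tt N973 F4794) (tt N2173 D2236) (tt N966 F4795) (tt N2127 F6779) (tt N1458 F4796) (tt N962 (iv D1521)) (tt N1959 (iv F6278)) (tt N1458 F4797))
theorem Q1460 : ∀ i, i < 1460 → P i := stepQ 1459 Q1459 (allL N1459 (tt N2174 D2237) (tt N963 (iv D1522)) (tt N1459 F4798) (tt N2169 (iv F6911)) (tt N2175 D2238) (tt N2176 D2239) (tt N2177 D2240) (tt N1007 F4799))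
theorem Q1461 : ∀ i, i < 1461 → P i := stepQ 1460 Q1460 (allL N1460 (tt N975 F4800) (tt N2175 (iv F6927)) (tt N964 F4801) (tt N2178 D2241) (tt N963 (iv D1523)) (tt N1961 (iv F6282)) (tt N1474 (iv F4836)) (tt N1008 F4802))
theorem Q1462 : ∀ i, i < 1462 → P i := stepQ 1461 Q1461 (allL N1461 (tt N976 F4803) (tt N2177 (iv F6934)) (tt N965 F4804) (tt N2171 (iv F6916)) (tt N1474 (iv F4835)) (tt N2179 D2242) (tt N963 (iv D1524)) (tt N1536 (iv F4999)))
theorem Q1463 : ∀ i, i < 1463 → P i := stepQ 1462 Q1462 (allL N1462 (tt N977 F4805) (tt N2180 D2243) (tt N2179 (iv F6940)) (tt N966 F4806) (tt N1480 (iv F4853)) (tt N965 (iv D1525)) (tt N1964 (iv F6292)) (tt N1546 (iv F5027)))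
theorem Q1464 : ∀ i, i < 1464 → P i := stepQ 1463 Q1463 (allL N1463 (tt N2181 D2244) (tt N966 (iv D1526)) (tt N2182 D2245) (tt N2180 (iv F6941)) (tt N1463 F4807) (tt N1463 F4808) (tt N1966 (iv F6297)) (tt N1463 F4809))
theorem Q1465 : ∀ i, i < 1465 → P i := stepQ 1464 Q1464 (allL N1464 (tt N2163 (iv F6895)) (tt N1464 F4810) (tt N2183 D2246) (tt N967 (iv D1527)) (tt N2184 D2247) (tt N1967 (iv F6299)) (tt N2185 D2248) (tt N1464 F4811))
theorem Q1466 : ∀ i, i < 1466 → P i := stepQ 1465 Q1465 (allL N1465 (tt N2164 (iv F6897)) (tt N1465 F4812) (tt N1015 F4813) (tt N2185 (iv F6961)) (tt N969 F4814) (tt N2186 D2249) (tt N967 (iv D1528)) (tt N1465 F4815))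
theorem Q1467 : ∀ i, i < 1467 → P i := stepQ 1466 Q1466 (allL N1466 (tt N2165 (iv F6901)) (tt N2187 D2250) (tt N968 (iv D1529)) (tt N1016 F4816) (tt N2188 D2251) (tt N1969 (iv F6306)) (tt N2189 D2252) (tt N970 F4817))
theorem Q1468 : ∀ i, i < 1468 → P i := stepQ 1467 Q1467 (allL N1467 (tt N2166 (iv F6904)) (tt N1467 F4818) (tt N2188 (iv F6968)) (tt N2184 (iv F6957)) (tt N968 (iv D1530)) (tt N1970 (iv F6310)) (tt N2190 D2253) (tt N971 F4819))
theorem Q1469 : ∀ i, i < 1469 → P i := stepQ 1468 Q1468 (allL N1468 (tt N2167 (iv F6906)) (tt N1468 F4820) (tt N2189 (iv F6972)) (tt N969 F4821) (tt N2190 (iv F6975)) (tt N2130 (iv F6790)) (tt N968 (iv D1531)) (tt N2129 F6788))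
theorem Q1470 : ∀ i, i < 1470 → P i := stepQ 1469 Q1469 (allL N1469 (tt N2168 (iv F6908)) (tt N2142 (iv F6828)) (tt N1018 F4822) (tt N2130 F6791) (tt N2186 (iv F6963)) (tt N969 (iv D1532)) (tt N1972 (iv F6314)) (tt N1469 F4823))
theorem Q1471 : ∀ i, i < 1471 → P i := stepQ 1470 Q1470 (allL N1470 (tt N2191 D2254) (tt N970 (iv D1533)) (tt N1470 F4824) (tt N974 F4825) (tt N2192 D2255) (tt N2193 D2256) (tt N1476 (iv F4842)) (tt N2187 (iv F6967)))
theorem Q1472 : ∀ i, i < 1472 → P i := stepQ 1471 Q1471 (allL N1471 (tt N2170 (iv F6912)) (tt N2192 (iv F6980)) (tt N971 F4826) (tt N2194 D2257) (tt N970 (iv D1534)) (tt N1974 (iv F6320)) (tt N2195 D2258) (tt N2188 (iv F6971)))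
theorem Q1473 : ∀ i, i < 1473 → P i := stepQ 1472 Q1472 (allL N1472 (tt N2171 (iv F6914)) (tt N1476 (iv F4840)) (tt N972 F4827) (tt N976 F4828) (tt N2195 (iv F6996)) (tt N2121 (iv F6758)) (tt N970 (iv D1535)) (tt N2120 F6754))
theorem Q1474 : ∀ i, i < 1474 → P i := stepQ 1473 Q1473 (allL N1473 (tt N2172 (iv F6917)) (tt N1473 F4829) (tt N2195 (iv F6994)) (tt N1473 F4830) (tt N972 F4831) (tt N1065 (iv F4832)) (tt N971 (iv D1536)) (tt N1070 (iv F4833)))
theorem Q1475 : ∀ i, i < 1475 → P i := stepQ 1474 Q1474 (allL N1474 (tt N974 (iv D1537)) (tt N2174 (iv F6924)) (tt N979 F4834) (tt N2191 (iv F6978)) (tt N1461 F4835) (tt N2196 D2259) (tt N1460 F4836) (tt N1020 F4837))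
theorem Q1476 : ∀ i, i < 1476 → P i := stepQ 1475 Q1475 (allL N1475 (tt N2196 (iv F6999)) (tt N1982 (iv F6341)) (tt N980 F4838) (tt N2193 (iv F6985)) (tt N1477 (iv F4844)) (tt N974 (iv D1538)) (tt N2197 D2260) (tt N1022 F4839))
theorem Q1477 : ∀ i, i < 1477 → P i := stepQ 1476 Q1476 (allL N1476 (tt N2178 (iv F6937)) (tt N1472 F4840) (tt N1476 F4841) (tt N975 (iv D1539)) (tt N2194 (iv F6989)) (tt N1984 (iv F6347)) (tt N1470 F4842) (tt N2198 D2261))
theorem Q1478 : ∀ i, i < 1478 → P i := stepQ 1477 Q1477 (allL N1477 (tt N2179 (iv F6939)) (tt N2122 (iv F6760)) (tt N977 F4843) (tt N2121 (iv F6759)) (tt N1475 F4844) (tt N976 (iv D1540)) (tt N1986 (iv F6353)) (tt N1540 (iv F5011)))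
theorem Q1479 : ∀ i, i < 1479 → P i := stepQ 1478 Q1478 (allL N1478 (tt N978 (iv D1541)) (tt N2181 (iv F6943)) (tt N2199 D2262) (tt N1484 (iv F4867)) (tt N1478 F4845) (tt N981 F4846) (tt N1989 (iv F6361)) (tt N1478 F4847))
theorem Q1480 : ∀ i, i < 1480 → P i := stepQ 1479 Q1479 (allL N1479 (tt N2199 (iv F7011)) (tt N2069 (iv F6604)) (tt N978 (iv D1542)) (tt N2068 F6603) (tt N1479 F4848) (tt N982 F4849) (tt N1990 (iv F6365)) (tt N1479 F4850))
theorem Q1481 : ∀ i, i < 1481 → P i := stepQ 1480 Q1480 (allL N1480 (tt N980 F4851) (tt N2200 D2263) (tt N2196 (iv F7000)) (tt N1480 F4852) (tt N1462 F4853) (tt N979 (iv D1543)) (tt N2201 D2264) (tt N1029 F4854))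
theorem Q1482 : ∀ i, i < 1482 → P i := stepQ 1481 Q1481 (allL N1481 (tt N2201 (iv F7020)) (tt N987 F4855) (tt N2197 (iv F7003)) (tt N1481 F4856) (tt N1319 F4857) (tt N1318 F4858) (tt N980 (iv D1544)) (tt N1532 (iv F4988)))
theorem Q1483 : ∀ i, i < 1483 → P i := stepQ 1482 Q1482 (allL N1482 (tt N982 F4859) (tt N2202 D2265) (tt N981 (iv D1545)) (tt N2203 D2266) (tt N1482 F4860) (tt N2199 (iv F7013)) (tt N991 F4861) (tt N1482 F4862))
theorem Q1484 : ∀ i, i < 1484 → P i := stepQ 1483 Q1483 (allL N1483 (tt N2203 (iv F7029)) (tt N1483 F4863) (tt N1338 F4864) (tt N982 (iv D1546)) (tt N2204 D2267) (tt N2068 (iv F6602)) (tt N992 F4865) (tt N2067 (iv F6598)))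
theorem Q1485 : ∀ i, i < 1485 → P i := stepQ 1484 Q1484 (allL N1484 (tt N986 F4866) (tt N2205 D2268) (tt N2008 (iv F6409)) (tt N1478 F4867) (tt N984 F4868) (tt N983 (iv D1547)) (tt N2206 D2269) (tt N1034 F4869))
theorem Q1486 : ∀ i, i < 1486 → P i := stepQ 1485 Q1485 (allL N1485 (tt N2200 (iv F7015)) (tt N984 (iv D1548)) (tt N2207 D2270) (tt N1485 F4870) (tt N2205 (iv F7040)) (tt N1485 F4871) (tt N2208 D2271) (tt N1035 F4872))
theorem Q1487 : ∀ i, i < 1487 → P i := stepQ 1486 Q1486 (allL N1486 (tt N987 F4873) (tt N2208 (iv F7049)) (tt N2010 (iv F6414)) (tt N1486 F4874) (tt N2206 (iv F7045)) (tt N2209 D2272) (tt N984 (iv D1549)) (tt N2210 D2273))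
theorem Q1488 : ∀ i, i < 1488 → P i := stepQ 1487 Q1487 (allL N1487 (tt N988 F4875) (tt N2211 D2274) (tt N2011 (iv F6416)) (tt N1487 F4876) (tt N1346 F4877) (tt N985 (iv D1550)) (tt N2209 (iv F7054)) (tt N1487 F4878))
theorem Q1489 : ∀ i, i < 1489 → P i := stepQ 1488 Q1488 (allL N1488 (tt N2206 (iv F7043)) (tt N1319 F4879) (tt N2014 (iv F6422)) (tt N1321 F4880) (tt N987 F4881) (tt N1331 F4882) (tt N986 (iv D1551)) (tt N2212 D2275))
theorem Q1490 : ∀ i, i < 1490 → P i := stepQ 1489 Q1489 (allL N1489 (tt N2209 (iv F7051)) (tt N1330 F4883) (tt N2015 (iv F6425)) (tt N1489 F4884) (tt N1331 F4885) (tt N987 (iv D1552)) (tt N988 F4886) (tt N1599 (iv F5172)))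
theorem Q1491 : ∀ i, i < 1491 → P i := stepQ 1490 Q1490 (allL N1490 (tt N2210 (iv F7055)) (tt N1532 F4989) (tt N2016 (iv F6429)) (tt N1533 (iv F4990)) (tt N2212 (iv F7063)) (tt N1599 (iv F5170)) (tt N1038 F4887) (tt N987 (iv D1553)))
theorem Q1492 : ∀ i, i < 1492 → P i := stepQ 1491 Q1491 (allL N1491 (tt N990 F4888) (tt N2213 D2276) (tt N989 (iv D1554)) (tt N2214 D2277) (tt N1337 F4889) (tt N2024 (iv F6454)) (tt N1335 F4890) (tt N1491 F4891))
theorem Q1493 : ∀ i, i < 1493 → P i := stepQ 1492 Q1492 (allL N1492 (tt N2214 (iv F7071)) (tt N1342 F4892) (tt N992 F4893) (tt N990 (iv D1555)) (tt N1941 (iv F6233)) (tt N2025 (iv F6457)) (tt N1338 F4894) (tt N2215 D2278))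
theorem Q1494 : ∀ i, i < 1494 → P i := stepQ 1493 Q1493 (allL N1493 (tt N1493 F4895) (tt N991 (iv D1556)) (tt N1493 F4896) (tt N2216 D2279) (tt N1493 F4897) (tt N2217 D2280) (tt N2202 (iv F7027)) (tt N993 F4898))
theorem Q1495 : ∀ i, i < 1495 → P i := stepQ 1494 Q1494 (allL N1494 (tt N992 F4899) (tt N2216 (iv F7078)) (tt N2214 (iv F7072)) (tt N991 (iv D1557)) (tt N2218 D2281) (tt N2027 (iv F6462)) (tt N2203 (iv F7031)) (tt N2219 D2282))
theorem Q1496 : ∀ i, i < 1496 → P i := stepQ 1495 Q1495 (allL N1495 (tt N2218 (iv F7083)) (tt N1495 F4900) (tt N1941 F6235) (tt N1495 F4901) (tt N992 (iv D1558)) (tt N2028 (iv F6465)) (tt N2204 (iv F7036)) (tt N2220 D2283))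
theorem Q1497 : ∀ i, i < 1497 → P i := stepQ 1496 Q1496 (allL N1496 (tt N2219 (iv F7085)) (tt N1496 F4902) (tt N2215 (iv F7075)) (tt N996 F4903) (tt N2220 (iv F7088)) (tt N2029 (iv F6468)) (tt N2221 D2284) (tt N992 (iv D1559)))
theorem Q1498 : ∀ i, i < 1498 → P i := stepQ 1497 Q1497 (allL N1497 (tt N1497 F4904) (tt N994 F4905) (tt N2222 D2285) (tt N993 (iv D1560)) (tt N2223 D2286) (tt N2224 D2287) (tt N1497 F4906) (tt N2225 D2288))
theorem Q1499 : ∀ i, i < 1499 → P i := stepQ 1498 Q1498 (allL N1498 (tt N1498 F4907) (tt N2031 (iv F6473)) (tt N1498 F4908) (tt N2224 (iv F7100)) (tt N1498 F4909) (tt N993 (iv D1561)) (tt N2226 D2289) (tt N2217 (iv F7082)))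
theorem Q1500 : ∀ i, i < 1500 → P i := stepQ 1499 Q1499 (allL N1499 (tt N995 F4910) (tt N2223 (iv F7096)) (tt N1499 F4911) (tt N1499 F4912) (tt N994 (iv D1562)) (tt N2032 (iv F6478)) (tt N1499 F4913) (tt N2227 D2290))
theorem Q1501 : ∀ i, i < 1501 → P i := stepQ 1500 Q1500 (allL N1500 (tt N996 F4914) (tt N2225 (iv F7102)) (tt N1500 F4915) (tt N2219 (iv F7086)) (tt N2227 (iv F7109)) (tt N2033 (iv F6482)) (tt N2228 D2291) (tt N994 (iv D1563)))
theorem Q1502 : ∀ i, i < 1502 → P i := stepQ 1501 Q1501 (allL N1501 (tt N2227 (iv F7107)) (tt N1501 F4916) (tt N1501 F4917) (tt N2229 D2292) (tt N996 F4918) (tt N2034 (iv F6486)) (tt N2230 D2293) (tt N995 (iv D1564)))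
theorem Q1503 : ∀ i, i < 1503 → P i := stepQ 1502 Q1502 (allL N1502 (tt N2228 (iv F7110)) (tt N1502 F4919) (tt N1502 F4920) (tt N2221 (iv F7090)) (tt N2230 (iv F7117)) (tt N2231 D2294) (tt N996 (iv D1565)) (tt N1502 F4921))
theorem Q1504 : ∀ i, i < 1504 → P i := stepQ 1503 Q1503 (allL N1503 (tt N1043 F4922) (tt N2147 (iv F6848)) (tt N998 F4923) (tt N1675 (iv F5405)) (tt N997 (iv D1566)) (tt N1685 (iv F5446)) (tt N1503 F4924) (tt N2232 D2295))
theorem Q1505 : ∀ i, i < 1505 → P i := stepQ 1504 Q1504 (allL N1504 (tt N1044 F4925) (tt N2233 D2296) (tt N999 F4926) (tt N1504 F4927) (tt N1685 F5448) (tt N997 (iv D1567)) (tt N1708 (iv F5513)) (tt N2234 D2297))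
theorem Q1506 : ∀ i, i < 1506 → P i := stepQ 1505 Q1505 (allL N1505 (tt N1045 F4928) (tt N2149 (iv F6855)) (tt N1000 F4929) (tt N2235 D2298) (tt N2232 (iv F7123)) (tt N2234 (iv F7127)) (tt N2236 D2299) (tt N997 (iv D1568)))
theorem Q1507 : ∀ i, i < 1507 → P i := stepQ 1506 Q1506 (allL N1506 (tt N1046 F4930) (tt N1003 F4931) (tt N2232 (iv F7122)) (tt N2237 D2300) (tt N1000 F4932) (tt N1780 (iv F5743)) (tt N2238 D2301) (tt N998 (iv D1569)))
theorem Q1508 : ∀ i, i < 1508 → P i := stepQ 1507 Q1507 (allL N1507 (tt N1047 F4933) (tt N2084 (iv F6648)) (tt N2234 (iv F7126)) (tt N2239 D2302) (tt N1780 (iv F5742)) (tt N1000 F4934) (tt N2240 D2303) (tt N999 (iv D1570)))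
theorem Q1509 : ∀ i, i < 1509 → P i := stepQ 1508 Q1508 (allL N1508 (tt N1048 F4935) (tt N1004 F4936) (tt N2241 D2304) (tt N1000 (iv D1571)) (tt N1826 (iv F5885)) (tt N2239 (iv F7141)) (tt N2242 D2305) (tt N1002 F4937))
theorem Q1510 : ∀ i, i < 1510 → P i := stepQ 1509 Q1509 (allL N1509 (tt N1049 F4938) (tt N1005 F4939) (tt N2236 (iv F7131)) (tt N2242 (iv F7148)) (tt N2238 (iv F7138)) (tt N2243 D2306) (tt N1000 (iv D1572)) (tt N1509 F4940))
theorem Q1511 : ∀ i, i < 1511 → P i := stepQ 1510 Q1510 (allL N1510 (tt N1050 F4941) (tt N2087 (iv F6656)) (tt N2244 D2307) (tt N1001 (iv D1573)) (tt N1825 (iv F5881)) (tt N1002 F4942) (tt N1510 F4943) (tt N2239 (iv F7142)))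
theorem Q1512 : ∀ i, i < 1512 → P i := stepQ 1511 Q1511 (allL N1511 (tt N1051 F4944) (tt N2245 D2308) (tt N1002 (iv D1574)) (tt N1511 F4945) (tt N1824 (iv F5878)) (tt N2244 (iv F7153)) (tt N1823 F5875) (tt N2241 (iv F7145)))
theorem Q1513 : ∀ i, i < 1513 → P i := stepQ 1512 Q1512 (allL N1512 (tt N1014 F4946) (tt N2237 (iv F7134)) (tt N2246 D2309) (tt N1003 (iv D1575)) (tt N2051 (iv F6543)) (tt N2091 (iv F6670)) (tt N2247 D2310) (tt N1040 F4947))
theorem Q1514 : ∀ i, i < 1514 → P i := stepQ 1513 Q1513 (allL N1513 (tt N1015 F4948) (tt N2238 (iv F7137)) (tt N2164 (iv F6898)) (tt N2247 (iv F7160)) (tt N1005 F4949) (tt N2248 D2311) (tt N1003 (iv D1576)) (tt N1513 F4950))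
theorem Q1515 : ∀ i, i < 1515 → P i := stepQ 1514 Q1514 (allL N1514 (tt N1016 F4951) (tt N2249 D2312) (tt N1004 (iv D1577)) (tt N2165 (iv F6902)) (tt N2104 (iv F6704)) (tt N2093 (iv F6675)) (tt N2250 D2313) (tt N1006 F4952))
theorem Q1516 : ∀ i, i < 1516 → P i := stepQ 1515 Q1515 (allL N1515 (tt N1017 F4953) (tt N2242 (iv F7147)) (tt N2250 (iv F7166)) (tt N1005 F4954) (tt N1965 (iv F6294)) (tt N2251 D2314) (tt N1004 (iv D1578)) (tt N1963 (iv F6289)))
theorem Q1517 : ∀ i, i < 1517 → P i := stepQ 1516 Q1516 (allL N1516 (tt N1018 F4955) (tt N2252 D2315) (tt N2168 (iv F6909)) (tt N2251 (iv F7168)) (tt N2248 (iv F7162)) (tt N1005 (iv D1579)) (tt N2096 (iv F6683)) (tt N1516 F4956))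
theorem Q1518 : ∀ i, i < 1518 → P i := stepQ 1517 Q1517 (allL N1517 (tt N2253 D2316) (tt N1006 (iv D1580)) (tt N2245 (iv F7155)) (tt N1007 F4957) (tt N2103 (iv F6701)) (tt N2254 D2317) (tt N2101 F6698) (tt N2249 (iv F7164)))
theorem Q1519 : ∀ i, i < 1519 → P i := stepQ 1518 Q1518 (allL N1518 (tt N1007 (iv D1581)) (tt N1020 F4958) (tt N1518 F4959) (tt N2253 (iv F7172)) (tt N2255 D2318) (tt N2256 D2319) (tt N2257 D2320) (tt N2174 (iv F6926)))
theorem Q1520 : ∀ i, i < 1520 → P i := stepQ 1519 Q1519 (allL N1519 (tt N2255 (iv F7174)) (tt N1008 F4960) (tt N1519 F4961) (tt N2258 D2321) (tt N1007 (iv D1582)) (tt N2259 D2322) (tt N2260 D2323) (tt N2175 (iv F6929)))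
theorem Q1521 : ∀ i, i < 1521 → P i := stepQ 1520 Q1520 (allL N1520 (tt N2256 (iv F7178)) (tt N2102 (iv F6699)) (tt N1520 F4962) (tt N2254 (iv F7173)) (tt N2259 (iv F7185)) (tt N1007 (iv D1583)) (tt N2261 D2324) (tt N2176 (iv F6932)))
theorem Q1522 : ∀ i, i < 1522 → P i := stepQ 1521 Q1521 (allL N1521 (tt N2257 (iv F7180)) (tt N1009 F4963) (tt N1521 F4964) (tt N2101 F6697) (tt N2260 (iv F7188)) (tt N2262 D2325) (tt N1007 (iv D1584)) (tt N2263 D2326))
theorem Q1523 : ∀ i, i < 1523 → P i := stepQ 1522 Q1522 (allL N1522 (tt N1024 F4965) (tt N2258 (iv F7183)) (tt N1011 F4966) (tt N1008 (iv D1585)) (tt N2099 (iv F6693)) (tt N1009 F4967) (tt N2098 F6689) (tt N2264 D2327))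
theorem Q1524 : ∀ i, i < 1524 → P i := stepQ 1523 Q1523 (allL N1523 (tt N1025 F4968) (tt N2260 (iv F7186)) (tt N1010 F4969) (tt N2098 (iv F6687)) (tt N1009 F4970) (tt N2099 (iv F6694)) (tt N1008 (iv D1586)) (tt N1538 (iv F5006)))
theorem Q1525 : ∀ i, i < 1525 → P i := stepQ 1524 Q1524 (allL N1524 (tt N1026 F4971) (tt N2263 (iv F7193)) (tt N1012 F4972) (tt N2265 D2328) (tt N1538 (iv F5005)) (tt N2264 (iv F7199)) (tt N1536 F5000) (tt N1009 (iv D1587)))
theorem Q1526 : ∀ i, i < 1526 → P i := stepQ 1525 Q1525 (allL N1525 (tt N1525 F4973) (tt N1011 (iv D1588)) (tt N2266 D2329) (tt N1013 F4974) (tt N2090 (iv F6667)) (tt N1525 F4975) (tt N2089 F6663) (tt N2267 D2330))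
theorem Q1527 : ∀ i, i < 1527 → P i := stepQ 1526 Q1526 (allL N1526 (tt N1027 F4976) (tt N2267 (iv F7207)) (tt N2264 (iv F7198)) (tt N1526 F4977) (tt N1549 (iv F5035)) (tt N1012 F4978) (tt N2268 D2331) (tt N1011 (iv D1589)))
theorem Q1528 : ∀ i, i < 1528 → P i := stepQ 1527 Q1527 (allL N1527 (tt N2246 (iv F7157)) (tt N2269 D2332) (tt N1014 (iv D1590)) (tt N2183 (iv F6950)) (tt N2060 (iv F6574)) (tt N2105 (iv F6707)) (tt N2270 D2333) (tt N1042 F4979))
theorem Q1529 : ∀ i, i < 1529 → P i := stepQ 1528 Q1528 (allL N1528 (tt N2247 (iv F7159)) (tt N1063 F4980) (tt N2270 (iv F7217)) (tt N1015 F4981) (tt N1931 (iv F6206)) (tt N2271 D2334) (tt N1014 (iv D1591)) (tt N1929 (iv F6200)))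
theorem Q1530 : ∀ i, i < 1530 → P i := stepQ 1529 Q1529 (allL N1529 (tt N2248 (iv F7161)) (tt N2272 D2335) (tt N2186 (iv F6962)) (tt N2271 (iv F7218)) (tt N1018 F4982) (tt N1015 (iv D1592)) (tt N2107 (iv F6714)) (tt N1529 F4983))
theorem Q1531 : ∀ i, i < 1531 → P i := stepQ 1530 Q1530 (allL N1530 (tt N2273 D2336) (tt N1016 (iv D1593)) (tt N1065 F4984) (tt N2187 (iv F6966)) (tt N2121 (iv F6757)) (tt N2195 (iv F6997)) (tt N2274 D2337) (tt N1019 F4985))
theorem Q1532 : ∀ i, i < 1532 → P i := stepQ 1531 Q1531 (allL N1531 (tt N2250 (iv F7165)) (tt N2274 (iv F7224)) (tt N1017 F4986) (tt N2189 (iv F6973)) (tt N1987 (iv F6355)) (tt N2275 D2338) (tt N1016 (iv D1594)) (tt N1985 (iv F6351)))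
theorem Q1533 : ∀ i, i < 1533 → P i := stepQ 1532 Q1532 (allL N1532 (tt N2251 (iv F7167)) (tt N1490 (iv F4989)) (tt N2275 (iv F7226)) (tt N1018 F4987) (tt N1988 (iv F6357)) (tt N1017 (iv D1595)) (tt N1552 (iv F5048)) (tt N1481 F4988))
theorem Q1534 : ∀ i, i < 1534 → P i := stepQ 1533 Q1533 (allL N1533 (tt N2276 D2339) (tt N1018 (iv D1596)) (tt N2277 D2340) (tt N1490 F4990) (tt N2272 (iv F7219)) (tt N1068 F4991) (tt N1559 (iv F5066)) (tt N1533 F4992))
theorem Q1535 : ∀ i, i < 1535 → P i := stepQ 1534 Q1534 (allL N1534 (tt N1019 (iv D1597)) (tt N2253 (iv F7171)) (tt N1069 F4993) (tt N1020 F4994) (tt N2117 (iv F6745)) (tt N2278 D2341) (tt N2115 F6740) (tt N2273 (iv F7223)))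
theorem Q1536 : ∀ i, i < 1536 → P i := stepQ 1535 Q1535 (allL N1535 (tt N2278 (iv F7233)) (tt N2113 (iv F6730)) (tt N1070 F4995) (tt N1022 F4996) (tt N2120 (iv F6753)) (tt N1019 (iv D1598)) (tt N2279 D2342) (tt N2195 F6998))
theorem Q1537 : ∀ i, i < 1537 → P i := stepQ 1536 Q1536 (allL N1536 (tt N1021 F4997) (tt N2255 (iv F7175)) (tt N1028 F4998) (tt N2280 D2343) (tt N1020 (iv D1599)) (tt N2281 D2344) (tt N1524 (iv F5000)) (tt N1461 F4999))
theorem Q1538 : ∀ i, i < 1538 → P i := stepQ 1537 Q1537 (allL N1537 (tt N1022 F5001) (tt N2282 D2345) (tt N1029 F5002) (tt N2278 (iv F7235)) (tt N2281 (iv F7243)) (tt N1020 (iv D1600)) (tt N2283 D2346) (tt N2196 (iv F7002)))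
theorem Q1539 : ∀ i, i < 1539 → P i := stepQ 1538 Q1538 (allL N1538 (tt N1023 F5003) (tt N2257 (iv F7181)) (tt N1030 F5004) (tt N2115 F6739) (tt N1524 F5005) (tt N2284 D2347) (tt N1020 (iv D1601)) (tt N1523 F5006))
theorem Q1540 : ∀ i, i < 1540 → P i := stepQ 1539 Q1539 (allL N1539 (tt N2280 (iv F7238)) (tt N1024 F5007) (tt N1539 F5008) (tt N1021 (iv D1602)) (tt N2114 (iv F6736)) (tt N2285 D2348) (tt N1544 (iv F5021)) (tt N2286 D2349))
theorem Q1541 : ∀ i, i < 1541 → P i := stepQ 1540 Q1540 (allL N1540 (tt N2281 (iv F7241)) (tt N2118 (iv F6746)) (tt N1031 F5009) (tt N2285 (iv F7253)) (tt N1022 F5010) (tt N1021 (iv D1603)) (tt N2287 D2350) (tt N1477 F5011))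
theorem Q1542 : ∀ i, i < 1542 → P i := stepQ 1541 Q1541 (allL N1541 (tt N2283 (iv F7245)) (tt N2119 (iv F6750)) (tt N1032 F5012) (tt N2279 (iv F7237)) (tt N2287 (iv F7261)) (tt N2288 D2351) (tt N1022 (iv D1604)) (tt N2289 D2352))
theorem Q1543 : ∀ i, i < 1543 → P i := stepQ 1542 Q1542 (allL N1542 (tt N2284 (iv F7247)) (tt N2285 (iv F7251)) (tt N1033 F5013) (tt N2118 (iv F6748)) (tt N1543 (iv F5016)) (tt N1023 (iv D1605)) (tt N2288 (iv F7263)) (tt N1411 F5014))
theorem Q1544 : ∀ i, i < 1544 → P i := stepQ 1543 Q1543 (allL N1543 (tt N2264 (iv F7197)) (tt N2286 (iv F7255)) (tt N1027 F5015) (tt N2198 (iv F7008)) (tt N1542 F5016) (tt N1026 F5017) (tt N2290 D2353) (tt N1024 (iv D1606)))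
theorem Q1545 : ∀ i, i < 1545 → P i := stepQ 1544 Q1544 (allL N1544 (tt N2265 (iv F7200)) (tt N1410 F5018) (tt N1544 F5019) (tt N1026 (iv D1607)) (tt N1409 F5020) (tt N2198 (iv F7010)) (tt N1539 F5021) (tt N1984 (iv F6348)))
theorem Q1546 : ∀ i, i < 1546 → P i := stepQ 1545 Q1545 (allL N1545 (tt N2268 (iv F7210)) (tt N1545 F5022) (tt N2290 (iv F7268)) (tt N1545 F5023) (tt N1551 (iv F5043)) (tt N1550 (iv F5040)) (tt N1027 (iv D1608)) (tt N2111 (iv F6727)))
theorem Q1547 : ∀ i, i < 1547 → P i := stepQ 1546 Q1546 (allL N1546 (tt N1031 F5024) (tt N2291 D2354) (tt N2281 (iv F7242)) (tt N1546 F5025) (tt N1029 F5026) (tt N1028 (iv D1609)) (tt N2292 D2355) (tt N1462 F5027))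
theorem Q1548 : ∀ i, i < 1548 → P i := stepQ 1547 Q1547 (allL N1547 (tt N1035 F5028) (tt N1029 (iv D1610)) (tt N2293 D2356) (tt N1077 F5029) (tt N2291 (iv F7273)) (tt N1547 F5030) (tt N2294 D2357) (tt N2200 (iv F7019)))
theorem Q1549 : ∀ i, i < 1549 → P i := stepQ 1548 Q1548 (allL N1548 (tt N1032 F5031) (tt N2294 (iv F7283)) (tt N2283 (iv F7246)) (tt N1078 F5032) (tt N2292 (iv F7278)) (tt N2295 D2358) (tt N1029 (iv D1611)) (tt N2296 D2359))
theorem Q1550 : ∀ i, i < 1550 → P i := stepQ 1549 Q1549 (allL N1549 (tt N1033 F5033) (tt N2297 D2360) (tt N2284 (iv F7248)) (tt N1079 F5034) (tt N1526 F5035) (tt N1030 (iv D1612)) (tt N2295 (iv F7288)) (tt N1397 F5036))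
theorem Q1551 : ∀ i, i < 1551 → P i := stepQ 1550 Q1550 (allL N1550 (tt N2292 (iv F7276)) (tt N1037 F5037) (tt N2287 (iv F7260)) (tt N1550 F5038) (tt N1032 F5039) (tt N1545 F5040) (tt N1031 (iv D1613)) (tt N2298 D2361))
theorem Q1552 : ∀ i, i < 1552 → P i := stepQ 1551 Q1551 (allL N1551 (tt N2295 (iv F7285)) (tt N1551 F5041) (tt N2288 (iv F7262)) (tt N1081 F5042) (tt N1545 F5043) (tt N1032 (iv D1614)) (tt N1033 F5044) (tt N1407 (iv F5045)))
theorem Q1553 : ∀ i, i < 1553 → P i := stepQ 1552 Q1552 (allL N1552 (tt N2296 (iv F7290)) (tt N1038 F5046) (tt N2289 (iv F7265)) (tt N1408 (iv F5049)) (tt N2298 (iv F7300)) (tt N1407 F5047) (tt N1532 F5048) (tt N1032 (iv D1615)))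
theorem Q1554 : ∀ i, i < 1554 → P i := stepQ 1553 Q1553 (allL N1553 (tt N2291 (iv F7271)) (tt N1034 (iv D1616)) (tt N2299 D2362) (tt N1553 F5050) (tt N1035 F5051) (tt N1553 F5052) (tt N2300 D2363) (tt N2205 (iv F7042)))
theorem Q1555 : ∀ i, i < 1555 → P i := stepQ 1554 Q1554 (allL N1554 (tt N1037 F5053) (tt N2300 (iv F7305)) (tt N2134 (iv F6801)) (tt N1554 F5054) (tt N1036 F5055) (tt N1554 F5056) (tt N1034 (iv D1617)) (tt N2301 D2364))
theorem Q1556 : ∀ i, i < 1556 → P i := stepQ 1555 Q1555 (allL N1555 (tt N2293 (iv F7280)) (tt N2135 (iv F6804)) (tt N1035 (iv D1618)) (tt N2302 D2365) (tt N2299 (iv F7303)) (tt N1555 F5057) (tt N2303 D2366) (tt N2207 (iv F7048)))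
theorem Q1557 : ∀ i, i < 1557 → P i := stepQ 1556 Q1556 (allL N1556 (tt N2294 (iv F7282)) (tt N1036 F5058) (tt N2303 (iv F7313)) (tt N1085 F5059) (tt N2300 (iv F7307)) (tt N2304 D2367) (tt N1035 (iv D1619)) (tt N2305 D2368))
theorem Q1558 : ∀ i, i < 1558 → P i := stepQ 1557 Q1557 (allL N1557 (tt N1038 F5060) (tt N2305 (iv F7317)) (tt N2137 (iv F6808)) (tt N2306 D2369) (tt N2301 (iv F7309)) (tt N1557 F5061) (tt N2210 (iv F7056)) (tt N1036 (iv D1620)))
theorem Q1559 : ∀ i, i < 1559 → P i := stepQ 1558 Q1558 (allL N1558 (tt N2301 (iv F7308)) (tt N2298 (iv F7299)) (tt N2141 (iv F6825)) (tt N2307 D2370) (tt N1038 F5062) (tt N1558 F5063) (tt N2212 (iv F7065)) (tt N1037 (iv D1621)))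
theorem Q1560 : ∀ i, i < 1560 → P i := stepQ 1559 Q1559 (allL N1559 (tt N2306 (iv F7318)) (tt N1408 F5064) (tt N2308 D2371) (tt N1038 (iv D1622)) (tt N2309 D2372) (tt N1559 F5065) (tt N1533 F5066) (tt N1087 F5067))
theorem Q1561 : ∀ i, i < 1561 → P i := stepQ 1560 Q1560 (allL N1560 (tt N1088 F5068) (tt N1040 F5069) (tt N2310 D2373) (tt N1039 (iv D1623)) (tt N1785 (iv F5758)) (tt N1781 (iv F5745)) (tt N1784 F5754) (tt N2237 (iv F7135)))
theorem Q1562 : ∀ i, i < 1562 → P i := stepQ 1561 Q1561 (allL N1561 (tt N1042 F5070) (tt N2311 D2374) (tt N1040 (iv D1624)) (tt N1561 F5071) (tt N2049 (iv F6536)) (tt N2146 (iv F6845)) (tt N2048 F6533) (tt N2246 (iv F7158)))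
theorem Q1563 : ∀ i, i < 1563 → P i := stepQ 1562 Q1562 (allL N1562 (tt N2312 D2375) (tt N1042 (iv D1625)) (tt N1090 F5072) (tt N1562 F5073) (tt N2059 (iv F6568)) (tt N2313 D2376) (tt N2057 F6563) (tt N2269 (iv F7216)))
theorem Q1564 : ∀ i, i < 1564 → P i := stepQ 1563 Q1563 (allL N1563 (tt N2232 (iv F7121)) (tt N1563 F5074) (tt N1046 F5075) (tt N2314 D2377) (tt N1045 F5076) (tt N1689 (iv F5461)) (tt N2315 D2378) (tt N1043 (iv D1626)))
theorem Q1565 : ∀ i, i < 1565 → P i := stepQ 1564 Q1564 (allL N1564 (tt N2316 D2379) (tt N1044 (iv D1627)) (tt N1564 F5077) (tt N1564 F5078) (tt N1168 F5079) (tt N1564 F5080) (tt N1658 (iv F5361)) (tt N2317 D2380))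
theorem Q1566 : ∀ i, i < 1566 → P i := stepQ 1565 Q1565 (allL N1565 (tt N2234 (iv F7125)) (tt N2317 (iv F7349)) (tt N1047 F5081) (tt N2318 D2381) (tt N1689 (iv F5460)) (tt N1045 F5082) (tt N2319 D2382) (tt N1044 (iv D1628)))
theorem Q1567 : ∀ i, i < 1567 → P i := stepQ 1566 Q1566 (allL N1566 (tt N2235 (iv F7128)) (tt N1566 F5083) (tt N2320 D2383) (tt N1045 (iv D1629)) (tt N2321 D2384) (tt N2318 (iv F7353)) (tt N2322 D2385) (tt N1566 F5084))
theorem Q1568 : ∀ i, i < 1568 → P i := stepQ 1567 Q1567 (allL N1567 (tt N2236 (iv F7130)) (tt N1567 F5085) (tt N1049 F5086) (tt N2322 (iv F7361)) (tt N2315 (iv F7343)) (tt N2323 D2386) (tt N1045 (iv D1630)) (tt N1567 F5087))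
theorem Q1569 : ∀ i, i < 1569 → P i := stepQ 1568 Q1568 (allL N1568 (tt N2237 (iv F7133)) (tt N1052 F5088) (tt N2324 D2387) (tt N1046 (iv D1631)) (tt N1796 (iv F5787)) (tt N1787 (iv F5763)) (tt N2325 D2388) (tt N1088 F5089))
theorem Q1570 : ∀ i, i < 1570 → P i := stepQ 1569 Q1569 (allL N1569 (tt N2238 (iv F7136)) (tt N1053 F5090) (tt N2315 (iv F7342)) (tt N2325 (iv F7366)) (tt N1049 F5091) (tt N2326 D2389) (tt N1046 (iv D1632)) (tt N1569 F5092))
theorem Q1571 : ∀ i, i < 1571 → P i := stepQ 1570 Q1570 (allL N1570 (tt N2239 (iv F7140)) (tt N1570 F5093) (tt N2327 D2390) (tt N1047 (iv D1633)) (tt N1843 (iv F5935)) (tt N1048 F5094) (tt N2328 D2391) (tt N1050 F5095))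
theorem Q1572 : ∀ i, i < 1572 → P i := stepQ 1571 Q1571 (allL N1571 (tt N2240 (iv F7143)) (tt N1571 F5096) (tt N2319 (iv F7355)) (tt N2328 (iv F7372)) (tt N1788 (iv F5766)) (tt N2329 D2392) (tt N1047 (iv D1634)) (tt N1828 (iv F5894)))
theorem Q1573 : ∀ i, i < 1573 → P i := stepQ 1572 Q1572 (allL N1572 (tt N2241 (iv F7144)) (tt N2330 D2393) (tt N1048 (iv D1635)) (tt N2320 (iv F7356)) (tt N1842 (iv F5933)) (tt N2327 (iv F7369)) (tt N2331 D2394) (tt N1051 F5097))
theorem Q1574 : ∀ i, i < 1574 → P i := stepQ 1573 Q1573 (allL N1573 (tt N2242 (iv F7146)) (tt N1055 F5098) (tt N2331 (iv F7377)) (tt N1049 F5099) (tt N1728 (iv F5563)) (tt N2332 D2395) (tt N1048 (iv D1636)) (tt N1726 (iv F5559)))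
theorem Q1575 : ∀ i, i < 1575 → P i := stepQ 1574 Q1574 (allL N1574 (tt N2243 (iv F7149)) (tt N2333 D2396) (tt N2323 (iv F7362)) (tt N2332 (iv F7378)) (tt N2326 (iv F7367)) (tt N1049 (iv D1637)) (tt N2329 (iv F7374)) (tt N1574 F5100))
theorem Q1576 : ∀ i, i < 1576 → P i := stepQ 1575 Q1575 (allL N1575 (tt N2244 (iv F7151)) (tt N2334 D2397) (tt N1050 (iv D1638)) (tt N1575 F5101) (tt N1841 (iv F5930)) (tt N1051 F5102) (tt N1575 F5103) (tt N2327 (iv F7370)))
theorem Q1577 : ∀ i, i < 1577 → P i := stepQ 1576 Q1576 (allL N1576 (tt N2335 D2398) (tt N1051 (iv D1639)) (tt N1057 F5104) (tt N1576 F5105) (tt N1840 (iv F5928)) (tt N2336 D2399) (tt N1838 F5923) (tt N2330 (iv F7376)))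
theorem Q1578 : ∀ i, i < 1578 → P i := stepQ 1577 Q1577 (allL N1577 (tt N1062 F5106) (tt N2337 D2400) (tt N1052 (iv D1640)) (tt N1577 F5107) (tt N1801 (iv F5800)) (tt N1577 F5108) (tt N2338 D2401) (tt N1089 F5109))
theorem Q1579 : ∀ i, i < 1579 → P i := stepQ 1578 Q1578 (allL N1578 (tt N1063 F5110) (tt N2325 (iv F7365)) (tt N2338 (iv F7391)) (tt N1053 F5111) (tt N1700 (iv F5489)) (tt N2339 D2402) (tt N1052 (iv D1641)) (tt N1699 (iv F5486)))
theorem Q1580 : ∀ i, i < 1580 → P i := stepQ 1579 Q1579 (allL N1579 (tt N1064 F5112) (tt N2340 D2403) (tt N1579 F5113) (tt N2339 (iv F7394)) (tt N1056 F5114) (tt N1053 (iv D1642)) (tt N1579 F5115) (tt N1579 F5116))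
theorem Q1581 : ∀ i, i < 1581 → P i := stepQ 1580 Q1580 (allL N1580 (tt N2341 D2404) (tt N1054 (iv D1643)) (tt N2330 (iv F7375)) (tt N1580 F5117) (tt N1850 (iv F5956)) (tt N2342 D2405) (tt N2343 D2406) (tt N1057 F5118))
theorem Q1582 : ∀ i, i < 1582 → P i := stepQ 1581 Q1581 (allL N1581 (tt N1066 F5119) (tt N2343 (iv F7407)) (tt N1055 F5120) (tt N1581 F5121) (tt N1737 (iv F5590)) (tt N2344 D2407) (tt N1054 (iv D1644)) (tt N1735 (iv F5583)))
theorem Q1583 : ∀ i, i < 1583 → P i := stepQ 1582 Q1582 (allL N1582 (tt N1067 F5122) (tt N2345 D2408) (tt N2344 (iv F7410)) (tt N1056 F5123) (tt N1740 (iv F5601)) (tt N1055 (iv D1645)) (tt N1582 F5124) (tt N1738 (iv F5596)))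
theorem Q1584 : ∀ i, i < 1584 → P i := stepQ 1583 Q1583 (allL N1583 (tt N2346 D2409) (tt N1056 (iv D1646)) (tt N2347 D2410) (tt N2345 (iv F7413)) (tt N2340 (iv F7398)) (tt N2333 (iv F7379)) (tt N1583 F5125) (tt N1583 F5126))
theorem Q1585 : ∀ i, i < 1585 → P i := stepQ 1584 Q1584 (allL N1584 (tt N1057 (iv D1647)) (tt N1069 F5127) (tt N2335 (iv F7384)) (tt N1058 F5128) (tt N1846 (iv F5946)) (tt N2348 D2411) (tt N1844 F5940) (tt N2341 (iv F7403)))
theorem Q1586 : ∀ i, i < 1586 → P i := stepQ 1585 Q1585 (allL N1585 (tt N2348 (iv F7421)) (tt N1585 F5129) (tt N2336 (iv F7386)) (tt N1059 F5130) (tt N1849 (iv F5954)) (tt N1057 (iv D1648)) (tt N2349 D2412) (tt N2342 (iv F7406)))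
theorem Q1587 : ∀ i, i < 1587 → P i := stepQ 1586 Q1586 (allL N1586 (tt N1059 F5131) (tt N2350 D2413) (tt N1586 F5132) (tt N2348 (iv F7422)) (tt N1586 F5133) (tt N1058 (iv D1649)) (tt N2351 D2414) (tt N1586 F5134))
theorem Q1588 : ∀ i, i < 1588 → P i := stepQ 1587 Q1587 (allL N1587 (tt N1060 F5135) (tt N1072 F5136) (tt N1587 F5137) (tt N1844 F5939) (tt N1587 F5138) (tt N2352 D2415) (tt N1058 (iv D1650)) (tt N2353 D2416))
theorem Q1589 : ∀ i, i < 1589 → P i := stepQ 1588 Q1588 (allL N1588 (tt N2351 (iv F7429)) (tt N1588 F5139) (tt N1588 F5140) (tt N2349 (iv F7424)) (tt N1588 F5141) (tt N2354 D2417) (tt N1059 (iv D1651)) (tt N2355 D2418))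
theorem Q1590 : ∀ i, i < 1590 → P i := stepQ 1589 Q1589 (allL N1589 (tt N2352 (iv F7432)) (tt N1857 (iv F5978)) (tt N1589 F5142) (tt N1847 (iv F5948)) (tt N1589 F5143) (tt N1060 (iv D1652)) (tt N2354 (iv F7442)) (tt N2356 D2419))
theorem Q1591 : ∀ i, i < 1591 → P i := stepQ 1590 Q1590 (allL N1590 (tt N2353 (iv F7435)) (tt N1061 F5144) (tt N1590 F5145) (tt N2357 D2420) (tt N1590 F5146) (tt N2356 (iv F7449)) (tt N1590 F5147) (tt N1060 (iv D1653)))
theorem Q1592 : ∀ i, i < 1592 → P i := stepQ 1591 Q1591 (allL N1591 (tt N1076 F5148) (tt N2357 (iv F7450)) (tt N1591 F5149) (tt N1061 (iv D1654)) (tt N2358 D2421) (tt N1752 (iv F5643)) (tt N1591 F5150) (tt N1734 (iv F5579)))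
theorem Q1593 : ∀ i, i < 1593 → P i := stepQ 1592 Q1592 (allL N1592 (tt N2359 D2422) (tt N1062 (iv D1655)) (tt N2269 (iv F7212)) (tt N1592 F5151) (tt N2068 (iv F6601)) (tt N2204 (iv F7035)) (tt N2360 D2423) (tt N1090 F5152))
theorem Q1594 : ∀ i, i < 1594 → P i := stepQ 1593 Q1593 (allL N1593 (tt N2338 (iv F7390)) (tt N2360 (iv F7458)) (tt N1063 F5153) (tt N1593 F5154) (tt N1938 (iv F6222)) (tt N2361 D2424) (tt N1062 (iv D1656)) (tt N1937 (iv F6220)))
theorem Q1595 : ∀ i, i < 1595 → P i := stepQ 1594 Q1594 (allL N1594 (tt N2339 (iv F7393)) (tt N2362 D2425) (tt N2361 (iv F7460)) (tt N1064 F5155) (tt N1270 F5156) (tt N1063 (iv D1657)) (tt N1594 F5157) (tt N1269 F5158))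
theorem Q1596 : ∀ i, i < 1596 → P i := stepQ 1595 Q1595 (allL N1595 (tt N2363 D2426) (tt N1064 (iv D1658)) (tt N2364 D2427) (tt N2362 (iv F7465)) (tt N1068 F5159) (tt N2272 (iv F7220)) (tt N1595 F5160) (tt N1595 F5161))
theorem Q1597 : ∀ i, i < 1597 → P i := stepQ 1596 Q1596 (allL N1596 (tt N1065 (iv D1659)) (tt N2341 (iv F7401)) (tt N2273 (iv F7222)) (tt N1596 F5162) (tt N2127 (iv F6777)) (tt N2172 F6920) (tt N2365 D2428) (tt N1069 F5163))
theorem Q1598 : ∀ i, i < 1598 → P i := stepQ 1597 Q1597 (allL N1597 (tt N2365 (iv F7476)) (tt N1066 F5164) (tt N2274 (iv F7225)) (tt N1597 F5165) (tt N1977 (iv F6328)) (tt N1976 (iv F6326)) (tt N1065 (iv D1660)) (tt N1996 (iv F6379)))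
theorem Q1599 : ∀ i, i < 1599 → P i := stepQ 1598 Q1598 (allL N1598 (tt N2344 (iv F7409)) (tt N2366 D2429) (tt N1067 F5166) (tt N1598 F5167) (tt N2001 (iv F6391)) (tt N1066 (iv D1661)) (tt N1598 F5168) (tt N1999 (iv F6387)))
theorem Q1600 : ∀ i, i < 1600 → P i := stepQ 1599 Q1599 (allL N1599 (tt N2367 D2430) (tt N1067 (iv D1662)) (tt N2368 D2431) (tt N1068 F5169) (tt N2004 (iv F6399)) (tt N1490 F5170) (tt N1599 F5171) (tt N1489 F5172))
theorem Q1601 : ∀ i, i < 1601 → P i := stepQ 1600 Q1600 (allL N1600 (tt N1068 (iv D1663)) (tt N2346 (iv F7415)) (tt N2369 D2432) (tt N2367 (iv F7480)) (tt N2363 (iv F7469)) (tt N2276 (iv F7229)) (tt N1600 F5173) (tt N1600 F5174))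
theorem Q1602 : ∀ i, i < 1602 → P i := stepQ 1601 Q1601 (allL N1601 (tt N2369 (iv F7487)) (tt N1601 F5175) (tt N1068 (iv D1664)) (tt N2370 D2433) (tt N2364 (iv F7473)) (tt N2277 (iv F7231)) (tt N1601 F5176) (tt N1601 F5177))
theorem Q1603 : ∀ i, i < 1603 → P i := stepQ 1602 Q1602 (allL N1602 (tt N1070 F5178) (tt N2371 D2434) (tt N2278 (iv F7234)) (tt N1071 F5179) (tt N2126 (iv F6774)) (tt N1069 (iv D1665)) (tt N2372 D2435) (tt N2172 F6921))
theorem Q1604 : ∀ i, i < 1604 → P i := stepQ 1603 Q1603 (allL N1603 (tt N2372 (iv F7494)) (tt N1603 F5180) (tt N2279 (iv F7236)) (tt N1073 F5181) (tt N2129 (iv F6786)) (tt N2128 (iv F6783)) (tt N1070 (iv D1666)) (tt N2190 (iv F6976)))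
theorem Q1605 : ∀ i, i < 1605 → P i := stepQ 1604 Q1604 (allL N1604 (tt N1604 F5182) (tt N1071 (iv D1667)) (tt N2373 D2436) (tt N2371 (iv F7493)) (tt N1604 F5183) (tt N2350 (iv F7427)) (tt N2374 D2437) (tt N1604 F5184))
theorem Q1606 : ∀ i, i < 1606 → P i := stepQ 1605 Q1605 (allL N1605 (tt N1073 F5185) (tt N2374 (iv F7501)) (tt N1078 F5186) (tt N2372 (iv F7495)) (tt N1605 F5187) (tt N2375 D2438) (tt N1071 (iv D1668)) (tt N2376 D2439))
theorem Q1607 : ∀ i, i < 1607 → P i := stepQ 1606 Q1606 (allL N1606 (tt N1074 F5188) (tt N2377 D2440) (tt N1079 F5189) (tt N2123 (iv F6766)) (tt N1606 F5190) (tt N1072 (iv D1669)) (tt N2375 (iv F7506)) (tt N2378 D2441))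
theorem Q1608 : ∀ i, i < 1608 → P i := stepQ 1607 Q1607 (allL N1607 (tt N1075 F5191) (tt N2353 (iv F7436)) (tt N1080 F5192) (tt N2379 D2442) (tt N1607 F5193) (tt N2378 (iv F7515)) (tt N1607 F5194) (tt N1072 (iv D1670)))
theorem Q1609 : ∀ i, i < 1609 → P i := stepQ 1608 Q1608 (allL N1608 (tt N2375 (iv F7503)) (tt N2138 (iv F6810)) (tt N1081 F5195) (tt N2128 (iv F6781)) (tt N1608 F5196) (tt N1073 (iv D1671)) (tt N1074 F5197) (tt N2380 D2443))
theorem Q1610 : ∀ i, i < 1610 → P i := stepQ 1609 Q1609 (allL N1609 (tt N2376 (iv F7507)) (tt N1609 F5198) (tt N1082 F5199) (tt N2381 D2444) (tt N1609 F5200) (tt N2380 (iv F7525)) (tt N1609 F5201) (tt N1073 (iv D1672)))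
theorem Q1611 : ∀ i, i < 1611 → P i := stepQ 1610 Q1610 (allL N1610 (tt N2378 (iv F7512)) (tt N2139 (iv F6815)) (tt N1083 F5202) (tt N1371 (iv F5205)) (tt N1610 F5203) (tt N1075 F5204) (tt N1368 F5206) (tt N1074 (iv D1673)))
theorem Q1612 : ∀ i, i < 1612 → P i := stepQ 1611 Q1611 (allL N1611 (tt N2379 (iv F7518)) (tt N1076 F5207) (tt N1372 F5208) (tt N1075 (iv D1674)) (tt N1443 (iv F5211)) (tt N1371 F5209) (tt N1611 F5210) (tt N1994 (iv F6373)))
theorem Q1613 : ∀ i, i < 1613 → P i := stepQ 1612 Q1612 (allL N1612 (tt N2358 (iv F7452)) (tt N1443 F5212) (tt N1612 F5213) (tt N1612 F5214) (tt N1076 (iv D1675)) (tt N1907 (iv F6141)) (tt N1612 F5215) (tt N1899 (iv F6119)))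
theorem Q1614 : ∀ i, i < 1614 → P i := stepQ 1613 Q1613 (allL N1613 (tt N1084 F5216) (tt N2373 (iv F7497)) (tt N1077 (iv D1676)) (tt N2382 D2445) (tt N1613 F5217) (tt N1613 F5218) (tt N2383 D2446) (tt N1613 F5219))
theorem Q1615 : ∀ i, i < 1615 → P i := stepQ 1614 Q1614 (allL N1614 (tt N1085 F5220) (tt N1078 F5221) (tt N2383 (iv F7532)) (tt N2294 (iv F7284)) (tt N1614 F5222) (tt N2384 D2447) (tt N1077 (iv D1677)) (tt N2385 D2448))
theorem Q1616 : ∀ i, i < 1616 → P i := stepQ 1615 Q1615 (allL N1615 (tt N1081 F5223) (tt N2386 D2449) (tt N2375 (iv F7504)) (tt N2295 (iv F7286)) (tt N1615 F5224) (tt N1078 (iv D1678)) (tt N1079 F5225) (tt N2387 D2450))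
theorem Q1617 : ∀ i, i < 1617 → P i := stepQ 1616 Q1616 (allL N1616 (tt N1082 F5226) (tt N2385 (iv F7538)) (tt N2376 (iv F7508)) (tt N2388 D2451) (tt N1616 F5227) (tt N2387 (iv F7547)) (tt N1616 F5228) (tt N1078 (iv D1679)))
theorem Q1618 : ∀ i, i < 1618 → P i := stepQ 1617 Q1617 (allL N1617 (tt N1617 F5229) (tt N1079 (iv D1680)) (tt N2389 D2452) (tt N2297 (iv F7295)) (tt N1617 F5230) (tt N1617 F5231) (tt N2386 (iv F7543)) (tt N2390 D2453))
theorem Q1619 : ∀ i, i < 1619 → P i := stepQ 1618 Q1618 (allL N1618 (tt N1083 F5232) (tt N2390 (iv F7557)) (tt N2378 (iv F7513)) (tt N1360 F5233) (tt N1618 F5234) (tt N1080 F5235) (tt N1359 (iv F5236)) (tt N1079 (iv D1681)))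
theorem Q1620 : ∀ i, i < 1620 → P i := stepQ 1619 Q1619 (allL N1619 (tt N2387 (iv F7544)) (tt N1619 F5237) (tt N2380 (iv F7523)) (tt N1367 F5238) (tt N1619 F5239) (tt N1082 F5240) (tt N1366 F5241) (tt N1081 (iv D1682)))
theorem Q1621 : ∀ i, i < 1621 → P i := stepQ 1620 Q1620 (allL N1620 (tt N2388 (iv F7549)) (tt N1087 F5242) (tt N2391 D2454) (tt N1082 (iv D1683)) (tt N2392 D2455) (tt N1367 F5243) (tt N1620 F5244) (tt N1408 F5245))
theorem Q1622 : ∀ i, i < 1622 → P i := stepQ 1621 Q1621 (allL N1621 (tt N2382 (iv F7529)) (tt N1621 F5246) (tt N2302 (iv F7311)) (tt N1084 (iv D1684)) (tt N2393 D2456) (tt N1621 F5247) (tt N2394 D2457) (tt N2395 D2458))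
theorem Q1623 : ∀ i, i < 1623 → P i := stepQ 1622 Q1622 (allL N1622 (tt N2383 (iv F7531)) (tt N1622 F5248) (tt N1085 F5249) (tt N2394 (iv F7574)) (tt N1622 F5250) (tt N2396 D2459) (tt N1084 (iv D1685)) (tt N2397 D2460))
theorem Q1624 : ∀ i, i < 1624 → P i := stepQ 1623 Q1623 (allL N1623 (tt N2384 (iv F7534)) (tt N1623 F5251) (tt N2396 (iv F7578)) (tt N2304 (iv F7315)) (tt N1623 F5252) (tt N1085 (iv D1686)) (tt N1623 F5253) (tt N2398 D2461))
theorem Q1625 : ∀ i, i < 1625 → P i := stepQ 1624 Q1624 (allL N1624 (tt N2385 (iv F7537)) (tt N1086 F5254) (tt N2397 (iv F7582)) (tt N2399 D2462) (tt N1624 F5255) (tt N2398 (iv F7587)) (tt N1624 F5256) (tt N1085 (iv D1687)))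
theorem Q1626 : ∀ i, i < 1626 → P i := stepQ 1625 Q1625 (allL N1625 (tt N1087 F5257) (tt N2399 (iv F7588)) (tt N2400 D2463) (tt N1086 (iv D1688)) (tt N2401 D2464) (tt N1625 F5258) (tt N1625 F5259) (tt N2306 (iv F7321)))
theorem Q1627 : ∀ i, i < 1627 → P i := stepQ 1626 Q1626 (allL N1626 (tt N2400 (iv F7590)) (tt N2402 D2465) (tt N1087 (iv D1689)) (tt N1626 F5260) (tt N2403 D2466) (tt N1626 F5261) (tt N1626 F5262) (tt N2308 (iv F7326)))
theorem Q1628 : ∀ i, i < 1628 → P i := stepQ 1627 Q1627 (allL N1627 (tt N2401 (iv F7594)) (tt N2392 (iv F7565)) (tt N2403 (iv F7600)) (tt N1627 F5263) (tt N1087 (iv D1690)) (tt N1627 F5264) (tt N1627 F5265) (tt N2309 (iv F7330)))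
theorem Q1629 : ∀ i, i < 1629 → P i := stepQ 1628 Q1628 (allL N1628 (tt N2310 (iv F7331)) (tt N2404 D2467) (tt N1088 (iv D1691)) (tt N1766 (iv F5690)) (tt N1795 (iv F5784)) (tt N1789 (iv F5769)) (tt N1794 F5782) (tt N2324 (iv F7364)))
theorem Q1630 : ∀ i, i < 1630 → P i := stepQ 1629 Q1629 (allL N1629 (tt N2405 D2468) (tt N1089 (iv D1692)) (tt N2404 (iv F7603)) (tt N1093 F5266) (tt N1800 (iv F5797)) (tt N2406 D2469) (tt N1798 F5792) (tt N2337 (iv F7389)))
theorem Q1631 : ∀ i, i < 1631 → P i := stepQ 1630 Q1630 (allL N1630 (tt N1090 (iv D1693)) (tt N2405 (iv F7604)) (tt N2312 (iv F7333)) (tt N1096 F5267) (tt N2064 (iv F6588)) (tt N2407 D2470) (tt N2062 F6583) (tt N2359 (iv F7457)))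
theorem Q1632 : ∀ i, i < 1632 → P i := stepQ 1631 Q1631 (allL N1631 (tt N2407 (iv F7608)) (tt N1631 F5268) (tt N2313 (iv F7336)) (tt N1097 F5269) (tt N2067 (iv F6597)) (tt N1090 (iv D1694)) (tt N2408 D2471) (tt N2204 (iv F7037)))
theorem Q1633 : ∀ i, i < 1633 → P i := stepQ 1632 Q1632 (allL N1632 (tt N2409 D2472) (tt N1091 (iv D1695)) (tt N1093 F5270) (tt N1770 (iv F5702)) (tt N1632 F5271) (tt N2410 D2473) (tt N2411 D2474) (tt N1632 F5272))
theorem Q1634 : ∀ i, i < 1634 → P i := stepQ 1633 Q1633 (allL N1633 (tt N1633 F5273) (tt N2411 (iv F7619)) (tt N1092 F5274) (tt N1772 (iv F5710)) (tt N1633 F5275) (tt N1633 F5276) (tt N1091 (iv D1696)) (tt N2412 D2475))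
theorem Q1635 : ∀ i, i < 1635 → P i := stepQ 1634 Q1634 (allL N1634 (tt N1634 F5277) (tt N1095 F5278) (tt N2412 (iv F7623)) (tt N1634 F5279) (tt N1634 F5280) (tt N1634 F5281) (tt N1634 F5282) (tt N1092 (iv D1697)))
theorem Q1636 : ∀ i, i < 1636 → P i := stepQ 1635 Q1635 (allL N1635 (tt N1093 (iv D1698)) (tt N1096 F5283) (tt N2409 (iv F7613)) (tt N2405 (iv F7605)) (tt N1635 F5284) (tt N2413 D2476) (tt N2414 D2477) (tt N1635 F5285))
theorem Q1637 : ∀ i, i < 1637 → P i := stepQ 1636 Q1636 (allL N1636 (tt N2413 (iv F7631)) (tt N1636 F5286) (tt N2410 (iv F7616)) (tt N2406 (iv F7607)) (tt N1636 F5287) (tt N1093 (iv D1699)) (tt N2415 D2478) (tt N1636 F5288))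
theorem Q1638 : ∀ i, i < 1638 → P i := stepQ 1637 Q1637 (allL N1637 (tt N2414 (iv F7634)) (tt N1094 F5289) (tt N2411 (iv F7620)) (tt N1798 F5791) (tt N1637 F5290) (tt N2416 D2479) (tt N1093 (iv D1700)) (tt N2417 D2480))
theorem Q1639 : ∀ i, i < 1639 → P i := stepQ 1638 Q1638 (allL N1638 (tt N1099 F5291) (tt N2417 (iv F7642)) (tt N1095 F5292) (tt N2418 D2481) (tt N1638 F5293) (tt N1807 (iv F5817)) (tt N1638 F5294) (tt N1094 (iv D1701)))
theorem Q1640 : ∀ i, i < 1640 → P i := stepQ 1639 Q1639 (allL N1639 (tt N1097 F5295) (tt N2419 D2482) (tt N1639 F5296) (tt N2407 (iv F7609)) (tt N1639 F5297) (tt N1096 (iv D1702)) (tt N2420 D2483) (tt N1639 F5298))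
theorem Q1641 : ∀ i, i < 1641 → P i := stepQ 1640 Q1640 (allL N1640 (tt N1098 F5299) (tt N2414 (iv F7635)) (tt N1640 F5300) (tt N2062 F6582) (tt N1640 F5301) (tt N2421 D2484) (tt N1096 (iv D1703)) (tt N2422 D2485))
theorem Q1642 : ∀ i, i < 1642 → P i := stepQ 1641 Q1641 (allL N1641 (tt N2420 (iv F7656)) (tt N1641 F5302) (tt N1641 F5303) (tt N2408 (iv F7611)) (tt N1641 F5304) (tt N2423 D2486) (tt N1097 (iv D1704)) (tt N2424 D2487))
theorem Q1643 : ∀ i, i < 1643 → P i := stepQ 1642 Q1642 (allL N1642 (tt N2421 (iv F7659)) (tt N2075 (iv F6624)) (tt N1642 F5305) (tt N2065 (iv F6590)) (tt N1642 F5306) (tt N1098 (iv D1705)) (tt N2423 (iv F7668)) (tt N2425 D2488))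
theorem Q1644 : ∀ i, i < 1644 → P i := stepQ 1643 Q1643 (allL N1643 (tt N2422 (iv F7662)) (tt N1099 F5307) (tt N1643 F5308) (tt N2426 D2489) (tt N1643 F5309) (tt N2425 (iv F7675)) (tt N1643 F5310) (tt N1098 (iv D1706)))
theorem Q1645 : ∀ i, i < 1645 → P i := stepQ 1644 Q1644 (allL N1644 (tt N2418 (iv F7648)) (tt N2426 (iv F7676)) (tt N1644 F5311) (tt N1099 (iv D1707)) (tt N2427 D2490) (tt N1944 (iv F6243)) (tt N1644 F5312) (tt N1936 (iv F6216)))
theorem Q1646 : ∀ i, i < 1646 → P i := stepQ 1645 Q1645 (allL N1645 (tt N1101 F5313) (tt N2428 D2491) (tt N1100 (iv D1708)) (tt N2429 D2492) (tt N1645 F5314) (tt N1107 F5315) (tt N1645 F5316) (tt N2430 D2493))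
theorem Q1647 : ∀ i, i < 1647 → P i := stepQ 1646 Q1646 (allL N1646 (tt N1102 F5317) (tt N1646 F5318) (tt N2430 (iv F7693)) (tt N2431 D2494) (tt N1646 F5319) (tt N1108 F5320) (tt N2432 D2495) (tt N1100 (iv D1709)))
theorem Q1648 : ∀ i, i < 1648 → P i := stepQ 1647 Q1647 (allL N1647 (tt N2429 (iv F7688)) (tt N1647 F5321) (tt N1647 F5322) (tt N1101 (iv D1710)) (tt N2433 D2496) (tt N1109 F5323) (tt N1647 F5324) (tt N2434 D2497))
theorem Q1649 : ∀ i, i < 1649 → P i := stepQ 1648 Q1648 (allL N1648 (tt N2430 (iv F7692)) (tt N1648 F5325) (tt N1102 F5326) (tt N2435 D2498) (tt N1648 F5327) (tt N1110 F5328) (tt N2436 D2499) (tt N1101 (iv D1711)))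
theorem Q1650 : ∀ i, i < 1650 → P i := stepQ 1649 Q1649 (allL N1649 (tt N2431 (iv F7696)) (tt N1103 F5329) (tt N1672 (iv F5394)) (tt N1102 (iv D1712)) (tt N1652 (iv F5342)) (tt N1111 F5330) (tt N2437 D2500) (tt N1649 F5331))
theorem Q1651 : ∀ i, i < 1651 → P i := stepQ 1650 Q1650 (allL N1650 (tt N2432 (iv F7700)) (tt N1104 F5332) (tt N2436 (iv F7715)) (tt N2437 (iv F7720)) (tt N1650 F5333) (tt N2438 D2501) (tt N1102 (iv D1713)) (tt N1650 F5334))
theorem Q1652 : ∀ i, i < 1652 → P i := stepQ 1651 Q1651 (allL N1651 (tt N1651 F5335) (tt N2437 (iv F7718)) (tt N1124 F5336) (tt N1104 F5337) (tt N1123 F5338) (tt N1682 (iv F5436)) (tt N1103 (iv D1714)) (tt N1177 (iv F5339)))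
theorem Q1653 : ∀ i, i < 1653 → P i := stepQ 1652 Q1652 (allL N1652 (tt N2439 D2502) (tt N1105 (iv D1715)) (tt N1116 F5340) (tt N1652 F5341) (tt N1649 F5342) (tt N1663 (iv F5371)) (tt N1683 (iv F5439)) (tt N1652 F5343))
theorem Q1654 : ∀ i, i < 1654 → P i := stepQ 1653 Q1653 (allL N1653 (tt N1136 F5344) (tt N1107 (iv D1716)) (tt N1253 F5345) (tt N2440 D2503) (tt N1653 F5346) (tt N2441 D2504) (tt N1760 (iv F5669)) (tt N2442 D2505))
theorem Q1655 : ∀ i, i < 1655 → P i := stepQ 1654 Q1654 (allL N1654 (tt N1109 F5347) (tt N2440 (iv F7732)) (tt N1654 F5348) (tt N1107 (iv D1717)) (tt N2443 D2506) (tt N2429 (iv F7690)) (tt N1761 (iv F5673)) (tt N2444 D2507))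
theorem Q1656 : ∀ i, i < 1656 → P i := stepQ 1655 Q1655 (allL N1655 (tt N1110 F5349) (tt N2442 (iv F7737)) (tt N1108 F5350) (tt N2445 D2508) (tt N1655 F5351) (tt N2430 (iv F7695)) (tt N2446 D2509) (tt N1107 (iv D1718)))
theorem Q1657 : ∀ i, i < 1657 → P i := stepQ 1656 Q1656 (allL N1656 (tt N1111 F5352) (tt N1256 F5353) (tt N2447 D2510) (tt N1108 (iv D1719)) (tt N2448 D2511) (tt N2431 (iv F7698)) (tt N2449 D2512) (tt N1656 F5354))
theorem Q1658 : ∀ i, i < 1658 → P i := stepQ 1657 Q1657 (allL N1657 (tt N1112 F5355) (tt N1257 F5356) (tt N2446 (iv F7748)) (tt N2449 (iv F7759)) (tt N1657 F5357) (tt N2450 D2513) (tt N1108 (iv D1720)) (tt N1741 (iv F5607)))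
theorem Q1659 : ∀ i, i < 1659 → P i := stepQ 1658 Q1658 (allL N1658 (tt N2443 (iv F7740)) (tt N1141 F5358) (tt N1658 F5359) (tt N1658 F5360) (tt N1109 (iv D1721)) (tt N2433 (iv F7707)) (tt N1564 F5361) (tt N2451 D2514))
theorem Q1660 : ∀ i, i < 1660 → P i := stepQ 1659 Q1659 (allL N1659 (tt N2444 (iv F7744)) (tt N1142 F5362) (tt N1659 F5363) (tt N2452 D2515) (tt N2451 (iv F7764)) (tt N2434 (iv F7711)) (tt N2453 D2516) (tt N1109 (iv D1722)))
theorem Q1661 : ∀ i, i < 1661 → P i := stepQ 1660 Q1660 (allL N1660 (tt N2445 (iv F7746)) (tt N1143 F5364) (tt N2454 D2517) (tt N1110 (iv D1723)) (tt N2455 D2518) (tt N2435 (iv F7713)) (tt N2456 D2519) (tt N2452 (iv F7766)))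
theorem Q1662 : ∀ i, i < 1662 → P i := stepQ 1661 Q1661 (allL N1661 (tt N2446 (iv F7747)) (tt N1144 F5365) (tt N1112 F5366) (tt N2456 (iv F7773)) (tt N1661 F5367) (tt N2457 D2520) (tt N1110 (iv D1724)) (tt N1742 (iv F5611)))
theorem Q1663 : ∀ i, i < 1663 → P i := stepQ 1662 Q1662 (allL N1662 (tt N2447 (iv F7750)) (tt N2458 D2521) (tt N1111 (iv D1725)) (tt N2454 (iv F7769)) (tt N1673 (iv F5399)) (tt N1672 F5396) (tt N2459 D2522) (tt N1662 F5368))
theorem Q1664 : ∀ i, i < 1664 → P i := stepQ 1663 Q1663 (allL N1663 (tt N2448 (iv F7752)) (tt N1114 F5369) (tt N1673 (iv F5397)) (tt N1663 F5370) (tt N1111 (iv D1726)) (tt N1652 F5371) (tt N2460 D2523) (tt N1663 F5372))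
theorem Q1665 : ∀ i, i < 1665 → P i := stepQ 1664 Q1664 (allL N1664 (tt N2449 (iv F7757)) (tt N1115 F5373) (tt N2459 (iv F7778)) (tt N1112 F5374) (tt N2460 (iv F7781)) (tt N2461 D2524) (tt N1111 (iv D1727)) (tt N2462 D2525))
theorem Q1666 : ∀ i, i < 1666 → P i := stepQ 1665 Q1665 (allL N1665 (tt N2450 (iv F7760)) (tt N1695 (iv F5471)) (tt N2457 (iv F7774)) (tt N2461 (iv F7782)) (tt N1665 F5375) (tt N1112 (iv D1728)) (tt N2438 (iv F7724)) (tt N1729 (iv F5568)))
theorem Q1667 : ∀ i, i < 1667 → P i := stepQ 1666 Q1666 (allL N1666 (tt N2463 D2526) (tt N1113 (iv D1729)) (tt N2458 (iv F7776)) (tt N1149 F5376) (tt N2464 D2527) (tt N2465 D2528) (tt N2466 D2529) (tt N1666 F5377))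
theorem Q1668 : ∀ i, i < 1668 → P i := stepQ 1667 Q1667 (allL N1667 (tt N1267 F5378) (tt N2464 (iv F7788)) (tt N1114 F5379) (tt N2467 D2530) (tt N1113 (iv D1730)) (tt N1117 F5380) (tt N2468 D2531) (tt N1667 F5381))
theorem Q1669 : ∀ i, i < 1669 → P i := stepQ 1668 Q1668 (allL N1668 (tt N1268 F5382) (tt N2466 (iv F7796)) (tt N1115 F5383) (tt N1151 F5384) (tt N2468 (iv F7805)) (tt N1698 (iv F5481)) (tt N1113 (iv D1731)) (tt N2469 D2532))
theorem Q1670 : ∀ i, i < 1670 → P i := stepQ 1669 Q1669 (allL N1669 (tt N1269 F5385) (tt N2460 (iv F7779)) (tt N2468 (iv F7804)) (tt N1669 F5386) (tt N1115 F5387) (tt N1699 (iv F5485)) (tt N1114 (iv D1732)) (tt N2339 (iv F7397)))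
theorem Q1671 : ∀ i, i < 1671 → P i := stepQ 1670 Q1670 (allL N1670 (tt N1270 F5388) (tt N2462 (iv F7783)) (tt N2469 (iv F7807)) (tt N1740 (iv F5600)) (tt N2339 (iv F7395)) (tt N1700 (iv F5490)) (tt N1670 F5389) (tt N1115 (iv D1733)))
theorem Q1672 : ∀ i, i < 1672 → P i := stepQ 1671 Q1671 (allL N1671 (tt N1116 (iv D1734)) (tt N1271 F5390) (tt N2439 (iv F7727)) (tt N1156 F5391) (tt N2470 D2533) (tt N2471 D2534) (tt N1701 (iv F5493)) (tt N1671 F5392))
theorem Q1673 : ∀ i, i < 1673 → P i := stepQ 1672 Q1672 (allL N1672 (tt N2470 (iv F7809)) (tt N1117 F5393) (tt N1649 F5394) (tt N2472 D2535) (tt N1116 (iv D1735)) (tt N1662 (iv F5396)) (tt N1702 (iv F5496)) (tt N1672 F5395))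
theorem Q1674 : ∀ i, i < 1674 → P i := stepQ 1673 Q1673 (allL N1673 (tt N2471 (iv F7814)) (tt N2465 (iv F7791)) (tt N1663 F5397) (tt N1158 F5398) (tt N1662 F5399) (tt N1116 (iv D1736)) (tt N2473 D2536) (tt N1673 F5400))
theorem Q1675 : ∀ i, i < 1675 → P i := stepQ 1674 Q1674 (allL N1674 (tt N1274 F5401) (tt N2472 (iv F7819)) (tt N1674 F5402) (tt N1117 (iv D1737)) (tt N1160 F5403) (tt N2467 (iv F7801)) (tt N1704 (iv F5501)) (tt N2474 D2537))
theorem Q1676 : ∀ i, i < 1676 → P i := stepQ 1675 Q1675 (allL N1675 (tt N1119 F5404) (tt N2475 D2538) (tt N1118 (iv D1738)) (tt N1503 F5405) (tt N1675 F5406) (tt N1125 F5407) (tt N1675 F5408) (tt N2476 D2539))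
theorem Q1677 : ∀ i, i < 1677 → P i := stepQ 1676 Q1676 (allL N1676 (tt N1120 F5409) (tt N1676 F5410) (tt N2476 (iv F7837)) (tt N2477 D2540) (tt N1676 F5411) (tt N1126 F5412) (tt N2478 D2541) (tt N1118 (iv D1739)))
theorem Q1678 : ∀ i, i < 1678 → P i := stepQ 1677 Q1677 (allL N1677 (tt N2476 (iv F7836)) (tt N1677 F5413) (tt N1120 F5414) (tt N2479 D2542) (tt N1677 F5415) (tt N1128 F5416) (tt N2480 D2543) (tt N1119 (iv D1740)))
theorem Q1679 : ∀ i, i < 1679 → P i := stepQ 1678 Q1678 (allL N1678 (tt N2477 (iv F7840)) (tt N1121 F5417) (tt N2481 D2544) (tt N1120 (iv D1741)) (tt N2482 D2545) (tt N1129 F5418) (tt N2483 D2546) (tt N1171 F5419))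
theorem Q1680 : ∀ i, i < 1680 → P i := stepQ 1679 Q1679 (allL N1679 (tt N2478 (iv F7844)) (tt N1122 F5420) (tt N2480 (iv F7852)) (tt N2483 (iv F7862)) (tt N1679 F5421) (tt N2484 D2547) (tt N1120 (iv D1742)) (tt N1679 F5422))
theorem Q1681 : ∀ i, i < 1681 → P i := stepQ 1680 Q1680 (allL N1680 (tt N1680 F5423) (tt N2485 D2548) (tt N1121 (iv D1743)) (tt N1680 F5424) (tt N1682 (iv F5435)) (tt N1123 F5425) (tt N1681 F5431) (tt N1173 F5426))
theorem Q1682 : ∀ i, i < 1682 → P i := stepQ 1681 Q1681 (allL N1681 (tt N1681 F5427) (tt N2482 (iv F7857)) (tt N1682 (iv F5433)) (tt N1681 F5428) (tt N1121 (iv D1744)) (tt N1124 F5429) (tt N1680 (iv F5431)) (tt N1174 F5430))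
theorem Q1683 : ∀ i, i < 1683 → P i := stepQ 1682 Q1682 (allL N1682 (tt N1682 F5432) (tt N2483 (iv F7861)) (tt N1681 F5433) (tt N1122 F5434) (tt N1680 F5435) (tt N1651 F5436) (tt N1121 (iv D1745)) (tt N1771 (iv F5707)))
theorem Q1684 : ∀ i, i < 1684 → P i := stepQ 1683 Q1683 (allL N1683 (tt N2486 D2549) (tt N1123 (iv D1746)) (tt N1134 F5437) (tt N1683 F5438) (tt N2437 (iv F7721)) (tt N2487 D2550) (tt N1652 F5439) (tt N1176 F5440))
theorem Q1685 : ∀ i, i < 1685 → P i := stepQ 1684 Q1684 (allL N1684 (tt N1760 (iv F5666)) (tt N1125 (iv D1747)) (tt N1275 F5441) (tt N2488 D2551) (tt N1684 F5442) (tt N2489 D2552) (tt N1136 F5443) (tt N2490 D2553))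
theorem Q1686 : ∀ i, i < 1686 → P i := stepQ 1685 Q1685 (allL N1685 (tt N1127 F5444) (tt N2488 (iv F7879)) (tt N1179 F5445) (tt N1125 (iv D1748)) (tt N1504 (iv F5448)) (tt N1503 F5446) (tt N1137 F5447) (tt N2491 D2554))
theorem Q1687 : ∀ i, i < 1687 → P i := stepQ 1686 Q1686 (allL N1686 (tt N1128 F5449) (tt N2490 (iv F7884)) (tt N1126 F5450) (tt N2492 D2555) (tt N1686 F5451) (tt N2476 (iv F7839)) (tt N2493 D2556) (tt N1125 (iv D1749)))
theorem Q1688 : ∀ i, i < 1688 → P i := stepQ 1687 Q1687 (allL N1687 (tt N1129 F5452) (tt N1278 F5453) (tt N2494 D2557) (tt N1126 (iv D1750)) (tt N2495 D2558) (tt N2477 (iv F7842)) (tt N2496 D2559) (tt N1181 F5454))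
theorem Q1689 : ∀ i, i < 1689 → P i := stepQ 1688 Q1688 (allL N1688 (tt N1130 F5455) (tt N1279 F5456) (tt N2493 (iv F7893)) (tt N2496 (iv F7904)) (tt N1688 F5457) (tt N2497 D2560) (tt N1126 (iv D1751)) (tt N1140 F5458))
theorem Q1690 : ∀ i, i < 1690 → P i := stepQ 1689 Q1689 (allL N1689 (tt N2491 (iv F7887)) (tt N1762 (iv F5674)) (tt N1183 F5459) (tt N2498 D2561) (tt N1565 F5460) (tt N1563 F5461) (tt N2499 D2562) (tt N1127 (iv D1752)))
theorem Q1691 : ∀ i, i < 1691 → P i := stepQ 1690 Q1690 (allL N1690 (tt N2492 (iv F7891)) (tt N1759 (iv F5664)) (tt N2500 D2563) (tt N1128 (iv D1753)) (tt N2501 D2564) (tt N2479 (iv F7849)) (tt N2502 D2565) (tt N2498 (iv F7909)))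
theorem Q1692 : ∀ i, i < 1692 → P i := stepQ 1691 Q1691 (allL N1691 (tt N2493 (iv F7892)) (tt N1742 (iv F5608)) (tt N1130 F5462) (tt N2502 (iv F7915)) (tt N1691 F5463) (tt N2503 D2566) (tt N1128 (iv D1754)) (tt N1144 F5464))
theorem Q1693 : ∀ i, i < 1693 → P i := stepQ 1692 Q1692 (allL N1692 (tt N2494 (iv F7896)) (tt N2504 D2567) (tt N1129 (iv D1755)) (tt N2500 (iv F7913)) (tt N2505 D2568) (tt N2481 (iv F7855)) (tt N2506 D2569) (tt N1186 F5465))
theorem Q1694 : ∀ i, i < 1694 → P i := stepQ 1693 Q1693 (allL N1693 (tt N2495 (iv F7898)) (tt N1132 F5466) (tt N2505 (iv F7921)) (tt N1693 F5467) (tt N1129 (iv D1756)) (tt N2482 (iv F7859)) (tt N2507 D2570) (tt N1187 F5468))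
theorem Q1695 : ∀ i, i < 1695 → P i := stepQ 1694 Q1694 (allL N1694 (tt N2496 (iv F7902)) (tt N1133 F5469) (tt N2506 (iv F7923)) (tt N1130 F5470) (tt N2507 (iv F7926)) (tt N2508 D2571) (tt N1129 (iv D1757)) (tt N2509 D2572))
theorem Q1696 : ∀ i, i < 1696 → P i := stepQ 1695 Q1695 (allL N1695 (tt N2497 (iv F7905)) (tt N1665 F5471) (tt N2503 (iv F7916)) (tt N2508 (iv F7929)) (tt N1695 F5472) (tt N1130 (iv D1758)) (tt N2484 (iv F7865)) (tt N1148 F5473))
theorem Q1697 : ∀ i, i < 1697 → P i := stepQ 1696 Q1696 (allL N1696 (tt N2510 D2573) (tt N1131 (iv D1759)) (tt N2504 (iv F7919)) (tt N1754 (iv F5648)) (tt N2511 D2574) (tt N2512 D2575) (tt N2513 D2576) (tt N1190 F5474))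
theorem Q1698 : ∀ i, i < 1698 → P i := stepQ 1697 Q1697 (allL N1697 (tt N1289 F5475) (tt N2511 (iv F7936)) (tt N1132 F5476) (tt N2514 D2577) (tt N1131 (iv D1760)) (tt N1135 F5477) (tt N2515 D2578) (tt N1191 F5478))
theorem Q1699 : ∀ i, i < 1699 → P i := stepQ 1698 Q1698 (allL N1698 (tt N1290 F5479) (tt N2513 (iv F7940)) (tt N1133 F5480) (tt N1736 (iv F5586)) (tt N2515 (iv F7947)) (tt N1668 F5481) (tt N1131 (iv D1761)) (tt N2516 D2579))
theorem Q1700 : ∀ i, i < 1700 → P i := stepQ 1699 Q1699 (allL N1699 (tt N1291 F5482) (tt N2507 (iv F7924)) (tt N2515 (iv F7946)) (tt N1699 F5483) (tt N1133 F5484) (tt N1669 F5485) (tt N1132 (iv D1762)) (tt N1578 F5486))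
theorem Q1701 : ∀ i, i < 1701 → P i := stepQ 1700 Q1700 (allL N1700 (tt N1292 F5487) (tt N2509 (iv F7930)) (tt N2516 (iv F7951)) (tt N1154 F5488) (tt N1578 F5489) (tt N1670 F5490) (tt N1193 F5491) (tt N1133 (iv D1763)))
theorem Q1702 : ∀ i, i < 1702 → P i := stepQ 1701 Q1701 (allL N1701 (tt N1134 (iv D1764)) (tt N1293 F5492) (tt N2486 (iv F7872)) (tt N1745 (iv F5622)) (tt N2517 D2580) (tt N2518 D2581) (tt N1671 F5493) (tt N1194 F5494))
theorem Q1703 : ∀ i, i < 1703 → P i := stepQ 1702 Q1702 (allL N1702 (tt N2517 (iv F7955)) (tt N1135 F5495) (tt N2437 (iv F7719)) (tt N2519 D2582) (tt N1134 (iv D1765)) (tt N2520 D2583) (tt N1672 F5496) (tt N1195 F5497))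
theorem Q1704 : ∀ i, i < 1704 → P i := stepQ 1703 Q1703 (allL N1703 (tt N2518 (iv F7959)) (tt N2512 (iv F7938)) (tt N2487 (iv F7876)) (tt N1750 (iv F5634)) (tt N2520 (iv F7963)) (tt N1134 (iv D1766)) (tt N2521 D2584) (tt N1196 F5498))
theorem Q1705 : ∀ i, i < 1705 → P i := stepQ 1704 Q1704 (allL N1704 (tt N1296 F5499) (tt N2519 (iv F7961)) (tt N1704 F5500) (tt N1135 (iv D1767)) (tt N1751 (iv F5639)) (tt N2514 (iv F7943)) (tt N1674 F5501) (tt N2522 D2585))
theorem Q1706 : ∀ i, i < 1706 → P i := stepQ 1705 Q1705 (allL N1705 (tt N2440 (iv F7731)) (tt N1137 F5502) (tt N2523 D2586) (tt N1136 (iv D1768)) (tt N2524 D2587) (tt N2525 D2588) (tt N2488 (iv F7880)) (tt N2526 D2589))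
theorem Q1707 : ∀ i, i < 1707 → P i := stepQ 1706 Q1706 (allL N1706 (tt N2441 (iv F7733)) (tt N1706 F5503) (tt N1298 F5504) (tt N2525 (iv F7976)) (tt N1706 F5505) (tt N1136 (iv D1769)) (tt N2527 D2590) (tt N2528 D2591))
theorem Q1708 : ∀ i, i < 1708 → P i := stepQ 1707 Q1707 (allL N1707 (tt N2442 (iv F7736)) (tt N1138 F5506) (tt N1299 F5507) (tt N2529 D2592) (tt N1707 F5508) (tt N2528 (iv F7984)) (tt N2530 D2593) (tt N1136 (iv D1770)))
theorem Q1709 : ∀ i, i < 1709 → P i := stepQ 1708 Q1708 (allL N1708 (tt N1141 F5509) (tt N2524 (iv F7972)) (tt N1201 F5510) (tt N1708 F5511) (tt N1137 (iv D1771)) (tt N1708 F5512) (tt N1504 F5513) (tt N2531 D2594))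
theorem Q1710 : ∀ i, i < 1710 → P i := stepQ 1709 Q1709 (allL N1709 (tt N1142 F5514) (tt N2526 (iv F7977)) (tt N1202 F5515) (tt N2532 D2595) (tt N2531 (iv F7991)) (tt N1709 F5516) (tt N2533 D2596) (tt N1137 (iv D1772)))
theorem Q1711 : ∀ i, i < 1711 → P i := stepQ 1710 Q1710 (allL N1710 (tt N1143 F5517) (tt N2529 (iv F7985)) (tt N2534 D2597) (tt N1138 (iv D1773)) (tt N2535 D2598) (tt N1710 F5518) (tt N2536 D2599) (tt N2532 (iv F7995)))
theorem Q1712 : ∀ i, i < 1712 → P i := stepQ 1711 Q1711 (allL N1711 (tt N1144 F5519) (tt N2530 (iv F7986)) (tt N1140 F5520) (tt N2536 (iv F8005)) (tt N1711 F5521) (tt N2537 D2600) (tt N1138 (iv D1774)) (tt N2493 (iv F7895)))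
theorem Q1713 : ∀ i, i < 1713 → P i := stepQ 1712 Q1712 (allL N1712 (tt N1145 F5522) (tt N2538 D2601) (tt N1139 (iv D1775)) (tt N2534 (iv F7999)) (tt N2539 D2602) (tt N1712 F5523) (tt N2540 D2603) (tt N1205 F5524))
theorem Q1714 : ∀ i, i < 1714 → P i := stepQ 1713 Q1713 (allL N1713 (tt N1146 F5525) (tt N1305 F5526) (tt N2539 (iv F8013)) (tt N1713 F5527) (tt N1139 (iv D1776)) (tt N1713 F5528) (tt N2541 D2604) (tt N1206 F5529))
theorem Q1715 : ∀ i, i < 1715 → P i := stepQ 1714 Q1714 (allL N1714 (tt N1147 F5530) (tt N1306 F5531) (tt N2540 (iv F8017)) (tt N1140 F5532) (tt N2541 (iv F8021)) (tt N2542 D2605) (tt N1139 (iv D1777)) (tt N2543 D2606))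
theorem Q1716 : ∀ i, i < 1716 → P i := stepQ 1715 Q1715 (allL N1715 (tt N1148 F5533) (tt N2544 D2607) (tt N2537 (iv F8007)) (tt N2542 (iv F8024)) (tt N1715 F5534) (tt N1140 (iv D1778)) (tt N1715 F5535) (tt N2497 (iv F7907)))
theorem Q1717 : ∀ i, i < 1717 → P i := stepQ 1716 Q1716 (allL N1716 (tt N2531 (iv F7989)) (tt N2451 (iv F7762)) (tt N1209 F5536) (tt N2545 D2608) (tt N1142 F5537) (tt N1716 F5538) (tt N2546 D2609) (tt N1141 (iv D1779)))
theorem Q1718 : ∀ i, i < 1718 → P i := stepQ 1717 Q1717 (allL N1717 (tt N2532 (iv F7993)) (tt N2452 (iv F7765)) (tt N2547 D2610) (tt N1142 (iv D1780)) (tt N2548 D2611) (tt N1717 F5539) (tt N2549 D2612) (tt N1143 F5540))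
theorem Q1719 : ∀ i, i < 1719 → P i := stepQ 1718 Q1718 (allL N1718 (tt N2533 (iv F7996)) (tt N2453 (iv F7767)) (tt N1211 F5541) (tt N2549 (iv F8044)) (tt N2546 (iv F8037)) (tt N2550 D2613) (tt N1142 (iv D1781)) (tt N2499 (iv F7912)))
theorem Q1720 : ∀ i, i < 1720 → P i := stepQ 1719 Q1719 (allL N1719 (tt N2534 (iv F7998)) (tt N2551 D2614) (tt N1143 (iv D1782)) (tt N1145 F5542) (tt N2552 D2615) (tt N1719 F5543) (tt N2553 D2616) (tt N2547 (iv F8041)))
theorem Q1721 : ∀ i, i < 1721 → P i := stepQ 1720 Q1720 (allL N1720 (tt N2535 (iv F8001)) (tt N2455 (iv F7770)) (tt N2552 (iv F8048)) (tt N1720 F5544) (tt N1143 (iv D1783)) (tt N1720 F5545) (tt N2554 D2617) (tt N2548 (iv F8043)))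
theorem Q1722 : ∀ i, i < 1722 → P i := stepQ 1721 Q1721 (allL N1721 (tt N2536 (iv F8004)) (tt N2456 (iv F7772)) (tt N2553 (iv F8050)) (tt N1144 F5546) (tt N2554 (iv F8053)) (tt N2555 D2618) (tt N1143 (iv D1784)) (tt N2556 D2619))
theorem Q1723 : ∀ i, i < 1723 → P i := stepQ 1722 Q1722 (allL N1722 (tt N2537 (iv F8006)) (tt N2557 D2620) (tt N1148 F5547) (tt N2555 (iv F8054)) (tt N1722 F5548) (tt N1144 (iv D1785)) (tt N1722 F5549) (tt N2503 (iv F7918)))
theorem Q1724 : ∀ i, i < 1724 → P i := stepQ 1723 Q1723 (allL N1723 (tt N2558 D2621) (tt N1145 (iv D1786)) (tt N1149 F5550) (tt N2551 (iv F8047)) (tt N2559 D2622) (tt N2560 D2623) (tt N2561 D2624) (tt N1215 F5551))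
theorem Q1725 : ∀ i, i < 1725 → P i := stepQ 1724 Q1724 (allL N1724 (tt N2539 (iv F8012)) (tt N2559 (iv F8060)) (tt N1146 F5552) (tt N2562 D2625) (tt N1145 (iv D1787)) (tt N1724 F5553) (tt N2563 D2626) (tt N1216 F5554))
theorem Q1726 : ∀ i, i < 1726 → P i := stepQ 1725 Q1725 (allL N1725 (tt N2540 (iv F8016)) (tt N2561 (iv F8066)) (tt N1147 F5555) (tt N2553 (iv F8051)) (tt N2563 (iv F8072)) (tt N2564 D2627) (tt N1145 (iv D1788)) (tt N2565 D2628))
theorem Q1727 : ∀ i, i < 1727 → P i := stepQ 1726 Q1726 (allL N1726 (tt N2541 (iv F8018)) (tt N1152 F5556) (tt N2563 (iv F8071)) (tt N1726 F5557) (tt N1147 F5558) (tt N2566 D2629) (tt N1146 (iv D1789)) (tt N1573 F5559))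
theorem Q1728 : ∀ i, i < 1728 → P i := stepQ 1727 Q1727 (allL N1727 (tt N2542 (iv F8023)) (tt N2567 D2630) (tt N2564 (iv F8074)) (tt N1148 F5560) (tt N2566 (iv F8080)) (tt N1147 (iv D1790)) (tt N1727 F5561) (tt N2568 D2631))
theorem Q1729 : ∀ i, i < 1729 → P i := stepQ 1728 Q1728 (allL N1728 (tt N2543 (iv F8026)) (tt N1154 F5562) (tt N2565 (iv F8076)) (tt N2509 (iv F7931)) (tt N1573 F5563) (tt N2568 (iv F8087)) (tt N1219 F5564) (tt N1147 (iv D1791)))
theorem Q1730 : ∀ i, i < 1730 → P i := stepQ 1729 Q1729 (allL N1729 (tt N2569 D2632) (tt N1148 (iv D1792)) (tt N2570 D2633) (tt N2567 (iv F8083)) (tt N1729 F5565) (tt N1155 F5566) (tt N1729 F5567) (tt N1665 F5568))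
theorem Q1731 : ∀ i, i < 1731 → P i := stepQ 1730 Q1730 (allL N1730 (tt N1149 (iv D1793)) (tt N1322 F5569) (tt N2558 (iv F8058)) (tt N2463 (iv F7786)) (tt N2571 D2634) (tt N2572 D2635) (tt N2573 D2636) (tt N1220 F5570))
theorem Q1732 : ∀ i, i < 1732 → P i := stepQ 1731 Q1731 (allL N1731 (tt N2571 (iv F8096)) (tt N1150 F5571) (tt N2559 (iv F8061)) (tt N2574 D2637) (tt N1149 (iv D1794)) (tt N2575 D2638) (tt N2576 D2639) (tt N1221 F5572))
theorem Q1733 : ∀ i, i < 1733 → P i := stepQ 1732 Q1732 (allL N1732 (tt N2572 (iv F8099)) (tt N1158 F5573) (tt N2560 (iv F8064)) (tt N2465 (iv F7793)) (tt N2575 (iv F8106)) (tt N1149 (iv D1795)) (tt N2577 D2640) (tt N1222 F5574))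
theorem Q1734 : ∀ i, i < 1734 → P i := stepQ 1733 Q1733 (allL N1733 (tt N2573 (iv F8101)) (tt N1151 F5575) (tt N2561 (iv F8067)) (tt N2466 (iv F7797)) (tt N2576 (iv F8109)) (tt N2578 D2641) (tt N1149 (iv D1796)) (tt N2579 D2642))
theorem Q1735 : ∀ i, i < 1735 → P i := stepQ 1734 Q1734 (allL N1734 (tt N1326 F5576) (tt N2574 (iv F8103)) (tt N1734 F5577) (tt N1150 (iv D1797)) (tt N2467 (iv F7800)) (tt N1160 F5578) (tt N2580 D2643) (tt N1591 F5579))
theorem Q1736 : ∀ i, i < 1736 → P i := stepQ 1735 Q1735 (allL N1735 (tt N1327 F5580) (tt N2576 (iv F8108)) (tt N1152 F5581) (tt N2580 (iv F8117)) (tt N1151 F5582) (tt N2581 D2644) (tt N1150 (iv D1798)) (tt N1581 F5583))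
theorem Q1737 : ∀ i, i < 1737 → P i := stepQ 1736 Q1736 (allL N1736 (tt N1328 F5584) (tt N2582 D2645) (tt N1153 F5585) (tt N1698 F5586) (tt N2581 (iv F8121)) (tt N1151 (iv D1799)) (tt N1162 F5587) (tt N2583 D2646))
theorem Q1738 : ∀ i, i < 1738 → P i := stepQ 1737 Q1737 (allL N1737 (tt N1329 F5588) (tt N2579 (iv F8112)) (tt N1154 F5589) (tt N2584 D2647) (tt N1581 F5590) (tt N2583 (iv F8129)) (tt N1224 F5591) (tt N1151 (iv D1800)))
theorem Q1739 : ∀ i, i < 1739 → P i := stepQ 1738 Q1738 (allL N1738 (tt N1330 F5592) (tt N2585 D2648) (tt N2581 (iv F8120)) (tt N1738 F5593) (tt N1153 F5594) (tt N1152 (iv D1801)) (tt N1163 F5595) (tt N1582 F5596))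
theorem Q1740 : ∀ i, i < 1740 → P i := stepQ 1739 Q1739 (allL N1739 (tt N2586 D2649) (tt N1153 (iv D1802)) (tt N2587 D2650) (tt N1155 F5597) (tt N2585 (iv F8135)) (tt N2567 (iv F8084)) (tt N1164 F5598) (tt N2588 D2651))
theorem Q1741 : ∀ i, i < 1741 → P i := stepQ 1740 Q1740 (allL N1740 (tt N1332 F5599) (tt N2588 (iv F8142)) (tt N2583 (iv F8127)) (tt N1670 F5600) (tt N1582 F5601) (tt N1154 F5602) (tt N1740 F5603) (tt N1153 (iv D1803)))
theorem Q1742 : ∀ i, i < 1742 → P i := stepQ 1741 Q1741 (allL N1741 (tt N1155 (iv D1804)) (tt N1333 F5604) (tt N2589 D2652) (tt N2586 (iv F8139)) (tt N1741 F5605) (tt N2569 (iv F8089)) (tt N1165 F5606) (tt N1657 F5607))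
theorem Q1743 : ∀ i, i < 1743 → P i := stepQ 1742 Q1742 (allL N1742 (tt N2589 (iv F8146)) (tt N1691 F5608) (tt N1155 (iv D1805)) (tt N2590 D2653) (tt N1742 F5609) (tt N2570 (iv F8093)) (tt N1166 F5610) (tt N1661 F5611))
theorem Q1744 : ∀ i, i < 1744 → P i := stepQ 1743 Q1743 (allL N1743 (tt N1157 F5612) (tt N1335 F5613) (tt N1743 F5614) (tt N2591 D2654) (tt N1156 (iv D1806)) (tt N2592 D2655) (tt N2213 (iv F7069)) (tt N1225 F5615))
theorem Q1745 : ∀ i, i < 1745 → P i := stepQ 1744 Q1744 (allL N1744 (tt N1158 F5616) (tt N2593 D2656) (tt N1744 F5617) (tt N2471 (iv F7816)) (tt N2592 (iv F8156)) (tt N1156 (iv D1807)) (tt N2594 D2657) (tt N1226 F5618))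
theorem Q1746 : ∀ i, i < 1746 → P i := stepQ 1745 Q1745 (allL N1745 (tt N1159 F5619) (tt N1337 F5620) (tt N1745 F5621) (tt N1701 F5622) (tt N2213 (iv F7068)) (tt N2595 D2658) (tt N1156 (iv D1808)) (tt N1745 F5623))
theorem Q1747 : ∀ i, i < 1747 → P i := stepQ 1746 Q1746 (allL N1746 (tt N2591 (iv F8152)) (tt N1160 F5624) (tt N2596 D2659) (tt N1157 (iv D1809)) (tt N2472 (iv F7821)) (tt N2597 D2660) (tt N2598 D2661) (tt N2599 D2662))
theorem Q1748 : ∀ i, i < 1748 → P i := stepQ 1747 Q1747 (allL N1747 (tt N2592 (iv F8154)) (tt N2575 (iv F8105)) (tt N1747 F5625) (tt N2597 (iv F8171)) (tt N1158 F5626) (tt N1157 (iv D1810)) (tt N2600 D2663) (tt N1228 F5627))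
theorem Q1749 : ∀ i, i < 1749 → P i := stepQ 1748 Q1748 (allL N1748 (tt N2213 (iv F7066)) (tt N1161 F5628) (tt N1748 F5629) (tt N2598 (iv F8174)) (tt N1159 F5630) (tt N2601 D2664) (tt N1157 (iv D1811)) (tt N1748 F5631))
theorem Q1750 : ∀ i, i < 1750 → P i := stepQ 1749 Q1749 (allL N1749 (tt N2594 (iv F8160)) (tt N2577 (iv F8111)) (tt N1749 F5632) (tt N2473 (iv F7824)) (tt N2600 (iv F8179)) (tt N2602 D2665) (tt N1158 (iv D1812)) (tt N2603 D2666))
theorem Q1751 : ∀ i, i < 1751 → P i := stepQ 1750 Q1750 (allL N1750 (tt N2595 (iv F8162)) (tt N2604 D2667) (tt N1750 F5633) (tt N1703 F5634) (tt N2601 (iv F8181)) (tt N1159 (iv D1813)) (tt N2602 (iv F8185)) (tt N1750 F5635))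
theorem Q1752 : ∀ i, i < 1752 → P i := stepQ 1751 Q1751 (allL N1751 (tt N1342 F5636) (tt N2598 (iv F8173)) (tt N1751 F5637) (tt N1161 F5638) (tt N1704 F5639) (tt N2605 D2668) (tt N1160 (iv D1814)) (tt N2606 D2669))
theorem Q1753 : ∀ i, i < 1753 → P i := stepQ 1752 Q1752 (allL N1752 (tt N1343 F5640) (tt N2599 (iv F8176)) (tt N1752 F5641) (tt N1230 F5642) (tt N2474 (iv F7829)) (tt N1591 F5643) (tt N2607 D2670) (tt N1160 (iv D1815)))
theorem Q1754 : ∀ i, i < 1754 → P i := stepQ 1753 Q1753 (allL N1753 (tt N1344 F5644) (tt N2608 D2671) (tt N1163 F5645) (tt N2605 (iv F8193)) (tt N1162 F5646) (tt N1161 (iv D1816)) (tt N2581 (iv F8122)) (tt N1753 F5647))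
theorem Q1755 : ∀ i, i < 1755 → P i := stepQ 1754 Q1754 (allL N1754 (tt N2609 D2672) (tt N1162 (iv D1817)) (tt N2610 D2673) (tt N1696 F5648) (tt N2608 (iv F8216)) (tt N2604 (iv F8189)) (tt N2582 (iv F8125)) (tt N1754 F5649))
theorem Q1756 : ∀ i, i < 1756 → P i := stepQ 1755 Q1755 (allL N1755 (tt N2211 (iv F7057)) (tt N1163 (iv D1818)) (tt N2611 D2674) (tt N1755 F5650) (tt N1164 F5651) (tt N1755 F5652) (tt N2585 (iv F8136)) (tt N1755 F5653))
theorem Q1757 : ∀ i, i < 1757 → P i := stepQ 1756 Q1756 (allL N1756 (tt N1164 (iv D1819)) (tt N1346 F5654) (tt N2612 D2675) (tt N1165 F5655) (tt N2211 (iv F7059)) (tt N1756 F5656) (tt N2586 (iv F8140)) (tt N1756 F5657))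
theorem Q1758 : ∀ i, i < 1758 → P i := stepQ 1757 Q1757 (allL N1757 (tt N2612 (iv F8232)) (tt N2610 (iv F8223)) (tt N1164 (iv D1820)) (tt N2613 D2676) (tt N2611 (iv F8228)) (tt N1757 F5658) (tt N2587 (iv F8141)) (tt N1757 F5659))
theorem Q1759 : ∀ i, i < 1759 → P i := stepQ 1758 Q1758 (allL N1758 (tt N1166 F5660) (tt N2614 D2677) (tt N1165 (iv D1821)) (tt N2615 D2678) (tt N1758 F5661) (tt N1758 F5662) (tt N2589 (iv F8148)) (tt N1167 F5663))
theorem Q1760 : ∀ i, i < 1760 → P i := stepQ 1759 Q1759 (allL N1759 (tt N2615 (iv F8241)) (tt N1690 F5664) (tt N2613 (iv F8235)) (tt N1166 (iv D1822)) (tt N2616 D2679) (tt N1759 F5665) (tt N2590 (iv F8151)) (tt N2617 D2680))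
theorem Q1761 : ∀ i, i < 1761 → P i := stepQ 1760 Q1760 (allL N1760 (tt N1684 F5666) (tt N1167 (iv D1823)) (tt N1350 F5667) (tt N2618 D2681) (tt N1760 F5668) (tt N2619 D2682) (tt N1653 F5669) (tt N2614 (iv F8240)))
theorem Q1762 : ∀ i, i < 1762 → P i := stepQ 1761 Q1761 (allL N1761 (tt N1168 F5670) (tt N2618 (iv F8253)) (tt N1761 F5671) (tt N1167 (iv D1824)) (tt N2316 (iv F7347)) (tt N1761 F5672) (tt N1654 F5673) (tt N2620 D2683))
theorem Q1763 : ∀ i, i < 1763 → P i := stepQ 1762 Q1762 (allL N1762 (tt N2620 (iv F8259)) (tt N1689 F5674) (tt N1762 F5675) (tt N2617 (iv F8247)) (tt N2317 (iv F7351)) (tt N1762 F5676) (tt N2621 D2684) (tt N1168 (iv D1825)))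
theorem Q1764 : ∀ i, i < 1764 → P i := stepQ 1763 Q1763 (allL N1763 (tt N2622 D2685) (tt N1169 (iv D1826)) (tt N1763 F5677) (tt N1176 F5678) (tt N1763 F5679) (tt N2623 D2686) (tt N1763 F5680) (tt N1763 F5681))
theorem Q1765 : ∀ i, i < 1765 → P i := stepQ 1764 Q1764 (allL N1764 (tt N1171 F5682) (tt N1764 F5683) (tt N2624 D2687) (tt N1170 (iv D1827)) (tt N2625 D2688) (tt N1181 F5684) (tt N2626 D2689) (tt N2477 (iv F7843)))
theorem Q1766 : ∀ i, i < 1766 → P i := stepQ 1765 Q1765 (allL N1765 (tt N1172 F5685) (tt N1765 F5686) (tt N1241 F5687) (tt N2626 (iv F8285)) (tt N1232 F5688) (tt N2627 D2690) (tt N1170 (iv D1828)) (tt N1765 F5689))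
theorem Q1767 : ∀ i, i < 1767 → P i := stepQ 1766 Q1766 (allL N1766 (tt N2624 (iv F8276)) (tt N2628 D2691) (tt N1171 (iv D1829)) (tt N1628 F5690) (tt N2629 D2692) (tt N1186 F5691) (tt N2630 D2693) (tt N2481 (iv F7856)))
theorem Q1768 : ∀ i, i < 1768 → P i := stepQ 1767 Q1767 (allL N1767 (tt N2625 (iv F8279)) (tt N1174 F5692) (tt N2629 (iv F8293)) (tt N1234 F5693) (tt N1171 (iv D1830)) (tt N1187 F5694) (tt N2631 D2694) (tt N2482 (iv F7860)))
theorem Q1769 : ∀ i, i < 1769 → P i := stepQ 1768 Q1768 (allL N1768 (tt N2626 (iv F8283)) (tt N1175 F5695) (tt N2630 (iv F8295)) (tt N1172 F5696) (tt N2631 (iv F8299)) (tt N2632 D2695) (tt N1171 (iv D1831)) (tt N2633 D2696))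
theorem Q1770 : ∀ i, i < 1770 → P i := stepQ 1769 Q1769 (allL N1769 (tt N2627 (iv F8286)) (tt N1769 F5697) (tt N1234 F5698) (tt N2632 (iv F8302)) (tt N1233 F5699) (tt N1172 (iv D1832)) (tt N1189 F5700) (tt N1769 F5701))
theorem Q1771 : ∀ i, i < 1771 → P i := stepQ 1770 Q1770 (allL N1770 (tt N2634 D2697) (tt N1173 (iv D1833)) (tt N2628 (iv F8291)) (tt N1632 F5702) (tt N2635 D2698) (tt N2636 D2699) (tt N2637 D2700) (tt N2485 (iv F7870)))
theorem Q1772 : ∀ i, i < 1772 → P i := stepQ 1771 Q1771 (allL N1771 (tt N1771 F5703) (tt N2635 (iv F8309)) (tt N1174 F5704) (tt N1771 F5705) (tt N1173 (iv D1834)) (tt N1177 F5706) (tt N1774 (iv F5722)) (tt N1682 F5707))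
theorem Q1773 : ∀ i, i < 1773 → P i := stepQ 1772 Q1772 (allL N1772 (tt N1772 F5708) (tt N2637 (iv F8315)) (tt N1175 F5709) (tt N1633 F5710) (tt N1774 (iv F5720)) (tt N1772 F5711) (tt N1173 (iv D1835)) (tt N1773 (iv F5716)))
theorem Q1774 : ∀ i, i < 1774 → P i := stepQ 1773 Q1773 (allL N1773 (tt N1773 F5712) (tt N2631 (iv F8297)) (tt N1774 (iv F5718)) (tt N1236 F5713) (tt N1175 F5714) (tt N1773 F5715) (tt N1174 (iv D1836)) (tt N1772 F5716))
theorem Q1775 : ∀ i, i < 1775 → P i := stepQ 1774 Q1774 (allL N1774 (tt N1774 F5717) (tt N2633 (iv F8305)) (tt N1773 F5718) (tt N1774 F5719) (tt N1772 F5720) (tt N1774 F5721) (tt N1771 F5722) (tt N1175 (iv D1837)))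
theorem Q1776 : ∀ i, i < 1776 → P i := stepQ 1775 Q1775 (allL N1775 (tt N1176 (iv D1838)) (tt N1775 F5723) (tt N1194 F5724) (tt N2622 (iv F8267)) (tt N2638 D2701) (tt N2639 D2702) (tt N1775 F5725) (tt N2486 (iv F7875)))
theorem Q1777 : ∀ i, i < 1777 → P i := stepQ 1776 Q1776 (allL N1776 (tt N2638 (iv F8319)) (tt N1177 F5726) (tt N1195 F5727) (tt N1776 F5728) (tt N1176 (iv D1839)) (tt N2640 D2703) (tt N1776 F5729) (tt N2437 F7722))
theorem Q1778 : ∀ i, i < 1778 → P i := stepQ 1777 Q1777 (allL N1777 (tt N2639 (iv F8324)) (tt N2636 (iv F8313)) (tt N1196 F5730) (tt N2623 (iv F8273)) (tt N2640 (iv F8328)) (tt N1176 (iv D1840)) (tt N2641 D2704) (tt N2487 (iv F7878)))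
theorem Q1779 : ∀ i, i < 1779 → P i := stepQ 1778 Q1778 (allL N1778 (tt N1778 F5731) (tt N1179 F5732) (tt N2642 D2705) (tt N1178 (iv D1841)) (tt N1387 F5733) (tt N1386 F5734) (tt N1198 F5735) (tt N2643 D2706))
theorem Q1780 : ∀ i, i < 1780 → P i := stepQ 1779 Q1779 (allL N1779 (tt N1779 F5736) (tt N1180 F5737) (tt N1356 F5738) (tt N2644 D2707) (tt N1238 F5739) (tt N1441 F5740) (tt N2645 D2708) (tt N1178 (iv D1842)))
theorem Q1781 : ∀ i, i < 1781 → P i := stepQ 1780 Q1780 (allL N1780 (tt N1183 F5741) (tt N2643 (iv F8337)) (tt N2491 (iv F7888)) (tt N2646 D2709) (tt N1507 F5742) (tt N1506 F5743) (tt N2647 D2710) (tt N1179 (iv D1843)))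
theorem Q1782 : ∀ i, i < 1782 → P i := stepQ 1781 Q1781 (allL N1781 (tt N1184 F5744) (tt N2644 (iv F8341)) (tt N2648 D2711) (tt N1180 (iv D1844)) (tt N2649 D2712) (tt N1560 F5745) (tt N2650 D2713) (tt N2646 (iv F8351)))
theorem Q1783 : ∀ i, i < 1783 → P i := stepQ 1782 Q1782 (allL N1782 (tt N1185 F5746) (tt N2645 (iv F8344)) (tt N1182 F5747) (tt N2650 (iv F8362)) (tt N1240 F5748) (tt N2651 D2714) (tt N1180 (iv D1845)) (tt N1204 F5749))
theorem Q1784 : ∀ i, i < 1784 → P i := stepQ 1783 Q1783 (allL N1783 (tt N1186 F5750) (tt N2652 D2715) (tt N1181 (iv D1846)) (tt N2648 (iv F8356)) (tt N2653 D2716) (tt N2624 (iv F8278)) (tt N2654 D2717) (tt N2494 (iv F7897)))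
theorem Q1785 : ∀ i, i < 1785 → P i := stepQ 1784 Q1784 (allL N1784 (tt N1187 F5751) (tt N1362 F5752) (tt N2653 (iv F8371)) (tt N1241 F5753) (tt N1181 (iv D1847)) (tt N2625 (iv F8282)) (tt N1560 (iv F5754)) (tt N2495 (iv F7901)))
theorem Q1786 : ∀ i, i < 1786 → P i := stepQ 1785 Q1785 (allL N1785 (tt N1188 F5755) (tt N1363 F5756) (tt N2654 (iv F8374)) (tt N1182 F5757) (tt N1560 F5758) (tt N2649 (iv F8360)) (tt N1181 (iv D1848)) (tt N2655 D2718))
theorem Q1787 : ∀ i, i < 1787 → P i := stepQ 1786 Q1786 (allL N1786 (tt N1189 F5759) (tt N2656 D2719) (tt N2651 (iv F8365)) (tt N2649 (iv F8359)) (tt N1239 F5760) (tt N1182 (iv D1849)) (tt N2627 (iv F8289)) (tt N1208 F5761))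
theorem Q1788 : ∀ i, i < 1788 → P i := stepQ 1787 Q1787 (allL N1787 (tt N2646 (iv F8349)) (tt N1787 F5762) (tt N2657 D2720) (tt N1183 (iv D1850)) (tt N2658 D2721) (tt N1568 F5763) (tt N2659 D2722) (tt N1184 F5764))
theorem Q1789 : ∀ i, i < 1789 → P i := stepQ 1788 Q1788 (allL N1788 (tt N2647 (iv F8352)) (tt N1788 F5765) (tt N2499 (iv F7910)) (tt N2659 (iv F8392)) (tt N1571 F5766) (tt N2660 D2723) (tt N1183 (iv D1851)) (tt N1211 F5767))
theorem Q1790 : ∀ i, i < 1790 → P i := stepQ 1789 Q1789 (allL N1789 (tt N2648 (iv F8355)) (tt N2661 D2724) (tt N1184 (iv D1852)) (tt N1186 F5768) (tt N2662 D2725) (tt N1628 F5769) (tt N2663 D2726) (tt N2657 (iv F8386)))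
theorem Q1791 : ∀ i, i < 1791 → P i := stepQ 1790 Q1790 (allL N1790 (tt N2649 (iv F8358)) (tt N1790 F5770) (tt N2662 (iv F8398)) (tt N1189 F5771) (tt N1184 (iv D1853)) (tt N1188 F5772) (tt N2632 (iv F8304)) (tt N2658 (iv F8390)))
theorem Q1792 : ∀ i, i < 1792 → P i := stepQ 1791 Q1791 (allL N1791 (tt N2650 (iv F8361)) (tt N1791 F5773) (tt N2663 (iv F8400)) (tt N1185 F5774) (tt N2632 (iv F8303)) (tt N2631 (iv F8300)) (tt N1184 (iv D1854)) (tt N2664 D2727))
theorem Q1793 : ∀ i, i < 1793 → P i := stepQ 1792 Q1792 (allL N1792 (tt N2651 (iv F8363)) (tt N1236 (iv F5779)) (tt N1189 F5775) (tt N2631 (iv F8298)) (tt N1235 F5776) (tt N1185 (iv D1855)) (tt N1234 F5777) (tt N1214 F5778))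
theorem Q1794 : ∀ i, i < 1794 → P i := stepQ 1793 Q1793 (allL N1793 (tt N2665 D2728) (tt N1186 (iv D1856)) (tt N1190 F5780) (tt N2661 (iv F8397)) (tt N2666 D2729) (tt N2667 D2730) (tt N2668 D2731) (tt N2504 (iv F7920)))
theorem Q1795 : ∀ i, i < 1795 → P i := stepQ 1794 Q1794 (allL N1794 (tt N2653 (iv F8370)) (tt N2666 (iv F8406)) (tt N1187 F5781) (tt N2630 (iv F8296)) (tt N1186 (iv D1857)) (tt N2629 (iv F8294)) (tt N1628 (iv F5782)) (tt N2505 (iv F7922)))
theorem Q1796 : ∀ i, i < 1796 → P i := stepQ 1795 Q1795 (allL N1795 (tt N2654 (iv F8373)) (tt N2668 (iv F8410)) (tt N1188 F5783) (tt N2663 (iv F8401)) (tt N1628 F5784) (tt N2662 (iv F8399)) (tt N1186 (iv D1858)) (tt N2669 D2732))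
theorem Q1797 : ∀ i, i < 1797 → P i := stepQ 1796 Q1796 (allL N1796 (tt N2655 (iv F8376)) (tt N1193 F5785) (tt N2669 (iv F8413)) (tt N1219 F5786) (tt N1568 F5787) (tt N2658 (iv F8389)) (tt N2509 (iv F7933)) (tt N1188 (iv D1859)))
theorem Q1798 : ∀ i, i < 1798 → P i := stepQ 1797 Q1797 (allL N1797 (tt N1190 (iv D1860)) (tt N1374 F5788) (tt N2665 (iv F8405)) (tt N1797 F5789) (tt N2670 D2733) (tt N2671 D2734) (tt N2672 D2735) (tt N2510 (iv F7935)))
theorem Q1799 : ∀ i, i < 1799 → P i := stepQ 1798 Q1798 (allL N1798 (tt N2670 (iv F8415)) (tt N1191 F5790) (tt N2666 (iv F8407)) (tt N1637 (iv F5791)) (tt N1190 (iv D1861)) (tt N2673 D2736) (tt N1629 (iv F5792)) (tt N2511 (iv F7937)))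
theorem Q1800 : ∀ i, i < 1800 → P i := stepQ 1799 Q1799 (allL N1799 (tt N2671 (iv F8419)) (tt N1196 F5793) (tt N2667 (iv F8409)) (tt N1799 F5794) (tt N2673 (iv F8427)) (tt N1190 (iv D1862)) (tt N2674 D2737) (tt N2512 (iv F7939)))
theorem Q1801 : ∀ i, i < 1801 → P i := stepQ 1800 Q1800 (allL N1800 (tt N2672 (iv F8421)) (tt N1192 F5795) (tt N2668 (iv F8411)) (tt N1800 F5796) (tt N1629 F5797) (tt N2675 D2738) (tt N1190 (iv D1863)) (tt N2676 D2739))
theorem Q1802 : ∀ i, i < 1802 → P i := stepQ 1801 Q1801 (allL N1801 (tt N1378 F5798) (tt N2676 (iv F8433)) (tt N1193 F5799) (tt N2677 D2740) (tt N1577 F5800) (tt N1801 F5801) (tt N2516 (iv F7954)) (tt N1192 (iv D1864)))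
theorem Q1803 : ∀ i, i < 1803 → P i := stepQ 1802 Q1802 (allL N1802 (tt N1195 F5802) (tt N1379 F5803) (tt N2638 (iv F8321)) (tt N2678 D2741) (tt N1194 (iv D1865)) (tt N2679 D2742) (tt N1802 F5804) (tt N2517 (iv F7958)))
theorem Q1804 : ∀ i, i < 1804 → P i := stepQ 1803 Q1803 (allL N1803 (tt N1196 F5805) (tt N2680 D2743) (tt N2639 (iv F8325)) (tt N1803 F5806) (tt N2679 (iv F8446)) (tt N1194 (iv D1866)) (tt N2681 D2744) (tt N2518 (iv F7960)))
theorem Q1805 : ∀ i, i < 1805 → P i := stepQ 1804 Q1804 (allL N1804 (tt N2678 (iv F8440)) (tt N1197 F5807) (tt N1804 F5808) (tt N1195 (iv D1867)) (tt N1804 F5809) (tt N2682 D2745) (tt N1804 F5810) (tt N2683 D2746))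
theorem Q1806 : ∀ i, i < 1806 → P i := stepQ 1805 Q1805 (allL N1805 (tt N2679 (iv F8445)) (tt N2673 (iv F8425)) (tt N2640 (iv F8326)) (tt N2682 (iv F8454)) (tt N1196 F5811) (tt N1195 (iv D1868)) (tt N2684 D2747) (tt N2520 (iv F7964)))
theorem Q1807 : ∀ i, i < 1807 → P i := stepQ 1806 Q1806 (allL N1806 (tt N2681 (iv F8449)) (tt N2674 (iv F8428)) (tt N2641 (iv F8329)) (tt N1806 F5812) (tt N2684 (iv F8459)) (tt N1806 F5813) (tt N1196 (iv D1869)) (tt N2685 D2748))
theorem Q1808 : ∀ i, i < 1808 → P i := stepQ 1807 Q1807 (allL N1807 (tt N1384 F5814) (tt N2683 (iv F8456)) (tt N1242 F5815) (tt N2522 (iv F7968)) (tt N1807 F5816) (tt N1638 F5817) (tt N2686 D2749) (tt N1197 (iv D1870)))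
theorem Q1809 : ∀ i, i < 1809 → P i := stepQ 1808 Q1808 (allL N1808 (tt N1808 F5818) (tt N2523 (iv F7970)) (tt N1198 (iv D1871)) (tt N1385 F5819) (tt N2687 D2750) (tt N2688 D2751) (tt N2642 (iv F8335)) (tt N2689 D2752))
theorem Q1810 : ∀ i, i < 1810 → P i := stepQ 1809 Q1809 (allL N1809 (tt N1809 F5820) (tt N1201 F5821) (tt N2687 (iv F8468)) (tt N1244 F5822) (tt N1198 (iv D1872)) (tt N2690 D2753) (tt N1387 F5823) (tt N2691 D2754))
theorem Q1811 : ∀ i, i < 1811 → P i := stepQ 1810 Q1810 (allL N1810 (tt N1810 F5824) (tt N1810 F5825) (tt N2688 (iv F8471)) (tt N1199 F5826) (tt N2690 (iv F8478)) (tt N1198 (iv D1873)) (tt N2692 D2755) (tt N2693 D2756))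
theorem Q1812 : ∀ i, i < 1812 → P i := stepQ 1811 Q1811 (allL N1811 (tt N1811 F5827) (tt N1202 F5828) (tt N2689 (iv F8474)) (tt N2694 D2757) (tt N2691 (iv F8483)) (tt N2693 (iv F8491)) (tt N2695 D2758) (tt N1198 (iv D1874)))
theorem Q1813 : ∀ i, i < 1813 → P i := stepQ 1812 Q1812 (allL N1812 (tt N1812 F5829) (tt N1812 F5830) (tt N1244 F5831) (tt N2692 (iv F8486)) (tt N1243 F5832) (tt N1434 F5833) (tt N1199 (iv D1875)) (tt N1812 F5834))
theorem Q1814 : ∀ i, i < 1814 → P i := stepQ 1813 Q1813 (allL N1813 (tt N1813 F5835) (tt N1813 F5836) (tt N1389 F5837) (tt N2696 D2759) (tt N1246 F5838) (tt N1200 F5839) (tt N1813 F5840) (tt N1199 (iv D1876)))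
theorem Q1815 : ∀ i, i < 1815 → P i := stepQ 1814 Q1814 (allL N1814 (tt N1814 F5841) (tt N1203 F5842) (tt N2697 D2760) (tt N1200 (iv D1877)) (tt N1814 F5843) (tt N2696 (iv F8501)) (tt N2698 D2761) (tt N2694 (iv F8495)))
theorem Q1816 : ∀ i, i < 1816 → P i := stepQ 1815 Q1815 (allL N1815 (tt N1815 F5844) (tt N1204 F5845) (tt N1391 F5846) (tt N2698 (iv F8508)) (tt N1247 F5847) (tt N1815 F5848) (tt N1200 (iv D1878)) (tt N2645 (iv F8348)))
theorem Q1817 : ∀ i, i < 1817 → P i := stepQ 1816 Q1816 (allL N1816 (tt N1209 F5849) (tt N2691 (iv F8481)) (tt N2531 (iv F7990)) (tt N1816 F5850) (tt N1202 F5851) (tt N1816 F5852) (tt N2699 D2762) (tt N1201 (iv D1879)))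
theorem Q1818 : ∀ i, i < 1818 → P i := stepQ 1817 Q1817 (allL N1817 (tt N1210 F5853) (tt N2694 (iv F8493)) (tt N2700 D2763) (tt N1202 (iv D1880)) (tt N1817 F5854) (tt N1817 F5855) (tt N2701 D2764) (tt N1203 F5856))
theorem Q1819 : ∀ i, i < 1819 → P i := stepQ 1818 Q1818 (allL N1818 (tt N1211 F5857) (tt N2695 (iv F8497)) (tt N2533 (iv F7997)) (tt N2701 (iv F8520)) (tt N2699 (iv F8513)) (tt N2702 D2765) (tt N1202 (iv D1881)) (tt N2647 (iv F8354)))
theorem Q1820 : ∀ i, i < 1820 → P i := stepQ 1819 Q1819 (allL N1819 (tt N1212 F5858) (tt N2703 D2766) (tt N1203 (iv D1882)) (tt N1205 F5859) (tt N1819 F5860) (tt N1819 F5861) (tt N2704 D2767) (tt N2700 (iv F8518)))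
theorem Q1821 : ∀ i, i < 1821 → P i := stepQ 1820 Q1820 (allL N1820 (tt N1213 F5862) (tt N2698 (iv F8507)) (tt N2704 (iv F8527)) (tt N1204 F5863) (tt N1820 F5864) (tt N2705 D2768) (tt N1203 (iv D1883)) (tt N2706 D2769))
theorem Q1822 : ∀ i, i < 1822 → P i := stepQ 1821 Q1821 (allL N1821 (tt N1214 F5865) (tt N1821 F5866) (tt N1208 F5867) (tt N2705 (iv F8532)) (tt N1248 F5868) (tt N1204 (iv D1884)) (tt N1821 F5869) (tt N2651 (iv F8368)))
theorem Q1823 : ∀ i, i < 1823 → P i := stepQ 1822 Q1822 (allL N1822 (tt N2707 D2770) (tt N1205 (iv D1885)) (tt N1398 F5870) (tt N2703 (iv F8524)) (tt N2708 D2771) (tt N2709 D2772) (tt N2710 D2773) (tt N2538 (iv F8011)))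
theorem Q1824 : ∀ i, i < 1824 → P i := stepQ 1823 Q1823 (allL N1823 (tt N1216 F5871) (tt N2708 (iv F8539)) (tt N1206 F5872) (tt N1823 F5873) (tt N1205 (iv D1886)) (tt N1823 F5874) (tt N1511 (iv F5875)) (tt N2539 (iv F8015)))
theorem Q1825 : ∀ i, i < 1825 → P i := stepQ 1824 Q1824 (allL N1824 (tt N1217 F5876) (tt N2710 (iv F8545)) (tt N1207 F5877) (tt N2704 (iv F8528)) (tt N1511 F5878) (tt N2711 D2774) (tt N1205 (iv D1887)) (tt N2712 D2775))
theorem Q1826 : ∀ i, i < 1826 → P i := stepQ 1825 Q1825 (allL N1825 (tt N1218 F5879) (tt N2713 D2776) (tt N2711 (iv F8549)) (tt N1208 F5880) (tt N1510 F5881) (tt N1207 (iv D1888)) (tt N1825 F5882) (tt N2714 D2777))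
theorem Q1827 : ∀ i, i < 1827 → P i := stepQ 1826 Q1826 (allL N1826 (tt N1219 F5883) (tt N1401 F5884) (tt N2712 (iv F8553)) (tt N2655 (iv F8378)) (tt N1508 F5885) (tt N2714 (iv F8562)) (tt N2543 (iv F8029)) (tt N1207 (iv D1889)))
theorem Q1828 : ∀ i, i < 1828 → P i := stepQ 1827 Q1827 (allL N1827 (tt N1827 F5886) (tt N1208 (iv D1890)) (tt N1827 F5887) (tt N2713 (iv F8556)) (tt N1249 F5888) (tt N1402 F5889) (tt N1827 F5890) (tt N2656 (iv F8384)))
theorem Q1829 : ∀ i, i < 1829 → P i := stepQ 1828 Q1828 (allL N1828 (tt N2699 (iv F8511)) (tt N1828 F5891) (tt N2546 (iv F8036)) (tt N1828 F5892) (tt N1211 F5893) (tt N2715 D2778) (tt N1209 (iv D1891)) (tt N1571 F5894))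
theorem Q1830 : ∀ i, i < 1830 → P i := stepQ 1829 Q1829 (allL N1829 (tt N2700 (iv F8515)) (tt N2716 D2779) (tt N1210 (iv D1892)) (tt N2547 (iv F8039)) (tt N1829 F5895) (tt N1829 F5896) (tt N2717 D2780) (tt N1212 F5897))
theorem Q1831 : ∀ i, i < 1831 → P i := stepQ 1830 Q1830 (allL N1830 (tt N2701 (iv F8519)) (tt N1830 F5898) (tt N2717 (iv F8570)) (tt N1211 F5899) (tt N1830 F5900) (tt N2718 D2781) (tt N1210 (iv D1893)) (tt N2719 D2782))
theorem Q1832 : ∀ i, i < 1832 → P i := stepQ 1831 Q1831 (allL N1831 (tt N2702 (iv F8522)) (tt N2720 D2783) (tt N2550 (iv F8045)) (tt N2718 (iv F8572)) (tt N2715 (iv F8564)) (tt N1211 (iv D1894)) (tt N1831 F5901) (tt N2660 (iv F8395)))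
theorem Q1833 : ∀ i, i < 1833 → P i := stepQ 1832 Q1832 (allL N1832 (tt N2721 D2784) (tt N1212 (iv D1895)) (tt N1832 F5902) (tt N1215 F5903) (tt N1832 F5904) (tt N2722 D2785) (tt N2723 D2786) (tt N2716 (iv F8569)))
theorem Q1834 : ∀ i, i < 1834 → P i := stepQ 1833 Q1833 (allL N1833 (tt N2704 (iv F8526)) (tt N2723 (iv F8587)) (tt N1213 F5905) (tt N1217 F5906) (tt N1833 F5907) (tt N2417 (iv F7645)) (tt N1212 (iv D1896)) (tt N2416 F7641))
theorem Q1835 : ∀ i, i < 1835 → P i := stepQ 1834 Q1834 (allL N1834 (tt N2705 (iv F8530)) (tt N2412 F7628) (tt N2417 (iv F7643)) (tt N1214 F5908) (tt N1834 F5909) (tt N1213 (iv D1897)) (tt N1834 F5910) (tt N2411 (iv F7629)))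
theorem Q1836 : ∀ i, i < 1836 → P i := stepQ 1835 Q1835 (allL N1835 (tt N2706 (iv F8535)) (tt N1835 F5911) (tt N2416 (iv F7639)) (tt N2664 (iv F8403)) (tt N1835 F5912) (tt N2411 F7630) (tt N2719 (iv F8577)) (tt N1213 (iv D1898)))
theorem Q1837 : ∀ i, i < 1837 → P i := stepQ 1836 Q1836 (allL N1836 (tt N1836 F5913) (tt N1214 (iv D1899)) (tt N1836 F5914) (tt N2412 (iv F7624)) (tt N1237 F5915) (tt N1836 F5916) (tt N1836 F5917) (tt N1236 F5918))
theorem Q1838 : ∀ i, i < 1838 → P i := stepQ 1837 Q1837 (allL N1837 (tt N1215 (iv D1900)) (tt N2707 (iv F8537)) (tt N1220 F5919) (tt N2721 (iv F8581)) (tt N2724 D2787) (tt N2725 D2788) (tt N2726 D2789) (tt N2558 (iv F8059)))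
theorem Q1839 : ∀ i, i < 1839 → P i := stepQ 1838 Q1838 (allL N1838 (tt N2724 (iv F8593)) (tt N1216 F5920) (tt N1221 F5921) (tt N1838 F5922) (tt N1215 (iv D1901)) (tt N2727 D2790) (tt N1576 (iv F5923)) (tt N2559 (iv F8062)))
theorem Q1840 : ∀ i, i < 1840 → P i := stepQ 1839 Q1839 (allL N1839 (tt N2725 (iv F8597)) (tt N1839 F5924) (tt N1222 F5925) (tt N2722 (iv F8585)) (tt N2727 (iv F8605)) (tt N1215 (iv D1902)) (tt N2728 D2791) (tt N2560 (iv F8065)))
theorem Q1841 : ∀ i, i < 1841 → P i := stepQ 1840 Q1840 (allL N1840 (tt N2726 (iv F8599)) (tt N1217 F5926) (tt N1223 F5927) (tt N2723 (iv F8589)) (tt N1576 F5928) (tt N2729 D2792) (tt N1215 (iv D1903)) (tt N2730 D2793))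
theorem Q1842 : ∀ i, i < 1842 → P i := stepQ 1841 Q1841 (allL N1841 (tt N2711 (iv F8548)) (tt N2418 (iv F7649)) (tt N1218 F5929) (tt N2417 F7647) (tt N1575 F5930) (tt N1217 (iv D1904)) (tt N1841 F5931) (tt N2731 D2794))
theorem Q1843 : ∀ i, i < 1843 → P i := stepQ 1842 Q1842 (allL N1842 (tt N2712 (iv F8552)) (tt N2730 (iv F8613)) (tt N1219 F5932) (tt N2732 D2795) (tt N1572 F5933) (tt N2731 (iv F8622)) (tt N2565 (iv F8078)) (tt N1217 (iv D1905)))
theorem Q1844 : ∀ i, i < 1844 → P i := stepQ 1843 Q1843 (allL N1843 (tt N2714 (iv F8560)) (tt N1843 F5934) (tt N2731 (iv F8619)) (tt N2658 (iv F8388)) (tt N1570 F5935) (tt N1219 F5936) (tt N2733 D2796) (tt N1218 (iv D1906)))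
theorem Q1845 : ∀ i, i < 1845 → P i := stepQ 1844 Q1844 (allL N1844 (tt N1221 F5937) (tt N1417 F5938) (tt N2724 (iv F8594)) (tt N1587 (iv F5939)) (tt N1220 (iv D1907)) (tt N2734 D2797) (tt N1584 (iv F5940)) (tt N2571 (iv F8098)))
theorem Q1846 : ∀ i, i < 1846 → P i := stepQ 1845 Q1845 (allL N1845 (tt N1222 F5941) (tt N2735 D2798) (tt N2725 (iv F8598)) (tt N1845 F5942) (tt N2734 (iv F8632)) (tt N1220 (iv D1908)) (tt N2736 D2799) (tt N2572 (iv F8100)))
theorem Q1847 : ∀ i, i < 1847 → P i := stepQ 1846 Q1846 (allL N1846 (tt N1223 F5943) (tt N1419 F5944) (tt N2726 (iv F8600)) (tt N1846 F5945) (tt N1584 F5946) (tt N2737 D2800) (tt N1220 (iv D1909)) (tt N2738 D2801))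
theorem Q1848 : ∀ i, i < 1848 → P i := stepQ 1847 Q1847 (allL N1847 (tt N2734 (iv F8630)) (tt N1228 F5947) (tt N2727 (iv F8603)) (tt N1589 F5948) (tt N1222 F5949) (tt N1221 (iv D1910)) (tt N2739 D2802) (tt N2575 (iv F8107)))
theorem Q1849 : ∀ i, i < 1849 → P i := stepQ 1848 Q1848 (allL N1848 (tt N2736 (iv F8636)) (tt N1229 F5950) (tt N2728 (iv F8607)) (tt N1848 F5951) (tt N2739 (iv F8647)) (tt N2740 D2803) (tt N1222 (iv D1911)) (tt N2741 D2804))
theorem Q1850 : ∀ i, i < 1850 → P i := stepQ 1849 Q1849 (allL N1849 (tt N2737 (iv F8638)) (tt N1849 F5952) (tt N2729 (iv F8609)) (tt N1849 F5953) (tt N1585 F5954) (tt N1223 (iv D1912)) (tt N2740 (iv F8652)) (tt N2742 D2805))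
theorem Q1851 : ∀ i, i < 1851 → P i := stepQ 1850 Q1850 (allL N1850 (tt N2738 (iv F8641)) (tt N1224 F5955) (tt N2730 (iv F8614)) (tt N2743 D2806) (tt N1580 F5956) (tt N2742 (iv F8657)) (tt N2579 (iv F8114)) (tt N1223 (iv D1913)))
theorem Q1852 : ∀ i, i < 1852 → P i := stepQ 1851 Q1851 (allL N1851 (tt N1424 F5957) (tt N2743 (iv F8671)) (tt N2677 (iv F8436)) (tt N1224 (iv D1914)) (tt N1851 F5958) (tt N1851 F5959) (tt N2584 (iv F8133)) (tt N1851 F5960))
theorem Q1853 : ∀ i, i < 1853 → P i := stepQ 1852 Q1852 (allL N1852 (tt N1227 F5961) (tt N1425 F5962) (tt N2744 D2807) (tt N1225 (iv D1915)) (tt N1852 F5963) (tt N2745 D2808) (tt N1852 F5964) (tt N2746 D2809))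
theorem Q1854 : ∀ i, i < 1854 → P i := stepQ 1853 Q1853 (allL N1853 (tt N1228 F5965) (tt N2747 D2810) (tt N1853 F5966) (tt N2745 (iv F8683)) (tt N1226 F5967) (tt N1225 (iv D1916)) (tt N2748 D2811) (tt N2592 (iv F8157)))
theorem Q1855 : ∀ i, i < 1855 → P i := stepQ 1854 Q1854 (allL N1854 (tt N2735 (iv F8633)) (tt N1226 (iv D1917)) (tt N2749 D2812) (tt N1854 F5968) (tt N2747 (iv F8688)) (tt N1427 F5969) (tt N2750 D2813) (tt N2593 (iv F8159)))
theorem Q1856 : ∀ i, i < 1856 → P i := stepQ 1855 Q1855 (allL N1855 (tt N1229 F5970) (tt N2750 (iv F8696)) (tt N1855 F5971) (tt N1855 F5972) (tt N2748 (iv F8692)) (tt N1855 F5973) (tt N1226 (iv D1918)) (tt N2751 D2814))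
theorem Q1857 : ∀ i, i < 1857 → P i := stepQ 1856 Q1856 (allL N1856 (tt N2744 (iv F8677)) (tt N1250 F5974) (tt N1227 (iv D1919)) (tt N1856 F5975) (tt N1856 F5976) (tt N2752 D2815) (tt N1856 F5977) (tt N2753 D2816))
theorem Q1858 : ∀ i, i < 1858 → P i := stepQ 1857 Q1857 (allL N1857 (tt N2745 (iv F8682)) (tt N1589 F5978) (tt N2752 (iv F8702)) (tt N1228 F5979) (tt N1857 F5980) (tt N1227 (iv D1920)) (tt N2754 D2817) (tt N2755 D2818))
theorem Q1859 : ∀ i, i < 1859 → P i := stepQ 1858 Q1858 (allL N1858 (tt N2746 (iv F8685)) (tt N1230 F5981) (tt N2753 (iv F8706)) (tt N2599 (iv F8177)) (tt N1858 F5982) (tt N2755 (iv F8714)) (tt N2756 D2819) (tt N1227 (iv D1921)))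
theorem Q1860 : ∀ i, i < 1860 → P i := stepQ 1859 Q1859 (allL N1859 (tt N2748 (iv F8690)) (tt N2739 (iv F8645)) (tt N1859 F5983) (tt N2754 (iv F8709)) (tt N1229 F5984) (tt N1859 F5985) (tt N1228 (iv D1922)) (tt N2757 D2820))
theorem Q1861 : ∀ i, i < 1861 → P i := stepQ 1860 Q1860 (allL N1860 (tt N2751 (iv F8698)) (tt N2741 (iv F8653)) (tt N1860 F5986) (tt N2758 D2821) (tt N2757 (iv F8719)) (tt N1860 F5987) (tt N2603 (iv F8187)) (tt N1229 (iv D1923)))
theorem Q1862 : ∀ i, i < 1862 → P i := stepQ 1861 Q1861 (allL N1861 (tt N1433 F5988) (tt N2756 (iv F8715)) (tt N1252 F5989) (tt N2607 (iv F8213)) (tt N1861 F5990) (tt N1861 F5991) (tt N1230 (iv D1924)) (tt N1861 F5992))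
theorem Q1863 : ∀ i, i < 1863 → P i := stepQ 1862 Q1862 (allL N1862 (tt N1233 F5993) (tt N2759 D2822) (tt N1231 (iv D1925)) (tt N1240 F5994) (tt N2627 (iv F8288)) (tt N1232 F5995) (tt N1239 F5997) (tt N1862 F5996))
theorem Q1864 : ∀ i, i < 1864 → P i := stepQ 1863 Q1863 (allL N1863 (tt N1234 F5998) (tt N1863 F5999) (tt N2627 (iv F8287)) (tt N2625 (iv F8281)) (tt N1231 (iv D1926)) (tt N1241 F6000) (tt N2651 (iv F8367)) (tt N1863 F6001))
theorem Q1865 : ∀ i, i < 1865 → P i := stepQ 1864 Q1864 (allL N1864 (tt N1235 F6002) (tt N1864 F6003) (tt N1239 F6004) (tt N1232 F6005) (tt N2651 (iv F8366)) (tt N1240 F6006) (tt N1231 (iv D1927)) (tt N1248 (iv F6007)))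
theorem Q1866 : ∀ i, i < 1866 → P i := stepQ 1865 Q1865 (allL N1865 (tt N1865 F6008) (tt N1239 F6009) (tt N1865 F6010) (tt N1238 (iv D1928)) (tt N2656 (iv F8382)) (tt N1437 F6011) (tt N2759 (iv F8727)) (tt N1249 F6012))
theorem Q1867 : ∀ i, i < 1867 → P i := stepQ 1866 Q1866 (allL N1866 (tt N1866 F6013) (tt N1240 F6014) (tt N1436 F6015) (tt N2759 (iv F8725)) (tt N2645 (iv F8346)) (tt N1866 F6016) (tt N1238 (iv D1929)) (tt N1247 F6017))
theorem Q1868 : ∀ i, i < 1868 → P i := stepQ 1867 Q1867 (allL N1867 (tt N1440 F6018) (tt N1867 F6019) (tt N2686 (iv F8463)) (tt N1867 F6020) (tt N1867 F6021) (tt N1867 F6022) (tt N1242 (iv D1930)) (tt N1867 F6023))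
theorem Q1869 : ∀ i, i < 1869 → P i := stepQ 1868 Q1868 (allL N1868 (tt N1868 F6024) (tt N1868 F6025) (tt N1434 F6026) (tt N2690 (iv F8477)) (tt N1245 F6027) (tt N1244 (iv D1931)) (tt N1355 F6028) (tt N1868 F6029))
theorem Q1870 : ∀ i, i < 1870 → P i := stepQ 1869 Q1869 (allL N1869 (tt N1869 F6030) (tt N2753 (iv F8705)) (tt N1251 F6031) (tt N2760 D2823) (tt N1869 F6032) (tt N1869 F6033) (tt N2761 D2824) (tt N1250 (iv D1932)))
theorem Q1871 : ∀ i, i < 1871 → P i := stepQ 1870 Q1870 (allL N1870 (tt N1870 F6034) (tt N1252 F6035) (tt N2761 (iv F8734)) (tt N1870 F6036) (tt N1870 F6037) (tt N2762 D2825) (tt N1251 (iv D1933)) (tt N1870 F6038))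
theorem Q1872 : ∀ i, i < 1872 → P i := stepQ 1871 Q1871 (allL N1871 (tt N1297 F6039) (tt N1254 F6040) (tt N2763 D2826) (tt N1253 (iv D1934)) (tt N2764 D2827) (tt N2765 D2828) (tt N2030 (iv F6471)) (tt N2766 D2829))
theorem Q1873 : ∀ i, i < 1873 → P i := stepQ 1872 Q1872 (allL N1872 (tt N1298 F6041) (tt N1872 F6042) (tt N2441 (iv F7734)) (tt N2765 (iv F8750)) (tt N1872 F6043) (tt N1253 (iv D1935)) (tt N2767 D2830) (tt N2768 D2831))
theorem Q1874 : ∀ i, i < 1874 → P i := stepQ 1873 Q1873 (allL N1873 (tt N1299 F6044) (tt N1255 F6045) (tt N2442 (iv F7738)) (tt N2769 D2832) (tt N1873 F6046) (tt N2768 (iv F8759)) (tt N2770 D2833) (tt N1253 (iv D1936)))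
theorem Q1875 : ∀ i, i < 1875 → P i := stepQ 1874 Q1874 (allL N1874 (tt N1258 F6047) (tt N2764 (iv F8746)) (tt N1874 F6048) (tt N1874 F6049) (tt N1254 (iv D1937)) (tt N1874 F6050) (tt N2032 (iv F6479)) (tt N2771 D2834))
theorem Q1876 : ∀ i, i < 1876 → P i := stepQ 1875 Q1875 (allL N1875 (tt N1259 F6051) (tt N2766 (iv F8752)) (tt N1875 F6052) (tt N2772 D2835) (tt N2771 (iv F8767)) (tt N1875 F6053) (tt N2773 D2836) (tt N1254 (iv D1938)))
theorem Q1877 : ∀ i, i < 1877 → P i := stepQ 1876 Q1876 (allL N1876 (tt N1260 F6054) (tt N2769 (iv F8761)) (tt N2774 D2837) (tt N1255 (iv D1939)) (tt N2775 D2838) (tt N1876 F6055) (tt N2776 D2839) (tt N2772 (iv F8771)))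
theorem Q1878 : ∀ i, i < 1878 → P i := stepQ 1877 Q1877 (allL N1877 (tt N1261 F6056) (tt N2770 (iv F8763)) (tt N1257 F6057) (tt N2776 (iv F8784)) (tt N1877 F6058) (tt N2777 D2840) (tt N1255 (iv D1940)) (tt N2005 (iv F6404)))
theorem Q1879 : ∀ i, i < 1879 → P i := stepQ 1878 Q1878 (allL N1878 (tt N1262 F6059) (tt N2778 D2841) (tt N1256 (iv D1941)) (tt N2774 (iv F8775)) (tt N2779 D2842) (tt N1878 F6060) (tt N2780 D2843) (tt N1878 F6061))
theorem Q1880 : ∀ i, i < 1880 → P i := stepQ 1879 Q1879 (allL N1879 (tt N1263 F6062) (tt N2448 (iv F7753)) (tt N2779 (iv F8791)) (tt N1879 F6063) (tt N1256 (iv D1942)) (tt N1879 F6064) (tt N2781 D2844) (tt N1879 F6065))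
theorem Q1881 : ∀ i, i < 1881 → P i := stepQ 1880 Q1880 (allL N1880 (tt N1264 F6066) (tt N2449 (iv F7758)) (tt N2780 (iv F8796)) (tt N1257 F6067) (tt N2781 (iv F8799)) (tt N2782 D2845) (tt N1256 (iv D1943)) (tt N2783 D2846))
theorem Q1882 : ∀ i, i < 1882 → P i := stepQ 1881 Q1881 (allL N1881 (tt N1265 F6068) (tt N2784 D2847) (tt N2777 (iv F8786)) (tt N2782 (iv F8801)) (tt N1881 F6069) (tt N1257 (iv D1944)) (tt N1881 F6070) (tt N1989 (iv F6362)))
theorem Q1883 : ∀ i, i < 1883 → P i := stepQ 1882 Q1882 (allL N1882 (tt N2771 (iv F8765)) (tt N1308 F6071) (tt N1882 F6072) (tt N1890 (iv F6096)) (tt N1259 F6073) (tt N1882 F6074) (tt N2785 D2848) (tt N1258 (iv D1945)))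
theorem Q1884 : ∀ i, i < 1884 → P i := stepQ 1883 Q1883 (allL N1883 (tt N2772 (iv F8769)) (tt N1309 F6075) (tt N1886 F6085) (tt N1259 (iv D1946)) (tt N1885 (iv F6086)) (tt N1883 F6076) (tt N2786 D2849) (tt N1260 F6077))
theorem Q1885 : ∀ i, i < 1885 → P i := stepQ 1884 Q1884 (allL N1884 (tt N2773 (iv F8772)) (tt N1310 F6078) (tt N1884 F6079) (tt N2786 (iv F8811)) (tt N2785 (iv F8809)) (tt N2787 D2850) (tt N1259 (iv D1947)) (tt N2035 (iv F6489)))
theorem Q1886 : ∀ i, i < 1886 → P i := stepQ 1885 Q1885 (allL N1885 (tt N2774 (iv F8774)) (tt N1970 (iv F6308)) (tt N1260 (iv D1948)) (tt N1262 F6080) (tt N1883 F6086) (tt N1885 F6081) (tt N2788 D2851) (tt N1886 (iv F6087)))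
theorem Q1887 : ∀ i, i < 1887 → P i := stepQ 1886 Q1886 (allL N1886 (tt N2775 (iv F8778)) (tt N1312 F6082) (tt N1883 (iv F6085)) (tt N1886 F6083) (tt N1260 (iv D1949)) (tt N1886 F6084) (tt N2789 D2852) (tt N1885 F6087))
theorem Q1888 : ∀ i, i < 1888 → P i := stepQ 1887 Q1887 (allL N1887 (tt N2776 (iv F8783)) (tt N1313 F6088) (tt N2788 (iv F8814)) (tt N1261 F6089) (tt N2789 (iv F8820)) (tt N2790 D2853) (tt N1260 (iv D1950)) (tt N2791 D2854))
theorem Q1889 : ∀ i, i < 1889 → P i := stepQ 1888 Q1888 (allL N1888 (tt N2777 (iv F8785)) (tt N2792 D2855) (tt N1265 F6090) (tt N2790 (iv F8823)) (tt N1888 F6091) (tt N1261 (iv D1951)) (tt N1888 F6092) (tt N1990 (iv F6366)))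
theorem Q1890 : ∀ i, i < 1890 → P i := stepQ 1889 Q1889 (allL N1889 (tt N2793 D2856) (tt N1262 (iv D1952)) (tt N1266 F6093) (tt N1970 (iv F6309)) (tt N1967 F6302) (tt N2184 (iv F6958)) (tt N2794 D2857) (tt N1889 F6094))
theorem Q1891 : ∀ i, i < 1891 → P i := stepQ 1890 Q1890 (allL N1890 (tt N2779 (iv F8790)) (tt N1967 (iv F6298)) (tt N1263 F6095) (tt N1882 F6096) (tt N1262 (iv D1953)) (tt N1890 F6097) (tt N2795 D2858) (tt N1890 F6098))
theorem Q1892 : ∀ i, i < 1892 → P i := stepQ 1891 Q1891 (allL N1891 (tt N2780 (iv F8795)) (tt N2794 (iv F8841)) (tt N1264 F6099) (tt N2788 (iv F8815)) (tt N2795 (iv F8845)) (tt N2796 D2859) (tt N1262 (iv D1954)) (tt N2797 D2860))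
theorem Q1893 : ∀ i, i < 1893 → P i := stepQ 1892 Q1892 (allL N1892 (tt N2781 (iv F8797)) (tt N1269 F6100) (tt N2795 (iv F8843)) (tt N1892 F6101) (tt N1264 F6102) (tt N2798 D2861) (tt N1263 (iv D1955)) (tt N2362 (iv F7468)))
theorem Q1894 : ∀ i, i < 1894 → P i := stepQ 1893 Q1893 (allL N1893 (tt N2782 (iv F8800)) (tt N1930 (iv F6201)) (tt N2796 (iv F8846)) (tt N1265 F6103) (tt N2798 (iv F8851)) (tt N1264 (iv D1956)) (tt N1893 F6104) (tt N2799 D2862))
theorem Q1895 : ∀ i, i < 1895 → P i := stepQ 1894 Q1894 (allL N1894 (tt N2783 (iv F8803)) (tt N1270 F6105) (tt N2797 (iv F8848)) (tt N2004 (iv F6398)) (tt N2362 (iv F7466)) (tt N2799 (iv F8854)) (tt N1894 F6106) (tt N1264 (iv D1957)))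
theorem Q1896 : ∀ i, i < 1896 → P i := stepQ 1895 Q1895 (allL N1895 (tt N1266 (iv D1958)) (tt N2463 (iv F7785)) (tt N2793 (iv F8839)) (tt N1322 F6107) (tt N2800 D2863) (tt N2801 D2864) (tt N2802 D2865) (tt N1895 F6108))
theorem Q1897 : ∀ i, i < 1897 → P i := stepQ 1896 Q1896 (allL N1896 (tt N2800 (iv F8856)) (tt N1267 F6109) (tt N1967 F6301) (tt N2105 (iv F6705)) (tt N1266 (iv D1959)) (tt N2183 (iv F6951)) (tt N2803 D2866) (tt N1896 F6110))
theorem Q1898 : ∀ i, i < 1898 → P i := stepQ 1897 Q1897 (allL N1897 (tt N2801 (iv F8858)) (tt N1273 F6111) (tt N2184 (iv F6956)) (tt N1324 F6112) (tt N2183 F6954) (tt N1266 (iv D1960)) (tt N2804 D2867) (tt N1897 F6113))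
theorem Q1899 : ∀ i, i < 1899 → P i := stepQ 1898 Q1898 (allL N1898 (tt N2802 (iv F8861)) (tt N1268 F6114) (tt N2794 (iv F8842)) (tt N1325 F6115) (tt N2803 (iv F8864)) (tt N2805 D2868) (tt N1266 (iv D1961)) (tt N2806 D2869))
theorem Q1900 : ∀ i, i < 1900 → P i := stepQ 1899 Q1899 (allL N1899 (tt N2467 (iv F7798)) (tt N2105 F6709) (tt N1899 F6116) (tt N1267 (iv D1962)) (tt N1326 F6117) (tt N1274 F6118) (tt N2807 D2870) (tt N1612 F6119))
theorem Q1901 : ∀ i, i < 1901 → P i := stepQ 1900 Q1900 (allL N1900 (tt N2468 (iv F7803)) (tt N2803 (iv F8863)) (tt N1269 F6120) (tt N2807 (iv F8874)) (tt N1268 F6121) (tt N1937 (iv F6219)) (tt N1267 (iv D1963)) (tt N2361 (iv F7464)))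
theorem Q1902 : ∀ i, i < 1902 → P i := stepQ 1901 Q1901 (allL N1901 (tt N2469 (iv F7806)) (tt N2806 (iv F8869)) (tt N1270 F6122) (tt N2808 D2871) (tt N2361 (iv F7462)) (tt N1938 (iv F6223)) (tt N1901 F6123) (tt N1268 (iv D1964)))
theorem Q1903 : ∀ i, i < 1903 → P i := stepQ 1902 Q1902 (allL N1902 (tt N1272 F6124) (tt N2470 (iv F7810)) (tt N1902 F6125) (tt N2809 D2872) (tt N1271 (iv D1965)) (tt N2810 D2873) (tt N1939 (iv F6227)) (tt N1902 F6126))
theorem Q1904 : ∀ i, i < 1904 → P i := stepQ 1903 Q1903 (allL N1903 (tt N1273 F6127) (tt N2811 D2874) (tt N1903 F6128) (tt N1336 F6129) (tt N2810 (iv F8886)) (tt N1271 (iv D1966)) (tt N2812 D2875) (tt N1903 F6130))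
theorem Q1905 : ∀ i, i < 1905 → P i := stepQ 1904 Q1904 (allL N1904 (tt N2809 (iv F8882)) (tt N1274 F6131) (tt N2204 (iv F7033)) (tt N1272 (iv D1967)) (tt N1338 F6132) (tt N2269 (iv F7215)) (tt N1941 (iv F6234)) (tt N2313 (iv F7339)))
theorem Q1906 : ∀ i, i < 1906 → P i := stepQ 1905 Q1905 (allL N1905 (tt N2810 (iv F8884)) (tt N2183 F6953) (tt N1905 F6133) (tt N2269 (iv F7213)) (tt N1273 F6134) (tt N1272 (iv D1968)) (tt N2813 D2876) (tt N1905 F6135))
theorem Q1907 : ∀ i, i < 1907 → P i := stepQ 1906 Q1906 (allL N1906 (tt N2812 (iv F8890)) (tt N2804 (iv F8865)) (tt N1906 F6136) (tt N1340 F6137) (tt N2813 (iv F8894)) (tt N1943 (iv F6240)) (tt N1273 (iv D1969)) (tt N2814 D2877))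
theorem Q1908 : ∀ i, i < 1908 → P i := stepQ 1907 Q1907 (allL N1907 (tt N2474 (iv F7826)) (tt N2313 (iv F7335)) (tt N1907 F6138) (tt N1907 F6139) (tt N1343 F6140) (tt N1612 F6141) (tt N2815 D2878) (tt N1274 (iv D1970)))
theorem Q1909 : ∀ i, i < 1909 → P i := stepQ 1908 Q1908 (allL N1908 (tt N2030 (iv F6469)) (tt N1276 F6142) (tt N2816 D2879) (tt N1275 (iv D1971)) (tt N2817 D2880) (tt N2818 D2881) (tt N1297 F6143) (tt N2819 D2882))
theorem Q1910 : ∀ i, i < 1910 → P i := stepQ 1909 Q1909 (allL N1909 (tt N2031 (iv F6472)) (tt N1909 F6144) (tt N2489 (iv F7882)) (tt N2818 (iv F8907)) (tt N1909 F6145) (tt N1275 (iv D1972)) (tt N2820 D2883) (tt N2821 D2884))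
theorem Q1911 : ∀ i, i < 1911 → P i := stepQ 1910 Q1910 (allL N1910 (tt N2026 (iv F6458)) (tt N1277 F6146) (tt N2490 (iv F7885)) (tt N2822 D2885) (tt N1910 F6147) (tt N2821 (iv F8914)) (tt N2823 D2886) (tt N1275 (iv D1973)))
theorem Q1912 : ∀ i, i < 1912 → P i := stepQ 1911 Q1911 (allL N1911 (tt N1280 F6148) (tt N2817 (iv F8903)) (tt N1357 F6149) (tt N1911 F6150) (tt N1276 (iv D1974)) (tt N1911 F6151) (tt N1300 F6152) (tt N2824 D2887))
theorem Q1913 : ∀ i, i < 1913 → P i := stepQ 1912 Q1912 (allL N1912 (tt N1281 F6153) (tt N2819 (iv F8908)) (tt N1358 F6154) (tt N2825 D2888) (tt N2824 (iv F8921)) (tt N1912 F6155) (tt N2826 D2889) (tt N1276 (iv D1975)))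
theorem Q1914 : ∀ i, i < 1914 → P i := stepQ 1913 Q1913 (allL N1913 (tt N1282 F6156) (tt N2822 (iv F8915)) (tt N2827 D2890) (tt N1277 (iv D1976)) (tt N2828 D2891) (tt N1913 F6157) (tt N2829 D2892) (tt N2825 (iv F8925)))
theorem Q1915 : ∀ i, i < 1915 → P i := stepQ 1914 Q1914 (allL N1914 (tt N1283 F6158) (tt N2823 (iv F8916)) (tt N1279 F6159) (tt N2829 (iv F8936)) (tt N1914 F6160) (tt N2830 D2893) (tt N1277 (iv D1977)) (tt N1303 F6161))
theorem Q1916 : ∀ i, i < 1916 → P i := stepQ 1915 Q1915 (allL N1915 (tt N1284 F6162) (tt N2831 D2894) (tt N1278 (iv D1978)) (tt N2827 (iv F8930)) (tt N2832 D2895) (tt N1915 F6163) (tt N2833 D2896) (tt N1361 F6164))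
theorem Q1917 : ∀ i, i < 1917 → P i := stepQ 1916 Q1916 (allL N1916 (tt N1285 F6165) (tt N2495 (iv F7899)) (tt N2832 (iv F8944)) (tt N1916 F6166) (tt N1278 (iv D1979)) (tt N1916 F6167) (tt N2834 D2897) (tt N1362 F6168))
theorem Q1918 : ∀ i, i < 1918 → P i := stepQ 1917 Q1917 (allL N1917 (tt N1286 F6169) (tt N2496 (iv F7903)) (tt N2833 (iv F8948)) (tt N1279 F6170) (tt N2834 (iv F8951)) (tt N2835 D2898) (tt N1278 (iv D1980)) (tt N2836 D2899))
theorem Q1919 : ∀ i, i < 1919 → P i := stepQ 1918 Q1918 (allL N1918 (tt N1287 F6171) (tt N2837 D2900) (tt N2830 (iv F8938)) (tt N2835 (iv F8954)) (tt N1918 F6172) (tt N1279 (iv D1981)) (tt N1918 F6173) (tt N1307 F6174))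
theorem Q1920 : ∀ i, i < 1920 → P i := stepQ 1919 Q1919 (allL N1919 (tt N2824 (iv F8919)) (tt N2034 (iv F6483)) (tt N1365 F6175) (tt N2838 D2901) (tt N1281 F6176) (tt N1919 F6177) (tt N2839 D2902) (tt N1280 (iv D1982)))
theorem Q1921 : ∀ i, i < 1921 → P i := stepQ 1920 Q1920 (allL N1920 (tt N2825 (iv F8923)) (tt N2029 (iv F6466)) (tt N2840 D2903) (tt N1281 (iv D1983)) (tt N2841 D2904) (tt N1920 F6178) (tt N2842 D2905) (tt N1282 F6179))
theorem Q1922 : ∀ i, i < 1922 → P i := stepQ 1921 Q1921 (allL N1921 (tt N2826 (iv F8926)) (tt N2035 (iv F6487)) (tt N1367 F6180) (tt N2842 (iv F8975)) (tt N2839 (iv F8968)) (tt N2391 (iv F7562)) (tt N1281 (iv D1984)) (tt N1310 F6181))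
theorem Q1923 : ∀ i, i < 1923 → P i := stepQ 1922 Q1922 (allL N1922 (tt N2827 (iv F8929)) (tt N2843 D2906) (tt N1282 (iv D1985)) (tt N1284 F6182) (tt N2844 D2907) (tt N1922 F6183) (tt N2845 D2908) (tt N2840 (iv F8972)))
theorem Q1924 : ∀ i, i < 1924 → P i := stepQ 1923 Q1923 (allL N1923 (tt N2828 (iv F8932)) (tt N2028 (iv F6463)) (tt N2844 (iv F8977)) (tt N1923 F6184) (tt N1282 (iv D1986)) (tt N1923 F6185) (tt N2846 D2909) (tt N2841 (iv F8974)))
theorem Q1925 : ∀ i, i < 1925 → P i := stepQ 1924 Q1924 (allL N1924 (tt N2829 (iv F8935)) (tt N2006 (iv F6405)) (tt N2845 (iv F8979)) (tt N1283 F6186) (tt N2846 (iv F8982)) (tt N2806 (iv F8871)) (tt N1282 (iv D1987)) (tt N2805 F8868))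
theorem Q1926 : ∀ i, i < 1926 → P i := stepQ 1925 Q1925 (allL N1925 (tt N2830 (iv F8937)) (tt N2808 (iv F8877)) (tt N1287 F6187) (tt N2806 (iv F8870)) (tt N1925 F6188) (tt N1283 (iv D1988)) (tt N1925 F6189) (tt N1314 F6190))
theorem Q1927 : ∀ i, i < 1927 → P i := stepQ 1926 Q1926 (allL N1926 (tt N2847 D2910) (tt N1284 (iv D1989)) (tt N1288 F6191) (tt N2843 (iv F8976)) (tt N2848 D2911) (tt N2849 D2912) (tt N2850 D2913) (tt N1369 F6192))
theorem Q1928 : ∀ i, i < 1928 → P i := stepQ 1927 Q1927 (allL N1927 (tt N2832 (iv F8943)) (tt N2848 (iv F8985)) (tt N1285 F6193) (tt N2851 D2914) (tt N1284 (iv D1990)) (tt N1927 F6194) (tt N2852 D2915) (tt N1370 F6195))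
theorem Q1929 : ∀ i, i < 1929 → P i := stepQ 1928 Q1928 (allL N1928 (tt N2833 (iv F8947)) (tt N2850 (iv F8991)) (tt N1286 F6196) (tt N2845 (iv F8980)) (tt N2852 (iv F8997)) (tt N2853 D2916) (tt N1284 (iv D1991)) (tt N2854 D2917))
theorem Q1930 : ∀ i, i < 1930 → P i := stepQ 1929 Q1929 (allL N1929 (tt N2834 (iv F8949)) (tt N1291 F6197) (tt N2852 (iv F8996)) (tt N1929 F6198) (tt N1286 F6199) (tt N2855 D2918) (tt N1285 (iv D1992)) (tt N1528 F6200))
theorem Q1931 : ∀ i, i < 1931 → P i := stepQ 1930 Q1930 (allL N1930 (tt N2835 (iv F8953)) (tt N1893 F6201) (tt N2853 (iv F8999)) (tt N1287 F6202) (tt N2855 (iv F9006)) (tt N1286 (iv D1993)) (tt N1930 F6203) (tt N2856 D2919))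
theorem Q1932 : ∀ i, i < 1932 → P i := stepQ 1931 Q1931 (allL N1931 (tt N2836 (iv F8956)) (tt N1292 F6204) (tt N2854 (iv F9001)) (tt N1320 F6205) (tt N1528 F6206) (tt N2856 (iv F9012)) (tt N1373 F6207) (tt N1286 (iv D1994)))
theorem Q1933 : ∀ i, i < 1933 → P i := stepQ 1932 Q1932 (allL N1932 (tt N1288 (iv D1995)) (tt N2510 (iv F7934)) (tt N2847 (iv F8983)) (tt N2022 (iv F6446)) (tt N2857 D2920) (tt N2858 D2921) (tt N2859 D2922) (tt N1374 F6208))
theorem Q1934 : ∀ i, i < 1934 → P i := stepQ 1933 Q1933 (allL N1933 (tt N2857 (iv F9013)) (tt N1289 F6209) (tt N2848 (iv F8986)) (tt N2860 D2923) (tt N1288 (iv D1996)) (tt N2861 D2924) (tt N2862 D2925) (tt N1375 F6210))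
theorem Q1935 : ∀ i, i < 1935 → P i := stepQ 1934 Q1934 (allL N1934 (tt N2858 (iv F9015)) (tt N1295 F6211) (tt N2849 (iv F8989)) (tt N2017 (iv F6431)) (tt N2861 (iv F9021)) (tt N1288 (iv D1997)) (tt N2863 D2926) (tt N1376 F6212))
theorem Q1936 : ∀ i, i < 1936 → P i := stepQ 1935 Q1935 (allL N1935 (tt N2859 (iv F9017)) (tt N1290 F6213) (tt N2850 (iv F8992)) (tt N2000 (iv F6388)) (tt N2862 (iv F9024)) (tt N2864 D2927) (tt N1288 (iv D1998)) (tt N2865 D2928))
theorem Q1937 : ∀ i, i < 1937 → P i := stepQ 1936 Q1936 (allL N1936 (tt N2514 (iv F7941)) (tt N2860 (iv F9018)) (tt N1936 F6214) (tt N1289 (iv D1999)) (tt N2018 (iv F6436)) (tt N1296 F6215) (tt N2866 D2929) (tt N1644 F6216))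
theorem Q1938 : ∀ i, i < 1938 → P i := stepQ 1937 Q1937 (allL N1937 (tt N2515 (iv F7945)) (tt N2862 (iv F9023)) (tt N1291 F6217) (tt N2866 (iv F9036)) (tt N1290 F6218) (tt N1900 F6219) (tt N1289 (iv D2000)) (tt N1593 F6220))
theorem Q1939 : ∀ i, i < 1939 → P i := stepQ 1938 Q1938 (allL N1938 (tt N2516 (iv F7950)) (tt N2865 (iv F9030)) (tt N1292 F6221) (tt N2867 D2930) (tt N1593 F6222) (tt N1901 F6223) (tt N1378 F6224) (tt N1290 (iv D2001)))
theorem Q1940 : ∀ i, i < 1940 → P i := stepQ 1939 Q1939 (allL N1939 (tt N1294 F6225) (tt N2517 (iv F7956)) (tt N1939 F6226) (tt N2868 D2931) (tt N1293 (iv D2002)) (tt N2869 D2932) (tt N1902 F6227) (tt N1379 F6228))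
theorem Q1941 : ∀ i, i < 1941 → P i := stepQ 1940 Q1940 (allL N1940 (tt N1295 F6229) (tt N2870 D2933) (tt N1940 F6230) (tt N2011 (iv F6417)) (tt N2869 (iv F9051)) (tt N1293 (iv D2003)) (tt N2871 D2934) (tt N1380 F6231))
theorem Q1942 : ∀ i, i < 1942 → P i := stepQ 1941 Q1941 (allL N1941 (tt N2868 (iv F9045)) (tt N1296 F6232) (tt N1495 (iv F6235)) (tt N1294 (iv D2004)) (tt N1492 F6233) (tt N2872 D2935) (tt N1904 F6234) (tt N2873 D2936))
theorem Q1943 : ∀ i, i < 1943 → P i := stepQ 1942 Q1942 (allL N1942 (tt N2869 (iv F9049)) (tt N2861 (iv F9020)) (tt N1942 F6236) (tt N2872 (iv F9058)) (tt N1295 F6237) (tt N1294 (iv D2005)) (tt N2874 D2937) (tt N1382 F6238))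
theorem Q1944 : ∀ i, i < 1944 → P i := stepQ 1943 Q1943 (allL N1943 (tt N2871 (iv F9054)) (tt N2863 (iv F9026)) (tt N1943 F6239) (tt N2015 (iv F6426)) (tt N2874 (iv F9065)) (tt N1906 F6240) (tt N1295 (iv D2006)) (tt N2875 D2938))
theorem Q1945 : ∀ i, i < 1945 → P i := stepQ 1944 Q1944 (allL N1944 (tt N2522 (iv F7966)) (tt N2873 (iv F9060)) (tt N1944 F6241) (tt N1384 F6242) (tt N2019 (iv F6439)) (tt N1644 F6243) (tt N2876 D2939) (tt N1296 (iv D2007)))
theorem Q1946 : ∀ i, i < 1946 → P i := stepQ 1945 Q1945 (allL N1945 (tt N2763 (iv F8743)) (tt N1385 F6244) (tt N1297 (iv D2008)) (tt N2523 (iv F7971)) (tt N2877 D2940) (tt N2878 D2941) (tt N2816 (iv F8902)) (tt N2879 D2942))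
theorem Q1947 : ∀ i, i < 1947 → P i := stepQ 1946 Q1946 (allL N1946 (tt N2764 (iv F8745)) (tt N1300 F6245) (tt N2877 (iv F9075)) (tt N1946 F6246) (tt N1297 (iv D2009)) (tt N2880 D2943) (tt N2817 (iv F8905)) (tt N2881 D2944))
theorem Q1948 : ∀ i, i < 1948 → P i := stepQ 1947 Q1947 (allL N1947 (tt N2765 (iv F8748)) (tt N1446 F6247) (tt N2878 (iv F9076)) (tt N1298 F6248) (tt N2880 (iv F9081)) (tt N1297 (iv D2010)) (tt N2882 D2945) (tt N2883 D2946))
theorem Q1949 : ∀ i, i < 1949 → P i := stepQ 1948 Q1948 (allL N1948 (tt N2766 (iv F8751)) (tt N1301 F6249) (tt N2879 (iv F9078)) (tt N2884 D2947) (tt N2881 (iv F9083)) (tt N2883 (iv F9087)) (tt N2885 D2948) (tt N1297 (iv D2011)))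
theorem Q1950 : ∀ i, i < 1950 → P i := stepQ 1949 Q1949 (allL N1949 (tt N2767 (iv F8753)) (tt N1448 F6250) (tt N2527 (iv F7979)) (tt N2882 (iv F9085)) (tt N1949 F6251) (tt N2820 (iv F8911)) (tt N1298 (iv D2012)) (tt N2886 D2949))
theorem Q1951 : ∀ i, i < 1951 → P i := stepQ 1950 Q1950 (allL N1950 (tt N2768 (iv F8756)) (tt N1449 F6252) (tt N2528 (iv F7982)) (tt N2887 D2950) (tt N1950 F6253) (tt N1299 F6254) (tt N2888 D2951) (tt N1298 (iv D2013)))
theorem Q1952 : ∀ i, i < 1952 → P i := stepQ 1951 Q1951 (allL N1951 (tt N2769 (iv F8760)) (tt N1302 F6255) (tt N2889 D2952) (tt N1299 (iv D2014)) (tt N2890 D2953) (tt N2887 (iv F9097)) (tt N2891 D2954) (tt N2884 (iv F9089)))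
theorem Q1953 : ∀ i, i < 1953 → P i := stepQ 1952 Q1952 (allL N1952 (tt N2770 (iv F8762)) (tt N1303 F6256) (tt N2530 (iv F7987)) (tt N2891 (iv F9107)) (tt N1952 F6257) (tt N2892 D2955) (tt N1299 (iv D2015)) (tt N2823 (iv F8918)))
theorem Q1954 : ∀ i, i < 1954 → P i := stepQ 1953 Q1953 (allL N1953 (tt N1308 F6258) (tt N2881 (iv F9082)) (tt N1392 F6259) (tt N2893 D2956) (tt N1301 F6260) (tt N1452 F6261) (tt N2894 D2957) (tt N1300 (iv D2016)))
theorem Q1955 : ∀ i, i < 1955 → P i := stepQ 1954 Q1954 (allL N1954 (tt N1309 F6262) (tt N2884 (iv F9088)) (tt N2895 D2958) (tt N1301 (iv D2017)) (tt N2896 D2959) (tt N1453 F6263) (tt N2897 D2960) (tt N1302 F6264))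
theorem Q1956 : ∀ i, i < 1956 → P i := stepQ 1955 Q1955 (allL N1955 (tt N1310 F6265) (tt N2885 (iv F9090)) (tt N1394 F6266) (tt N2897 (iv F9130)) (tt N2894 (iv F9120)) (tt N2898 D2961) (tt N1301 (iv D2018)) (tt N2826 (iv F8928)))
theorem Q1957 : ∀ i, i < 1957 → P i := stepQ 1956 Q1956 (allL N1956 (tt N1311 F6267) (tt N2899 D2962) (tt N1302 (iv D2019)) (tt N1304 F6268) (tt N2900 D2963) (tt N1455 F6269) (tt N2901 D2964) (tt N2895 (iv F9124)))
theorem Q1958 : ∀ i, i < 1958 → P i := stepQ 1957 Q1957 (allL N1957 (tt N1312 F6270) (tt N2890 (iv F9104)) (tt N2900 (iv F9136)) (tt N1957 F6271) (tt N1302 (iv D2020)) (tt N1456 F6272) (tt N2902 D2965) (tt N2896 (iv F9128)))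
theorem Q1959 : ∀ i, i < 1959 → P i := stepQ 1958 Q1958 (allL N1958 (tt N1313 F6273) (tt N2891 (iv F9106)) (tt N2901 (iv F9139)) (tt N1303 F6274) (tt N2902 (iv F9143)) (tt N2903 D2966) (tt N1302 (iv D2021)) (tt N2904 D2967))
theorem Q1960 : ∀ i, i < 1960 → P i := stepQ 1959 Q1959 (allL N1959 (tt N1314 F6275) (tt N2905 D2968) (tt N1307 F6276) (tt N2903 (iv F9146)) (tt N1959 F6277) (tt N1303 (iv D2022)) (tt N1458 F6278) (tt N2830 (iv F8941)))
theorem Q1961 : ∀ i, i < 1961 → P i := stepQ 1960 Q1960 (allL N1960 (tt N2906 D2969) (tt N1304 (iv D2023)) (tt N2538 (iv F8010)) (tt N2899 (iv F9134)) (tt N2907 D2970) (tt N2908 D2971) (tt N2909 D2972) (tt N1398 F6279))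
theorem Q1962 : ∀ i, i < 1962 → P i := stepQ 1961 Q1961 (allL N1961 (tt N1316 F6280) (tt N2907 (iv F9159)) (tt N1305 F6281) (tt N2910 D2973) (tt N1304 (iv D2024)) (tt N1460 F6282) (tt N2911 D2974) (tt N1399 F6283))
theorem Q1963 : ∀ i, i < 1963 → P i := stepQ 1962 Q1962 (allL N1962 (tt N1317 F6284) (tt N2909 (iv F9163)) (tt N1306 F6285) (tt N2901 (iv F9140)) (tt N2911 (iv F9170)) (tt N2912 D2975) (tt N1304 (iv D2025)) (tt N2913 D2976))
theorem Q1964 : ∀ i, i < 1964 → P i := stepQ 1963 Q1963 (allL N1963 (tt N1318 F6286) (tt N2541 (iv F8019)) (tt N2911 (iv F9169)) (tt N1963 F6287) (tt N1306 F6288) (tt N2201 (iv F7023)) (tt N1305 (iv D2026)) (tt N1515 F6289))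
theorem Q1965 : ∀ i, i < 1965 → P i := stepQ 1964 Q1964 (allL N1964 (tt N1319 F6290) (tt N2914 D2977) (tt N2912 (iv F9173)) (tt N1307 F6291) (tt N2201 (iv F7022)) (tt N1306 (iv D2027)) (tt N1462 F6292) (tt N2915 D2978))
theorem Q1966 : ∀ i, i < 1966 → P i := stepQ 1965 Q1965 (allL N1965 (tt N1320 F6293) (tt N2543 (iv F8027)) (tt N2913 (iv F9176)) (tt N2836 (iv F8957)) (tt N1515 F6294) (tt N2915 (iv F9183)) (tt N1401 F6295) (tt N1306 (iv D2028)))
theorem Q1967 : ∀ i, i < 1967 → P i := stepQ 1966 Q1966 (allL N1966 (tt N2916 D2979) (tt N1307 (iv D2029)) (tt N2917 D2980) (tt N2914 (iv F9179)) (tt N1966 F6296) (tt N2544 (iv F8031)) (tt N1463 F6297) (tt N2837 (iv F8963)))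
theorem Q1968 : ∀ i, i < 1968 → P i := stepQ 1967 Q1967 (allL N1967 (tt N2893 (iv F9113)) (tt N1890 F6298) (tt N1896 (iv F6301)) (tt N1308 (iv D2030)) (tt N1889 (iv F6302)) (tt N1464 F6299) (tt N2918 D2981) (tt N1967 F6300))
theorem Q1969 : ∀ i, i < 1969 → P i := stepQ 1968 Q1968 (allL N1968 (tt N2894 (iv F9118)) (tt N2785 (iv F8807)) (tt N1404 F6303) (tt N2918 (iv F9194)) (tt N1310 F6304) (tt N2919 D2982) (tt N1308 (iv D2031)) (tt N2839 (iv F8969)))
theorem Q1970 : ∀ i, i < 1970 → P i := stepQ 1969 Q1969 (allL N1969 (tt N2895 (iv F9121)) (tt N1974 (iv F6318)) (tt N1309 (iv D2032)) (tt N1405 F6305) (tt N1973 F6317) (tt N1466 F6306) (tt N2920 D2983) (tt N1311 F6307))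
theorem Q1971 : ∀ i, i < 1971 → P i := stepQ 1970 Q1970 (allL N1970 (tt N2896 (iv F9125)) (tt N1885 F6308) (tt N1973 (iv F6315)) (tt N1889 F6309) (tt N1309 (iv D2033)) (tt N1467 F6310) (tt N2921 D2984) (tt N1312 F6311))
theorem Q1972 : ∀ i, i < 1972 → P i := stepQ 1971 Q1971 (allL N1971 (tt N2897 (iv F9129)) (tt N2786 (iv F8810)) (tt N2920 (iv F9199)) (tt N1310 F6312) (tt N2921 (iv F9203)) (tt N2922 D2985) (tt N1309 (iv D2034)) (tt N2923 D2986))
theorem Q1973 : ∀ i, i < 1973 → P i := stepQ 1972 Q1972 (allL N1972 (tt N2898 (iv F9131)) (tt N2924 D2987) (tt N1408 F6313) (tt N2922 (iv F9204)) (tt N2919 (iv F9197)) (tt N1310 (iv D2035)) (tt N1469 F6314) (tt N2391 (iv F7564)))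
theorem Q1974 : ∀ i, i < 1974 → P i := stepQ 1973 Q1973 (allL N1973 (tt N2925 D2988) (tt N1311 (iv D2036)) (tt N1970 F6315) (tt N1315 F6316) (tt N1969 (iv F6317)) (tt N2188 (iv F6970)) (tt N2926 D2989) (tt N1974 (iv F6321)))
theorem Q1975 : ∀ i, i < 1975 → P i := stepQ 1974 Q1974 (allL N1974 (tt N2900 (iv F9135)) (tt N1969 F6318) (tt N1312 F6319) (tt N2108 (iv F6716)) (tt N1311 (iv D2037)) (tt N1471 F6320) (tt N2927 D2990) (tt N1973 F6321))
theorem Q1976 : ∀ i, i < 1976 → P i := stepQ 1975 Q1975 (allL N1975 (tt N2901 (iv F9138)) (tt N2926 (iv F9216)) (tt N1313 F6322) (tt N1317 F6323) (tt N2927 (iv F9222)) (tt N2928 D2991) (tt N1311 (iv D2038)) (tt N2929 D2992))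
theorem Q1977 : ∀ i, i < 1977 → P i := stepQ 1976 Q1976 (allL N1976 (tt N2902 (iv F9141)) (tt N2789 (iv F8817)) (tt N2927 (iv F9221)) (tt N1976 F6324) (tt N1313 F6325) (tt N1597 F6326) (tt N1312 (iv D2039)) (tt N2930 D2993))
theorem Q1978 : ∀ i, i < 1978 → P i := stepQ 1977 Q1977 (allL N1977 (tt N2903 (iv F9145)) (tt N1329 F6330) (tt N2928 (iv F9224)) (tt N1314 F6327) (tt N1597 F6328) (tt N1313 (iv D2040)) (tt N1423 F6329) (tt N1325 (iv F6331)))
theorem Q1979 : ∀ i, i < 1979 → P i := stepQ 1978 Q1978 (allL N1978 (tt N2904 (iv F9150)) (tt N2791 (iv F8827)) (tt N2929 (iv F9230)) (tt N2805 (iv F8867)) (tt N2930 (iv F9232)) (tt N1325 F6332) (tt N2923 (iv F9209)) (tt N1313 (iv D2041)))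
theorem Q1980 : ∀ i, i < 1980 → P i := stepQ 1979 Q1979 (allL N1979 (tt N2584 (iv F8131)) (tt N1314 (iv D2042)) (tt N2867 (iv F9040)) (tt N1329 F6333) (tt N1979 F6334) (tt N2792 (iv F8831)) (tt N1424 F6335) (tt N2808 (iv F8881)))
theorem Q1981 : ∀ i, i < 1981 → P i := stepQ 1980 Q1980 (allL N1980 (tt N1315 (iv D2043)) (tt N2906 (iv F9157)) (tt N1322 F6336) (tt N2925 (iv F9213)) (tt N2931 D2994) (tt N2932 D2995) (tt N2933 D2996) (tt N1412 F6337))
theorem Q1982 : ∀ i, i < 1982 → P i := stepQ 1981 Q1981 (allL N1981 (tt N2931 (iv F9234)) (tt N1316 F6338) (tt N1323 F6339) (tt N2109 (iv F6721)) (tt N1315 (iv D2044)) (tt N2122 (iv F6762)) (tt N2934 D2997) (tt N1413 F6340))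
theorem Q1983 : ∀ i, i < 1983 → P i := stepQ 1982 Q1982 (allL N1982 (tt N2932 (iv F9237)) (tt N1475 F6341) (tt N1324 F6342) (tt N2188 (iv F6969)) (tt N2122 F6764) (tt N1315 (iv D2045)) (tt N2935 D2998) (tt N1414 F6343))
theorem Q1984 : ∀ i, i < 1984 → P i := stepQ 1983 Q1983 (allL N1983 (tt N2933 (iv F9240)) (tt N1317 F6344) (tt N1325 F6345) (tt N2926 (iv F9218)) (tt N2934 (iv F9244)) (tt N2929 (iv F9231)) (tt N1315 (iv D2046)) (tt N2928 F9229))
theorem Q1985 : ∀ i, i < 1985 → P i := stepQ 1984 Q1984 (allL N1984 (tt N2910 (iv F9164)) (tt N2109 (iv F6719)) (tt N1984 F6346) (tt N1316 (iv D2047)) (tt N2108 F6718) (tt N1476 F6347) (tt N2936 D2999) (tt N1544 F6348))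
theorem Q1986 : ∀ i, i < 1986 → P i := stepQ 1985 Q1985 (allL N1985 (tt N2911 (iv F9168)) (tt N2934 (iv F9242)) (tt N1318 F6349) (tt N2936 (iv F9249)) (tt N1317 F6350) (tt N2197 (iv F7005)) (tt N1316 (iv D2048)) (tt N1531 F6351))
theorem Q1987 : ∀ i, i < 1987 → P i := stepQ 1986 Q1986 (allL N1986 (tt N2912 (iv F9172)) (tt N2937 D3000) (tt N1319 F6352) (tt N2928 (iv F9225)) (tt N2197 (iv F7004)) (tt N1317 (iv D2049)) (tt N1477 F6353) (tt N2938 D3001))
theorem Q1988 : ∀ i, i < 1988 → P i := stepQ 1987 Q1987 (allL N1987 (tt N2913 (iv F9175)) (tt N2928 (iv F9228)) (tt N1320 F6354) (tt N2937 (iv F9250)) (tt N1531 F6355) (tt N2938 (iv F9255)) (tt N1416 F6356) (tt N1317 (iv D2050)))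
theorem Q1989 : ∀ i, i < 1989 → P i := stepQ 1988 Q1988 (allL N1988 (tt N2915 (iv F9181)) (tt N2212 (iv F7062)) (tt N2938 (iv F9253)) (tt N2856 (iv F9010)) (tt N1532 F6357) (tt N1320 F6358) (tt N2298 (iv F7302)) (tt N1319 (iv D2051)))
theorem Q1990 : ∀ i, i < 1990 → P i := stepQ 1989 Q1989 (allL N1989 (tt N1321 (iv D2052)) (tt N2916 (iv F9184)) (tt N2939 D3002) (tt N2206 (iv F7044)) (tt N1989 F6359) (tt N1333 F6360) (tt N1478 F6361) (tt N1881 F6362))
theorem Q1991 : ∀ i, i < 1991 → P i := stepQ 1990 Q1990 (allL N1990 (tt N2939 (iv F9256)) (tt N2867 (iv F9039)) (tt N1321 (iv D2053)) (tt N2865 (iv F9031)) (tt N1990 F6363) (tt N1334 F6364) (tt N1479 F6365) (tt N1888 F6366))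
theorem Q1992 : ∀ i, i < 1992 → P i := stepQ 1991 Q1991 (allL N1991 (tt N1323 F6367) (tt N2571 (iv F8097)) (tt N2931 (iv F9235)) (tt N2940 D3003) (tt N1322 (iv D2054)) (tt N2941 D3004) (tt N2942 D3005) (tt N1417 F6368))
theorem Q1993 : ∀ i, i < 1993 → P i := stepQ 1992 Q1992 (allL N1992 (tt N1324 F6369) (tt N2943 D3006) (tt N2932 (iv F9238)) (tt N2801 (iv F8859)) (tt N2941 (iv F9264)) (tt N1322 (iv D2055)) (tt N2944 D3007) (tt N1418 F6370))
theorem Q1994 : ∀ i, i < 1994 → P i := stepQ 1993 Q1993 (allL N1993 (tt N1325 F6371) (tt N2573 (iv F8102)) (tt N2933 (iv F9241)) (tt N2802 (iv F8862)) (tt N2942 (iv F9267)) (tt N2904 (iv F9151)) (tt N1322 (iv D2056)) (tt N2903 F9149))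
theorem Q1995 : ∀ i, i < 1995 → P i := stepQ 1994 Q1994 (allL N1994 (tt N2940 (iv F9261)) (tt N1326 F6372) (tt N2061 (iv F6577)) (tt N1323 (iv D2057)) (tt N2105 (iv F6706)) (tt N2060 (iv F6575)) (tt N2945 D3008) (tt N1611 F6373))
theorem Q1996 : ∀ i, i < 1996 → P i := stepQ 1995 Q1995 (allL N1995 (tt N2941 (iv F9263)) (tt N1339 F6374) (tt N2122 (iv F6761)) (tt N2060 (iv F6573)) (tt N1324 F6375) (tt N1323 (iv D2058)) (tt N2946 D3009) (tt N1420 F6376))
theorem Q1997 : ∀ i, i < 1997 → P i := stepQ 1996 Q1996 (allL N1996 (tt N2942 (iv F9266)) (tt N1327 F6377) (tt N2934 (iv F9243)) (tt N2945 (iv F9273)) (tt N1325 F6378) (tt N2930 (iv F9233)) (tt N1323 (iv D2059)) (tt N1597 F6379))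
theorem Q1998 : ∀ i, i < 1998 → P i := stepQ 1997 Q1997 (allL N1997 (tt N2944 (iv F9271)) (tt N1340 F6380) (tt N2935 (iv F9247)) (tt N2804 (iv F8866)) (tt N2946 (iv F9278)) (tt N2923 (iv F9208)) (tt N1324 (iv D2060)) (tt N2922 F9207))
theorem Q1999 : ∀ i, i < 1999 → P i := stepQ 1998 Q1998 (allL N1998 (tt N2580 (iv F8115)) (tt N2945 (iv F9272)) (tt N1998 F6381) (tt N1327 F6382) (tt N2807 (iv F8875)) (tt N2947 D3010) (tt N1326 (iv D2061)) (tt N1998 F6383))
theorem Q2000 : ∀ i, i < 2000 → P i := stepQ 1999 Q1999 (allL N1999 (tt N2581 (iv F8119)) (tt N2948 D3011) (tt N1330 F6384) (tt N2947 (iv F9280)) (tt N1328 F6385) (tt N1327 (iv D2062)) (tt N1344 F6386) (tt N1598 F6387))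
theorem Q2001 : ∀ i, i < 2001 → P i := stepQ 2000 Q2000 (allL N2000 (tt N2949 D3012) (tt N1328 (iv D2063)) (tt N2950 D3013) (tt N1935 F6388) (tt N2948 (iv F9284)) (tt N2791 (iv F8828)) (tt N1345 F6389) (tt N2790 F8826))
theorem Q2002 : ∀ i, i < 2002 → P i := stepQ 2001 Q2001 (allL N2001 (tt N2583 (iv F8126)) (tt N2790 (iv F8822)) (tt N1332 F6390) (tt N2792 (iv F8829)) (tt N1598 F6391) (tt N1329 F6392) (tt N2001 F6393) (tt N1328 (iv D2064)))
theorem Q2003 : ∀ i, i < 2003 → P i := stepQ 2002 Q2002 (allL N2002 (tt N1331 (iv D2065)) (tt N2586 (iv F8138)) (tt N2951 D3014) (tt N1333 F6394) (tt N2209 (iv F7053)) (tt N2206 (iv F7046)) (tt N1346 F6395) (tt N2952 D3015))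
theorem Q2004 : ∀ i, i < 2004 → P i := stepQ 2003 Q2003 (allL N2003 (tt N2951 (iv F9291)) (tt N2950 (iv F9289)) (tt N1331 (iv D2066)) (tt N2953 D3016) (tt N2015 (iv F6427)) (tt N2014 (iv F6424)) (tt N1347 F6396) (tt N2954 D3017))
theorem Q2005 : ∀ i, i < 2005 → P i := stepQ 2004 Q2004 (allL N2004 (tt N2952 (iv F9293)) (tt N1332 F6397) (tt N2954 (iv F9299)) (tt N1894 F6398) (tt N1599 F6399) (tt N2212 (iv F7064)) (tt N2004 F6400) (tt N1331 (iv D2067)))
theorem Q2006 : ∀ i, i < 2006 → P i := stepQ 2005 Q2005 (allL N2005 (tt N1334 F6401) (tt N2955 D3018) (tt N1333 (iv D2068)) (tt N2956 D3019) (tt N2005 F6402) (tt N2939 (iv F9258)) (tt N1348 F6403) (tt N1877 F6404))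
theorem Q2007 : ∀ i, i < 2007 → P i := stepQ 2006 Q2006 (allL N2006 (tt N2956 (iv F9306)) (tt N1924 F6405) (tt N2953 (iv F9297)) (tt N1334 (iv D2069)) (tt N2957 D3020) (tt N2865 (iv F9033)) (tt N1349 F6406) (tt N2864 F9029))
theorem Q2008 : ∀ i, i < 2008 → P i := stepQ 2007 Q2007 (allL N2007 (tt N1338 F6407) (tt N2591 (iv F8153)) (tt N2203 (iv F7030)) (tt N1335 (iv D2070)) (tt N2809 (iv F8883)) (tt N2958 D3021) (tt N2214 (iv F7073)) (tt N2959 D3022))
theorem Q2009 : ∀ i, i < 2009 → P i := stepQ 2008 Q2008 (allL N2008 (tt N1339 F6408) (tt N2960 D3023) (tt N1484 F6409) (tt N2958 (iv F9313)) (tt N1336 F6410) (tt N1335 (iv D2071)) (tt N2961 D3024) (tt N1426 F6411))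
theorem Q2010 : ∀ i, i < 2010 → P i := stepQ 2009 Q2009 (allL N2009 (tt N2943 (iv F9269)) (tt N1336 (iv D2072)) (tt N2962 D3025) (tt N2811 (iv F8888)) (tt N2960 (iv F9316)) (tt N2593 (iv F8158)) (tt N2963 D3026) (tt N1427 F6412))
theorem Q2011 : ∀ i, i < 2011 → P i := stepQ 2010 Q2010 (allL N2010 (tt N1340 F6413) (tt N2963 (iv F9324)) (tt N1486 F6414) (tt N2812 (iv F8892)) (tt N2961 (iv F9320)) (tt N2964 D3027) (tt N1336 (iv D2073)) (tt N2965 D3028))
theorem Q2012 : ∀ i, i < 2012 → P i := stepQ 2011 Q2011 (allL N2011 (tt N1341 F6415) (tt N2966 D3029) (tt N1487 F6416) (tt N1940 F6417) (tt N2024 (iv F6453)) (tt N1337 (iv D2074)) (tt N2964 (iv F9329)) (tt N2011 F6418))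
theorem Q2013 : ∀ i, i < 2013 → P i := stepQ 2012 Q2012 (allL N2012 (tt N2958 (iv F9312)) (tt N2060 (iv F6571)) (tt N2068 (iv F6600)) (tt N1339 F6419) (tt N2269 (iv F7214)) (tt N1338 (iv D2075)) (tt N2967 D3030) (tt N2059 (iv F6570)))
theorem Q2014 : ∀ i, i < 2014 → P i := stepQ 2013 Q2013 (allL N2013 (tt N2959 (iv F9314)) (tt N1343 F6420) (tt N2067 (iv F6595)) (tt N1430 F6421) (tt N2313 (iv F7338)) (tt N2059 F6569) (tt N2968 D3031) (tt N1338 (iv D2076)))
theorem Q2015 : ∀ i, i < 2015 → P i := stepQ 2014 Q2014 (allL N2014 (tt N2961 (iv F9318)) (tt N2946 (iv F9275)) (tt N1488 F6422) (tt N2967 (iv F9337)) (tt N1340 F6423) (tt N2003 F6424) (tt N1339 (iv D2077)) (tt N2969 D3032))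
theorem Q2016 : ∀ i, i < 2016 → P i := stepQ 2015 Q2015 (allL N2015 (tt N2964 (iv F9325)) (tt N2970 D3033) (tt N1489 F6425) (tt N1943 F6426) (tt N2003 F6427) (tt N1340 (iv D2078)) (tt N1341 F6428) (tt N2368 (iv F7486)))
theorem Q2017 : ∀ i, i < 2017 → P i := stepQ 2016 Q2016 (allL N2016 (tt N2965 (iv F9330)) (tt N2922 F9206) (tt N1490 F6429) (tt N2924 (iv F9210)) (tt N2969 (iv F9343)) (tt N2368 (iv F7484)) (tt N1432 F6430) (tt N1340 (iv D2079)))
theorem Q2018 : ∀ i, i < 2018 → P i := stepQ 2017 Q2017 (allL N2017 (tt N2971 D3034) (tt N1341 (iv D2080)) (tt N2021 (iv F6443)) (tt N1934 F6431) (tt N2023 (iv F6449)) (tt N1345 F6432) (tt N2970 (iv F9349)) (tt N2017 F6433))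
theorem Q2019 : ∀ i, i < 2019 → P i := stepQ 2018 Q2018 (allL N2018 (tt N2605 (iv F8191)) (tt N2972 D3035) (tt N2018 F6434) (tt N1344 F6435) (tt N1936 F6436) (tt N1342 (iv D2081)) (tt N2947 (iv F9282)) (tt N2427 (iv F7683)))
theorem Q2020 : ∀ i, i < 2020 → P i := stepQ 2019 Q2019 (allL N2019 (tt N2606 (iv F8205)) (tt N2215 (iv F7074)) (tt N2019 F6437) (tt N2019 F6438) (tt N1944 F6439) (tt N2427 (iv F7681)) (tt N2973 D3036) (tt N1342 (iv D2082)))
theorem Q2021 : ∀ i, i < 2021 → P i := stepQ 2020 Q2020 (allL N2020 (tt N2607 (iv F8211)) (tt N2968 (iv F9340)) (tt N2020 F6440) (tt N1433 F6441) (tt N2815 (iv F8899)) (tt N2020 F6442) (tt N1343 (iv D2083)) (tt N2973 (iv F9359)))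
theorem Q2022 : ∀ i, i < 2022 → P i := stepQ 2021 Q2021 (allL N2021 (tt N2974 D3037) (tt N1344 (iv D2084)) (tt N2017 F6443) (tt N2972 (iv F9353)) (tt N1345 F6444) (tt N2023 (iv F6450)) (tt N2948 (iv F9285)) (tt N2021 F6445))
theorem Q2023 : ∀ i, i < 2023 → P i := stepQ 2022 Q2022 (allL N2022 (tt N1345 (iv D2085)) (tt N2609 (iv F8220)) (tt N2975 D3038) (tt N1932 F6446) (tt N2974 (iv F9361)) (tt N2971 (iv F9351)) (tt N2949 (iv F9288)) (tt N2022 F6447))
theorem Q2024 : ∀ i, i < 2024 → P i := stepQ 2023 Q2023 (allL N2023 (tt N2975 (iv F9363)) (tt N1347 F6448) (tt N1345 (iv D2086)) (tt N2976 D3039) (tt N2017 F6449) (tt N2021 F6450) (tt N2950 (iv F9290)) (tt N2023 F6451))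
theorem Q2025 : ∀ i, i < 2025 → P i := stepQ 2024 Q2024 (allL N2024 (tt N1347 F6452) (tt N2977 D3040) (tt N1346 (iv D2087)) (tt N2978 D3041) (tt N2011 F6453) (tt N1491 F6454) (tt N2951 (iv F9292)) (tt N2024 F6455))
theorem Q2026 : ∀ i, i < 2026 → P i := stepQ 2025 Q2025 (allL N2025 (tt N2978 (iv F9372)) (tt N2976 (iv F9367)) (tt N1349 F6456) (tt N1347 (iv D2088)) (tt N2872 (iv F9059)) (tt N1492 F6457) (tt N2953 (iv F9298)) (tt N2979 D3042))
theorem Q2027 : ∀ i, i < 2027 → P i := stepQ 2026 Q2026 (allL N2026 (tt N1910 F6458) (tt N1348 (iv D2089)) (tt N2614 (iv F8238)) (tt N2980 D3043) (tt N2026 F6459) (tt N2981 D3044) (tt N2955 (iv F9304)) (tt N1350 F6460))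
theorem Q2028 : ∀ i, i < 2028 → P i := stepQ 2027 Q2027 (allL N2027 (tt N1349 F6461) (tt N2980 (iv F9379)) (tt N2978 (iv F9373)) (tt N1348 (iv D2090)) (tt N2982 D3045) (tt N1494 F6462) (tt N2956 (iv F9307)) (tt N2983 D3046))
theorem Q2029 : ∀ i, i < 2029 → P i := stepQ 2028 Q2028 (allL N2028 (tt N2982 (iv F9384)) (tt N1923 F6463) (tt N2872 (iv F9057)) (tt N2028 F6464) (tt N1349 (iv D2091)) (tt N1495 F6465) (tt N2957 (iv F9311)) (tt N2984 D3047))
theorem Q2030 : ∀ i, i < 2030 → P i := stepQ 2029 Q2029 (allL N2029 (tt N2983 (iv F9387)) (tt N1920 F6466) (tt N2979 (iv F9375)) (tt N1353 F6467) (tt N2984 (iv F9391)) (tt N1496 F6468) (tt N2985 D3048) (tt N1349 (iv D2092)))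
theorem Q2031 : ∀ i, i < 2031 → P i := stepQ 2030 Q2030 (allL N2030 (tt N1908 F6469) (tt N1351 F6470) (tt N2986 D3049) (tt N1350 (iv D2093)) (tt N2987 D3050) (tt N2988 D3051) (tt N1871 F6471) (tt N2989 D3052))
theorem Q2032 : ∀ i, i < 2032 → P i := stepQ 2031 Q2031 (allL N2031 (tt N1909 F6472) (tt N1498 F6473) (tt N2619 (iv F8257)) (tt N2988 (iv F9404)) (tt N2031 F6474) (tt N1350 (iv D2094)) (tt N2990 D3053) (tt N2981 (iv F9383)))
theorem Q2033 : ∀ i, i < 2033 → P i := stepQ 2032 Q2032 (allL N2032 (tt N1352 F6475) (tt N2987 (iv F9399)) (tt N2032 F6476) (tt N2032 F6477) (tt N1351 (iv D2095)) (tt N1499 F6478) (tt N1874 F6479) (tt N2991 D3054))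
theorem Q2034 : ∀ i, i < 2034 → P i := stepQ 2033 Q2033 (allL N2033 (tt N1353 F6480) (tt N2989 (iv F9406)) (tt N2033 F6481) (tt N2983 (iv F9388)) (tt N2991 (iv F9413)) (tt N1500 F6482) (tt N2992 D3055) (tt N1351 (iv D2096)))
theorem Q2035 : ∀ i, i < 2035 → P i := stepQ 2034 Q2034 (allL N2034 (tt N2991 (iv F9411)) (tt N1919 F6483) (tt N2034 F6484) (tt N2993 D3056) (tt N1353 F6485) (tt N1501 F6486) (tt N2994 D3057) (tt N1352 (iv D2097)))
theorem Q2036 : ∀ i, i < 2036 → P i := stepQ 2035 Q2035 (allL N2035 (tt N2992 (iv F9415)) (tt N1921 F6487) (tt N2035 F6488) (tt N2985 (iv F9394)) (tt N2994 (iv F9423)) (tt N2995 D3058) (tt N1353 (iv D2098)) (tt N1884 F6489))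
theorem Q2037 : ∀ i, i < 2037 → P i := stepQ 2036 Q2036 (allL N2036 (tt N2036 F6490) (tt N2816 (iv F8901)) (tt N1354 (iv D2099)) (tt N2642 (iv F8332)) (tt N2996 D3059) (tt N2997 D3060) (tt N1385 F6491) (tt N2998 D3061))
theorem Q2038 : ∀ i, i < 2038 → P i := stepQ 2037 Q2037 (allL N2037 (tt N2037 F6492) (tt N1357 F6493) (tt N2996 (iv F9429)) (tt N1434 F6494) (tt N1354 (iv D2100)) (tt N2692 (iv F8488)) (tt N1386 F6495) (tt N2999 D3062))
theorem Q2039 : ∀ i, i < 2039 → P i := stepQ 2038 Q2038 (allL N2038 (tt N2038 F6496) (tt N2038 F6497) (tt N2997 (iv F9432)) (tt N1355 F6498) (tt N2692 (iv F8487)) (tt N1354 (iv D2101)) (tt N2690 (iv F8479)) (tt N3000 D3063))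
theorem Q2040 : ∀ i, i < 2040 → P i := stepQ 2039 Q2039 (allL N2039 (tt N2039 F6499) (tt N1358 F6500) (tt N2998 (iv F9435)) (tt N3001 D3064) (tt N2999 (iv F9439)) (tt N3000 (iv F9442)) (tt N3002 D3065) (tt N1354 (iv D2102)))
theorem Q2041 : ∀ i, i < 2041 → P i := stepQ 2040 Q2040 (allL N2040 (tt N2040 F6501) (tt N2040 F6502) (tt N1441 F6503) (tt N3003 D3066) (tt N1435 F6504) (tt N1356 F6505) (tt N2040 F6506) (tt N1355 (iv D2103)))
theorem Q2042 : ∀ i, i < 2042 → P i := stepQ 2041 Q2041 (allL N2041 (tt N2041 F6507) (tt N1359 F6508) (tt N3004 D3067) (tt N1356 (iv D2104)) (tt N2041 F6509) (tt N3003 (iv F9453)) (tt N2390 F7561) (tt N3001 (iv F9446)))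
theorem Q2043 : ∀ i, i < 2043 → P i := stepQ 2042 Q2042 (allL N2042 (tt N2042 F6510) (tt N1360 F6511) (tt N2645 (iv F8345)) (tt N2390 (iv F7558)) (tt N1436 F6512) (tt N2042 F6513) (tt N1356 (iv D2105)) (tt N1391 F6514))
theorem Q2044 : ∀ i, i < 2044 → P i := stepQ 2043 Q2043 (allL N2043 (tt N1365 F6515) (tt N2999 (iv F9437)) (tt N2824 (iv F8920)) (tt N2043 F6516) (tt N1358 F6517) (tt N2043 F6518) (tt N3005 D3068) (tt N1357 (iv D2106)))
theorem Q2045 : ∀ i, i < 2045 → P i := stepQ 2044 Q2044 (allL N2044 (tt N1366 F6519) (tt N3001 (iv F9444)) (tt N3006 D3069) (tt N1358 (iv D2107)) (tt N2044 F6520) (tt N2044 F6521) (tt N2387 (iv F7548)) (tt N1359 F6522))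
theorem Q2046 : ∀ i, i < 2046 → P i := stepQ 2045 Q2045 (allL N2045 (tt N1367 F6523) (tt N3002 (iv F9448)) (tt N2826 (iv F8927)) (tt N2387 (iv F7545)) (tt N3005 (iv F9459)) (tt N2388 (iv F7550)) (tt N1358 (iv D2108)) (tt N1394 F6524))
theorem Q2047 : ∀ i, i < 2047 → P i := stepQ 2046 Q2046 (allL N2046 (tt N1368 F6525) (tt N3007 D3070) (tt N1359 (iv D2109)) (tt N1361 F6526) (tt N2046 F6527) (tt N2046 F6528) (tt N2378 F7517) (tt N3006 (iv F9464)))
theorem Q2048 : ∀ i, i < 2048 → P i := stepQ 2047 Q2047 (allL N2047 (tt N3008 D3071) (tt N1361 (iv D2110)) (tt N2652 (iv F8369)) (tt N3007 (iv F9465)) (tt N3009 D3072) (tt N3010 D3073) (tt N3011 D3074) (tt N2831 (iv F8942)))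
theorem Q2049 : ∀ i, i < 2049 → P i := stepQ 2048 Q2048 (allL N2048 (tt N1370 F6529) (tt N3009 (iv F9468)) (tt N1362 F6530) (tt N2048 F6531) (tt N1361 (iv D2111)) (tt N2048 F6532) (tt N1561 (iv F6533)) (tt N2832 (iv F8946)))
theorem Q2050 : ∀ i, i < 2050 → P i := stepQ 2049 Q2049 (allL N2049 (tt N1371 F6534) (tt N3011 (iv F9472)) (tt N1363 F6535) (tt N2378 F7516) (tt N1561 F6536) (tt N2379 (iv F7520)) (tt N1361 (iv D2112)) (tt N3012 D3075))
theorem Q2051 : ∀ i, i < 2051 → P i := stepQ 2050 Q2050 (allL N2050 (tt N1372 F6537) (tt N3013 D3076) (tt N2379 (iv F7519)) (tt N1364 F6538) (tt N1442 F6539) (tt N1363 (iv D2113)) (tt N2050 F6540) (tt N3014 D3077))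
theorem Q2052 : ∀ i, i < 2052 → P i := stepQ 2051 Q2051 (allL N2051 (tt N1373 F6541) (tt N2655 (iv F8377)) (tt N3012 (iv F9475)) (tt N1401 F6542) (tt N1512 F6543) (tt N3014 (iv F9487)) (tt N2836 (iv F8959)) (tt N1363 (iv D2114)))
theorem Q2053 : ∀ i, i < 2053 → P i := stepQ 2052 Q2052 (allL N2052 (tt N2052 F6544) (tt N1364 (iv D2115)) (tt N2052 F6545) (tt N3013 (iv F9480)) (tt N1437 F6546) (tt N2656 (iv F8383)) (tt N2052 F6547) (tt N1402 F6548))
theorem Q2054 : ∀ i, i < 2054 → P i := stepQ 2053 Q2053 (allL N2053 (tt N3005 (iv F9457)) (tt N2053 F6549) (tt N2839 (iv F8967)) (tt N2053 F6550) (tt N1367 F6551) (tt N2392 (iv F7567)) (tt N1365 (iv D2116)) (tt N1404 F6552))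
theorem Q2055 : ∀ i, i < 2055 → P i := stepQ 2054 Q2054 (allL N2054 (tt N3006 (iv F9461)) (tt N3015 D3078) (tt N1366 (iv D2117)) (tt N2840 (iv F8970)) (tt N2054 F6553) (tt N2054 F6554) (tt N2380 (iv F7526)) (tt N1368 F6555))
theorem Q2056 : ∀ i, i < 2056 → P i := stepQ 2055 Q2055 (allL N2055 (tt N3016 D3079) (tt N1368 (iv D2118)) (tt N2055 F6556) (tt N1369 F6557) (tt N2055 F6558) (tt N3017 D3080) (tt N2139 F6820) (tt N3015 (iv F9490)))
theorem Q2057 : ∀ i, i < 2057 → P i := stepQ 2056 Q2056 (allL N2056 (tt N1369 (iv D2119)) (tt N3008 (iv F9467)) (tt N1374 F6559) (tt N3016 (iv F9492)) (tt N3018 D3081) (tt N3019 D3082) (tt N3020 D3083) (tt N2847 (iv F8984)))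
theorem Q2058 : ∀ i, i < 2058 → P i := stepQ 2057 Q2057 (allL N2057 (tt N3018 (iv F9498)) (tt N1370 F6560) (tt N1375 F6561) (tt N2057 F6562) (tt N1369 (iv D2120)) (tt N3021 D3084) (tt N1562 (iv F6563)) (tt N2848 (iv F8987)))
theorem Q2059 : ∀ i, i < 2059 → P i := stepQ 2058 Q2058 (allL N2058 (tt N3019 (iv F9502)) (tt N2058 F6564) (tt N1376 F6565) (tt N3017 (iv F9496)) (tt N3021 (iv F9512)) (tt N1369 (iv D2121)) (tt N3022 D3085) (tt N2849 (iv F8990)))
theorem Q2060 : ∀ i, i < 2060 → P i := stepQ 2059 Q2059 (allL N2059 (tt N3020 (iv F9504)) (tt N1371 F6566) (tt N1377 F6567) (tt N2139 (iv F6817)) (tt N1562 F6568) (tt N2013 (iv F6569)) (tt N1369 (iv D2122)) (tt N2012 F6570))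
theorem Q2061 : ∀ i, i < 2061 → P i := stepQ 2060 Q2060 (allL N2060 (tt N3012 (iv F9474)) (tt N2012 F6571) (tt N1373 F6572) (tt N1995 F6573) (tt N1527 F6574) (tt N1994 F6575) (tt N2854 (iv F9003)) (tt N1371 (iv D2123)))
theorem Q2062 : ∀ i, i < 2062 → P i := stepQ 2061 Q2061 (allL N2061 (tt N3014 (iv F9483)) (tt N2061 F6576) (tt N1994 F6577) (tt N1406 F6578) (tt N1403 F6579) (tt N1373 F6580) (tt N3023 D3086) (tt N1372 (iv D2124)))
theorem Q2063 : ∀ i, i < 2063 → P i := stepQ 2062 Q2062 (allL N2062 (tt N1375 F6581) (tt N2670 (iv F8416)) (tt N3018 (iv F9499)) (tt N1640 (iv F6582)) (tt N1374 (iv D2125)) (tt N3024 D3087) (tt N1630 (iv F6583)) (tt N2857 (iv F9014)))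
theorem Q2064 : ∀ i, i < 2064 → P i := stepQ 2063 Q2063 (allL N2063 (tt N1376 F6584) (tt N3025 D3088) (tt N3019 (iv F9503)) (tt N2063 F6585) (tt N3024 (iv F9523)) (tt N1374 (iv D2126)) (tt N3026 D3089) (tt N2858 (iv F9016)))
theorem Q2065 : ∀ i, i < 2065 → P i := stepQ 2064 Q2064 (allL N2064 (tt N1377 F6586) (tt N2672 (iv F8422)) (tt N3020 (iv F9505)) (tt N2064 F6587) (tt N1630 F6588) (tt N3027 D3090) (tt N1374 (iv D2127)) (tt N3028 D3091))
theorem Q2066 : ∀ i, i < 2066 → P i := stepQ 2065 Q2065 (allL N2065 (tt N3024 (iv F9521)) (tt N1382 F6589) (tt N3021 (iv F9510)) (tt N1642 F6590) (tt N1376 F6591) (tt N1375 (iv D2128)) (tt N3029 D3092) (tt N2861 (iv F9022)))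
theorem Q2067 : ∀ i, i < 2067 → P i := stepQ 2066 Q2066 (allL N2066 (tt N3026 (iv F9526)) (tt N1383 F6592) (tt N3022 (iv F9514)) (tt N2066 F6593) (tt N3029 (iv F9540)) (tt N3030 D3093) (tt N1376 (iv D2129)) (tt N3031 D3094))
theorem Q2068 : ∀ i, i < 2068 → P i := stepQ 2067 Q2067 (allL N2067 (tt N3027 (iv F9528)) (tt N2067 F6594) (tt N2013 F6595) (tt N2067 F6596) (tt N1631 F6597) (tt N1377 (iv D2130)) (tt N3030 (iv F9546)) (tt N1483 F6598))
theorem Q2069 : ∀ i, i < 2069 → P i := stepQ 2068 Q2068 (allL N2068 (tt N3028 (iv F9533)) (tt N1378 F6599) (tt N2012 F6600) (tt N1479 (iv F6603)) (tt N1592 F6601) (tt N1483 F6602) (tt N2865 (iv F9034)) (tt N1377 (iv D2131)))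
theorem Q2070 : ∀ i, i < 2070 → P i := stepQ 2069 Q2069 (allL N2069 (tt N2677 (iv F8435)) (tt N1479 F6604) (tt N1424 F6605) (tt N1378 (iv D2132)) (tt N2069 F6606) (tt N2069 F6607) (tt N2867 (iv F9043)) (tt N2069 F6608))
theorem Q2071 : ∀ i, i < 2071 → P i := stepQ 2070 Q2070 (allL N2070 (tt N1381 F6609) (tt N2678 (iv F8441)) (tt N3032 D3095) (tt N1379 (iv D2133)) (tt N2070 F6610) (tt N3033 D3096) (tt N2070 F6611) (tt N3034 D3097))
theorem Q2072 : ∀ i, i < 2072 → P i := stepQ 2071 Q2071 (allL N2071 (tt N1382 F6612) (tt N3035 D3098) (tt N2071 F6613) (tt N3033 (iv F9557)) (tt N1380 F6614) (tt N1379 (iv D2134)) (tt N3036 D3099) (tt N2869 (iv F9052)))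
theorem Q2073 : ∀ i, i < 2073 → P i := stepQ 2072 Q2072 (allL N2072 (tt N3025 (iv F9524)) (tt N1380 (iv D2135)) (tt N3037 D3100) (tt N2072 F6615) (tt N3035 (iv F9561)) (tt N2680 (iv F8448)) (tt N3038 D3101) (tt N2870 (iv F9053)))
theorem Q2074 : ∀ i, i < 2074 → P i := stepQ 2073 Q2073 (allL N2073 (tt N1383 F6616) (tt N3038 (iv F9567)) (tt N2073 F6617) (tt N2073 F6618) (tt N3036 (iv F9564)) (tt N2073 F6619) (tt N1380 (iv D2136)) (tt N3039 D3102))
theorem Q2075 : ∀ i, i < 2075 → P i := stepQ 2074 Q2074 (allL N2074 (tt N3032 (iv F9551)) (tt N1438 F6620) (tt N1381 (iv D2137)) (tt N2074 F6621) (tt N2074 F6622) (tt N3040 D3103) (tt N2074 F6623) (tt N3041 D3104))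
theorem Q2076 : ∀ i, i < 2076 → P i := stepQ 2075 Q2075 (allL N2075 (tt N3033 (iv F9556)) (tt N1642 F6624) (tt N3040 (iv F9573)) (tt N1382 F6625) (tt N2075 F6626) (tt N1381 (iv D2138)) (tt N3042 D3105) (tt N3043 D3106))
theorem Q2077 : ∀ i, i < 2077 → P i := stepQ 2076 Q2076 (allL N2076 (tt N3034 (iv F9559)) (tt N1384 F6627) (tt N3041 (iv F9577)) (tt N2873 (iv F9062)) (tt N2076 F6628) (tt N3043 (iv F9585)) (tt N3044 D3107) (tt N1381 (iv D2139)))
theorem Q2078 : ∀ i, i < 2078 → P i := stepQ 2077 Q2077 (allL N2077 (tt N3036 (iv F9562)) (tt N3029 (iv F9538)) (tt N2077 F6629) (tt N3042 (iv F9580)) (tt N1383 F6630) (tt N2077 F6631) (tt N1382 (iv D2140)) (tt N3045 D3108))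
theorem Q2079 : ∀ i, i < 2079 → P i := stepQ 2078 Q2078 (allL N2078 (tt N3039 (iv F9569)) (tt N3031 (iv F9548)) (tt N2078 F6632) (tt N3046 D3109) (tt N3045 (iv F9590)) (tt N2078 F6633) (tt N2875 (iv F9069)) (tt N1383 (iv D2141)))
theorem Q2080 : ∀ i, i < 2080 → P i := stepQ 2079 Q2079 (allL N2079 (tt N2686 (iv F8462)) (tt N3044 (iv F9586)) (tt N1440 F6634) (tt N2876 (iv F9071)) (tt N2079 F6635) (tt N2079 F6636) (tt N1384 (iv D2142)) (tt N2079 F6637))
theorem Q2081 : ∀ i, i < 2081 → P i := stepQ 2080 Q2080 (allL N2080 (tt N2080 F6638) (tt N2877 (iv F9074)) (tt N1386 F6639) (tt N2997 (iv F9433)) (tt N1385 (iv D2143)) (tt N2642 (iv F8334)) (tt N2996 (iv F9430)) (tt N3047 D3110))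
theorem Q2082 : ∀ i, i < 2082 → P i := stepQ 2081 Q2081 (allL N2081 (tt N2081 F6640) (tt N3048 D3111) (tt N1387 F6641) (tt N2688 (iv F8472)) (tt N2642 (iv F8333)) (tt N1385 (iv D2144)) (tt N2687 (iv F8469)) (tt N3049 D3112))
theorem Q2083 : ∀ i, i < 2083 → P i := stepQ 2082 Q2082 (allL N2082 (tt N2082 F6642) (tt N2879 (iv F9077)) (tt N1388 F6643) (tt N3050 D3113) (tt N3047 (iv F9597)) (tt N3049 (iv F9601)) (tt N3051 D3114) (tt N1385 (iv D2145)))
theorem Q2084 : ∀ i, i < 2084 → P i := stepQ 2083 Q2083 (allL N2083 (tt N2083 F6644) (tt N1392 F6645) (tt N3047 (iv F9596)) (tt N3052 D3115) (tt N1388 F6646) (tt N2643 (iv F8339)) (tt N3053 D3116) (tt N1386 (iv D2146)))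
theorem Q2085 : ∀ i, i < 2085 → P i := stepQ 2084 Q2084 (allL N2084 (tt N2084 F6647) (tt N1507 F6648) (tt N3049 (iv F9600)) (tt N3054 D3117) (tt N2643 (iv F8338)) (tt N1388 F6649) (tt N3055 D3118) (tt N1387 (iv D2147)))
theorem Q2086 : ∀ i, i < 2086 → P i := stepQ 2085 Q2085 (allL N2085 (tt N2085 F6650) (tt N1393 F6651) (tt N3056 D3119) (tt N1388 (iv D2148)) (tt N3057 D3120) (tt N3054 (iv F9613)) (tt N3058 D3121) (tt N1390 F6652))
theorem Q2087 : ∀ i, i < 2087 → P i := stepQ 2086 Q2086 (allL N2086 (tt N2086 F6653) (tt N1394 F6654) (tt N3051 (iv F9604)) (tt N3058 (iv F9624)) (tt N3053 (iv F9610)) (tt N3059 D3122) (tt N1388 (iv D2149)) (tt N3002 (iv F9449)))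
theorem Q2088 : ∀ i, i < 2088 → P i := stepQ 2087 Q2087 (allL N2087 (tt N2087 F6655) (tt N1510 F6656) (tt N3060 D3123) (tt N1389 (iv D2150)) (tt N2713 (iv F8557)) (tt N1390 F6657) (tt N2087 F6658) (tt N3054 (iv F9614)))
theorem Q2089 : ∀ i, i < 2089 → P i := stepQ 2088 Q2088 (allL N2088 (tt N2088 F6659) (tt N3061 D3124) (tt N1390 (iv D2151)) (tt N2697 (iv F8504)) (tt N3062 D3125) (tt N3060 (iv F9627)) (tt N3063 D3126) (tt N3056 (iv F9618)))
theorem Q2090 : ∀ i, i < 2090 → P i := stepQ 2089 Q2089 (allL N2089 (tt N2089 F6660) (tt N1396 F6661) (tt N3062 (iv F9631)) (tt N1402 F6662) (tt N1390 (iv D2152)) (tt N2713 (iv F8558)) (tt N1525 (iv F6663)) (tt N3057 (iv F9621)))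
theorem Q2091 : ∀ i, i < 2091 → P i := stepQ 2090 Q2090 (allL N2090 (tt N2090 F6664) (tt N1397 F6665) (tt N3063 (iv F9635)) (tt N1391 F6666) (tt N1525 F6667) (tt N2090 F6668) (tt N1390 (iv D2153)) (tt N2297 (iv F7298)))
theorem Q2092 : ∀ i, i < 2092 → P i := stepQ 2091 Q2091 (allL N2091 (tt N1403 F6669) (tt N3052 (iv F9606)) (tt N3064 D3127) (tt N1392 (iv D2154)) (tt N3014 (iv F9486)) (tt N1512 F6670) (tt N3065 D3128) (tt N1442 F6671))
theorem Q2093 : ∀ i, i < 2093 → P i := stepQ 2092 Q2092 (allL N2092 (tt N1404 F6672) (tt N3053 (iv F9609)) (tt N2894 (iv F9119)) (tt N3065 (iv F9644)) (tt N1394 F6673) (tt N3066 D3129) (tt N1392 (iv D2155)) (tt N3005 (iv F9460)))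
theorem Q2094 : ∀ i, i < 2094 → P i := stepQ 2093 Q2093 (allL N2093 (tt N1405 F6674) (tt N3067 D3130) (tt N1393 (iv D2156)) (tt N2895 (iv F9122)) (tt N3068 D3131) (tt N1514 F6675) (tt N3069 D3132) (tt N1395 F6676))
theorem Q2095 : ∀ i, i < 2095 → P i := stepQ 2094 Q2094 (allL N2094 (tt N1406 F6677) (tt N3057 (iv F9620)) (tt N3068 (iv F9651)) (tt N3014 (iv F9485)) (tt N1393 (iv D2157)) (tt N1401 F6678) (tt N3070 D3133) (tt N1396 F6679))
theorem Q2096 : ∀ i, i < 2096 → P i := stepQ 2095 Q2095 (allL N2095 (tt N1407 F6680) (tt N3058 (iv F9623)) (tt N3069 (iv F9656)) (tt N1394 F6681) (tt N3070 (iv F9658)) (tt N2296 (iv F7291)) (tt N1393 (iv D2158)) (tt N2295 F7289))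
theorem Q2097 : ∀ i, i < 2097 → P i := stepQ 2096 Q2096 (allL N2096 (tt N1408 F6682) (tt N3071 D3134) (tt N2898 (iv F9132)) (tt N2296 F7293) (tt N3066 (iv F9647)) (tt N1394 (iv D2159)) (tt N1516 F6683) (tt N2388 (iv F7552)))
theorem Q2098 : ∀ i, i < 2098 → P i := stepQ 2097 Q2097 (allL N2097 (tt N3072 D3135) (tt N1395 (iv D2160)) (tt N3061 (iv F9629)) (tt N1398 F6684) (tt N3073 D3136) (tt N3074 D3137) (tt N3075 D3138) (tt N3067 (iv F9649)))
theorem Q2099 : ∀ i, i < 2099 → P i := stepQ 2098 Q2098 (allL N2098 (tt N1410 F6685) (tt N3073 (iv F9663)) (tt N1396 F6686) (tt N1523 F6687) (tt N1395 (iv D2161)) (tt N1400 F6688) (tt N1522 (iv F6689)) (tt N3068 (iv F9654)))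
theorem Q2100 : ∀ i, i < 2100 → P i := stepQ 2099 Q2099 (allL N2099 (tt N1411 F6690) (tt N3075 (iv F9668)) (tt N1397 F6691) (tt N1400 F6692) (tt N1522 F6693) (tt N1523 F6694) (tt N1395 (iv D2162)) (tt N2284 (iv F7250)))
theorem Q2101 : ∀ i, i < 2101 → P i := stepQ 2100 Q2100 (allL N2100 (tt N1398 (iv D2163)) (tt N1412 F6695) (tt N2707 (iv F8538)) (tt N3072 (iv F9662)) (tt N3076 D3139) (tt N3077 D3140) (tt N3078 D3141) (tt N2906 (iv F9158)))
theorem Q2102 : ∀ i, i < 2102 → P i := stepQ 2101 Q2101 (allL N2101 (tt N3076 (iv F9671)) (tt N1399 F6696) (tt N2708 (iv F8540)) (tt N1521 (iv F6697)) (tt N1398 (iv D2164)) (tt N3079 D3142) (tt N1517 (iv F6698)) (tt N2907 (iv F9160)))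
theorem Q2103 : ∀ i, i < 2103 → P i := stepQ 2102 Q2102 (allL N2102 (tt N3077 (iv F9675)) (tt N1520 F6699) (tt N2709 (iv F8544)) (tt N3074 (iv F9667)) (tt N3079 (iv F9681)) (tt N1398 (iv D2165)) (tt N3080 D3143) (tt N2908 (iv F9162)))
theorem Q2104 : ∀ i, i < 2104 → P i := stepQ 2103 Q2103 (allL N2103 (tt N3078 (iv F9676)) (tt N1400 F6700) (tt N2710 (iv F8546)) (tt N3075 (iv F9669)) (tt N1517 F6701) (tt N3081 D3144) (tt N1398 (iv D2166)) (tt N3082 D3145))
theorem Q2105 : ∀ i, i < 2105 → P i := stepQ 2104 Q2104 (allL N2104 (tt N1416 F6702) (tt N3082 (iv F9684)) (tt N1401 F6703) (tt N3083 D3146) (tt N1514 F6704) (tt N3068 (iv F9653)) (tt N2913 (iv F9178)) (tt N1400 (iv D2167)))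
theorem Q2106 : ∀ i, i < 2106 → P i := stepQ 2105 Q2105 (allL N2105 (tt N3064 (iv F9638)) (tt N1899 (iv F6709)) (tt N1403 (iv D2168)) (tt N1896 F6705) (tt N1994 F6706) (tt N1527 F6707) (tt N3084 D3147) (tt N1443 F6708))
theorem Q2107 : ∀ i, i < 2107 → P i := stepQ 2106 Q2106 (allL N2106 (tt N3065 (iv F9643)) (tt N2106 F6710) (tt N3084 (iv F9691)) (tt N1404 F6711) (tt N3023 (iv F9519)) (tt N3085 D3148) (tt N1403 (iv D2169)) (tt N2106 F6712))
theorem Q2108 : ∀ i, i < 2108 → P i := stepQ 2107 Q2107 (allL N2107 (tt N3066 (iv F9646)) (tt N2309 (iv F7327)) (tt N2919 (iv F9196)) (tt N3085 (iv F9695)) (tt N1408 F6713) (tt N1404 (iv D2170)) (tt N1529 F6714) (tt N2392 (iv F7569)))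
theorem Q2109 : ∀ i, i < 2109 → P i := stepQ 2108 Q2108 (allL N2108 (tt N3086 D3149) (tt N1405 (iv D2171)) (tt N2108 F6715) (tt N1974 F6716) (tt N1984 (iv F6718)) (tt N2194 (iv F6990)) (tt N3087 D3150) (tt N1409 F6717))
theorem Q2110 : ∀ i, i < 2110 → P i := stepQ 2109 Q2109 (allL N2109 (tt N3068 (iv F9650)) (tt N1984 F6719) (tt N1406 F6720) (tt N1981 F6721) (tt N1405 (iv D2172)) (tt N1416 F6722) (tt N3088 D3151) (tt N1410 F6723))
theorem Q2111 : ∀ i, i < 2111 → P i := stepQ 2110 Q2110 (allL N2110 (tt N3069 (iv F9655)) (tt N3087 (iv F9702)) (tt N1407 F6724) (tt N2920 (iv F9200)) (tt N3088 (iv F9709)) (tt N2289 (iv F7266)) (tt N1405 (iv D2173)) (tt N2288 F7264))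
theorem Q2112 : ∀ i, i < 2112 → P i := stepQ 2111 Q2111 (allL N2111 (tt N3070 (iv F9657)) (tt N2111 F6725) (tt N3088 (iv F9707)) (tt N3023 (iv F9518)) (tt N1407 F6726) (tt N2298 (iv F7301)) (tt N1406 (iv D2174)) (tt N1545 F6727))
theorem Q2113 : ∀ i, i < 2113 → P i := stepQ 2112 Q2112 (allL N2112 (tt N1409 (iv D2175)) (tt N3072 (iv F9661)) (tt N2112 F6728) (tt N1412 F6729) (tt N2265 (iv F7202)) (tt N3089 D3152) (tt N3090 D3153) (tt N3086 (iv F9701)))
theorem Q2114 : ∀ i, i < 2114 → P i := stepQ 2113 Q2113 (allL N2113 (tt N3089 (iv F9711)) (tt N1535 F6730) (tt N2113 F6731) (tt N1414 F6732) (tt N2198 (iv F7009)) (tt N1409 (iv D2176)) (tt N3091 D3154) (tt N2194 (iv F6991)))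
theorem Q2115 : ∀ i, i < 2115 → P i := stepQ 2114 Q2114 (allL N2114 (tt N3090 (iv F9714)) (tt N1411 F6733) (tt N2114 F6734) (tt N1415 F6735) (tt N1539 F6736) (tt N2286 (iv F7259)) (tt N1409 (iv D2177)) (tt N2285 (iv F7254)))
theorem Q2116 : ∀ i, i < 2116 → P i := stepQ 2115 Q2115 (allL N2115 (tt N1413 F6737) (tt N3076 (iv F9672)) (tt N1417 F6738) (tt N1538 (iv F6739)) (tt N1412 (iv D2178)) (tt N3092 D3155) (tt N1534 (iv F6740)) (tt N2931 (iv F9236)))
theorem Q2117 : ∀ i, i < 2117 → P i := stepQ 2116 Q2116 (allL N2116 (tt N1414 F6741) (tt N3093 D3156) (tt N1418 F6742) (tt N3089 (iv F9713)) (tt N3092 (iv F9724)) (tt N1412 (iv D2179)) (tt N3094 D3157) (tt N2932 (iv F9239)))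
theorem Q2118 : ∀ i, i < 2118 → P i := stepQ 2117 Q2117 (allL N2117 (tt N1415 F6743) (tt N3078 (iv F9677)) (tt N1419 F6744) (tt N3090 (iv F9716)) (tt N1534 F6745) (tt N3095 D3158) (tt N1412 (iv D2180)) (tt N3096 D3159))
theorem Q2119 : ∀ i, i < 2119 → P i := stepQ 2118 Q2118 (allL N2118 (tt N3092 (iv F9721)) (tt N1540 F6746) (tt N1420 F6747) (tt N1542 F6748) (tt N1414 F6749) (tt N1413 (iv D2181)) (tt N3097 D3160) (tt N2122 (iv F6763)))
theorem Q2120 : ∀ i, i < 2120 → P i := stepQ 2119 Q2119 (allL N2119 (tt N3094 (iv F9727)) (tt N1541 F6750) (tt N1421 F6751) (tt N3091 (iv F9720)) (tt N3097 (iv F9741)) (tt N3098 D3161) (tt N1414 (iv D2182)) (tt N3099 D3162))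
theorem Q2121 : ∀ i, i < 2121 → P i := stepQ 2120 Q2120 (allL N2120 (tt N3095 (iv F9729)) (tt N2198 (iv F7006)) (tt N1422 F6752) (tt N2286 (iv F7257)) (tt N1535 F6753) (tt N1415 (iv D2183)) (tt N3098 (iv F9745)) (tt N1472 (iv F6754)))
theorem Q2122 : ∀ i, i < 2122 → P i := stepQ 2121 Q2121 (allL N2121 (tt N3096 (iv F9733)) (tt N1416 F6755) (tt N1423 F6756) (tt N1477 F6759) (tt N1530 F6757) (tt N1472 F6758) (tt N2928 (iv F9227)) (tt N1415 (iv D2184)))
theorem Q2123 : ∀ i, i < 2123 → P i := stepQ 2122 Q2122 (allL N2122 (tt N3083 (iv F9686)) (tt N1477 F6760) (tt N1995 F6761) (tt N1416 (iv D2185)) (tt N1982 (iv F6764)) (tt N1981 F6762) (tt N2937 (iv F9252)) (tt N2118 F6763))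
theorem Q2124 : ∀ i, i < 2124 → P i := stepQ 2123 Q2123 (allL N2123 (tt N1420 F6765) (tt N3100 D3163) (tt N3092 (iv F9722)) (tt N1606 F6766) (tt N1418 F6767) (tt N1417 (iv D2186)) (tt N3101 D3164) (tt N2941 (iv F9265)))
theorem Q2125 : ∀ i, i < 2125 → P i := stepQ 2124 Q2124 (allL N2124 (tt N1427 F6768) (tt N1418 (iv D2187)) (tt N3102 D3165) (tt N2124 F6769) (tt N3100 (iv F9753)) (tt N2735 (iv F8635)) (tt N3103 D3166) (tt N2943 (iv F9270)))
theorem Q2126 : ∀ i, i < 2126 → P i := stepQ 2125 Q2125 (allL N2125 (tt N1421 F6770) (tt N3103 (iv F9760)) (tt N3094 (iv F9728)) (tt N2125 F6771) (tt N3101 (iv F9756)) (tt N3104 D3167) (tt N1418 (iv D2188)) (tt N3105 D3168))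
theorem Q2127 : ∀ i, i < 2127 → P i := stepQ 2126 Q2126 (allL N2126 (tt N1422 F6772) (tt N3106 D3169) (tt N3095 (iv F9730)) (tt N2126 F6773) (tt N1602 F6774) (tt N1419 (iv D2189)) (tt N3104 (iv F9765)) (tt N1457 (iv F6775)))
theorem Q2128 : ∀ i, i < 2128 → P i := stepQ 2127 Q2127 (allL N2127 (tt N1423 F6776) (tt N2738 (iv F8642)) (tt N3096 (iv F9734)) (tt N1458 (iv F6779)) (tt N1596 F6777) (tt N1457 F6778) (tt N2903 (iv F9148)) (tt N1419 (iv D2190)))
theorem Q2129 : ∀ i, i < 2129 → P i := stepQ 2128 Q2128 (allL N2128 (tt N3101 (iv F9754)) (tt N1431 F6780) (tt N3097 (iv F9739)) (tt N1608 F6781) (tt N1421 F6782) (tt N1603 F6783) (tt N1420 (iv D2191)) (tt N3107 D3170))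
theorem Q2130 : ∀ i, i < 2130 → P i := stepQ 2129 Q2129 (allL N2129 (tt N3104 (iv F9762)) (tt N2129 F6784) (tt N3098 (iv F9743)) (tt N2129 F6785) (tt N1603 F6786) (tt N1421 (iv D2192)) (tt N1422 F6787) (tt N1468 (iv F6788)))
theorem Q2131 : ∀ i, i < 2131 → P i := stepQ 2130 Q2130 (allL N2130 (tt N3105 (iv F9767)) (tt N1432 F6789) (tt N3099 (iv F9748)) (tt N1469 (iv F6791)) (tt N3107 (iv F9775)) (tt N1468 F6790) (tt N2922 (iv F9205)) (tt N1421 (iv D2193)))
theorem Q2132 : ∀ i, i < 2132 → P i := stepQ 2131 Q2131 (allL N2131 (tt N1429 F6792) (tt N3108 D3171) (tt N2131 F6793) (tt N1426 F6794) (tt N2131 F6795) (tt N1425 (iv D2194)) (tt N3109 D3172) (tt N3110 D3173))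
theorem Q2133 : ∀ i, i < 2133 → P i := stepQ 2132 Q2132 (allL N2132 (tt N1430 F6796) (tt N2746 (iv F8686)) (tt N2132 F6797) (tt N2959 (iv F9315)) (tt N2132 F6798) (tt N3110 (iv F9789)) (tt N3111 D3174) (tt N1425 (iv D2195)))
theorem Q2134 : ∀ i, i < 2134 → P i := stepQ 2133 Q2133 (allL N2133 (tt N3100 (iv F9751)) (tt N1426 (iv D2196)) (tt N3112 D3175) (tt N3108 (iv F9778)) (tt N1427 F6799) (tt N2747 (iv F8689)) (tt N3113 D3176) (tt N2960 (iv F9317)))
theorem Q2135 : ∀ i, i < 2135 → P i := stepQ 2134 Q2134 (allL N2134 (tt N1431 F6800) (tt N3113 (iv F9797)) (tt N1554 F6801) (tt N3109 (iv F9782)) (tt N1428 F6802) (tt N2134 F6803) (tt N1426 (iv D2197)) (tt N3114 D3177))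
theorem Q2136 : ∀ i, i < 2136 → P i := stepQ 2135 Q2135 (allL N2135 (tt N3102 (iv F9758)) (tt N1555 F6804) (tt N1427 (iv D2198)) (tt N3115 D3178) (tt N3112 (iv F9796)) (tt N2749 (iv F8695)) (tt N3116 D3179) (tt N2962 (iv F9323)))
theorem Q2137 : ∀ i, i < 2137 → P i := stepQ 2136 Q2136 (allL N2136 (tt N3103 (iv F9759)) (tt N1428 F6805) (tt N3116 (iv F9806)) (tt N2136 F6806) (tt N3113 (iv F9798)) (tt N3117 D3180) (tt N1427 (iv D2199)) (tt N3118 D3181))
theorem Q2138 : ∀ i, i < 2138 → P i := stepQ 2137 Q2137 (allL N2137 (tt N1432 F6807) (tt N3118 (iv F9809)) (tt N1557 F6808) (tt N3119 D3182) (tt N3114 (iv F9801)) (tt N2137 F6809) (tt N2965 (iv F9332)) (tt N1428 (iv D2200)))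
theorem Q2139 : ∀ i, i < 2139 → P i := stepQ 2138 Q2138 (allL N2138 (tt N3109 (iv F9780)) (tt N1608 F6810) (tt N2138 F6811) (tt N1431 F6812) (tt N2138 F6813) (tt N2138 F6814) (tt N1429 (iv D2201)) (tt N3120 D3183))
theorem Q2140 : ∀ i, i < 2140 → P i := stepQ 2139 Q2139 (allL N2139 (tt N3110 (iv F9785)) (tt N1610 F6815) (tt N2139 F6816) (tt N2059 F6817) (tt N2139 F6818) (tt N1430 F6819) (tt N2055 (iv F6820)) (tt N1429 (iv D2202)))
theorem Q2141 : ∀ i, i < 2141 → P i := stepQ 2140 Q2140 (allL N2140 (tt N3111 (iv F9791)) (tt N1433 F6821) (tt N2140 F6822) (tt N2968 (iv F9341)) (tt N2140 F6823) (tt N3121 D3184) (tt N1430 (iv D2203)) (tt N2140 F6824))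
theorem Q2142 : ∀ i, i < 2142 → P i := stepQ 2141 Q2141 (allL N2141 (tt N3114 (iv F9799)) (tt N3107 (iv F9774)) (tt N1558 F6825) (tt N3122 D3185) (tt N1432 F6826) (tt N2141 F6827) (tt N2969 (iv F9345)) (tt N1431 (iv D2204)))
theorem Q2143 : ∀ i, i < 2143 → P i := stepQ 2142 Q2142 (allL N2142 (tt N3119 (iv F9810)) (tt N1469 F6828) (tt N3123 D3186) (tt N1432 (iv D2205)) (tt N3124 D3187) (tt N2142 F6829) (tt N2924 (iv F9211)) (tt N2142 F6830))
theorem Q2144 : ∀ i, i < 2144 → P i := stepQ 2143 Q2143 (allL N2143 (tt N2143 F6831) (tt N3041 (iv F9576)) (tt N1439 F6832) (tt N3125 D3188) (tt N2143 F6833) (tt N2143 F6834) (tt N3126 D3189) (tt N1438 (iv D2206)))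
theorem Q2145 : ∀ i, i < 2145 → P i := stepQ 2144 Q2144 (allL N2144 (tt N2144 F6835) (tt N1440 F6836) (tt N3126 (iv F9837)) (tt N2144 F6837) (tt N2144 F6838) (tt N3127 D3190) (tt N1439 (iv D2207)) (tt N2144 F6839))
theorem Q2146 : ∀ i, i < 2146 → P i := stepQ 2145 Q2145 (allL N2145 (tt N2145 F6840) (tt N1442 F6841) (tt N3128 D3191) (tt N1441 (iv D2208)) (tt N3013 (iv F9481)) (tt N2644 (iv F8342)) (tt N2145 F6842) (tt N3052 (iv F9607)))
theorem Q2147 : ∀ i, i < 2147 → P i := stepQ 2146 Q2146 (allL N2146 (tt N1443 F6843) (tt N3129 D3192) (tt N1442 (iv D2209)) (tt N2146 F6844) (tt N2379 F7522) (tt N1561 F6845) (tt N2146 F6846) (tt N3064 (iv F9642)))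
theorem Q2148 : ∀ i, i < 2148 → P i := stepQ 2147 Q2147 (allL N2147 (tt N2147 F6847) (tt N1503 F6848) (tt N1445 F6849) (tt N2475 (iv F7833)) (tt N1444 (iv D2210)) (tt N3130 D3193) (tt N2147 F6850) (tt N3131 D3194))
theorem Q2149 : ∀ i, i < 2149 → P i := stepQ 2148 Q2148 (allL N2148 (tt N2148 F6851) (tt N3132 D3195) (tt N1446 F6852) (tt N2148 F6853) (tt N3130 (iv F9852)) (tt N1444 (iv D2211)) (tt N3133 D3196) (tt N3134 D3197))
theorem Q2150 : ∀ i, i < 2150 → P i := stepQ 2149 Q2149 (allL N2149 (tt N2149 F6854) (tt N1505 F6855) (tt N1447 F6856) (tt N3135 D3198) (tt N3131 (iv F9856)) (tt N3134 (iv F9865)) (tt N3136 D3199) (tt N1444 (iv D2212)))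
theorem Q2151 : ∀ i, i < 2151 → P i := stepQ 2150 Q2150 (allL N2150 (tt N2150 F6857) (tt N2880 (iv F9079)) (tt N3130 (iv F9851)) (tt N2150 F6858) (tt N1446 F6859) (tt N1445 (iv D2213)) (tt N3137 D3200) (tt N3138 D3201))
theorem Q2152 : ∀ i, i < 2152 → P i := stepQ 2151 Q2151 (allL N2151 (tt N2151 F6860) (tt N1452 F6861) (tt N3131 (iv F9855)) (tt N3139 D3202) (tt N1447 F6862) (tt N3138 (iv F9879)) (tt N3140 D3203) (tt N1445 (iv D2214)))
theorem Q2153 : ∀ i, i < 2153 → P i := stepQ 2152 Q2152 (allL N2152 (tt N2152 F6863) (tt N2882 (iv F9084)) (tt N3133 (iv F9860)) (tt N1448 F6864) (tt N3137 (iv F9875)) (tt N2152 F6865) (tt N1446 (iv D2215)) (tt N3141 D3204))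
theorem Q2154 : ∀ i, i < 2154 → P i := stepQ 2153 Q2153 (allL N2153 (tt N2153 F6866) (tt N2883 (iv F9086)) (tt N3134 (iv F9864)) (tt N3142 D3205) (tt N3138 (iv F9878)) (tt N1447 F6867) (tt N3143 D3206) (tt N1446 (iv D2216)))
theorem Q2155 : ∀ i, i < 2155 → P i := stepQ 2154 Q2154 (allL N2154 (tt N2154 F6868) (tt N1453 F6869) (tt N3144 D3207) (tt N1447 (iv D2217)) (tt N3145 D3208) (tt N3142 (iv F9890)) (tt N3146 D3209) (tt N1450 F6870))
theorem Q2156 : ∀ i, i < 2156 → P i := stepQ 2155 Q2155 (allL N2155 (tt N2155 F6871) (tt N1454 F6872) (tt N3136 (iv F9871)) (tt N3146 (iv F9900)) (tt N3140 (iv F9885)) (tt N3147 D3210) (tt N1447 (iv D2218)) (tt N2155 F6873))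
theorem Q2157 : ∀ i, i < 2157 → P i := stepQ 2156 Q2156 (allL N2156 (tt N2156 F6874) (tt N2886 (iv F9092)) (tt N2156 F6875) (tt N3148 D3211) (tt N2156 F6876) (tt N2156 F6877) (tt N3149 D3212) (tt N1448 (iv D2219)))
theorem Q2158 : ∀ i, i < 2158 → P i := stepQ 2157 Q2157 (allL N2157 (tt N2157 F6878) (tt N2887 (iv F9096)) (tt N3150 D3213) (tt N1449 (iv D2220)) (tt N3151 D3214) (tt N1450 F6879) (tt N3152 D3215) (tt N3142 (iv F9891)))
theorem Q2159 : ∀ i, i < 2159 → P i := stepQ 2158 Q2158 (allL N2158 (tt N2158 F6880) (tt N2888 (iv F9099)) (tt N2158 F6881) (tt N3152 (iv F9918)) (tt N2158 F6882) (tt N3153 D3216) (tt N1449 (iv D2221)) (tt N3149 (iv F9909)))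
theorem Q2160 : ∀ i, i < 2160 → P i := stepQ 2159 Q2159 (allL N2159 (tt N2159 F6883) (tt N3154 D3217) (tt N1450 (iv D2222)) (tt N2159 F6884) (tt N3155 D3218) (tt N3150 (iv F9913)) (tt N3156 D3219) (tt N3144 (iv F9894)))
theorem Q2161 : ∀ i, i < 2161 → P i := stepQ 2160 Q2160 (allL N2160 (tt N2160 F6885) (tt N1456 F6886) (tt N3155 (iv F9928)) (tt N2160 F6887) (tt N1450 (iv D2223)) (tt N3151 (iv F9916)) (tt N3157 D3220) (tt N3145 (iv F9897)))
theorem Q2162 : ∀ i, i < 2162 → P i := stepQ 2161 Q2161 (allL N2161 (tt N2161 F6888) (tt N1457 F6889) (tt N3156 (iv F9930)) (tt N1451 F6890) (tt N3157 (iv F9935)) (tt N3158 D3221) (tt N1450 (iv D2224)) (tt N3106 (iv F9773)))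
theorem Q2163 : ∀ i, i < 2163 → P i := stepQ 2162 Q2162 (allL N2162 (tt N2162 F6891) (tt N3159 D3222) (tt N2162 F6892) (tt N3158 (iv F9938)) (tt N2162 F6893) (tt N1451 (iv D2225)) (tt N3153 (iv F9923)) (tt N2162 F6894))
theorem Q2164 : ∀ i, i < 2164 → P i := stepQ 2163 Q2163 (allL N2163 (tt N1464 F6895) (tt N3139 (iv F9881)) (tt N3160 D3223) (tt N1452 (iv D2226)) (tt N3161 D3224) (tt N2893 (iv F9114)) (tt N3162 D3225) (tt N2163 F6896))
theorem Q2165 : ∀ i, i < 2165 → P i := stepQ 2164 Q2164 (allL N2164 (tt N1465 F6897) (tt N3140 (iv F9884)) (tt N1513 F6898) (tt N3162 (iv F9956)) (tt N1454 F6899) (tt N3163 D3226) (tt N1452 (iv D2227)) (tt N2164 F6900))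
theorem Q2166 : ∀ i, i < 2166 → P i := stepQ 2165 Q2165 (allL N2165 (tt N1466 F6901) (tt N3164 D3227) (tt N1453 (iv D2228)) (tt N1514 F6902) (tt N3165 D3228) (tt N2895 (iv F9123)) (tt N3166 D3229) (tt N1455 F6903))
theorem Q2167 : ∀ i, i < 2167 → P i := stepQ 2166 Q2166 (allL N2166 (tt N1467 F6904) (tt N3145 (iv F9896)) (tt N3165 (iv F9964)) (tt N3161 (iv F9952)) (tt N1453 (iv D2229)) (tt N2896 (iv F9127)) (tt N3167 D3230) (tt N1456 F6905))
theorem Q2168 : ∀ i, i < 2168 → P i := stepQ 2167 Q2167 (allL N2167 (tt N1468 F6906) (tt N3146 (iv F9899)) (tt N3166 (iv F9969)) (tt N1454 F6907) (tt N3167 (iv F9972)) (tt N3105 (iv F9768)) (tt N1453 (iv D2230)) (tt N3104 F9766))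
theorem Q2169 : ∀ i, i < 2169 → P i := stepQ 2168 Q2168 (allL N2168 (tt N1469 F6908) (tt N3168 D3231) (tt N1516 F6909) (tt N3105 F9769) (tt N3163 (iv F9959)) (tt N1454 (iv D2231)) (tt N2898 (iv F9133)) (tt N2168 F6910))
theorem Q2170 : ∀ i, i < 2170 → P i := stepQ 2169 Q2169 (allL N2169 (tt N3169 D3232) (tt N1455 (iv D2232)) (tt N3154 (iv F9925)) (tt N1459 F6911) (tt N3170 D3233) (tt N3171 D3234) (tt N3172 D3235) (tt N3164 (iv F9962)))
theorem Q2171 : ∀ i, i < 2171 → P i := stepQ 2170 Q2170 (allL N2170 (tt N1471 F6912) (tt N3170 (iv F9977)) (tt N1456 F6913) (tt N3173 D3236) (tt N1455 (iv D2233)) (tt N2900 (iv F9137)) (tt N3174 D3237) (tt N3165 (iv F9967)))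
theorem Q2172 : ∀ i, i < 2172 → P i := stepQ 2171 Q2171 (allL N2171 (tt N1472 F6914) (tt N3172 (iv F9979)) (tt N1457 F6915) (tt N1461 F6916) (tt N3174 (iv F9988)) (tt N3096 (iv F9736)) (tt N1455 (iv D2234)) (tt N3095 F9732))
theorem Q2173 : ∀ i, i < 2173 → P i := stepQ 2172 Q2172 (allL N2172 (tt N1473 F6917) (tt N3157 (iv F9933)) (tt N3174 (iv F9987)) (tt N2172 F6918) (tt N1457 F6919) (tt N1596 (iv F6920)) (tt N1456 (iv D2235)) (tt N1602 (iv F6921)))
theorem Q2174 : ∀ i, i < 2174 → P i := stepQ 2173 Q2173 (allL N2173 (tt N2743 (iv F8670)) (tt N1458 (iv D2236)) (tt N3175 D3238) (tt N2738 F8644) (tt N2173 F6922) (tt N3159 (iv F9940)) (tt N2905 (iv F9155)) (tt N2173 F6923))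
theorem Q2175 : ∀ i, i < 2175 → P i := stepQ 2174 Q2174 (allL N2174 (tt N1459 (iv D2237)) (tt N1474 F6924) (tt N2174 F6925) (tt N3169 (iv F9976)) (tt N2177 (iv F6936)) (tt N3176 D3239) (tt N2175 F6930) (tt N1518 F6926))
theorem Q2176 : ∀ i, i < 2176 → P i := stepQ 2175 Q2175 (allL N2175 (tt N2177 (iv F6933)) (tt N1460 F6927) (tt N2175 F6928) (tt N3177 D3240) (tt N1459 (iv D2238)) (tt N3178 D3241) (tt N2174 (iv F6930)) (tt N1519 F6929))
theorem Q2177 : ∀ i, i < 2177 → P i := stepQ 2176 Q2176 (allL N2176 (tt N3176 (iv F9997)) (tt N2908 (iv F9161)) (tt N2176 F6931) (tt N3171 (iv F9978)) (tt N3178 (iv F10004)) (tt N1459 (iv D2239)) (tt N3179 D3242) (tt N1520 F6932))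
theorem Q2178 : ∀ i, i < 2178 → P i := stepQ 2177 Q2177 (allL N2177 (tt N2175 F6933) (tt N1461 F6934) (tt N2177 F6935) (tt N3172 (iv F9980)) (tt N2174 F6936) (tt N3180 D3243) (tt N1459 (iv D2240)) (tt N2255 (iv F7177)))
theorem Q2179 : ∀ i, i < 2179 → P i := stepQ 2178 Q2178 (allL N2178 (tt N1476 F6937) (tt N3177 (iv F10001)) (tt N2178 F6938) (tt N1460 (iv D2241)) (tt N3173 (iv F9983)) (tt N2910 (iv F9166)) (tt N2191 (iv F6979)) (tt N3181 D3244))
theorem Q2180 : ∀ i, i < 2180 → P i := stepQ 2179 Q2179 (allL N2179 (tt N1477 F6939) (tt N3182 D3245) (tt N1462 F6940) (tt N3096 F9737) (tt N2196 (iv F7001)) (tt N1461 (iv D2242)) (tt N2912 (iv F9174)) (tt N2281 (iv F7244)))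
theorem Q2181 : ∀ i, i < 2181 → P i := stepQ 2180 Q2180 (allL N2180 (tt N2205 (iv F7038)) (tt N1462 (iv D2243)) (tt N3183 D3246) (tt N1463 F6941) (tt N2200 (iv F7017)) (tt N2180 F6942) (tt N2914 (iv F9180)) (tt N2291 (iv F7275)))
theorem Q2182 : ∀ i, i < 2182 → P i := stepQ 2181 Q2181 (allL N2181 (tt N1463 (iv D2244)) (tt N1478 F6943) (tt N3184 D3247) (tt N2205 (iv F7039)) (tt N2181 F6944) (tt N2181 F6945) (tt N2916 (iv F9186)) (tt N2181 F6946))
theorem Q2183 : ∀ i, i < 2183 → P i := stepQ 2182 Q2182 (allL N2182 (tt N3184 (iv F10016)) (tt N3175 (iv F9992)) (tt N1463 (iv D2245)) (tt N3185 D3248) (tt N2182 F6947) (tt N2182 F6948) (tt N2917 (iv F9191)) (tt N2182 F6949))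
theorem Q2184 : ∀ i, i < 2184 → P i := stepQ 2183 Q2183 (allL N2183 (tt N3160 (iv F9945)) (tt N1905 (iv F6953)) (tt N1464 (iv D2246)) (tt N1527 F6950) (tt N1897 (iv F6954)) (tt N1896 F6951) (tt N3186 D3249) (tt N2183 F6952))
theorem Q2185 : ∀ i, i < 2185 → P i := stepQ 2184 Q2184 (allL N2184 (tt N3161 (iv F9950)) (tt N2184 F6955) (tt N1897 F6956) (tt N1467 F6957) (tt N1464 (iv D2247)) (tt N1889 F6958) (tt N3187 D3250) (tt N2184 F6959))
theorem Q2186 : ∀ i, i < 2186 → P i := stepQ 2185 Q2185 (allL N2185 (tt N3162 (iv F9955)) (tt N2185 F6960) (tt N3186 (iv F10022)) (tt N1465 F6961) (tt N3187 (iv F10028)) (tt N3188 D3251) (tt N1464 (iv D2248)) (tt N3189 D3252))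
theorem Q2187 : ∀ i, i < 2187 → P i := stepQ 2186 Q2186 (allL N2186 (tt N3163 (iv F9957)) (tt N3124 (iv F9829)) (tt N1529 F6962) (tt N3188 (iv F10030)) (tt N1469 F6963) (tt N1465 (iv D2249)) (tt N2919 (iv F9198)) (tt N2186 F6964))
theorem Q2188 : ∀ i, i < 2188 → P i := stepQ 2187 Q2187 (allL N2187 (tt N3190 D3253) (tt N1466 (iv D2250)) (tt N2187 F6965) (tt N1530 F6966) (tt N2193 (iv F6986)) (tt N2192 F6982) (tt N3191 D3254) (tt N1470 F6967))
theorem Q2189 : ∀ i, i < 2189 → P i := stepQ 2188 Q2188 (allL N2188 (tt N3165 (iv F9963)) (tt N2193 (iv F6983)) (tt N1467 F6968) (tt N1982 F6969) (tt N1466 (iv D2251)) (tt N1973 F6970) (tt N3192 D3255) (tt N1471 F6971))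
theorem Q2190 : ∀ i, i < 2190 → P i := stepQ 2189 Q2189 (allL N2189 (tt N3166 (iv F9968)) (tt N3191 (iv F10038)) (tt N1468 F6972) (tt N1531 F6973) (tt N3192 (iv F10044)) (tt N3099 (iv F9749)) (tt N1466 (iv D2252)) (tt N3098 F9746))
theorem Q2191 : ∀ i, i < 2191 → P i := stepQ 2190 Q2190 (allL N2190 (tt N3167 (iv F9971)) (tt N2190 F6974) (tt N3192 (iv F10042)) (tt N3187 (iv F10027)) (tt N1468 F6975) (tt N3107 (iv F9776)) (tt N1467 (iv D2253)) (tt N1603 F6976))
theorem Q2192 : ∀ i, i < 2192 → P i := stepQ 2191 Q2191 (allL N2191 (tt N1470 (iv D2254)) (tt N3169 (iv F9975)) (tt N2191 F6977) (tt N1474 F6978) (tt N3193 D3256) (tt N3194 D3257) (tt N2178 F6979) (tt N3190 (iv F10037)))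
theorem Q2193 : ∀ i, i < 2193 → P i := stepQ 2192 Q2192 (allL N2192 (tt N3193 (iv F10046)) (tt N1471 F6980) (tt N2192 F6981) (tt N2195 (iv F6995)) (tt N1470 (iv D2255)) (tt N2187 (iv F6982)) (tt N2194 F6992) (tt N2193 (iv F6987)))
theorem Q2194 : ∀ i, i < 2194 → P i := stepQ 2193 Q2193 (allL N2193 (tt N3194 (iv F10051)) (tt N2188 F6983) (tt N2193 F6984) (tt N1475 F6985) (tt N2187 F6986) (tt N1470 (iv D2256)) (tt N3195 D3258) (tt N2192 F6987))
theorem Q2195 : ∀ i, i < 2195 → P i := stepQ 2194 Q2194 (allL N2194 (tt N3173 (iv F9981)) (tt N2195 (iv F6993)) (tt N2194 F6988) (tt N1471 (iv D2257)) (tt N1476 F6989) (tt N2108 F6990) (tt N2192 (iv F6992)) (tt N2113 F6991))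
theorem Q2196 : ∀ i, i < 2196 → P i := stepQ 2195 Q2195 (allL N2195 (tt N3174 (iv F9986)) (tt N2194 F6993) (tt N1473 F6994) (tt N2192 F6995) (tt N1472 F6996) (tt N1530 F6997) (tt N1471 (iv D2258)) (tt N1535 (iv F6998)))
theorem Q2197 : ∀ i, i < 2197 → P i := stepQ 2196 Q2196 (allL N2196 (tt N1475 F6999) (tt N3196 D3259) (tt N1480 F7000) (tt N3194 (iv F10053)) (tt N2179 F7001) (tt N1474 (iv D2259)) (tt N3197 D3260) (tt N1537 F7002))
theorem Q2198 : ∀ i, i < 2198 → P i := stepQ 2197 Q2197 (allL N2197 (tt N3197 (iv F10064)) (tt N2935 (iv F9246)) (tt N1481 F7003) (tt N3195 (iv F10058)) (tt N1986 F7004) (tt N1985 F7005) (tt N1475 (iv D2260)) (tt N2275 (iv F7227)))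
theorem Q2199 : ∀ i, i < 2199 → P i := stepQ 2198 Q2198 (allL N2198 (tt N3181 (iv F10010)) (tt N2120 F7006) (tt N2198 F7007) (tt N1543 F7008) (tt N2113 F7009) (tt N1544 F7010) (tt N3198 D3261) (tt N1476 (iv D2261)))
theorem Q2200 : ∀ i, i < 2200 → P i := stepQ 2199 Q2199 (allL N2199 (tt N1479 F7011) (tt N3199 D3262) (tt N1478 (iv D2262)) (tt N3028 F9537) (tt N2199 F7012) (tt N1482 F7013) (tt N2939 (iv F9259)) (tt N2199 F7014))
theorem Q2201 : ∀ i, i < 2201 → P i := stepQ 2200 Q2200 (allL N2200 (tt N1485 F7015) (tt N1480 (iv D2263)) (tt N3200 D3263) (tt N2200 F7016) (tt N2180 F7017) (tt N2200 F7018) (tt N3201 D3264) (tt N1547 F7019))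
theorem Q2202 : ∀ i, i < 2202 → P i := stepQ 2201 Q2201 (allL N2201 (tt N1481 F7020) (tt N3201 (iv F10080)) (tt N3197 (iv F10065)) (tt N2201 F7021) (tt N1964 F7022) (tt N1963 F7023) (tt N1480 (iv D2264)) (tt N2251 (iv F7169)))
theorem Q2203 : ∀ i, i < 2203 → P i := stepQ 2202 Q2202 (allL N2202 (tt N2202 F7024) (tt N1482 (iv D2265)) (tt N2202 F7025) (tt N3202 D3265) (tt N2202 F7026) (tt N3203 D3266) (tt N1493 F7027) (tt N2202 F7028))
theorem Q2204 : ∀ i, i < 2204 → P i := stepQ 2203 Q2203 (allL N2203 (tt N1483 F7029) (tt N3202 (iv F10084)) (tt N2007 F7030) (tt N1482 (iv D2266)) (tt N3204 D3267) (tt N3028 (iv F9536)) (tt N1494 F7031) (tt N3027 F9532))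
theorem Q2205 : ∀ i, i < 2205 → P i := stepQ 2204 Q2204 (allL N2204 (tt N3204 (iv F10090)) (tt N2204 F7032) (tt N1904 F7033) (tt N2204 F7034) (tt N1483 (iv D2267)) (tt N1592 F7035) (tt N1495 F7036) (tt N1631 F7037))
theorem Q2206 : ∀ i, i < 2206 → P i := stepQ 2205 Q2205 (allL N2205 (tt N2180 F7038) (tt N1484 (iv D2268)) (tt N3205 D3268) (tt N2181 F7039) (tt N1485 F7040) (tt N2205 F7041) (tt N3206 D3269) (tt N1553 F7042))
theorem Q2207 : ∀ i, i < 2207 → P i := stepQ 2206 Q2206 (allL N2206 (tt N1488 F7043) (tt N3206 (iv F10101)) (tt N2961 (iv F9319)) (tt N1989 F7044) (tt N1486 F7045) (tt N2002 F7046) (tt N1484 (iv D2269)) (tt N3207 D3270))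
theorem Q2208 : ∀ i, i < 2208 → P i := stepQ 2207 Q2207 (allL N2207 (tt N3200 (iv F10075)) (tt N2962 (iv F9322)) (tt N1485 (iv D2270)) (tt N3208 D3271) (tt N3205 (iv F10097)) (tt N2207 F7047) (tt N3209 D3272) (tt N1555 F7048))
theorem Q2209 : ∀ i, i < 2209 → P i := stepQ 2208 Q2208 (allL N2208 (tt N3201 (iv F10079)) (tt N1486 F7049) (tt N3209 (iv F10110)) (tt N2208 F7050) (tt N3206 (iv F10103)) (tt N3210 D3273) (tt N1485 (iv D2271)) (tt N3211 D3274))
theorem Q2210 : ∀ i, i < 2210 → P i := stepQ 2209 Q2209 (allL N2209 (tt N1489 F7051) (tt N3212 D3275) (tt N2964 (iv F9326)) (tt N2209 F7052) (tt N2002 F7053) (tt N1486 (iv D2272)) (tt N1487 F7054) (tt N2367 (iv F7483)))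
theorem Q2211 : ∀ i, i < 2211 → P i := stepQ 2210 Q2210 (allL N2210 (tt N1490 F7055) (tt N3211 (iv F10113)) (tt N2965 (iv F9331)) (tt N2276 (iv F7228)) (tt N3207 (iv F10105)) (tt N2367 (iv F7481)) (tt N1557 F7056) (tt N1486 (iv D2273)))
theorem Q2212 : ∀ i, i < 2212 → P i := stepQ 2211 Q2211 (allL N2211 (tt N1755 F7057) (tt N1487 (iv D2274)) (tt N3213 D3276) (tt N2211 F7058) (tt N1756 F7059) (tt N2211 F7060) (tt N3212 (iv F10118)) (tt N2211 F7061))
theorem Q2213 : ∀ i, i < 2213 → P i := stepQ 2212 Q2212 (allL N2212 (tt N3207 (iv F10104)) (tt N1988 F7062) (tt N2969 (iv F9342)) (tt N2799 (iv F8853)) (tt N1490 F7063) (tt N2004 F7064) (tt N1558 F7065) (tt N1488 (iv D2275)))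
theorem Q2214 : ∀ i, i < 2214 → P i := stepQ 2213 Q2213 (allL N2213 (tt N1748 F7066) (tt N1491 (iv D2276)) (tt N2213 F7067) (tt N3214 D3277) (tt N1745 F7068) (tt N3215 D3278) (tt N1743 F7069) (tt N2213 F7070))
theorem Q2215 : ∀ i, i < 2215 → P i := stepQ 2214 Q2214 (allL N2214 (tt N1492 F7071) (tt N3214 (iv F10124)) (tt N1494 F7072) (tt N1491 (iv D2277)) (tt N2868 (iv F9046)) (tt N2978 (iv F9374)) (tt N2007 F7073) (tt N3216 D3279))
theorem Q2216 : ∀ i, i < 2216 → P i := stepQ 2215 Q2215 (allL N2215 (tt N3216 (iv F10130)) (tt N2019 F7074) (tt N1496 F7075) (tt N2215 F7076) (tt N2873 (iv F9063)) (tt N2979 (iv F9377)) (tt N3217 D3280) (tt N1492 (iv D2278)))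
theorem Q2217 : ∀ i, i < 2217 → P i := stepQ 2216 Q2216 (allL N2216 (tt N2216 F7077) (tt N1494 F7078) (tt N3218 D3281) (tt N1493 (iv D2279)) (tt N3219 D3282) (tt N3220 D3283) (tt N3202 (iv F10085)) (tt N3221 D3284))
theorem Q2218 : ∀ i, i < 2218 → P i := stepQ 2217 Q2217 (allL N2217 (tt N2217 F7079) (tt N2981 (iv F9381)) (tt N2217 F7080) (tt N3220 (iv F10143)) (tt N2217 F7081) (tt N1493 (iv D2280)) (tt N3222 D3285) (tt N1498 F7082))
theorem Q2219 : ∀ i, i < 2219 → P i := stepQ 2218 Q2218 (allL N2218 (tt N1495 F7083) (tt N3219 (iv F10140)) (tt N2868 F9048) (tt N2218 F7084) (tt N1494 (iv D2281)) (tt N2982 (iv F9386)) (tt N3204 (iv F10094)) (tt N3223 D3286))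
theorem Q2220 : ∀ i, i < 2220 → P i := stepQ 2219 Q2219 (allL N2219 (tt N1496 F7085) (tt N3221 (iv F10145)) (tt N3216 (iv F10131)) (tt N1500 F7086) (tt N3223 (iv F10151)) (tt N2983 (iv F9389)) (tt N3224 D3287) (tt N1494 (iv D2282)))
theorem Q2221 : ∀ i, i < 2221 → P i := stepQ 2220 Q2220 (allL N2220 (tt N3223 (iv F10150)) (tt N2220 F7087) (tt N2873 (iv F9061)) (tt N3225 D3288) (tt N1496 F7088) (tt N2984 (iv F9392)) (tt N3226 D3289) (tt N1495 (iv D2283)))
theorem Q2222 : ∀ i, i < 2222 → P i := stepQ 2221 Q2221 (allL N2221 (tt N3224 (iv F10152)) (tt N2221 F7089) (tt N3217 (iv F10134)) (tt N1502 F7090) (tt N3226 (iv F10158)) (tt N3031 (iv F9549)) (tt N1496 (iv D2284)) (tt N3030 F9547))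
theorem Q2223 : ∀ i, i < 2223 → P i := stepQ 2222 Q2222 (allL N2222 (tt N2222 F7091) (tt N2222 F7092) (tt N1497 (iv D2285)) (tt N2222 F7093) (tt N3227 D3290) (tt N3228 D3291) (tt N2222 F7094) (tt N3229 D3292))
theorem Q2224 : ∀ i, i < 2224 → P i := stepQ 2223 Q2223 (allL N2223 (tt N2223 F7095) (tt N1499 F7096) (tt N3227 (iv F10162)) (tt N2223 F7097) (tt N1497 (iv D2286)) (tt N3230 D3293) (tt N2223 F7098) (tt N3231 D3294))
theorem Q2225 : ∀ i, i < 2225 → P i := stepQ 2224 Q2224 (allL N2224 (tt N2224 F7099) (tt N2988 (iv F9403)) (tt N3228 (iv F10165)) (tt N1498 F7100) (tt N3230 (iv F10172)) (tt N1497 (iv D2287)) (tt N3232 D3295) (tt N3233 D3296))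
theorem Q2226 : ∀ i, i < 2226 → P i := stepQ 2225 Q2225 (allL N2225 (tt N2225 F7101) (tt N1500 F7102) (tt N3229 (iv F10169)) (tt N3221 (iv F10146)) (tt N3231 (iv F10175)) (tt N3233 (iv F10180)) (tt N3234 D3297) (tt N1497 (iv D2288)))
theorem Q2227 : ∀ i, i < 2227 → P i := stepQ 2226 Q2226 (allL N2226 (tt N2226 F7103) (tt N2990 (iv F9408)) (tt N2226 F7104) (tt N3232 (iv F10177)) (tt N2226 F7105) (tt N2226 F7106) (tt N1498 (iv D2289)) (tt N3235 D3298))
theorem Q2228 : ∀ i, i < 2228 → P i := stepQ 2227 Q2227 (allL N2227 (tt N1501 F7107) (tt N3231 (iv F10174)) (tt N2227 F7108) (tt N3236 D3299) (tt N1500 F7109) (tt N2991 (iv F9414)) (tt N3237 D3300) (tt N1499 (iv D2290)))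
theorem Q2229 : ∀ i, i < 2229 → P i := stepQ 2228 Q2228 (allL N2228 (tt N1502 F7110) (tt N3234 (iv F10182)) (tt N2228 F7111) (tt N3224 (iv F10153)) (tt N3237 (iv F10192)) (tt N3238 D3301) (tt N1500 (iv D2291)) (tt N2228 F7112))
theorem Q2230 : ∀ i, i < 2230 → P i := stepQ 2229 Q2229 (allL N2229 (tt N3236 (iv F10188)) (tt N2229 F7113) (tt N3239 D3302) (tt N1501 (iv D2292)) (tt N3225 (iv F10155)) (tt N2993 (iv F9419)) (tt N3240 D3303) (tt N2229 F7114))
theorem Q2231 : ∀ i, i < 2231 → P i := stepQ 2230 Q2230 (allL N2230 (tt N3237 (iv F10190)) (tt N2230 F7115) (tt N2230 F7116) (tt N3240 (iv F10200)) (tt N1502 F7117) (tt N3241 D3304) (tt N1501 (iv D2293)) (tt N2230 F7118))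
theorem Q2232 : ∀ i, i < 2232 → P i := stepQ 2231 Q2231 (allL N2231 (tt N3238 (iv F10194)) (tt N3046 (iv F9592)) (tt N2231 F7119) (tt N3031 F9550) (tt N3241 (iv F10202)) (tt N1502 (iv D2294)) (tt N2995 (iv F9426)) (tt N2231 F7120))
theorem Q2233 : ∀ i, i < 2233 → P i := stepQ 2232 Q2232 (allL N2232 (tt N1563 F7121) (tt N3131 (iv F9854)) (tt N1506 F7122) (tt N3242 D3305) (tt N1505 F7123) (tt N2491 (iv F7890)) (tt N3243 D3306) (tt N1503 (iv D2295)))
theorem Q2234 : ∀ i, i < 2234 → P i := stepQ 2233 Q2233 (allL N2233 (tt N3244 D3307) (tt N1504 (iv D2296)) (tt N3048 (iv F9598)) (tt N2233 F7124) (tt N2488 F7881) (tt N3132 (iv F9858)) (tt N2524 (iv F7974)) (tt N3245 D3308))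
theorem Q2235 : ∀ i, i < 2235 → P i := stepQ 2234 Q2234 (allL N2234 (tt N1565 F7125) (tt N3245 (iv F10212)) (tt N1507 F7126) (tt N3246 D3309) (tt N2491 (iv F7889)) (tt N1505 F7127) (tt N3247 D3310) (tt N1504 (iv D2297)))
theorem Q2236 : ∀ i, i < 2236 → P i := stepQ 2235 Q2235 (allL N2235 (tt N1566 F7128) (tt N3135 (iv F9867)) (tt N3248 D3311) (tt N1505 (iv D2298)) (tt N3249 D3312) (tt N3246 (iv F10214)) (tt N3250 D3313) (tt N2235 F7129))
theorem Q2237 : ∀ i, i < 2237 → P i := stepQ 2236 Q2236 (allL N2236 (tt N1567 F7130) (tt N3136 (iv F9870)) (tt N1509 F7131) (tt N3250 (iv F10224)) (tt N3243 (iv F10207)) (tt N3251 D3314) (tt N1505 (iv D2299)) (tt N2236 F7132))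
theorem Q2238 : ∀ i, i < 2238 → P i := stepQ 2237 Q2237 (allL N2237 (tt N1568 F7133) (tt N1512 F7134) (tt N3252 D3315) (tt N1506 (iv D2300)) (tt N2655 (iv F8379)) (tt N2646 (iv F8350)) (tt N3253 D3316) (tt N1560 F7135))
theorem Q2239 : ∀ i, i < 2239 → P i := stepQ 2238 Q2238 (allL N2238 (tt N1569 F7136) (tt N1513 F7137) (tt N3243 (iv F10206)) (tt N3253 (iv F10232)) (tt N1509 F7138) (tt N3254 D3317) (tt N1506 (iv D2301)) (tt N2238 F7139))
theorem Q2240 : ∀ i, i < 2240 → P i := stepQ 2239 Q2239 (allL N2239 (tt N1570 F7140) (tt N3054 (iv F9612)) (tt N3255 D3318) (tt N1507 (iv D2302)) (tt N2714 (iv F8561)) (tt N1508 F7141) (tt N3256 D3319) (tt N1510 F7142))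
theorem Q2241 : ∀ i, i < 2241 → P i := stepQ 2240 Q2240 (allL N2240 (tt N1571 F7143) (tt N3055 (iv F9616)) (tt N3247 (iv F10217)) (tt N3256 (iv F10240)) (tt N2647 (iv F8353)) (tt N3257 D3320) (tt N1507 (iv D2303)) (tt N2699 (iv F8514)))
theorem Q2242 : ∀ i, i < 2242 → P i := stepQ 2241 Q2241 (allL N2241 (tt N1572 F7144) (tt N3258 D3321) (tt N1508 (iv D2304)) (tt N3248 (iv F10219)) (tt N2712 (iv F8554)) (tt N3255 (iv F10237)) (tt N3259 D3322) (tt N1511 F7145))
theorem Q2243 : ∀ i, i < 2243 → P i := stepQ 2242 Q2242 (allL N2242 (tt N1573 F7146) (tt N1515 F7147) (tt N3259 (iv F10247)) (tt N1509 F7148) (tt N2543 (iv F8028)) (tt N3260 D3323) (tt N1508 (iv D2305)) (tt N2541 (iv F8022)))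
theorem Q2244 : ∀ i, i < 2244 → P i := stepQ 2243 Q2243 (allL N2243 (tt N1574 F7149) (tt N3261 D3324) (tt N3251 (iv F10226)) (tt N3260 (iv F10249)) (tt N3254 (iv F10234)) (tt N1509 (iv D2306)) (tt N3257 (iv F10243)) (tt N2243 F7150))
theorem Q2245 : ∀ i, i < 2245 → P i := stepQ 2244 Q2244 (allL N2244 (tt N1575 F7151) (tt N3262 D3325) (tt N1510 (iv D2307)) (tt N2244 F7152) (tt N2711 (iv F8550)) (tt N1511 F7153) (tt N2244 F7154) (tt N3255 (iv F10238)))
theorem Q2246 : ∀ i, i < 2246 → P i := stepQ 2245 Q2245 (allL N2245 (tt N3263 D3326) (tt N1511 (iv D2308)) (tt N1517 F7155) (tt N2245 F7156) (tt N2710 (iv F8547)) (tt N3264 D3327) (tt N2708 F8542) (tt N3258 (iv F10245)))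
theorem Q2247 : ∀ i, i < 2247 → P i := stepQ 2246 Q2246 (allL N2246 (tt N1527 F7157) (tt N3265 D3328) (tt N1512 (iv D2309)) (tt N3160 (iv F9946)) (tt N3012 (iv F9477)) (tt N3064 (iv F9641)) (tt N3266 D3329) (tt N1561 F7158))
theorem Q2248 : ∀ i, i < 2248 → P i := stepQ 2247 Q2247 (allL N2247 (tt N1528 F7159) (tt N3253 (iv F10231)) (tt N3266 (iv F10261)) (tt N1513 F7160) (tt N2836 (iv F8958)) (tt N3267 D3330) (tt N1512 (iv D2310)) (tt N2834 (iv F8952)))
theorem Q2249 : ∀ i, i < 2249 → P i := stepQ 2248 Q2248 (allL N2248 (tt N1529 F7161) (tt N3268 D3331) (tt N3163 (iv F9958)) (tt N3267 (iv F10263)) (tt N1516 F7162) (tt N1513 (iv D2311)) (tt N3066 (iv F9648)) (tt N2248 F7163))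
theorem Q2250 : ∀ i, i < 2250 → P i := stepQ 2249 Q2249 (allL N2249 (tt N3269 D3332) (tt N1514 (iv D2312)) (tt N3258 (iv F10244)) (tt N3164 (iv F9961)) (tt N3082 (iv F9685)) (tt N3270 D3333) (tt N3271 D3334) (tt N1517 F7164))
theorem Q2251 : ∀ i, i < 2251 → P i := stepQ 2250 Q2250 (allL N2250 (tt N1531 F7165) (tt N3271 (iv F10269)) (tt N1515 F7166) (tt N3166 (iv F9970)) (tt N2913 (iv F9177)) (tt N3272 D3335) (tt N1514 (iv D2313)) (tt N2911 (iv F9171)))
theorem Q2252 : ∀ i, i < 2252 → P i := stepQ 2251 Q2251 (allL N2251 (tt N1532 F7167) (tt N3273 D3336) (tt N3272 (iv F10271)) (tt N1516 F7168) (tt N2915 (iv F9182)) (tt N1515 (iv D2314)) (tt N2296 (iv F7292)) (tt N2201 F7169))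
theorem Q2253 : ∀ i, i < 2253 → P i := stepQ 2252 Q2252 (allL N2252 (tt N3274 D3337) (tt N1516 (iv D2315)) (tt N3275 D3338) (tt N3273 (iv F10274)) (tt N3268 (iv F10264)) (tt N3261 (iv F10250)) (tt N3071 (iv F9660)) (tt N2252 F7170))
theorem Q2254 : ∀ i, i < 2254 → P i := stepQ 2253 Q2253 (allL N2253 (tt N1517 (iv D2316)) (tt N1534 F7171) (tt N3263 (iv F10255)) (tt N1518 F7172) (tt N3078 (iv F9678)) (tt N3276 D3339) (tt N3076 F9674) (tt N3269 (iv F10267)))
theorem Q2255 : ∀ i, i < 2255 → P i := stepQ 2254 Q2254 (allL N2254 (tt N3276 (iv F10280)) (tt N3074 (iv F9666)) (tt N3264 (iv F10257)) (tt N1520 F7173) (tt N3081 (iv F9683)) (tt N1517 (iv D2317)) (tt N3277 D3340) (tt N3270 (iv F10268)))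
theorem Q2256 : ∀ i, i < 2256 → P i := stepQ 2255 Q2255 (allL N2255 (tt N1519 F7174) (tt N1536 F7175) (tt N2255 F7176) (tt N3278 D3341) (tt N1518 (iv D2318)) (tt N3279 D3342) (tt N2263 (iv F7196)) (tt N2177 F7177))
theorem Q2257 : ∀ i, i < 2257 → P i := stepQ 2256 Q2256 (allL N2256 (tt N1520 F7178) (tt N3280 D3343) (tt N2256 F7179) (tt N3276 (iv F10281)) (tt N3279 (iv F10287)) (tt N1518 (iv D2319)) (tt N3281 D3344) (tt N3176 (iv F9999)))
theorem Q2258 : ∀ i, i < 2258 → P i := stepQ 2257 Q2257 (allL N2257 (tt N1521 F7180) (tt N1538 F7181) (tt N2257 F7182) (tt N3076 F9673) (tt N2263 (iv F7195)) (tt N3282 D3345) (tt N1518 (iv D2320)) (tt N2260 (iv F7189)))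
theorem Q2259 : ∀ i, i < 2259 → P i := stepQ 2258 Q2258 (allL N2258 (tt N3278 (iv F10283)) (tt N1522 F7183) (tt N3283 D3346) (tt N1519 (iv D2321)) (tt N3075 (iv F9670)) (tt N3284 D3347) (tt N3073 F9665) (tt N3285 D3348))
theorem Q2260 : ∀ i, i < 2260 → P i := stepQ 2259 Q2259 (allL N2259 (tt N3279 (iv F10285)) (tt N3079 (iv F9679)) (tt N2259 F7184) (tt N3284 (iv F10297)) (tt N1520 F7185) (tt N1519 (iv D2322)) (tt N3286 D3349) (tt N3178 (iv F10005)))
theorem Q2261 : ∀ i, i < 2261 → P i := stepQ 2260 Q2260 (allL N2260 (tt N2263 (iv F7192)) (tt N1523 F7186) (tt N2260 F7187) (tt N3073 (iv F9664)) (tt N1521 F7188) (tt N3287 D3350) (tt N1519 (iv D2323)) (tt N2257 F7189))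
theorem Q2262 : ∀ i, i < 2262 → P i := stepQ 2261 Q2261 (allL N2261 (tt N3281 (iv F10290)) (tt N3080 (iv F9682)) (tt N2261 F7190) (tt N3277 (iv F10282)) (tt N3286 (iv F10300)) (tt N3288 D3351) (tt N1520 (iv D2324)) (tt N3289 D3352))
theorem Q2263 : ∀ i, i < 2263 → P i := stepQ 2262 Q2262 (allL N2262 (tt N3282 (iv F10292)) (tt N3284 (iv F10296)) (tt N2262 F7191) (tt N3079 (iv F9680)) (tt N3287 (iv F10302)) (tt N1521 (iv D2325)) (tt N3288 (iv F10305)) (tt N3290 D3353))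
theorem Q2264 : ∀ i, i < 2264 → P i := stepQ 2263 Q2263 (allL N2263 (tt N2260 F7192) (tt N1524 F7193) (tt N2263 F7194) (tt N3291 D3354) (tt N2257 F7195) (tt N3290 (iv F10310)) (tt N2255 F7196) (tt N1521 (iv D2326)))
theorem Q2265 : ∀ i, i < 2265 → P i := stepQ 2264 Q2264 (allL N2264 (tt N1543 F7197) (tt N3285 (iv F10298)) (tt N1526 F7198) (tt N3181 (iv F10012)) (tt N2284 (iv F7249)) (tt N1524 F7199) (tt N3292 D3355) (tt N1522 (iv D2327)))
theorem Q2266 : ∀ i, i < 2266 → P i := stepQ 2265 Q2265 (allL N2265 (tt N1544 F7200) (tt N3291 (iv F10312)) (tt N2265 F7201) (tt N1524 (iv D2328)) (tt N2112 F7202) (tt N3181 (iv F10014)) (tt N2280 (iv F7240)) (tt N2910 (iv F9167)))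
theorem Q2267 : ∀ i, i < 2267 → P i := stepQ 2266 Q2266 (allL N2266 (tt N2266 F7203) (tt N3283 (iv F10294)) (tt N1525 (iv D2329)) (tt N2266 F7204) (tt N3063 (iv F9636)) (tt N2266 F7205) (tt N3062 F9633) (tt N3293 D3356))
theorem Q2268 : ∀ i, i < 2268 → P i := stepQ 2267 Q2267 (allL N2267 (tt N2267 F7206) (tt N1526 F7207) (tt N3293 (iv F10318)) (tt N2267 F7208) (tt N2297 (iv F7296)) (tt N2267 F7209) (tt N3294 D3357) (tt N1525 (iv D2330)))
theorem Q2269 : ∀ i, i < 2269 → P i := stepQ 2268 Q2268 (allL N2268 (tt N1545 F7210) (tt N3294 (iv F10321)) (tt N3292 (iv F10316)) (tt N2268 F7211) (tt N2295 (iv F7287)) (tt N2292 (iv F7279)) (tt N1526 (iv D2331)) (tt N3070 (iv F9659)))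
theorem Q2270 : ∀ i, i < 2270 → P i := stepQ 2269 Q2269 (allL N2269 (tt N3295 D3358) (tt N1527 (iv D2332)) (tt N1592 F7212) (tt N1905 F7213) (tt N2012 F7214) (tt N1904 F7215) (tt N3296 D3359) (tt N1562 F7216))
theorem Q2271 : ∀ i, i < 2271 → P i := stepQ 2270 Q2270 (allL N2270 (tt N3266 (iv F10260)) (tt N3296 (iv F10328)) (tt N1528 F7217) (tt N3186 (iv F10023)) (tt N2854 (iv F9002)) (tt N3297 D3360) (tt N1527 (iv D2333)) (tt N2852 (iv F8998)))
theorem Q2272 : ∀ i, i < 2272 → P i := stepQ 2271 Q2271 (allL N2271 (tt N3267 (iv F10262)) (tt N3298 D3361) (tt N3297 (iv F10332)) (tt N1529 F7218) (tt N2856 (iv F9011)) (tt N1528 (iv D2334)) (tt N3085 (iv F9696)) (tt N2855 (iv F9008)))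
theorem Q2273 : ∀ i, i < 2273 → P i := stepQ 2272 Q2272 (allL N2272 (tt N3299 D3362) (tt N1529 (iv D2335)) (tt N3300 D3363) (tt N3298 (iv F10333)) (tt N1533 F7219) (tt N1595 F7220) (tt N2309 (iv F7329)) (tt N2272 F7221))
theorem Q2274 : ∀ i, i < 2274 → P i := stepQ 2273 Q2273 (allL N2273 (tt N1530 (iv D2336)) (tt N3269 (iv F10266)) (tt N1596 F7222) (tt N3190 (iv F10036)) (tt N3096 (iv F9735)) (tt N3174 F9989) (tt N3301 D3364) (tt N1534 F7223))
theorem Q2275 : ∀ i, i < 2275 → P i := stepQ 2274 Q2274 (allL N2274 (tt N3301 (iv F10343)) (tt N1531 F7224) (tt N1597 F7225) (tt N3191 (iv F10040)) (tt N2928 (iv F9226)) (tt N2927 (iv F9223)) (tt N1530 (iv D2337)) (tt N2934 (iv F9245)))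
theorem Q2276 : ∀ i, i < 2276 → P i := stepQ 2275 Q2275 (allL N2275 (tt N3272 (iv F10270)) (tt N3302 D3365) (tt N1532 F7226) (tt N3099 F9750) (tt N2938 (iv F9254)) (tt N1531 (iv D2338)) (tt N2289 (iv F7267)) (tt N2197 F7227))
theorem Q2277 : ∀ i, i < 2277 → P i := stepQ 2276 Q2276 (allL N2276 (tt N1533 (iv D2339)) (tt N3274 (iv F10276)) (tt N3303 D3366) (tt N2210 F7228) (tt N3299 (iv F10337)) (tt N1600 F7229) (tt N2306 (iv F7320)) (tt N2276 F7230))
theorem Q2278 : ∀ i, i < 2278 → P i := stepQ 2277 Q2277 (allL N2277 (tt N3303 (iv F10350)) (tt N3123 (iv F9825)) (tt N1533 (iv D2340)) (tt N3304 D3367) (tt N3300 (iv F10340)) (tt N1601 F7231) (tt N2308 (iv F7325)) (tt N2277 F7232))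
theorem Q2279 : ∀ i, i < 2279 → P i := stepQ 2278 Q2278 (allL N2278 (tt N1535 F7233) (tt N3305 D3368) (tt N1602 F7234) (tt N1537 F7235) (tt N3095 (iv F9731)) (tt N1534 (iv D2341)) (tt N3306 D3369) (tt N3174 F9990))
theorem Q2280 : ∀ i, i < 2280 → P i := stepQ 2279 Q2279 (allL N2279 (tt N3306 (iv F10359)) (tt N3091 (iv F9718)) (tt N1603 F7236) (tt N1541 F7237) (tt N3098 (iv F9744)) (tt N3097 (iv F9742)) (tt N1535 (iv D2342)) (tt N3192 (iv F10045)))
theorem Q2281 : ∀ i, i < 2281 → P i := stepQ 2280 Q2280 (allL N2280 (tt N1539 F7238) (tt N3278 (iv F10284)) (tt N2280 F7239) (tt N1536 (iv D2343)) (tt N3090 (iv F9717)) (tt N3307 D3370) (tt N2265 F7240) (tt N3308 D3371))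
theorem Q2282 : ∀ i, i < 2282 → P i := stepQ 2281 Q2281 (allL N2281 (tt N1540 F7241) (tt N3309 D3372) (tt N1546 F7242) (tt N3307 (iv F10364)) (tt N1537 F7243) (tt N1536 (iv D2344)) (tt N3310 D3373) (tt N2179 F7244))
theorem Q2283 : ∀ i, i < 2283 → P i := stepQ 2282 Q2282 (allL N2282 (tt N3093 (iv F9726)) (tt N1537 (iv D2345)) (tt N3311 D3374) (tt N3305 (iv F10358)) (tt N3309 (iv F10371)) (tt N3280 (iv F10289)) (tt N3312 D3375) (tt N3196 (iv F10063)))
theorem Q2284 : ∀ i, i < 2284 → P i := stepQ 2283 Q2283 (allL N2283 (tt N1541 F7245) (tt N3312 (iv F10378)) (tt N1548 F7246) (tt N3306 (iv F10361)) (tt N3310 (iv F10375)) (tt N3313 D3376) (tt N1537 (iv D2346)) (tt N3314 D3377))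
theorem Q2285 : ∀ i, i < 2285 → P i := stepQ 2284 Q2284 (allL N2284 (tt N1542 F7247) (tt N3315 D3378) (tt N1549 F7248) (tt N3092 (iv F9723)) (tt N2264 F7249) (tt N1538 (iv D2347)) (tt N3313 (iv F10382)) (tt N2099 F7250))
theorem Q2286 : ∀ i, i < 2286 → P i := stepQ 2285 Q2285 (allL N2285 (tt N3307 (iv F10362)) (tt N1542 F7251) (tt N2285 F7252) (tt N1540 F7253) (tt N2286 (iv F7258)) (tt N1539 (iv D2348)) (tt N3316 D3379) (tt N2114 F7254))
theorem Q2287 : ∀ i, i < 2287 → P i := stepQ 2286 Q2286 (allL N2286 (tt N3308 (iv F10366)) (tt N1543 F7255) (tt N2286 F7256) (tt N2120 F7257) (tt N2285 F7258) (tt N2114 F7259) (tt N3317 D3380) (tt N1539 (iv D2349)))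
theorem Q2288 : ∀ i, i < 2288 → P i := stepQ 2287 Q2287 (allL N2287 (tt N3310 (iv F10373)) (tt N3097 (iv F9738)) (tt N1550 F7260) (tt N3316 (iv F10392)) (tt N1541 F7261) (tt N2290 (iv F7270)) (tt N1540 (iv D2350)) (tt N3318 D3381))
theorem Q2289 : ∀ i, i < 2289 → P i := stepQ 2288 Q2288 (allL N2288 (tt N3313 (iv F10379)) (tt N3316 (iv F10390)) (tt N1551 F7262) (tt N3097 (iv F9740)) (tt N2290 (iv F7269)) (tt N1541 (iv D2351)) (tt N1542 F7263) (tt N2110 (iv F7264)))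
theorem Q2290 : ∀ i, i < 2290 → P i := stepQ 2289 Q2289 (allL N2289 (tt N3314 (iv F10384)) (tt N3099 (iv F9747)) (tt N1552 F7265) (tt N3302 (iv F10346)) (tt N3318 (iv F10402)) (tt N2110 F7266) (tt N2275 F7267) (tt N1541 (iv D2352)))
theorem Q2291 : ∀ i, i < 2291 → P i := stepQ 2290 Q2290 (allL N2290 (tt N3292 (iv F10315)) (tt N3317 (iv F10395)) (tt N1545 F7268) (tt N3198 (iv F10070)) (tt N2288 F7269) (tt N2287 F7270) (tt N1543 (iv D2353)) (tt N3088 (iv F9710)))
theorem Q2292 : ∀ i, i < 2292 → P i := stepQ 2291 Q2291 (allL N2291 (tt N1553 F7271) (tt N1546 (iv D2354)) (tt N3319 D3382) (tt N2291 F7272) (tt N1547 F7273) (tt N2291 F7274) (tt N3320 D3383) (tt N2180 F7275))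
theorem Q2293 : ∀ i, i < 2293 → P i := stepQ 2292 Q2292 (allL N2292 (tt N1550 F7276) (tt N3320 (iv F10410)) (tt N3310 (iv F10374)) (tt N2292 F7277) (tt N1548 F7278) (tt N2268 F7279) (tt N1546 (iv D2355)) (tt N3321 D3384))
theorem Q2294 : ∀ i, i < 2294 → P i := stepQ 2293 Q2293 (allL N2293 (tt N1555 F7280) (tt N3311 (iv F10377)) (tt N1547 (iv D2356)) (tt N3322 D3385) (tt N3319 (iv F10406)) (tt N2293 F7281) (tt N3323 D3386) (tt N3200 (iv F10078)))
theorem Q2295 : ∀ i, i < 2295 → P i := stepQ 2294 Q2294 (allL N2294 (tt N1556 F7282) (tt N1548 F7283) (tt N3323 (iv F10421)) (tt N1614 F7284) (tt N3320 (iv F10412)) (tt N3324 D3387) (tt N1547 (iv D2357)) (tt N3325 D3388))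
theorem Q2296 : ∀ i, i < 2296 → P i := stepQ 2295 Q2295 (allL N2295 (tt N1551 F7285) (tt N3326 D3389) (tt N3313 (iv F10380)) (tt N1615 F7286) (tt N2268 F7287) (tt N1548 (iv D2358)) (tt N1549 F7288) (tt N2095 (iv F7289)))
theorem Q2297 : ∀ i, i < 2297 → P i := stepQ 2296 Q2296 (allL N2296 (tt N1552 F7290) (tt N3325 (iv F10426)) (tt N3314 (iv F10385)) (tt N2096 (iv F7293)) (tt N3321 (iv F10414)) (tt N2095 F7291) (tt N2251 F7292) (tt N1548 (iv D2359)))
theorem Q2298 : ∀ i, i < 2298 → P i := stepQ 2297 Q2297 (allL N2297 (tt N2297 F7294) (tt N1549 (iv D2360)) (tt N3327 D3390) (tt N1617 F7295) (tt N2267 F7296) (tt N2297 F7297) (tt N3326 (iv F10432)) (tt N2090 F7298))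
theorem Q2299 : ∀ i, i < 2299 → P i := stepQ 2298 Q2298 (allL N2298 (tt N3321 (iv F10413)) (tt N1558 F7299) (tt N3318 (iv F10401)) (tt N3328 D3391) (tt N1552 F7300) (tt N2111 F7301) (tt N1988 F7302) (tt N1550 (iv D2361)))
theorem Q2300 : ∀ i, i < 2300 → P i := stepQ 2299 Q2299 (allL N2299 (tt N3319 (iv F10405)) (tt N3112 (iv F9795)) (tt N1553 (iv D2362)) (tt N3329 D3392) (tt N1555 F7303) (tt N2299 F7304) (tt N3330 D3393) (tt N3205 (iv F10099)))
theorem Q2301 : ∀ i, i < 2301 → P i := stepQ 2300 Q2300 (allL N2300 (tt N3320 (iv F10409)) (tt N1554 F7305) (tt N3330 (iv F10445)) (tt N2300 F7306) (tt N1556 F7307) (tt N3331 D3394) (tt N1553 (iv D2363)) (tt N3332 D3395))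
theorem Q2302 : ∀ i, i < 2302 → P i := stepQ 2301 Q2301 (allL N2301 (tt N1558 F7308) (tt N3332 (iv F10451)) (tt N3114 (iv F9800)) (tt N3333 D3396) (tt N1557 F7309) (tt N2301 F7310) (tt N3207 (iv F10107)) (tt N1554 (iv D2364)))
theorem Q2303 : ∀ i, i < 2303 → P i := stepQ 2302 Q2302 (allL N2302 (tt N3322 (iv F10417)) (tt N3115 (iv F9803)) (tt N1621 F7311) (tt N1555 (iv D2365)) (tt N3334 D3397) (tt N2302 F7312) (tt N3335 D3398) (tt N3336 D3399))
theorem Q2304 : ∀ i, i < 2304 → P i := stepQ 2303 Q2303 (allL N2303 (tt N3323 (iv F10420)) (tt N3116 (iv F9805)) (tt N1556 F7313) (tt N3335 (iv F10459)) (tt N3330 (iv F10446)) (tt N3337 D3400) (tt N1555 (iv D2366)) (tt N3338 D3401))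
theorem Q2305 : ∀ i, i < 2305 → P i := stepQ 2304 Q2304 (allL N2304 (tt N3324 (iv F10422)) (tt N2304 F7314) (tt N3337 (iv F10462)) (tt N1623 F7315) (tt N3331 (iv F10449)) (tt N1556 (iv D2367)) (tt N2304 F7316) (tt N3339 D3402))
theorem Q2306 : ∀ i, i < 2306 → P i := stepQ 2305 Q2305 (allL N2305 (tt N3325 (iv F10425)) (tt N1557 F7317) (tt N3338 (iv F10464)) (tt N3340 D3403) (tt N3332 (iv F10452)) (tt N3339 (iv F10466)) (tt N3211 (iv F10114)) (tt N1556 (iv D2368)))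
theorem Q2307 : ∀ i, i < 2307 → P i := stepQ 2306 Q2306 (allL N2306 (tt N1559 F7318) (tt N3340 (iv F10468)) (tt N3341 D3404) (tt N1557 (iv D2369)) (tt N3342 D3405) (tt N2306 F7319) (tt N2276 F7320) (tt N1625 F7321))
theorem Q2308 : ∀ i, i < 2308 → P i := stepQ 2307 Q2307 (allL N2307 (tt N3333 (iv F10453)) (tt N3328 (iv F10438)) (tt N3343 D3406) (tt N1558 (iv D2370)) (tt N3344 D3407) (tt N2307 F7322) (tt N2799 F8855) (tt N2307 F7323))
theorem Q2309 : ∀ i, i < 2309 → P i := stepQ 2308 Q2308 (allL N2308 (tt N3341 (iv F10471)) (tt N3304 (iv F10353)) (tt N1559 (iv D2371)) (tt N3123 (iv F9826)) (tt N3345 D3408) (tt N2308 F7324) (tt N2277 F7325) (tt N1626 F7326))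
theorem Q2310 : ∀ i, i < 2310 → P i := stepQ 2309 Q2309 (allL N2309 (tt N3342 (iv F10475)) (tt N2107 F7327) (tt N3345 (iv F10486)) (tt N3344 (iv F10482)) (tt N1559 (iv D2372)) (tt N2309 F7328) (tt N2272 F7329) (tt N1627 F7330))
theorem Q2311 : ∀ i, i < 2311 → P i := stepQ 2310 Q2310 (allL N2310 (tt N1628 F7331) (tt N3346 D3409) (tt N1560 (iv D2373)) (tt N2624 (iv F8277)) (tt N2654 (iv F8375)) (tt N2648 (iv F8357)) (tt N2653 F8372) (tt N3252 (iv F10229)))
theorem Q2312 : ∀ i, i < 2312 → P i := stepQ 2311 Q2311 (allL N2311 (tt N3347 D3410) (tt N1561 (iv D2374)) (tt N3346 (iv F10490)) (tt N2311 F7332) (tt N3011 (iv F9473)) (tt N3348 D3411) (tt N3009 F9470) (tt N3265 (iv F10259)))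
theorem Q2313 : ∀ i, i < 2313 → P i := stepQ 2312 Q2312 (allL N2312 (tt N1562 (iv D2375)) (tt N3347 (iv F10491)) (tt N1630 F7333) (tt N2312 F7334) (tt N3020 (iv F9506)) (tt N3349 D3412) (tt N3018 F9501) (tt N3295 (iv F10327)))
theorem Q2314 : ∀ i, i < 2314 → P i := stepQ 2313 Q2313 (allL N2313 (tt N3349 (iv F10494)) (tt N1907 F7335) (tt N1631 F7336) (tt N2313 F7337) (tt N2013 F7338) (tt N1562 (iv D2376)) (tt N3350 D3413) (tt N1904 F7339))
theorem Q2315 : ∀ i, i < 2315 → P i := stepQ 2314 Q2314 (allL N2314 (tt N3242 (iv F10204)) (tt N2314 F7340) (tt N3351 D3414) (tt N1563 (iv D2377)) (tt N3352 D3415) (tt N2498 (iv F7908)) (tt N3353 D3416) (tt N2479 (iv F7850)))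
theorem Q2316 : ∀ i, i < 2316 → P i := stepQ 2315 Q2315 (allL N2315 (tt N3243 (iv F10205)) (tt N2315 F7341) (tt N1569 F7342) (tt N3353 (iv F10507)) (tt N1567 F7343) (tt N3354 D3417) (tt N1563 (iv D2378)) (tt N2315 F7344))
theorem Q2317 : ∀ i, i < 2317 → P i := stepQ 2316 Q2316 (allL N2316 (tt N1564 (iv D2379)) (tt N3244 (iv F10209)) (tt N2316 F7345) (tt N2316 F7346) (tt N1761 F7347) (tt N2316 F7348) (tt N2443 (iv F7743)) (tt N3355 D3418))
theorem Q2318 : ∀ i, i < 2318 → P i := stepQ 2317 Q2317 (allL N2317 (tt N3355 (iv F10511)) (tt N1565 F7349) (tt N2317 F7350) (tt N2611 F8231) (tt N1762 F7351) (tt N2317 F7352) (tt N3356 D3419) (tt N1564 (iv D2380)))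
theorem Q2319 : ∀ i, i < 2319 → P i := stepQ 2318 Q2318 (allL N2318 (tt N3246 (iv F10213)) (tt N2611 (iv F8227)) (tt N2608 F8219) (tt N1565 (iv D2381)) (tt N2610 (iv F8224)) (tt N1566 F7353) (tt N3357 D3420) (tt N2318 F7354))
theorem Q2320 : ∀ i, i < 2320 → P i := stepQ 2319 Q2319 (allL N2319 (tt N3247 (iv F10216)) (tt N3356 (iv F10516)) (tt N1571 F7355) (tt N3357 (iv F10519)) (tt N2499 (iv F7911)) (tt N3358 D3421) (tt N1565 (iv D2382)) (tt N2546 (iv F8038)))
theorem Q2321 : ∀ i, i < 2321 → P i := stepQ 2320 Q2320 (allL N2320 (tt N3248 (iv F10218)) (tt N2601 (iv F8201)) (tt N1566 (iv D2383)) (tt N1572 F7356) (tt N2604 F8202) (tt N2608 (iv F8217)) (tt N3359 D3422) (tt N2320 F7357))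
theorem Q2322 : ∀ i, i < 2322 → P i := stepQ 2321 Q2321 (allL N2321 (tt N3249 (iv F10221)) (tt N2321 F7358) (tt N2604 (iv F8203)) (tt N3352 (iv F10505)) (tt N1566 (iv D2384)) (tt N2610 (iv F8225)) (tt N3360 D3423) (tt N2321 F7359))
theorem Q2323 : ∀ i, i < 2323 → P i := stepQ 2322 Q2322 (allL N2322 (tt N3250 (iv F10223)) (tt N2322 F7360) (tt N3359 (iv F10522)) (tt N1567 F7361) (tt N3360 (iv F10525)) (tt N3361 D3424) (tt N1566 (iv D2385)) (tt N3362 D3425))
theorem Q2324 : ∀ i, i < 2324 → P i := stepQ 2323 Q2323 (allL N2323 (tt N3251 (iv F10225)) (tt N3363 D3426) (tt N1574 F7362) (tt N3361 (iv F10526)) (tt N3354 (iv F10509)) (tt N1567 (iv D2386)) (tt N3358 (iv F10521)) (tt N2323 F7363))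
theorem Q2325 : ∀ i, i < 2325 → P i := stepQ 2324 Q2324 (allL N2324 (tt N3252 (iv F10228)) (tt N3364 D3427) (tt N1568 (iv D2387)) (tt N3351 (iv F10503)) (tt N2669 (iv F8414)) (tt N2657 (iv F8385)) (tt N3365 D3428) (tt N1628 F7364))
theorem Q2326 : ∀ i, i < 2326 → P i := stepQ 2325 Q2325 (allL N2325 (tt N3253 (iv F10230)) (tt N1578 F7365) (tt N3365 (iv F10534)) (tt N1569 F7366) (tt N2509 (iv F7932)) (tt N3366 D3429) (tt N1568 (iv D2388)) (tt N2507 (iv F7927)))
theorem Q2327 : ∀ i, i < 2327 → P i := stepQ 2326 Q2326 (allL N2326 (tt N3254 (iv F10233)) (tt N3367 D3430) (tt N3354 (iv F10508)) (tt N3366 (iv F10535)) (tt N1574 F7367) (tt N1569 (iv D2389)) (tt N2660 (iv F8394)) (tt N2326 F7368))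
theorem Q2328 : ∀ i, i < 2328 → P i := stepQ 2327 Q2327 (allL N2327 (tt N3255 (iv F10236)) (tt N2605 F8196) (tt N1570 (iv D2390)) (tt N2608 (iv F8215)) (tt N2731 (iv F8621)) (tt N1572 F7369) (tt N3368 D3431) (tt N1575 F7370))
theorem Q2329 : ∀ i, i < 2329 → P i := stepQ 2328 Q2328 (allL N2328 (tt N3256 (iv F10239)) (tt N2328 F7371) (tt N3368 (iv F10539)) (tt N1571 F7372) (tt N2733 (iv F8628)) (tt N3369 D3432) (tt N1570 (iv D2391)) (tt N2328 F7373))
theorem Q2330 : ∀ i, i < 2330 → P i := stepQ 2329 Q2329 (allL N2329 (tt N3257 (iv F10242)) (tt N3370 D3433) (tt N3358 (iv F10520)) (tt N3369 (iv F10541)) (tt N2660 (iv F8393)) (tt N1571 (iv D2392)) (tt N1574 F7374) (tt N2715 (iv F8566)))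
theorem Q2331 : ∀ i, i < 2331 → P i := stepQ 2330 Q2330 (allL N2330 (tt N3371 D3434) (tt N1572 (iv D2393)) (tt N1580 F7375) (tt N2601 F8199) (tt N2730 (iv F8616)) (tt N2598 (iv F8197)) (tt N3372 D3435) (tt N1576 F7376))
theorem Q2332 : ∀ i, i < 2332 → P i := stepQ 2331 Q2331 (allL N2331 (tt N3259 (iv F10246)) (tt N3372 (iv F10550)) (tt N1573 F7377) (tt N3359 (iv F10523)) (tt N2565 (iv F8077)) (tt N3373 D3436) (tt N1572 (iv D2394)) (tt N2563 (iv F8073)))
theorem Q2333 : ∀ i, i < 2333 → P i := stepQ 2332 Q2332 (allL N2332 (tt N3260 (iv F10248)) (tt N3374 D3437) (tt N3373 (iv F10552)) (tt N1574 F7378) (tt N2568 (iv F8086)) (tt N1573 (iv D2395)) (tt N3369 (iv F10542)) (tt N2566 (iv F8082)))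
theorem Q2334 : ∀ i, i < 2334 → P i := stepQ 2333 Q2333 (allL N2333 (tt N3375 D3438) (tt N1574 (iv D2396)) (tt N3376 D3439) (tt N3374 (iv F10553)) (tt N3367 (iv F10536)) (tt N1583 F7379) (tt N3370 (iv F10545)) (tt N2333 F7380))
theorem Q2335 : ∀ i, i < 2335 → P i := stepQ 2334 Q2334 (allL N2334 (tt N2427 (iv F7678)) (tt N1575 (iv D2397)) (tt N2334 F7381) (tt N2334 F7382) (tt N2418 F7652) (tt N2606 (iv F8210)) (tt N2334 F7383) (tt N2605 (iv F8195)))
theorem Q2336 : ∀ i, i < 2336 → P i := stepQ 2335 Q2335 (allL N2335 (tt N1576 (iv D2398)) (tt N3263 (iv F10254)) (tt N1584 F7384) (tt N2335 F7385) (tt N2726 (iv F8601)) (tt N3377 D3440) (tt N2724 F8596) (tt N3371 (iv F10549)))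
theorem Q2337 : ∀ i, i < 2337 → P i := stepQ 2336 Q2336 (allL N2336 (tt N3377 (iv F10559)) (tt N2606 (iv F8206)) (tt N1585 F7386) (tt N2336 F7387) (tt N2729 (iv F8611)) (tt N1576 (iv D2399)) (tt N3378 D3441) (tt N2598 F8200))
theorem Q2338 : ∀ i, i < 2338 → P i := stepQ 2337 Q2337 (allL N2337 (tt N3379 D3442) (tt N1577 (iv D2400)) (tt N3364 (iv F10532)) (tt N2337 F7388) (tt N2676 (iv F8434)) (tt N3380 D3443) (tt N3381 D3444) (tt N1629 F7389))
theorem Q2339 : ∀ i, i < 2339 → P i := stepQ 2338 Q2338 (allL N2338 (tt N1593 F7390) (tt N3381 (iv F10572)) (tt N1578 F7391) (tt N2338 F7392) (tt N2516 (iv F7952)) (tt N3382 D3445) (tt N1577 (iv D2401)) (tt N2515 (iv F7949)))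
theorem Q2340 : ∀ i, i < 2340 → P i := stepQ 2339 Q2339 (allL N2339 (tt N1594 F7393) (tt N3383 D3446) (tt N3382 (iv F10575)) (tt N1579 F7394) (tt N1670 F7395) (tt N1578 (iv D2402)) (tt N2339 F7396) (tt N1669 F7397))
theorem Q2341 : ∀ i, i < 2341 → P i := stepQ 2340 Q2340 (allL N2340 (tt N3384 D3447) (tt N1579 (iv D2403)) (tt N3385 D3448) (tt N3383 (iv F10580)) (tt N1583 F7398) (tt N3367 (iv F10537)) (tt N2340 F7399) (tt N2340 F7400))
theorem Q2342 : ∀ i, i < 2342 → P i := stepQ 2341 Q2341 (allL N2341 (tt N1580 (iv D2404)) (tt N1596 F7401) (tt N3371 (iv F10546)) (tt N2341 F7402) (tt N2738 (iv F8643)) (tt N3386 D3449) (tt N3387 D3450) (tt N1584 F7403))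
theorem Q2343 : ∀ i, i < 2343 → P i := stepQ 2342 Q2342 (allL N2342 (tt N3386 (iv F10592)) (tt N2342 F7404) (tt N2598 F8198) (tt N2342 F7405) (tt N2742 (iv F8656)) (tt N1580 (iv D2405)) (tt N2596 (iv F8204)) (tt N1585 F7406))
theorem Q2344 : ∀ i, i < 2344 → P i := stepQ 2343 Q2343 (allL N2343 (tt N3387 (iv F10605)) (tt N1581 F7407) (tt N3372 (iv F10551)) (tt N2343 F7408) (tt N2579 (iv F8113)) (tt N3388 D3451) (tt N1580 (iv D2406)) (tt N2576 (iv F8110)))
theorem Q2345 : ∀ i, i < 2345 → P i := stepQ 2344 Q2344 (allL N2344 (tt N1598 F7409) (tt N3389 D3452) (tt N1582 F7410) (tt N2344 F7411) (tt N2583 (iv F8128)) (tt N1581 (iv D2407)) (tt N2344 F7412) (tt N2581 (iv F8123)))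
theorem Q2346 : ∀ i, i < 2346 → P i := stepQ 2345 Q2345 (allL N2345 (tt N3390 D3453) (tt N1582 (iv D2408)) (tt N3391 D3454) (tt N1583 F7413) (tt N2588 (iv F8144)) (tt N3374 (iv F10554)) (tt N2345 F7414) (tt N2585 (iv F8137)))
theorem Q2347 : ∀ i, i < 2347 → P i := stepQ 2346 Q2346 (allL N2346 (tt N1583 (iv D2409)) (tt N1600 F7415) (tt N3392 D3455) (tt N3390 (iv F10617)) (tt N3384 (iv F10585)) (tt N3375 (iv F10555)) (tt N2346 F7416) (tt N2346 F7417))
theorem Q2348 : ∀ i, i < 2348 → P i := stepQ 2347 Q2347 (allL N2347 (tt N3392 (iv F10621)) (tt N2347 F7418) (tt N1583 (iv D2410)) (tt N3393 D3456) (tt N3385 (iv F10589)) (tt N3376 (iv F10557)) (tt N2347 F7419) (tt N2347 F7420))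
theorem Q2349 : ∀ i, i < 2349 → P i := stepQ 2348 Q2348 (allL N2348 (tt N1585 F7421) (tt N3394 D3457) (tt N3377 (iv F10560)) (tt N1586 F7422) (tt N2737 (iv F8640)) (tt N1584 (iv D2411)) (tt N3395 D3458) (tt N3386 (iv F10595)))
theorem Q2350 : ∀ i, i < 2350 → P i := stepQ 2349 Q2349 (allL N2349 (tt N3395 (iv F10631)) (tt N2349 F7423) (tt N3378 (iv F10564)) (tt N1588 F7424) (tt N2740 (iv F8651)) (tt N2739 (iv F8648)) (tt N1585 (iv D2412)) (tt N3396 D3459))
theorem Q2351 : ∀ i, i < 2351 → P i := stepQ 2350 Q2350 (allL N2350 (tt N2350 F7425) (tt N1586 (iv D2413)) (tt N3397 D3460) (tt N3394 (iv F10628)) (tt N2350 F7426) (tt N1604 F7427) (tt N3398 D3461) (tt N2350 F7428))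
theorem Q2352 : ∀ i, i < 2352 → P i := stepQ 2351 Q2351 (allL N2351 (tt N1588 F7429) (tt N3398 (iv F10641)) (tt N2351 F7430) (tt N3395 (iv F10632)) (tt N2351 F7431) (tt N3399 D3462) (tt N1586 (iv D2414)) (tt N3400 D3463))
theorem Q2353 : ∀ i, i < 2353 → P i := stepQ 2352 Q2352 (allL N2352 (tt N1589 F7432) (tt N3401 D3464) (tt N2352 F7433) (tt N2734 (iv F8631)) (tt N2352 F7434) (tt N1587 (iv D2415)) (tt N3399 (iv F10646)) (tt N3402 D3465))
theorem Q2354 : ∀ i, i < 2354 → P i := stepQ 2353 Q2353 (allL N2353 (tt N1590 F7435) (tt N1607 F7436) (tt N2353 F7437) (tt N3403 D3466) (tt N2353 F7438) (tt N3402 (iv F10656)) (tt N2353 F7439) (tt N1587 (iv D2416)))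
theorem Q2355 : ∀ i, i < 2355 → P i := stepQ 2354 Q2354 (allL N2354 (tt N3399 (iv F10643)) (tt N2754 (iv F8708)) (tt N2354 F7440) (tt N2739 (iv F8646)) (tt N2354 F7441) (tt N1588 (iv D2417)) (tt N1589 F7442) (tt N3404 D3467))
theorem Q2356 : ∀ i, i < 2356 → P i := stepQ 2355 Q2355 (allL N2355 (tt N3400 (iv F10647)) (tt N2355 F7443) (tt N2355 F7444) (tt N3405 D3468) (tt N2355 F7445) (tt N3404 (iv F10663)) (tt N2355 F7446) (tt N1588 (iv D2418)))
theorem Q2357 : ∀ i, i < 2357 → P i := stepQ 2356 Q2356 (allL N2356 (tt N3402 (iv F10653)) (tt N2755 (iv F8712)) (tt N2356 F7447) (tt N3406 D3469) (tt N2356 F7448) (tt N1590 F7449) (tt N3407 D3470) (tt N1589 (iv D2419)))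
theorem Q2358 : ∀ i, i < 2358 → P i := stepQ 2357 Q2357 (allL N2357 (tt N3403 (iv F10657)) (tt N1591 F7450) (tt N3408 D3471) (tt N1590 (iv D2420)) (tt N3409 D3472) (tt N3406 (iv F10666)) (tt N2357 F7451) (tt N2574 (iv F8104)))
theorem Q2359 : ∀ i, i < 2359 → P i := stepQ 2358 Q2358 (allL N2358 (tt N1612 F7452) (tt N3409 (iv F10674)) (tt N2358 F7453) (tt N2358 F7454) (tt N1591 (iv D2421)) (tt N2474 (iv F7830)) (tt N2358 F7455) (tt N2467 (iv F7802)))
theorem Q2360 : ∀ i, i < 2360 → P i := stepQ 2359 Q2359 (allL N2359 (tt N1592 (iv D2422)) (tt N3379 (iv F10566)) (tt N3295 (iv F10323)) (tt N2359 F7456) (tt N3028 (iv F9535)) (tt N3204 (iv F10093)) (tt N3410 D3473) (tt N1630 F7457))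
theorem Q2361 : ∀ i, i < 2361 → P i := stepQ 2360 Q2360 (allL N2360 (tt N3410 (iv F10677)) (tt N1593 F7458) (tt N3296 (iv F10329)) (tt N2360 F7459) (tt N2865 (iv F9032)) (tt N2957 (iv F9310)) (tt N1592 (iv D2423)) (tt N2862 (iv F9025)))
theorem Q2362 : ∀ i, i < 2362 → P i := stepQ 2361 Q2361 (allL N2361 (tt N3382 (iv F10574)) (tt N3411 D3474) (tt N1594 F7460) (tt N2361 F7461) (tt N1901 F7462) (tt N1593 (iv D2424)) (tt N2361 F7463) (tt N1900 F7464))
theorem Q2363 : ∀ i, i < 2363 → P i := stepQ 2362 Q2362 (allL N2362 (tt N3412 D3475) (tt N1594 (iv D2425)) (tt N3413 D3476) (tt N1595 F7465) (tt N1894 F7466) (tt N3298 (iv F10335)) (tt N2362 F7467) (tt N1892 F7468))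
theorem Q2364 : ∀ i, i < 2364 → P i := stepQ 2363 Q2363 (allL N2363 (tt N1595 (iv D2426)) (tt N3384 (iv F10584)) (tt N3414 D3477) (tt N3412 (iv F10684)) (tt N1600 F7469) (tt N3299 (iv F10338)) (tt N2363 F7470) (tt N2363 F7471))
theorem Q2365 : ∀ i, i < 2365 → P i := stepQ 2364 Q2364 (allL N2364 (tt N3414 (iv F10691)) (tt N2364 F7472) (tt N1595 (iv D2427)) (tt N3415 D3478) (tt N1601 F7473) (tt N3300 (iv F10341)) (tt N2364 F7474) (tt N2364 F7475))
theorem Q2366 : ∀ i, i < 2366 → P i := stepQ 2365 Q2365 (allL N2365 (tt N1597 F7476) (tt N3387 (iv F10606)) (tt N3301 (iv F10344)) (tt N2365 F7477) (tt N2903 (iv F9147)) (tt N2902 (iv F9144)) (tt N1596 (iv D2428)) (tt N2942 (iv F9268)))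
theorem Q2367 : ∀ i, i < 2367 → P i := stepQ 2366 Q2366 (allL N2366 (tt N3416 D3479) (tt N1598 (iv D2429)) (tt N3417 D3480) (tt N2366 F7478) (tt N2790 (iv F8824)) (tt N2789 (iv F8821)) (tt N2366 F7479) (tt N2948 (iv F9286)))
theorem Q2368 : ∀ i, i < 2368 → P i := stepQ 2367 Q2367 (allL N2367 (tt N1599 (iv D2430)) (tt N3390 (iv F10616)) (tt N3418 D3481) (tt N1600 F7480) (tt N2952 (iv F9295)) (tt N2210 F7481) (tt N2367 F7482) (tt N2209 F7483))
theorem Q2369 : ∀ i, i < 2369 → P i := stepQ 2368 Q2368 (allL N2368 (tt N3418 (iv F10704)) (tt N3417 (iv F10699)) (tt N1599 (iv D2431)) (tt N3419 D3482) (tt N2954 (iv F9300)) (tt N2016 F7484) (tt N2368 F7485) (tt N2015 F7486))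
theorem Q2370 : ∀ i, i < 2370 → P i := stepQ 2369 Q2369 (allL N2369 (tt N1601 F7487) (tt N3420 D3483) (tt N1600 (iv D2432)) (tt N3421 D3484) (tt N3414 (iv F10692)) (tt N3303 (iv F10351)) (tt N2369 F7488) (tt N2369 F7489))
theorem Q2371 : ∀ i, i < 2371 → P i := stepQ 2370 Q2370 (allL N2370 (tt N3421 (iv F10715)) (tt N2370 F7490) (tt N3419 (iv F10709)) (tt N1601 (iv D2433)) (tt N3422 D3485) (tt N3304 (iv F10355)) (tt N2370 F7491) (tt N3423 D3486))
theorem Q2372 : ∀ i, i < 2372 → P i := stepQ 2371 Q2371 (allL N2371 (tt N2371 F7492) (tt N1602 (iv D2434)) (tt N3424 D3487) (tt N1604 F7493) (tt N3106 (iv F9772)) (tt N3394 (iv F10629)) (tt N3425 D3488) (tt N3157 F9936))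
theorem Q2373 : ∀ i, i < 2373 → P i := stepQ 2372 Q2372 (allL N2372 (tt N1603 F7494) (tt N3425 (iv F10727)) (tt N3306 (iv F10360)) (tt N1605 F7495) (tt N3104 (iv F9764)) (tt N3101 (iv F9757)) (tt N1602 (iv D2435)) (tt N3167 (iv F9973)))
theorem Q2374 : ∀ i, i < 2374 → P i := stepQ 2373 Q2373 (allL N2373 (tt N2373 F7496) (tt N1613 F7497) (tt N1604 (iv D2436)) (tt N3426 D3489) (tt N2373 F7498) (tt N3397 (iv F10638)) (tt N3427 D3490) (tt N2373 F7499))
theorem Q2375 : ∀ i, i < 2375 → P i := stepQ 2374 Q2374 (allL N2374 (tt N2374 F7500) (tt N1605 F7501) (tt N3427 (iv F10736)) (tt N3425 (iv F10728)) (tt N2374 F7502) (tt N3428 D3491) (tt N1604 (iv D2437)) (tt N3429 D3492))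
theorem Q2376 : ∀ i, i < 2376 → P i := stepQ 2375 Q2375 (allL N2375 (tt N1608 F7503) (tt N3430 D3493) (tt N1615 F7504) (tt N3101 (iv F9755)) (tt N2375 F7505) (tt N1605 (iv D2438)) (tt N1606 F7506) (tt N3431 D3494))
theorem Q2377 : ∀ i, i < 2377 → P i := stepQ 2376 Q2376 (allL N2376 (tt N1609 F7507) (tt N3429 (iv F10741)) (tt N1616 F7508) (tt N3432 D3495) (tt N2376 F7509) (tt N3431 (iv F10749)) (tt N2376 F7510) (tt N1605 (iv D2439)))
theorem Q2378 : ∀ i, i < 2378 → P i := stepQ 2377 Q2377 (allL N2377 (tt N3108 (iv F9777)) (tt N1606 (iv D2440)) (tt N3433 D3496) (tt N3100 (iv F9752)) (tt N2377 F7511) (tt N3401 (iv F10652)) (tt N3430 (iv F10745)) (tt N3434 D3497))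
theorem Q2379 : ∀ i, i < 2379 → P i := stepQ 2378 Q2378 (allL N2378 (tt N1610 F7512) (tt N3434 (iv F10755)) (tt N1618 F7513) (tt N2049 (iv F7516)) (tt N2378 F7514) (tt N1607 F7515) (tt N2046 (iv F7517)) (tt N1606 (iv D2441)))
theorem Q2380 : ∀ i, i < 2380 → P i := stepQ 2379 Q2379 (allL N2379 (tt N1611 F7518) (tt N3403 (iv F10658)) (tt N2050 F7519) (tt N1607 (iv D2442)) (tt N2146 (iv F7522)) (tt N2049 F7520) (tt N2379 F7521) (tt N2940 (iv F9262)))
theorem Q2381 : ∀ i, i < 2381 → P i := stepQ 2380 Q2380 (allL N2380 (tt N3431 (iv F10746)) (tt N3120 (iv F9813)) (tt N1619 F7523) (tt N3435 D3498) (tt N2380 F7524) (tt N1609 F7525) (tt N2054 F7526) (tt N1608 (iv D2443)))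
theorem Q2382 : ∀ i, i < 2382 → P i := stepQ 2381 Q2381 (allL N2381 (tt N3432 (iv F10751)) (tt N2381 F7527) (tt N3436 D3499) (tt N1609 (iv D2444)) (tt N3189 (iv F10033)) (tt N3435 (iv F10760)) (tt N2381 F7528) (tt N3187 F10029))
theorem Q2383 : ∀ i, i < 2383 → P i := stepQ 2382 Q2382 (allL N2382 (tt N1621 F7529) (tt N3426 (iv F10730)) (tt N3322 (iv F10418)) (tt N1613 (iv D2445)) (tt N3437 D3500) (tt N2382 F7530) (tt N3438 D3501) (tt N3439 D3502))
theorem Q2384 : ∀ i, i < 2384 → P i := stepQ 2383 Q2383 (allL N2383 (tt N1622 F7531) (tt N3427 (iv F10735)) (tt N1614 F7532) (tt N3438 (iv F10771)) (tt N2383 F7533) (tt N3440 D3503) (tt N1613 (iv D2446)) (tt N3441 D3504))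
theorem Q2385 : ∀ i, i < 2385 → P i := stepQ 2384 Q2384 (allL N2384 (tt N1623 F7534) (tt N3442 D3505) (tt N3440 (iv F10777)) (tt N3324 (iv F10423)) (tt N2384 F7535) (tt N1614 (iv D2447)) (tt N2384 F7536) (tt N3443 D3506))
theorem Q2386 : ∀ i, i < 2386 → P i := stepQ 2385 Q2385 (allL N2385 (tt N1624 F7537) (tt N1616 F7538) (tt N3441 (iv F10781)) (tt N3444 D3507) (tt N2385 F7539) (tt N3443 (iv F10790)) (tt N2385 F7540) (tt N1614 (iv D2448)))
theorem Q2387 : ∀ i, i < 2387 → P i := stepQ 2386 Q2386 (allL N2386 (tt N2386 F7541) (tt N1615 (iv D2449)) (tt N3445 D3508) (tt N3326 (iv F10430)) (tt N2386 F7542) (tt N3442 (iv F10786)) (tt N1617 F7543) (tt N3446 D3509))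
theorem Q2388 : ∀ i, i < 2388 → P i := stepQ 2387 Q2387 (allL N2387 (tt N1619 F7544) (tt N3446 (iv F10799)) (tt N3431 (iv F10747)) (tt N2045 F7545) (tt N2387 F7546) (tt N1616 F7547) (tt N2044 F7548) (tt N1615 (iv D2450)))
theorem Q2389 : ∀ i, i < 2389 → P i := stepQ 2388 Q2388 (allL N2388 (tt N1620 F7549) (tt N3444 (iv F10792)) (tt N3447 D3510) (tt N1616 (iv D2451)) (tt N3448 D3511) (tt N2045 F7550) (tt N2388 F7551) (tt N2096 F7552))
theorem Q2390 : ∀ i, i < 2390 → P i := stepQ 2389 Q2389 (allL N2389 (tt N2389 F7553) (tt N3433 (iv F10753)) (tt N1617 (iv D2452)) (tt N3449 D3512) (tt N2389 F7554) (tt N2389 F7555) (tt N3445 (iv F10797)) (tt N3450 D3513))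
theorem Q2391 : ∀ i, i < 2391 → P i := stepQ 2390 Q2390 (allL N2390 (tt N2390 F7556) (tt N1618 F7557) (tt N3450 (iv F10815)) (tt N2042 F7558) (tt N2390 F7559) (tt N2390 F7560) (tt N2041 (iv F7561)) (tt N1617 (iv D2453)))
theorem Q2392 : ∀ i, i < 2392 → P i := stepQ 2391 Q2391 (allL N2391 (tt N3447 (iv F10803)) (tt N3451 D3514) (tt N1620 (iv D2454)) (tt N3436 (iv F10762)) (tt N3452 D3515) (tt N1921 F7562) (tt N2391 F7563) (tt N1972 F7564))
theorem Q2393 : ∀ i, i < 2393 → P i := stepQ 2392 Q2392 (allL N2392 (tt N3448 (iv F10807)) (tt N1627 F7565) (tt N3452 (iv F10823)) (tt N2392 F7566) (tt N1620 (iv D2455)) (tt N2053 F7567) (tt N2392 F7568) (tt N2107 F7569))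
theorem Q2394 : ∀ i, i < 2394 → P i := stepQ 2393 Q2393 (allL N2393 (tt N3437 (iv F10767)) (tt N2393 F7570) (tt N3334 (iv F10456)) (tt N2393 F7571) (tt N1621 (iv D2456)) (tt N2393 F7572) (tt N3453 D3516) (tt N3454 D3517))
theorem Q2395 : ∀ i, i < 2395 → P i := stepQ 2394 Q2394 (allL N2394 (tt N3438 (iv F10770)) (tt N2394 F7573) (tt N3335 (iv F10458)) (tt N1622 F7574) (tt N3453 (iv F10829)) (tt N3455 D3518) (tt N1621 (iv D2457)) (tt N3456 D3519))
theorem Q2396 : ∀ i, i < 2396 → P i := stepQ 2395 Q2395 (allL N2395 (tt N3439 (iv F10772)) (tt N2395 F7575) (tt N3336 (iv F10460)) (tt N2395 F7576) (tt N3454 (iv F10831)) (tt N2395 F7577) (tt N3457 D3520) (tt N1621 (iv D2458)))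
theorem Q2397 : ∀ i, i < 2397 → P i := stepQ 2396 Q2396 (allL N2396 (tt N3440 (iv F10776)) (tt N3458 D3521) (tt N1623 F7578) (tt N3455 (iv F10833)) (tt N2396 F7579) (tt N1622 (iv D2459)) (tt N2396 F7580) (tt N3459 D3522))
theorem Q2398 : ∀ i, i < 2398 → P i := stepQ 2397 Q2397 (allL N2397 (tt N3441 (iv F10780)) (tt N2397 F7581) (tt N1624 F7582) (tt N3460 D3523) (tt N2397 F7583) (tt N3459 (iv F10844)) (tt N2397 F7584) (tt N1622 (iv D2460)))
theorem Q2399 : ∀ i, i < 2399 → P i := stepQ 2398 Q2398 (allL N2398 (tt N3443 (iv F10788)) (tt N2398 F7585) (tt N3459 (iv F10842)) (tt N3461 D3524) (tt N2398 F7586) (tt N1624 F7587) (tt N3462 D3525) (tt N1623 (iv D2461)))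
theorem Q2400 : ∀ i, i < 2400 → P i := stepQ 2399 Q2399 (allL N2399 (tt N3444 (iv F10791)) (tt N1625 F7588) (tt N3463 D3526) (tt N1624 (iv D2462)) (tt N3464 D3527) (tt N3461 (iv F10848)) (tt N2399 F7589) (tt N3340 (iv F10470)))
theorem Q2401 : ∀ i, i < 2401 → P i := stepQ 2400 Q2400 (allL N2400 (tt N1626 F7590) (tt N3465 D3528) (tt N1625 (iv D2463)) (tt N2400 F7591) (tt N3466 D3529) (tt N2400 F7592) (tt N2400 F7593) (tt N3341 (iv F10474)))
theorem Q2402 : ∀ i, i < 2402 → P i := stepQ 2401 Q2401 (allL N2401 (tt N1627 F7594) (tt N3464 (iv F10854)) (tt N3466 (iv F10860)) (tt N2401 F7595) (tt N1625 (iv D2464)) (tt N2401 F7596) (tt N2401 F7597) (tt N3342 (iv F10478)))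
theorem Q2403 : ∀ i, i < 2403 → P i := stepQ 2402 Q2402 (allL N2402 (tt N3467 D3530) (tt N1626 (iv D2465)) (tt N3451 (iv F10819)) (tt N2402 F7598) (tt N3468 D3531) (tt N3423 (iv F10721)) (tt N2402 F7599) (tt N3304 F10357))
theorem Q2404 : ∀ i, i < 2404 → P i := stepQ 2403 Q2403 (allL N2403 (tt N3466 (iv F10859)) (tt N3468 (iv F10865)) (tt N1627 F7600) (tt N3469 D3532) (tt N1626 (iv D2466)) (tt N2403 F7601) (tt N2403 F7602) (tt N3345 (iv F10489)))
theorem Q2405 : ∀ i, i < 2405 → P i := stepQ 2404 Q2404 (allL N2404 (tt N3470 D3533) (tt N1628 (iv D2467)) (tt N1629 F7603) (tt N2628 (iv F8292)) (tt N2668 (iv F8412)) (tt N3471 D3534) (tt N2666 F8408) (tt N3364 (iv F10533)))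
theorem Q2406 : ∀ i, i < 2406 → P i := stepQ 2405 Q2405 (allL N2405 (tt N1629 (iv D2468)) (tt N1630 F7604) (tt N3470 (iv F10871)) (tt N1635 F7605) (tt N2672 (iv F8424)) (tt N3472 D3535) (tt N2670 F8418) (tt N3379 (iv F10568)))
theorem Q2407 : ∀ i, i < 2407 → P i := stepQ 2406 Q2406 (allL N2406 (tt N3472 (iv F10873)) (tt N2406 F7606) (tt N3471 (iv F10872)) (tt N1636 F7607) (tt N2675 (iv F8432)) (tt N1629 (iv D2469)) (tt N3473 D3536) (tt N3380 (iv F10571)))
theorem Q2408 : ∀ i, i < 2408 → P i := stepQ 2407 Q2407 (allL N2407 (tt N1631 F7608) (tt N3474 D3537) (tt N3349 (iv F10495)) (tt N1639 F7609) (tt N3027 (iv F9531)) (tt N1630 (iv D2470)) (tt N3475 D3538) (tt N3204 (iv F10095)))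
theorem Q2409 : ∀ i, i < 2409 → P i := stepQ 2408 Q2408 (allL N2408 (tt N3475 (iv F10879)) (tt N2408 F7610) (tt N3350 (iv F10500)) (tt N1641 F7611) (tt N3030 (iv F9545)) (tt N3029 (iv F9541)) (tt N1631 (iv D2471)) (tt N3226 (iv F10159)))
theorem Q2410 : ∀ i, i < 2410 → P i := stepQ 2409 Q2409 (allL N2409 (tt N1632 (iv D2472)) (tt N2409 F7612) (tt N1635 F7613) (tt N2634 (iv F8308)) (tt N2409 F7614) (tt N3476 D3539) (tt N3477 D3540) (tt N2409 F7615))
theorem Q2411 : ∀ i, i < 2411 → P i := stepQ 2410 Q2410 (allL N2410 (tt N3476 (iv F10881)) (tt N2623 (iv F8271)) (tt N1636 F7616) (tt N2636 (iv F8314)) (tt N2410 F7617) (tt N1632 (iv D2473)) (tt N3478 D3541) (tt N2410 F7618))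
theorem Q2412 : ∀ i, i < 2412 → P i := stepQ 2411 Q2411 (allL N2411 (tt N3477 (iv F10885)) (tt N1633 F7619) (tt N1637 F7620) (tt N2637 (iv F8316)) (tt N2411 F7621) (tt N1835 (iv F7630)) (tt N1632 (iv D2474)) (tt N1834 F7629))
theorem Q2413 : ∀ i, i < 2413 → P i := stepQ 2412 Q2412 (allL N2412 (tt N2412 F7622) (tt N1834 (iv F7628)) (tt N1634 F7623) (tt N1836 F7624) (tt N2412 F7625) (tt N2412 F7626) (tt N2412 F7627) (tt N1633 (iv D2475)))
theorem Q2414 : ∀ i, i < 2414 → P i := stepQ 2413 Q2413 (allL N2413 (tt N1636 F7631) (tt N3479 D3542) (tt N3476 (iv F10882)) (tt N3472 (iv F10874)) (tt N2413 F7632) (tt N1635 (iv D2476)) (tt N3480 D3543) (tt N2413 F7633))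
theorem Q2415 : ∀ i, i < 2415 → P i := stepQ 2414 Q2414 (allL N2414 (tt N1637 F7634) (tt N1640 F7635) (tt N3477 (iv F10887)) (tt N2670 F8417) (tt N2414 F7636) (tt N3481 D3544) (tt N1635 (iv D2477)) (tt N3482 D3545))
theorem Q2416 : ∀ i, i < 2416 → P i := stepQ 2415 Q2415 (allL N2415 (tt N3480 (iv F10899)) (tt N2415 F7637) (tt N3478 (iv F10891)) (tt N3473 (iv F10876)) (tt N2415 F7638) (tt N3483 D3546) (tt N1636 (iv D2478)) (tt N3484 D3547))
theorem Q2417 : ∀ i, i < 2417 → P i := stepQ 2416 Q2416 (allL N2416 (tt N3481 (iv F10901)) (tt N2682 (iv F8452)) (tt N1835 F7639) (tt N2673 (iv F8426)) (tt N2416 F7640) (tt N1637 (iv D2479)) (tt N3483 (iv F10914)) (tt N1833 (iv F7641)))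
theorem Q2418 : ∀ i, i < 2418 → P i := stepQ 2417 Q2417 (allL N2417 (tt N3482 (iv F10905)) (tt N1638 F7642) (tt N1834 F7643) (tt N1841 (iv F7647)) (tt N2417 F7644) (tt N1833 F7645) (tt N2417 F7646) (tt N1637 (iv D2480)))
theorem Q2419 : ∀ i, i < 2419 → P i := stepQ 2418 Q2418 (allL N2418 (tt N1644 F7648) (tt N1841 F7649) (tt N2418 F7650) (tt N1638 (iv D2481)) (tt N2334 (iv F7652)) (tt N2522 (iv F7969)) (tt N2418 F7651) (tt N2514 (iv F7944)))
theorem Q2420 : ∀ i, i < 2420 → P i := stepQ 2419 Q2419 (allL N2419 (tt N2419 F7653) (tt N1639 (iv D2482)) (tt N3485 D3548) (tt N3474 (iv F10878)) (tt N2419 F7654) (tt N3479 (iv F10897)) (tt N3486 D3549) (tt N2419 F7655))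
theorem Q2421 : ∀ i, i < 2421 → P i := stepQ 2420 Q2420 (allL N2420 (tt N1641 F7656) (tt N3486 (iv F10926)) (tt N2420 F7657) (tt N3475 (iv F10880)) (tt N2420 F7658) (tt N3487 D3550) (tt N1639 (iv D2483)) (tt N3488 D3551))
theorem Q2422 : ∀ i, i < 2422 → P i := stepQ 2421 Q2421 (allL N2421 (tt N1642 F7659) (tt N3489 D3552) (tt N2421 F7660) (tt N3024 (iv F9522)) (tt N2421 F7661) (tt N1640 (iv D2484)) (tt N3487 (iv F10931)) (tt N3490 D3553))
theorem Q2423 : ∀ i, i < 2423 → P i := stepQ 2422 Q2422 (allL N2422 (tt N1643 F7662) (tt N3482 (iv F10906)) (tt N2422 F7663) (tt N3491 D3554) (tt N2422 F7664) (tt N3490 (iv F10940)) (tt N2422 F7665) (tt N1640 (iv D2485)))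
theorem Q2424 : ∀ i, i < 2424 → P i := stepQ 2423 Q2423 (allL N2423 (tt N3487 (iv F10928)) (tt N3042 (iv F9579)) (tt N2423 F7666) (tt N3029 (iv F9539)) (tt N2423 F7667) (tt N1641 (iv D2486)) (tt N1642 F7668) (tt N3492 D3555))
theorem Q2425 : ∀ i, i < 2425 → P i := stepQ 2424 Q2424 (allL N2424 (tt N3488 (iv F10932)) (tt N2424 F7669) (tt N2424 F7670) (tt N3493 D3556) (tt N2424 F7671) (tt N3492 (iv F10947)) (tt N2424 F7672) (tt N1641 (iv D2487)))
theorem Q2426 : ∀ i, i < 2426 → P i := stepQ 2425 Q2425 (allL N2425 (tt N3490 (iv F10937)) (tt N3043 (iv F9583)) (tt N2425 F7673) (tt N3494 D3557) (tt N2425 F7674) (tt N1643 F7675) (tt N3495 D3558) (tt N1642 (iv D2488)))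
theorem Q2427 : ∀ i, i < 2427 → P i := stepQ 2426 Q2426 (allL N2426 (tt N3491 (iv F10941)) (tt N1644 F7676) (tt N3496 D3559) (tt N1643 (iv D2489)) (tt N3497 D3560) (tt N3494 (iv F10950)) (tt N2426 F7677) (tt N2860 (iv F9019)))
theorem Q2428 : ∀ i, i < 2428 → P i := stepQ 2427 Q2427 (allL N2427 (tt N2334 F7678) (tt N3497 (iv F10958)) (tt N2427 F7679) (tt N2427 F7680) (tt N1644 (iv D2490)) (tt N2019 F7681) (tt N2427 F7682) (tt N2018 F7683))
theorem Q2429 : ∀ i, i < 2429 → P i := stepQ 2428 Q2428 (allL N2428 (tt N2428 F7684) (tt N1645 (iv D2491)) (tt N2428 F7685) (tt N3498 D3561) (tt N2428 F7686) (tt N3149 F9910) (tt N2428 F7687) (tt N3153 (iv F9924)))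
theorem Q2430 : ∀ i, i < 2430 → P i := stepQ 2429 Q2429 (allL N2429 (tt N1647 F7688) (tt N3498 (iv F10963)) (tt N2429 F7689) (tt N1645 (iv D2492)) (tt N3499 D3562) (tt N1654 F7690) (tt N2429 F7691) (tt N3500 D3563))
theorem Q2431 : ∀ i, i < 2431 → P i := stepQ 2430 Q2430 (allL N2430 (tt N1648 F7692) (tt N3153 (iv F9920)) (tt N1646 F7693) (tt N3501 D3564) (tt N2430 F7694) (tt N1655 F7695) (tt N3159 (iv F9941)) (tt N1645 (iv D2493)))
theorem Q2432 : ∀ i, i < 2432 → P i := stepQ 2431 Q2431 (allL N2431 (tt N1649 F7696) (tt N2431 F7697) (tt N2470 (iv F7811)) (tt N1646 (iv D2494)) (tt N2439 (iv F7729)) (tt N1656 F7698) (tt N3502 D3565) (tt N2431 F7699))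
theorem Q2433 : ∀ i, i < 2433 → P i := stepQ 2432 Q2432 (allL N2432 (tt N1650 F7700) (tt N2432 F7701) (tt N3159 F9944) (tt N3502 (iv F10978)) (tt N2432 F7702) (tt N3175 (iv F9994)) (tt N1646 (iv D2495)) (tt N2432 F7703))
theorem Q2434 : ∀ i, i < 2434 → P i := stepQ 2433 Q2433 (allL N2433 (tt N3499 (iv F10965)) (tt N2433 F7704) (tt N2433 F7705) (tt N2433 F7706) (tt N1647 (iv D2496)) (tt N1658 F7707) (tt N2433 F7708) (tt N3503 D3566))
theorem Q2435 : ∀ i, i < 2435 → P i := stepQ 2434 Q2434 (allL N2434 (tt N3500 (iv F10970)) (tt N2434 F7709) (tt N2434 F7710) (tt N3504 D3567) (tt N3503 (iv F10983)) (tt N1659 F7711) (tt N3505 D3568) (tt N1647 (iv D2497)))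
theorem Q2436 : ∀ i, i < 2436 → P i := stepQ 2435 Q2435 (allL N2435 (tt N3501 (iv F10973)) (tt N2435 F7712) (tt N2472 (iv F7820)) (tt N1648 (iv D2498)) (tt N2596 (iv F8168)) (tt N1660 F7713) (tt N2742 (iv F8658)) (tt N3504 (iv F10987)))
theorem Q2437 : ∀ i, i < 2437 → P i := stepQ 2436 Q2436 (allL N2436 (tt N3159 F9943) (tt N2436 F7714) (tt N1650 F7715) (tt N2742 F8659) (tt N2436 F7716) (tt N2743 (iv F8673)) (tt N1648 (iv D2499)) (tt N2436 F7717))
theorem Q2438 : ∀ i, i < 2438 → P i := stepQ 2437 Q2437 (allL N2437 (tt N3502 (iv F10975)) (tt N1651 F7718) (tt N1702 F7719) (tt N1650 F7720) (tt N1683 F7721) (tt N3506 D3569) (tt N1649 (iv D2500)) (tt N1776 (iv F7722)))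
theorem Q2439 : ∀ i, i < 2439 → P i := stepQ 2438 Q2438 (allL N2438 (tt N3175 (iv F9991)) (tt N2484 (iv F7863)) (tt N2743 F8676) (tt N3506 (iv F10992)) (tt N2438 F7723) (tt N1650 (iv D2501)) (tt N1665 F7724) (tt N2438 F7725))
theorem Q2440 : ∀ i, i < 2440 → P i := stepQ 2439 Q2439 (allL N2439 (tt N1652 (iv D2502)) (tt N2439 F7726) (tt N1671 F7727) (tt N2439 F7728) (tt N2431 F7729) (tt N2448 (iv F7755)) (tt N2486 (iv F7874)) (tt N2439 F7730))
theorem Q2441 : ∀ i, i < 2441 → P i := stepQ 2440 Q2440 (allL N2440 (tt N1705 F7731) (tt N1654 F7732) (tt N3507 D3570) (tt N1653 (iv D2503)) (tt N3508 D3571) (tt N3509 D3572) (tt N2618 (iv F8254)) (tt N3510 D3573))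
theorem Q2442 : ∀ i, i < 2442 → P i := stepQ 2441 Q2441 (allL N2441 (tt N1706 F7733) (tt N3149 (iv F9906)) (tt N1872 F7734) (tt N3509 (iv F11004)) (tt N2441 F7735) (tt N1653 (iv D2504)) (tt N2886 F9095) (tt N2888 (iv F9102)))
theorem Q2443 : ∀ i, i < 2443 → P i := stepQ 2442 Q2442 (allL N2442 (tt N1707 F7736) (tt N1655 F7737) (tt N1873 F7738) (tt N3511 D3574) (tt N2442 F7739) (tt N2888 F9103) (tt N2892 (iv F9111)) (tt N1653 (iv D2505)))
theorem Q2444 : ∀ i, i < 2444 → P i := stepQ 2443 Q2443 (allL N2443 (tt N1658 F7740) (tt N3508 (iv F11000)) (tt N2443 F7741) (tt N2443 F7742) (tt N1654 (iv D2506)) (tt N3499 (iv F10968)) (tt N2316 F7743) (tt N3512 D3575))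
theorem Q2445 : ∀ i, i < 2445 → P i := stepQ 2444 Q2444 (allL N2444 (tt N1659 F7744) (tt N3510 (iv F11006)) (tt N2444 F7745) (tt N3513 D3576) (tt N3512 (iv F11011)) (tt N3500 (iv F10972)) (tt N3514 D3577) (tt N1654 (iv D2507)))
theorem Q2446 : ∀ i, i < 2446 → P i := stepQ 2445 Q2445 (allL N2445 (tt N1660 F7746) (tt N3511 (iv F11008)) (tt N3515 D3578) (tt N1655 (iv D2508)) (tt N3516 D3579) (tt N3501 (iv F10974)) (tt N3517 D3580) (tt N3513 (iv F11013)))
theorem Q2447 : ∀ i, i < 2447 → P i := stepQ 2446 Q2446 (allL N2446 (tt N1661 F7747) (tt N2892 F9112) (tt N1657 F7748) (tt N3517 (iv F11021)) (tt N2446 F7749) (tt N2905 (iv F9154)) (tt N1655 (iv D2509)) (tt N2589 (iv F8149)))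
theorem Q2448 : ∀ i, i < 2448 → P i := stepQ 2447 Q2447 (allL N2447 (tt N1662 F7750) (tt N3518 D3581) (tt N1656 (iv D2510)) (tt N3515 (iv F11017)) (tt N2471 (iv F7817)) (tt N2470 F7813) (tt N3519 D3582) (tt N2447 F7751))
theorem Q2449 : ∀ i, i < 2449 → P i := stepQ 2448 Q2448 (allL N2448 (tt N1663 F7752) (tt N1879 F7753) (tt N2471 (iv F7815)) (tt N2448 F7754) (tt N1656 (iv D2511)) (tt N2439 F7755) (tt N3520 D3583) (tt N2448 F7756))
theorem Q2450 : ∀ i, i < 2450 → P i := stepQ 2449 Q2449 (allL N2449 (tt N1664 F7757) (tt N1880 F7758) (tt N3519 (iv F11025)) (tt N1657 F7759) (tt N3520 (iv F11029)) (tt N3521 D3584) (tt N1656 (iv D2512)) (tt N3522 D3585))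
theorem Q2451 : ∀ i, i < 2451 → P i := stepQ 2450 Q2450 (allL N2450 (tt N1665 F7760) (tt N2917 (iv F9188)) (tt N2905 F9156) (tt N3521 (iv F11031)) (tt N2450 F7761) (tt N1657 (iv D2513)) (tt N3175 (iv F9995)) (tt N2569 (iv F8091)))
theorem Q2452 : ∀ i, i < 2452 → P i := stepQ 2451 Q2451 (allL N2451 (tt N3512 (iv F11009)) (tt N1716 F7762) (tt N2451 F7763) (tt N3523 D3586) (tt N1659 F7764) (tt N3503 (iv F10984)) (tt N3524 D3587) (tt N1658 (iv D2514)))
theorem Q2453 : ∀ i, i < 2453 → P i := stepQ 2452 Q2452 (allL N2452 (tt N3513 (iv F11012)) (tt N1717 F7765) (tt N3525 D3588) (tt N1659 (iv D2515)) (tt N3526 D3589) (tt N3504 (iv F10986)) (tt N3527 D3590) (tt N1660 F7766))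
theorem Q2454 : ∀ i, i < 2454 → P i := stepQ 2453 Q2453 (allL N2453 (tt N3514 (iv F11014)) (tt N1718 F7767) (tt N2453 F7768) (tt N3527 (iv F11046)) (tt N3524 (iv F11039)) (tt N3528 D3591) (tt N1659 (iv D2516)) (tt N2621 (iv F8264)))
theorem Q2455 : ∀ i, i < 2455 → P i := stepQ 2454 Q2454 (allL N2454 (tt N3515 (iv F11016)) (tt N3529 D3592) (tt N1660 (iv D2517)) (tt N1662 F7769) (tt N2597 (iv F8172)) (tt N2472 (iv F7822)) (tt N3530 D3593) (tt N3525 (iv F11042)))
theorem Q2456 : ∀ i, i < 2456 → P i := stepQ 2455 Q2455 (allL N2455 (tt N3516 (iv F11018)) (tt N1720 F7770) (tt N2597 (iv F8170)) (tt N2455 F7771) (tt N1660 (iv D2518)) (tt N2596 F8169) (tt N3388 (iv F10610)) (tt N3526 (iv F11044)))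
theorem Q2457 : ∀ i, i < 2457 → P i := stepQ 2456 Q2456 (allL N2456 (tt N3517 (iv F11020)) (tt N1721 F7772) (tt N3530 (iv F11050)) (tt N1661 F7773) (tt N3388 (iv F10609)) (tt N2579 F8660) (tt N1660 (iv D2519)) (tt N2578 (iv F8663)))
theorem Q2458 : ∀ i, i < 2458 → P i := stepQ 2457 Q2457 (allL N2457 (tt N2905 (iv F9152)) (tt N2584 F8667) (tt N1665 F7774) (tt N2579 (iv F8662)) (tt N2457 F7775) (tt N1661 (iv D2520)) (tt N2743 (iv F8674)) (tt N2570 (iv F8095)))
theorem Q2459 : ∀ i, i < 2459 → P i := stepQ 2458 Q2458 (allL N2458 (tt N3531 D3594) (tt N1662 (iv D2521)) (tt N1666 F7776) (tt N3529 (iv F11049)) (tt N2465 (iv F7794)) (tt N2464 F7790) (tt N3532 D3595) (tt N2458 F7777))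
theorem Q2460 : ∀ i, i < 2460 → P i := stepQ 2459 Q2459 (allL N2459 (tt N3519 (iv F11024)) (tt N3532 (iv F11054)) (tt N1664 F7778) (tt N3530 (iv F11051)) (tt N2473 (iv F7825)) (tt N3533 D3596) (tt N1662 (iv D2522)) (tt N3534 D3597))
theorem Q2461 : ∀ i, i < 2461 → P i := stepQ 2460 Q2460 (allL N2460 (tt N3520 (iv F11026)) (tt N1669 F7779) (tt N2473 (iv F7823)) (tt N2460 F7780) (tt N1664 F7781) (tt N3535 D3598) (tt N1663 (iv D2523)) (tt N3383 (iv F10583)))
theorem Q2462 : ∀ i, i < 2462 → P i := stepQ 2461 Q2461 (allL N2461 (tt N3521 (iv F11030)) (tt N2508 (iv F7928)) (tt N3533 (iv F11056)) (tt N1665 F7782) (tt N3535 (iv F11063)) (tt N1664 (iv D2524)) (tt N3506 (iv F10994)) (tt N3536 D3599))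
theorem Q2463 : ∀ i, i < 2463 → P i := stepQ 2462 Q2462 (allL N2462 (tt N3522 (iv F11032)) (tt N1670 F7783) (tt N3534 (iv F11059)) (tt N2588 (iv F8143)) (tt N3383 (iv F10581)) (tt N3536 (iv F11065)) (tt N2462 F7784) (tt N1664 (iv D2525)))
theorem Q2464 : ∀ i, i < 2464 → P i := stepQ 2463 Q2463 (allL N2463 (tt N1666 (iv D2526)) (tt N1895 F7785) (tt N3531 (iv F11052)) (tt N1730 F7786) (tt N3537 D3600) (tt N3538 D3601) (tt N3539 D3602) (tt N2463 F7787))
theorem Q2465 : ∀ i, i < 2465 → P i := stepQ 2464 Q2464 (allL N2464 (tt N3537 (iv F11066)) (tt N1667 F7788) (tt N2465 (iv F7792)) (tt N3540 D3603) (tt N1666 (iv D2527)) (tt N2458 (iv F7790)) (tt N3541 D3604) (tt N2464 F7789))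
theorem Q2466 : ∀ i, i < 2466 → P i := stepQ 2465 Q2465 (allL N2465 (tt N3538 (iv F11070)) (tt N1673 F7791) (tt N2464 F7792) (tt N1732 F7793) (tt N2458 F7794) (tt N1666 (iv D2528)) (tt N3542 D3605) (tt N2465 F7795))
theorem Q2467 : ∀ i, i < 2467 → P i := stepQ 2466 Q2466 (allL N2466 (tt N3539 (iv F11075)) (tt N1668 F7796) (tt N3532 (iv F11055)) (tt N1733 F7797) (tt N3541 (iv F11083)) (tt N3543 D3606) (tt N1666 (iv D2529)) (tt N3544 D3607))
theorem Q2468 : ∀ i, i < 2468 → P i := stepQ 2467 Q2467 (allL N2467 (tt N1899 F7798) (tt N3540 (iv F11078)) (tt N2467 F7799) (tt N1667 (iv D2530)) (tt N1734 F7800) (tt N1674 F7801) (tt N3545 D3608) (tt N2358 F7802))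
theorem Q2469 : ∀ i, i < 2469 → P i := stepQ 2468 Q2468 (allL N2468 (tt N1900 F7803) (tt N3541 (iv F11082)) (tt N1669 F7804) (tt N3545 (iv F11096)) (tt N1668 F7805) (tt N2515 (iv F7948)) (tt N1667 (iv D2531)) (tt N3382 (iv F10579)))
theorem Q2470 : ∀ i, i < 2470 → P i := stepQ 2469 Q2469 (allL N2469 (tt N1901 F7806) (tt N3544 (iv F11090)) (tt N1670 F7807) (tt N3546 D3609) (tt N3382 (iv F10577)) (tt N2516 (iv F7953)) (tt N2469 F7808) (tt N1668 (iv D2532)))
theorem Q2471 : ∀ i, i < 2471 → P i := stepQ 2470 Q2470 (allL N2470 (tt N1672 F7809) (tt N1902 F7810) (tt N2431 F7811) (tt N3547 D3610) (tt N1671 (iv D2533)) (tt N2447 (iv F7813)) (tt N2517 (iv F7957)) (tt N2470 F7812))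
theorem Q2472 : ∀ i, i < 2472 → P i := stepQ 2471 Q2471 (allL N2471 (tt N1673 F7814) (tt N3548 D3611) (tt N2448 F7815) (tt N1744 F7816) (tt N2447 F7817) (tt N1671 (iv D2534)) (tt N3549 D3612) (tt N2471 F7818))
theorem Q2473 : ∀ i, i < 2473 → P i := stepQ 2472 Q2472 (allL N2472 (tt N3547 (iv F11105)) (tt N1674 F7819) (tt N2435 F7820) (tt N1672 (iv D2535)) (tt N1746 F7821) (tt N2454 F7822) (tt N2519 (iv F7962)) (tt N3550 D3613))
theorem Q2474 : ∀ i, i < 2474 → P i := stepQ 2473 Q2473 (allL N2473 (tt N3549 (iv F11114)) (tt N3542 (iv F11084)) (tt N2460 F7823) (tt N1749 F7824) (tt N2459 F7825) (tt N2521 (iv F7965)) (tt N1673 (iv D2536)) (tt N3551 D3614))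
theorem Q2475 : ∀ i, i < 2475 → P i := stepQ 2474 Q2474 (allL N2474 (tt N1907 F7826) (tt N3550 (iv F11118)) (tt N2474 F7827) (tt N2474 F7828) (tt N1752 F7829) (tt N2358 F7830) (tt N3552 D3615) (tt N1674 (iv D2537)))
theorem Q2476 : ∀ i, i < 2476 → P i := stepQ 2475 Q2475 (allL N2475 (tt N2475 F7831) (tt N1675 (iv D2538)) (tt N2475 F7832) (tt N2147 F7833) (tt N2475 F7834) (tt N3553 D3616) (tt N2475 F7835) (tt N3554 D3617))
theorem Q2477 : ∀ i, i < 2477 → P i := stepQ 2476 Q2476 (allL N2476 (tt N1677 F7836) (tt N3554 (iv F11137)) (tt N1676 F7837) (tt N3555 D3618) (tt N2476 F7838) (tt N1686 F7839) (tt N3556 D3619) (tt N1675 (iv D2539)))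
theorem Q2478 : ∀ i, i < 2478 → P i := stepQ 2477 Q2477 (allL N2477 (tt N1678 F7840) (tt N2477 F7841) (tt N3557 D3620) (tt N1676 (iv D2540)) (tt N3558 D3621) (tt N1687 F7842) (tt N3559 D3622) (tt N1764 F7843))
theorem Q2479 : ∀ i, i < 2479 → P i := stepQ 2478 Q2478 (allL N2478 (tt N1679 F7844) (tt N2478 F7845) (tt N3556 (iv F11144)) (tt N3559 (iv F11157)) (tt N2478 F7846) (tt N3560 D3623) (tt N1676 (iv D2541)) (tt N2478 F7847))
theorem Q2480 : ∀ i, i < 2480 → P i := stepQ 2479 Q2479 (allL N2479 (tt N3555 (iv F11140)) (tt N2479 F7848) (tt N3561 D3624) (tt N1677 (iv D2542)) (tt N3562 D3625) (tt N1690 F7849) (tt N3563 D3626) (tt N2314 F7850))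
theorem Q2481 : ∀ i, i < 2481 → P i := stepQ 2480 Q2480 (allL N2480 (tt N3556 (iv F11143)) (tt N2480 F7851) (tt N1679 F7852) (tt N3563 (iv F11179)) (tt N2480 F7853) (tt N3564 D3627) (tt N1677 (iv D2543)) (tt N2480 F7854))
theorem Q2482 : ∀ i, i < 2482 → P i := stepQ 2481 Q2481 (allL N2481 (tt N3557 (iv F11147)) (tt N3565 D3628) (tt N1678 (iv D2544)) (tt N3561 (iv F11170)) (tt N3566 D3629) (tt N1692 F7855) (tt N3567 D3630) (tt N1766 F7856))
theorem Q2483 : ∀ i, i < 2483 → P i := stepQ 2482 Q2482 (allL N2482 (tt N3558 (iv F11150)) (tt N1681 F7857) (tt N3566 (iv F11192)) (tt N2482 F7858) (tt N1678 (iv D2545)) (tt N1693 F7859) (tt N2485 (iv F7869)) (tt N1767 F7860))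
theorem Q2484 : ∀ i, i < 2484 → P i := stepQ 2483 Q2483 (allL N2483 (tt N3559 (iv F11155)) (tt N1682 F7861) (tt N3567 (iv F11197)) (tt N1679 F7862) (tt N2485 (iv F7868)) (tt N3568 D3631) (tt N1678 (iv D2546)) (tt N2635 (iv F8311)))
theorem Q2485 : ∀ i, i < 2485 → P i := stepQ 2484 Q2484 (allL N2484 (tt N3560 (iv F11158)) (tt N2438 F7863) (tt N3564 (iv F11184)) (tt N3568 (iv F11200)) (tt N2484 F7864) (tt N1679 (iv D2547)) (tt N1695 F7865) (tt N2484 F7866))
theorem Q2486 : ∀ i, i < 2486 → P i := stepQ 2485 Q2485 (allL N2485 (tt N3569 D3632) (tt N1680 (iv D2548)) (tt N3565 (iv F11190)) (tt N2485 F7867) (tt N2483 F7868) (tt N3570 D3633) (tt N2482 F7869) (tt N1770 F7870))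
theorem Q2487 : ∀ i, i < 2487 → P i := stepQ 2486 Q2486 (allL N2486 (tt N1683 (iv D2549)) (tt N2486 F7871) (tt N1701 F7872) (tt N2486 F7873) (tt N3502 (iv F10979)) (tt N3571 D3634) (tt N2439 F7874) (tt N1775 F7875))
theorem Q2488 : ∀ i, i < 2488 → P i := stepQ 2487 Q2487 (allL N2487 (tt N3571 (iv F11211)) (tt N3570 (iv F11207)) (tt N1703 F7876) (tt N2487 F7877) (tt N3506 (iv F10993)) (tt N1683 (iv D2550)) (tt N3535 (iv F11064)) (tt N1777 F7878))
theorem Q2489 : ∀ i, i < 2489 → P i := stepQ 2488 Q2488 (allL N2488 (tt N2618 (iv F8252)) (tt N1685 F7879) (tt N3572 D3635) (tt N1684 (iv D2551)) (tt N2233 (iv F7881)) (tt N3573 D3636) (tt N1705 F7880) (tt N3574 D3637))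
theorem Q2490 : ∀ i, i < 2490 → P i := stepQ 2489 Q2489 (allL N2489 (tt N2619 (iv F8255)) (tt N3553 (iv F11132)) (tt N1909 F7882) (tt N3573 (iv F11220)) (tt N2489 F7883) (tt N1684 (iv D2552)) (tt N3575 D3638) (tt N3576 D3639))
theorem Q2491 : ∀ i, i < 2491 → P i := stepQ 2490 Q2490 (allL N2490 (tt N2614 (iv F8237)) (tt N1686 F7884) (tt N1910 F7885) (tt N3577 D3640) (tt N2490 F7886) (tt N3576 (iv F11232)) (tt N3578 D3641) (tt N1684 (iv D2553)))
theorem Q2492 : ∀ i, i < 2492 → P i := stepQ 2491 Q2491 (allL N2491 (tt N1689 F7887) (tt N3574 (iv F11222)) (tt N1780 F7888) (tt N3579 D3642) (tt N2234 F7889) (tt N2232 F7890) (tt N3580 D3643) (tt N1685 (iv D2554)))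
theorem Q2493 : ∀ i, i < 2493 → P i := stepQ 2492 Q2492 (allL N2492 (tt N1690 F7891) (tt N3577 (iv F11234)) (tt N3581 D3644) (tt N1686 (iv D2555)) (tt N3582 D3645) (tt N3555 (iv F11141)) (tt N3583 D3646) (tt N3579 (iv F11242)))
theorem Q2494 : ∀ i, i < 2494 → P i := stepQ 2493 Q2493 (allL N2493 (tt N1691 F7892) (tt N3578 (iv F11235)) (tt N1688 F7893) (tt N3583 (iv F11252)) (tt N2493 F7894) (tt N3584 D3647) (tt N1686 (iv D2556)) (tt N1711 F7895))
theorem Q2495 : ∀ i, i < 2495 → P i := stepQ 2494 Q2494 (allL N2494 (tt N1692 F7896) (tt N3585 D3648) (tt N1687 (iv D2557)) (tt N3581 (iv F11248)) (tt N3586 D3649) (tt N3557 (iv F11148)) (tt N3587 D3650) (tt N1783 F7897))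
theorem Q2496 : ∀ i, i < 2496 → P i := stepQ 2495 Q2495 (allL N2495 (tt N1693 F7898) (tt N1916 F7899) (tt N3586 (iv F11262)) (tt N2495 F7900) (tt N1687 (iv D2558)) (tt N3558 (iv F11153)) (tt N3588 D3651) (tt N1784 F7901))
theorem Q2497 : ∀ i, i < 2497 → P i := stepQ 2496 Q2496 (allL N2496 (tt N1694 F7902) (tt N1917 F7903) (tt N3587 (iv F11265)) (tt N1688 F7904) (tt N3588 (iv F11269)) (tt N3589 D3652) (tt N1687 (iv D2559)) (tt N3590 D3653))
theorem Q2498 : ∀ i, i < 2498 → P i := stepQ 2497 Q2497 (allL N2497 (tt N1695 F7905) (tt N3591 D3654) (tt N3584 (iv F11255)) (tt N3589 (iv F11272)) (tt N2497 F7906) (tt N1688 (iv D2560)) (tt N3560 (iv F11160)) (tt N1715 F7907))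
theorem Q2499 : ∀ i, i < 2499 → P i := stepQ 2498 Q2498 (allL N2498 (tt N3579 (iv F11240)) (tt N2617 (iv F8246)) (tt N3592 D3655) (tt N1689 (iv D2561)) (tt N3593 D3656) (tt N2314 F7908) (tt N3594 D3657) (tt N1690 F7909))
theorem Q2500 : ∀ i, i < 2500 → P i := stepQ 2499 Q2499 (allL N2499 (tt N3580 (iv F11243)) (tt N2621 (iv F8262)) (tt N1788 F7910) (tt N3594 (iv F11291)) (tt N2319 F7911) (tt N3595 D3658) (tt N1689 (iv D2562)) (tt N1718 F7912))
theorem Q2501 : ∀ i, i < 2501 → P i := stepQ 2500 Q2500 (allL N2500 (tt N3581 (iv F11247)) (tt N3596 D3659) (tt N1690 (iv D2563)) (tt N1692 F7913) (tt N3597 D3660) (tt N3561 (iv F11171)) (tt N3598 D3661) (tt N3592 (iv F11286)))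
theorem Q2502 : ∀ i, i < 2502 → P i := stepQ 2501 Q2501 (allL N2501 (tt N3582 (iv F11249)) (tt N2616 (iv F8243)) (tt N3597 (iv F11300)) (tt N2501 F7914) (tt N1690 (iv D2564)) (tt N3562 (iv F11175)) (tt N3599 D3662) (tt N3593 (iv F11290)))
theorem Q2503 : ∀ i, i < 2503 → P i := stepQ 2502 Q2502 (allL N2502 (tt N3583 (iv F11251)) (tt N2590 (iv F8150)) (tt N3598 (iv F11302)) (tt N1691 F7915) (tt N3599 (iv F11305)) (tt N3600 D3663) (tt N1690 (iv D2565)) (tt N3601 D3664))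
theorem Q2504 : ∀ i, i < 2504 → P i := stepQ 2503 Q2503 (allL N2503 (tt N3584 (iv F11253)) (tt N3602 D3665) (tt N1695 F7916) (tt N3600 (iv F11308)) (tt N2503 F7917) (tt N1691 (iv D2566)) (tt N3564 (iv F11187)) (tt N1722 F7918))
theorem Q2505 : ∀ i, i < 2505 → P i := stepQ 2504 Q2504 (allL N2504 (tt N3603 D3666) (tt N1692 (iv D2567)) (tt N1696 F7919) (tt N3596 (iv F11297)) (tt N3604 D3667) (tt N3605 D3668) (tt N3606 D3669) (tt N1793 F7920))
theorem Q2506 : ∀ i, i < 2506 → P i := stepQ 2505 Q2505 (allL N2505 (tt N3586 (iv F11261)) (tt N3604 (iv F11324)) (tt N1693 F7921) (tt N3607 D3670) (tt N1692 (iv D2568)) (tt N3566 (iv F11193)) (tt N3608 D3671) (tt N1794 F7922))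
theorem Q2507 : ∀ i, i < 2507 → P i := stepQ 2506 Q2506 (allL N2506 (tt N3587 (iv F11264)) (tt N3606 (iv F11329)) (tt N1694 F7923) (tt N3598 (iv F11303)) (tt N3608 (iv F11333)) (tt N3609 D3672) (tt N1692 (iv D2569)) (tt N3610 D3673))
theorem Q2508 : ∀ i, i < 2508 → P i := stepQ 2507 Q2507 (allL N2507 (tt N3588 (iv F11266)) (tt N1699 F7924) (tt N3608 (iv F11332)) (tt N2507 F7925) (tt N1694 F7926) (tt N3611 D3674) (tt N1693 (iv D2570)) (tt N2325 F7927))
theorem Q2509 : ∀ i, i < 2509 → P i := stepQ 2508 Q2508 (allL N2508 (tt N3589 (iv F11271)) (tt N2461 F7928) (tt N3609 (iv F11335)) (tt N1695 F7929) (tt N3611 (iv F11341)) (tt N1694 (iv D2571)) (tt N3568 (iv F11201)) (tt N3612 D3675))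
theorem Q2510 : ∀ i, i < 2510 → P i := stepQ 2509 Q2509 (allL N2509 (tt N3590 (iv F11273)) (tt N1700 F7930) (tt N3610 (iv F11336)) (tt N1728 F7931) (tt N2325 F7932) (tt N3612 (iv F11347)) (tt N1796 F7933) (tt N1694 (iv D2572)))
theorem Q2511 : ∀ i, i < 2511 → P i := stepQ 2510 Q2510 (allL N2510 (tt N1696 (iv D2573)) (tt N1932 F7934) (tt N3603 (iv F11322)) (tt N2609 (iv F8221)) (tt N3613 D3676) (tt N3614 D3677) (tt N3615 D3678) (tt N1797 F7935))
theorem Q2512 : ∀ i, i < 2512 → P i := stepQ 2511 Q2511 (allL N2511 (tt N3613 (iv F11348)) (tt N1697 F7936) (tt N3604 (iv F11325)) (tt N2731 (iv F8620)) (tt N1696 (iv D2574)) (tt N2732 (iv F8625)) (tt N3616 D3679) (tt N1798 F7937))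
theorem Q2513 : ∀ i, i < 2513 → P i := stepQ 2512 Q2512 (allL N2512 (tt N3614 (iv F11351)) (tt N1703 F7938) (tt N3605 (iv F11327)) (tt N2604 (iv F8188)) (tt N2732 (iv F8624)) (tt N1696 (iv D2575)) (tt N3617 D3680) (tt N1799 F7939))
theorem Q2514 : ∀ i, i < 2514 → P i := stepQ 2513 Q2513 (allL N2513 (tt N3615 (iv F11353)) (tt N1698 F7940) (tt N3606 (iv F11330)) (tt N2582 (iv F8124)) (tt N3616 (iv F11356)) (tt N3601 (iv F11314)) (tt N1696 (iv D2576)) (tt N3600 F11311))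
theorem Q2515 : ∀ i, i < 2515 → P i := stepQ 2514 Q2514 (allL N2514 (tt N1936 F7941) (tt N2731 (iv F8618)) (tt N2514 F7942) (tt N1697 (iv D2577)) (tt N2605 (iv F8194)) (tt N1704 F7943) (tt N3618 D3681) (tt N2418 F7944))
theorem Q2516 : ∀ i, i < 2516 → P i := stepQ 2515 Q2515 (allL N2515 (tt N1937 F7945) (tt N3616 (iv F11355)) (tt N1699 F7946) (tt N3618 (iv F11361)) (tt N1698 F7947) (tt N2468 F7948) (tt N1697 (iv D2578)) (tt N2338 F7949))
theorem Q2517 : ∀ i, i < 2517 → P i := stepQ 2516 Q2516 (allL N2516 (tt N1938 F7950) (tt N3600 (iv F11307)) (tt N1700 F7951) (tt N3602 (iv F11317)) (tt N2338 F7952) (tt N2469 F7953) (tt N1801 F7954) (tt N1698 (iv D2579)))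
theorem Q2518 : ∀ i, i < 2518 → P i := stepQ 2517 Q2517 (allL N2517 (tt N1702 F7955) (tt N1939 F7956) (tt N3502 (iv F10977)) (tt N3619 D3682) (tt N1701 (iv D2580)) (tt N3620 D3683) (tt N2470 F7957) (tt N1802 F7958))
theorem Q2519 : ∀ i, i < 2519 → P i := stepQ 2518 Q2518 (allL N2518 (tt N1703 F7959) (tt N3621 D3684) (tt N3571 (iv F11212)) (tt N2595 (iv F8164)) (tt N3620 (iv F11369)) (tt N1701 (iv D2581)) (tt N3622 D3685) (tt N1803 F7960))
theorem Q2520 : ∀ i, i < 2520 → P i := stepQ 2519 Q2519 (allL N2519 (tt N3619 (iv F11364)) (tt N1704 F7961) (tt N2742 (iv F8655)) (tt N1702 (iv D2582)) (tt N2598 (iv F8175)) (tt N2730 (iv F8617)) (tt N2472 F7962) (tt N2729 F8612))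
theorem Q2521 : ∀ i, i < 2521 → P i := stepQ 2520 Q2520 (allL N2520 (tt N3620 (iv F11368)) (tt N2732 (iv F8623)) (tt N3506 (iv F10991)) (tt N2730 (iv F8615)) (tt N1703 F7963) (tt N1702 (iv D2583)) (tt N3533 (iv F11058)) (tt N1805 F7964))
theorem Q2522 : ∀ i, i < 2522 → P i := stepQ 2521 Q2521 (allL N2521 (tt N3622 (iv F11373)) (tt N3617 (iv F11358)) (tt N3535 (iv F11061)) (tt N2602 (iv F8184)) (tt N3533 (iv F11057)) (tt N2473 F7965) (tt N1703 (iv D2584)) (tt N3623 D3686))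
theorem Q2523 : ∀ i, i < 2523 → P i := stepQ 2522 Q2522 (allL N2522 (tt N1944 F7966) (tt N2729 (iv F8608)) (tt N2522 F7967) (tt N1807 F7968) (tt N2606 (iv F8209)) (tt N2418 F7969) (tt N3624 D3687) (tt N1704 (iv D2585)))
theorem Q2524 : ∀ i, i < 2524 → P i := stepQ 2523 Q2523 (allL N2523 (tt N3507 (iv F10996)) (tt N1808 F7970) (tt N1705 (iv D2586)) (tt N1945 F7971) (tt N3625 D3688) (tt N3626 D3689) (tt N3572 (iv F11218)) (tt N3627 D3690))
theorem Q2525 : ∀ i, i < 2525 → P i := stepQ 2524 Q2524 (allL N2524 (tt N3508 (iv F10999)) (tt N1708 F7972) (tt N3625 (iv F11383)) (tt N2524 F7973) (tt N1705 (iv D2587)) (tt N3628 D3691) (tt N2233 F7974) (tt N3629 D3692))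
theorem Q2526 : ∀ i, i < 2526 → P i := stepQ 2525 Q2525 (allL N2525 (tt N3509 (iv F11003)) (tt N2525 F7975) (tt N3626 (iv F11385)) (tt N1706 F7976) (tt N3628 (iv F11391)) (tt N1705 (iv D2588)) (tt N3630 D3693) (tt N3631 D3694))
theorem Q2527 : ∀ i, i < 2527 → P i := stepQ 2526 Q2526 (allL N2526 (tt N3510 (iv F11005)) (tt N1709 F7977) (tt N3627 (iv F11388)) (tt N3632 D3695) (tt N3629 (iv F11393)) (tt N3631 (iv F11397)) (tt N3633 D3696) (tt N1705 (iv D2589)))
theorem Q2528 : ∀ i, i < 2528 → P i := stepQ 2527 Q2527 (allL N2527 (tt N2886 (iv F9091)) (tt N2527 F7978) (tt N1949 F7979) (tt N3630 (iv F11395)) (tt N2527 F7980) (tt N3575 (iv F11227)) (tt N1706 (iv D2590)) (tt N2767 F8838))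
theorem Q2529 : ∀ i, i < 2529 → P i := stepQ 2528 Q2528 (allL N2528 (tt N2888 (iv F9098)) (tt N2528 F7981) (tt N1950 F7982) (tt N3634 D3697) (tt N2528 F7983) (tt N1707 F7984) (tt N2768 (iv F8837)) (tt N1706 (iv D2591)))
theorem Q2530 : ∀ i, i < 2530 → P i := stepQ 2529 Q2529 (allL N2529 (tt N3511 (iv F11007)) (tt N1710 F7985) (tt N3635 D3698) (tt N1707 (iv D2592)) (tt N3636 D3699) (tt N3634 (iv F11402)) (tt N3637 D3700) (tt N3632 (iv F11399)))
theorem Q2531 : ∀ i, i < 2531 → P i := stepQ 2530 Q2530 (allL N2530 (tt N2892 (iv F9108)) (tt N1711 F7986) (tt N1952 F7987) (tt N3637 (iv F11407)) (tt N2530 F7988) (tt N2770 F8836) (tt N1707 (iv D2593)) (tt N3578 (iv F11239)))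
theorem Q2532 : ∀ i, i < 2532 → P i := stepQ 2531 Q2531 (allL N2531 (tt N1716 F7989) (tt N3629 (iv F11392)) (tt N1816 F7990) (tt N3638 D3701) (tt N1709 F7991) (tt N2531 F7992) (tt N3639 D3702) (tt N1708 (iv D2594)))
theorem Q2533 : ∀ i, i < 2533 → P i := stepQ 2532 Q2532 (allL N2532 (tt N1717 F7993) (tt N3632 (iv F11398)) (tt N3640 D3703) (tt N1709 (iv D2595)) (tt N3641 D3704) (tt N2532 F7994) (tt N3642 D3705) (tt N1710 F7995))
theorem Q2534 : ∀ i, i < 2534 → P i := stepQ 2533 Q2533 (allL N2533 (tt N1718 F7996) (tt N3633 (iv F11400)) (tt N1818 F7997) (tt N3642 (iv F11424)) (tt N3639 (iv F11414)) (tt N3643 D3706) (tt N1709 (iv D2596)) (tt N3580 (iv F11246)))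
theorem Q2535 : ∀ i, i < 2535 → P i := stepQ 2534 Q2534 (allL N2534 (tt N1719 F7998) (tt N3644 D3707) (tt N1710 (iv D2597)) (tt N1712 F7999) (tt N3645 D3708) (tt N2534 F8000) (tt N3646 D3709) (tt N3640 (iv F11419)))
theorem Q2536 : ∀ i, i < 2536 → P i := stepQ 2535 Q2535 (allL N2535 (tt N1720 F8001) (tt N3636 (iv F11404)) (tt N3645 (iv F11430)) (tt N2535 F8002) (tt N1710 (iv D2598)) (tt N2535 F8003) (tt N3647 D3710) (tt N3641 (iv F11422)))
theorem Q2537 : ∀ i, i < 2537 → P i := stepQ 2536 Q2536 (allL N2536 (tt N1721 F8004) (tt N3637 (iv F11406)) (tt N3646 (iv F11433)) (tt N1711 F8005) (tt N3647 (iv F11437)) (tt N3648 D3711) (tt N1710 (iv D2599)) (tt N3649 D3712))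
theorem Q2538 : ∀ i, i < 2538 → P i := stepQ 2537 Q2537 (allL N2537 (tt N1722 F8006) (tt N2777 (iv F8834)) (tt N1715 F8007) (tt N3648 (iv F11439)) (tt N2537 F8008) (tt N1711 (iv D2600)) (tt N2537 F8009) (tt N3584 (iv F11258)))
theorem Q2539 : ∀ i, i < 2539 → P i := stepQ 2538 Q2538 (allL N2538 (tt N3650 D3713) (tt N1712 (iv D2601)) (tt N1960 F8010) (tt N3644 (iv F11428)) (tt N3651 D3714) (tt N3652 D3715) (tt N3653 D3716) (tt N1822 F8011))
theorem Q2540 : ∀ i, i < 2540 → P i := stepQ 2539 Q2539 (allL N2539 (tt N1724 F8012) (tt N3651 (iv F11445)) (tt N1713 F8013) (tt N3654 D3717) (tt N1712 (iv D2602)) (tt N2539 F8014) (tt N3655 D3718) (tt N1823 F8015))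
theorem Q2541 : ∀ i, i < 2541 → P i := stepQ 2540 Q2540 (allL N2540 (tt N1725 F8016) (tt N3653 (iv F11451)) (tt N1714 F8017) (tt N3646 (iv F11434)) (tt N3655 (iv F11459)) (tt N3656 D3719) (tt N1712 (iv D2603)) (tt N3657 D3720))
theorem Q2542 : ∀ i, i < 2542 → P i := stepQ 2541 Q2541 (allL N2541 (tt N1726 F8018) (tt N1963 F8019) (tt N3655 (iv F11458)) (tt N2541 F8020) (tt N1714 F8021) (tt N3658 D3721) (tt N1713 (iv D2604)) (tt N2242 F8022))
theorem Q2543 : ∀ i, i < 2543 → P i := stepQ 2542 Q2542 (allL N2542 (tt N1727 F8023) (tt N3659 D3722) (tt N3656 (iv F11462)) (tt N1715 F8024) (tt N3658 (iv F11470)) (tt N1714 (iv D2605)) (tt N2542 F8025) (tt N3660 D3723))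
theorem Q2544 : ∀ i, i < 2544 → P i := stepQ 2543 Q2543 (allL N2543 (tt N1728 F8026) (tt N1965 F8027) (tt N3657 (iv F11465)) (tt N3590 (iv F11275)) (tt N2242 F8028) (tt N3660 (iv F11478)) (tt N1826 F8029) (tt N1714 (iv D2606)))
theorem Q2545 : ∀ i, i < 2545 → P i := stepQ 2544 Q2544 (allL N2544 (tt N3661 D3724) (tt N1715 (iv D2607)) (tt N2784 F8835) (tt N3659 (iv F11473)) (tt N2544 F8030) (tt N1966 F8031) (tt N2544 F8032) (tt N3591 (iv F11283)))
theorem Q2546 : ∀ i, i < 2546 → P i := stepQ 2545 Q2545 (allL N2545 (tt N3638 (iv F11408)) (tt N3523 (iv F11035)) (tt N2545 F8033) (tt N1716 (iv D2608)) (tt N3662 D3725) (tt N2545 F8034) (tt N3663 D3726) (tt N2545 F8035))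
theorem Q2547 : ∀ i, i < 2547 → P i := stepQ 2546 Q2546 (allL N2546 (tt N3639 (iv F11412)) (tt N3524 (iv F11037)) (tt N1828 F8036) (tt N3663 (iv F11490)) (tt N1718 F8037) (tt N3664 D3727) (tt N1716 (iv D2609)) (tt N2319 F8038))
theorem Q2548 : ∀ i, i < 2548 → P i := stepQ 2547 Q2547 (allL N2547 (tt N3640 (iv F11416)) (tt N3665 D3728) (tt N1717 (iv D2610)) (tt N1829 F8039) (tt N3666 D3729) (tt N2547 F8040) (tt N3667 D3730) (tt N1719 F8041))
theorem Q2549 : ∀ i, i < 2549 → P i := stepQ 2548 Q2548 (allL N2548 (tt N3641 (iv F11420)) (tt N3526 (iv F11043)) (tt N3666 (iv F11497)) (tt N3662 (iv F11486)) (tt N1717 (iv D2611)) (tt N2548 F8042) (tt N3668 D3731) (tt N1720 F8043))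
theorem Q2550 : ∀ i, i < 2550 → P i := stepQ 2549 Q2549 (allL N2549 (tt N3642 (iv F11423)) (tt N3527 (iv F11045)) (tt N3667 (iv F11501)) (tt N1718 F8044) (tt N3668 (iv F11503)) (tt N3669 D3732) (tt N1717 (iv D2612)) (tt N3670 D3733))
theorem Q2551 : ∀ i, i < 2551 → P i := stepQ 2550 Q2550 (allL N2550 (tt N3643 (iv F11425)) (tt N3671 D3734) (tt N1831 F8045) (tt N3669 (iv F11504)) (tt N3664 (iv F11492)) (tt N1718 (iv D2613)) (tt N2550 F8046) (tt N3595 (iv F11295)))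
theorem Q2552 : ∀ i, i < 2552 → P i := stepQ 2551 Q2551 (allL N2551 (tt N3672 D3735) (tt N1719 (iv D2614)) (tt N3529 (iv F11048)) (tt N1723 F8047) (tt N3673 D3736) (tt N3674 D3737) (tt N3675 D3738) (tt N3665 (iv F11496)))
theorem Q2553 : ∀ i, i < 2553 → P i := stepQ 2552 Q2552 (allL N2552 (tt N3645 (iv F11429)) (tt N3673 (iv F11509)) (tt N1720 F8048) (tt N3676 D3739) (tt N1719 (iv D2615)) (tt N2552 F8049) (tt N3677 D3740) (tt N3666 (iv F11500)))
theorem Q2554 : ∀ i, i < 2554 → P i := stepQ 2553 Q2553 (allL N2553 (tt N3646 (iv F11432)) (tt N3675 (iv F11513)) (tt N1721 F8050) (tt N1725 F8051) (tt N3677 (iv F11520)) (tt N3678 D3741) (tt N1719 (iv D2616)) (tt N3679 D3742))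
theorem Q2555 : ∀ i, i < 2555 → P i := stepQ 2554 Q2554 (allL N2554 (tt N3647 (iv F11435)) (tt N3388 F10611) (tt N3677 (iv F11519)) (tt N2554 F8052) (tt N1721 F8053) (tt N3389 (iv F10614)) (tt N1720 (iv D2617)) (tt N3680 D3743))
theorem Q2556 : ∀ i, i < 2556 → P i := stepQ 2555 Q2555 (allL N2555 (tt N3648 (iv F11438)) (tt N2583 (iv F8661)) (tt N3678 (iv F11521)) (tt N1722 F8054) (tt N3389 (iv F10613)) (tt N1721 (iv D2618)) (tt N2555 F8055) (tt N2582 F8666))
theorem Q2557 : ∀ i, i < 2557 → P i := stepQ 2556 Q2556 (allL N2556 (tt N3649 (iv F11441)) (tt N2578 F8664) (tt N3679 (iv F11524)) (tt N3601 (iv F11313)) (tt N3680 (iv F11525)) (tt N2582 (iv F8665)) (tt N3670 (iv F11506)) (tt N1721 (iv D2619)))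
theorem Q2558 : ∀ i, i < 2558 → P i := stepQ 2557 Q2557 (allL N2557 (tt N2792 F8833) (tt N1722 (iv D2620)) (tt N3546 (iv F11101)) (tt N2583 F8669) (tt N2557 F8056) (tt N2584 (iv F8668)) (tt N2557 F8057) (tt N3602 (iv F11321)))
theorem Q2559 : ∀ i, i < 2559 → P i := stepQ 2558 Q2558 (allL N2558 (tt N1723 (iv D2621)) (tt N3650 (iv F11442)) (tt N1730 F8058) (tt N3672 (iv F11508)) (tt N3681 D3744) (tt N3682 D3745) (tt N3683 D3746) (tt N1837 F8059))
theorem Q2560 : ∀ i, i < 2560 → P i := stepQ 2559 Q2559 (allL N2559 (tt N3681 (iv F11526)) (tt N1724 F8060) (tt N1731 F8061) (tt N3684 D3747) (tt N1723 (iv D2622)) (tt N3685 D3748) (tt N3686 D3749) (tt N1838 F8062))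
theorem Q2561 : ∀ i, i < 2561 → P i := stepQ 2560 Q2560 (allL N2560 (tt N3682 (iv F11529)) (tt N2560 F8063) (tt N1732 F8064) (tt N3674 (iv F11512)) (tt N3685 (iv F11538)) (tt N1723 (iv D2623)) (tt N3687 D3750) (tt N1839 F8065))
theorem Q2562 : ∀ i, i < 2562 → P i := stepQ 2561 Q2561 (allL N2561 (tt N3683 (iv F11532)) (tt N1725 F8066) (tt N1733 F8067) (tt N3675 (iv F11514)) (tt N3686 (iv F11542)) (tt N3688 D3751) (tt N1723 (iv D2624)) (tt N3689 D3752))
theorem Q2563 : ∀ i, i < 2563 → P i := stepQ 2562 Q2562 (allL N2562 (tt N3654 (iv F11453)) (tt N3684 (iv F11534)) (tt N2562 F8068) (tt N1724 (iv D2625)) (tt N3676 (iv F11516)) (tt N2562 F8069) (tt N3690 D3753) (tt N2562 F8070))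
theorem Q2564 : ∀ i, i < 2564 → P i := stepQ 2563 Q2563 (allL N2563 (tt N3655 (iv F11457)) (tt N3686 (iv F11540)) (tt N1726 F8071) (tt N3690 (iv F11555)) (tt N1725 F8072) (tt N3691 D3754) (tt N1724 (iv D2626)) (tt N2331 F8073))
theorem Q2565 : ∀ i, i < 2565 → P i := stepQ 2564 Q2564 (allL N2564 (tt N3656 (iv F11461)) (tt N3692 D3755) (tt N1727 F8074) (tt N3678 (iv F11522)) (tt N3691 (iv F11557)) (tt N1725 (iv D2627)) (tt N2564 F8075) (tt N3693 D3756))
theorem Q2566 : ∀ i, i < 2566 → P i := stepQ 2565 Q2565 (allL N2565 (tt N3657 (iv F11464)) (tt N3689 (iv F11548)) (tt N1728 F8076) (tt N3694 D3757) (tt N2331 F8077) (tt N3693 (iv F11563)) (tt N1842 F8078) (tt N1725 (iv D2628)))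
theorem Q2567 : ∀ i, i < 2567 → P i := stepQ 2566 Q2566 (allL N2566 (tt N3658 (iv F11468)) (tt N3695 D3758) (tt N3691 (iv F11556)) (tt N2566 F8079) (tt N1727 F8080) (tt N1726 (iv D2629)) (tt N2566 F8081) (tt N2332 F8082))
theorem Q2568 : ∀ i, i < 2568 → P i := stepQ 2567 Q2567 (allL N2567 (tt N3696 D3759) (tt N1727 (iv D2630)) (tt N3697 D3760) (tt N1729 F8083) (tt N3695 (iv F11568)) (tt N1739 F8084) (tt N2567 F8085) (tt N3698 D3761))
theorem Q2569 : ∀ i, i < 2569 → P i := stepQ 2568 Q2568 (allL N2568 (tt N3660 (iv F11476)) (tt N3698 (iv F11577)) (tt N3693 (iv F11561)) (tt N3612 (iv F11345)) (tt N2332 F8086) (tt N1728 F8087) (tt N3699 D3762) (tt N1727 (iv D2631)))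
theorem Q2570 : ∀ i, i < 2570 → P i := stepQ 2569 Q2569 (allL N2569 (tt N1729 (iv D2632)) (tt N3661 (iv F11479)) (tt N3700 D3763) (tt N3696 (iv F11572)) (tt N2569 F8088) (tt N1741 F8089) (tt N2569 F8090) (tt N2450 F8091))
theorem Q2571 : ∀ i, i < 2571 → P i := stepQ 2570 Q2570 (allL N2570 (tt N3700 (iv F11584)) (tt N3546 (iv F11100)) (tt N1729 (iv D2633)) (tt N3544 (iv F11091)) (tt N2570 F8092) (tt N1742 F8093) (tt N2570 F8094) (tt N2457 F8095))
theorem Q2572 : ∀ i, i < 2572 → P i := stepQ 2571 Q2571 (allL N2571 (tt N1731 F8096) (tt N1991 F8097) (tt N3681 (iv F11527)) (tt N3701 D3764) (tt N1730 (iv D2634)) (tt N3702 D3765) (tt N3703 D3766) (tt N1844 F8098))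
theorem Q2573 : ∀ i, i < 2573 → P i := stepQ 2572 Q2572 (allL N2572 (tt N1732 F8099) (tt N3704 D3767) (tt N3682 (iv F11530)) (tt N3538 (iv F11072)) (tt N3702 (iv F11594)) (tt N1730 (iv D2635)) (tt N3705 D3768) (tt N1845 F8100))
theorem Q2574 : ∀ i, i < 2574 → P i := stepQ 2573 Q2573 (allL N2573 (tt N1733 F8101) (tt N1993 F8102) (tt N3683 (iv F11533)) (tt N3539 (iv F11077)) (tt N3703 (iv F11598)) (tt N3706 D3769) (tt N1730 (iv D2636)) (tt N3707 D3770))
theorem Q2575 : ∀ i, i < 2575 → P i := stepQ 2574 Q2574 (allL N2574 (tt N3701 (iv F11590)) (tt N1734 F8103) (tt N3708 D3771) (tt N1731 (iv D2637)) (tt N3540 (iv F11079)) (tt N3709 D3772) (tt N3710 D3773) (tt N2357 F8104))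
theorem Q2576 : ∀ i, i < 2576 → P i := stepQ 2575 Q2575 (allL N2575 (tt N3702 (iv F11593)) (tt N1747 F8105) (tt N3685 (iv F11537)) (tt N3709 (iv F11618)) (tt N1732 F8106) (tt N1731 (iv D2638)) (tt N3711 D3774) (tt N1847 F8107))
theorem Q2577 : ∀ i, i < 2577 → P i := stepQ 2576 Q2576 (allL N2576 (tt N3703 (iv F11596)) (tt N1735 F8108) (tt N3686 (iv F11541)) (tt N3710 (iv F11622)) (tt N1733 F8109) (tt N3712 D3775) (tt N1731 (iv D2639)) (tt N2343 F8110))
theorem Q2578 : ∀ i, i < 2578 → P i := stepQ 2577 Q2577 (allL N2577 (tt N3705 (iv F11603)) (tt N1749 F8111) (tt N3687 (iv F11545)) (tt N3542 (iv F11086)) (tt N3711 (iv F11625)) (tt N3713 D3776) (tt N1732 (iv D2640)) (tt N3714 D3777))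
theorem Q2579 : ∀ i, i < 2579 → P i := stepQ 2578 Q2578 (allL N2578 (tt N3706 (iv F11604)) (tt N2556 (iv F8664)) (tt N3688 (iv F11546)) (tt N3543 (iv F11088)) (tt N3712 (iv F11626)) (tt N1733 (iv D2641)) (tt N3713 (iv F11629)) (tt N2456 F8663))
theorem Q2580 : ∀ i, i < 2580 → P i := stepQ 2579 Q2579 (allL N2579 (tt N3707 (iv F11606)) (tt N1737 F8112) (tt N3689 (iv F11549)) (tt N2457 F8662) (tt N2343 F8113) (tt N2456 (iv F8660)) (tt N1850 F8114) (tt N1733 (iv D2642)))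
theorem Q2581 : ∀ i, i < 2581 → P i := stepQ 2580 Q2580 (allL N2580 (tt N1998 F8115) (tt N3710 (iv F11621)) (tt N2580 F8116) (tt N1735 F8117) (tt N3545 (iv F11097)) (tt N3715 D3778) (tt N1734 (iv D2643)) (tt N2580 F8118))
theorem Q2582 : ∀ i, i < 2582 → P i := stepQ 2581 Q2581 (allL N2581 (tt N1999 F8119) (tt N3716 D3779) (tt N1738 F8120) (tt N3715 (iv F11638)) (tt N1736 F8121) (tt N1735 (iv D2644)) (tt N1753 F8122) (tt N2344 F8123))
theorem Q2583 : ∀ i, i < 2583 → P i := stepQ 2582 Q2582 (allL N2582 (tt N3717 D3780) (tt N1736 (iv D2645)) (tt N3718 D3781) (tt N2513 F8124) (tt N3716 (iv F11644)) (tt N2556 F8665) (tt N1754 F8125) (tt N2555 (iv F8666)))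
theorem Q2584 : ∀ i, i < 2584 → P i := stepQ 2583 Q2583 (allL N2583 (tt N2001 F8126) (tt N2555 F8661) (tt N1740 F8127) (tt N2557 (iv F8669)) (tt N2344 F8128) (tt N1737 F8129) (tt N2583 F8130) (tt N1736 (iv D2646)))
theorem Q2585 : ∀ i, i < 2585 → P i := stepQ 2584 Q2584 (allL N2584 (tt N1979 F8131) (tt N2457 (iv F8667)) (tt N3602 (iv F11316)) (tt N1737 (iv D2647)) (tt N2584 F8132) (tt N2557 F8668) (tt N1851 F8133) (tt N3546 (iv F11104)))
theorem Q2586 : ∀ i, i < 2586 → P i := stepQ 2585 Q2585 (allL N2585 (tt N3212 (iv F10115)) (tt N1738 (iv D2648)) (tt N3719 D3782) (tt N2585 F8134) (tt N1739 F8135) (tt N3695 (iv F11569)) (tt N1755 F8136) (tt N2345 F8137))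
theorem Q2587 : ∀ i, i < 2587 → P i := stepQ 2586 Q2586 (allL N2586 (tt N1739 (iv D2649)) (tt N2002 F8138) (tt N3720 D3783) (tt N1741 F8139) (tt N3212 (iv F10117)) (tt N3696 (iv F11573)) (tt N1756 F8140) (tt N3721 D3784))
theorem Q2588 : ∀ i, i < 2588 → P i := stepQ 2587 Q2587 (allL N2587 (tt N3720 (iv F11664)) (tt N3718 (iv F11654)) (tt N1739 (iv D2650)) (tt N3722 D3785) (tt N3719 (iv F11660)) (tt N3697 (iv F11575)) (tt N1757 F8141) (tt N3723 D3786))
theorem Q2589 : ∀ i, i < 2589 → P i := stepQ 2588 Q2588 (allL N2588 (tt N3721 (iv F11666)) (tt N1740 F8142) (tt N3723 (iv F11674)) (tt N2462 F8143) (tt N2345 F8144) (tt N3698 (iv F11580)) (tt N2588 F8145) (tt N1739 (iv D2651)))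
theorem Q2590 : ∀ i, i < 2590 → P i := stepQ 2589 Q2589 (allL N2589 (tt N1742 F8146) (tt N3724 D3787) (tt N1741 (iv D2652)) (tt N3725 D3788) (tt N2589 F8147) (tt N3700 (iv F11587)) (tt N1758 F8148) (tt N2446 F8149))
theorem Q2591 : ∀ i, i < 2591 → P i := stepQ 2590 Q2590 (allL N2590 (tt N3725 (iv F11684)) (tt N2502 F8150) (tt N3722 (iv F11671)) (tt N1742 (iv D2653)) (tt N3726 D3789) (tt N3544 (iv F11092)) (tt N1759 F8151) (tt N3543 F11089))
theorem Q2592 : ∀ i, i < 2592 → P i := stepQ 2591 Q2591 (allL N2591 (tt N1746 F8152) (tt N2007 F8153) (tt N3727 D3790) (tt N1743 (iv D2654)) (tt N3547 (iv F11108)) (tt N3728 D3791) (tt N3214 (iv F10125)) (tt N3729 D3792))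
theorem Q2593 : ∀ i, i < 2593 → P i := stepQ 2592 Q2592 (allL N2592 (tt N1747 F8154) (tt N3730 D3793) (tt N2592 F8155) (tt N3728 (iv F11696)) (tt N1744 F8156) (tt N1743 (iv D2655)) (tt N3731 D3794) (tt N1853 F8157))
theorem Q2594 : ∀ i, i < 2594 → P i := stepQ 2593 Q2593 (allL N2593 (tt N3704 (iv F11600)) (tt N1744 (iv D2656)) (tt N3732 D3795) (tt N3548 (iv F11110)) (tt N3730 (iv F11701)) (tt N2009 F8158) (tt N3733 D3796) (tt N1854 F8159))
theorem Q2595 : ∀ i, i < 2595 → P i := stepQ 2594 Q2594 (allL N2594 (tt N1749 F8160) (tt N3733 (iv F11710)) (tt N2594 F8161) (tt N3549 (iv F11116)) (tt N3731 (iv F11706)) (tt N3734 D3797) (tt N1744 (iv D2657)) (tt N3735 D3798))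
theorem Q2596 : ∀ i, i < 2596 → P i := stepQ 2595 Q2595 (allL N2595 (tt N1750 F8162) (tt N3736 D3799) (tt N2595 F8163) (tt N2518 F8164) (tt N3215 (iv F10128)) (tt N1745 (iv D2658)) (tt N3734 (iv F11714)) (tt N2595 F8165))
theorem Q2597 : ∀ i, i < 2597 → P i := stepQ 2596 Q2596 (allL N2596 (tt N3727 (iv F11689)) (tt N2596 F8166) (tt N1746 (iv D2659)) (tt N2596 F8167) (tt N2435 F8168) (tt N2455 (iv F8169)) (tt N2342 F8204) (tt N3737 D3800))
theorem Q2598 : ∀ i, i < 2598 → P i := stepQ 2597 Q2597 (allL N2597 (tt N3728 (iv F11694)) (tt N3709 (iv F11616)) (tt N2455 F8170) (tt N1747 F8171) (tt N2454 F8172) (tt N1746 (iv D2660)) (tt N3738 D3801) (tt N3739 D3802))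
theorem Q2599 : ∀ i, i < 2599 → P i := stepQ 2598 Q2598 (allL N2598 (tt N3214 (iv F10123)) (tt N1751 F8173) (tt N2342 (iv F8198)) (tt N1748 F8174) (tt N2519 F8175) (tt N2330 F8197) (tt N1746 (iv D2661)) (tt N2336 (iv F8200)))
theorem Q2600 : ∀ i, i < 2600 → P i := stepQ 2599 Q2599 (allL N2599 (tt N3729 (iv F11698)) (tt N1752 F8176) (tt N3737 (iv F11722)) (tt N1858 F8177) (tt N3550 (iv F11121)) (tt N3739 (iv F11734)) (tt N3740 D3803) (tt N1746 (iv D2662)))
theorem Q2601 : ∀ i, i < 2601 → P i := stepQ 2600 Q2600 (allL N2600 (tt N3731 (iv F11704)) (tt N3711 (iv F11624)) (tt N2600 F8178) (tt N3738 (iv F11727)) (tt N1749 F8179) (tt N3741 D3804) (tt N1747 (iv D2663)) (tt N3742 D3805))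
theorem Q2602 : ∀ i, i < 2602 → P i := stepQ 2601 Q2601 (allL N2601 (tt N3215 (iv F10126)) (tt N2320 F8201) (tt N2601 F8180) (tt N2330 (iv F8199)) (tt N1750 F8181) (tt N1748 (iv D2664)) (tt N3741 (iv F11742)) (tt N2601 F8182))
theorem Q2603 : ∀ i, i < 2603 → P i := stepQ 2602 Q2602 (allL N2602 (tt N3734 (iv F11711)) (tt N3743 D3806) (tt N2602 F8183) (tt N2521 F8184) (tt N3741 (iv F11741)) (tt N1749 (iv D2665)) (tt N1750 F8185) (tt N3744 D3807))
theorem Q2604 : ∀ i, i < 2604 → P i := stepQ 2603 Q2603 (allL N2603 (tt N3735 (iv F11715)) (tt N3714 (iv F11632)) (tt N2603 F8186) (tt N3745 D3808) (tt N3742 (iv F11745)) (tt N3744 (iv F11755)) (tt N1860 F8187) (tt N1749 (iv D2666)))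
theorem Q2605 : ∀ i, i < 2605 → P i := stepQ 2604 Q2604 (allL N2604 (tt N3746 D3809) (tt N1750 (iv D2667)) (tt N2321 F8203) (tt N2512 F8188) (tt N2320 (iv F8202)) (tt N1754 F8189) (tt N3743 (iv F11750)) (tt N2604 F8190))
theorem Q2606 : ∀ i, i < 2606 → P i := stepQ 2605 Q2605 (allL N2605 (tt N2018 F8191) (tt N2327 (iv F8196)) (tt N2605 F8192) (tt N1753 F8193) (tt N2514 F8194) (tt N1751 (iv D2668)) (tt N3715 (iv F11640)) (tt N2334 F8195))
theorem Q2607 : ∀ i, i < 2607 → P i := stepQ 2606 Q2606 (allL N2606 (tt N2019 F8205) (tt N2336 F8206) (tt N2606 F8207) (tt N2606 F8208) (tt N2522 F8209) (tt N2334 F8210) (tt N3747 D3810) (tt N1751 (iv D2669)))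
theorem Q2608 : ∀ i, i < 2608 → P i := stepQ 2607 Q2607 (allL N2607 (tt N2020 F8211) (tt N3740 (iv F11735)) (tt N2607 F8212) (tt N1861 F8213) (tt N3552 (iv F11129)) (tt N2607 F8214) (tt N1752 (iv D2670)) (tt N3747 (iv F11772)))
theorem Q2609 : ∀ i, i < 2609 → P i := stepQ 2608 Q2608 (allL N2608 (tt N3748 D3811) (tt N1753 (iv D2671)) (tt N2318 (iv F8219)) (tt N2327 F8215) (tt N1754 F8216) (tt N2320 F8217) (tt N3716 (iv F11646)) (tt N2608 F8218))
theorem Q2610 : ∀ i, i < 2610 → P i := stepQ 2609 Q2609 (allL N2609 (tt N1754 (iv D2672)) (tt N2022 F8220) (tt N3749 D3812) (tt N2510 F8221) (tt N3748 (iv F11776)) (tt N3746 (iv F11764)) (tt N3717 (iv F11652)) (tt N2609 F8222))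
theorem Q2611 : ∀ i, i < 2611 → P i := stepQ 2610 Q2610 (allL N2610 (tt N3749 (iv F11779)) (tt N1757 F8223) (tt N1754 (iv D2673)) (tt N3593 (iv F11288)) (tt N2318 F8224) (tt N2321 F8225) (tt N3718 (iv F11657)) (tt N2610 F8226))
theorem Q2612 : ∀ i, i < 2612 → P i := stepQ 2611 Q2611 (allL N2611 (tt N3213 (iv F10119)) (tt N2318 F8227) (tt N1755 (iv D2674)) (tt N2317 (iv F8231)) (tt N1757 F8228) (tt N2611 F8229) (tt N3719 (iv F11661)) (tt N2611 F8230))
theorem Q2613 : ∀ i, i < 2613 → P i := stepQ 2612 Q2612 (allL N2612 (tt N1757 F8232) (tt N3750 D3813) (tt N1756 (iv D2675)) (tt N3751 D3814) (tt N3213 (iv F10120)) (tt N2612 F8233) (tt N3720 (iv F11665)) (tt N2612 F8234))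
theorem Q2614 : ∀ i, i < 2614 → P i := stepQ 2613 Q2613 (allL N2613 (tt N3751 (iv F11785)) (tt N3593 (iv F11287)) (tt N1759 F8235) (tt N1757 (iv D2676)) (tt N2617 F8249) (tt N2613 F8236) (tt N3722 (iv F11672)) (tt N2616 (iv F8251)))
theorem Q2615 : ∀ i, i < 2615 → P i := stepQ 2614 Q2614 (allL N2614 (tt N2490 F8237) (tt N1758 (iv D2677)) (tt N2026 F8238) (tt N3752 D3815) (tt N2614 F8239) (tt N3753 D3816) (tt N3724 (iv F11682)) (tt N1760 F8240))
theorem Q2616 : ∀ i, i < 2616 → P i := stepQ 2615 Q2615 (allL N2615 (tt N1759 F8241) (tt N3752 (iv F11789)) (tt N3751 (iv F11786)) (tt N1758 (iv D2678)) (tt N3754 D3817) (tt N2615 F8242) (tt N3725 (iv F11685)) (tt N3755 D3818))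
theorem Q2617 : ∀ i, i < 2617 → P i := stepQ 2616 Q2616 (allL N2616 (tt N3754 (iv F11796)) (tt N2501 F8243) (tt N2617 (iv F8250)) (tt N2616 F8244) (tt N1759 (iv D2679)) (tt N2616 F8245) (tt N3726 (iv F11688)) (tt N2613 F8251))
theorem Q2618 : ∀ i, i < 2618 → P i := stepQ 2617 Q2617 (allL N2617 (tt N3755 (iv F11800)) (tt N2498 F8246) (tt N2616 F8250) (tt N1762 F8247) (tt N2613 (iv F8249)) (tt N2617 F8248) (tt N3756 D3819) (tt N1759 (iv D2680)))
theorem Q2619 : ∀ i, i < 2619 → P i := stepQ 2618 Q2618 (allL N2618 (tt N2488 F8252) (tt N1761 F8253) (tt N3757 D3820) (tt N1760 (iv D2681)) (tt N3244 (iv F10211)) (tt N3758 D3821) (tt N2440 F8254) (tt N3759 D3822))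
theorem Q2620 : ∀ i, i < 2620 → P i := stepQ 2619 Q2619 (allL N2619 (tt N2489 F8255) (tt N2619 F8256) (tt N2031 F8257) (tt N3758 (iv F11815)) (tt N2619 F8258) (tt N1760 (iv D2682)) (tt N3760 D3823) (tt N3753 (iv F11795)))
theorem Q2621 : ∀ i, i < 2621 → P i := stepQ 2620 Q2620 (allL N2620 (tt N1762 F8259) (tt N3759 (iv F11817)) (tt N2620 F8260) (tt N3755 (iv F11802)) (tt N3355 (iv F10513)) (tt N2620 F8261) (tt N3761 D3824) (tt N1761 (iv D2683)))
theorem Q2622 : ∀ i, i < 2622 → P i := stepQ 2621 Q2621 (allL N2621 (tt N3761 (iv F11824)) (tt N2499 F8262) (tt N2621 F8263) (tt N3756 (iv F11807)) (tt N3356 (iv F10518)) (tt N3762 D3825) (tt N1762 (iv D2684)) (tt N2453 F8264))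
theorem Q2623 : ∀ i, i < 2623 → P i := stepQ 2622 Q2622 (allL N2622 (tt N1763 (iv D2685)) (tt N2622 F8265) (tt N2622 F8266) (tt N1775 F8267) (tt N2622 F8268) (tt N3763 D3826) (tt N2622 F8269) (tt N2622 F8270))
theorem Q2624 : ∀ i, i < 2624 → P i := stepQ 2623 Q2623 (allL N2623 (tt N3763 (iv F11830)) (tt N2410 F8271) (tt N2623 F8272) (tt N1777 F8273) (tt N2623 F8274) (tt N1763 (iv D2686)) (tt N3764 D3827) (tt N2623 F8275))
theorem Q2625 : ∀ i, i < 2625 → P i := stepQ 2624 Q2624 (allL N2624 (tt N1766 F8276) (tt N3765 D3828) (tt N1764 (iv D2687)) (tt N2310 F8277) (tt N3766 D3829) (tt N1783 F8278) (tt N3767 D3830) (tt N3557 (iv F11149)))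
theorem Q2626 : ∀ i, i < 2626 → P i := stepQ 2625 Q2625 (allL N2625 (tt N1767 F8279) (tt N2625 F8280) (tt N3766 (iv F11843)) (tt N1863 F8281) (tt N1764 (iv D2688)) (tt N1784 F8282) (tt N3768 D3831) (tt N3558 (iv F11154)))
theorem Q2627 : ∀ i, i < 2627 → P i := stepQ 2626 Q2626 (allL N2626 (tt N1768 F8283) (tt N2626 F8284) (tt N3767 (iv F11846)) (tt N1765 F8285) (tt N3768 (iv F11851)) (tt N3769 D3832) (tt N1764 (iv D2689)) (tt N3770 D3833))
theorem Q2628 : ∀ i, i < 2628 → P i := stepQ 2627 Q2627 (allL N2627 (tt N1769 F8286) (tt N3771 D3834) (tt N1863 F8287) (tt N3769 (iv F11854)) (tt N1862 F8288) (tt N1765 (iv D2690)) (tt N1786 F8289) (tt N2627 F8290))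
theorem Q2629 : ∀ i, i < 2629 → P i := stepQ 2628 Q2628 (allL N2628 (tt N3772 D3835) (tt N1766 (iv D2691)) (tt N1770 F8291) (tt N2404 F8292) (tt N3773 D3836) (tt N3774 D3837) (tt N3775 D3838) (tt N3565 (iv F11191)))
theorem Q2630 : ∀ i, i < 2630 → P i := stepQ 2629 Q2629 (allL N2629 (tt N3766 (iv F11842)) (tt N3773 (iv F11868)) (tt N1767 F8293) (tt N3776 D3839) (tt N1766 (iv D2692)) (tt N1794 F8294) (tt N3777 D3840) (tt N3566 (iv F11194)))
theorem Q2631 : ∀ i, i < 2631 → P i := stepQ 2630 Q2630 (allL N2630 (tt N3767 (iv F11845)) (tt N3775 (iv F11874)) (tt N1768 F8295) (tt N1794 F8296) (tt N3777 (iv F11883)) (tt N3776 (iv F11879)) (tt N1766 (iv D2693)) (tt N3778 D3841))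
theorem Q2632 : ∀ i, i < 2632 → P i := stepQ 2631 Q2631 (allL N2631 (tt N3768 (iv F11848)) (tt N1773 F8297) (tt N3777 (iv F11881)) (tt N1792 F8298) (tt N1768 F8299) (tt N1791 F8300) (tt N1767 (iv D2694)) (tt N2637 (iv F8318)))
theorem Q2633 : ∀ i, i < 2633 → P i := stepQ 2632 Q2632 (allL N2632 (tt N3769 (iv F11853)) (tt N2632 F8301) (tt N3776 (iv F11877)) (tt N1769 F8302) (tt N1791 F8303) (tt N1768 (iv D2695)) (tt N1790 F8304) (tt N3779 D3842))
theorem Q2634 : ∀ i, i < 2634 → P i := stepQ 2633 Q2633 (allL N2633 (tt N3770 (iv F11857)) (tt N1774 F8305) (tt N3778 (iv F11887)) (tt N2633 F8306) (tt N2637 (iv F8317)) (tt N3779 (iv F11893)) (tt N2635 F8312) (tt N1768 (iv D2696)))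
theorem Q2635 : ∀ i, i < 2635 → P i := stepQ 2634 Q2634 (allL N2634 (tt N1770 (iv D2697)) (tt N2634 F8307) (tt N3772 (iv F11866)) (tt N2409 F8308) (tt N3780 D3843) (tt N3781 D3844) (tt N3782 D3845) (tt N3569 (iv F11206)))
theorem Q2636 : ∀ i, i < 2636 → P i := stepQ 2635 Q2635 (allL N2635 (tt N3780 (iv F11894)) (tt N1771 F8309) (tt N3773 (iv F11869)) (tt N2635 F8310) (tt N1770 (iv D2698)) (tt N3783 D3846) (tt N2633 (iv F8312)) (tt N2483 F8311))
theorem Q2637 : ∀ i, i < 2637 → P i := stepQ 2636 Q2636 (allL N2636 (tt N3781 (iv F11899)) (tt N1777 F8313) (tt N3774 (iv F11872)) (tt N2410 F8314) (tt N3783 (iv F11908)) (tt N1770 (iv D2699)) (tt N3784 D3847) (tt N3570 (iv F11210)))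
theorem Q2638 : ∀ i, i < 2638 → P i := stepQ 2637 Q2637 (allL N2637 (tt N3782 (iv F11901)) (tt N1772 F8315) (tt N3775 (iv F11875)) (tt N2411 F8316) (tt N2633 F8317) (tt N2664 (iv F8404)) (tt N1770 (iv D2700)) (tt N2631 F8318))
theorem Q2639 : ∀ i, i < 2639 → P i := stepQ 2638 Q2638 (allL N2638 (tt N1776 F8319) (tt N2638 F8320) (tt N1802 F8321) (tt N2638 F8322) (tt N1775 (iv D2701)) (tt N3785 D3848) (tt N2638 F8323) (tt N3502 F10980))
theorem Q2640 : ∀ i, i < 2640 → P i := stepQ 2639 Q2639 (allL N2639 (tt N1777 F8324) (tt N3786 D3849) (tt N1803 F8325) (tt N3763 (iv F11832)) (tt N3785 (iv F11915)) (tt N1775 (iv D2702)) (tt N3787 D3850) (tt N3571 (iv F11214)))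
theorem Q2641 : ∀ i, i < 2641 → P i := stepQ 2640 Q2640 (allL N2640 (tt N3785 (iv F11912)) (tt N3783 (iv F11906)) (tt N1805 F8326) (tt N2640 F8327) (tt N1777 F8328) (tt N1776 (iv D2703)) (tt N3788 D3851) (tt N3506 (iv F10995)))
theorem Q2642 : ∀ i, i < 2642 → P i := stepQ 2641 Q2641 (allL N2641 (tt N3787 (iv F11917)) (tt N3784 (iv F11910)) (tt N1806 F8329) (tt N3764 (iv F11837)) (tt N3788 (iv F11922)) (tt N2641 F8330) (tt N1777 (iv D2704)) (tt N3789 D3852))
theorem Q2643 : ∀ i, i < 2643 → P i := stepQ 2642 Q2642 (allL N2642 (tt N2642 F8331) (tt N3572 (iv F11215)) (tt N1778 (iv D2705)) (tt N2036 F8332) (tt N2081 F8333) (tt N2080 F8334) (tt N1808 F8335) (tt N3790 D3853))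
theorem Q2644 : ∀ i, i < 2644 → P i := stepQ 2643 Q2643 (allL N2643 (tt N2643 F8336) (tt N1780 F8337) (tt N3790 (iv F11927)) (tt N3791 D3854) (tt N2084 F8338) (tt N2083 F8339) (tt N3792 D3855) (tt N1778 (iv D2706)))
theorem Q2645 : ∀ i, i < 2645 → P i := stepQ 2644 Q2644 (allL N2644 (tt N2644 F8340) (tt N1781 F8341) (tt N3793 D3856) (tt N1779 (iv D2707)) (tt N3794 D3857) (tt N2145 F8342) (tt N3795 D3858) (tt N3791 (iv F11933)))
theorem Q2646 : ∀ i, i < 2646 → P i := stepQ 2645 Q2645 (allL N2645 (tt N2645 F8343) (tt N1782 F8344) (tt N2042 F8345) (tt N3795 (iv F11947)) (tt N1866 F8346) (tt N2645 F8347) (tt N1779 (iv D2708)) (tt N1815 F8348))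
theorem Q2647 : ∀ i, i < 2647 → P i := stepQ 2646 Q2646 (allL N2646 (tt N1787 F8349) (tt N3791 (iv F11931)) (tt N3796 D3859) (tt N1780 (iv D2709)) (tt N3797 D3860) (tt N2237 F8350) (tt N3798 D3861) (tt N1781 F8351))
theorem Q2648 : ∀ i, i < 2648 → P i := stepQ 2647 Q2647 (allL N2647 (tt N1788 F8352) (tt N3792 (iv F11935)) (tt N3580 (iv F11244)) (tt N3798 (iv F11957)) (tt N2240 F8353) (tt N3799 D3862) (tt N1780 (iv D2710)) (tt N1818 F8354))
theorem Q2649 : ∀ i, i < 2649 → P i := stepQ 2648 Q2648 (allL N2648 (tt N1789 F8355) (tt N3800 D3863) (tt N1781 (iv D2711)) (tt N1783 F8356) (tt N3801 D3864) (tt N2310 F8357) (tt N3802 D3865) (tt N3796 (iv F11951)))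
theorem Q2650 : ∀ i, i < 2650 → P i := stepQ 2649 Q2649 (allL N2649 (tt N1790 F8358) (tt N3794 (iv F11942)) (tt N3801 (iv F11964)) (tt N1786 F8359) (tt N1781 (iv D2712)) (tt N1785 F8360) (tt N3769 (iv F11856)) (tt N3797 (iv F11955)))
theorem Q2651 : ∀ i, i < 2651 → P i := stepQ 2650 Q2650 (allL N2650 (tt N1791 F8361) (tt N3795 (iv F11946)) (tt N3802 (iv F11967)) (tt N1782 F8362) (tt N3769 (iv F11855)) (tt N3768 (iv F11852)) (tt N1781 (iv D2713)) (tt N3803 D3866))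
theorem Q2652 : ∀ i, i < 2652 → P i := stepQ 2651 Q2651 (allL N2651 (tt N1792 F8363) (tt N2651 F8364) (tt N1786 F8365) (tt N3768 (iv F11850)) (tt N1864 F8366) (tt N1782 (iv D2714)) (tt N1863 F8367) (tt N1821 F8368))
theorem Q2653 : ∀ i, i < 2653 → P i := stepQ 2652 Q2652 (allL N2652 (tt N3804 D3867) (tt N1783 (iv D2715)) (tt N2047 F8369) (tt N3800 (iv F11962)) (tt N3805 D3868) (tt N3806 D3869) (tt N3807 D3870) (tt N3585 (iv F11260)))
theorem Q2654 : ∀ i, i < 2654 → P i := stepQ 2653 Q2653 (allL N2653 (tt N1794 F8370) (tt N3805 (iv F11974)) (tt N1784 F8371) (tt N3767 (iv F11847)) (tt N1783 (iv D2716)) (tt N3766 (iv F11844)) (tt N2310 (iv F8372)) (tt N3586 (iv F11263)))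
theorem Q2655 : ∀ i, i < 2655 → P i := stepQ 2654 Q2654 (allL N2654 (tt N1795 F8373) (tt N3807 (iv F11978)) (tt N1785 F8374) (tt N3802 (iv F11968)) (tt N2310 F8375) (tt N3801 (iv F11965)) (tt N1783 (iv D2717)) (tt N3808 D3871))
theorem Q2656 : ∀ i, i < 2656 → P i := stepQ 2655 Q2655 (allL N2655 (tt N1796 F8376) (tt N2051 F8377) (tt N3808 (iv F11982)) (tt N1826 F8378) (tt N2237 F8379) (tt N3797 (iv F11954)) (tt N3590 (iv F11277)) (tt N1785 (iv D2718)))
theorem Q2657 : ∀ i, i < 2657 → P i := stepQ 2656 Q2656 (allL N2656 (tt N2656 F8380) (tt N1786 (iv D2719)) (tt N2656 F8381) (tt N3794 (iv F11943)) (tt N1865 F8382) (tt N2052 F8383) (tt N3771 (iv F11864)) (tt N1827 F8384))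
theorem Q2658 : ∀ i, i < 2658 → P i := stepQ 2657 Q2657 (allL N2657 (tt N3796 (iv F11949)) (tt N3809 D3872) (tt N1787 (iv D2720)) (tt N3592 (iv F11284)) (tt N3810 D3873) (tt N2324 F8385) (tt N3811 D3874) (tt N1789 F8386))
theorem Q2659 : ∀ i, i < 2659 → P i := stepQ 2658 Q2658 (allL N2658 (tt N3797 (iv F11952)) (tt N2658 F8387) (tt N3810 (iv F11989)) (tt N1843 F8388) (tt N1787 (iv D2721)) (tt N1796 F8389) (tt N3812 D3875) (tt N1790 F8390))
theorem Q2660 : ∀ i, i < 2660 → P i := stepQ 2659 Q2659 (allL N2659 (tt N3798 (iv F11956)) (tt N2659 F8391) (tt N3811 (iv F11993)) (tt N1788 F8392) (tt N3812 (iv F11996)) (tt N3813 D3876) (tt N1787 (iv D2722)) (tt N3814 D3877))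
theorem Q2661 : ∀ i, i < 2661 → P i := stepQ 2660 Q2660 (allL N2660 (tt N3799 (iv F11958)) (tt N3815 D3878) (tt N3595 (iv F11292)) (tt N3813 (iv F11997)) (tt N2329 F8393) (tt N1788 (iv D2723)) (tt N2326 F8394) (tt N1831 F8395))
theorem Q2662 : ∀ i, i < 2662 → P i := stepQ 2661 Q2661 (allL N2661 (tt N3816 D3879) (tt N1789 (iv D2724)) (tt N2661 F8396) (tt N1793 F8397) (tt N3817 D3880) (tt N3818 D3881) (tt N3819 D3882) (tt N3809 (iv F11986)))
theorem Q2663 : ∀ i, i < 2663 → P i := stepQ 2662 Q2662 (allL N2662 (tt N3801 (iv F11963)) (tt N3817 (iv F12012)) (tt N1790 F8398) (tt N3777 (iv F11882)) (tt N1789 (iv D2725)) (tt N1795 F8399) (tt N3776 F11880) (tt N3810 (iv F11992)))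
theorem Q2664 : ∀ i, i < 2664 → P i := stepQ 2663 Q2663 (allL N2663 (tt N3802 (iv F11966)) (tt N3819 (iv F12019)) (tt N1791 F8400) (tt N1795 F8401) (tt N3776 (iv F11878)) (tt N3777 (iv F11884)) (tt N1789 (iv D2726)) (tt N3820 D3883))
theorem Q2665 : ∀ i, i < 2665 → P i := stepQ 2664 Q2664 (allL N2664 (tt N3803 (iv F11969)) (tt N2664 F8402) (tt N3820 (iv F12022)) (tt N1835 F8403) (tt N3779 (iv F11892)) (tt N2637 F8404) (tt N3814 (iv F12004)) (tt N1791 (iv D2727)))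
theorem Q2666 : ∀ i, i < 2666 → P i := stepQ 2665 Q2665 (allL N2665 (tt N1793 (iv D2728)) (tt N3804 (iv F11972)) (tt N1797 F8405) (tt N3816 (iv F12011)) (tt N3821 D3884) (tt N3822 D3885) (tt N3823 D3886) (tt N3603 (iv F11323)))
theorem Q2667 : ∀ i, i < 2667 → P i := stepQ 2666 Q2666 (allL N2666 (tt N3821 (iv F12024)) (tt N1794 F8406) (tt N1798 F8407) (tt N3775 (iv F11876)) (tt N1793 (iv D2729)) (tt N3824 D3887) (tt N2404 (iv F8408)) (tt N3604 (iv F11326)))
theorem Q2668 : ∀ i, i < 2668 → P i := stepQ 2667 Q2667 (allL N2667 (tt N3822 (iv F12027)) (tt N3774 (iv F11871)) (tt N1799 F8409) (tt N3818 (iv F12018)) (tt N3824 (iv F12034)) (tt N1793 (iv D2730)) (tt N3825 D3888) (tt N3605 (iv F11328)))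
theorem Q2669 : ∀ i, i < 2669 → P i := stepQ 2668 Q2668 (allL N2668 (tt N3823 (iv F12029)) (tt N1795 F8410) (tt N1800 F8411) (tt N3819 (iv F12021)) (tt N2404 F8412) (tt N3826 D3889) (tt N1793 (iv D2731)) (tt N3827 D3890))
theorem Q2670 : ∀ i, i < 2670 → P i := stepQ 2669 Q2669 (allL N2669 (tt N3808 (iv F11981)) (tt N3827 (iv F12038)) (tt N1796 F8413) (tt N3828 D3891) (tt N2324 F8414) (tt N3810 (iv F11991)) (tt N3610 (iv F11338)) (tt N1795 (iv D2732)))
theorem Q2671 : ∀ i, i < 2671 → P i := stepQ 2670 Q2670 (allL N2670 (tt N1798 F8415) (tt N2062 F8416) (tt N3821 (iv F12025)) (tt N2414 (iv F8417)) (tt N1797 (iv D2733)) (tt N3829 D3892) (tt N2405 (iv F8418)) (tt N3613 (iv F11350)))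
theorem Q2672 : ∀ i, i < 2672 → P i := stepQ 2671 Q2671 (allL N2671 (tt N1799 F8419) (tt N3830 D3893) (tt N3822 (iv F12028)) (tt N2671 F8420) (tt N3829 (iv F12047)) (tt N1797 (iv D2734)) (tt N3831 D3894) (tt N3614 (iv F11352)))
theorem Q2673 : ∀ i, i < 2673 → P i := stepQ 2672 Q2672 (allL N2672 (tt N1800 F8421) (tt N2064 F8422) (tt N3823 (iv F12030)) (tt N2672 F8423) (tt N2405 F8424) (tt N3832 D3895) (tt N1797 (iv D2735)) (tt N3833 D3896))
theorem Q2674 : ∀ i, i < 2674 → P i := stepQ 2673 Q2673 (allL N2673 (tt N3829 (iv F12045)) (tt N1805 F8425) (tt N3824 (iv F12032)) (tt N2416 F8426) (tt N1799 F8427) (tt N1798 (iv D2736)) (tt N3834 D3897) (tt N2732 (iv F8626)))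
theorem Q2675 : ∀ i, i < 2675 → P i := stepQ 2674 Q2674 (allL N2674 (tt N3831 (iv F12051)) (tt N1806 F8428) (tt N3825 (iv F12035)) (tt N2674 F8429) (tt N3834 (iv F12062)) (tt N3835 D3898) (tt N1799 (iv D2737)) (tt N3836 D3899))
theorem Q2676 : ∀ i, i < 2676 → P i := stepQ 2675 Q2675 (allL N2675 (tt N3832 (iv F12053)) (tt N2675 F8430) (tt N3826 (iv F12036)) (tt N2675 F8431) (tt N2406 F8432) (tt N1800 (iv D2738)) (tt N3835 (iv F12067)) (tt N3563 F11182))
theorem Q2677 : ∀ i, i < 2677 → P i := stepQ 2676 Q2676 (allL N2676 (tt N3833 (iv F12056)) (tt N1801 F8433) (tt N3827 (iv F12039)) (tt N3564 (iv F11185)) (tt N2337 F8434) (tt N3563 F11181) (tt N3600 (iv F11310)) (tt N1800 (iv D2739)))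
theorem Q2678 : ∀ i, i < 2678 → P i := stepQ 2677 Q2677 (allL N2677 (tt N2069 F8435) (tt N3564 (iv F11189)) (tt N1851 F8436) (tt N1801 (iv D2740)) (tt N2677 F8437) (tt N2677 F8438) (tt N3602 (iv F11320)) (tt N2677 F8439))
theorem Q2679 : ∀ i, i < 2679 → P i := stepQ 2678 Q2678 (allL N2678 (tt N1804 F8440) (tt N2070 F8441) (tt N2678 F8442) (tt N1802 (iv D2741)) (tt N2678 F8443) (tt N3837 D3900) (tt N2678 F8444) (tt N3838 D3901))
theorem Q2680 : ∀ i, i < 2680 → P i := stepQ 2679 Q2679 (allL N2679 (tt N1805 F8445) (tt N3839 D3902) (tt N3785 (iv F11913)) (tt N3837 (iv F12074)) (tt N1803 F8446) (tt N1802 (iv D2742)) (tt N3840 D3903) (tt N3620 (iv F11370)))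
theorem Q2681 : ∀ i, i < 2681 → P i := stepQ 2680 Q2680 (allL N2680 (tt N3830 (iv F12048)) (tt N1803 (iv D2743)) (tt N3841 D3904) (tt N2680 F8447) (tt N3839 (iv F12080)) (tt N2072 F8448) (tt N3842 D3905) (tt N3621 (iv F11372)))
theorem Q2682 : ∀ i, i < 2682 → P i := stepQ 2681 Q2681 (allL N2681 (tt N1806 F8449) (tt N3842 (iv F12086)) (tt N3787 (iv F11918)) (tt N2681 F8450) (tt N3840 (iv F12083)) (tt N2681 F8451) (tt N1803 (iv D2744)) (tt N3843 D3906))
theorem Q2683 : ∀ i, i < 2683 → P i := stepQ 2682 Q2682 (allL N2682 (tt N3837 (iv F12072)) (tt N2416 F8452) (tt N2682 F8453) (tt N1805 F8454) (tt N2682 F8455) (tt N1804 (iv D2745)) (tt N3844 D3907) (tt N2723 F8592))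
theorem Q2684 : ∀ i, i < 2684 → P i := stepQ 2683 Q2683 (allL N2683 (tt N3838 (iv F12076)) (tt N1807 F8456) (tt N2683 F8457) (tt N2729 (iv F8610)) (tt N2683 F8458) (tt N2723 F8591) (tt N3845 D3908) (tt N1804 (iv D2746)))
theorem Q2685 : ∀ i, i < 2685 → P i := stepQ 2684 Q2684 (allL N2684 (tt N3840 (iv F12082)) (tt N3834 (iv F12060)) (tt N3788 (iv F11920)) (tt N3844 (iv F12092)) (tt N1806 F8459) (tt N2684 F8460) (tt N1805 (iv D2747)) (tt N3846 D3909))
theorem Q2686 : ∀ i, i < 2686 → P i := stepQ 2685 Q2685 (allL N2685 (tt N3843 (iv F12088)) (tt N3836 (iv F12069)) (tt N3789 (iv F11924)) (tt N3847 D3910) (tt N3846 (iv F12099)) (tt N2685 F8461) (tt N3623 (iv F11376)) (tt N1806 (iv D2748)))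
theorem Q2687 : ∀ i, i < 2687 → P i := stepQ 2686 Q2686 (allL N2686 (tt N2079 F8462) (tt N3845 (iv F12095)) (tt N1867 F8463) (tt N3624 (iv F11379)) (tt N2686 F8464) (tt N2686 F8465) (tt N1807 (iv D2749)) (tt N2686 F8466))
theorem Q2688 : ∀ i, i < 2688 → P i := stepQ 2687 Q2687 (allL N2687 (tt N2687 F8467) (tt N3625 (iv F11382)) (tt N1809 F8468) (tt N3848 D3911) (tt N1808 (iv D2750)) (tt N3849 D3912) (tt N2081 F8469) (tt N3850 D3913))
theorem Q2689 : ∀ i, i < 2689 → P i := stepQ 2688 Q2688 (allL N2688 (tt N2688 F8470) (tt N3851 D3914) (tt N1810 F8471) (tt N2081 F8472) (tt N3849 (iv F12113)) (tt N1808 (iv D2751)) (tt N3848 (iv F12108)) (tt N3852 D3915))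
theorem Q2690 : ∀ i, i < 2690 → P i := stepQ 2689 Q2689 (allL N2689 (tt N2689 F8473) (tt N3627 (iv F11387)) (tt N1811 F8474) (tt N3853 D3916) (tt N3850 (iv F12117)) (tt N3852 (iv F12122)) (tt N3854 D3917) (tt N1808 (iv D2752)))
theorem Q2691 : ∀ i, i < 2691 → P i := stepQ 2690 Q2690 (allL N2690 (tt N2690 F8475) (tt N2690 F8476) (tt N3849 (iv F12111)) (tt N1868 F8477) (tt N1810 F8478) (tt N1809 (iv D2753)) (tt N2038 F8479) (tt N3855 D3918))
theorem Q2692 : ∀ i, i < 2692 → P i := stepQ 2691 Q2691 (allL N2691 (tt N2691 F8480) (tt N1816 F8481) (tt N3850 (iv F12116)) (tt N2691 F8482) (tt N1811 F8483) (tt N3855 (iv F12131)) (tt N3856 D3919) (tt N1809 (iv D2754)))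
theorem Q2693 : ∀ i, i < 2693 → P i := stepQ 2692 Q2692 (allL N2692 (tt N2692 F8484) (tt N2692 F8485) (tt N3848 (iv F12106)) (tt N1812 F8486) (tt N2038 F8487) (tt N2037 F8488) (tt N1810 (iv D2755)) (tt N3857 D3920))
theorem Q2694 : ∀ i, i < 2694 → P i := stepQ 2693 Q2693 (allL N2693 (tt N2693 F8489) (tt N2693 F8490) (tt N3852 (iv F12121)) (tt N3858 D3921) (tt N3855 (iv F12130)) (tt N1811 F8491) (tt N3859 D3922) (tt N1810 (iv D2756)))
theorem Q2695 : ∀ i, i < 2695 → P i := stepQ 2694 Q2694 (allL N2694 (tt N2694 F8492) (tt N1817 F8493) (tt N3860 D3923) (tt N1811 (iv D2757)) (tt N2694 F8494) (tt N3858 (iv F12145)) (tt N3861 D3924) (tt N1814 F8495))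
theorem Q2696 : ∀ i, i < 2696 → P i := stepQ 2695 Q2695 (allL N2695 (tt N2695 F8496) (tt N1818 F8497) (tt N3854 (iv F12126)) (tt N3861 (iv F12154)) (tt N3856 (iv F12135)) (tt N3862 D3925) (tt N1811 (iv D2758)) (tt N3792 (iv F11937)))
theorem Q2697 : ∀ i, i < 2697 → P i := stepQ 2696 Q2696 (allL N2696 (tt N2696 F8498) (tt N2696 F8499) (tt N3863 D3926) (tt N1813 (iv D2759)) (tt N2696 F8500) (tt N1814 F8501) (tt N2696 F8502) (tt N3858 (iv F12146)))
theorem Q2698 : ∀ i, i < 2698 → P i := stepQ 2697 Q2697 (allL N2697 (tt N2697 F8503) (tt N3864 D3927) (tt N1814 (iv D2760)) (tt N2088 F8504) (tt N2697 F8505) (tt N3863 (iv F12160)) (tt N3865 D3928) (tt N3860 (iv F12151)))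
theorem Q2699 : ∀ i, i < 2699 → P i := stepQ 2698 Q2698 (allL N2698 (tt N2698 F8506) (tt N1820 F8507) (tt N3865 (iv F12166)) (tt N1815 F8508) (tt N2698 F8509) (tt N2698 F8510) (tt N1814 (iv D2761)) (tt N3866 D3929))
theorem Q2700 : ∀ i, i < 2700 → P i := stepQ 2699 Q2699 (allL N2699 (tt N1828 F8511) (tt N3856 (iv F12133)) (tt N3639 (iv F11413)) (tt N2699 F8512) (tt N1818 F8513) (tt N3867 D3930) (tt N1816 (iv D2762)) (tt N2240 F8514))
theorem Q2701 : ∀ i, i < 2701 → P i := stepQ 2700 Q2700 (allL N2700 (tt N1829 F8515) (tt N3868 D3931) (tt N1817 (iv D2763)) (tt N3640 (iv F11417)) (tt N2700 F8516) (tt N2700 F8517) (tt N3869 D3932) (tt N1819 F8518))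
theorem Q2702 : ∀ i, i < 2702 → P i := stepQ 2701 Q2701 (allL N2701 (tt N1830 F8519) (tt N3861 (iv F12153)) (tt N3869 (iv F12182)) (tt N1818 F8520) (tt N2701 F8521) (tt N3870 D3933) (tt N1817 (iv D2764)) (tt N3871 D3934))
theorem Q2703 : ∀ i, i < 2703 → P i := stepQ 2702 Q2702 (allL N2702 (tt N1831 F8522) (tt N3872 D3935) (tt N3643 (iv F11426)) (tt N3870 (iv F12185)) (tt N3867 (iv F12176)) (tt N1818 (iv D2765)) (tt N2702 F8523) (tt N3799 (iv F11961)))
theorem Q2704 : ∀ i, i < 2704 → P i := stepQ 2703 Q2703 (allL N2703 (tt N3873 D3936) (tt N1819 (iv D2766)) (tt N3864 (iv F12162)) (tt N1822 F8524) (tt N2703 F8525) (tt N3874 D3937) (tt N3875 D3938) (tt N3868 (iv F12180)))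
theorem Q2705 : ∀ i, i < 2705 → P i := stepQ 2704 Q2704 (allL N2704 (tt N1833 F8526) (tt N3875 (iv F12198)) (tt N1820 F8527) (tt N1824 F8528) (tt N2704 F8529) (tt N3482 (iv F10909)) (tt N1819 (iv D2767)) (tt N3481 F10904))
theorem Q2706 : ∀ i, i < 2706 → P i := stepQ 2705 Q2705 (allL N2705 (tt N1834 F8530) (tt N2705 F8531) (tt N3482 (iv F10907)) (tt N1821 F8532) (tt N2705 F8533) (tt N1820 (iv D2768)) (tt N2705 F8534) (tt N3477 F10890))
theorem Q2707 : ∀ i, i < 2707 → P i := stepQ 2706 Q2706 (allL N2706 (tt N1835 F8535) (tt N3866 (iv F12171)) (tt N3481 (iv F10902)) (tt N3803 (iv F11970)) (tt N2706 F8536) (tt N3477 F10889) (tt N3871 (iv F12190)) (tt N1820 (iv D2769)))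
theorem Q2708 : ∀ i, i < 2708 → P i := stepQ 2707 Q2707 (allL N2707 (tt N1822 (iv D2770)) (tt N1837 F8537) (tt N2100 F8538) (tt N3873 (iv F12193)) (tt N3876 D3939) (tt N3877 D3940) (tt N3878 D3941) (tt N3650 (iv F11444)))
theorem Q2709 : ∀ i, i < 2709 → P i := stepQ 2708 Q2708 (allL N2708 (tt N3876 (iv F12201)) (tt N1823 F8539) (tt N2101 F8540) (tt N2708 F8541) (tt N1822 (iv D2771)) (tt N3879 D3942) (tt N2245 (iv F8542)) (tt N3651 (iv F11447)))
theorem Q2710 : ∀ i, i < 2710 → P i := stepQ 2709 Q2709 (allL N2709 (tt N3877 (iv F12206)) (tt N2709 F8543) (tt N2102 F8544) (tt N3874 (iv F12196)) (tt N3879 (iv F12215)) (tt N1822 (iv D2772)) (tt N3880 D3943) (tt N3652 (iv F11450)))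
theorem Q2711 : ∀ i, i < 2711 → P i := stepQ 2710 Q2710 (allL N2710 (tt N3878 (iv F12208)) (tt N1824 F8545) (tt N2103 F8546) (tt N3875 (iv F12199)) (tt N2245 F8547) (tt N3881 D3944) (tt N1822 (iv D2773)) (tt N3882 D3945))
theorem Q2712 : ∀ i, i < 2712 → P i := stepQ 2711 Q2711 (allL N2711 (tt N1841 F8548) (tt N3491 (iv F10942)) (tt N1825 F8549) (tt N3482 F10911) (tt N2244 F8550) (tt N1824 (iv D2774)) (tt N2711 F8551) (tt N3883 D3946))
theorem Q2713 : ∀ i, i < 2713 → P i := stepQ 2712 Q2712 (allL N2712 (tt N1842 F8552) (tt N3882 (iv F12220)) (tt N1826 F8553) (tt N3884 D3947) (tt N2241 F8554) (tt N3883 (iv F12227)) (tt N3657 (iv F11467)) (tt N1824 (iv D2775)))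
theorem Q2714 : ∀ i, i < 2714 → P i := stepQ 2713 Q2713 (allL N2713 (tt N2713 F8555) (tt N1825 (iv D2776)) (tt N3885 D3948) (tt N1827 F8556) (tt N2087 F8557) (tt N2089 F8558) (tt N2713 F8559) (tt N3886 D3949))
theorem Q2715 : ∀ i, i < 2715 → P i := stepQ 2714 Q2714 (allL N2714 (tt N1843 F8560) (tt N3886 (iv F12238)) (tt N3883 (iv F12224)) (tt N3797 (iv F11953)) (tt N2239 F8561) (tt N1826 F8562) (tt N3887 D3950) (tt N1825 (iv D2777)))
theorem Q2716 : ∀ i, i < 2716 → P i := stepQ 2715 Q2715 (allL N2715 (tt N3867 (iv F12174)) (tt N3888 D3951) (tt N3664 (iv F11491)) (tt N2715 F8563) (tt N1831 F8564) (tt N1828 (iv D2778)) (tt N2715 F8565) (tt N2329 F8566))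
theorem Q2717 : ∀ i, i < 2717 → P i := stepQ 2716 Q2716 (allL N2716 (tt N3889 D3952) (tt N1829 (iv D2779)) (tt N2716 F8567) (tt N3665 (iv F11495)) (tt N2716 F8568) (tt N3890 D3953) (tt N3891 D3954) (tt N1832 F8569))
theorem Q2718 : ∀ i, i < 2718 → P i := stepQ 2717 Q2717 (allL N2717 (tt N3869 (iv F12181)) (tt N3891 (iv F12257)) (tt N1830 F8570) (tt N3667 (iv F11502)) (tt N2717 F8571) (tt N3484 (iv F10919)) (tt N1829 (iv D2780)) (tt N3483 F10915))
theorem Q2719 : ∀ i, i < 2719 → P i := stepQ 2718 Q2718 (allL N2718 (tt N3870 (iv F12184)) (tt N3892 D3955) (tt N3484 (iv F10917)) (tt N1831 F8572) (tt N2718 F8573) (tt N1830 (iv D2781)) (tt N2718 F8574) (tt N3478 F10894))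
theorem Q2720 : ∀ i, i < 2720 → P i := stepQ 2719 Q2719 (allL N2719 (tt N3871 (iv F12188)) (tt N2719 F8575) (tt N3483 (iv F10912)) (tt N3814 (iv F12002)) (tt N2719 F8576) (tt N3478 (iv F10893)) (tt N1835 F8577) (tt N1830 (iv D2782)))
theorem Q2721 : ∀ i, i < 2721 → P i := stepQ 2720 Q2720 (allL N2720 (tt N3893 D3956) (tt N1831 (iv D2783)) (tt N3894 D3957) (tt N3892 (iv F12263)) (tt N3888 (iv F12245)) (tt N2720 F8578) (tt N2720 F8579) (tt N3815 (iv F12009)))
theorem Q2722 : ∀ i, i < 2722 → P i := stepQ 2721 Q2721 (allL N2721 (tt N1832 (iv D2784)) (tt N3873 (iv F12192)) (tt N2721 F8580) (tt N1837 F8581) (tt N2721 F8582) (tt N3895 D3958) (tt N3896 D3959) (tt N3889 (iv F12251)))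
theorem Q2723 : ∀ i, i < 2723 → P i := stepQ 2722 Q2722 (allL N2722 (tt N3895 (iv F12273)) (tt N2722 F8583) (tt N2722 F8584) (tt N1839 F8585) (tt N2722 F8586) (tt N1832 (iv D2785)) (tt N3897 D3960) (tt N3890 (iv F12255)))
theorem Q2724 : ∀ i, i < 2724 → P i := stepQ 2723 Q2723 (allL N2723 (tt N3896 (iv F12277)) (tt N1833 F8587) (tt N2723 F8588) (tt N1840 F8589) (tt N2723 F8590) (tt N2683 (iv F8591)) (tt N1832 (iv D2786)) (tt N2682 (iv F8592)))
theorem Q2725 : ∀ i, i < 2725 → P i := stepQ 2724 Q2724 (allL N2724 (tt N1838 F8593) (tt N3876 (iv F12202)) (tt N1844 F8594) (tt N2724 F8595) (tt N1837 (iv D2787)) (tt N3898 D3961) (tt N2335 (iv F8596)) (tt N3681 (iv F11528)))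
theorem Q2726 : ∀ i, i < 2726 → P i := stepQ 2725 Q2725 (allL N2725 (tt N1839 F8597) (tt N3899 D3962) (tt N1845 F8598) (tt N3895 (iv F12275)) (tt N3898 (iv F12292)) (tt N1837 (iv D2788)) (tt N3900 D3963) (tt N3682 (iv F11531)))
theorem Q2727 : ∀ i, i < 2727 → P i := stepQ 2726 Q2726 (allL N2726 (tt N1840 F8599) (tt N3878 (iv F12209)) (tt N1846 F8600) (tt N3896 (iv F12279)) (tt N2335 F8601) (tt N3901 D3964) (tt N1837 (iv D2789)) (tt N3902 D3965))
theorem Q2728 : ∀ i, i < 2728 → P i := stepQ 2727 Q2727 (allL N2727 (tt N3898 (iv F12289)) (tt N2727 F8602) (tt N1847 F8603) (tt N2727 F8604) (tt N1839 F8605) (tt N1838 (iv D2790)) (tt N3903 D3966) (tt N3685 (iv F11539)))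
theorem Q2729 : ∀ i, i < 2729 → P i := stepQ 2728 Q2728 (allL N2728 (tt N3900 (iv F12294)) (tt N2728 F8606) (tt N1848 F8607) (tt N3897 (iv F12285)) (tt N3903 (iv F12309)) (tt N3904 D3967) (tt N1839 (iv D2791)) (tt N3905 D3968))
theorem Q2730 : ∀ i, i < 2730 → P i := stepQ 2729 Q2729 (allL N2729 (tt N3901 (iv F12296)) (tt N2522 F8608) (tt N1849 F8609) (tt N2683 F8610) (tt N2336 F8611) (tt N1840 (iv D2792)) (tt N3904 (iv F12314)) (tt N2519 (iv F8612)))
theorem Q2731 : ∀ i, i < 2731 → P i := stepQ 2730 Q2730 (allL N2730 (tt N3902 (iv F12301)) (tt N1842 F8613) (tt N1850 F8614) (tt N2520 F8615) (tt N2330 F8616) (tt N2519 F8617) (tt N3689 (iv F11552)) (tt N1840 (iv D2793)))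
theorem Q2732 : ∀ i, i < 2732 → P i := stepQ 2731 Q2731 (allL N2731 (tt N3883 (iv F12223)) (tt N2514 F8618) (tt N1843 F8619) (tt N2511 F8620) (tt N2327 F8621) (tt N1842 F8622) (tt N3906 D3969) (tt N1841 (iv D2794)))
theorem Q2733 : ∀ i, i < 2733 → P i := stepQ 2732 Q2732 (allL N2732 (tt N3884 (iv F12228)) (tt N2520 F8623) (tt N3828 (iv F12041)) (tt N1842 (iv D2795)) (tt N2512 F8624) (tt N2511 F8625) (tt N3694 (iv F11565)) (tt N2673 F8626))
theorem Q2734 : ∀ i, i < 2734 → P i := stepQ 2733 Q2733 (allL N2733 (tt N3887 (iv F12241)) (tt N2733 F8627) (tt N3906 (iv F12320)) (tt N3812 (iv F11995)) (tt N2328 F8628) (tt N3699 (iv F11582)) (tt N1843 (iv D2796)) (tt N2733 F8629))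
theorem Q2735 : ∀ i, i < 2735 → P i := stepQ 2734 Q2734 (allL N2734 (tt N1847 F8630) (tt N3907 D3970) (tt N3898 (iv F12290)) (tt N2352 F8631) (tt N1845 F8632) (tt N1844 (iv D2797)) (tt N3908 D3971) (tt N3702 (iv F11595)))
theorem Q2736 : ∀ i, i < 2736 → P i := stepQ 2735 Q2735 (allL N2735 (tt N1854 F8633) (tt N1845 (iv D2798)) (tt N3909 D3972) (tt N2735 F8634) (tt N3907 (iv F12326)) (tt N2124 F8635) (tt N3910 D3973) (tt N3704 (iv F11602)))
theorem Q2737 : ∀ i, i < 2737 → P i := stepQ 2736 Q2736 (allL N2736 (tt N1848 F8636) (tt N3910 (iv F12335)) (tt N3900 (iv F12295)) (tt N2736 F8637) (tt N3908 (iv F12330)) (tt N3911 D3974) (tt N1845 (iv D2799)) (tt N3912 D3975))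
theorem Q2738 : ∀ i, i < 2738 → P i := stepQ 2737 Q2737 (allL N2737 (tt N1849 F8638) (tt N3913 D3976) (tt N3901 (iv F12297)) (tt N2737 F8639) (tt N2348 F8640) (tt N1846 (iv D2800)) (tt N3911 (iv F12340)) (tt N3914 D3977))
theorem Q2739 : ∀ i, i < 2739 → P i := stepQ 2738 Q2738 (allL N2738 (tt N1850 F8641) (tt N2127 F8642) (tt N3902 (iv F12302)) (tt N2173 (iv F8644)) (tt N2341 F8643) (tt N3914 (iv F12351)) (tt N3707 (iv F11610)) (tt N1846 (iv D2801)))
theorem Q2740 : ∀ i, i < 2740 → P i := stepQ 2739 Q2739 (allL N2739 (tt N3908 (iv F12328)) (tt N1859 F8645) (tt N3903 (iv F12307)) (tt N2354 F8646) (tt N1848 F8647) (tt N2349 F8648) (tt N1847 (iv D2802)) (tt N3915 D3978))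
theorem Q2741 : ∀ i, i < 2741 → P i := stepQ 2740 Q2740 (allL N2740 (tt N3911 (iv F12337)) (tt N2740 F8649) (tt N3904 (iv F12311)) (tt N2740 F8650) (tt N2349 F8651) (tt N1848 (iv D2803)) (tt N1849 F8652) (tt N3916 D3979))
theorem Q2742 : ∀ i, i < 2742 → P i := stepQ 2741 Q2741 (allL N2741 (tt N3912 (iv F12341)) (tt N1860 F8653) (tt N3905 (iv F12317)) (tt N3917 D3980) (tt N3915 (iv F12355)) (tt N3916 (iv F12359)) (tt N3714 (iv F11634)) (tt N1848 (iv D2804)))
theorem Q2743 : ∀ i, i < 2743 → P i := stepQ 2742 Q2742 (allL N2742 (tt N3914 (iv F12347)) (tt N2742 F8654) (tt N2519 F8655) (tt N2436 (iv F8659)) (tt N2342 F8656) (tt N1850 F8657) (tt N2435 F8658) (tt N1849 (iv D2805)))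
theorem Q2744 : ∀ i, i < 2744 → P i := stepQ 2743 Q2743 (allL N2743 (tt N2173 F8670) (tt N1851 F8671) (tt N2438 (iv F8676)) (tt N1850 (iv D2806)) (tt N2743 F8672) (tt N2436 F8673) (tt N2457 F8674) (tt N2743 F8675))
theorem Q2745 : ∀ i, i < 2745 → P i := stepQ 2744 Q2744 (allL N2744 (tt N1856 F8677) (tt N2744 F8678) (tt N1852 (iv D2807)) (tt N2744 F8679) (tt N2744 F8680) (tt N3918 D3981) (tt N2744 F8681) (tt N3919 D3982))
theorem Q2746 : ∀ i, i < 2746 → P i := stepQ 2745 Q2745 (allL N2745 (tt N1857 F8682) (tt N3920 D3983) (tt N3918 (iv F12368)) (tt N1853 F8683) (tt N2745 F8684) (tt N1852 (iv D2808)) (tt N3921 D3984) (tt N3922 D3985))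
theorem Q2747 : ∀ i, i < 2747 → P i := stepQ 2746 Q2746 (allL N2746 (tt N1858 F8685) (tt N2132 F8686) (tt N3919 (iv F12373)) (tt N3729 (iv F11700)) (tt N2746 F8687) (tt N3922 (iv F12385)) (tt N3923 D3986) (tt N1852 (iv D2809)))
theorem Q2748 : ∀ i, i < 2748 → P i := stepQ 2747 Q2747 (allL N2747 (tt N3907 (iv F12324)) (tt N1853 (iv D2810)) (tt N3924 D3987) (tt N3920 (iv F12376)) (tt N1854 F8688) (tt N2133 F8689) (tt N3925 D3988) (tt N3730 (iv F11703)))
theorem Q2749 : ∀ i, i < 2749 → P i := stepQ 2748 Q2748 (allL N2748 (tt N1859 F8690) (tt N3925 (iv F12393)) (tt N2748 F8691) (tt N3921 (iv F12380)) (tt N1855 F8692) (tt N2748 F8693) (tt N1853 (iv D2811)) (tt N3926 D3989))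
theorem Q2750 : ∀ i, i < 2750 → P i := stepQ 2749 Q2749 (allL N2749 (tt N3909 (iv F12332)) (tt N2749 F8694) (tt N1854 (iv D2812)) (tt N3927 D3990) (tt N3924 (iv F12391)) (tt N2135 F8695) (tt N3928 D3991) (tt N3732 (iv F11709)))
theorem Q2751 : ∀ i, i < 2751 → P i := stepQ 2750 Q2750 (allL N2750 (tt N3910 (iv F12334)) (tt N1855 F8696) (tt N3928 (iv F12403)) (tt N2750 F8697) (tt N3925 (iv F12394)) (tt N3929 D3992) (tt N1854 (iv D2813)) (tt N3930 D3993))
theorem Q2752 : ∀ i, i < 2752 → P i := stepQ 2751 Q2751 (allL N2751 (tt N1860 F8698) (tt N3930 (iv F12407)) (tt N2751 F8699) (tt N3931 D3994) (tt N3926 (iv F12397)) (tt N2751 F8700) (tt N3735 (iv F11717)) (tt N1855 (iv D2814)))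
theorem Q2753 : ∀ i, i < 2753 → P i := stepQ 2752 Q2752 (allL N2752 (tt N3918 (iv F12367)) (tt N2752 F8701) (tt N1857 F8702) (tt N2752 F8703) (tt N2752 F8704) (tt N1856 (iv D2815)) (tt N3932 D3995) (tt N3933 D3996))
theorem Q2754 : ∀ i, i < 2754 → P i := stepQ 2753 Q2753 (allL N2753 (tt N3919 (iv F12371)) (tt N1869 F8705) (tt N1858 F8706) (tt N3934 D3997) (tt N2753 F8707) (tt N3933 (iv F12419)) (tt N3935 D3998) (tt N1856 (iv D2816)))
theorem Q2755 : ∀ i, i < 2755 → P i := stepQ 2754 Q2754 (allL N2754 (tt N3921 (iv F12379)) (tt N2354 F8708) (tt N3932 (iv F12412)) (tt N1859 F8709) (tt N2754 F8710) (tt N2754 F8711) (tt N1857 (iv D2817)) (tt N3936 D3999))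
theorem Q2756 : ∀ i, i < 2756 → P i := stepQ 2755 Q2755 (allL N2755 (tt N3922 (iv F12383)) (tt N2356 F8712) (tt N3933 (iv F12417)) (tt N3739 (iv F11732)) (tt N2755 F8713) (tt N1858 F8714) (tt N3937 D4000) (tt N1857 (iv D2818)))
theorem Q2757 : ∀ i, i < 2757 → P i := stepQ 2756 Q2756 (allL N2756 (tt N3923 (iv F12386)) (tt N1861 F8715) (tt N3935 (iv F12423)) (tt N3740 (iv F11737)) (tt N2756 F8716) (tt N3938 D4001) (tt N1858 (iv D2819)) (tt N2756 F8717))
theorem Q2758 : ∀ i, i < 2758 → P i := stepQ 2757 Q2757 (allL N2757 (tt N3926 (iv F12395)) (tt N3915 (iv F12354)) (tt N2757 F8718) (tt N3939 D4002) (tt N1860 F8719) (tt N2757 F8720) (tt N3742 (iv F11746)) (tt N1859 (iv D2820)))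
theorem Q2759 : ∀ i, i < 2759 → P i := stepQ 2758 Q2758 (allL N2758 (tt N3931 (iv F12408)) (tt N3917 (iv F12362)) (tt N3940 D4003) (tt N1860 (iv D2821)) (tt N3941 D4004) (tt N2758 F8721) (tt N3745 (iv F11760)) (tt N2758 F8722))
theorem Q2760 : ∀ i, i < 2760 → P i := stepQ 2759 Q2759 (allL N2759 (tt N2759 F8723) (tt N1862 (iv D2822)) (tt N2759 F8724) (tt N1866 F8725) (tt N3771 (iv F11862)) (tt N2759 F8726) (tt N1865 F8727) (tt N2759 F8728))
theorem Q2761 : ∀ i, i < 2761 → P i := stepQ 2760 Q2760 (allL N2760 (tt N2760 F8729) (tt N3934 (iv F12420)) (tt N2760 F8730) (tt N1869 (iv D2823)) (tt N3942 D4005) (tt N2760 F8731) (tt N3943 D4006) (tt N2760 F8732))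
theorem Q2762 : ∀ i, i < 2762 → P i := stepQ 2761 Q2761 (allL N2761 (tt N2761 F8733) (tt N3935 (iv F12422)) (tt N1870 F8734) (tt N3943 (iv F12448)) (tt N2761 F8735) (tt N3944 D4007) (tt N1869 (iv D2824)) (tt N2761 F8736))
theorem Q2763 : ∀ i, i < 2763 → P i := stepQ 2762 Q2762 (allL N2762 (tt N2762 F8737) (tt N2762 F8738) (tt N3944 (iv F12450)) (tt N2762 F8739) (tt N2762 F8740) (tt N1870 (iv D2825)) (tt N2762 F8741) (tt N2762 F8742))
theorem Q2764 : ∀ i, i < 2764 → P i := stepQ 2763 Q2763 (allL N2763 (tt N1945 F8743) (tt N2763 F8744) (tt N1871 (iv D2826)) (tt N3507 (iv F10998)) (tt N3945 D4008) (tt N3946 D4009) (tt N2986 (iv F9397)) (tt N3947 D4010))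
theorem Q2765 : ∀ i, i < 2765 → P i := stepQ 2764 Q2764 (allL N2764 (tt N1946 F8745) (tt N1874 F8746) (tt N3945 (iv F12456)) (tt N2764 F8747) (tt N1871 (iv D2827)) (tt N3948 D4011) (tt N2987 (iv F9401)) (tt N3949 D4012))
theorem Q2766 : ∀ i, i < 2766 → P i := stepQ 2765 Q2765 (allL N2765 (tt N1947 F8748) (tt N2765 F8749) (tt N3946 (iv F12458)) (tt N1872 F8750) (tt N3948 (iv F12465)) (tt N1871 (iv D2828)) (tt N3950 D4013) (tt N3951 D4014))
theorem Q2767 : ∀ i, i < 2767 → P i := stepQ 2766 Q2766 (allL N2766 (tt N1948 F8751) (tt N1875 F8752) (tt N3947 (iv F12461)) (tt N3952 D4015) (tt N3949 (iv F12468)) (tt N3951 (iv F12474)) (tt N3953 D4016) (tt N1871 (iv D2829)))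
theorem Q2768 : ∀ i, i < 2768 → P i := stepQ 2767 Q2767 (allL N2767 (tt N1949 F8753) (tt N2767 F8754) (tt N2886 (iv F9093)) (tt N3950 (iv F12471)) (tt N2767 F8755) (tt N2990 (iv F9410)) (tt N1872 (iv D2830)) (tt N2527 (iv F8838)))
theorem Q2769 : ∀ i, i < 2769 → P i := stepQ 2768 Q2768 (allL N2768 (tt N1950 F8756) (tt N2768 F8757) (tt N2888 (iv F9100)) (tt N3954 D4017) (tt N2768 F8758) (tt N1873 F8759) (tt N2528 F8837) (tt N1872 (iv D2831)))
theorem Q2770 : ∀ i, i < 2770 → P i := stepQ 2769 Q2769 (allL N2769 (tt N1951 F8760) (tt N1876 F8761) (tt N3955 D4018) (tt N1873 (iv D2832)) (tt N3956 D4019) (tt N3954 (iv F12482)) (tt N3957 D4020) (tt N3952 (iv F12477)))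
theorem Q2771 : ∀ i, i < 2771 → P i := stepQ 2770 Q2770 (allL N2770 (tt N1952 F8762) (tt N1877 F8763) (tt N2892 (iv F9109)) (tt N3957 (iv F12490)) (tt N2770 F8764) (tt N2530 (iv F8836)) (tt N1873 (iv D2833)) (tt N2955 (iv F9305)))
theorem Q2772 : ∀ i, i < 2772 → P i := stepQ 2771 Q2771 (allL N2771 (tt N1882 F8765) (tt N3949 (iv F12467)) (tt N2771 F8766) (tt N2779 (iv F8792)) (tt N1875 F8767) (tt N2771 F8768) (tt N3958 D4021) (tt N1874 (iv D2834)))
theorem Q2773 : ∀ i, i < 2773 → P i := stepQ 2772 Q2772 (allL N2772 (tt N1883 F8769) (tt N3952 (iv F12476)) (tt N2775 (iv F8779)) (tt N1875 (iv D2835)) (tt N2774 F8777) (tt N2772 F8770) (tt N3959 D4022) (tt N1876 F8771))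
theorem Q2774 : ∀ i, i < 2774 → P i := stepQ 2773 Q2773 (allL N2773 (tt N1884 F8772) (tt N3953 (iv F12479)) (tt N2773 F8773) (tt N3959 (iv F12496)) (tt N3958 (iv F12494)) (tt N3960 D4023) (tt N1875 (iv D2836)) (tt N2992 (iv F9417)))
theorem Q2775 : ∀ i, i < 2775 → P i := stepQ 2774 Q2774 (allL N2774 (tt N1885 F8774) (tt N3961 D4024) (tt N1876 (iv D2837)) (tt N1878 F8775) (tt N2772 (iv F8777)) (tt N2774 F8776) (tt N3962 D4025) (tt N2775 (iv F8782)))
theorem Q2776 : ∀ i, i < 2776 → P i := stepQ 2775 Q2775 (allL N2775 (tt N1886 F8778) (tt N3956 (iv F12486)) (tt N2772 F8779) (tt N2775 F8780) (tt N1876 (iv D2838)) (tt N2775 F8781) (tt N3963 D4026) (tt N2774 F8782))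
theorem Q2777 : ∀ i, i < 2777 → P i := stepQ 2776 Q2776 (allL N2776 (tt N1887 F8783) (tt N3957 (iv F12489)) (tt N3962 (iv F12504)) (tt N1877 F8784) (tt N3963 (iv F12510)) (tt N3964 D4027) (tt N1876 (iv D2839)) (tt N3965 D4028))
theorem Q2778 : ∀ i, i < 2778 → P i := stepQ 2777 Q2777 (allL N2777 (tt N1888 F8785) (tt N2537 F8834) (tt N1881 F8786) (tt N3964 (iv F12514)) (tt N2777 F8787) (tt N1877 (iv D2840)) (tt N2777 F8788) (tt N2939 (iv F9260)))
theorem Q2779 : ∀ i, i < 2779 → P i := stepQ 2778 Q2778 (allL N2778 (tt N3966 D4029) (tt N1878 (iv D2841)) (tt N3518 (iv F11022)) (tt N3961 (iv F12500)) (tt N3967 D4030) (tt N3968 D4031) (tt N3969 D4032) (tt N2778 F8789))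
theorem Q2780 : ∀ i, i < 2780 → P i := stepQ 2779 Q2779 (allL N2779 (tt N1890 F8790) (tt N3967 (iv F12522)) (tt N1879 F8791) (tt N2771 F8792) (tt N1878 (iv D2842)) (tt N2779 F8793) (tt N3970 D4033) (tt N2779 F8794))
theorem Q2781 : ∀ i, i < 2781 → P i := stepQ 2780 Q2780 (allL N2780 (tt N1891 F8795) (tt N3969 (iv F12528)) (tt N1880 F8796) (tt N3962 (iv F12505)) (tt N3970 (iv F12532)) (tt N3971 D4034) (tt N1878 (iv D2843)) (tt N3972 D4035))
theorem Q2782 : ∀ i, i < 2782 → P i := stepQ 2781 Q2781 (allL N2781 (tt N1892 F8797) (tt N3520 (iv F11027)) (tt N3970 (iv F12530)) (tt N2781 F8798) (tt N1880 F8799) (tt N3973 D4036) (tt N1879 (iv D2844)) (tt N3412 (iv F10687)))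
theorem Q2783 : ∀ i, i < 2783 → P i := stepQ 2782 Q2782 (allL N2782 (tt N1893 F8800) (tt N3974 D4037) (tt N3971 (iv F12534)) (tt N1881 F8801) (tt N3973 (iv F12541)) (tt N1880 (iv D2845)) (tt N2782 F8802) (tt N3975 D4038))
theorem Q2784 : ∀ i, i < 2784 → P i := stepQ 2783 Q2783 (allL N2783 (tt N1894 F8803) (tt N3522 (iv F11033)) (tt N3972 (iv F12537)) (tt N2952 (iv F9294)) (tt N3412 (iv F10685)) (tt N3975 (iv F12547)) (tt N2783 F8804) (tt N1880 (iv D2846)))
theorem Q2785 : ∀ i, i < 2785 → P i := stepQ 2784 Q2784 (allL N2784 (tt N2837 (iv F8960)) (tt N1881 (iv D2847)) (tt N2544 (iv F8835)) (tt N3974 (iv F12543)) (tt N2784 F8805) (tt N2917 (iv F9190)) (tt N2784 F8806) (tt N2916 (iv F9187)))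
theorem Q2786 : ∀ i, i < 2786 → P i := stepQ 2785 Q2785 (allL N2785 (tt N3958 (iv F12492)) (tt N1968 F8807) (tt N2785 F8808) (tt N2795 (iv F8844)) (tt N1884 F8809) (tt N3976 D4039) (tt N1882 (iv D2848)) (tt N2994 (iv F9424)))
theorem Q2787 : ∀ i, i < 2787 → P i := stepQ 2786 Q2786 (allL N2786 (tt N3959 (iv F12495)) (tt N1971 F8810) (tt N2789 (iv F8818)) (tt N1884 F8811) (tt N2788 (iv F8816)) (tt N3417 (iv F10700)) (tt N1883 (iv D2849)) (tt N3977 D4040))
theorem Q2788 : ∀ i, i < 2788 → P i := stepQ 2787 Q2787 (allL N2787 (tt N3960 (iv F12497)) (tt N3419 (iv F10708)) (tt N2787 F8812) (tt N3417 (iv F10703)) (tt N3976 (iv F12550)) (tt N1884 (iv D2850)) (tt N2787 F8813) (tt N2995 (iv F9427)))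
theorem Q2789 : ∀ i, i < 2789 → P i := stepQ 2788 Q2788 (allL N2788 (tt N3962 (iv F12503)) (tt N2921 (iv F9201)) (tt N1887 F8814) (tt N1891 F8815) (tt N2786 F8816) (tt N3978 D4041) (tt N1885 (iv D2851)) (tt N3979 D4042))
theorem Q2790 : ∀ i, i < 2790 → P i := stepQ 2789 Q2789 (allL N2789 (tt N3963 (iv F12507)) (tt N1976 F8817) (tt N2786 F8818) (tt N2789 F8819) (tt N1887 F8820) (tt N2366 F8821) (tt N1886 (iv D2852)) (tt N3980 D4043))
theorem Q2791 : ∀ i, i < 2791 → P i := stepQ 2790 Q2790 (allL N2790 (tt N3964 (iv F12512)) (tt N2001 F8822) (tt N3978 (iv F12555)) (tt N1888 F8823) (tt N2366 F8824) (tt N1887 (iv D2853)) (tt N2790 F8825) (tt N2000 (iv F8826)))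
theorem Q2792 : ∀ i, i < 2792 → P i := stepQ 2791 Q2791 (allL N2791 (tt N3965 (iv F12518)) (tt N1978 F8827) (tt N3979 (iv F12561)) (tt N2864 (iv F9028)) (tt N3980 (iv F12566)) (tt N2000 F8828) (tt N3977 (iv F12554)) (tt N1887 (iv D2854)))
theorem Q2793 : ∀ i, i < 2793 → P i := stepQ 2792 Q2792 (allL N2792 (tt N2557 (iv F8833)) (tt N1888 (iv D2855)) (tt N2808 (iv F8878)) (tt N2001 F8829) (tt N2792 F8830) (tt N1979 F8831) (tt N2792 F8832) (tt N2867 (iv F9044)))
theorem Q2794 : ∀ i, i < 2794 → P i := stepQ 2793 Q2793 (allL N2793 (tt N1889 (iv D2856)) (tt N3966 (iv F12520)) (tt N1895 F8839) (tt N2896 (iv F9126)) (tt N2893 F9117) (tt N3161 (iv F9953)) (tt N3981 D4044) (tt N2793 F8840))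
theorem Q2795 : ∀ i, i < 2795 → P i := stepQ 2794 Q2794 (allL N2794 (tt N3981 (iv F12569)) (tt N1891 F8841) (tt N1898 F8842) (tt N2921 (iv F9202)) (tt N2918 (iv F9195)) (tt N3982 D4045) (tt N1889 (iv D2857)) (tt N3983 D4046))
theorem Q2796 : ∀ i, i < 2796 → P i := stepQ 2795 Q2795 (allL N2795 (tt N3970 (iv F12529)) (tt N2918 (iv F9192)) (tt N1892 F8843) (tt N2785 F8844) (tt N1891 F8845) (tt N3984 D4047) (tt N1890 (iv D2858)) (tt N3413 (iv F10690)))
theorem Q2797 : ∀ i, i < 2797 → P i := stepQ 2796 Q2796 (allL N2796 (tt N3971 (iv F12533)) (tt N3985 D4048) (tt N1893 F8846) (tt N3978 (iv F12556)) (tt N3984 (iv F12580)) (tt N1891 (iv D2859)) (tt N2796 F8847) (tt N3986 D4049))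
theorem Q2798 : ∀ i, i < 2798 → P i := stepQ 2797 Q2797 (allL N2797 (tt N3972 (iv F12536)) (tt N3983 (iv F12573)) (tt N1894 F8848) (tt N3987 D4050) (tt N3413 (iv F10688)) (tt N3986 (iv F12585)) (tt N2797 F8849) (tt N1891 (iv D2860)))
theorem Q2799 : ∀ i, i < 2799 → P i := stepQ 2798 Q2798 (allL N2798 (tt N3973 (iv F12539)) (tt N2855 (iv F9004)) (tt N3984 (iv F12578)) (tt N2798 F8850) (tt N1893 F8851) (tt N1892 (iv D2861)) (tt N2798 F8852) (tt N3298 (iv F10336)))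
theorem Q2800 : ∀ i, i < 2800 → P i := stepQ 2799 Q2799 (allL N2799 (tt N3975 (iv F12545)) (tt N2856 (iv F9009)) (tt N3986 (iv F12584)) (tt N2212 F8853) (tt N3298 (iv F10334)) (tt N1894 F8854) (tt N2307 (iv F8855)) (tt N1893 (iv D2862)))
theorem Q2801 : ∀ i, i < 2801 → P i := stepQ 2800 Q2800 (allL N2800 (tt N1896 F8856) (tt N3537 (iv F11067)) (tt N2893 F9116) (tt N3064 (iv F9639)) (tt N1895 (iv D2863)) (tt N3160 (iv F9947)) (tt N3988 D4051) (tt N2800 F8857))
theorem Q2802 : ∀ i, i < 2802 → P i := stepQ 2801 Q2801 (allL N2801 (tt N1897 F8858) (tt N3989 D4052) (tt N3161 (iv F9951)) (tt N1992 F8859) (tt N3160 F9949) (tt N1895 (iv D2864)) (tt N3990 D4053) (tt N2801 F8860))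
theorem Q2803 : ∀ i, i < 2803 → P i := stepQ 2802 Q2802 (allL N2802 (tt N1898 F8861) (tt N3539 (iv F11076)) (tt N3981 (iv F12570)) (tt N1993 F8862) (tt N3988 (iv F12591)) (tt N3991 D4054) (tt N1895 (iv D2865)) (tt N3992 D4055))
theorem Q2804 : ∀ i, i < 2804 → P i := stepQ 2803 Q2803 (allL N2803 (tt N3988 (iv F12590)) (tt N1900 F8863) (tt N2918 (iv F9193)) (tt N3084 (iv F9692)) (tt N1898 F8864) (tt N3993 D4056) (tt N1896 (iv D2866)) (tt N3411 (iv F10683)))
theorem Q2805 : ∀ i, i < 2805 → P i := stepQ 2804 Q2804 (allL N2804 (tt N3990 (iv F12595)) (tt N1906 F8865) (tt N3187 (iv F10026)) (tt N1997 F8866) (tt N3186 (iv F10024)) (tt N3994 D4057) (tt N1897 (iv D2867)) (tt N3436 (iv F10765)))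
theorem Q2806 : ∀ i, i < 2806 → P i := stepQ 2805 Q2805 (allL N2805 (tt N3991 (iv F12597)) (tt N2864 (iv F9027)) (tt N3982 (iv F12571)) (tt N1978 F8867) (tt N3993 (iv F12604)) (tt N1898 (iv D2868)) (tt N3994 (iv F12607)) (tt N1924 (iv F8868)))
theorem Q2807 : ∀ i, i < 2807 → P i := stepQ 2806 Q2806 (allL N2806 (tt N3992 (iv F12600)) (tt N1901 F8869) (tt N3983 (iv F12574)) (tt N1925 F8870) (tt N3411 (iv F10680)) (tt N1924 F8871) (tt N2806 F8872) (tt N1898 (iv D2869)))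
theorem Q2808 : ∀ i, i < 2808 → P i := stepQ 2807 Q2807 (allL N2807 (tt N3545 (iv F11094)) (tt N3084 (iv F9690)) (tt N2807 F8873) (tt N1900 F8874) (tt N1998 F8875) (tt N2866 (iv F9037)) (tt N1899 (iv D2870)) (tt N2807 F8876))
theorem Q2809 : ∀ i, i < 2809 → P i := stepQ 2808 Q2808 (allL N2808 (tt N3546 (iv F11099)) (tt N1925 F8877) (tt N2792 F8878) (tt N1901 (iv D2871)) (tt N2808 F8879) (tt N2867 (iv F9042)) (tt N2808 F8880) (tt N1979 F8881))
theorem Q2810 : ∀ i, i < 2810 → P i := stepQ 2809 Q2809 (allL N2809 (tt N1904 F8882) (tt N3547 (iv F11106)) (tt N3204 (iv F10091)) (tt N1902 (iv D2872)) (tt N2007 F8883) (tt N3295 (iv F10326)) (tt N2868 (iv F9047)) (tt N3349 (iv F10498)))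
theorem Q2811 : ∀ i, i < 2811 → P i := stepQ 2810 Q2810 (allL N2810 (tt N1905 F8884) (tt N3995 D4058) (tt N2810 F8885) (tt N3295 (iv F10324)) (tt N1903 F8886) (tt N1902 (iv D2873)) (tt N3996 D4059) (tt N2810 F8887))
theorem Q2812 : ∀ i, i < 2812 → P i := stepQ 2811 Q2811 (allL N2811 (tt N3989 (iv F12592)) (tt N1903 (iv D2874)) (tt N3997 D4060) (tt N2009 F8888) (tt N3995 (iv F12609)) (tt N3548 (iv F11112)) (tt N3998 D4061) (tt N2811 F8889))
theorem Q2813 : ∀ i, i < 2813 → P i := stepQ 2812 Q2812 (allL N2812 (tt N1906 F8890) (tt N3998 (iv F12620)) (tt N2812 F8891) (tt N2010 F8892) (tt N3996 (iv F12615)) (tt N2871 (iv F9056)) (tt N1903 (iv D2875)) (tt N3999 D4062))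
theorem Q2814 : ∀ i, i < 2814 → P i := stepQ 2813 Q2813 (allL N2813 (tt N3996 (iv F12613)) (tt N3186 (iv F10021)) (tt N2813 F8893) (tt N3296 (iv F10330)) (tt N1906 F8894) (tt N2874 (iv F9066)) (tt N1905 (iv D2876)) (tt N4000 D4063))
theorem Q2815 : ∀ i, i < 2815 → P i := stepQ 2814 Q2814 (allL N2814 (tt N3999 (iv F12622)) (tt N3436 F10766) (tt N2814 F8895) (tt N3451 (iv F10820)) (tt N4000 (iv F12626)) (tt N2875 (iv F9068)) (tt N2814 F8896) (tt N1906 (iv D2877)))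
theorem Q2816 : ∀ i, i < 2816 → P i := stepQ 2815 Q2815 (allL N2815 (tt N3552 (iv F11126)) (tt N3350 (iv F10499)) (tt N2815 F8897) (tt N2815 F8898) (tt N2020 F8899) (tt N2815 F8900) (tt N1907 (iv D2878)) (tt N2876 (iv F9073)))
theorem Q2817 : ∀ i, i < 2817 → P i := stepQ 2816 Q2816 (allL N2816 (tt N2986 (iv F9395)) (tt N2036 F8901) (tt N1908 (iv D2879)) (tt N3572 (iv F11216)) (tt N4001 D4064) (tt N4002 D4065) (tt N1945 F8902) (tt N4003 D4066))
theorem Q2818 : ∀ i, i < 2818 → P i := stepQ 2817 Q2817 (allL N2817 (tt N2987 (iv F9398)) (tt N1911 F8903) (tt N4001 (iv F12629)) (tt N2817 F8904) (tt N1908 (iv D2880)) (tt N4004 D4067) (tt N1946 F8905) (tt N4005 D4068))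
theorem Q2819 : ∀ i, i < 2819 → P i := stepQ 2818 Q2818 (allL N2818 (tt N2988 (iv F9402)) (tt N2818 F8906) (tt N4002 (iv F12631)) (tt N1909 F8907) (tt N4004 (iv F12636)) (tt N1908 (iv D2881)) (tt N4006 D4069) (tt N4007 D4070))
theorem Q2820 : ∀ i, i < 2820 → P i := stepQ 2819 Q2819 (allL N2819 (tt N2989 (iv F9405)) (tt N1912 F8908) (tt N4003 (iv F12633)) (tt N4008 D4071) (tt N4005 (iv F12638)) (tt N4007 (iv F12643)) (tt N4009 D4072) (tt N1908 (iv D2882)))
theorem Q2821 : ∀ i, i < 2821 → P i := stepQ 2820 Q2820 (allL N2820 (tt N2990 (iv F9407)) (tt N2820 F8909) (tt N3575 (iv F11225)) (tt N4006 (iv F12640)) (tt N2820 F8910) (tt N1949 F8911) (tt N1909 (iv D2883)) (tt N3760 (iv F11823)))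
theorem Q2822 : ∀ i, i < 2822 → P i := stepQ 2821 Q2821 (allL N2821 (tt N2981 (iv F9380)) (tt N2821 F8912) (tt N3576 (iv F11230)) (tt N4010 D4073) (tt N2821 F8913) (tt N1910 F8914) (tt N3753 (iv F11794)) (tt N1909 (iv D2884)))
theorem Q2823 : ∀ i, i < 2823 → P i := stepQ 2822 Q2822 (allL N2822 (tt N2980 (iv F9378)) (tt N1913 F8915) (tt N4011 D4074) (tt N1910 (iv D2885)) (tt N4012 D4075) (tt N4010 (iv F12649)) (tt N4013 D4076) (tt N4008 (iv F12645)))
theorem Q2824 : ∀ i, i < 2824 → P i := stepQ 2823 Q2823 (allL N2823 (tt N2955 (iv F9302)) (tt N1914 F8916) (tt N3578 (iv F11236)) (tt N4013 (iv F12653)) (tt N2823 F8917) (tt N3724 (iv F11681)) (tt N1910 (iv D2886)) (tt N1952 F8918))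
theorem Q2825 : ∀ i, i < 2825 → P i := stepQ 2824 Q2824 (allL N2824 (tt N1919 F8919) (tt N4005 (iv F12637)) (tt N2043 F8920) (tt N4014 D4077) (tt N1912 F8921) (tt N2824 F8922) (tt N4015 D4078) (tt N1911 (iv D2887)))
theorem Q2826 : ∀ i, i < 2826 → P i := stepQ 2825 Q2825 (allL N2825 (tt N1920 F8923) (tt N4008 (iv F12644)) (tt N4016 D4079) (tt N1912 (iv D2888)) (tt N4017 D4080) (tt N2825 F8924) (tt N4018 D4081) (tt N1913 F8925))
theorem Q2827 : ∀ i, i < 2827 → P i := stepQ 2826 Q2826 (allL N2826 (tt N1921 F8926) (tt N4009 (iv F12646)) (tt N2045 F8927) (tt N4018 (iv F12670)) (tt N4015 (iv F12660)) (tt N3447 (iv F10804)) (tt N1912 (iv D2889)) (tt N1955 F8928))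
theorem Q2828 : ∀ i, i < 2828 → P i := stepQ 2827 Q2827 (allL N2827 (tt N1922 F8929) (tt N4019 D4082) (tt N1913 (iv D2890)) (tt N1915 F8930) (tt N4020 D4083) (tt N2827 F8931) (tt N4021 D4084) (tt N4016 (iv F12665)))
theorem Q2829 : ∀ i, i < 2829 → P i := stepQ 2828 Q2828 (allL N2828 (tt N1923 F8932) (tt N4012 (iv F12650)) (tt N4020 (iv F12673)) (tt N2828 F8933) (tt N1913 (iv D2891)) (tt N2828 F8934) (tt N4022 D4085) (tt N4017 (iv F12668)))
theorem Q2830 : ∀ i, i < 2830 → P i := stepQ 2829 Q2829 (allL N2829 (tt N1924 F8935) (tt N4013 (iv F12652)) (tt N4021 (iv F12676)) (tt N1914 F8936) (tt N4022 (iv F12680)) (tt N3992 (iv F12602)) (tt N1913 (iv D2892)) (tt N3991 F12599))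
theorem Q2831 : ∀ i, i < 2831 → P i := stepQ 2830 Q2830 (allL N2830 (tt N1925 F8937) (tt N3700 (iv F11585)) (tt N1918 F8938) (tt N3992 (iv F12601)) (tt N2830 F8939) (tt N1914 (iv D2893)) (tt N2830 F8940) (tt N1959 F8941))
theorem Q2832 : ∀ i, i < 2832 → P i := stepQ 2831 Q2831 (allL N2831 (tt N4023 D4086) (tt N1915 (iv D2894)) (tt N3585 (iv F11259)) (tt N4019 (iv F12671)) (tt N4024 D4087) (tt N4025 D4088) (tt N4026 D4089) (tt N2047 F8942))
theorem Q2833 : ∀ i, i < 2833 → P i := stepQ 2832 Q2832 (allL N2832 (tt N1927 F8943) (tt N4024 (iv F12683)) (tt N1916 F8944) (tt N4027 D4090) (tt N1915 (iv D2895)) (tt N2832 F8945) (tt N4028 D4091) (tt N2048 F8946))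
theorem Q2834 : ∀ i, i < 2834 → P i := stepQ 2833 Q2833 (allL N2833 (tt N1928 F8947) (tt N4026 (iv F12687)) (tt N1917 F8948) (tt N4021 (iv F12677)) (tt N4028 (iv F12694)) (tt N4029 D4092) (tt N1915 (iv D2896)) (tt N4030 D4093))
theorem Q2835 : ∀ i, i < 2835 → P i := stepQ 2834 Q2834 (allL N2834 (tt N1929 F8949) (tt N3588 (iv F11267)) (tt N4028 (iv F12693)) (tt N2834 F8950) (tt N1917 F8951) (tt N4031 D4094) (tt N1916 (iv D2897)) (tt N2247 F8952))
theorem Q2836 : ∀ i, i < 2836 → P i := stepQ 2835 Q2835 (allL N2835 (tt N1930 F8953) (tt N4032 D4095) (tt N4029 (iv F12697)) (tt N1918 F8954) (tt N4031 (iv F12705)) (tt N1917 (iv D2898)) (tt N2835 F8955) (tt N4033 D4096))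
theorem Q2837 : ∀ i, i < 2837 → P i := stepQ 2836 Q2836 (allL N2836 (tt N1931 F8956) (tt N3590 (iv F11274)) (tt N4030 (iv F12700)) (tt N1965 F8957) (tt N2247 F8958) (tt N4033 (iv F12714)) (tt N2051 F8959) (tt N1917 (iv D2899)))
theorem Q2838 : ∀ i, i < 2838 → P i := stepQ 2837 Q2837 (allL N2837 (tt N2784 F8960) (tt N1918 (iv D2900)) (tt N3661 (iv F11480)) (tt N4032 (iv F12709)) (tt N2837 F8961) (tt N3591 (iv F11281)) (tt N2837 F8962) (tt N1966 F8963))
theorem Q2839 : ∀ i, i < 2839 → P i := stepQ 2838 Q2838 (allL N2838 (tt N4014 (iv F12654)) (tt N2993 (iv F9418)) (tt N2838 F8964) (tt N1919 (iv D2901)) (tt N4034 D4097) (tt N2838 F8965) (tt N4035 D4098) (tt N2838 F8966))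
theorem Q2840 : ∀ i, i < 2840 → P i := stepQ 2839 Q2839 (allL N2839 (tt N4015 (iv F12658)) (tt N2994 (iv F9421)) (tt N2053 F8967) (tt N4035 (iv F12720)) (tt N1921 F8968) (tt N3452 (iv F10824)) (tt N1919 (iv D2902)) (tt N1968 F8969))
theorem Q2841 : ∀ i, i < 2841 → P i := stepQ 2840 Q2840 (allL N2840 (tt N4016 (iv F12662)) (tt N4036 D4099) (tt N1920 (iv D2903)) (tt N2054 F8970) (tt N4037 D4100) (tt N2840 F8971) (tt N3435 (iv F10761)) (tt N1922 F8972))
theorem Q2842 : ∀ i, i < 2842 → P i := stepQ 2841 Q2841 (allL N2841 (tt N4017 (iv F12666)) (tt N2984 (iv F9390)) (tt N4037 (iv F12723)) (tt N4034 (iv F12716)) (tt N1920 (iv D2904)) (tt N2841 F8973) (tt N4038 D4101) (tt N1923 F8974))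
theorem Q2843 : ∀ i, i < 2843 → P i := stepQ 2842 Q2842 (allL N2842 (tt N4018 (iv F12669)) (tt N2985 (iv F9393)) (tt N3435 (iv F10759)) (tt N1921 F8975) (tt N4038 (iv F12727)) (tt N3436 (iv F10763)) (tt N1920 (iv D2905)) (tt N3994 (iv F12608)))
theorem Q2844 : ∀ i, i < 2844 → P i := stepQ 2843 Q2843 (allL N2843 (tt N4039 D4102) (tt N1922 (iv D2906)) (tt N2976 (iv F9368)) (tt N1926 F8976) (tt N4040 D4103) (tt N4041 D4104) (tt N4042 D4105) (tt N4036 (iv F12722)))
theorem Q2845 : ∀ i, i < 2845 → P i := stepQ 2844 Q2844 (allL N2844 (tt N4020 (iv F12672)) (tt N4040 (iv F12729)) (tt N1923 F8977) (tt N4043 D4106) (tt N1922 (iv D2907)) (tt N2844 F8978) (tt N4044 D4107) (tt N4037 (iv F12726)))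
theorem Q2846 : ∀ i, i < 2846 → P i := stepQ 2845 Q2845 (allL N2845 (tt N4021 (iv F12675)) (tt N4042 (iv F12733)) (tt N1924 F8979) (tt N1928 F8980) (tt N4044 (iv F12740)) (tt N3983 (iv F12575)) (tt N1922 (iv D2908)) (tt N3982 F12572))
theorem Q2847 : ∀ i, i < 2847 → P i := stepQ 2846 Q2846 (allL N2846 (tt N4022 (iv F12678)) (tt N2957 (iv F9308)) (tt N4044 (iv F12739)) (tt N2846 F8981) (tt N1924 F8982) (tt N3411 (iv F10681)) (tt N1923 (iv D2909)) (tt N3993 (iv F12605)))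
theorem Q2848 : ∀ i, i < 2848 → P i := stepQ 2847 Q2847 (allL N2847 (tt N1926 (iv D2910)) (tt N4023 (iv F12681)) (tt N1932 F8983) (tt N4039 (iv F12728)) (tt N4045 D4108) (tt N4046 D4109) (tt N4047 D4110) (tt N2056 F8984))
theorem Q2849 : ∀ i, i < 2849 → P i := stepQ 2848 Q2848 (allL N2848 (tt N4045 (iv F12741)) (tt N1927 F8985) (tt N1933 F8986) (tt N4048 D4111) (tt N1926 (iv D2911)) (tt N4049 D4112) (tt N4050 D4113) (tt N2057 F8987))
theorem Q2850 : ∀ i, i < 2850 → P i := stepQ 2849 Q2849 (allL N2849 (tt N4046 (iv F12744)) (tt N2849 F8988) (tt N1934 F8989) (tt N4041 (iv F12732)) (tt N4049 (iv F12753)) (tt N1926 (iv D2912)) (tt N4051 D4114) (tt N2058 F8990))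
theorem Q2851 : ∀ i, i < 2851 → P i := stepQ 2850 Q2850 (allL N2850 (tt N4047 (iv F12747)) (tt N1928 F8991) (tt N1935 F8992) (tt N4042 (iv F12734)) (tt N4050 (iv F12757)) (tt N4052 D4115) (tt N1926 (iv D2913)) (tt N2967 (iv F9339)))
theorem Q2852 : ∀ i, i < 2852 → P i := stepQ 2851 Q2851 (allL N2851 (tt N4027 (iv F12688)) (tt N4048 (iv F12749)) (tt N2851 F8993) (tt N1927 (iv D2914)) (tt N4043 (iv F12736)) (tt N2851 F8994) (tt N4053 D4116) (tt N2851 F8995))
theorem Q2853 : ∀ i, i < 2853 → P i := stepQ 2852 Q2852 (allL N2852 (tt N4028 (iv F12692)) (tt N4050 (iv F12755)) (tt N1929 F8996) (tt N4053 (iv F12764)) (tt N1928 F8997) (tt N4054 D4117) (tt N1927 (iv D2915)) (tt N2270 F8998))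
theorem Q2854 : ∀ i, i < 2854 → P i := stepQ 2853 Q2853 (allL N2853 (tt N4029 (iv F12696)) (tt N3987 (iv F12587)) (tt N1930 F8999) (tt N3983 (iv F12577)) (tt N4054 (iv F12766)) (tt N1928 (iv D2916)) (tt N2853 F9000) (tt N4055 D4118))
theorem Q2855 : ∀ i, i < 2855 → P i := stepQ 2854 Q2854 (allL N2854 (tt N4030 (iv F12699)) (tt N2967 (iv F9335)) (tt N1931 F9001) (tt N2946 (iv F9277)) (tt N2270 F9002) (tt N4055 (iv F12771)) (tt N2060 F9003) (tt N1928 (iv D2917)))
theorem Q2856 : ∀ i, i < 2856 → P i := stepQ 2855 Q2855 (allL N2855 (tt N4031 (iv F12703)) (tt N2798 F9004) (tt N4054 (iv F12765)) (tt N2855 F9005) (tt N1930 F9006) (tt N1929 (iv D2918)) (tt N2855 F9007) (tt N2271 F9008))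
theorem Q2857 : ∀ i, i < 2857 → P i := stepQ 2856 Q2856 (allL N2856 (tt N4033 (iv F12711)) (tt N2799 F9009) (tt N4055 (iv F12769)) (tt N1988 F9010) (tt N2271 F9011) (tt N1931 F9012) (tt N3328 (iv F10441)) (tt N1930 (iv D2919)))
theorem Q2858 : ∀ i, i < 2858 → P i := stepQ 2857 Q2857 (allL N2857 (tt N1933 F9013) (tt N3613 (iv F11349)) (tt N4045 (iv F12742)) (tt N4056 D4119) (tt N1932 (iv D2920)) (tt N4057 D4120) (tt N4058 D4121) (tt N2062 F9014))
theorem Q2859 : ∀ i, i < 2859 → P i := stepQ 2858 Q2858 (allL N2858 (tt N1934 F9015) (tt N4059 D4122) (tt N4046 (iv F12745)) (tt N2971 (iv F9350)) (tt N4057 (iv F12776)) (tt N1932 (iv D2921)) (tt N4060 D4123) (tt N2063 F9016))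
theorem Q2860 : ∀ i, i < 2860 → P i := stepQ 2859 Q2859 (allL N2859 (tt N1935 F9017) (tt N3615 (iv F11354)) (tt N4047 (iv F12748)) (tt N2949 (iv F9287)) (tt N4058 (iv F12779)) (tt N4061 D4124) (tt N1932 (iv D2922)) (tt N4062 D4125))
theorem Q2861 : ∀ i, i < 2861 → P i := stepQ 2860 Q2860 (allL N2860 (tt N4056 (iv F12772)) (tt N1936 F9018) (tt N4063 D4126) (tt N1933 (iv D2923)) (tt N2972 (iv F9354)) (tt N4064 D4127) (tt N4065 D4128) (tt N2426 F9019))
theorem Q2862 : ∀ i, i < 2862 → P i := stepQ 2861 Q2861 (allL N2861 (tt N4057 (iv F12775)) (tt N1942 F9020) (tt N4049 (iv F12752)) (tt N4064 (iv F12798)) (tt N1934 F9021) (tt N1933 (iv D2924)) (tt N4066 D4129) (tt N2065 F9022))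
theorem Q2863 : ∀ i, i < 2863 → P i := stepQ 2862 Q2862 (allL N2862 (tt N4058 (iv F12778)) (tt N1937 F9023) (tt N4050 (iv F12756)) (tt N4065 (iv F12802)) (tt N1935 F9024) (tt N4067 D4130) (tt N1933 (iv D2925)) (tt N2360 F9025))
theorem Q2864 : ∀ i, i < 2864 → P i := stepQ 2863 Q2863 (allL N2863 (tt N4060 (iv F12783)) (tt N1943 F9026) (tt N4051 (iv F12760)) (tt N2970 (iv F9347)) (tt N4066 (iv F12805)) (tt N4068 D4131) (tt N1934 (iv D2926)) (tt N4069 D4132))
theorem Q2865 : ∀ i, i < 2865 → P i := stepQ 2864 Q2864 (allL N2864 (tt N4061 (iv F12784)) (tt N2805 F9027) (tt N4052 (iv F12761)) (tt N2791 F9028) (tt N4067 (iv F12807)) (tt N1935 (iv D2927)) (tt N4068 (iv F12811)) (tt N2006 (iv F9029)))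
theorem Q2866 : ∀ i, i < 2866 → P i := stepQ 2865 Q2865 (allL N2865 (tt N4062 (iv F12787)) (tt N1938 F9030) (tt N2967 (iv F9336)) (tt N1990 F9031) (tt N2360 F9032) (tt N2006 F9033) (tt N2068 F9034) (tt N1935 (iv D2928)))
theorem Q2867 : ∀ i, i < 2867 → P i := stepQ 2866 Q2866 (allL N2866 (tt N3618 (iv F11359)) (tt N4065 (iv F12801)) (tt N2866 F9035) (tt N1937 F9036) (tt N2947 (iv F9281)) (tt N2807 F9037) (tt N1936 (iv D2929)) (tt N2866 F9038))
theorem Q2868 : ∀ i, i < 2868 → P i := stepQ 2867 Q2867 (allL N2867 (tt N3602 (iv F11315)) (tt N1990 F9039) (tt N1979 F9040) (tt N1938 (iv D2930)) (tt N2867 F9041) (tt N2808 F9042) (tt N2069 F9043) (tt N2792 F9044))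
theorem Q2869 : ∀ i, i < 2869 → P i := stepQ 2868 Q2868 (allL N2868 (tt N1941 F9045) (tt N3619 (iv F11365)) (tt N2218 (iv F9048)) (tt N1939 (iv D2931)) (tt N2214 F9046) (tt N4070 D4133) (tt N2809 F9047) (tt N4071 D4134))
theorem Q2870 : ∀ i, i < 2870 → P i := stepQ 2869 Q2869 (allL N2869 (tt N1942 F9049) (tt N4072 D4135) (tt N2869 F9050) (tt N4070 (iv F12819)) (tt N1940 F9051) (tt N1939 (iv D2932)) (tt N4073 D4136) (tt N2071 F9052))
theorem Q2871 : ∀ i, i < 2871 → P i := stepQ 2870 Q2870 (allL N2870 (tt N4059 (iv F12781)) (tt N1940 (iv D2933)) (tt N4074 D4137) (tt N2966 (iv F9333)) (tt N4072 (iv F12826)) (tt N3621 (iv F11371)) (tt N4075 D4138) (tt N2072 F9053))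
theorem Q2872 : ∀ i, i < 2872 → P i := stepQ 2871 Q2871 (allL N2871 (tt N1943 F9054) (tt N4075 (iv F12834)) (tt N2871 F9055) (tt N2964 (iv F9327)) (tt N4073 (iv F12830)) (tt N2812 F9056) (tt N1940 (iv D2934)) (tt N4076 D4139))
theorem Q2873 : ∀ i, i < 2873 → P i := stepQ 2872 Q2872 (allL N2872 (tt N4070 (iv F12817)) (tt N4064 (iv F12796)) (tt N2028 F9057) (tt N1942 F9058) (tt N2025 F9059) (tt N1941 (iv D2935)) (tt N4077 D4140) (tt N4078 D4141))
theorem Q2874 : ∀ i, i < 2874 → P i := stepQ 2873 Q2873 (allL N2873 (tt N4071 (iv F12821)) (tt N1944 F9060) (tt N2220 F9061) (tt N2076 F9062) (tt N2215 F9063) (tt N4078 (iv F12847)) (tt N4079 D4142) (tt N1941 (iv D2936)))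
theorem Q2875 : ∀ i, i < 2875 → P i := stepQ 2874 Q2874 (allL N2874 (tt N4073 (iv F12828)) (tt N4066 (iv F12804)) (tt N2874 F9064) (tt N4077 (iv F12840)) (tt N1943 F9065) (tt N2813 F9066) (tt N1942 (iv D2937)) (tt N4080 D4143))
theorem Q2876 : ∀ i, i < 2876 → P i := stepQ 2875 Q2875 (allL N2875 (tt N4076 (iv F12835)) (tt N4069 (iv F12813)) (tt N2875 F9067) (tt N4081 D4144) (tt N4080 (iv F12854)) (tt N2814 F9068) (tt N2078 F9069) (tt N1943 (iv D2938)))
theorem Q2877 : ∀ i, i < 2877 → P i := stepQ 2876 Q2876 (allL N2876 (tt N3624 (iv F11377)) (tt N4079 (iv F12848)) (tt N2876 F9070) (tt N2079 F9071) (tt N2973 (iv F9357)) (tt N2876 F9072) (tt N1944 (iv D2939)) (tt N2815 F9073))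
theorem Q2878 : ∀ i, i < 2878 → P i := stepQ 2877 Q2877 (allL N2877 (tt N3945 (iv F12454)) (tt N2080 F9074) (tt N1946 F9075) (tt N4082 D4145) (tt N1945 (iv D2940)) (tt N4083 D4146) (tt N4001 (iv F12630)) (tt N4084 D4147))
theorem Q2879 : ∀ i, i < 2879 → P i := stepQ 2878 Q2878 (allL N2878 (tt N3946 (iv F12457)) (tt N4085 D4148) (tt N1947 F9076) (tt N3626 (iv F11386)) (tt N4083 (iv F12865)) (tt N1945 (iv D2941)) (tt N4086 D4149) (tt N4087 D4150))
theorem Q2880 : ∀ i, i < 2880 → P i := stepQ 2879 Q2879 (allL N2879 (tt N3947 (iv F12459)) (tt N2082 F9077) (tt N1948 F9078) (tt N4088 D4151) (tt N4084 (iv F12868)) (tt N4087 (iv F12873)) (tt N4089 D4152) (tt N1945 (iv D2942)))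
theorem Q2881 : ∀ i, i < 2881 → P i := stepQ 2880 Q2880 (allL N2880 (tt N3948 (iv F12462)) (tt N2150 F9079) (tt N4083 (iv F12864)) (tt N2880 F9080) (tt N1947 F9081) (tt N1946 (iv D2943)) (tt N4090 D4153) (tt N4091 D4154))
theorem Q2882 : ∀ i, i < 2882 → P i := stepQ 2881 Q2881 (allL N2881 (tt N3949 (iv F12466)) (tt N1953 F9082) (tt N4084 (iv F12867)) (tt N4092 D4155) (tt N1948 F9083) (tt N4091 (iv F12882)) (tt N4093 D4156) (tt N1946 (iv D2944)))
theorem Q2883 : ∀ i, i < 2883 → P i := stepQ 2882 Q2882 (allL N2882 (tt N3950 (iv F12469)) (tt N2152 F9084) (tt N4086 (iv F12871)) (tt N1949 F9085) (tt N4090 (iv F12879)) (tt N4006 (iv F12641)) (tt N1947 (iv D2945)) (tt N4094 D4157))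
theorem Q2884 : ∀ i, i < 2884 → P i := stepQ 2883 Q2883 (allL N2883 (tt N3951 (iv F12472)) (tt N2153 F9086) (tt N4087 (iv F12872)) (tt N4095 D4158) (tt N4091 (iv F12881)) (tt N1948 F9087) (tt N4096 D4159) (tt N1947 (iv D2946)))
theorem Q2885 : ∀ i, i < 2885 → P i := stepQ 2884 Q2884 (allL N2884 (tt N3952 (iv F12475)) (tt N1954 F9088) (tt N4097 D4160) (tt N1948 (iv D2947)) (tt N4098 D4161) (tt N4095 (iv F12891)) (tt N4099 D4162) (tt N1951 F9089))
theorem Q2886 : ∀ i, i < 2886 → P i := stepQ 2885 Q2885 (allL N2885 (tt N3953 (iv F12478)) (tt N1955 F9090) (tt N4089 (iv F12876)) (tt N4099 (iv F12900)) (tt N4093 (iv F12888)) (tt N4100 D4163) (tt N1948 (iv D2948)) (tt N4009 (iv F12647)))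
theorem Q2887 : ∀ i, i < 2887 → P i := stepQ 2886 Q2886 (allL N2886 (tt N2527 F9091) (tt N2156 F9092) (tt N2767 F9093) (tt N4101 D4164) (tt N2886 F9094) (tt N3760 (iv F11822)) (tt N2441 (iv F9095)) (tt N1949 (iv D2949)))
theorem Q2888 : ∀ i, i < 2888 → P i := stepQ 2887 Q2887 (allL N2887 (tt N3954 (iv F12480)) (tt N2157 F9096) (tt N4102 D4165) (tt N1950 (iv D2950)) (tt N4103 D4166) (tt N1951 F9097) (tt N4104 D4167) (tt N4095 (iv F12892)))
theorem Q2889 : ∀ i, i < 2889 → P i := stepQ 2888 Q2888 (allL N2888 (tt N2528 F9098) (tt N2158 F9099) (tt N2768 F9100) (tt N4104 (iv F12910)) (tt N2888 F9101) (tt N2442 (iv F9103)) (tt N1950 (iv D2951)) (tt N2441 F9102))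
theorem Q2890 : ∀ i, i < 2890 → P i := stepQ 2889 Q2889 (allL N2889 (tt N3955 (iv F12484)) (tt N4105 D4168) (tt N1951 (iv D2952)) (tt N3635 (iv F11403)) (tt N4106 D4169) (tt N4102 (iv F12904)) (tt N4107 D4170) (tt N4097 (iv F12894)))
theorem Q2891 : ∀ i, i < 2891 → P i := stepQ 2890 Q2890 (allL N2890 (tt N3956 (iv F12485)) (tt N1957 F9104) (tt N4106 (iv F12913)) (tt N2890 F9105) (tt N1951 (iv D2953)) (tt N4103 (iv F12907)) (tt N4108 D4171) (tt N4098 (iv F12898)))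
theorem Q2892 : ∀ i, i < 2892 → P i := stepQ 2891 Q2891 (allL N2891 (tt N3957 (iv F12488)) (tt N1958 F9106) (tt N4107 (iv F12914)) (tt N1952 F9107) (tt N4108 (iv F12917)) (tt N4109 D4172) (tt N1951 (iv D2954)) (tt N4110 D4173))
theorem Q2893 : ∀ i, i < 2893 → P i := stepQ 2892 Q2892 (allL N2892 (tt N2530 F9108) (tt N2446 (iv F9112)) (tt N2770 F9109) (tt N4109 (iv F12920)) (tt N2892 F9110) (tt N1952 (iv D2955)) (tt N2442 F9111) (tt N3724 (iv F11683)))
theorem Q2894 : ∀ i, i < 2894 → P i := stepQ 2893 Q2893 (allL N2893 (tt N1967 F9113) (tt N4092 (iv F12884)) (tt N2800 (iv F9116)) (tt N1953 (iv D2956)) (tt N2793 (iv F9117)) (tt N2163 F9114) (tt N4111 D4174) (tt N2893 F9115))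
theorem Q2895 : ∀ i, i < 2895 → P i := stepQ 2894 Q2894 (allL N2894 (tt N1968 F9118) (tt N4093 (iv F12887)) (tt N2092 F9119) (tt N4111 (iv F12925)) (tt N1955 F9120) (tt N4112 D4175) (tt N1953 (iv D2957)) (tt N4015 (iv F12661)))
theorem Q2896 : ∀ i, i < 2896 → P i := stepQ 2895 Q2895 (allL N2895 (tt N1969 F9121) (tt N4113 D4176) (tt N1954 (iv D2958)) (tt N2093 F9122) (tt N2925 (iv F9214)) (tt N2165 F9123) (tt N4114 D4177) (tt N1956 F9124))
theorem Q2897 : ∀ i, i < 2897 → P i := stepQ 2896 Q2896 (allL N2896 (tt N1970 F9125) (tt N4098 (iv F12896)) (tt N2925 (iv F9212)) (tt N2793 F9126) (tt N1954 (iv D2959)) (tt N2166 F9127) (tt N4115 D4178) (tt N1957 F9128))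
theorem Q2898 : ∀ i, i < 2898 → P i := stepQ 2897 Q2897 (allL N2897 (tt N1971 F9129) (tt N4099 (iv F12899)) (tt N4114 (iv F12934)) (tt N1955 F9130) (tt N4115 (iv F12938)) (tt N4116 D4179) (tt N1954 (iv D2960)) (tt N4117 D4180))
theorem Q2899 : ∀ i, i < 2899 → P i := stepQ 2898 Q2898 (allL N2898 (tt N1972 F9131) (tt N4118 D4181) (tt N2096 F9132) (tt N4116 (iv F12940)) (tt N4112 (iv F12929)) (tt N1955 (iv D2961)) (tt N2168 F9133) (tt N3447 (iv F10806)))
theorem Q2900 : ∀ i, i < 2900 → P i := stepQ 2899 Q2899 (allL N2899 (tt N4119 D4182) (tt N1956 (iv D2962)) (tt N4105 (iv F12912)) (tt N1960 F9134) (tt N4120 D4183) (tt N4121 D4184) (tt N4122 D4185) (tt N4113 (iv F12932)))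
theorem Q2901 : ∀ i, i < 2901 → P i := stepQ 2900 Q2900 (allL N2900 (tt N1974 F9135) (tt N4120 (iv F12951)) (tt N1957 F9136) (tt N3086 (iv F9699)) (tt N1956 (iv D2963)) (tt N2170 F9137) (tt N4123 D4186) (tt N2925 (iv F9215)))
theorem Q2902 : ∀ i, i < 2902 → P i := stepQ 2901 Q2901 (allL N2901 (tt N1975 F9138) (tt N4122 (iv F12955)) (tt N1958 F9139) (tt N1962 F9140) (tt N4123 (iv F12959)) (tt N4124 D4187) (tt N1956 (iv D2964)) (tt N4125 D4188))
theorem Q2903 : ∀ i, i < 2903 → P i := stepQ 2902 Q2902 (allL N2902 (tt N1976 F9141) (tt N4108 (iv F12915)) (tt N4123 (iv F12958)) (tt N2902 F9142) (tt N1958 F9143) (tt N2365 F9144) (tt N1957 (iv D2965)) (tt N4126 D4189))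
theorem Q2904 : ∀ i, i < 2904 → P i := stepQ 2903 Q2903 (allL N2903 (tt N1977 F9145) (tt N3707 (iv F11607)) (tt N4124 (iv F12962)) (tt N1959 F9146) (tt N2365 F9147) (tt N1958 (iv D2966)) (tt N2127 F9148) (tt N1993 (iv F9149)))
theorem Q2905 : ∀ i, i < 2905 → P i := stepQ 2904 Q2904 (allL N2904 (tt N1978 F9150) (tt N4110 (iv F12922)) (tt N4125 (iv F12968)) (tt N3991 (iv F12598)) (tt N4126 (iv F12971)) (tt N1993 F9151) (tt N4117 (iv F12945)) (tt N1958 (iv D2967)))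
theorem Q2906 : ∀ i, i < 2906 → P i := stepQ 2905 Q2905 (allL N2905 (tt N2457 F9152) (tt N1959 (iv D2968)) (tt N2450 (iv F9156)) (tt N3707 F11611) (tt N2905 F9153) (tt N2446 F9154) (tt N2173 F9155) (tt N3700 (iv F11589)))
theorem Q2907 : ∀ i, i < 2907 → P i := stepQ 2906 Q2906 (allL N2906 (tt N1960 (iv D2969)) (tt N1980 F9157) (tt N3650 (iv F11443)) (tt N4119 (iv F12948)) (tt N4127 D4190) (tt N4128 D4191) (tt N4129 D4192) (tt N2100 F9158))
theorem Q2908 : ∀ i, i < 2908 → P i := stepQ 2907 Q2907 (allL N2907 (tt N4127 (iv F12973)) (tt N1961 F9159) (tt N3651 (iv F11446)) (tt N4130 D4193) (tt N1960 (iv D2970)) (tt N4131 D4194) (tt N4132 D4195) (tt N2101 F9160))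
theorem Q2909 : ∀ i, i < 2909 → P i := stepQ 2908 Q2908 (allL N2908 (tt N4128 (iv F12976)) (tt N2176 F9161) (tt N3652 (iv F11449)) (tt N4121 (iv F12954)) (tt N4131 (iv F12983)) (tt N1960 (iv D2971)) (tt N4133 D4196) (tt N2102 F9162))
theorem Q2910 : ∀ i, i < 2910 → P i := stepQ 2909 Q2909 (allL N2909 (tt N4129 (iv F12978)) (tt N1962 F9163) (tt N3653 (iv F11452)) (tt N4122 (iv F12956)) (tt N4132 (iv F12986)) (tt N4134 D4197) (tt N1960 (iv D2972)) (tt N4135 D4198))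
theorem Q2911 : ∀ i, i < 2911 → P i := stepQ 2910 Q2910 (allL N2910 (tt N1984 F9164) (tt N4130 (iv F12980)) (tt N2910 F9165) (tt N1961 (iv D2973)) (tt N3086 (iv F9700)) (tt N2178 F9166) (tt N4136 D4199) (tt N2265 F9167))
theorem Q2912 : ∀ i, i < 2912 → P i := stepQ 2911 Q2911 (allL N2911 (tt N1985 F9168) (tt N4132 (iv F12985)) (tt N1963 F9169) (tt N4136 (iv F12994)) (tt N1962 F9170) (tt N3197 (iv F10067)) (tt N1961 (iv D2974)) (tt N2250 F9171))
theorem Q2913 : ∀ i, i < 2913 → P i := stepQ 2912 Q2912 (allL N2912 (tt N1986 F9172) (tt N4137 D4200) (tt N1964 F9173) (tt N4124 (iv F12963)) (tt N3197 (iv F10066)) (tt N1962 (iv D2975)) (tt N2179 F9174) (tt N4138 D4201))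
theorem Q2914 : ∀ i, i < 2914 → P i := stepQ 2913 Q2913 (allL N2913 (tt N1987 F9175) (tt N4135 (iv F12989)) (tt N1965 F9176) (tt N4139 D4202) (tt N2250 F9177) (tt N4138 (iv F12999)) (tt N2104 F9178) (tt N1962 (iv D2976)))
theorem Q2915 : ∀ i, i < 2915 → P i := stepQ 2914 Q2914 (allL N2914 (tt N3206 (iv F10100)) (tt N1964 (iv D2977)) (tt N4140 D4203) (tt N1966 F9179) (tt N3201 (iv F10082)) (tt N3659 (iv F11474)) (tt N2180 F9180) (tt N4141 D4204))
theorem Q2916 : ∀ i, i < 2916 → P i := stepQ 2915 Q2915 (allL N2915 (tt N1988 F9181) (tt N4141 (iv F13003)) (tt N4138 (iv F12997)) (tt N4033 (iv F12712)) (tt N2251 F9182) (tt N1965 F9183) (tt N3321 (iv F10416)) (tt N1964 (iv D2978)))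
theorem Q2917 : ∀ i, i < 2917 → P i := stepQ 2916 Q2916 (allL N2916 (tt N1966 (iv D2979)) (tt N1989 F9184) (tt N3591 (iv F11279)) (tt N3206 (iv F10102)) (tt N2916 F9185) (tt N3661 (iv F11482)) (tt N2181 F9186) (tt N2784 F9187))
theorem Q2918 : ∀ i, i < 2918 → P i := stepQ 2917 Q2917 (allL N2917 (tt N3591 (iv F11278)) (tt N2450 F9188) (tt N1966 (iv D2980)) (tt N4142 D4205) (tt N2917 F9189) (tt N2784 F9190) (tt N2182 F9191) (tt N3661 (iv F11484)))
theorem Q2919 : ∀ i, i < 2919 → P i := stepQ 2918 Q2918 (allL N2918 (tt N4111 (iv F12923)) (tt N2795 F9192) (tt N2803 F9193) (tt N1968 F9194) (tt N2794 F9195) (tt N4143 D4206) (tt N1967 (iv D2981)) (tt N4144 D4207))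
theorem Q2920 : ∀ i, i < 2920 → P i := stepQ 2919 Q2919 (allL N2919 (tt N4112 (iv F12927)) (tt N4145 D4208) (tt N2107 F9196) (tt N4143 (iv F13009)) (tt N1972 F9197) (tt N1968 (iv D2982)) (tt N2186 F9198) (tt N3452 (iv F10826)))
theorem Q2921 : ∀ i, i < 2921 → P i := stepQ 2920 Q2920 (allL N2920 (tt N4114 (iv F12933)) (tt N2927 (iv F9220)) (tt N1971 F9199) (tt N2110 F9200) (tt N2926 (iv F9219)) (tt N3302 (iv F10347)) (tt N1969 (iv D2983)) (tt N4146 D4209))
theorem Q2922 : ∀ i, i < 2922 → P i := stepQ 2921 Q2921 (allL N2921 (tt N4115 (iv F12936)) (tt N2788 F9201) (tt N2926 (iv F9217)) (tt N2794 F9202) (tt N1971 F9203) (tt N4147 D4210) (tt N1970 (iv D2984)) (tt N4148 D4211))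
theorem Q2923 : ∀ i, i < 2923 → P i := stepQ 2922 Q2922 (allL N2922 (tt N4116 (iv F12939)) (tt N2016 (iv F9206)) (tt N3302 (iv F10345)) (tt N1972 F9204) (tt N4147 (iv F13025)) (tt N1971 (iv D2985)) (tt N2130 F9205) (tt N1997 (iv F9207)))
theorem Q2924 : ∀ i, i < 2924 → P i := stepQ 2923 Q2923 (allL N2923 (tt N4117 (iv F12943)) (tt N3977 (iv F12552)) (tt N4146 (iv F13020)) (tt N3994 (iv F12606)) (tt N4148 (iv F13030)) (tt N1997 F9208) (tt N1978 F9209) (tt N1971 (iv D2986)))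
theorem Q2925 : ∀ i, i < 2925 → P i := stepQ 2924 Q2924 (allL N2924 (tt N4149 D4212) (tt N1972 (iv D2987)) (tt N3304 (iv F10354)) (tt N2016 F9210) (tt N4145 (iv F13018)) (tt N3419 (iv F10710)) (tt N2142 F9211) (tt N3451 (iv F10822)))
theorem Q2926 : ∀ i, i < 2926 → P i := stepQ 2925 Q2925 (allL N2925 (tt N1973 (iv D2988)) (tt N4119 (iv F12947)) (tt N2896 F9212) (tt N1980 F9213) (tt N2895 F9214) (tt N3165 (iv F9966)) (tt N4150 D4213) (tt N2900 F9215))
theorem Q2927 : ∀ i, i < 2927 → P i := stepQ 2926 Q2926 (allL N2926 (tt N4150 (iv F13035)) (tt N1975 F9216) (tt N2921 F9217) (tt N1983 F9218) (tt N2920 F9219) (tt N4151 D4214) (tt N1973 (iv D2989)) (tt N4152 D4215))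
theorem Q2928 : ∀ i, i < 2928 → P i := stepQ 2927 Q2927 (allL N2927 (tt N4123 (iv F12957)) (tt N2920 F9220) (tt N1976 F9221) (tt N3087 (iv F9704)) (tt N1975 F9222) (tt N2274 F9223) (tt N1974 (iv D2990)) (tt N4153 D4216))
theorem Q2929 : ∀ i, i < 2929 → P i := stepQ 2928 Q2928 (allL N2928 (tt N4124 (iv F12961)) (tt N1987 F9228) (tt N1977 F9224) (tt N1986 F9225) (tt N2274 F9226) (tt N1975 (iv D2991)) (tt N2121 F9227) (tt N1983 (iv F9229)))
theorem Q2930 : ∀ i, i < 2930 → P i := stepQ 2929 Q2929 (allL N2929 (tt N4125 (iv F12967)) (tt N4152 (iv F13044)) (tt N1978 F9230) (tt N4151 (iv F13041)) (tt N4153 (iv F13052)) (tt N1983 F9231) (tt N4146 (iv F13022)) (tt N1975 (iv D2992)))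
theorem Q2931 : ∀ i, i < 2931 → P i := stepQ 2930 Q2930 (allL N2930 (tt N4126 (iv F12970)) (tt N3980 (iv F12564)) (tt N4153 (iv F13050)) (tt N4154 D4217) (tt N1978 F9232) (tt N1996 F9233) (tt N4148 (iv F13032)) (tt N1976 (iv D2993)))
theorem Q2932 : ∀ i, i < 2932 → P i := stepQ 2931 Q2931 (allL N2931 (tt N1981 F9234) (tt N4127 (iv F12974)) (tt N1991 F9235) (tt N3068 (iv F9652)) (tt N1980 (iv D2994)) (tt N3083 (iv F9688)) (tt N4155 D4218) (tt N2115 F9236))
theorem Q2933 : ∀ i, i < 2933 → P i := stepQ 2932 Q2932 (allL N2932 (tt N1982 F9237) (tt N4156 D4219) (tt N1992 F9238) (tt N3165 (iv F9965)) (tt N3083 F9689) (tt N1980 (iv D2995)) (tt N4157 D4220) (tt N2116 F9239))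
theorem Q2934 : ∀ i, i < 2934 → P i := stepQ 2933 Q2933 (allL N2933 (tt N1983 F9240) (tt N4129 (iv F12979)) (tt N1993 F9241) (tt N4150 (iv F13037)) (tt N4155 (iv F13061)) (tt N4125 (iv F12969)) (tt N1980 (iv D2996)) (tt N4124 F12966))
theorem Q2935 : ∀ i, i < 2935 → P i := stepQ 2934 Q2934 (allL N2934 (tt N4155 (iv F13059)) (tt N1985 F9242) (tt N1996 F9243) (tt N3088 (iv F9708)) (tt N1983 F9244) (tt N4153 (iv F13053)) (tt N1981 (iv D2997)) (tt N2274 F9245))
theorem Q2936 : ∀ i, i < 2936 → P i := stepQ 2935 Q2935 (allL N2935 (tt N4157 (iv F13065)) (tt N2197 F9246) (tt N1997 F9247) (tt N3192 (iv F10043)) (tt N2937 (iv F9251)) (tt N4146 (iv F13021)) (tt N1982 (iv D2998)) (tt N3302 (iv F10349)))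
theorem Q2937 : ∀ i, i < 2937 → P i := stepQ 2936 Q2936 (allL N2936 (tt N4136 (iv F12992)) (tt N3088 (iv F9706)) (tt N2936 F9248) (tt N1985 F9249) (tt N3087 (iv F9705)) (tt N3195 (iv F10060)) (tt N1984 (iv D2999)) (tt N3317 (iv F10400)))
theorem Q2938 : ∀ i, i < 2938 → P i := stepQ 2937 Q2937 (allL N2937 (tt N4139 (iv F13000)) (tt N1986 (iv D3000)) (tt N2946 (iv F9276)) (tt N1987 F9250) (tt N2935 F9251) (tt N4152 (iv F13048)) (tt N2122 F9252) (tt N4151 (iv F13043)))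
theorem Q2939 : ∀ i, i < 2939 → P i := stepQ 2938 Q2938 (allL N2938 (tt N4138 (iv F12996)) (tt N4151 (iv F13039)) (tt N1988 F9253) (tt N4152 (iv F13046)) (tt N2275 F9254) (tt N1987 F9255) (tt N3318 (iv F10404)) (tt N1986 (iv D3001)))
theorem Q2940 : ∀ i, i < 2940 → P i := stepQ 2939 Q2939 (allL N2939 (tt N1990 F9256) (tt N3584 (iv F11254)) (tt N1989 (iv D3002)) (tt N4062 (iv F12788)) (tt N2939 F9257) (tt N2005 F9258) (tt N2199 F9259) (tt N2777 F9260))
theorem Q2941 : ∀ i, i < 2941 → P i := stepQ 2940 Q2940 (allL N2940 (tt N1994 F9261) (tt N3701 (iv F11591)) (tt N3014 (iv F9484)) (tt N1991 (iv D3003)) (tt N3064 (iv F9640)) (tt N3012 (iv F9478)) (tt N4158 D4221) (tt N2379 F9262))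
theorem Q2942 : ∀ i, i < 2942 → P i := stepQ 2941 Q2941 (allL N2941 (tt N1995 F9263) (tt N4159 D4222) (tt N3083 (iv F9687)) (tt N3012 (iv F9476)) (tt N1992 F9264) (tt N1991 (iv D3004)) (tt N4160 D4223) (tt N2123 F9265))
theorem Q2943 : ∀ i, i < 2943 → P i := stepQ 2942 Q2942 (allL N2942 (tt N1996 F9266) (tt N3703 (iv F11597)) (tt N4155 (iv F13060)) (tt N4158 (iv F13069)) (tt N1993 F9267) (tt N4126 (iv F12972)) (tt N1991 (iv D3005)) (tt N2365 F9268))
theorem Q2944 : ∀ i, i < 2944 → P i := stepQ 2943 Q2943 (allL N2943 (tt N2009 F9269) (tt N1992 (iv D3006)) (tt N4161 D4224) (tt N3989 (iv F12593)) (tt N4159 (iv F13072)) (tt N3704 (iv F11601)) (tt N4162 D4225) (tt N2124 F9270))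
theorem Q2945 : ∀ i, i < 2945 → P i := stepQ 2944 Q2944 (allL N2944 (tt N1997 F9271) (tt N4162 (iv F13081)) (tt N4157 (iv F13066)) (tt N3990 (iv F12596)) (tt N4160 (iv F13077)) (tt N4117 (iv F12944)) (tt N1992 (iv D3007)) (tt N4116 F12942))
theorem Q2946 : ∀ i, i < 2946 → P i := stepQ 2945 Q2945 (allL N2945 (tt N4158 (iv F13068)) (tt N1998 F9272) (tt N3023 (iv F9517)) (tt N1996 F9273) (tt N3084 (iv F9693)) (tt N4154 (iv F13056)) (tt N1994 (iv D3008)) (tt N2945 F9274))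
theorem Q2947 : ∀ i, i < 2947 → P i := stepQ 2946 Q2946 (allL N2946 (tt N4160 (iv F13074)) (tt N2014 F9275) (tt N2937 F9276) (tt N2854 F9277) (tt N1997 F9278) (tt N4148 (iv F13031)) (tt N1995 (iv D3009)) (tt N4147 (iv F13027)))
theorem Q2948 : ∀ i, i < 2948 → P i := stepQ 2947 Q2947 (allL N2947 (tt N3715 (iv F11636)) (tt N4163 D4226) (tt N2947 F9279) (tt N1999 F9280) (tt N2866 F9281) (tt N1998 (iv D3010)) (tt N2018 F9282) (tt N2947 F9283))
theorem Q2949 : ∀ i, i < 2949 → P i := stepQ 2948 Q2948 (allL N2948 (tt N4164 D4227) (tt N1999 (iv D3011)) (tt N2970 (iv F9346)) (tt N4163 (iv F13082)) (tt N2000 F9284) (tt N3980 (iv F12567)) (tt N2021 F9285) (tt N2366 F9286))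
theorem Q2950 : ∀ i, i < 2950 → P i := stepQ 2949 Q2949 (allL N2949 (tt N2000 (iv D3012)) (tt N3717 (iv F11649)) (tt N4165 D4228) (tt N2859 F9287) (tt N4164 (iv F13086)) (tt N3965 (iv F12519)) (tt N2022 F9288) (tt N3964 F12517))
theorem Q2951 : ∀ i, i < 2951 → P i := stepQ 2950 Q2950 (allL N2950 (tt N4165 (iv F13089)) (tt N2003 F9289) (tt N2000 (iv D3013)) (tt N4166 D4229) (tt N2970 (iv F9348)) (tt N3979 (iv F12563)) (tt N2023 F9290) (tt N3978 F12560))
theorem Q2952 : ∀ i, i < 2952 → P i := stepQ 2951 Q2951 (allL N2951 (tt N2003 F9291) (tt N4167 D4230) (tt N2002 (iv D3014)) (tt N4168 D4231) (tt N2964 (iv F9328)) (tt N2961 (iv F9321)) (tt N2024 F9292) (tt N4169 D4232))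
theorem Q2953 : ∀ i, i < 2953 → P i := stepQ 2952 Q2952 (allL N2952 (tt N2004 F9293) (tt N3721 (iv F11667)) (tt N4169 (iv F13099)) (tt N2783 F9294) (tt N2367 F9295) (tt N3207 (iv F10106)) (tt N2952 F9296) (tt N2002 (iv D3015)))
theorem Q2954 : ∀ i, i < 2954 → P i := stepQ 2953 Q2953 (allL N2953 (tt N4168 (iv F13095)) (tt N4166 (iv F13091)) (tt N2006 F9297) (tt N2003 (iv D3016)) (tt N4077 (iv F12841)) (tt N2967 (iv F9338)) (tt N2025 F9298) (tt N4052 (iv F12762)))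
theorem Q2955 : ∀ i, i < 2955 → P i := stepQ 2954 Q2954 (allL N2954 (tt N4169 (iv F13098)) (tt N3978 (iv F12559)) (tt N2004 F9299) (tt N3985 (iv F12582)) (tt N2368 F9300) (tt N2969 (iv F9344)) (tt N2954 F9301) (tt N2003 (iv D3017)))
theorem Q2956 : ∀ i, i < 2956 → P i := stepQ 2955 Q2955 (allL N2955 (tt N2823 F9302) (tt N2005 (iv D3018)) (tt N3724 (iv F11679)) (tt N4170 D4233) (tt N2955 F9303) (tt N3578 (iv F11238)) (tt N2026 F9304) (tt N2770 F9305))
theorem Q2957 : ∀ i, i < 2957 → P i := stepQ 2956 Q2956 (allL N2956 (tt N2006 F9306) (tt N4170 (iv F13103)) (tt N4168 (iv F13096)) (tt N2005 (iv D3019)) (tt N4171 D4234) (tt N4062 (iv F12790)) (tt N2027 F9307) (tt N4061 F12786))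
theorem Q2958 : ∀ i, i < 2958 → P i := stepQ 2957 Q2957 (allL N2957 (tt N4171 (iv F13105)) (tt N2846 F9308) (tt N4077 (iv F12839)) (tt N2957 F9309) (tt N2006 (iv D3020)) (tt N2360 F9310) (tt N2028 F9311) (tt N4067 (iv F12808)))
theorem Q2959 : ∀ i, i < 2959 → P i := stepQ 2958 Q2958 (allL N2958 (tt N2012 F9312) (tt N4172 D4235) (tt N3028 (iv F9534)) (tt N2008 F9313) (tt N3295 (iv F10325)) (tt N2007 (iv D3021)) (tt N4173 D4236) (tt N3020 F9508))
theorem Q2960 : ∀ i, i < 2960 → P i := stepQ 2959 Q2959 (allL N2959 (tt N2013 F9314) (tt N3729 (iv F11699)) (tt N3027 (iv F9529)) (tt N2132 F9315) (tt N3349 (iv F10497)) (tt N3020 F9507) (tt N4174 D4237) (tt N2007 (iv D3022)))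
theorem Q2961 : ∀ i, i < 2961 → P i := stepQ 2960 Q2960 (allL N2960 (tt N4159 (iv F13071)) (tt N2008 (iv D3023)) (tt N4175 D4238) (tt N4172 (iv F13109)) (tt N2009 F9316) (tt N3730 (iv F11702)) (tt N4176 D4239) (tt N2133 F9317))
theorem Q2962 : ∀ i, i < 2962 → P i := stepQ 2961 Q2961 (allL N2961 (tt N2014 F9318) (tt N4176 (iv F13120)) (tt N2206 F9319) (tt N4173 (iv F13112)) (tt N2010 F9320) (tt N2951 F9321) (tt N2008 (iv D3024)) (tt N4177 D4240))
theorem Q2963 : ∀ i, i < 2963 → P i := stepQ 2962 Q2962 (allL N2962 (tt N4161 (iv F13078)) (tt N2207 F9322) (tt N2009 (iv D3025)) (tt N4178 D4241) (tt N4175 (iv F13118)) (tt N3732 (iv F11708)) (tt N4179 D4242) (tt N2135 F9323))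
theorem Q2964 : ∀ i, i < 2964 → P i := stepQ 2963 Q2963 (allL N2963 (tt N4162 (iv F13080)) (tt N2010 F9324) (tt N4179 (iv F13129)) (tt N3998 (iv F12621)) (tt N4176 (iv F13121)) (tt N4180 D4243) (tt N2009 (iv D3026)) (tt N4181 D4244))
theorem Q2965 : ∀ i, i < 2965 → P i := stepQ 2964 Q2964 (allL N2964 (tt N2015 F9325) (tt N4182 D4245) (tt N2209 F9326) (tt N2871 F9327) (tt N2951 F9328) (tt N2010 (iv D3027)) (tt N2011 F9329) (tt N3418 (iv F10707)))
theorem Q2966 : ∀ i, i < 2966 → P i := stepQ 2965 Q2965 (allL N2965 (tt N2016 F9330) (tt N4181 (iv F13130)) (tt N2210 F9331) (tt N4149 (iv F13033)) (tt N4177 (iv F13124)) (tt N3418 (iv F10705)) (tt N2137 F9332) (tt N2010 (iv D3028)))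
theorem Q2967 : ∀ i, i < 2967 → P i := stepQ 2966 Q2966 (allL N2966 (tt N4183 D4246) (tt N2011 (iv D3029)) (tt N4184 D4247) (tt N2870 F9333) (tt N2977 (iv F9370)) (tt N3736 (iv F11719)) (tt N4182 (iv F13134)) (tt N2966 F9334))
theorem Q2968 : ∀ i, i < 2968 → P i := stepQ 2967 Q2967 (allL N2967 (tt N4173 (iv F13110)) (tt N2854 F9335) (tt N2865 F9336) (tt N2014 F9337) (tt N3296 (iv F10331)) (tt N2953 F9338) (tt N2012 (iv D3030)) (tt N2850 F9339))
theorem Q2969 : ∀ i, i < 2969 → P i := stepQ 2968 Q2968 (allL N2968 (tt N4174 (iv F13115)) (tt N2020 F9340) (tt N3030 (iv F9543)) (tt N2140 F9341) (tt N3350 (iv F10502)) (tt N3022 (iv F9515)) (tt N2013 (iv D3031)) (tt N3217 (iv F10136)))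
theorem Q2970 : ∀ i, i < 2970 → P i := stepQ 2969 Q2969 (allL N2969 (tt N4177 (iv F13122)) (tt N4147 (iv F13023)) (tt N2212 F9342) (tt N4185 D4248) (tt N2016 F9343) (tt N2954 F9344) (tt N2141 F9345) (tt N2014 (iv D3032)))
theorem Q2971 : ∀ i, i < 2971 → P i := stepQ 2970 Q2970 (allL N2970 (tt N4186 D4249) (tt N2015 (iv D3033)) (tt N2948 F9346) (tt N2863 F9347) (tt N2950 F9348) (tt N3977 (iv F12553)) (tt N2017 F9349) (tt N3417 (iv F10702)))
theorem Q2972 : ∀ i, i < 2972 → P i := stepQ 2971 Q2971 (allL N2971 (tt N2017 (iv D3034)) (tt N4183 (iv F13135)) (tt N2974 (iv F9360)) (tt N2858 F9350) (tt N2975 (iv F9364)) (tt N2022 F9351) (tt N4186 (iv F13148)) (tt N2971 F9352))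
theorem Q2973 : ∀ i, i < 2973 → P i := stepQ 2972 Q2972 (allL N2972 (tt N4187 D4250) (tt N2018 (iv D3035)) (tt N4041 (iv F12731)) (tt N2021 F9353) (tt N2860 F9354) (tt N2976 (iv F9369)) (tt N4163 (iv F13084)) (tt N3497 (iv F10961)))
theorem Q2974 : ∀ i, i < 2974 → P i := stepQ 2973 Q2973 (allL N2973 (tt N3747 (iv F11766)) (tt N3217 (iv F10133)) (tt N2973 F9355) (tt N2973 F9356) (tt N2876 F9357) (tt N2973 F9358) (tt N2019 (iv D3036)) (tt N2020 F9359))
theorem Q2975 : ∀ i, i < 2975 → P i := stepQ 2974 Q2974 (allL N2974 (tt N2021 (iv D3037)) (tt N3748 (iv F11773)) (tt N2971 F9360) (tt N4187 (iv F13150)) (tt N2022 F9361) (tt N2975 (iv F9365)) (tt N4164 (iv F13087)) (tt N2974 F9362))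
theorem Q2976 : ∀ i, i < 2976 → P i := stepQ 2975 Q2975 (allL N2975 (tt N2023 F9363) (tt N4188 D4251) (tt N2022 (iv D3038)) (tt N4189 D4252) (tt N2971 F9364) (tt N2974 F9365) (tt N4165 (iv F13090)) (tt N2975 F9366))
theorem Q2977 : ∀ i, i < 2977 → P i := stepQ 2976 Q2976 (allL N2976 (tt N4189 (iv F13156)) (tt N2025 F9367) (tt N2843 F9368) (tt N2023 (iv D3039)) (tt N4064 (iv F12799)) (tt N2972 F9369) (tt N4166 (iv F13093)) (tt N4190 D4253))
theorem Q2978 : ∀ i, i < 2978 → P i := stepQ 2977 Q2977 (allL N2977 (tt N4188 (iv F13153)) (tt N2024 (iv D3040)) (tt N3750 (iv F11783)) (tt N4191 D4254) (tt N2966 F9370) (tt N4192 D4255) (tt N4167 (iv F13094)) (tt N2977 F9371))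
theorem Q2979 : ∀ i, i < 2979 → P i := stepQ 2978 Q2978 (allL N2978 (tt N2025 F9372) (tt N4191 (iv F13164)) (tt N2027 F9373) (tt N2024 (iv D3041)) (tt N4070 (iv F12820)) (tt N2214 F9374) (tt N4168 (iv F13097)) (tt N4193 D4256))
theorem Q2980 : ∀ i, i < 2980 → P i := stepQ 2979 Q2979 (allL N2979 (tt N4193 (iv F13168)) (tt N4190 (iv F13159)) (tt N2029 F9375) (tt N2979 F9376) (tt N4078 (iv F12846)) (tt N2215 F9377) (tt N4194 D4257) (tt N2025 (iv D3042)))
theorem Q2981 : ∀ i, i < 2981 → P i := stepQ 2980 Q2980 (allL N2980 (tt N2822 F9378) (tt N2027 F9379) (tt N4195 D4258) (tt N2026 (iv D3043)) (tt N4196 D4259) (tt N4197 D4260) (tt N4170 (iv F13104)) (tt N4198 D4261))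
theorem Q2982 : ∀ i, i < 2982 → P i := stepQ 2981 Q2981 (allL N2981 (tt N2821 F9380) (tt N2217 F9381) (tt N3753 (iv F11792)) (tt N4197 (iv F13180)) (tt N2981 F9382) (tt N2026 (iv D3044)) (tt N3576 (iv F11233)) (tt N2031 F9383))
theorem Q2983 : ∀ i, i < 2983 → P i := stepQ 2982 Q2982 (allL N2982 (tt N2028 F9384) (tt N4196 (iv F13176)) (tt N4070 (iv F12818)) (tt N2982 F9385) (tt N2027 (iv D3045)) (tt N2218 F9386) (tt N4171 (iv F13108)) (tt N4199 D4262))
theorem Q2984 : ∀ i, i < 2984 → P i := stepQ 2983 Q2983 (allL N2983 (tt N2029 F9387) (tt N4198 (iv F13182)) (tt N4193 (iv F13169)) (tt N2033 F9388) (tt N4199 (iv F13185)) (tt N2219 F9389) (tt N4200 D4263) (tt N2027 (iv D3046)))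
theorem Q2985 : ∀ i, i < 2985 → P i := stepQ 2984 Q2984 (allL N2984 (tt N4199 (iv F13184)) (tt N2841 F9390) (tt N4078 (iv F12844)) (tt N4201 D4264) (tt N2029 F9391) (tt N2220 F9392) (tt N4202 D4265) (tt N2028 (iv D3047)))
theorem Q2986 : ∀ i, i < 2986 → P i := stepQ 2985 Q2985 (allL N2985 (tt N4200 (iv F13187)) (tt N2842 F9393) (tt N4194 (iv F13172)) (tt N2035 F9394) (tt N4202 (iv F13194)) (tt N4069 (iv F12815)) (tt N2029 (iv D3048)) (tt N4068 F12812))
theorem Q2987 : ∀ i, i < 2987 → P i := stepQ 2986 Q2986 (allL N2986 (tt N2816 F9395) (tt N2986 F9396) (tt N2030 (iv D3049)) (tt N3757 (iv F11811)) (tt N4203 D4266) (tt N4204 D4267) (tt N2763 F9397) (tt N4205 D4268))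
theorem Q2988 : ∀ i, i < 2988 → P i := stepQ 2987 Q2987 (allL N2987 (tt N2817 F9398) (tt N2032 F9399) (tt N4203 (iv F13197)) (tt N2987 F9400) (tt N2030 (iv D3050)) (tt N4206 D4269) (tt N2764 F9401) (tt N4207 D4270))
theorem Q2989 : ∀ i, i < 2989 → P i := stepQ 2988 Q2988 (allL N2988 (tt N2818 F9402) (tt N2224 F9403) (tt N4204 (iv F13200)) (tt N2031 F9404) (tt N4206 (iv F13207)) (tt N2030 (iv D3051)) (tt N4208 D4271) (tt N4209 D4272))
theorem Q2990 : ∀ i, i < 2990 → P i := stepQ 2989 Q2989 (allL N2989 (tt N2819 F9405) (tt N2033 F9406) (tt N4205 (iv F13203)) (tt N4198 (iv F13183)) (tt N4207 (iv F13210)) (tt N4209 (iv F13217)) (tt N4210 D4273) (tt N2030 (iv D3052)))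
theorem Q2991 : ∀ i, i < 2991 → P i := stepQ 2990 Q2990 (allL N2990 (tt N2820 F9407) (tt N2226 F9408) (tt N3760 (iv F11820)) (tt N4208 (iv F13213)) (tt N2990 F9409) (tt N2767 F9410) (tt N2031 (iv D3053)) (tt N3575 F11228))
theorem Q2992 : ∀ i, i < 2992 → P i := stepQ 2991 Q2991 (allL N2991 (tt N2034 F9411) (tt N4207 (iv F13209)) (tt N2991 F9412) (tt N4211 D4274) (tt N2033 F9413) (tt N2227 F9414) (tt N4212 D4275) (tt N2032 (iv D3054)))
theorem Q2993 : ∀ i, i < 2993 → P i := stepQ 2992 Q2992 (allL N2992 (tt N2035 F9415) (tt N4210 (iv F13219)) (tt N2992 F9416) (tt N4200 (iv F13188)) (tt N4212 (iv F13226)) (tt N4213 D4276) (tt N2033 (iv D3055)) (tt N2773 F9417))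
theorem Q2994 : ∀ i, i < 2994 → P i := stepQ 2993 Q2993 (allL N2993 (tt N4211 (iv F13221)) (tt N2838 F9418) (tt N4214 D4277) (tt N2034 (iv D3056)) (tt N4201 (iv F13190)) (tt N2229 F9419) (tt N4215 D4278) (tt N2993 F9420))
theorem Q2995 : ∀ i, i < 2995 → P i := stepQ 2994 Q2994 (allL N2994 (tt N4212 (iv F13224)) (tt N2839 F9421) (tt N2994 F9422) (tt N4215 (iv F13237)) (tt N2035 F9423) (tt N4216 D4279) (tt N2034 (iv D3057)) (tt N2785 F9424))
theorem Q2996 : ∀ i, i < 2996 → P i := stepQ 2995 Q2995 (allL N2995 (tt N4213 (iv F13228)) (tt N4081 (iv F12857)) (tt N2995 F9425) (tt N4069 (iv F12814)) (tt N4216 (iv F13239)) (tt N2035 (iv D3058)) (tt N2231 F9426) (tt N2787 F9427))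
theorem Q2997 : ∀ i, i < 2997 → P i := stepQ 2996 Q2996 (allL N2996 (tt N2996 F9428) (tt N4001 (iv F12628)) (tt N2037 F9429) (tt N3849 (iv F12112)) (tt N2036 (iv D3059)) (tt N3848 F12109) (tt N2080 F9430) (tt N4217 D4280))
theorem Q2998 : ∀ i, i < 2998 → P i := stepQ 2997 Q2997 (allL N2997 (tt N2997 F9431) (tt N4082 (iv F12862)) (tt N2038 F9432) (tt N2080 F9433) (tt N3848 (iv F12107)) (tt N2036 (iv D3060)) (tt N3849 (iv F12114)) (tt N4218 D4281))
theorem Q2999 : ∀ i, i < 2999 → P i := stepQ 2998 Q2998 (allL N2998 (tt N2998 F9434) (tt N4003 (iv F12632)) (tt N2039 F9435) (tt N4219 D4282) (tt N4217 (iv F13244)) (tt N4218 (iv F13247)) (tt N4220 D4283) (tt N2036 (iv D3061)))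
theorem Q3000 : ∀ i, i < 3000 → P i := stepQ 2999 Q2999 (allL N2999 (tt N2999 F9436) (tt N2043 F9437) (tt N4217 (iv F13243)) (tt N2999 F9438) (tt N2039 F9439) (tt N3857 (iv F12141)) (tt N4221 D4284) (tt N2037 (iv D3062)))
theorem Q3001 : ∀ i, i < 3001 → P i := stepQ 3000 Q3000 (allL N3000 (tt N3000 F9440) (tt N3000 F9441) (tt N4218 (iv F13246)) (tt N4222 D4285) (tt N3857 (iv F12140)) (tt N2039 F9442) (tt N4223 D4286) (tt N2038 (iv D3063)))
theorem Q3002 : ∀ i, i < 3002 → P i := stepQ 3001 Q3001 (allL N3001 (tt N3001 F9443) (tt N2044 F9444) (tt N4224 D4287) (tt N2039 (iv D3064)) (tt N3001 F9445) (tt N4222 (iv F13260)) (tt N3446 (iv F10802)) (tt N2041 F9446))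
theorem Q3003 : ∀ i, i < 3003 → P i := stepQ 3002 Q3002 (allL N3002 (tt N3002 F9447) (tt N2045 F9448) (tt N4220 (iv F13250)) (tt N3446 (iv F10800)) (tt N4221 (iv F13255)) (tt N4225 D4288) (tt N2039 (iv D3065)) (tt N2086 F9449))
theorem Q3004 : ∀ i, i < 3004 → P i := stepQ 3003 Q3003 (allL N3003 (tt N3003 F9450) (tt N3003 F9451) (tt N4226 D4289) (tt N2040 (iv D3066)) (tt N3003 F9452) (tt N2041 F9453) (tt N3003 F9454) (tt N4222 (iv F13261)))
theorem Q3005 : ∀ i, i < 3005 → P i := stepQ 3004 Q3004 (allL N3004 (tt N3004 F9455) (tt N4227 D4290) (tt N2041 (iv D3067)) (tt N3793 (iv F11939)) (tt N3004 F9456) (tt N4226 (iv F13272)) (tt N3450 F10818) (tt N4224 (iv F13266)))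
theorem Q3006 : ∀ i, i < 3006 → P i := stepQ 3005 Q3005 (allL N3005 (tt N2053 F9457) (tt N4221 (iv F13253)) (tt N4015 (iv F12659)) (tt N3005 F9458) (tt N2045 F9459) (tt N3448 (iv F10809)) (tt N2043 (iv D3068)) (tt N2092 F9460))
theorem Q3007 : ∀ i, i < 3007 → P i := stepQ 3006 Q3006 (allL N3006 (tt N2054 F9461) (tt N4228 D4291) (tt N2044 (iv D3069)) (tt N4016 (iv F12663)) (tt N3006 F9462) (tt N3006 F9463) (tt N3431 (iv F10750)) (tt N2046 F9464))
theorem Q3008 : ∀ i, i < 3008 → P i := stepQ 3007 Q3007 (allL N3007 (tt N4229 D4292) (tt N2046 (iv D3070)) (tt N4227 (iv F13274)) (tt N2047 F9465) (tt N3007 F9466) (tt N4230 D4293) (tt N3434 F10758) (tt N4228 (iv F13277)))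
theorem Q3009 : ∀ i, i < 3009 → P i := stepQ 3008 Q3008 (allL N3008 (tt N2047 (iv D3071)) (tt N2056 F9467) (tt N3804 (iv F11973)) (tt N4229 (iv F13279)) (tt N4231 D4294) (tt N4232 D4295) (tt N4233 D4296) (tt N4023 (iv F12682)))
theorem Q3010 : ∀ i, i < 3010 → P i := stepQ 3009 Q3009 (allL N3009 (tt N4231 (iv F13284)) (tt N2048 F9468) (tt N3805 (iv F11975)) (tt N3009 F9469) (tt N2047 (iv D3072)) (tt N4234 D4297) (tt N2311 (iv F9470)) (tt N4024 (iv F12684)))
theorem Q3011 : ∀ i, i < 3011 → P i := stepQ 3010 Q3010 (allL N3010 (tt N4232 (iv F13288)) (tt N3010 F9471) (tt N3806 (iv F11977)) (tt N4230 (iv F13282)) (tt N4234 (iv F13295)) (tt N2047 (iv D3073)) (tt N4235 D4298) (tt N4025 (iv F12686)))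
theorem Q3012 : ∀ i, i < 3012 → P i := stepQ 3011 Q3011 (allL N3011 (tt N4233 (iv F13289)) (tt N2049 F9472) (tt N3807 (iv F11979)) (tt N3434 F10757) (tt N2311 F9473) (tt N4236 D4299) (tt N2047 (iv D3074)) (tt N4237 D4300))
theorem Q3013 : ∀ i, i < 3013 → P i := stepQ 3012 Q3012 (allL N3012 (tt N2060 F9474) (tt N4237 (iv F13299)) (tt N2051 F9475) (tt N2941 F9476) (tt N2246 F9477) (tt N2940 F9478) (tt N4030 (iv F12702)) (tt N2049 (iv D3075)))
theorem Q3014 : ∀ i, i < 3014 → P i := stepQ 3013 Q3013 (allL N3013 (tt N3013 F9479) (tt N2050 (iv D3076)) (tt N4238 D4301) (tt N2052 F9480) (tt N2145 F9481) (tt N3794 (iv F11944)) (tt N3013 F9482) (tt N4239 D4302))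
theorem Q3015 : ∀ i, i < 3015 → P i := stepQ 3014 Q3014 (allL N3014 (tt N2061 F9483) (tt N4239 (iv F13307)) (tt N2940 F9484) (tt N2094 F9485) (tt N2091 F9486) (tt N2051 F9487) (tt N4240 D4303) (tt N2050 (iv D3077)))
theorem Q3016 : ∀ i, i < 3016 → P i := stepQ 3015 Q3015 (allL N3015 (tt N4241 D4304) (tt N2054 (iv D3078)) (tt N3015 F9488) (tt N4036 (iv F12721)) (tt N3015 F9489) (tt N4242 D4305) (tt N3120 (iv F9817)) (tt N2055 F9490))
theorem Q3017 : ∀ i, i < 3017 → P i := stepQ 3016 Q3016 (allL N3016 (tt N2055 (iv D3079)) (tt N4229 (iv F13278)) (tt N3016 F9491) (tt N2056 F9492) (tt N3016 F9493) (tt N4243 D4306) (tt N3110 F9790) (tt N4241 (iv F13317)))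
theorem Q3018 : ∀ i, i < 3018 → P i := stepQ 3017 Q3017 (allL N3017 (tt N4243 (iv F13323)) (tt N3017 F9494) (tt N3017 F9495) (tt N2058 F9496) (tt N3017 F9497) (tt N2055 (iv D3080)) (tt N3121 (iv F9822)) (tt N4242 (iv F13322)))
theorem Q3019 : ∀ i, i < 3019 → P i := stepQ 3018 Q3018 (allL N3018 (tt N2057 F9498) (tt N4231 (iv F13285)) (tt N2062 F9499) (tt N3018 F9500) (tt N2056 (iv D3081)) (tt N4244 D4307) (tt N2312 (iv F9501)) (tt N4045 (iv F12743)))
theorem Q3020 : ∀ i, i < 3020 → P i := stepQ 3019 Q3019 (allL N3019 (tt N2058 F9502) (tt N4245 D4308) (tt N2063 F9503) (tt N4243 (iv F13325)) (tt N4244 (iv F13330)) (tt N2056 (iv D3082)) (tt N4246 D4309) (tt N4046 (iv F12746)))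
theorem Q3021 : ∀ i, i < 3021 → P i := stepQ 3020 Q3020 (allL N3020 (tt N2059 F9504) (tt N4233 (iv F13290)) (tt N2064 F9505) (tt N3110 (iv F9787)) (tt N2312 F9506) (tt N2959 (iv F9507)) (tt N2056 (iv D3083)) (tt N2958 (iv F9508)))
theorem Q3022 : ∀ i, i < 3022 → P i := stepQ 3021 Q3021 (allL N3021 (tt N4244 (iv F13327)) (tt N3021 F9509) (tt N2065 F9510) (tt N3021 F9511) (tt N2058 F9512) (tt N2057 (iv D3084)) (tt N4247 D4310) (tt N4049 (iv F12754)))
theorem Q3023 : ∀ i, i < 3023 → P i := stepQ 3022 Q3022 (allL N3022 (tt N4246 (iv F13332)) (tt N3022 F9513) (tt N2066 F9514) (tt N3121 (iv F9820)) (tt N4247 (iv F13338)) (tt N2968 F9515) (tt N2058 (iv D3085)) (tt N4248 D4311))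
theorem Q3024 : ∀ i, i < 3024 → P i := stepQ 3023 Q3023 (allL N3023 (tt N4240 (iv F13310)) (tt N3023 F9516) (tt N2945 F9517) (tt N2111 F9518) (tt N2106 F9519) (tt N3328 (iv F10440)) (tt N2061 (iv D3086)) (tt N3023 F9520))
theorem Q3025 : ∀ i, i < 3025 → P i := stepQ 3024 Q3024 (allL N3024 (tt N2065 F9521) (tt N4249 D4312) (tt N4244 (iv F13328)) (tt N2421 F9522) (tt N2063 F9523) (tt N2062 (iv D3087)) (tt N4250 D4313) (tt N4057 (iv F12777)))
theorem Q3026 : ∀ i, i < 3026 → P i := stepQ 3025 Q3025 (allL N3025 (tt N2072 F9524) (tt N2063 (iv D3088)) (tt N4251 D4314) (tt N3025 F9525) (tt N4249 (iv F13346)) (tt N3830 (iv F12050)) (tt N4252 D4315) (tt N4059 (iv F12782)))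
theorem Q3027 : ∀ i, i < 3027 → P i := stepQ 3026 Q3026 (allL N3026 (tt N2066 F9526) (tt N4252 (iv F13353)) (tt N4246 (iv F13333)) (tt N3026 F9527) (tt N4250 (iv F13349)) (tt N4253 D4316) (tt N2063 (iv D3089)) (tt N4254 D4317))
theorem Q3028 : ∀ i, i < 3028 → P i := stepQ 3027 Q3027 (allL N3027 (tt N2067 F9528) (tt N4255 D4318) (tt N2959 F9529) (tt N3027 F9530) (tt N2407 F9531) (tt N2064 (iv D3090)) (tt N4253 (iv F13359)) (tt N2203 (iv F9532)))
theorem Q3029 : ∀ i, i < 3029 → P i := stepQ 3028 Q3028 (allL N3028 (tt N2068 F9533) (tt N3833 (iv F12057)) (tt N2958 F9534) (tt N2199 (iv F9537)) (tt N2359 F9535) (tt N2203 F9536) (tt N4062 (iv F12791)) (tt N2064 (iv D3091)))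
theorem Q3030 : ∀ i, i < 3030 → P i := stepQ 3029 Q3029 (allL N3029 (tt N4250 (iv F13347)) (tt N2077 F9538) (tt N4247 (iv F13336)) (tt N2423 F9539) (tt N2066 F9540) (tt N2408 F9541) (tt N2065 (iv D3092)) (tt N4256 D4319))
theorem Q3031 : ∀ i, i < 3031 → P i := stepQ 3030 Q3030 (allL N3030 (tt N4253 (iv F13355)) (tt N3030 F9542) (tt N2968 F9543) (tt N3030 F9544) (tt N2408 F9545) (tt N2066 (iv D3093)) (tt N2067 F9546) (tt N2221 (iv F9547)))
theorem Q3032 : ∀ i, i < 3032 → P i := stepQ 3031 Q3031 (allL N3031 (tt N4254 (iv F13361)) (tt N2078 F9548) (tt N4248 (iv F13341)) (tt N2231 (iv F9550)) (tt N4256 (iv F13369)) (tt N2221 F9549) (tt N4069 (iv F12816)) (tt N2066 (iv D3094)))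
theorem Q3033 : ∀ i, i < 3033 → P i := stepQ 3032 Q3032 (allL N3032 (tt N2074 F9551) (tt N3032 F9552) (tt N2070 (iv D3095)) (tt N3032 F9553) (tt N3032 F9554) (tt N4257 D4320) (tt N3032 F9555) (tt N4258 D4321))
theorem Q3034 : ∀ i, i < 3034 → P i := stepQ 3033 Q3033 (allL N3033 (tt N2075 F9556) (tt N4259 D4322) (tt N4257 (iv F13372)) (tt N2071 F9557) (tt N3033 F9558) (tt N2070 (iv D3096)) (tt N4260 D4323) (tt N4261 D4324))
theorem Q3035 : ∀ i, i < 3035 → P i := stepQ 3034 Q3034 (allL N3034 (tt N2076 F9559) (tt N3838 (iv F12077)) (tt N4258 (iv F13377)) (tt N4071 (iv F12824)) (tt N3034 F9560) (tt N4261 (iv F13388)) (tt N4262 D4325) (tt N2070 (iv D3097)))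
theorem Q3036 : ∀ i, i < 3036 → P i := stepQ 3035 Q3035 (allL N3035 (tt N4249 (iv F13344)) (tt N2071 (iv D3098)) (tt N4263 D4326) (tt N4259 (iv F13380)) (tt N2072 F9561) (tt N3839 (iv F12081)) (tt N4264 D4327) (tt N4072 (iv F12827)))
theorem Q3037 : ∀ i, i < 3037 → P i := stepQ 3036 Q3036 (allL N3036 (tt N2077 F9562) (tt N4264 (iv F13394)) (tt N3036 F9563) (tt N4260 (iv F13383)) (tt N2073 F9564) (tt N3036 F9565) (tt N2071 (iv D3099)) (tt N4265 D4328))
theorem Q3038 : ∀ i, i < 3038 → P i := stepQ 3037 Q3037 (allL N3037 (tt N4251 (iv F13351)) (tt N3037 F9566) (tt N2072 (iv D3100)) (tt N4266 D4329) (tt N4263 (iv F13393)) (tt N3841 (iv F12085)) (tt N4267 D4330) (tt N4074 (iv F12833)))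
theorem Q3039 : ∀ i, i < 3039 → P i := stepQ 3038 Q3038 (allL N3038 (tt N4252 (iv F13352)) (tt N2073 F9567) (tt N4267 (iv F13403)) (tt N3038 F9568) (tt N4264 (iv F13395)) (tt N4268 D4331) (tt N2072 (iv D3101)) (tt N4269 D4332))
theorem Q3040 : ∀ i, i < 3040 → P i := stepQ 3039 Q3039 (allL N3039 (tt N2078 F9569) (tt N4269 (iv F13406)) (tt N3039 F9570) (tt N4270 D4333) (tt N4265 (iv F13398)) (tt N3039 F9571) (tt N4076 (iv F12838)) (tt N2073 (iv D3102)))
theorem Q3041 : ∀ i, i < 3041 → P i := stepQ 3040 Q3040 (allL N3040 (tt N4257 (iv F13371)) (tt N3040 F9572) (tt N2075 F9573) (tt N3040 F9574) (tt N3040 F9575) (tt N2074 (iv D3103)) (tt N4271 D4334) (tt N4272 D4335))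
theorem Q3042 : ∀ i, i < 3042 → P i := stepQ 3041 Q3041 (allL N3041 (tt N4258 (iv F13375)) (tt N2143 F9576) (tt N2076 F9577) (tt N4273 D4336) (tt N3041 F9578) (tt N4272 (iv F13418)) (tt N4274 D4337) (tt N2074 (iv D3104)))
theorem Q3043 : ∀ i, i < 3043 → P i := stepQ 3042 Q3042 (allL N3042 (tt N4260 (iv F13382)) (tt N2423 F9579) (tt N4271 (iv F13411)) (tt N2077 F9580) (tt N3042 F9581) (tt N3042 F9582) (tt N2075 (iv D3105)) (tt N4275 D4338))
theorem Q3044 : ∀ i, i < 3044 → P i := stepQ 3043 Q3043 (allL N3043 (tt N4261 (iv F13386)) (tt N2425 F9583) (tt N4272 (iv F13416)) (tt N4078 (iv F12845)) (tt N3043 F9584) (tt N2076 F9585) (tt N4276 D4339) (tt N2075 (iv D3106)))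
theorem Q3045 : ∀ i, i < 3045 → P i := stepQ 3044 Q3044 (allL N3044 (tt N4262 (iv F13389)) (tt N2079 F9586) (tt N4274 (iv F13424)) (tt N4079 (iv F12850)) (tt N3044 F9587) (tt N4277 D4340) (tt N2076 (iv D3107)) (tt N3044 F9588))
theorem Q3046 : ∀ i, i < 3046 → P i := stepQ 3045 Q3045 (allL N3045 (tt N4265 (iv F13396)) (tt N4256 (iv F13368)) (tt N3045 F9589) (tt N4278 D4341) (tt N2078 F9590) (tt N3045 F9591) (tt N4080 (iv F12856)) (tt N2077 (iv D3108)))
theorem Q3047 : ∀ i, i < 3047 → P i := stepQ 3046 Q3046 (allL N3046 (tt N4270 (iv F13407)) (tt N2231 F9592) (tt N4279 D4342) (tt N2078 (iv D3109)) (tt N4280 D4343) (tt N3046 F9593) (tt N4081 (iv F12859)) (tt N3046 F9594))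
theorem Q3048 : ∀ i, i < 3048 → P i := stepQ 3047 Q3047 (allL N3047 (tt N3047 F9595) (tt N4084 (iv F12866)) (tt N2083 F9596) (tt N4281 D4344) (tt N2082 F9597) (tt N3790 (iv F11929)) (tt N4282 D4345) (tt N2080 (iv D3110)))
theorem Q3049 : ∀ i, i < 3049 → P i := stepQ 3048 Q3048 (allL N3048 (tt N4283 D4346) (tt N2081 (iv D3111)) (tt N2233 F9598) (tt N3851 (iv F12119)) (tt N3572 (iv F11217)) (tt N4085 (iv F12870)) (tt N3625 (iv F11384)) (tt N4284 D4347))
theorem Q3050 : ∀ i, i < 3050 → P i := stepQ 3049 Q3049 (allL N3049 (tt N3049 F9599) (tt N4284 (iv F13451)) (tt N2084 F9600) (tt N4285 D4348) (tt N3790 (iv F11928)) (tt N2082 F9601) (tt N4286 D4349) (tt N2081 (iv D3112)))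
theorem Q3051 : ∀ i, i < 3051 → P i := stepQ 3050 Q3050 (allL N3050 (tt N3050 F9602) (tt N4088 (iv F12874)) (tt N4287 D4350) (tt N2082 (iv D3113)) (tt N4288 D4351) (tt N4285 (iv F13454)) (tt N4289 D4352) (tt N3853 (iv F12124)))
theorem Q3052 : ∀ i, i < 3052 → P i := stepQ 3051 Q3051 (allL N3051 (tt N3051 F9603) (tt N4089 (iv F12875)) (tt N2086 F9604) (tt N4289 (iv F13461)) (tt N4282 (iv F13447)) (tt N4290 D4353) (tt N2082 (iv D3114)) (tt N4220 (iv F13251)))
theorem Q3053 : ∀ i, i < 3053 → P i := stepQ 3052 Q3052 (allL N3052 (tt N3052 F9605) (tt N2091 F9606) (tt N4291 D4354) (tt N2083 (iv D3115)) (tt N4239 (iv F13309)) (tt N3791 (iv F11932)) (tt N4292 D4355) (tt N2145 F9607))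
theorem Q3054 : ∀ i, i < 3054 → P i := stepQ 3053 Q3053 (allL N3053 (tt N3053 F9608) (tt N2092 F9609) (tt N4282 (iv F13446)) (tt N4292 (iv F13468)) (tt N2086 F9610) (tt N4293 D4356) (tt N2083 (iv D3116)) (tt N4221 (iv F13256)))
theorem Q3055 : ∀ i, i < 3055 → P i := stepQ 3054 Q3054 (allL N3054 (tt N3054 F9611) (tt N2239 F9612) (tt N4294 D4357) (tt N2084 (iv D3117)) (tt N3886 (iv F12239)) (tt N2085 F9613) (tt N4295 D4358) (tt N2087 F9614))
theorem Q3056 : ∀ i, i < 3056 → P i := stepQ 3055 Q3055 (allL N3055 (tt N3055 F9615) (tt N2240 F9616) (tt N4286 (iv F13456)) (tt N4295 (iv F13477)) (tt N3792 (iv F11936)) (tt N4296 D4359) (tt N2084 (iv D3118)) (tt N3856 (iv F12136)))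
theorem Q3057 : ∀ i, i < 3057 → P i := stepQ 3056 Q3056 (allL N3056 (tt N3056 F9617) (tt N4297 D4360) (tt N2085 (iv D3119)) (tt N4287 (iv F13458)) (tt N4298 D4361) (tt N4294 (iv F13473)) (tt N4299 D4362) (tt N2088 F9618))
theorem Q3058 : ∀ i, i < 3058 → P i := stepQ 3057 Q3057 (allL N3057 (tt N3057 F9619) (tt N2094 F9620) (tt N4298 (iv F13484)) (tt N4239 (iv F13308)) (tt N2085 (iv D3120)) (tt N3886 (iv F12240)) (tt N4300 D4363) (tt N2089 F9621))
theorem Q3059 : ∀ i, i < 3059 → P i := stepQ 3058 Q3058 (allL N3058 (tt N3058 F9622) (tt N2095 F9623) (tt N4299 (iv F13487)) (tt N2086 F9624) (tt N4300 (iv F13490)) (tt N4301 D4364) (tt N2085 (iv D3121)) (tt N3326 (iv F10433)))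
theorem Q3060 : ∀ i, i < 3060 → P i := stepQ 3059 Q3059 (allL N3059 (tt N3059 F9625) (tt N4302 D4365) (tt N4290 (iv F13463)) (tt N4301 (iv F13493)) (tt N4293 (iv F13471)) (tt N2086 (iv D3122)) (tt N4296 (iv F13480)) (tt N4225 (iv F13268)))
theorem Q3061 : ∀ i, i < 3061 → P i := stepQ 3060 Q3060 (allL N3060 (tt N3060 F9626) (tt N4303 D4366) (tt N2087 (iv D3123)) (tt N3863 (iv F12158)) (tt N3885 (iv F12234)) (tt N2088 F9627) (tt N3060 F9628) (tt N4294 (iv F13474)))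
theorem Q3062 : ∀ i, i < 3062 → P i := stepQ 3061 Q3061 (allL N3061 (tt N4304 D4367) (tt N2088 (iv D3124)) (tt N2097 F9629) (tt N3864 (iv F12163)) (tt N4305 D4368) (tt N4306 D4369) (tt N4307 D4370) (tt N4297 (iv F13482)))
theorem Q3063 : ∀ i, i < 3063 → P i := stepQ 3062 Q3062 (allL N3062 (tt N3062 F9630) (tt N4305 (iv F13499)) (tt N2089 F9631) (tt N3062 F9632) (tt N2088 (iv D3125)) (tt N3885 (iv F12235)) (tt N2266 (iv F9633)) (tt N4298 (iv F13485)))
theorem Q3064 : ∀ i, i < 3064 → P i := stepQ 3063 Q3063 (allL N3063 (tt N3063 F9634) (tt N4307 (iv F13504)) (tt N2090 F9635) (tt N3865 (iv F12167)) (tt N2266 F9636) (tt N3063 F9637) (tt N2088 (iv D3126)) (tt N3327 (iv F10437)))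
theorem Q3065 : ∀ i, i < 3065 → P i := stepQ 3064 Q3064 (allL N3064 (tt N2105 F9638) (tt N4308 D4371) (tt N2091 (iv D3127)) (tt N2800 F9639) (tt N2940 F9640) (tt N2246 F9641) (tt N4309 D4372) (tt N2146 F9642))
theorem Q3066 : ∀ i, i < 3066 → P i := stepQ 3065 Q3065 (allL N3065 (tt N2106 F9643) (tt N4292 (iv F13467)) (tt N4309 (iv F13512)) (tt N2092 F9644) (tt N4240 (iv F13313)) (tt N4310 D4373) (tt N2091 (iv D3128)) (tt N3065 F9645))
theorem Q3067 : ∀ i, i < 3067 → P i := stepQ 3066 Q3066 (allL N3066 (tt N2107 F9646) (tt N4311 D4374) (tt N4112 (iv F12928)) (tt N4310 (iv F13517)) (tt N2096 F9647) (tt N2092 (iv D3129)) (tt N2248 F9648) (tt N3448 (iv F10811)))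
theorem Q3068 : ∀ i, i < 3068 → P i := stepQ 3067 Q3067 (allL N3067 (tt N4312 D4375) (tt N2093 (iv D3130)) (tt N4297 (iv F13481)) (tt N4113 (iv F12931)) (tt N4313 D4376) (tt N4314 D4377) (tt N4315 D4378) (tt N2097 F9649))
theorem Q3069 : ∀ i, i < 3069 → P i := stepQ 3068 Q3068 (allL N3068 (tt N2109 F9650) (tt N4313 (iv F13527)) (tt N2094 F9651) (tt N2931 F9652) (tt N2093 (iv D3131)) (tt N2104 F9653) (tt N4316 D4379) (tt N2098 F9654))
theorem Q3070 : ∀ i, i < 3070 → P i := stepQ 3069 Q3069 (allL N3069 (tt N2110 F9655) (tt N4315 (iv F13532)) (tt N2095 F9656) (tt N4114 (iv F12935)) (tt N4316 (iv F13536)) (tt N3314 (iv F10386)) (tt N2093 (iv D3132)) (tt N3313 F10383))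
theorem Q3071 : ∀ i, i < 3071 → P i := stepQ 3070 Q3070 (allL N3070 (tt N2111 F9657) (tt N4300 (iv F13489)) (tt N4316 (iv F13534)) (tt N4240 (iv F13312)) (tt N2095 F9658) (tt N3321 (iv F10415)) (tt N2094 (iv D3133)) (tt N2268 F9659))
theorem Q3072 : ∀ i, i < 3072 → P i := stepQ 3071 Q3071 (allL N3071 (tt N3340 (iv F10467)) (tt N2096 (iv D3134)) (tt N4317 D4380) (tt N3325 F10428) (tt N4311 (iv F13520)) (tt N4302 (iv F13494)) (tt N2252 F9660) (tt N3444 (iv F10794)))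
theorem Q3073 : ∀ i, i < 3073 → P i := stepQ 3072 Q3072 (allL N3072 (tt N2097 (iv D3135)) (tt N2112 F9661) (tt N4304 (iv F13498)) (tt N2100 F9662) (tt N3291 (iv F10313)) (tt N4318 D4381) (tt N4319 D4382) (tt N4312 (iv F13524)))
theorem Q3074 : ∀ i, i < 3074 → P i := stepQ 3073 Q3073 (allL N3073 (tt N3291 (iv F10311)) (tt N2098 F9663) (tt N4305 (iv F13500)) (tt N2260 F9664) (tt N2097 (iv D3136)) (tt N4320 D4383) (tt N2258 (iv F9665)) (tt N4313 (iv F13529)))
theorem Q3075 : ∀ i, i < 3075 → P i := stepQ 3074 Q3074 (allL N3074 (tt N4318 (iv F13539)) (tt N2254 F9666) (tt N4306 (iv F13503)) (tt N2102 F9667) (tt N4320 (iv F13547)) (tt N2097 (iv D3137)) (tt N4321 D4384) (tt N4314 (iv F13531)))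
theorem Q3076 : ∀ i, i < 3076 → P i := stepQ 3075 Q3075 (allL N3075 (tt N4319 (iv F13541)) (tt N2099 F9668) (tt N4307 (iv F13505)) (tt N2103 F9669) (tt N2258 F9670) (tt N4322 D4385) (tt N2097 (iv D3138)) (tt N3315 (iv F10389)))
theorem Q3077 : ∀ i, i < 3077 → P i := stepQ 3076 Q3076 (allL N3076 (tt N2101 F9671) (tt N2115 F9672) (tt N3876 (iv F12203)) (tt N2257 (iv F9673)) (tt N2100 (iv D3139)) (tt N4323 D4386) (tt N2253 (iv F9674)) (tt N4127 (iv F12975)))
theorem Q3078 : ∀ i, i < 3078 → P i := stepQ 3077 Q3077 (allL N3077 (tt N2102 F9675) (tt N4324 D4387) (tt N3877 (iv F12207)) (tt N4318 (iv F13540)) (tt N4323 (iv F13555)) (tt N2100 (iv D3140)) (tt N4325 D4388) (tt N4128 (iv F12977)))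
theorem Q3079 : ∀ i, i < 3079 → P i := stepQ 3078 Q3078 (allL N3078 (tt N2103 F9676) (tt N2117 F9677) (tt N3878 (iv F12210)) (tt N4319 (iv F13543)) (tt N2253 F9678) (tt N4326 D4389) (tt N2100 (iv D3141)) (tt N4327 D4390))
theorem Q3080 : ∀ i, i < 3080 → P i := stepQ 3079 Q3079 (allL N3079 (tt N4323 (iv F13553)) (tt N2259 F9679) (tt N3879 (iv F12213)) (tt N2262 F9680) (tt N2102 F9681) (tt N2101 (iv D3142)) (tt N4328 D4391) (tt N4131 (iv F12984)))
theorem Q3081 : ∀ i, i < 3081 → P i := stepQ 3080 Q3080 (allL N3080 (tt N4325 (iv F13558)) (tt N2261 F9682) (tt N3880 (iv F12217)) (tt N4321 (iv F13549)) (tt N4328 (iv F13567)) (tt N4329 D4392) (tt N2102 (iv D3143)) (tt N4330 D4393))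
theorem Q3082 : ∀ i, i < 3082 → P i := stepQ 3081 Q3081 (allL N3081 (tt N4326 (iv F13559)) (tt N4320 (iv F13545)) (tt N3881 (iv F12218)) (tt N4322 (iv F13551)) (tt N2254 F9683) (tt N2103 (iv D3144)) (tt N4329 (iv F13570)) (tt N4331 D4394))
theorem Q3083 : ∀ i, i < 3083 → P i := stepQ 3082 Q3082 (allL N3082 (tt N4327 (iv F13561)) (tt N2104 F9684) (tt N3882 (iv F12221)) (tt N4332 D4395) (tt N2249 F9685) (tt N4331 (iv F13573)) (tt N4135 (iv F12991)) (tt N2103 (iv D3145)))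
theorem Q3084 : ∀ i, i < 3084 → P i := stepQ 3083 Q3083 (allL N3083 (tt N2122 F9686) (tt N4332 (iv F13575)) (tt N2941 F9687) (tt N2104 (iv D3146)) (tt N2932 (iv F9689)) (tt N2931 F9688) (tt N4139 (iv F13001)) (tt N3092 (iv F9725)))
theorem Q3085 : ∀ i, i < 3085 → P i := stepQ 3084 Q3084 (allL N3084 (tt N4309 (iv F13511)) (tt N2807 F9690) (tt N2106 F9691) (tt N2803 F9692) (tt N2945 F9693) (tt N4333 D4396) (tt N2105 (iv D3147)) (tt N3084 F9694))
theorem Q3086 : ∀ i, i < 3086 → P i := stepQ 3085 Q3085 (allL N3085 (tt N4310 (iv F13516)) (tt N3344 (iv F10481)) (tt N4333 (iv F13577)) (tt N2107 F9695) (tt N3328 (iv F10439)) (tt N2106 (iv D3148)) (tt N2271 F9696) (tt N3085 F9697))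
theorem Q3087 : ∀ i, i < 3087 → P i := stepQ 3086 Q3086 (allL N3086 (tt N2108 (iv D3149)) (tt N4312 (iv F13522)) (tt N3086 F9698) (tt N2900 F9699) (tt N2910 F9700) (tt N3173 (iv F9984)) (tt N4334 D4397) (tt N2112 F9701))
theorem Q3088 : ∀ i, i < 3088 → P i := stepQ 3087 Q3087 (allL N3087 (tt N4334 (iv F13582)) (tt N2110 F9702) (tt N3087 F9703) (tt N2927 F9704) (tt N2936 F9705) (tt N3191 (iv F10041)) (tt N2108 (iv D3150)) (tt N3316 (iv F10394)))
theorem Q3089 : ∀ i, i < 3089 → P i := stepQ 3088 Q3088 (allL N3088 (tt N4316 (iv F13533)) (tt N2936 F9706) (tt N2111 F9707) (tt N2934 F9708) (tt N2110 F9709) (tt N3318 (iv F10403)) (tt N2109 (iv D3151)) (tt N2290 F9710))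
theorem Q3090 : ∀ i, i < 3090 → P i := stepQ 3089 Q3089 (allL N3089 (tt N2113 F9711) (tt N4335 D4398) (tt N3089 F9712) (tt N2116 F9713) (tt N3181 (iv F10013)) (tt N2112 (iv D3152)) (tt N4336 D4399) (tt N3173 (iv F9985)))
theorem Q3091 : ∀ i, i < 3091 → P i := stepQ 3090 Q3090 (allL N3090 (tt N2114 F9714) (tt N4319 (iv F13542)) (tt N3090 F9715) (tt N2117 F9716) (tt N2280 F9717) (tt N3308 (iv F10370)) (tt N2112 (iv D3153)) (tt N3307 (iv F10365)))
theorem Q3092 : ∀ i, i < 3092 → P i := stepQ 3091 Q3091 (allL N3091 (tt N4336 (iv F13588)) (tt N2279 F9718) (tt N3091 F9719) (tt N2119 F9720) (tt N3198 (iv F10071)) (tt N3317 (iv F10399)) (tt N2113 (iv D3154)) (tt N3195 (iv F10061)))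
theorem Q3093 : ∀ i, i < 3093 → P i := stepQ 3092 Q3092 (allL N3092 (tt N2118 F9721) (tt N4337 D4400) (tt N2123 F9722) (tt N2284 F9723) (tt N2116 F9724) (tt N2115 (iv D3155)) (tt N4338 D4401) (tt N3083 F9725))
theorem Q3094 : ∀ i, i < 3094 → P i := stepQ 3093 Q3093 (allL N3093 (tt N2282 F9726) (tt N2116 (iv D3156)) (tt N4339 D4402) (tt N4335 (iv F13587)) (tt N4337 (iv F13593)) (tt N4324 (iv F13557)) (tt N4340 D4403) (tt N4156 (iv F13064)))
theorem Q3095 : ∀ i, i < 3095 → P i := stepQ 3094 Q3094 (allL N3094 (tt N2119 F9727) (tt N4340 (iv F13603)) (tt N2125 F9728) (tt N4336 (iv F13590)) (tt N4338 (iv F13598)) (tt N4341 D4404) (tt N2116 (iv D3157)) (tt N4342 D4405))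
theorem Q3096 : ∀ i, i < 3096 → P i := stepQ 3095 Q3095 (allL N3095 (tt N2120 F9729) (tt N4343 D4406) (tt N2126 F9730) (tt N3308 (iv F10368)) (tt N2278 F9731) (tt N2117 (iv D3158)) (tt N4341 (iv F13607)) (tt N2171 (iv F9732)))
theorem Q3097 : ∀ i, i < 3097 → P i := stepQ 3096 Q3096 (allL N3096 (tt N2121 F9733) (tt N4327 (iv F13562)) (tt N2127 F9734) (tt N2179 (iv F9737)) (tt N2273 F9735) (tt N2171 F9736) (tt N4124 (iv F12965)) (tt N2117 (iv D3159)))
theorem Q3098 : ∀ i, i < 3098 → P i := stepQ 3097 Q3097 (allL N3097 (tt N4338 (iv F13595)) (tt N2287 F9738) (tt N2128 F9739) (tt N2288 F9740) (tt N2119 F9741) (tt N2279 F9742) (tt N2118 (iv D3160)) (tt N4344 D4407))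
theorem Q3099 : ∀ i, i < 3099 → P i := stepQ 3098 Q3098 (allL N3098 (tt N4341 (iv F13604)) (tt N3198 (iv F10068)) (tt N2129 F9743) (tt N3317 (iv F10397)) (tt N2279 F9744) (tt N2119 (iv D3161)) (tt N2120 F9745) (tt N2189 (iv F9746)))
theorem Q3100 : ∀ i, i < 3100 → P i := stepQ 3099 Q3099 (allL N3099 (tt N4342 (iv F13609)) (tt N2289 F9747) (tt N2130 F9748) (tt N2275 (iv F9750)) (tt N4344 (iv F13618)) (tt N2189 F9749) (tt N3302 (iv F10348)) (tt N2119 (iv D3162)))
theorem Q3101 : ∀ i, i < 3101 → P i := stepQ 3100 Q3100 (allL N3100 (tt N2133 F9751) (tt N2123 (iv D3163)) (tt N4345 D4408) (tt N2377 F9752) (tt N2124 F9753) (tt N3907 (iv F12327)) (tt N4346 D4409) (tt N4159 (iv F13073)))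
theorem Q3102 : ∀ i, i < 3102 → P i := stepQ 3101 Q3101 (allL N3101 (tt N2128 F9754) (tt N4346 (iv F13624)) (tt N4338 (iv F13596)) (tt N2375 F9755) (tt N2125 F9756) (tt N2372 F9757) (tt N2123 (iv D3164)) (tt N4347 D4410))
theorem Q3103 : ∀ i, i < 3103 → P i := stepQ 3102 Q3102 (allL N3102 (tt N2135 F9758) (tt N4339 (iv F13601)) (tt N2124 (iv D3165)) (tt N4348 D4411) (tt N4345 (iv F13622)) (tt N3909 (iv F12333)) (tt N4349 D4412) (tt N4161 (iv F13079)))
theorem Q3104 : ∀ i, i < 3104 → P i := stepQ 3103 Q3103 (allL N3103 (tt N2136 F9759) (tt N2125 F9760) (tt N4349 (iv F13633)) (tt N3103 F9761) (tt N4346 (iv F13626)) (tt N4350 D4413) (tt N2124 (iv D3166)) (tt N4351 D4414))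
theorem Q3105 : ∀ i, i < 3105 → P i := stepQ 3104 Q3104 (allL N3104 (tt N2129 F9762) (tt N4352 D4415) (tt N4341 (iv F13605)) (tt N3104 F9763) (tt N2372 F9764) (tt N2125 (iv D3167)) (tt N2126 F9765) (tt N2167 (iv F9766)))
theorem Q3106 : ∀ i, i < 3106 → P i := stepQ 3105 Q3105 (allL N3105 (tt N2130 F9767) (tt N4351 (iv F13637)) (tt N4342 (iv F13610)) (tt N2168 (iv F9769)) (tt N4347 (iv F13628)) (tt N2167 F9768) (tt N4116 (iv F12941)) (tt N2125 (iv D3168)))
theorem Q3107 : ∀ i, i < 3107 → P i := stepQ 3106 Q3106 (allL N3106 (tt N3106 F9770) (tt N2126 (iv D3169)) (tt N4353 D4416) (tt N3106 F9771) (tt N2371 F9772) (tt N3913 (iv F12345)) (tt N4352 (iv F13642)) (tt N2161 F9773))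
theorem Q3108 : ∀ i, i < 3108 → P i := stepQ 3107 Q3107 (allL N3107 (tt N4347 (iv F13627)) (tt N2141 F9774) (tt N4344 (iv F13616)) (tt N4354 D4417) (tt N2130 F9775) (tt N2190 F9776) (tt N4147 (iv F13026)) (tt N2128 (iv D3170)))
theorem Q3109 : ∀ i, i < 3109 → P i := stepQ 3108 Q3108 (allL N3108 (tt N2377 F9777) (tt N2131 (iv D3171)) (tt N4355 D4418) (tt N2133 F9778) (tt N3108 F9779) (tt N3920 (iv F12378)) (tt N4356 D4419) (tt N4357 D4420))
theorem Q3110 : ∀ i, i < 3110 → P i := stepQ 3109 Q3109 (allL N3109 (tt N2138 F9780) (tt N4356 (iv F13657)) (tt N3109 F9781) (tt N2134 F9782) (tt N3109 F9783) (tt N3109 F9784) (tt N2131 (iv D3172)) (tt N4358 D4421))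
theorem Q3111 : ∀ i, i < 3111 → P i := stepQ 3110 Q3110 (allL N3110 (tt N2139 F9785) (tt N4357 (iv F13661)) (tt N3110 F9786) (tt N3020 F9787) (tt N3110 F9788) (tt N2132 F9789) (tt N3016 (iv F9790)) (tt N2131 (iv D3173)))
theorem Q3112 : ∀ i, i < 3112 → P i := stepQ 3111 Q3111 (allL N3111 (tt N2140 F9791) (tt N3923 (iv F12387)) (tt N3111 F9792) (tt N4174 (iv F13116)) (tt N3111 F9793) (tt N4359 D4422) (tt N2132 (iv D3174)) (tt N3111 F9794))
theorem Q3113 : ∀ i, i < 3113 → P i := stepQ 3112 Q3112 (allL N3112 (tt N4345 (iv F13621)) (tt N2299 F9795) (tt N2133 (iv D3175)) (tt N4360 D4423) (tt N2135 F9796) (tt N3924 (iv F12392)) (tt N4361 D4424) (tt N4175 (iv F13119)))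
theorem Q3114 : ∀ i, i < 3114 → P i := stepQ 3113 Q3113 (allL N3113 (tt N4346 (iv F13623)) (tt N2134 F9797) (tt N4361 (iv F13678)) (tt N4356 (iv F13658)) (tt N2136 F9798) (tt N4362 D4425) (tt N2133 (iv D3176)) (tt N4363 D4426))
theorem Q3115 : ∀ i, i < 3115 → P i := stepQ 3114 Q3114 (allL N3114 (tt N2141 F9799) (tt N4363 (iv F13682)) (tt N2301 F9800) (tt N4364 D4427) (tt N2137 F9801) (tt N3114 F9802) (tt N4177 (iv F13126)) (tt N2134 (iv D3177)))
theorem Q3116 : ∀ i, i < 3116 → P i := stepQ 3115 Q3115 (allL N3115 (tt N4348 (iv F13630)) (tt N2302 F9803) (tt N3115 F9804) (tt N2135 (iv D3178)) (tt N4365 D4428) (tt N3927 (iv F12401)) (tt N4366 D4429) (tt N4367 D4430))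
theorem Q3117 : ∀ i, i < 3117 → P i := stepQ 3116 Q3116 (allL N3116 (tt N4349 (iv F13632)) (tt N2303 F9805) (tt N2136 F9806) (tt N4366 (iv F13690)) (tt N4361 (iv F13679)) (tt N4368 D4431) (tt N2135 (iv D3179)) (tt N4369 D4432))
theorem Q3118 : ∀ i, i < 3118 → P i := stepQ 3117 Q3117 (allL N3117 (tt N4350 (iv F13634)) (tt N3117 F9807) (tt N4368 (iv F13693)) (tt N3117 F9808) (tt N4362 (iv F13681)) (tt N2136 (iv D3180)) (tt N3929 (iv F12406)) (tt N4370 D4433))
theorem Q3119 : ∀ i, i < 3119 → P i := stepQ 3118 Q3118 (allL N3118 (tt N4351 (iv F13636)) (tt N2137 F9809) (tt N4369 (iv F13695)) (tt N4371 D4434) (tt N4363 (iv F13683)) (tt N4370 (iv F13697)) (tt N4181 (iv F13131)) (tt N2136 (iv D3181)))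
theorem Q3120 : ∀ i, i < 3120 → P i := stepQ 3119 Q3119 (allL N3119 (tt N2142 F9810) (tt N4371 (iv F13699)) (tt N4372 D4435) (tt N2137 (iv D3182)) (tt N4373 D4436) (tt N3119 F9811) (tt N4149 (iv F13034)) (tt N3119 F9812))
theorem Q3121 : ∀ i, i < 3121 → P i := stepQ 3120 Q3120 (allL N3120 (tt N4358 (iv F13665)) (tt N2380 F9813) (tt N3120 F9814) (tt N4374 D4437) (tt N3120 F9815) (tt N3120 F9816) (tt N3015 F9817) (tt N2138 (iv D3183)))
theorem Q3122 : ∀ i, i < 3122 → P i := stepQ 3121 Q3121 (allL N3121 (tt N4359 (iv F13670)) (tt N3121 F9818) (tt N3121 F9819) (tt N3022 F9820) (tt N3121 F9821) (tt N2140 (iv D3184)) (tt N3017 F9822) (tt N3121 F9823))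
theorem Q3123 : ∀ i, i < 3123 → P i := stepQ 3122 Q3122 (allL N3122 (tt N4364 (iv F13684)) (tt N4354 (iv F13647)) (tt N4375 D4438) (tt N2141 (iv D3185)) (tt N4376 D4439) (tt N3122 F9824) (tt N4185 (iv F13143)) (tt N4374 (iv F13711)))
theorem Q3124 : ∀ i, i < 3124 → P i := stepQ 3123 Q3123 (allL N3123 (tt N4372 (iv F13701)) (tt N2277 F9825) (tt N2142 (iv D3186)) (tt N2308 F9826) (tt N4377 D4440) (tt N3123 F9827) (tt N3304 (iv F10356)) (tt N3123 F9828))
theorem Q3125 : ∀ i, i < 3125 → P i := stepQ 3124 Q3124 (allL N3124 (tt N4373 (iv F13705)) (tt N2186 F9829) (tt N4377 (iv F13718)) (tt N4376 (iv F13715)) (tt N2142 (iv D3187)) (tt N3124 F9830) (tt N4145 (iv F13019)) (tt N3124 F9831))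
theorem Q3126 : ∀ i, i < 3126 → P i := stepQ 3125 Q3125 (allL N3125 (tt N3125 F9832) (tt N4273 (iv F13419)) (tt N3125 F9833) (tt N2143 (iv D3188)) (tt N4378 D4441) (tt N3125 F9834) (tt N4379 D4442) (tt N3125 F9835))
theorem Q3127 : ∀ i, i < 3127 → P i := stepQ 3126 Q3126 (allL N3126 (tt N3126 F9836) (tt N4274 (iv F13423)) (tt N2144 F9837) (tt N4379 (iv F13729)) (tt N3126 F9838) (tt N4380 D4443) (tt N2143 (iv D3189)) (tt N3126 F9839))
theorem Q3128 : ∀ i, i < 3128 → P i := stepQ 3127 Q3127 (allL N3127 (tt N3127 F9840) (tt N3127 F9841) (tt N4380 (iv F13731)) (tt N3127 F9842) (tt N3127 F9843) (tt N2144 (iv D3190)) (tt N3127 F9844) (tt N3127 F9845))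
theorem Q3129 : ∀ i, i < 3129 → P i := stepQ 3128 Q3128 (allL N3128 (tt N3128 F9846) (tt N4381 D4444) (tt N2145 (iv D3191)) (tt N4226 (iv F13270)) (tt N4238 (iv F13304)) (tt N3793 (iv F11940)) (tt N3128 F9847) (tt N4291 (iv F13465)))
theorem Q3130 : ∀ i, i < 3130 → P i := stepQ 3129 Q3129 (allL N3129 (tt N3409 (iv F10673)) (tt N2146 (iv D3192)) (tt N4381 (iv F13735)) (tt N3129 F9848) (tt N3403 F10660) (tt N4382 D4445) (tt N3129 F9849) (tt N4308 (iv F13510)))
theorem Q3131 : ∀ i, i < 3131 → P i := stepQ 3130 Q3130 (allL N3130 (tt N3130 F9850) (tt N3573 (iv F11219)) (tt N2150 F9851) (tt N3553 (iv F11134)) (tt N2148 F9852) (tt N2147 (iv D3193)) (tt N4383 D4446) (tt N4384 D4447))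
theorem Q3132 : ∀ i, i < 3132 → P i := stepQ 3131 Q3131 (allL N3131 (tt N3131 F9853) (tt N2232 F9854) (tt N2151 F9855) (tt N4385 D4448) (tt N2149 F9856) (tt N4384 (iv F13747)) (tt N4386 D4449) (tt N2147 (iv D3194)))
theorem Q3133 : ∀ i, i < 3133 → P i := stepQ 3132 Q3132 (allL N3132 (tt N4387 D4450) (tt N2148 (iv D3195)) (tt N4085 (iv F12869)) (tt N3132 F9857) (tt N3573 (iv F11221)) (tt N2233 F9858) (tt N4388 D4451) (tt N4389 D4452))
theorem Q3134 : ∀ i, i < 3134 → P i := stepQ 3133 Q3133 (allL N3133 (tt N3133 F9859) (tt N4388 (iv F13759)) (tt N2152 F9860) (tt N3133 F9861) (tt N4383 (iv F13742)) (tt N3133 F9862) (tt N2148 (iv D3196)) (tt N4390 D4453))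
theorem Q3135 : ∀ i, i < 3135 → P i := stepQ 3134 Q3134 (allL N3134 (tt N3134 F9863) (tt N4389 (iv F13761)) (tt N2153 F9864) (tt N4391 D4454) (tt N4384 (iv F13746)) (tt N2149 F9865) (tt N4392 D4455) (tt N2148 (iv D3197)))
theorem Q3136 : ∀ i, i < 3136 → P i := stepQ 3135 Q3135 (allL N3135 (tt N3135 F9866) (tt N2235 F9867) (tt N4393 D4456) (tt N2149 (iv D3198)) (tt N4394 D4457) (tt N4391 (iv F13767)) (tt N4395 D4458) (tt N3135 F9868))
theorem Q3137 : ∀ i, i < 3137 → P i := stepQ 3136 Q3136 (allL N3136 (tt N3136 F9869) (tt N2236 F9870) (tt N2155 F9871) (tt N4395 (iv F13779)) (tt N4386 (iv F13753)) (tt N4396 D4459) (tt N2149 (iv D3199)) (tt N3136 F9872))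
theorem Q3138 : ∀ i, i < 3138 → P i := stepQ 3137 Q3137 (allL N3137 (tt N3137 F9873) (tt N4090 (iv F12877)) (tt N4383 (iv F13740)) (tt N3137 F9874) (tt N2152 F9875) (tt N3137 F9876) (tt N2150 (iv D3200)) (tt N4397 D4460))
theorem Q3139 : ∀ i, i < 3139 → P i := stepQ 3138 Q3138 (allL N3138 (tt N3138 F9877) (tt N4091 (iv F12880)) (tt N4384 (iv F13745)) (tt N4398 D4461) (tt N2153 F9878) (tt N2151 F9879) (tt N4399 D4462) (tt N2150 (iv D3201)))
theorem Q3140 : ∀ i, i < 3140 → P i := stepQ 3139 Q3139 (allL N3139 (tt N3139 F9880) (tt N2163 F9881) (tt N4400 D4463) (tt N2151 (iv D3202)) (tt N4401 D4464) (tt N4398 (iv F13787)) (tt N4402 D4465) (tt N3139 F9882))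
theorem Q3141 : ∀ i, i < 3141 → P i := stepQ 3140 Q3140 (allL N3140 (tt N3140 F9883) (tt N2164 F9884) (tt N4386 (iv F13752)) (tt N4402 (iv F13799)) (tt N2155 F9885) (tt N4403 D4466) (tt N2151 (iv D3203)) (tt N3140 F9886))
theorem Q3142 : ∀ i, i < 3142 → P i := stepQ 3141 Q3141 (allL N3141 (tt N3141 F9887) (tt N4094 (iv F12889)) (tt N4390 (iv F13764)) (tt N4404 D4467) (tt N4397 (iv F13784)) (tt N3141 F9888) (tt N4405 D4468) (tt N2152 (iv D3204)))
theorem Q3143 : ∀ i, i < 3143 → P i := stepQ 3142 Q3142 (allL N3142 (tt N3142 F9889) (tt N4095 (iv F12890)) (tt N4406 D4469) (tt N2153 (iv D3205)) (tt N4407 D4470) (tt N2154 F9890) (tt N4408 D4471) (tt N2157 F9891))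
theorem Q3144 : ∀ i, i < 3144 → P i := stepQ 3143 Q3143 (allL N3143 (tt N3143 F9892) (tt N4096 (iv F12893)) (tt N4392 (iv F13770)) (tt N4408 (iv F13815)) (tt N4399 (iv F13790)) (tt N4409 D4472) (tt N2153 (iv D3206)) (tt N4405 (iv F13807)))
theorem Q3145 : ∀ i, i < 3145 → P i := stepQ 3144 Q3144 (allL N3144 (tt N3144 F9893) (tt N4410 D4473) (tt N2154 (iv D3207)) (tt N4393 (iv F13772)) (tt N4411 D4474) (tt N4406 (iv F13809)) (tt N4412 D4475) (tt N2159 F9894))
theorem Q3146 : ∀ i, i < 3146 → P i := stepQ 3145 Q3145 (allL N3145 (tt N3145 F9895) (tt N2166 F9896) (tt N4411 (iv F13821)) (tt N4401 (iv F13795)) (tt N2154 (iv D3208)) (tt N4407 (iv F13812)) (tt N4413 D4476) (tt N2160 F9897))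
theorem Q3147 : ∀ i, i < 3147 → P i := stepQ 3146 Q3146 (allL N3146 (tt N3146 F9898) (tt N2167 F9899) (tt N4412 (iv F13836)) (tt N2155 F9900) (tt N4413 (iv F13839)) (tt N4414 D4477) (tt N2154 (iv D3209)) (tt N4352 (iv F13643)))
theorem Q3148 : ∀ i, i < 3148 → P i := stepQ 3147 Q3147 (allL N3147 (tt N3147 F9901) (tt N4415 D4478) (tt N4396 (iv F13781)) (tt N4414 (iv F13842)) (tt N4403 (iv F13801)) (tt N2155 (iv D3210)) (tt N4409 (iv F13817)) (tt N3147 F9902))
theorem Q3149 : ∀ i, i < 3149 → P i := stepQ 3148 Q3148 (allL N3148 (tt N3148 F9903) (tt N4101 (iv F12902)) (tt N4416 D4479) (tt N2156 (iv D3211)) (tt N4417 D4480) (tt N3148 F9904) (tt N4418 D4481) (tt N4404 (iv F13805)))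
theorem Q3150 : ∀ i, i < 3150 → P i := stepQ 3149 Q3149 (allL N3149 (tt N3149 F9905) (tt N2441 F9906) (tt N3149 F9907) (tt N4418 (iv F13853)) (tt N3149 F9908) (tt N2428 (iv F9910)) (tt N2156 (iv D3212)) (tt N2158 F9909))
theorem Q3151 : ∀ i, i < 3151 → P i := stepQ 3150 Q3150 (allL N3150 (tt N3150 F9911) (tt N4419 D4482) (tt N2157 (iv D3213)) (tt N3150 F9912) (tt N4420 D4483) (tt N2159 F9913) (tt N4421 D4484) (tt N4406 (iv F13810)))
theorem Q3152 : ∀ i, i < 3152 → P i := stepQ 3151 Q3151 (allL N3151 (tt N3151 F9914) (tt N4103 (iv F12905)) (tt N4420 (iv F13857)) (tt N3151 F9915) (tt N2157 (iv D3214)) (tt N2160 F9916) (tt N4422 D4485) (tt N4407 (iv F13813)))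
theorem Q3153 : ∀ i, i < 3153 → P i := stepQ 3152 Q3152 (allL N3152 (tt N3152 F9917) (tt N4104 (iv F12909)) (tt N4421 (iv F13866)) (tt N2158 F9918) (tt N4422 (iv F13870)) (tt N4423 D4486) (tt N2157 (iv D3215)) (tt N4424 D4487))
theorem Q3154 : ∀ i, i < 3154 → P i := stepQ 3153 Q3153 (allL N3153 (tt N3153 F9919) (tt N2430 F9920) (tt N3153 F9921) (tt N4423 (iv F13873)) (tt N3153 F9922) (tt N2158 (iv D3216)) (tt N2162 F9923) (tt N2428 F9924))
theorem Q3155 : ∀ i, i < 3155 → P i := stepQ 3154 Q3154 (allL N3154 (tt N4425 D4488) (tt N2159 (iv D3217)) (tt N2169 F9925) (tt N3154 F9926) (tt N4426 D4489) (tt N4427 D4490) (tt N4428 D4491) (tt N4410 (iv F13819)))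
theorem Q3156 : ∀ i, i < 3156 → P i := stepQ 3155 Q3155 (allL N3155 (tt N3155 F9927) (tt N4426 (iv F13879)) (tt N2160 F9928) (tt N3222 F10604) (tt N2159 (iv D3218)) (tt N4420 (iv F13858)) (tt N3220 (iv F10603)) (tt N4411 (iv F13822)))
theorem Q3157 : ∀ i, i < 3157 → P i := stepQ 3156 Q3156 (allL N3156 (tt N3156 F9929) (tt N4428 (iv F13888)) (tt N2161 F9930) (tt N3156 F9931) (tt N3220 F10602) (tt N3219 (iv F10601)) (tt N2159 (iv D3219)) (tt N4353 (iv F13646)))
theorem Q3158 : ∀ i, i < 3158 → P i := stepQ 3157 Q3157 (allL N3157 (tt N3157 F9932) (tt N2172 F9933) (tt N3220 (iv F10598)) (tt N3157 F9934) (tt N2161 F9935) (tt N3218 F10597) (tt N2160 (iv D3220)) (tt N2371 (iv F9936)))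
theorem Q3159 : ∀ i, i < 3159 → P i := stepQ 3158 Q3158 (allL N3158 (tt N3158 F9937) (tt N3914 (iv F12348)) (tt N3219 F10600) (tt N2162 F9938) (tt N3218 (iv F10599)) (tt N2161 (iv D3221)) (tt N4423 (iv F13874)) (tt N3913 F12346))
theorem Q3160 : ∀ i, i < 3160 → P i := stepQ 3159 Q3159 (allL N3159 (tt N2436 (iv F9943)) (tt N2162 (iv D3222)) (tt N2432 (iv F9944)) (tt N3914 F12352) (tt N3159 F9939) (tt N2173 F9940) (tt N2430 F9941) (tt N3159 F9942))
theorem Q3161 : ∀ i, i < 3161 → P i := stepQ 3160 Q3160 (allL N3160 (tt N2183 F9945) (tt N4429 D4492) (tt N2163 (iv D3223)) (tt N2246 F9946) (tt N2801 (iv F9949)) (tt N2800 F9947) (tt N4430 D4493) (tt N3160 F9948))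
theorem Q3162 : ∀ i, i < 3162 → P i := stepQ 3161 Q3161 (allL N3161 (tt N2184 F9950) (tt N4401 (iv F13794)) (tt N2801 F9951) (tt N2166 F9952) (tt N2163 (iv D3224)) (tt N2793 F9953) (tt N4431 D4494) (tt N3161 F9954))
theorem Q3163 : ∀ i, i < 3163 → P i := stepQ 3162 Q3162 (allL N3162 (tt N2185 F9955) (tt N4402 (iv F13798)) (tt N4430 (iv F13898)) (tt N2164 F9956) (tt N4431 (iv F13904)) (tt N4432 D4495) (tt N2163 (iv D3225)) (tt N4433 D4496))
theorem Q3164 : ∀ i, i < 3164 → P i := stepQ 3163 Q3163 (allL N3163 (tt N2186 F9957) (tt N4434 D4497) (tt N2248 F9958) (tt N4432 (iv F13907)) (tt N2168 F9959) (tt N2164 (iv D3226)) (tt N4112 (iv F12930)) (tt N3163 F9960))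
theorem Q3165 : ∀ i, i < 3165 → P i := stepQ 3164 Q3164 (allL N3164 (tt N4435 D4498) (tt N2165 (iv D3227)) (tt N4410 (iv F13818)) (tt N2249 F9961) (tt N4436 D4499) (tt N4437 D4500) (tt N4438 D4501) (tt N2169 F9962))
theorem Q3166 : ∀ i, i < 3166 → P i := stepQ 3165 Q3165 (allL N3165 (tt N2188 F9963) (tt N4436 (iv F13917)) (tt N2166 F9964) (tt N2932 F9965) (tt N2165 (iv D3228)) (tt N2925 F9966) (tt N4439 D4502) (tt N2170 F9967))
theorem Q3167 : ∀ i, i < 3167 → P i := stepQ 3166 Q3166 (allL N3166 (tt N2189 F9968) (tt N4438 (iv F13922)) (tt N2167 F9969) (tt N2250 F9970) (tt N4439 (iv F13927)) (tt N4342 (iv F13611)) (tt N2165 (iv D3229)) (tt N4341 F13608))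
theorem Q3168 : ∀ i, i < 3168 → P i := stepQ 3167 Q3167 (allL N3167 (tt N2190 F9971) (tt N4413 (iv F13838)) (tt N4439 (iv F13925)) (tt N4431 (iv F13903)) (tt N2167 F9972) (tt N4347 (iv F13629)) (tt N2166 (iv D3230)) (tt N2372 F9973))
theorem Q3169 : ∀ i, i < 3169 → P i := stepQ 3168 Q3168 (allL N3168 (tt N4371 (iv F13698)) (tt N2168 (iv D3231)) (tt N4440 D4503) (tt N4351 F13638) (tt N4434 (iv F13912)) (tt N4415 (iv F13843)) (tt N4118 (iv F12946)) (tt N3168 F9974))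
theorem Q3170 : ∀ i, i < 3170 → P i := stepQ 3169 Q3169 (allL N3169 (tt N2169 (iv D3232)) (tt N2191 F9975) (tt N4425 (iv F13877)) (tt N2174 F9976) (tt N4441 D4504) (tt N4442 D4505) (tt N3177 (iv F10002)) (tt N4435 (iv F13916)))
theorem Q3171 : ∀ i, i < 3171 → P i := stepQ 3170 Q3170 (allL N3170 (tt N4441 (iv F13931)) (tt N2170 F9977) (tt N4426 (iv F13880)) (tt N4443 D4506) (tt N2169 (iv D3233)) (tt N4444 D4507) (tt N4445 D4508) (tt N4436 (iv F13919)))
theorem Q3172 : ∀ i, i < 3172 → P i := stepQ 3171 Q3171 (allL N3171 (tt N4442 (iv F13933)) (tt N4121 (iv F12953)) (tt N4427 (iv F13885)) (tt N2176 F9978) (tt N4444 (iv F13943)) (tt N2169 (iv D3234)) (tt N4446 D4509) (tt N4437 (iv F13921)))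
theorem Q3173 : ∀ i, i < 3173 → P i := stepQ 3172 Q3172 (allL N3172 (tt N3177 (iv F10000)) (tt N2171 F9979) (tt N4428 (iv F13889)) (tt N2177 F9980) (tt N4445 (iv F13948)) (tt N4447 D4510) (tt N2169 (iv D3235)) (tt N4343 (iv F13614)))
theorem Q3174 : ∀ i, i < 3174 → P i := stepQ 3173 Q3173 (allL N3173 (tt N2194 F9981) (tt N4443 (iv F13935)) (tt N3173 F9982) (tt N2170 (iv D3236)) (tt N2178 F9983) (tt N3086 F9984) (tt N3193 (iv F10049)) (tt N3089 F9985))
theorem Q3175 : ∀ i, i < 3175 → P i := stepQ 3174 Q3174 (allL N3174 (tt N2195 F9986) (tt N4445 (iv F13945)) (tt N2172 F9987) (tt N3193 (iv F10048)) (tt N2171 F9988) (tt N2273 (iv F9989)) (tt N2170 (iv D3237)) (tt N2278 (iv F9990)))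
theorem Q3176 : ∀ i, i < 3176 → P i := stepQ 3175 Q3175 (allL N3175 (tt N2438 F9991) (tt N2182 F9992) (tt N2173 (iv D3238)) (tt N4448 D4511) (tt N3175 F9993) (tt N2432 F9994) (tt N2450 F9995) (tt N3175 F9996))
theorem Q3177 : ∀ i, i < 3177 → P i := stepQ 3176 Q3176 (allL N3176 (tt N2176 F9997) (tt N4449 D4512) (tt N3176 F9998) (tt N4442 (iv F13934)) (tt N3180 (iv F10009)) (tt N2174 (iv D3239)) (tt N4450 D4513) (tt N2256 F9999))
theorem Q3178 : ∀ i, i < 3178 → P i := stepQ 3177 Q3177 (allL N3177 (tt N3172 F10000) (tt N2178 F10001) (tt N4451 D4514) (tt N2175 (iv D3240)) (tt N4443 (iv F13937)) (tt N4452 D4515) (tt N3169 F10002) (tt N4453 D4516))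
theorem Q3179 : ∀ i, i < 3179 → P i := stepQ 3178 Q3178 (allL N3178 (tt N3180 (iv F10007)) (tt N4131 (iv F12982)) (tt N3178 F10003) (tt N4452 (iv F13974)) (tt N2176 F10004) (tt N2175 (iv D3241)) (tt N4454 D4517) (tt N2259 F10005))
theorem Q3180 : ∀ i, i < 3180 → P i := stepQ 3179 Q3179 (allL N3179 (tt N4450 (iv F13964)) (tt N4133 (iv F12988)) (tt N3179 F10006) (tt N4446 (iv F13951)) (tt N4454 (iv F13981)) (tt N4455 D4518) (tt N2176 (iv D3242)) (tt N4456 D4519))
theorem Q3181 : ∀ i, i < 3181 → P i := stepQ 3180 Q3180 (allL N3180 (tt N3178 F10007) (tt N4457 D4520) (tt N3180 F10008) (tt N4447 (iv F13953)) (tt N3176 F10009) (tt N2177 (iv D3243)) (tt N4455 (iv F13986)) (tt N3279 (iv F10288)))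
theorem Q3182 : ∀ i, i < 3182 → P i := stepQ 3181 Q3181 (allL N3181 (tt N2198 F10010) (tt N4453 (iv F13977)) (tt N3181 F10011) (tt N2264 F10012) (tt N3089 F10013) (tt N2265 F10014) (tt N4458 D4521) (tt N2178 (iv D3244)))
theorem Q3183 : ∀ i, i < 3183 → P i := stepQ 3182 Q3182 (allL N3182 (tt N4332 (iv F13574)) (tt N2179 (iv D3245)) (tt N4459 D4522) (tt N4327 F13564) (tt N3196 (iv F10062)) (tt N4457 (iv F13990)) (tt N4137 (iv F12995)) (tt N3309 (iv F10372)))
theorem Q3184 : ∀ i, i < 3184 → P i := stepQ 3183 Q3183 (allL N3183 (tt N3205 (iv F10096)) (tt N4459 (iv F13995)) (tt N2180 (iv D3246)) (tt N4460 D4523) (tt N3200 (iv F10076)) (tt N3183 F10015) (tt N4140 (iv F13002)) (tt N3319 (iv F10408)))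
theorem Q3185 : ∀ i, i < 3185 → P i := stepQ 3184 Q3184 (allL N3184 (tt N2182 F10016) (tt N3560 F11162) (tt N2181 (iv D3247)) (tt N4461 D4524) (tt N3184 F10017) (tt N3184 F10018) (tt N3591 (iv F11282)) (tt N3184 F10019))
theorem Q3186 : ∀ i, i < 3186 → P i := stepQ 3185 Q3185 (allL N3185 (tt N4461 (iv F13998)) (tt N4448 (iv F13956)) (tt N4460 (iv F13996)) (tt N2182 (iv D3248)) (tt N4462 D4525) (tt N3185 F10020) (tt N4142 (iv F13007)) (tt N4463 D4526))
theorem Q3187 : ∀ i, i < 3187 → P i := stepQ 3186 Q3186 (allL N3186 (tt N4430 (iv F13897)) (tt N2813 F10021) (tt N2185 F10022) (tt N2270 F10023) (tt N2804 F10024) (tt N4464 D4527) (tt N2183 (iv D3249)) (tt N4465 D4528))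
theorem Q3188 : ∀ i, i < 3188 → P i := stepQ 3187 Q3187 (allL N3187 (tt N4431 (iv F13901)) (tt N3187 F10025) (tt N2804 F10026) (tt N2190 F10027) (tt N2185 F10028) (tt N4354 (iv F13650)) (tt N2184 (iv D3250)) (tt N2381 (iv F10029)))
theorem Q3189 : ∀ i, i < 3189 → P i := stepQ 3188 Q3188 (allL N3188 (tt N4432 (iv F13906)) (tt N4376 (iv F13714)) (tt N4464 (iv F14008)) (tt N2186 F10030) (tt N4354 (iv F13649)) (tt N2185 (iv D3251)) (tt N4143 (iv F13011)) (tt N4466 D4529))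
theorem Q3190 : ∀ i, i < 3190 → P i := stepQ 3189 Q3189 (allL N3189 (tt N4433 (iv F13908)) (tt N3189 F10031) (tt N4465 (iv F14014)) (tt N3189 F10032) (tt N2381 F10033) (tt N4466 (iv F14021)) (tt N3189 F10034) (tt N2185 (iv D3252)))
theorem Q3191 : ∀ i, i < 3191 → P i := stepQ 3190 Q3190 (allL N3190 (tt N2187 (iv D3253)) (tt N4435 (iv F13914)) (tt N3190 F10035) (tt N2273 F10036) (tt N3194 (iv F10054)) (tt N3193 F10050) (tt N4467 D4530) (tt N2191 F10037))
theorem Q3192 : ∀ i, i < 3192 → P i := stepQ 3191 Q3191 (allL N3191 (tt N4467 (iv F14023)) (tt N2189 F10038) (tt N3191 F10039) (tt N2274 F10040) (tt N3195 (iv F10059)) (tt N3087 F10041) (tt N2187 (iv D3254)) (tt N3198 (iv F10072)))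
theorem Q3193 : ∀ i, i < 3193 → P i := stepQ 3192 Q3192 (allL N3192 (tt N4439 (iv F13924)) (tt N3195 (iv F10056)) (tt N2190 F10042) (tt N2935 F10043) (tt N2189 F10044) (tt N4344 (iv F13619)) (tt N2188 (iv D3255)) (tt N2279 F10045))
theorem Q3194 : ∀ i, i < 3194 → P i := stepQ 3193 Q3193 (allL N3193 (tt N2192 F10046) (tt N4441 (iv F13932)) (tt N3193 F10047) (tt N3174 F10048) (tt N2191 (iv D3256)) (tt N3190 (iv F10050)) (tt N3173 F10049) (tt N3194 (iv F10055)))
theorem Q3195 : ∀ i, i < 3195 → P i := stepQ 3194 Q3194 (allL N3194 (tt N2193 F10051) (tt N4468 D4531) (tt N3194 F10052) (tt N2196 F10053) (tt N3190 F10054) (tt N2191 (iv D3257)) (tt N4469 D4532) (tt N3193 F10055))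
theorem Q3196 : ∀ i, i < 3196 → P i := stepQ 3195 Q3195 (allL N3195 (tt N4469 (iv F14032)) (tt N3192 F10056) (tt N3195 F10057) (tt N2197 F10058) (tt N3191 F10059) (tt N2936 F10060) (tt N2193 (iv D3258)) (tt N3091 F10061))
theorem Q3197 : ∀ i, i < 3197 → P i := stepQ 3196 Q3196 (allL N3196 (tt N4156 (iv F13063)) (tt N2196 (iv D3259)) (tt N4470 D4533) (tt N4468 (iv F14029)) (tt N3182 F10062) (tt N4449 (iv F13962)) (tt N4471 D4534) (tt N2282 F10063))
theorem Q3198 : ∀ i, i < 3198 → P i := stepQ 3197 Q3197 (allL N3197 (tt N2197 F10064) (tt N4471 (iv F14041)) (tt N2201 F10065) (tt N4469 (iv F14034)) (tt N2912 F10066) (tt N2911 F10067) (tt N2196 (iv D3260)) (tt N3272 (iv F10272)))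
theorem Q3199 : ∀ i, i < 3199 → P i := stepQ 3198 Q3198 (allL N3198 (tt N4458 (iv F13991)) (tt N3098 F10068) (tt N3198 F10069) (tt N2290 F10070) (tt N3091 F10071) (tt N3316 (iv F10393)) (tt N2198 (iv D3261)) (tt N3191 F10072))
theorem Q3200 : ∀ i, i < 3200 → P i := stepQ 3199 Q3199 (allL N3199 (tt N3564 (iv F11183)) (tt N2199 (iv D3262)) (tt N3560 (iv F11163)) (tt N3833 F12059) (tt N3199 F10073) (tt N3556 F11164) (tt N3584 (iv F11257)) (tt N3199 F10074))
theorem Q3201 : ∀ i, i < 3201 → P i := stepQ 3200 Q3200 (allL N3200 (tt N2207 F10075) (tt N4470 (iv F14038)) (tt N2200 (iv D3263)) (tt N4472 D4535) (tt N3183 F10076) (tt N3200 F10077) (tt N4473 D4536) (tt N2293 F10078))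
theorem Q3202 : ∀ i, i < 3202 → P i := stepQ 3201 Q3201 (allL N3201 (tt N2208 F10079) (tt N2201 F10080) (tt N4473 (iv F14047)) (tt N3201 F10081) (tt N2914 F10082) (tt N4474 D4537) (tt N2200 (iv D3264)) (tt N3273 (iv F10275)))
theorem Q3203 : ∀ i, i < 3203 → P i := stepQ 3202 Q3202 (allL N3202 (tt N3202 F10083) (tt N2203 F10084) (tt N4475 D4538) (tt N2202 (iv D3265)) (tt N4476 D4539) (tt N4477 D4540) (tt N2216 F10085) (tt N4255 (iv F13367)))
theorem Q3204 : ∀ i, i < 3204 → P i := stepQ 3203 Q3203 (allL N3203 (tt N3203 F10086) (tt N3556 (iv F11165)) (tt N3203 F10087) (tt N4477 (iv F14069)) (tt N3203 F10088) (tt N2202 (iv D3266)) (tt N3554 F11166) (tt N3203 F10089))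
theorem Q3205 : ∀ i, i < 3205 → P i := stepQ 3204 Q3204 (allL N3204 (tt N2204 F10090) (tt N4476 (iv F14061)) (tt N2809 F10091) (tt N3204 F10092) (tt N2203 (iv D3267)) (tt N2359 F10093) (tt N2218 F10094) (tt N2407 F10095))
theorem Q3206 : ∀ i, i < 3206 → P i := stepQ 3205 Q3205 (allL N3205 (tt N3183 F10096) (tt N4175 (iv F13117)) (tt N2205 (iv D3268)) (tt N4478 D4541) (tt N2207 F10097) (tt N3205 F10098) (tt N4479 D4542) (tt N2299 F10099))
theorem Q3207 : ∀ i, i < 3207 → P i := stepQ 3206 Q3206 (allL N3206 (tt N2914 F10100) (tt N2206 F10101) (tt N4479 (iv F14076)) (tt N2916 F10102) (tt N2208 F10103) (tt N4480 D4543) (tt N2205 (iv D3269)) (tt N4481 D4544))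
theorem Q3208 : ∀ i, i < 3208 → P i := stepQ 3207 Q3207 (allL N3207 (tt N2212 F10104) (tt N4481 (iv F14084)) (tt N4177 (iv F13123)) (tt N3975 (iv F12546)) (tt N2210 F10105) (tt N2952 F10106) (tt N2301 F10107) (tt N2206 (iv D3270)))
theorem Q3209 : ∀ i, i < 3209 → P i := stepQ 3208 Q3208 (allL N3208 (tt N4472 (iv F14043)) (tt N4178 (iv F13127)) (tt N3208 F10108) (tt N2207 (iv D3271)) (tt N4482 D4545) (tt N3208 F10109) (tt N4483 D4546) (tt N4484 D4547))
theorem Q3210 : ∀ i, i < 3210 → P i := stepQ 3209 Q3209 (allL N3209 (tt N4473 (iv F14046)) (tt N4179 (iv F13128)) (tt N2208 F10110) (tt N4483 (iv F14090)) (tt N4479 (iv F14077)) (tt N4485 D4548) (tt N2207 (iv D3272)) (tt N4486 D4549))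
theorem Q3211 : ∀ i, i < 3211 → P i := stepQ 3210 Q3210 (allL N3210 (tt N4474 (iv F14049)) (tt N4487 D4550) (tt N4485 (iv F14094)) (tt N3210 F10111) (tt N4480 (iv F14081)) (tt N2208 (iv D3273)) (tt N3210 F10112) (tt N4488 D4551))
theorem Q3212 : ∀ i, i < 3212 → P i := stepQ 3211 Q3211 (allL N3211 (tt N3273 (iv F10273)) (tt N2210 F10113) (tt N4486 (iv F14096)) (tt N3274 (iv F10277)) (tt N4481 (iv F14085)) (tt N4488 (iv F14103)) (tt N2305 F10114) (tt N2208 (iv D3274)))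
theorem Q3213 : ∀ i, i < 3213 → P i := stepQ 3212 Q3212 (allL N3212 (tt N2585 F10115) (tt N2209 (iv D3275)) (tt N4489 D4552) (tt N3212 F10116) (tt N2586 F10117) (tt N4487 (iv F14101)) (tt N2211 F10118) (tt N3390 (iv F10619)))
theorem Q3214 : ∀ i, i < 3214 → P i := stepQ 3213 Q3213 (allL N3213 (tt N2611 F10119) (tt N4184 (iv F13138)) (tt N2211 (iv D3276)) (tt N3355 F10515) (tt N2612 F10120) (tt N3213 F10121) (tt N4489 (iv F14106)) (tt N3213 F10122))
theorem Q3215 : ∀ i, i < 3215 → P i := stepQ 3214 Q3214 (allL N3214 (tt N2598 F10123) (tt N2214 F10124) (tt N3386 (iv F10593)) (tt N2213 (iv D3277)) (tt N3619 (iv F11366)) (tt N3371 (iv F10548)) (tt N2591 F10125) (tt N3377 (iv F10562)))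
theorem Q3216 : ∀ i, i < 3216 → P i := stepQ 3215 Q3215 (allL N3215 (tt N2601 F10126) (tt N4192 (iv F13165)) (tt N3215 F10127) (tt N3371 (iv F10547)) (tt N2595 F10128) (tt N2213 (iv D3278)) (tt N4490 D4553) (tt N3215 F10129))
theorem Q3217 : ∀ i, i < 3217 → P i := stepQ 3216 Q3216 (allL N3216 (tt N2215 F10130) (tt N3377 F10563) (tt N2219 F10131) (tt N3216 F10132) (tt N4071 (iv F12825)) (tt N4193 (iv F13171)) (tt N4491 D4554) (tt N2214 (iv D3279)))
theorem Q3218 : ∀ i, i < 3218 → P i := stepQ 3217 Q3217 (allL N3217 (tt N4491 (iv F14111)) (tt N2973 F10133) (tt N2221 F10134) (tt N3217 F10135) (tt N4079 (iv F12851)) (tt N4248 (iv F13343)) (tt N2215 (iv D3280)) (tt N2968 F10136))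
theorem Q3219 : ∀ i, i < 3219 → P i := stepQ 3218 Q3218 (allL N3218 (tt N3218 F10137) (tt N3386 F10596) (tt N2216 (iv D3281)) (tt N3218 F10138) (tt N3158 F10599) (tt N3157 (iv F10597)) (tt N4475 (iv F14057)) (tt N3394 (iv F10630)))
theorem Q3220 : ∀ i, i < 3220 → P i := stepQ 3219 Q3219 (allL N3219 (tt N3219 F10139) (tt N2218 F10140) (tt N3158 (iv F10600)) (tt N3219 F10141) (tt N2216 (iv D3282)) (tt N3156 F10601) (tt N4476 (iv F14064)) (tt N4492 D4555))
theorem Q3221 : ∀ i, i < 3221 → P i := stepQ 3220 Q3220 (allL N3220 (tt N3220 F10142) (tt N4197 (iv F13179)) (tt N3157 F10598) (tt N2217 F10143) (tt N3156 (iv F10602)) (tt N2216 (iv D3283)) (tt N3155 F10603) (tt N3424 (iv F10724)))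
theorem Q3222 : ∀ i, i < 3222 → P i := stepQ 3221 Q3221 (allL N3221 (tt N3221 F10144) (tt N2219 F10145) (tt N3394 (iv F10627)) (tt N2225 F10146) (tt N4492 (iv F14118)) (tt N3424 (iv F10723)) (tt N4493 D4556) (tt N2216 (iv D3284)))
theorem Q3223 : ∀ i, i < 3223 → P i := stepQ 3222 Q3222 (allL N3222 (tt N3222 F10147) (tt N3576 (iv F11229)) (tt N3222 F10148) (tt N3155 (iv F10604)) (tt N3222 F10149) (tt N3554 (iv F11167)) (tt N2217 (iv D3285)) (tt N3553 F11168))
theorem Q3224 : ∀ i, i < 3224 → P i := stepQ 3223 Q3223 (allL N3223 (tt N2220 F10150) (tt N4492 (iv F14116)) (tt N4071 (iv F12823)) (tt N4494 D4557) (tt N2219 F10151) (tt N4199 (iv F13186)) (tt N4495 D4558) (tt N2218 (iv D3286)))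
theorem Q3225 : ∀ i, i < 3225 → P i := stepQ 3224 Q3224 (allL N3224 (tt N2221 F10152) (tt N4493 (iv F14121)) (tt N4491 (iv F14112)) (tt N2228 F10153) (tt N4495 (iv F14127)) (tt N4254 (iv F13362)) (tt N2219 (iv D3287)) (tt N4253 F13360))
theorem Q3226 : ∀ i, i < 3226 → P i := stepQ 3225 Q3225 (allL N3225 (tt N4494 (iv F14123)) (tt N3225 F10154) (tt N4273 (iv F13420)) (tt N2220 (iv D3288)) (tt N2229 F10155) (tt N4201 (iv F13191)) (tt N4496 D4559) (tt N3225 F10156))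
theorem Q3227 : ∀ i, i < 3227 → P i := stepQ 3226 Q3226 (allL N3226 (tt N4495 (iv F14126)) (tt N3226 F10157) (tt N4079 (iv F12849)) (tt N4496 (iv F14130)) (tt N2221 F10158) (tt N4256 (iv F13370)) (tt N2220 (iv D3289)) (tt N2408 F10159))
theorem Q3228 : ∀ i, i < 3228 → P i := stepQ 3227 Q3227 (allL N3227 (tt N3227 F10160) (tt N3227 F10161) (tt N2223 F10162) (tt N4497 D4560) (tt N2222 (iv D3290)) (tt N4498 D4561) (tt N3227 F10163) (tt N4499 D4562))
theorem Q3229 : ∀ i, i < 3229 → P i := stepQ 3228 Q3228 (allL N3228 (tt N3228 F10164) (tt N3439 (iv F10773)) (tt N2224 F10165) (tt N3228 F10166) (tt N4498 (iv F14140)) (tt N2222 (iv D3291)) (tt N4500 D4563) (tt N3426 F10733))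
theorem Q3230 : ∀ i, i < 3230 → P i := stepQ 3229 Q3229 (allL N3229 (tt N3229 F10167) (tt N3229 F10168) (tt N2225 F10169) (tt N3397 (iv F10636)) (tt N4499 (iv F14144)) (tt N3426 (iv F10732)) (tt N4501 D4564) (tt N2222 (iv D3292)))
theorem Q3231 : ∀ i, i < 3231 → P i := stepQ 3230 Q3230 (allL N3230 (tt N3230 F10170) (tt N4206 (iv F13205)) (tt N4498 (iv F14139)) (tt N3230 F10171) (tt N2224 F10172) (tt N2223 (iv D3293)) (tt N4502 D4565) (tt N4503 D4566))
theorem Q3232 : ∀ i, i < 3232 → P i := stepQ 3231 Q3231 (allL N3231 (tt N3231 F10173) (tt N2227 F10174) (tt N4499 (iv F14143)) (tt N4504 D4567) (tt N2225 F10175) (tt N4503 (iv F14161)) (tt N4505 D4568) (tt N2223 (iv D3294)))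
theorem Q3233 : ∀ i, i < 3233 → P i := stepQ 3232 Q3232 (allL N3232 (tt N3232 F10176) (tt N4208 (iv F13212)) (tt N4500 (iv F14148)) (tt N2226 F10177) (tt N4502 (iv F14157)) (tt N3232 F10178) (tt N2224 (iv D3295)) (tt N4506 D4569))
theorem Q3234 : ∀ i, i < 3234 → P i := stepQ 3233 Q3233 (allL N3233 (tt N3233 F10179) (tt N4209 (iv F13216)) (tt N3426 (iv F10731)) (tt N3424 F10725) (tt N4503 (iv F14160)) (tt N2225 F10180) (tt N4507 D4570) (tt N2224 (iv D3296)))
theorem Q3235 : ∀ i, i < 3235 → P i := stepQ 3234 Q3234 (allL N3234 (tt N3234 F10181) (tt N2228 F10182) (tt N4501 (iv F14153)) (tt N4493 (iv F14122)) (tt N4505 (iv F14168)) (tt N4508 D4571) (tt N2225 (iv D3297)) (tt N3234 F10183))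
theorem Q3236 : ∀ i, i < 3236 → P i := stepQ 3235 Q3235 (allL N3235 (tt N3235 F10184) (tt N3575 (iv F11224)) (tt N3235 F10185) (tt N4383 (iv F13741)) (tt N3235 F10186) (tt N3235 F10187) (tt N3553 (iv F11169)) (tt N2226 (iv D3298)))
theorem Q3237 : ∀ i, i < 3237 → P i := stepQ 3236 Q3236 (allL N3236 (tt N2229 F10188) (tt N4504 (iv F14163)) (tt N4509 D4572) (tt N2227 (iv D3299)) (tt N4494 (iv F14124)) (tt N4211 (iv F13222)) (tt N4510 D4573) (tt N3236 F10189))
theorem Q3238 : ∀ i, i < 3238 → P i := stepQ 3237 Q3237 (allL N3237 (tt N2230 F10190) (tt N4505 (iv F14167)) (tt N3237 F10191) (tt N4510 (iv F14180)) (tt N2228 F10192) (tt N4511 D4574) (tt N2227 (iv D3300)) (tt N3237 F10193))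
theorem Q3239 : ∀ i, i < 3239 → P i := stepQ 3238 Q3238 (allL N3238 (tt N2231 F10194) (tt N4512 D4575) (tt N3238 F10195) (tt N4254 F13363) (tt N4511 (iv F14183)) (tt N2228 (iv D3301)) (tt N4213 (iv F13230)) (tt N3238 F10196))
theorem Q3240 : ∀ i, i < 3240 → P i := stepQ 3239 Q3239 (allL N3239 (tt N4509 (iv F14175)) (tt N4378 (iv F13722)) (tt N2229 (iv D3302)) (tt N3239 F10197) (tt N4273 F13422) (tt N4214 (iv F13234)) (tt N4513 D4576) (tt N3239 F10198))
theorem Q3241 : ∀ i, i < 3241 → P i := stepQ 3240 Q3240 (allL N3240 (tt N4510 (iv F14179)) (tt N3240 F10199) (tt N4513 (iv F14186)) (tt N2230 F10200) (tt N4496 (iv F14131)) (tt N4514 D4577) (tt N2229 (iv D3303)) (tt N4515 D4578))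
theorem Q3242 : ∀ i, i < 3242 → P i := stepQ 3241 Q3241 (allL N3241 (tt N4511 (iv F14181)) (tt N4280 (iv F13441)) (tt N3241 F10201) (tt N4514 (iv F14188)) (tt N2231 F10202) (tt N2230 (iv D3304)) (tt N4216 (iv F13240)) (tt N3241 F10203))
theorem Q3243 : ∀ i, i < 3243 → P i := stepQ 3242 Q3242 (allL N3242 (tt N2314 F10204) (tt N4385 (iv F13749)) (tt N4516 D4579) (tt N2232 (iv D3305)) (tt N4517 D4580) (tt N3579 (iv F11241)) (tt N4518 D4581) (tt N3555 (iv F11142)))
theorem Q3244 : ∀ i, i < 3244 → P i := stepQ 3243 Q3243 (allL N3243 (tt N2315 F10205) (tt N4386 (iv F13751)) (tt N2238 F10206) (tt N4518 (iv F14200)) (tt N2236 F10207) (tt N4519 D4582) (tt N2232 (iv D3306)) (tt N3243 F10208))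
theorem Q3245 : ∀ i, i < 3245 → P i := stepQ 3244 Q3244 (allL N3244 (tt N2233 (iv D3307)) (tt N2316 F10209) (tt N4283 (iv F13449)) (tt N3244 F10210) (tt N2618 F10211) (tt N4387 (iv F13758)) (tt N3508 (iv F11002)) (tt N4520 D4583))
theorem Q3246 : ∀ i, i < 3246 → P i := stepQ 3245 Q3245 (allL N3245 (tt N4520 (iv F14205)) (tt N2234 F10212) (tt N4284 (iv F13452)) (tt N4521 D4584) (tt N3574 (iv F11223)) (tt N4389 (iv F13762)) (tt N4522 D4585) (tt N2233 (iv D3308)))
theorem Q3247 : ∀ i, i < 3247 → P i := stepQ 3246 Q3246 (allL N3246 (tt N2318 F10213) (tt N4521 (iv F14210)) (tt N3748 (iv F11774)) (tt N2234 (iv D3309)) (tt N3749 (iv F11780)) (tt N2235 F10214) (tt N4523 D4586) (tt N3246 F10215))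
theorem Q3248 : ∀ i, i < 3248 → P i := stepQ 3247 Q3247 (allL N3247 (tt N2319 F10216) (tt N4522 (iv F14213)) (tt N2240 F10217) (tt N4523 (iv F14215)) (tt N3580 (iv F11245)) (tt N4524 D4587) (tt N2234 (iv D3310)) (tt N3639 (iv F11415)))
theorem Q3249 : ∀ i, i < 3249 → P i := stepQ 3248 Q3248 (allL N3248 (tt N2320 F10218) (tt N4525 D4588) (tt N2235 (iv D3311)) (tt N2241 F10219) (tt N3746 (iv F11763)) (tt N3748 (iv F11777)) (tt N4526 D4589) (tt N3248 F10220))
theorem Q3250 : ∀ i, i < 3250 → P i := stepQ 3249 Q3249 (allL N3249 (tt N2321 F10221) (tt N4394 (iv F13775)) (tt N3746 (iv F11761)) (tt N4517 (iv F14197)) (tt N2235 (iv D3312)) (tt N3749 (iv F11781)) (tt N4527 D4590) (tt N3249 F10222))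
theorem Q3251 : ∀ i, i < 3251 → P i := stepQ 3250 Q3250 (allL N3250 (tt N2322 F10223) (tt N4395 (iv F13778)) (tt N4526 (iv F14224)) (tt N2236 F10224) (tt N4527 (iv F14227)) (tt N4528 D4591) (tt N2235 (iv D3313)) (tt N4529 D4592))
theorem Q3252 : ∀ i, i < 3252 → P i := stepQ 3251 Q3251 (allL N3251 (tt N2323 F10225) (tt N4530 D4593) (tt N2243 F10226) (tt N4528 (iv F14229)) (tt N4519 (iv F14203)) (tt N2236 (iv D3314)) (tt N4524 (iv F14218)) (tt N3251 F10227))
theorem Q3253 : ∀ i, i < 3253 → P i := stepQ 3252 Q3252 (allL N3252 (tt N2324 F10228) (tt N4531 D4594) (tt N2237 (iv D3315)) (tt N4516 (iv F14194)) (tt N3808 (iv F11983)) (tt N3796 (iv F11950)) (tt N4532 D4595) (tt N2310 F10229))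
theorem Q3254 : ∀ i, i < 3254 → P i := stepQ 3253 Q3253 (allL N3253 (tt N2325 F10230) (tt N2247 F10231) (tt N4532 (iv F14237)) (tt N2238 F10232) (tt N3590 (iv F11276)) (tt N4533 D4596) (tt N2237 (iv D3316)) (tt N3588 (iv F11270)))
theorem Q3255 : ∀ i, i < 3255 → P i := stepQ 3254 Q3254 (allL N3254 (tt N2326 F10233) (tt N4534 D4597) (tt N4519 (iv F14202)) (tt N4533 (iv F14239)) (tt N2243 F10234) (tt N2238 (iv D3317)) (tt N3799 (iv F11960)) (tt N3254 F10235))
theorem Q3256 : ∀ i, i < 3256 → P i := stepQ 3255 Q3255 (allL N3255 (tt N2327 F10236) (tt N4187 (iv F13149)) (tt N2239 (iv D3318)) (tt N3748 (iv F11775)) (tt N3883 (iv F12226)) (tt N2241 F10237) (tt N4535 D4598) (tt N2244 F10238))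
theorem Q3257 : ∀ i, i < 3257 → P i := stepQ 3256 Q3256 (allL N3256 (tt N2328 F10239) (tt N4295 (iv F13476)) (tt N4535 (iv F14244)) (tt N2240 F10240) (tt N3887 (iv F12242)) (tt N4536 D4599) (tt N2239 (iv D3319)) (tt N3256 F10241))
theorem Q3258 : ∀ i, i < 3258 → P i := stepQ 3257 Q3257 (allL N3257 (tt N2329 F10242) (tt N4537 D4600) (tt N4524 (iv F14217)) (tt N4536 (iv F14247)) (tt N3799 (iv F11959)) (tt N2240 (iv D3320)) (tt N2243 F10243) (tt N3867 (iv F12178)))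
theorem Q3259 : ∀ i, i < 3259 → P i := stepQ 3258 Q3258 (allL N3258 (tt N4538 D4601) (tt N2241 (iv D3321)) (tt N2249 F10244) (tt N4525 (iv F14220)) (tt N3882 (iv F12222)) (tt N4539 D4602) (tt N4540 D4603) (tt N2245 F10245))
theorem Q3260 : ∀ i, i < 3260 → P i := stepQ 3259 Q3259 (allL N3259 (tt N2331 F10246) (tt N4540 (iv F14261)) (tt N2242 F10247) (tt N4526 (iv F14225)) (tt N3657 (iv F11466)) (tt N4541 D4604) (tt N2241 (iv D3322)) (tt N3655 (iv F11460)))
theorem Q3261 : ∀ i, i < 3261 → P i := stepQ 3260 Q3260 (allL N3260 (tt N2332 F10248) (tt N4542 D4605) (tt N4541 (iv F14264)) (tt N2243 F10249) (tt N3660 (iv F11477)) (tt N2242 (iv D3323)) (tt N4536 (iv F14248)) (tt N3658 (iv F11472)))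
theorem Q3262 : ∀ i, i < 3262 → P i := stepQ 3261 Q3261 (allL N3261 (tt N4543 D4606) (tt N2243 (iv D3324)) (tt N4544 D4607) (tt N4542 (iv F14265)) (tt N4534 (iv F14240)) (tt N2252 F10250) (tt N4537 (iv F14250)) (tt N3261 F10251))
theorem Q3263 : ∀ i, i < 3263 → P i := stepQ 3262 Q3262 (allL N3262 (tt N3497 (iv F10957)) (tt N2244 (iv D3325)) (tt N4303 (iv F13495)) (tt N3262 F10252) (tt N3491 F10944) (tt N4545 D4608) (tt N3262 F10253) (tt N4187 (iv F13152)))
theorem Q3264 : ∀ i, i < 3264 → P i := stepQ 3263 Q3263 (allL N3263 (tt N2245 (iv D3326)) (tt N2335 F10254) (tt N2253 F10255) (tt N3263 F10256) (tt N3878 (iv F12211)) (tt N4546 D4609) (tt N3876 F12205) (tt N4538 (iv F14254)))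
theorem Q3265 : ∀ i, i < 3265 → P i := stepQ 3264 Q3264 (allL N3264 (tt N4546 (iv F14279)) (tt N4545 (iv F14276)) (tt N2254 F10257) (tt N3264 F10258) (tt N3881 (iv F12219)) (tt N2245 (iv D3327)) (tt N4547 D4610) (tt N4539 (iv F14260)))
theorem Q3266 : ∀ i, i < 3266 → P i := stepQ 3265 Q3265 (allL N3265 (tt N4548 D4611) (tt N2246 (iv D3328)) (tt N4531 (iv F14234)) (tt N4429 (iv F13894)) (tt N4237 (iv F13301)) (tt N4549 D4612) (tt N4550 D4613) (tt N2311 F10259))
theorem Q3267 : ∀ i, i < 3267 → P i := stepQ 3266 Q3266 (allL N3266 (tt N2270 F10260) (tt N4550 (iv F14291)) (tt N2247 F10261) (tt N4430 (iv F13899)) (tt N4030 (iv F12701)) (tt N4551 D4614) (tt N2246 (iv D3329)) (tt N4028 (iv F12695)))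
theorem Q3268 : ∀ i, i < 3268 → P i := stepQ 3267 Q3267 (allL N3267 (tt N2271 F10262) (tt N4552 D4615) (tt N4551 (iv F14293)) (tt N2248 F10263) (tt N4033 (iv F12713)) (tt N2247 (iv D3330)) (tt N4310 (iv F13518)) (tt N4031 (iv F12707)))
theorem Q3269 : ∀ i, i < 3269 → P i := stepQ 3268 Q3268 (allL N3268 (tt N4553 D4616) (tt N2248 (iv D3331)) (tt N4554 D4617) (tt N4552 (iv F14294)) (tt N2252 F10264) (tt N4534 (iv F14241)) (tt N4311 (iv F13521)) (tt N3268 F10265))
theorem Q3270 : ∀ i, i < 3270 → P i := stepQ 3269 Q3269 (allL N3269 (tt N2249 (iv D3332)) (tt N2273 F10266) (tt N4538 (iv F14252)) (tt N4435 (iv F13915)) (tt N4327 (iv F13563)) (tt N4555 D4618) (tt N4556 D4619) (tt N2253 F10267))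
theorem Q3271 : ∀ i, i < 3271 → P i := stepQ 3270 Q3270 (allL N3270 (tt N4555 (iv F14300)) (tt N4314 (iv F13530)) (tt N4539 (iv F14258)) (tt N4437 (iv F13920)) (tt N4331 (iv F13572)) (tt N2249 (iv D3333)) (tt N4557 D4620) (tt N2254 F10268))
theorem Q3272 : ∀ i, i < 3272 → P i := stepQ 3271 Q3271 (allL N3271 (tt N4556 (iv F14304)) (tt N2250 F10269) (tt N4540 (iv F14262)) (tt N4438 (iv F13923)) (tt N4135 (iv F12990)) (tt N4558 D4621) (tt N2249 (iv D3334)) (tt N4132 (iv F12987)))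
theorem Q3273 : ∀ i, i < 3273 → P i := stepQ 3272 Q3272 (allL N3272 (tt N2275 F10270) (tt N4559 D4622) (tt N2251 F10271) (tt N4342 F13612) (tt N4138 (iv F12998)) (tt N2250 (iv D3335)) (tt N3314 (iv F10387)) (tt N3197 F10272))
theorem Q3274 : ∀ i, i < 3274 → P i := stepQ 3273 Q3273 (allL N3273 (tt N3211 F10273) (tt N2251 (iv D3336)) (tt N4560 D4623) (tt N2252 F10274) (tt N4141 (iv F13004)) (tt N4542 (iv F14266)) (tt N3325 (iv F10427)) (tt N3201 F10275))
theorem Q3275 : ∀ i, i < 3275 → P i := stepQ 3274 Q3274 (allL N3274 (tt N2252 (iv D3337)) (tt N2276 F10276) (tt N4561 D4624) (tt N3211 F10277) (tt N4553 (iv F14296)) (tt N4543 (iv F14271)) (tt N3340 (iv F10469)) (tt N3274 F10278))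
theorem Q3276 : ∀ i, i < 3276 → P i := stepQ 3275 Q3275 (allL N3275 (tt N4561 (iv F14309)) (tt N4440 (iv F13929)) (tt N2252 (iv D3338)) (tt N4562 D4625) (tt N4554 (iv F14298)) (tt N4544 (iv F14273)) (tt N4317 (iv F13538)) (tt N3275 F10279))
theorem Q3277 : ∀ i, i < 3277 → P i := stepQ 3276 Q3276 (allL N3276 (tt N2254 F10280) (tt N4563 D4626) (tt N4546 (iv F14281)) (tt N2256 F10281) (tt N4326 (iv F13560)) (tt N2253 (iv D3339)) (tt N4564 D4627) (tt N4555 (iv F14303)))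
theorem Q3278 : ∀ i, i < 3278 → P i := stepQ 3277 Q3277 (allL N3277 (tt N4564 (iv F14315)) (tt N4321 (iv F13548)) (tt N4547 (iv F14284)) (tt N2261 F10282) (tt N4329 (iv F13569)) (tt N4328 (iv F13568)) (tt N2254 (iv D3340)) (tt N4565 D4628))
theorem Q3279 : ∀ i, i < 3279 → P i := stepQ 3278 Q3278 (allL N3278 (tt N2258 F10283) (tt N2280 F10284) (tt N4566 D4629) (tt N2255 (iv D3341)) (tt N4319 (iv F13544)) (tt N4567 D4630) (tt N3291 (iv F10314)) (tt N4568 D4631))
theorem Q3280 : ∀ i, i < 3280 → P i := stepQ 3279 Q3279 (allL N3279 (tt N2259 F10285) (tt N4569 D4632) (tt N3279 F10286) (tt N4567 (iv F14321)) (tt N2256 F10287) (tt N2255 (iv D3342)) (tt N4570 D4633) (tt N3180 F10288))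
theorem Q3281 : ∀ i, i < 3281 → P i := stepQ 3280 Q3280 (allL N3280 (tt N4324 (iv F13556)) (tt N2256 (iv D3343)) (tt N4571 D4634) (tt N4563 (iv F14312)) (tt N4569 (iv F14325)) (tt N2282 F10289) (tt N4572 D4635) (tt N4449 (iv F13963)))
theorem Q3282 : ∀ i, i < 3282 → P i := stepQ 3281 Q3281 (allL N3281 (tt N2261 F10290) (tt N4572 (iv F14334)) (tt N3281 F10291) (tt N4564 (iv F14316)) (tt N4570 (iv F14330)) (tt N4573 D4636) (tt N2256 (iv D3344)) (tt N4574 D4637))
theorem Q3283 : ∀ i, i < 3283 → P i := stepQ 3282 Q3282 (allL N3282 (tt N2262 F10292) (tt N4575 D4638) (tt N3282 F10293) (tt N4323 (iv F13554)) (tt N3290 (iv F10309)) (tt N2257 (iv D3345)) (tt N4573 (iv F14337)) (tt N3287 (iv F10303)))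
theorem Q3284 : ∀ i, i < 3284 → P i := stepQ 3283 Q3283 (allL N3283 (tt N4566 (iv F14317)) (tt N2266 F10294) (tt N2258 (iv D3346)) (tt N3283 F10295) (tt N4307 (iv F13506)) (tt N4576 D4639) (tt N4305 F13502) (tt N4577 D4640))
theorem Q3285 : ∀ i, i < 3285 → P i := stepQ 3284 Q3284 (allL N3284 (tt N4567 (iv F14320)) (tt N2262 F10296) (tt N4576 (iv F14343)) (tt N2259 F10297) (tt N4322 (iv F13552)) (tt N2258 (iv D3347)) (tt N4578 D4641) (tt N4579 D4642))
theorem Q3286 : ∀ i, i < 3286 → P i := stepQ 3285 Q3285 (allL N3285 (tt N4568 (iv F14322)) (tt N2264 F10298) (tt N4577 (iv F14346)) (tt N4453 (iv F13978)) (tt N3315 (iv F10388)) (tt N4579 (iv F14351)) (tt N4580 D4643) (tt N2258 (iv D3348)))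
theorem Q3287 : ∀ i, i < 3287 → P i := stepQ 3286 Q3286 (allL N3286 (tt N4570 (iv F14328)) (tt N4328 (iv F13565)) (tt N3286 F10299) (tt N4578 (iv F14348)) (tt N2261 F10300) (tt N4581 D4644) (tt N2259 (iv D3349)) (tt N4582 D4645))
theorem Q3288 : ∀ i, i < 3288 → P i := stepQ 3287 Q3287 (allL N3287 (tt N3290 (iv F10307)) (tt N4322 (iv F13550)) (tt N3287 F10301) (tt N4320 (iv F13546)) (tt N2262 F10302) (tt N2260 (iv D3350)) (tt N4581 (iv F14355)) (tt N3282 F10303))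
theorem Q3289 : ∀ i, i < 3289 → P i := stepQ 3288 Q3288 (allL N3288 (tt N4573 (iv F14335)) (tt N4578 (iv F14347)) (tt N3288 F10304) (tt N4328 (iv F13566)) (tt N4581 (iv F14354)) (tt N2261 (iv D3351)) (tt N2262 F10305) (tt N4583 D4646))
theorem Q3290 : ∀ i, i < 3290 → P i := stepQ 3289 Q3289 (allL N3289 (tt N4574 (iv F14338)) (tt N4330 (iv F13571)) (tt N3289 F10306) (tt N4584 D4647) (tt N4582 (iv F14357)) (tt N4583 (iv F14359)) (tt N4456 (iv F13988)) (tt N2261 (iv D3352)))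
theorem Q3291 : ∀ i, i < 3291 → P i := stepQ 3290 Q3290 (allL N3290 (tt N3287 F10307) (tt N4579 (iv F14349)) (tt N3290 F10308) (tt N4585 D4648) (tt N3282 F10309) (tt N2263 F10310) (tt N4586 D4649) (tt N2262 (iv D3353)))
theorem Q3292 : ∀ i, i < 3292 → P i := stepQ 3291 Q3291 (allL N3291 (tt N3073 F10311) (tt N2265 F10312) (tt N4587 D4650) (tt N2263 (iv D3354)) (tt N3072 F10313) (tt N4585 (iv F14362)) (tt N3278 F10314) (tt N4130 (iv F12981)))
theorem Q3293 : ∀ i, i < 3293 → P i := stepQ 3292 Q3292 (allL N3292 (tt N2290 F10315) (tt N4580 (iv F14352)) (tt N2268 F10316) (tt N4458 (iv F13993)) (tt N3313 (iv F10381)) (tt N3310 (iv F10376)) (tt N2264 (iv D3355)) (tt N4316 (iv F13537)))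
theorem Q3294 : ∀ i, i < 3294 → P i := stepQ 3293 Q3293 (allL N3293 (tt N3293 F10317) (tt N4577 (iv F14345)) (tt N2267 F10318) (tt N4588 D4651) (tt N3327 (iv F10435)) (tt N3293 F10319) (tt N4589 D4652) (tt N2266 (iv D3356)))
theorem Q3295 : ∀ i, i < 3295 → P i := stepQ 3294 Q3294 (allL N3294 (tt N3294 F10320) (tt N2268 F10321) (tt N4589 (iv F14377)) (tt N3294 F10322) (tt N3326 (iv F10431)) (tt N4590 D4653) (tt N2267 (iv D3357)) (tt N4300 (iv F13491)))
theorem Q3296 : ∀ i, i < 3296 → P i := stepQ 3295 Q3295 (allL N3295 (tt N2269 (iv D3358)) (tt N4548 (iv F14286)) (tt N2359 F10323) (tt N2810 F10324) (tt N2958 F10325) (tt N2809 F10326) (tt N4591 D4654) (tt N2312 F10327))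
theorem Q3297 : ∀ i, i < 3297 → P i := stepQ 3296 Q3296 (allL N3296 (tt N4591 (iv F14381)) (tt N2270 F10328) (tt N2360 F10329) (tt N2813 F10330) (tt N2967 F10331) (tt N4077 (iv F12842)) (tt N2269 (iv D3359)) (tt N4050 (iv F12758)))
theorem Q3298 : ∀ i, i < 3298 → P i := stepQ 3297 Q3297 (allL N3297 (tt N4551 (iv F14292)) (tt N4592 D4655) (tt N2271 F10332) (tt N4464 (iv F14009)) (tt N4055 (iv F12770)) (tt N2270 (iv D3360)) (tt N4333 (iv F13580)) (tt N4054 (iv F12768)))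
theorem Q3299 : ∀ i, i < 3299 → P i := stepQ 3298 Q3298 (allL N3298 (tt N4593 D4656) (tt N2271 (iv D3361)) (tt N4594 D4657) (tt N2272 F10333) (tt N2799 F10334) (tt N2362 F10335) (tt N3344 (iv F10484)) (tt N2798 F10336))
theorem Q3300 : ∀ i, i < 3300 → P i := stepQ 3299 Q3299 (allL N3299 (tt N2272 (iv D3362)) (tt N4553 (iv F14295)) (tt N4595 D4658) (tt N4593 (iv F14385)) (tt N2276 F10337) (tt N2363 F10338) (tt N3342 (iv F10477)) (tt N3299 F10339))
theorem Q3301 : ∀ i, i < 3301 → P i := stepQ 3300 Q3300 (allL N3300 (tt N4595 (iv F14392)) (tt N4377 (iv F13717)) (tt N2272 (iv D3363)) (tt N4596 D4659) (tt N2277 F10340) (tt N2364 F10341) (tt N3345 (iv F10488)) (tt N3300 F10342))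
theorem Q3302 : ∀ i, i < 3302 → P i := stepQ 3301 Q3301 (allL N3301 (tt N2274 F10343) (tt N4556 (iv F14305)) (tt N2365 F10344) (tt N4467 (iv F14025)) (tt N4124 (iv F12964)) (tt N4123 (iv F12960)) (tt N2273 (iv D3364)) (tt N4155 (iv F13062)))
theorem Q3303 : ∀ i, i < 3303 → P i := stepQ 3302 Q3302 (allL N3302 (tt N4597 D4660) (tt N2275 (iv D3365)) (tt N2922 F10345) (tt N2289 F10346) (tt N4151 (iv F13042)) (tt N2920 F10347) (tt N3099 F10348) (tt N2935 F10349))
theorem Q3304 : ∀ i, i < 3304 → P i := stepQ 3303 Q3303 (allL N3303 (tt N2277 F10350) (tt N4598 D4661) (tt N2276 (iv D3366)) (tt N4599 D4662) (tt N4595 (iv F14393)) (tt N2369 F10351) (tt N3341 (iv F10473)) (tt N3303 F10352))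
theorem Q3305 : ∀ i, i < 3305 → P i := stepQ 3304 Q3304 (allL N3304 (tt N4599 (iv F14403)) (tt N2308 F10353) (tt N2924 F10354) (tt N2277 (iv D3367)) (tt N4600 D4663) (tt N2370 F10355) (tt N3123 F10356) (tt N2402 (iv F10357)))
theorem Q3306 : ∀ i, i < 3306 → P i := stepQ 3305 Q3305 (allL N3305 (tt N4335 (iv F13586)) (tt N2278 (iv D3368)) (tt N4601 D4664) (tt N2282 F10358) (tt N4343 (iv F13613)) (tt N4563 (iv F14313)) (tt N4602 D4665) (tt N4445 F13949))
theorem Q3307 : ∀ i, i < 3307 → P i := stepQ 3306 Q3306 (allL N3306 (tt N2279 F10359) (tt N4602 (iv F14417)) (tt N2372 F10360) (tt N2283 F10361) (tt N4341 (iv F13606)) (tt N4338 (iv F13599)) (tt N2278 (iv D3369)) (tt N4439 (iv F13928)))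
theorem Q3308 : ∀ i, i < 3308 → P i := stepQ 3307 Q3307 (allL N3307 (tt N2285 F10362) (tt N4603 D4666) (tt N3307 F10363) (tt N2281 F10364) (tt N3308 (iv F10369)) (tt N2280 (iv D3370)) (tt N4604 D4667) (tt N3090 F10365))
theorem Q3309 : ∀ i, i < 3309 → P i := stepQ 3308 Q3308 (allL N3308 (tt N2286 F10366) (tt N4568 (iv F14323)) (tt N3308 F10367) (tt N3095 F10368) (tt N3307 F10369) (tt N3090 F10370) (tt N4605 D4668) (tt N2280 (iv D3371)))
theorem Q3310 : ∀ i, i < 3310 → P i := stepQ 3309 Q3309 (allL N3309 (tt N4337 (iv F13591)) (tt N2281 (iv D3372)) (tt N4606 D4669) (tt N4603 (iv F14420)) (tt N2282 F10371) (tt N4569 (iv F14326)) (tt N4607 D4670) (tt N3182 F10372))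
theorem Q3311 : ∀ i, i < 3311 → P i := stepQ 3310 Q3310 (allL N3310 (tt N2287 F10373) (tt N4607 (iv F14437)) (tt N2292 F10374) (tt N4604 (iv F14425)) (tt N2283 F10375) (tt N3292 F10376) (tt N2281 (iv D3373)) (tt N4608 D4671))
theorem Q3312 : ∀ i, i < 3312 → P i := stepQ 3311 Q3311 (allL N3311 (tt N4339 (iv F13600)) (tt N2293 F10377) (tt N2282 (iv D3374)) (tt N4609 D4672) (tt N4606 (iv F14435)) (tt N4571 (iv F14333)) (tt N4610 D4673) (tt N4470 (iv F14040)))
theorem Q3313 : ∀ i, i < 3313 → P i := stepQ 3312 Q3312 (allL N3312 (tt N4340 (iv F13602)) (tt N2283 F10378) (tt N4610 (iv F14449)) (tt N4602 (iv F14418)) (tt N4607 (iv F14438)) (tt N4611 D4674) (tt N2282 (iv D3375)) (tt N4612 D4675))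
theorem Q3314 : ∀ i, i < 3314 → P i := stepQ 3313 Q3313 (allL N3313 (tt N2288 F10379) (tt N4613 D4676) (tt N2295 F10380) (tt N4338 (iv F13597)) (tt N3292 F10381) (tt N2283 (iv D3376)) (tt N2284 F10382) (tt N3069 (iv F10383)))
theorem Q3315 : ∀ i, i < 3315 → P i := stepQ 3314 Q3314 (allL N3314 (tt N2289 F10384) (tt N4612 (iv F14450)) (tt N2296 F10385) (tt N4597 (iv F14398)) (tt N4608 (iv F14441)) (tt N3069 F10386) (tt N3272 F10387) (tt N2283 (iv D3377)))
theorem Q3316 : ∀ i, i < 3316 → P i := stepQ 3315 Q3315 (allL N3315 (tt N4603 (iv F14419)) (tt N2284 (iv D3378)) (tt N4614 D4677) (tt N4337 (iv F13592)) (tt N3285 F10388) (tt N4575 (iv F14340)) (tt N4613 (iv F14453)) (tt N3075 F10389))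
theorem Q3317 : ∀ i, i < 3317 → P i := stepQ 3316 Q3316 (allL N3316 (tt N4604 (iv F14423)) (tt N2288 F10390) (tt N3316 F10391) (tt N2287 F10392) (tt N3317 (iv F10398)) (tt N3198 F10393) (tt N2285 (iv D3379)) (tt N3087 F10394))
theorem Q3318 : ∀ i, i < 3318 → P i := stepQ 3317 Q3317 (allL N3317 (tt N4605 (iv F14428)) (tt N2290 F10395) (tt N3317 F10396) (tt N3098 F10397) (tt N3316 F10398) (tt N3091 F10399) (tt N2286 (iv D3380)) (tt N2936 F10400))
theorem Q3319 : ∀ i, i < 3319 → P i := stepQ 3318 Q3318 (allL N3318 (tt N4608 (iv F14439)) (tt N4344 (iv F13615)) (tt N2298 F10401) (tt N4153 (iv F13051)) (tt N2289 F10402) (tt N3088 F10403) (tt N2938 F10404) (tt N2287 (iv D3381)))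
theorem Q3320 : ∀ i, i < 3320 → P i := stepQ 3319 Q3319 (allL N3319 (tt N2299 F10405) (tt N4606 (iv F14434)) (tt N2291 (iv D3382)) (tt N4615 D4678) (tt N2293 F10406) (tt N3319 F10407) (tt N4616 D4679) (tt N3183 F10408))
theorem Q3321 : ∀ i, i < 3321 → P i := stepQ 3320 Q3320 (allL N3320 (tt N2300 F10409) (tt N2292 F10410) (tt N4616 (iv F14462)) (tt N3320 F10411) (tt N2294 F10412) (tt N4617 D4680) (tt N2291 (iv D3383)) (tt N4618 D4681))
theorem Q3322 : ∀ i, i < 3322 → P i := stepQ 3321 Q3321 (allL N3321 (tt N2298 F10413) (tt N4618 (iv F14470)) (tt N4608 (iv F14440)) (tt N4619 D4682) (tt N2296 F10414) (tt N3070 F10415) (tt N2915 F10416) (tt N2292 (iv D3384)))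
theorem Q3323 : ∀ i, i < 3323 → P i := stepQ 3322 Q3322 (allL N3322 (tt N2302 F10417) (tt N4609 (iv F14444)) (tt N2382 F10418) (tt N2293 (iv D3385)) (tt N4620 D4683) (tt N3322 F10419) (tt N4621 D4684) (tt N4622 D4685))
theorem Q3324 : ∀ i, i < 3324 → P i := stepQ 3323 Q3323 (allL N3323 (tt N2303 F10420) (tt N4610 (iv F14448)) (tt N2294 F10421) (tt N4621 (iv F14483)) (tt N4616 (iv F14463)) (tt N4623 D4686) (tt N2293 (iv D3386)) (tt N4624 D4687))
theorem Q3325 : ∀ i, i < 3325 → P i := stepQ 3324 Q3324 (allL N3324 (tt N2304 F10422) (tt N4625 D4688) (tt N4623 (iv F14489)) (tt N2384 F10423) (tt N4617 (iv F14467)) (tt N2294 (iv D3387)) (tt N3324 F10424) (tt N4626 D4689))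
theorem Q3326 : ∀ i, i < 3326 → P i := stepQ 3325 Q3325 (allL N3325 (tt N2305 F10425) (tt N2296 F10426) (tt N4624 (iv F14492)) (tt N3071 (iv F10428)) (tt N4618 (iv F14471)) (tt N4626 (iv F14502)) (tt N3273 F10427) (tt N2294 (iv D3388)))
theorem Q3327 : ∀ i, i < 3327 → P i := stepQ 3326 Q3326 (allL N3326 (tt N3326 F10429) (tt N2295 (iv D3389)) (tt N4627 D4690) (tt N2386 F10430) (tt N3294 F10431) (tt N4625 (iv F14497)) (tt N2297 F10432) (tt N3058 F10433))
theorem Q3328 : ∀ i, i < 3328 → P i := stepQ 3327 Q3327 (allL N3327 (tt N3327 F10434) (tt N4614 (iv F14455)) (tt N2297 (iv D3390)) (tt N4628 D4691) (tt N3293 F10435) (tt N3327 F10436) (tt N4627 (iv F14506)) (tt N3063 F10437))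
theorem Q3329 : ∀ i, i < 3329 → P i := stepQ 3328 Q3328 (allL N3328 (tt N4619 (iv F14473)) (tt N2307 F10438) (tt N4154 (iv F13055)) (tt N2298 (iv D3391)) (tt N3085 F10439) (tt N3023 F10440) (tt N2856 F10441) (tt N3328 F10442))
theorem Q3330 : ∀ i, i < 3330 → P i := stepQ 3329 Q3329 (allL N3329 (tt N4615 (iv F14458)) (tt N4360 (iv F13676)) (tt N3329 F10443) (tt N2299 (iv D3392)) (tt N4629 D4692) (tt N3329 F10444) (tt N4630 D4693) (tt N4631 D4694))
theorem Q3331 : ∀ i, i < 3331 → P i := stepQ 3330 Q3330 (allL N3330 (tt N4616 (iv F14461)) (tt N4361 (iv F13677)) (tt N2300 F10445) (tt N4630 (iv F14515)) (tt N2303 F10446) (tt N4632 D4695) (tt N2299 (iv D3393)) (tt N4633 D4696))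
theorem Q3332 : ∀ i, i < 3332 → P i := stepQ 3331 Q3331 (allL N3331 (tt N4617 (iv F14464)) (tt N3331 F10447) (tt N4632 (iv F14518)) (tt N3331 F10448) (tt N2304 F10449) (tt N2300 (iv D3394)) (tt N3331 F10450) (tt N4634 D4697))
theorem Q3333 : ∀ i, i < 3333 → P i := stepQ 3332 Q3332 (allL N3332 (tt N4618 (iv F14469)) (tt N2301 F10451) (tt N4633 (iv F14521)) (tt N4635 D4698) (tt N2305 F10452) (tt N4634 (iv F14525)) (tt N4481 (iv F14086)) (tt N2300 (iv D3395)))
theorem Q3334 : ∀ i, i < 3334 → P i := stepQ 3333 Q3333 (allL N3333 (tt N2307 F10453) (tt N4635 (iv F14526)) (tt N4636 D4699) (tt N2301 (iv D3396)) (tt N4637 D4700) (tt N3333 F10454) (tt N3975 F12548) (tt N3333 F10455))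
theorem Q3335 : ∀ i, i < 3335 → P i := stepQ 3334 Q3334 (allL N3334 (tt N4620 (iv F14478)) (tt N4365 (iv F13686)) (tt N2393 F10456) (tt N4629 (iv F14512)) (tt N2302 (iv D3397)) (tt N3334 F10457) (tt N4638 D4701) (tt N4639 D4702))
theorem Q3336 : ∀ i, i < 3336 → P i := stepQ 3335 Q3335 (allL N3335 (tt N4621 (iv F14481)) (tt N4366 (iv F13688)) (tt N2394 F10458) (tt N2303 F10459) (tt N4638 (iv F14537)) (tt N4640 D4703) (tt N2302 (iv D3398)) (tt N4641 D4704))
theorem Q3337 : ∀ i, i < 3337 → P i := stepQ 3336 Q3336 (allL N3336 (tt N4622 (iv F14484)) (tt N4367 (iv F13691)) (tt N2395 F10460) (tt N4484 (iv F14092)) (tt N4639 (iv F14539)) (tt N3336 F10461) (tt N4642 D4705) (tt N2302 (iv D3399)))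
theorem Q3338 : ∀ i, i < 3338 → P i := stepQ 3337 Q3337 (allL N3337 (tt N4623 (iv F14488)) (tt N4643 D4706) (tt N2304 F10462) (tt N4640 (iv F14542)) (tt N4632 (iv F14519)) (tt N2303 (iv D3400)) (tt N3337 F10463) (tt N4644 D4707))
theorem Q3339 : ∀ i, i < 3339 → P i := stepQ 3338 Q3338 (allL N3338 (tt N4624 (iv F14491)) (tt N4369 (iv F13694)) (tt N2305 F10464) (tt N4645 D4708) (tt N4633 (iv F14522)) (tt N4644 (iv F14549)) (tt N4486 (iv F14097)) (tt N2303 (iv D3401)))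
theorem Q3340 : ∀ i, i < 3340 → P i := stepQ 3339 Q3339 (allL N3339 (tt N4626 (iv F14500)) (tt N3339 F10465) (tt N4644 (iv F14548)) (tt N4646 D4709) (tt N4634 (iv F14524)) (tt N2305 F10466) (tt N4647 D4710) (tt N2304 (iv D3402)))
theorem Q3341 : ∀ i, i < 3341 → P i := stepQ 3340 Q3340 (allL N3340 (tt N3071 F10467) (tt N2306 F10468) (tt N4648 D4711) (tt N2305 (iv D3403)) (tt N4649 D4712) (tt N4646 (iv F14552)) (tt N3274 F10469) (tt N2399 F10470))
theorem Q3342 : ∀ i, i < 3342 → P i := stepQ 3341 Q3341 (allL N3341 (tt N2308 F10471) (tt N4650 D4713) (tt N2306 (iv D3404)) (tt N4372 (iv F13702)) (tt N4651 D4714) (tt N3341 F10472) (tt N3303 F10473) (tt N2400 F10474))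
theorem Q3343 : ∀ i, i < 3343 → P i := stepQ 3342 Q3342 (allL N3342 (tt N2309 F10475) (tt N4649 (iv F14560)) (tt N4651 (iv F14566)) (tt N4637 (iv F14532)) (tt N2306 (iv D3405)) (tt N3342 F10476) (tt N3299 F10477) (tt N2401 F10478))
theorem Q3344 : ∀ i, i < 3344 → P i := stepQ 3343 Q3343 (allL N3343 (tt N4636 (iv F14528)) (tt N4652 D4715) (tt N2307 (iv D3406)) (tt N4375 (iv F13712)) (tt N4653 D4716) (tt N3343 F10479) (tt N3986 F12586) (tt N3343 F10480))
theorem Q3345 : ∀ i, i < 3345 → P i := stepQ 3344 Q3344 (allL N3344 (tt N4637 (iv F14531)) (tt N3085 F10481) (tt N4653 (iv F14571)) (tt N2309 F10482) (tt N2307 (iv D3407)) (tt N3344 F10483) (tt N3298 F10484) (tt N3344 F10485))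
theorem Q3346 : ∀ i, i < 3346 → P i := stepQ 3345 Q3345 (allL N3345 (tt N4651 (iv F14565)) (tt N4600 (iv F14408)) (tt N2309 F10486) (tt N4654 D4717) (tt N2308 (iv D3408)) (tt N3345 F10487) (tt N3300 F10488) (tt N2403 F10489))
theorem Q3347 : ∀ i, i < 3347 → P i := stepQ 3346 Q3346 (allL N3346 (tt N4655 D4718) (tt N2310 (iv D3409)) (tt N2311 F10490) (tt N3765 (iv F11841)) (tt N3807 (iv F11980)) (tt N4656 D4719) (tt N3805 F11976) (tt N4531 (iv F14235)))
theorem Q3348 : ∀ i, i < 3348 → P i := stepQ 3347 Q3347 (allL N3347 (tt N2311 (iv D3410)) (tt N2312 F10491) (tt N4655 (iv F14578)) (tt N3347 F10492) (tt N4233 (iv F13291)) (tt N4657 D4720) (tt N4231 F13287) (tt N4548 (iv F14289)))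
theorem Q3349 : ∀ i, i < 3349 → P i := stepQ 3348 Q3348 (allL N3348 (tt N4657 (iv F14580)) (tt N4382 (iv F13737)) (tt N4656 (iv F14579)) (tt N3348 F10493) (tt N4236 (iv F13297)) (tt N2311 (iv D3411)) (tt N4658 D4721) (tt N4549 (iv F14290)))
theorem Q3350 : ∀ i, i < 3350 → P i := stepQ 3349 Q3349 (allL N3349 (tt N2313 F10494) (tt N4659 D4722) (tt N2407 F10495) (tt N3349 F10496) (tt N2959 F10497) (tt N2312 (iv D3412)) (tt N4660 D4723) (tt N2809 F10498))
theorem Q3351 : ∀ i, i < 3351 → P i := stepQ 3350 Q3350 (allL N3350 (tt N4660 (iv F14587)) (tt N2815 F10499) (tt N2408 F10500) (tt N3350 F10501) (tt N2968 F10502) (tt N4247 (iv F13339)) (tt N2313 (iv D3413)) (tt N4079 (iv F12852)))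
theorem Q3352 : ∀ i, i < 3352 → P i := stepQ 3351 Q3351 (allL N3351 (tt N4516 (iv F14193)) (tt N4661 D4724) (tt N2314 (iv D3414)) (tt N2324 F10503) (tt N4662 D4725) (tt N3592 (iv F11285)) (tt N4663 D4726) (tt N3561 (iv F11172)))
theorem Q3353 : ∀ i, i < 3353 → P i := stepQ 3352 Q3352 (allL N3352 (tt N4517 (iv F14195)) (tt N3352 F10504) (tt N4662 (iv F14593)) (tt N2321 F10505) (tt N2314 (iv D3415)) (tt N3593 (iv F11289)) (tt N4664 D4727) (tt N3562 (iv F11176)))
theorem Q3354 : ∀ i, i < 3354 → P i := stepQ 3353 Q3353 (allL N3353 (tt N4518 (iv F14199)) (tt N3353 F10506) (tt N4663 (iv F14596)) (tt N2315 F10507) (tt N4664 (iv F14600)) (tt N3836 (iv F12070)) (tt N2314 (iv D3416)) (tt N3835 F12068))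
theorem Q3355 : ∀ i, i < 3355 → P i := stepQ 3354 Q3354 (allL N3354 (tt N4519 (iv F14201)) (tt N3847 (iv F12101)) (tt N2326 F10508) (tt N3836 F12071) (tt N2323 F10509) (tt N2315 (iv D3417)) (tt N3595 (iv F11294)) (tt N3354 F10510))
theorem Q3356 : ∀ i, i < 3356 → P i := stepQ 3355 Q3355 (allL N3355 (tt N2317 F10511) (tt N4520 (iv F14206)) (tt N3355 F10512) (tt N3213 (iv F10515)) (tt N2620 F10513) (tt N3355 F10514) (tt N4665 D4728) (tt N2316 (iv D3418)))
theorem Q3357 : ∀ i, i < 3357 → P i := stepQ 3356 Q3356 (allL N3356 (tt N4665 (iv F14602)) (tt N2319 F10516) (tt N3356 F10517) (tt N3719 F11663) (tt N2621 F10518) (tt N4666 D4729) (tt N2317 (iv D3419)) (tt N3524 (iv F11040)))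
theorem Q3358 : ∀ i, i < 3358 → P i := stepQ 3357 Q3357 (allL N3357 (tt N4523 (iv F14214)) (tt N3719 (iv F11659)) (tt N3716 F11648) (tt N2319 F10519) (tt N3718 (iv F11655)) (tt N4667 D4730) (tt N2318 (iv D3420)) (tt N4668 D4731))
theorem Q3359 : ∀ i, i < 3359 → P i := stepQ 3358 Q3358 (allL N3358 (tt N4524 (iv F14216)) (tt N4669 D4732) (tt N2329 F10520) (tt N4667 (iv F14610)) (tt N3595 (iv F11293)) (tt N2319 (iv D3421)) (tt N2323 F10521) (tt N3664 (iv F11494)))
theorem Q3360 : ∀ i, i < 3360 → P i := stepQ 3359 Q3359 (allL N3359 (tt N4526 (iv F14223)) (tt N3741 F11743) (tt N2322 F10522) (tt N2331 F10523) (tt N3743 (iv F11748)) (tt N4670 D4733) (tt N2320 (iv D3422)) (tt N4671 D4734))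
theorem Q3361 : ∀ i, i < 3361 → P i := stepQ 3360 Q3360 (allL N3360 (tt N4527 (iv F14226)) (tt N3360 F10524) (tt N3743 F11751) (tt N4664 (iv F14599)) (tt N2322 F10525) (tt N4672 D4735) (tt N2321 (iv D3423)) (tt N4673 D4736))
theorem Q3362 : ∀ i, i < 3362 → P i := stepQ 3361 Q3361 (allL N3361 (tt N4528 (iv F14228)) (tt N4674 D4737) (tt N4670 (iv F14620)) (tt N2323 F10526) (tt N4672 (iv F14630)) (tt N2322 (iv D3424)) (tt N4667 (iv F14612)) (tt N4675 D4738))
theorem Q3363 : ∀ i, i < 3363 → P i := stepQ 3362 Q3362 (allL N3362 (tt N4529 (iv F14230)) (tt N3362 F10527) (tt N4671 (iv F14625)) (tt N3362 F10528) (tt N4673 (iv F14636)) (tt N4675 (iv F14644)) (tt N3362 F10529) (tt N2322 (iv D3425)))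
theorem Q3364 : ∀ i, i < 3364 → P i := stepQ 3363 Q3363 (allL N3363 (tt N4676 D4739) (tt N2323 (iv D3426)) (tt N4677 D4740) (tt N4674 (iv F14639)) (tt N3847 F12104) (tt N3363 F10530) (tt N4669 (iv F14619)) (tt N3363 F10531))
theorem Q3365 : ∀ i, i < 3365 → P i := stepQ 3364 Q3364 (allL N3364 (tt N4678 D4741) (tt N2324 (iv D3427)) (tt N2337 F10532) (tt N4661 (iv F14592)) (tt N3827 (iv F12040)) (tt N4679 D4742) (tt N4680 D4743) (tt N2404 F10533))
theorem Q3366 : ∀ i, i < 3366 → P i := stepQ 3365 Q3365 (allL N3365 (tt N4532 (iv F14236)) (tt N4680 (iv F14655)) (tt N2325 F10534) (tt N4663 (iv F14597)) (tt N3610 (iv F11337)) (tt N4681 D4744) (tt N2324 (iv D3428)) (tt N3608 (iv F11334)))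
theorem Q3367 : ∀ i, i < 3367 → P i := stepQ 3366 Q3366 (allL N3366 (tt N4533 (iv F14238)) (tt N4682 D4745) (tt N4681 (iv F14657)) (tt N2326 F10535) (tt N3612 (iv F11346)) (tt N2325 (iv D3429)) (tt N3813 (iv F11998)) (tt N3611 (iv F11343)))
theorem Q3368 : ∀ i, i < 3368 → P i := stepQ 3367 Q3367 (allL N3367 (tt N4683 D4746) (tt N2326 (iv D3430)) (tt N4684 D4747) (tt N4682 (iv F14658)) (tt N2333 F10536) (tt N2340 F10537) (tt N3815 (iv F12008)) (tt N3367 F10538))
theorem Q3369 : ∀ i, i < 3369 → P i := stepQ 3368 Q3368 (allL N3368 (tt N4535 (iv F14243)) (tt N3715 F11642) (tt N2328 F10539) (tt N3716 (iv F11643)) (tt N3906 (iv F12322)) (tt N4685 D4748) (tt N2327 (iv D3431)) (tt N3368 F10540))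
theorem Q3370 : ∀ i, i < 3370 → P i := stepQ 3369 Q3369 (allL N3369 (tt N4536 (iv F14246)) (tt N4686 D4749) (tt N4685 (iv F14670)) (tt N2329 F10541) (tt N3699 (iv F11581)) (tt N2328 (iv D3432)) (tt N2332 F10542) (tt N3369 F10543))
theorem Q3371 : ∀ i, i < 3371 → P i := stepQ 3370 Q3370 (allL N3370 (tt N4687 D4750) (tt N2329 (iv D3433)) (tt N4688 D4751) (tt N4686 (iv F14674)) (tt N3815 (iv F12006)) (tt N3370 F10544) (tt N2333 F10545) (tt N3888 (iv F12248)))
theorem Q3372 : ∀ i, i < 3372 → P i := stepQ 3371 Q3371 (allL N3371 (tt N2330 (iv D3434)) (tt N4538 (iv F14251)) (tt N2341 F10546) (tt N3215 F10547) (tt N3902 (iv F12304)) (tt N3214 F10548) (tt N4689 D4752) (tt N2335 F10549))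
theorem Q3373 : ∀ i, i < 3373 → P i := stepQ 3372 Q3372 (allL N3372 (tt N4689 (iv F14682)) (tt N2331 F10550) (tt N2343 F10551) (tt N3741 (iv F11740)) (tt N3689 (iv F11550)) (tt N3738 (iv F11729)) (tt N2330 (iv D3435)) (tt N3686 (iv F11543)))
theorem Q3374 : ∀ i, i < 3374 → P i := stepQ 3373 Q3373 (allL N3373 (tt N4541 (iv F14263)) (tt N4690 D4753) (tt N2332 F10552) (tt N4670 (iv F14621)) (tt N3693 (iv F11562)) (tt N2331 (iv D3436)) (tt N4685 (iv F14672)) (tt N3691 (iv F11559)))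
theorem Q3375 : ∀ i, i < 3375 → P i := stepQ 3374 Q3374 (allL N3374 (tt N4691 D4754) (tt N2332 (iv D3437)) (tt N4692 D4755) (tt N2333 F10553) (tt N3698 (iv F11579)) (tt N2345 F10554) (tt N4686 (iv F14676)) (tt N3695 (iv F11571)))
theorem Q3376 : ∀ i, i < 3376 → P i := stepQ 3375 Q3375 (allL N3375 (tt N2333 (iv D3438)) (tt N4543 (iv F14269)) (tt N4693 D4756) (tt N4691 (iv F14686)) (tt N4683 (iv F14664)) (tt N2346 F10555) (tt N4687 (iv F14679)) (tt N3375 F10556))
theorem Q3377 : ∀ i, i < 3377 → P i := stepQ 3376 Q3376 (allL N3376 (tt N4693 (iv F14690)) (tt N4677 (iv F14648)) (tt N2333 (iv D3439)) (tt N4694 D4757) (tt N4684 (iv F14667)) (tt N2347 F10557) (tt N4688 (iv F14681)) (tt N3376 F10558))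
theorem Q3378 : ∀ i, i < 3378 → P i := stepQ 3377 Q3377 (allL N3377 (tt N2336 F10559) (tt N3216 (iv F10563)) (tt N2348 F10560) (tt N3377 F10561) (tt N3901 (iv F12299)) (tt N2335 (iv D3440)) (tt N4695 D4758) (tt N3214 F10562))
theorem Q3379 : ∀ i, i < 3379 → P i := stepQ 3378 Q3378 (allL N3378 (tt N4695 (iv F14694)) (tt N3747 (iv F11767)) (tt N2349 F10564) (tt N3378 F10565) (tt N3904 (iv F12313)) (tt N3903 (iv F12310)) (tt N2336 (iv D3441)) (tt N3740 (iv F11738)))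
theorem Q3380 : ∀ i, i < 3380 → P i := stepQ 3379 Q3379 (allL N3379 (tt N2337 (iv D3442)) (tt N2359 F10566) (tt N4678 (iv F14651)) (tt N3379 F10567) (tt N3833 (iv F12058)) (tt N4696 D4759) (tt N4697 D4760) (tt N2405 F10568))
theorem Q3381 : ∀ i, i < 3381 → P i := stepQ 3380 Q3380 (allL N3380 (tt N4696 (iv F14698)) (tt N3380 F10569) (tt N4679 (iv F14653)) (tt N3380 F10570) (tt N3563 (iv F11180)) (tt N2337 (iv D3443)) (tt N3562 F11177) (tt N2406 F10571))
theorem Q3382 : ∀ i, i < 3382 → P i := stepQ 3381 Q3381 (allL N3381 (tt N4697 (iv F14703)) (tt N2338 F10572) (tt N4680 (iv F14656)) (tt N3381 F10573) (tt N3600 (iv F11309)) (tt N3599 (iv F11306)) (tt N2337 (iv D3444)) (tt N3616 (iv F11357)))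
theorem Q3383 : ∀ i, i < 3383 → P i := stepQ 3382 Q3382 (allL N3382 (tt N2361 F10574) (tt N4698 D4761) (tt N2339 F10575) (tt N3382 F10576) (tt N2469 F10577) (tt N2338 (iv D3445)) (tt N3382 F10578) (tt N2468 F10579))
theorem Q3384 : ∀ i, i < 3384 → P i := stepQ 3383 Q3383 (allL N3383 (tt N4699 D4762) (tt N2339 (iv D3446)) (tt N3551 (iv F11123)) (tt N2340 F10580) (tt N2462 F10581) (tt N4682 (iv F14660)) (tt N3383 F10582) (tt N2460 F10583))
theorem Q3385 : ∀ i, i < 3385 → P i := stepQ 3384 Q3384 (allL N3384 (tt N2340 (iv D3447)) (tt N2363 F10584) (tt N4700 D4763) (tt N4699 (iv F14712)) (tt N2346 F10585) (tt N4683 (iv F14665)) (tt N3384 F10586) (tt N3384 F10587))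
theorem Q3386 : ∀ i, i < 3386 → P i := stepQ 3385 Q3385 (allL N3385 (tt N4700 (iv F14716)) (tt N3385 F10588) (tt N2340 (iv D3448)) (tt N4701 D4764) (tt N2347 F10589) (tt N4684 (iv F14668)) (tt N3385 F10590) (tt N3385 F10591))
theorem Q3387 : ∀ i, i < 3387 → P i := stepQ 3386 Q3386 (allL N3386 (tt N2342 F10592) (tt N3218 (iv F10596)) (tt N3214 F10593) (tt N3386 F10594) (tt N3914 (iv F12350)) (tt N2341 (iv D3449)) (tt N3727 (iv F11692)) (tt N2348 F10595))
theorem Q3388 : ∀ i, i < 3388 → P i := stepQ 3387 Q3387 (allL N3387 (tt N2343 F10605) (tt N2365 F10606) (tt N4689 (iv F14683)) (tt N3387 F10607) (tt N3707 (iv F11608)) (tt N4702 D4765) (tt N2341 (iv D3450)) (tt N3703 (iv F11599)))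
theorem Q3389 : ∀ i, i < 3389 → P i := stepQ 3388 Q3388 (allL N3388 (tt N4702 (iv F14722)) (tt N2554 (iv F10611)) (tt N3738 (iv F11726)) (tt N3388 F10608) (tt N2456 F10609) (tt N2343 (iv D3451)) (tt N2455 F10610) (tt N3712 (iv F11627)))
theorem Q3390 : ∀ i, i < 3390 → P i := stepQ 3389 Q3389 (allL N3389 (tt N4703 D4766) (tt N2344 (iv D3452)) (tt N4668 (iv F14615)) (tt N3389 F10612) (tt N2555 F10613) (tt N2554 F10614) (tt N3389 F10615) (tt N3716 (iv F11647)))
theorem Q3391 : ∀ i, i < 3391 → P i := stepQ 3390 Q3390 (allL N3390 (tt N2345 (iv D3453)) (tt N2367 F10616) (tt N4704 D4767) (tt N2346 F10617) (tt N3721 (iv F11669)) (tt N4691 (iv F14687)) (tt N3390 F10618) (tt N3212 F10619))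
theorem Q3392 : ∀ i, i < 3392 → P i := stepQ 3391 Q3391 (allL N3391 (tt N4704 (iv F14731)) (tt N4668 (iv F14614)) (tt N2345 (iv D3454)) (tt N4705 D4768) (tt N3723 (iv F11675)) (tt N4692 (iv F14689)) (tt N3391 F10620) (tt N3719 (iv F11662)))
theorem Q3393 : ∀ i, i < 3393 → P i := stepQ 3392 Q3392 (allL N3392 (tt N2347 F10621) (tt N4706 D4769) (tt N2346 (iv D3455)) (tt N4707 D4770) (tt N4700 (iv F14717)) (tt N4693 (iv F14691)) (tt N3392 F10622) (tt N3392 F10623))
theorem Q3394 : ∀ i, i < 3394 → P i := stepQ 3393 Q3393 (allL N3393 (tt N4707 (iv F14740)) (tt N3393 F10624) (tt N4705 (iv F14734)) (tt N2347 (iv D3456)) (tt N4708 D4771) (tt N4694 (iv F14693)) (tt N3393 F10625) (tt N4709 D4772))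
theorem Q3395 : ∀ i, i < 3395 → P i := stepQ 3394 Q3394 (allL N3394 (tt N3394 F10626) (tt N2348 (iv D3457)) (tt N3221 F10627) (tt N2350 F10628) (tt N3913 (iv F12344)) (tt N2371 F10629) (tt N4710 D4773) (tt N3218 F10630))
theorem Q3396 : ∀ i, i < 3396 → P i := stepQ 3395 Q3395 (allL N3395 (tt N2349 F10631) (tt N4710 (iv F14747)) (tt N4695 (iv F14696)) (tt N2351 F10632) (tt N3911 (iv F12339)) (tt N3908 (iv F12331)) (tt N2348 (iv D3458)) (tt N4711 D4774))
theorem Q3397 : ∀ i, i < 3397 → P i := stepQ 3396 Q3396 (allL N3396 (tt N4711 (iv F14750)) (tt N3396 F10633) (tt N3740 (iv F11736)) (tt N4712 D4775) (tt N3916 (iv F12358)) (tt N3915 (iv F12356)) (tt N3737 (iv F11725)) (tt N2349 (iv D3459)))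
theorem Q3398 : ∀ i, i < 3398 → P i := stepQ 3397 Q3397 (allL N3397 (tt N3397 F10634) (tt N3397 F10635) (tt N2350 (iv D3460)) (tt N3229 F10636) (tt N3397 F10637) (tt N2373 F10638) (tt N4713 D4776) (tt N3397 F10639))
theorem Q3399 : ∀ i, i < 3399 → P i := stepQ 3398 Q3398 (allL N3398 (tt N3398 F10640) (tt N2351 F10641) (tt N4713 (iv F14755)) (tt N4710 (iv F14749)) (tt N3398 F10642) (tt N4714 D4777) (tt N2350 (iv D3461)) (tt N4715 D4778))
theorem Q3400 : ∀ i, i < 3400 → P i := stepQ 3399 Q3399 (allL N3399 (tt N2354 F10643) (tt N4716 D4779) (tt N3399 F10644) (tt N3908 (iv F12329)) (tt N3399 F10645) (tt N2351 (iv D3462)) (tt N2352 F10646) (tt N4717 D4780))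
theorem Q3401 : ∀ i, i < 3401 → P i := stepQ 3400 Q3400 (allL N3400 (tt N2355 F10647) (tt N4715 (iv F14762)) (tt N3400 F10648) (tt N4718 D4781) (tt N3400 F10649) (tt N4717 (iv F14770)) (tt N3400 F10650) (tt N2351 (iv D3463)))
theorem Q3402 : ∀ i, i < 3402 → P i := stepQ 3401 Q3401 (allL N3401 (tt N3920 (iv F12375)) (tt N2352 (iv D3464)) (tt N4719 D4782) (tt N3907 (iv F12325)) (tt N3401 F10651) (tt N2377 F10652) (tt N4716 (iv F14766)) (tt N4720 D4783))
theorem Q3403 : ∀ i, i < 3403 → P i := stepQ 3402 Q3402 (allL N3402 (tt N2356 F10653) (tt N4720 (iv F14776)) (tt N3402 F10654) (tt N4721 D4784) (tt N3402 F10655) (tt N2353 F10656) (tt N4722 D4785) (tt N2352 (iv D3465)))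
theorem Q3404 : ∀ i, i < 3404 → P i := stepQ 3403 Q3403 (allL N3403 (tt N2357 F10657) (tt N2379 F10658) (tt N4723 D4786) (tt N2353 (iv D3466)) (tt N3129 (iv F10660)) (tt N4721 (iv F14782)) (tt N3403 F10659) (tt N3701 (iv F11592)))
theorem Q3405 : ∀ i, i < 3405 → P i := stepQ 3404 Q3404 (allL N3404 (tt N4717 (iv F14767)) (tt N3936 (iv F12426)) (tt N3404 F10661) (tt N4724 D4787) (tt N3404 F10662) (tt N2355 F10663) (tt N4725 D4788) (tt N2354 (iv D3467)))
theorem Q3406 : ∀ i, i < 3406 → P i := stepQ 3405 Q3405 (allL N3405 (tt N4718 (iv F14771)) (tt N3405 F10664) (tt N4726 D4789) (tt N2355 (iv D3468)) (tt N4727 D4790) (tt N4724 (iv F14793)) (tt N3405 F10665) (tt N4712 (iv F14752)))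
theorem Q3407 : ∀ i, i < 3407 → P i := stepQ 3406 Q3406 (allL N3406 (tt N4721 (iv F14780)) (tt N3739 (iv F11730)) (tt N4728 D4791) (tt N2356 (iv D3469)) (tt N4729 D4792) (tt N2357 F10666) (tt N4730 D4793) (tt N3709 (iv F11620)))
theorem Q3408 : ∀ i, i < 3408 → P i := stepQ 3407 Q3407 (allL N3407 (tt N4722 (iv F14784)) (tt N3937 (iv F12429)) (tt N3407 F10667) (tt N4730 (iv F14814)) (tt N3407 F10668) (tt N3407 F10669) (tt N2356 (iv D3470)) (tt N4725 (iv F14797)))
theorem Q3409 : ∀ i, i < 3409 → P i := stepQ 3408 Q3408 (allL N3408 (tt N4723 (iv F14788)) (tt N3408 F10670) (tt N2357 (iv D3471)) (tt N3408 F10671) (tt N4731 D4794) (tt N4728 (iv F14805)) (tt N3408 F10672) (tt N3708 (iv F11614)))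
theorem Q3410 : ∀ i, i < 3410 → P i := stepQ 3409 Q3409 (allL N3409 (tt N3129 F10673) (tt N2358 F10674) (tt N4731 (iv F14818)) (tt N3409 F10675) (tt N2357 (iv D3472)) (tt N4729 (iv F14812)) (tt N3409 F10676) (tt N3540 F11081))
theorem Q3411 : ∀ i, i < 3411 → P i := stepQ 3410 Q3410 (allL N3410 (tt N2360 F10677) (tt N4697 (iv F14704)) (tt N4591 (iv F14382)) (tt N3410 F10678) (tt N4062 (iv F12789)) (tt N4171 (iv F13107)) (tt N2359 (iv D3473)) (tt N4058 (iv F12780)))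
theorem Q3412 : ∀ i, i < 3412 → P i := stepQ 3411 Q3411 (allL N3411 (tt N4732 D4795) (tt N2361 (iv D3474)) (tt N4144 (iv F13014)) (tt N3411 F10679) (tt N2806 F10680) (tt N2846 F10681) (tt N3411 F10682) (tt N2803 F10683))
theorem Q3413 : ∀ i, i < 3413 → P i := stepQ 3412 Q3412 (allL N3412 (tt N2362 (iv D3475)) (tt N4699 (iv F14711)) (tt N4733 D4796) (tt N2363 F10684) (tt N2783 F10685) (tt N4593 (iv F14387)) (tt N3412 F10686) (tt N2781 F10687))
theorem Q3414 : ∀ i, i < 3414 → P i := stepQ 3413 Q3413 (allL N3413 (tt N4733 (iv F14828)) (tt N4144 (iv F13013)) (tt N2362 (iv D3476)) (tt N4734 D4797) (tt N2797 F10688) (tt N4594 (iv F14390)) (tt N3413 F10689) (tt N2795 F10690))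
theorem Q3415 : ∀ i, i < 3415 → P i := stepQ 3414 Q3414 (allL N3414 (tt N2364 F10691) (tt N4735 D4798) (tt N2363 (iv D3477)) (tt N4736 D4799) (tt N2369 F10692) (tt N4595 (iv F14394)) (tt N3414 F10693) (tt N3414 F10694))
theorem Q3416 : ∀ i, i < 3416 → P i := stepQ 3415 Q3415 (allL N3415 (tt N4736 (iv F14839)) (tt N3415 F10695) (tt N4734 (iv F14832)) (tt N2364 (iv D3478)) (tt N4737 D4800) (tt N4596 (iv F14396)) (tt N3415 F10696) (tt N4738 D4801))
theorem Q3417 : ∀ i, i < 3417 → P i := stepQ 3416 Q3416 (allL N3416 (tt N2366 (iv D3479)) (tt N4703 (iv F14726)) (tt N4739 D4802) (tt N3416 F10697) (tt N3964 (iv F12515)) (tt N3963 F12511) (tt N3416 F10698) (tt N4164 (iv F13088)))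
theorem Q3418 : ∀ i, i < 3418 → P i := stepQ 3417 Q3417 (allL N3417 (tt N4739 (iv F14848)) (tt N2368 F10699) (tt N2366 (iv D3480)) (tt N2787 F10703) (tt N3978 (iv F12557)) (tt N2786 F10700) (tt N3417 F10701) (tt N2970 F10702))
theorem Q3419 : ∀ i, i < 3419 → P i := stepQ 3418 Q3418 (allL N3418 (tt N2368 F10704) (tt N4740 D4803) (tt N2367 (iv D3481)) (tt N4741 D4804) (tt N4169 (iv F13100)) (tt N2965 F10705) (tt N3418 F10706) (tt N2964 F10707))
theorem Q3420 : ∀ i, i < 3420 → P i := stepQ 3419 Q3419 (allL N3419 (tt N4741 (iv F14855)) (tt N2787 F10708) (tt N2370 F10709) (tt N2368 (iv D3482)) (tt N4742 D4805) (tt N2924 F10710) (tt N3419 F10711) (tt N4081 (iv F12860)))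
theorem Q3421 : ∀ i, i < 3421 → P i := stepQ 3420 Q3420 (allL N3420 (tt N3420 F10712) (tt N2369 (iv D3483)) (tt N4706 (iv F14737)) (tt N4743 D4806) (tt N4735 (iv F14836)) (tt N4744 D4807) (tt N3420 F10713) (tt N3420 F10714))
theorem Q3422 : ∀ i, i < 3422 → P i := stepQ 3421 Q3421 (allL N3421 (tt N2370 F10715) (tt N4743 (iv F14864)) (tt N4741 (iv F14856)) (tt N2369 (iv D3484)) (tt N4745 D4808) (tt N4599 (iv F14405)) (tt N3421 F10716) (tt N4746 D4809))
theorem Q3423 : ∀ i, i < 3423 → P i := stepQ 3422 Q3422 (allL N3422 (tt N4745 (iv F14868)) (tt N3422 F10717) (tt N4742 (iv F14860)) (tt N4737 (iv F14842)) (tt N2370 (iv D3485)) (tt N4600 (iv F14410)) (tt N3422 F10718) (tt N4747 D4810))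
theorem Q3424 : ∀ i, i < 3424 → P i := stepQ 3423 Q3423 (allL N3423 (tt N4746 (iv F14870)) (tt N3423 F10719) (tt N4081 F12861) (tt N3423 F10720) (tt N4747 (iv F14874)) (tt N2402 F10721) (tt N4279 (iv F13439)) (tt N2370 (iv D3486)))
theorem Q3425 : ∀ i, i < 3425 → P i := stepQ 3424 Q3424 (allL N3424 (tt N3424 F10722) (tt N4601 (iv F14413)) (tt N2371 (iv D3487)) (tt N3233 (iv F10725)) (tt N4353 (iv F13645)) (tt N3221 F10723) (tt N4748 D4811) (tt N3220 F10724))
theorem Q3426 : ∀ i, i < 3426 → P i := stepQ 3425 Q3425 (allL N3425 (tt N3425 F10726) (tt N2372 F10727) (tt N4748 (iv F14877)) (tt N2374 F10728) (tt N4352 (iv F13641)) (tt N4749 D4812) (tt N2371 (iv D3488)) (tt N4413 (iv F13840)))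
theorem Q3427 : ∀ i, i < 3427 → P i := stepQ 3426 Q3426 (allL N3426 (tt N3426 F10729) (tt N2382 F10730) (tt N3233 F10731) (tt N2373 (iv D3489)) (tt N4750 D4813) (tt N3229 F10732) (tt N4751 D4814) (tt N3228 (iv F10733)))
theorem Q3428 : ∀ i, i < 3428 → P i := stepQ 3427 Q3427 (allL N3427 (tt N3427 F10734) (tt N2383 F10735) (tt N2374 F10736) (tt N4751 (iv F14890)) (tt N3427 F10737) (tt N4752 D4815) (tt N2373 (iv D3490)) (tt N4753 D4816))
theorem Q3429 : ∀ i, i < 3429 → P i := stepQ 3428 Q3428 (allL N3428 (tt N3428 F10738) (tt N4754 D4817) (tt N4752 (iv F14892)) (tt N4749 (iv F14880)) (tt N3428 F10739) (tt N2374 (iv D3491)) (tt N4714 (iv F14760)) (tt N4755 D4818))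
theorem Q3430 : ∀ i, i < 3430 → P i := stepQ 3429 Q3429 (allL N3429 (tt N3429 F10740) (tt N2376 F10741) (tt N4753 (iv F14896)) (tt N4756 D4819) (tt N3429 F10742) (tt N4755 (iv F14903)) (tt N3429 F10743) (tt N2374 (iv D3492)))
theorem Q3431 : ∀ i, i < 3431 → P i := stepQ 3430 Q3430 (allL N3430 (tt N4356 (iv F13656)) (tt N2375 (iv D3493)) (tt N4757 D4820) (tt N4346 (iv F13625)) (tt N3430 F10744) (tt N4754 (iv F14900)) (tt N2377 F10745) (tt N4758 D4821))
theorem Q3432 : ∀ i, i < 3432 → P i := stepQ 3431 Q3431 (allL N3431 (tt N2380 F10746) (tt N4758 (iv F14910)) (tt N2387 F10747) (tt N4759 D4822) (tt N3431 F10748) (tt N2376 F10749) (tt N3006 F10750) (tt N2375 (iv D3494)))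
theorem Q3433 : ∀ i, i < 3433 → P i := stepQ 3432 Q3432 (allL N3432 (tt N2381 F10751) (tt N4756 (iv F14905)) (tt N4760 D4823) (tt N2376 (iv D3495)) (tt N4433 (iv F13910)) (tt N4759 (iv F14915)) (tt N3432 F10752) (tt N4431 F13905))
theorem Q3434 : ∀ i, i < 3434 → P i := stepQ 3433 Q3433 (allL N3433 (tt N4355 (iv F13653)) (tt N2389 F10753) (tt N2377 (iv D3496)) (tt N4761 D4824) (tt N3433 F10754) (tt N4719 (iv F14775)) (tt N4757 (iv F14909)) (tt N4762 D4825))
theorem Q3435 : ∀ i, i < 3435 → P i := stepQ 3434 Q3434 (allL N3434 (tt N4357 (iv F13660)) (tt N2378 F10755) (tt N4762 (iv F14924)) (tt N3011 (iv F10757)) (tt N3434 F10756) (tt N4720 (iv F14778)) (tt N3007 (iv F10758)) (tt N2377 (iv D3497)))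
theorem Q3436 : ∀ i, i < 3436 → P i := stepQ 3435 Q3435 (allL N3435 (tt N4759 (iv F14913)) (tt N4374 (iv F13708)) (tt N2842 F10759) (tt N2380 (iv D3498)) (tt N4466 (iv F14020)) (tt N2381 F10760) (tt N2840 F10761) (tt N4354 (iv F13652)))
theorem Q3437 : ∀ i, i < 3437 → P i := stepQ 3436 Q3436 (allL N3436 (tt N4760 (iv F14917)) (tt N2814 (iv F10766)) (tt N2381 (iv D3499)) (tt N2391 F10762) (tt N4465 (iv F14015)) (tt N2842 F10763) (tt N3436 F10764) (tt N2804 F10765))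
theorem Q3438 : ∀ i, i < 3438 → P i := stepQ 3437 Q3437 (allL N3437 (tt N2393 F10767) (tt N4750 (iv F14882)) (tt N4620 (iv F14479)) (tt N3437 F10768) (tt N2382 (iv D3500)) (tt N3437 F10769) (tt N4763 D4826) (tt N4764 D4827))
theorem Q3439 : ∀ i, i < 3439 → P i := stepQ 3438 Q3438 (allL N3438 (tt N2394 F10770) (tt N4751 (iv F14888)) (tt N4621 (iv F14482)) (tt N2383 F10771) (tt N4763 (iv F14929)) (tt N4765 D4828) (tt N2382 (iv D3501)) (tt N4766 D4829))
theorem Q3440 : ∀ i, i < 3440 → P i := stepQ 3439 Q3439 (allL N3439 (tt N2395 F10772) (tt N3228 F10773) (tt N4622 (iv F14486)) (tt N3439 F10774) (tt N4764 (iv F14932)) (tt N3439 F10775) (tt N4767 D4830) (tt N2382 (iv D3502)))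
theorem Q3441 : ∀ i, i < 3441 → P i := stepQ 3440 Q3440 (allL N3440 (tt N2396 F10776) (tt N4768 D4831) (tt N2384 F10777) (tt N4765 (iv F14935)) (tt N3440 F10778) (tt N2383 (iv D3503)) (tt N3440 F10779) (tt N4769 D4832))
theorem Q3442 : ∀ i, i < 3442 → P i := stepQ 3441 Q3441 (allL N3441 (tt N2397 F10780) (tt N4753 (iv F14895)) (tt N2385 F10781) (tt N4770 D4833) (tt N3441 F10782) (tt N4769 (iv F14946)) (tt N3441 F10783) (tt N2383 (iv D3504)))
theorem Q3443 : ∀ i, i < 3443 → P i := stepQ 3442 Q3442 (allL N3442 (tt N3442 F10784) (tt N2384 (iv D3505)) (tt N4771 D4834) (tt N4625 (iv F14495)) (tt N3442 F10785) (tt N2386 F10786) (tt N3442 F10787) (tt N4772 D4835))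
theorem Q3444 : ∀ i, i < 3444 → P i := stepQ 3443 Q3443 (allL N3443 (tt N2398 F10788) (tt N4772 (iv F14954)) (tt N4769 (iv F14944)) (tt N4773 D4836) (tt N3443 F10789) (tt N2385 F10790) (tt N4774 D4837) (tt N2384 (iv D3506)))
theorem Q3445 : ∀ i, i < 3445 → P i := stepQ 3444 Q3444 (allL N3444 (tt N2399 F10791) (tt N2388 F10792) (tt N4775 D4838) (tt N2385 (iv D3507)) (tt N4776 D4839) (tt N4773 (iv F14960)) (tt N3444 F10793) (tt N3071 F10794))
theorem Q3446 : ∀ i, i < 3446 → P i := stepQ 3445 Q3445 (allL N3445 (tt N3445 F10795) (tt N4757 (iv F14907)) (tt N2386 (iv D3508)) (tt N4777 D4840) (tt N3445 F10796) (tt N4771 (iv F14951)) (tt N2389 F10797) (tt N4778 D4841))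
theorem Q3447 : ∀ i, i < 3447 → P i := stepQ 3446 Q3446 (allL N3446 (tt N3446 F10798) (tt N2387 F10799) (tt N4778 (iv F14977)) (tt N3002 F10800) (tt N3446 F10801) (tt N4772 (iv F14957)) (tt N3001 F10802) (tt N2386 (iv D3509)))
theorem Q3448 : ∀ i, i < 3448 → P i := stepQ 3447 Q3447 (allL N3447 (tt N2391 F10803) (tt N4779 D4842) (tt N2388 (iv D3510)) (tt N4760 (iv F14918)) (tt N4780 D4843) (tt N2826 F10804) (tt N3447 F10805) (tt N2898 F10806))
theorem Q3449 : ∀ i, i < 3449 → P i := stepQ 3448 Q3448 (allL N3448 (tt N2392 F10807) (tt N4776 (iv F14970)) (tt N4780 (iv F14983)) (tt N3448 F10808) (tt N2388 (iv D3511)) (tt N3005 F10809) (tt N3448 F10810) (tt N3066 F10811))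
theorem Q3450 : ∀ i, i < 3450 → P i := stepQ 3449 Q3449 (allL N3449 (tt N3449 F10812) (tt N4761 (iv F14922)) (tt N4628 (iv F14509)) (tt N2389 (iv D3512)) (tt N4781 D4844) (tt N3449 F10813) (tt N4777 (iv F14975)) (tt N4782 D4845))
theorem Q3451 : ∀ i, i < 3451 → P i := stepQ 3450 Q3450 (allL N3450 (tt N3450 F10814) (tt N4762 (iv F14923)) (tt N2390 F10815) (tt N4783 D4846) (tt N3450 F10816) (tt N3450 F10817) (tt N3004 (iv F10818)) (tt N2389 (iv D3513)))
theorem Q3452 : ∀ i, i < 3452 → P i := stepQ 3451 Q3451 (allL N3451 (tt N4784 D4847) (tt N2391 (iv D3514)) (tt N2402 F10819) (tt N2814 F10820) (tt N4785 D4848) (tt N4081 (iv F12858)) (tt N3451 F10821) (tt N2924 F10822))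
theorem Q3453 : ∀ i, i < 3453 → P i := stepQ 3452 Q3452 (allL N3452 (tt N4780 (iv F14982)) (tt N4785 (iv F15000)) (tt N2392 F10823) (tt N4786 D4849) (tt N2391 (iv D3515)) (tt N2839 F10824) (tt N3452 F10825) (tt N2919 F10826))
theorem Q3454 : ∀ i, i < 3454 → P i := stepQ 3453 Q3453 (allL N3453 (tt N4763 (iv F14927)) (tt N3453 F10827) (tt N4638 (iv F14536)) (tt N3453 F10828) (tt N2394 F10829) (tt N3465 F21775) (tt N2393 (iv D3516)) (tt N4787 D4851))
theorem Q3455 : ∀ i, i < 3455 → P i := stepQ 3454 Q3454 (allL N3454 (tt N4764 (iv F14930)) (tt N3454 F10830) (tt N4639 (iv F14538)) (tt N4788 D4852) (tt N2395 F10831) (tt N3454 F10832) (tt N4789 D4853) (tt N2393 (iv D3517)))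
theorem Q3456 : ∀ i, i < 3456 → P i := stepQ 3455 Q3455 (allL N3455 (tt N4765 (iv F14934)) (tt N3466 F21763) (tt N4640 (iv F14541)) (tt N2396 F10833) (tt N3465 (iv F21766)) (tt N2394 (iv D3518)) (tt N3455 F10834) (tt N4790 D4855))
theorem Q3457 : ∀ i, i < 3457 → P i := stepQ 3456 Q3456 (allL N3456 (tt N4766 (iv F14937)) (tt N3456 F10835) (tt N4641 (iv F14544)) (tt N4791 D4856) (tt N4787 (iv F15011)) (tt N4790 (iv F15021)) (tt N4792 D4857) (tt N2394 (iv D3519)))
theorem Q3458 : ∀ i, i < 3458 → P i := stepQ 3457 Q3457 (allL N3457 (tt N4767 (iv F14938)) (tt N3457 F10836) (tt N4642 (iv F14545)) (tt N3457 F10837) (tt N4789 (iv F15017)) (tt N4793 D4858) (tt N2395 (iv D3520)) (tt N4792 (iv F15025)))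
theorem Q3459 : ∀ i, i < 3459 → P i := stepQ 3458 Q3458 (allL N3458 (tt N3469 F21764) (tt N2396 (iv D3521)) (tt N3458 F10838) (tt N3466 F21765) (tt N3458 F10839) (tt N3458 F10840) (tt N3458 F10841) (tt N4794 D4860))
theorem Q3460 : ∀ i, i < 3460 → P i := stepQ 3459 Q3459 (allL N3459 (tt N4769 (iv F14943)) (tt N4794 (iv F15032)) (tt N2398 F10842) (tt N4795 D4861) (tt N3459 F10843) (tt N2397 F10844) (tt N4796 D4862) (tt N2396 (iv D3522)))
theorem Q3461 : ∀ i, i < 3461 → P i := stepQ 3460 Q3460 (allL N3460 (tt N4770 (iv F14947)) (tt N3460 F10845) (tt N4797 D4863) (tt N2397 (iv D3523)) (tt N4798 D4864) (tt N4795 (iv F15036)) (tt N3460 F10846) (tt N4791 (iv F15023)))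
theorem Q3462 : ∀ i, i < 3462 → P i := stepQ 3461 Q3461 (allL N3461 (tt N4773 (iv F14958)) (tt N3461 F10847) (tt N4799 D4865) (tt N2398 (iv D3524)) (tt N4800 D4866) (tt N2399 F10848) (tt N4801 D4867) (tt N4646 (iv F14553)))
theorem Q3463 : ∀ i, i < 3463 → P i := stepQ 3462 Q3462 (allL N3462 (tt N4774 (iv F14962)) (tt N3462 F10849) (tt N4796 (iv F15037)) (tt N4801 (iv F15051)) (tt N3462 F10850) (tt N3462 F10851) (tt N2398 (iv D3525)) (tt N3462 F10852))
theorem Q3464 : ∀ i, i < 3464 → P i := stepQ 3463 Q3463 (allL N3463 (tt N4775 (iv F14966)) (tt N4802 D4868) (tt N2399 (iv D3526)) (tt N4797 (iv F15041)) (tt N4803 D4869) (tt N4799 (iv F15046)) (tt N3463 F10853) (tt N4648 (iv F14558)))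
theorem Q3465 : ∀ i, i < 3465 → P i := stepQ 3464 Q3464 (allL N3464 (tt N4776 (iv F14969)) (tt N2401 F10854) (tt N4803 (iv F15055)) (tt N3464 F10855) (tt N2399 (iv D3527)) (tt N4800 (iv F15049)) (tt N3464 F10856) (tt N4649 (iv F14562)))
theorem Q3466 : ∀ i, i < 3466 → P i := stepQ 3465 Q3465 (allL N3465 (tt N4804 D4870) (tt N2400 (iv D3528)) (tt N4802 (iv F15053)) (tt N3465 F10857) (tt N3455 F21766) (tt N3453 (iv F21775)) (tt N3465 F10858) (tt N4650 (iv F14564)))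
theorem Q3467 : ∀ i, i < 3467 → P i := stepQ 3466 Q3466 (allL N3466 (tt N2403 F10859) (tt N3455 (iv F21763)) (tt N2401 F10860) (tt N3458 (iv F21765)) (tt N2400 (iv D3529)) (tt N3466 F10861) (tt N3466 F10862) (tt N4651 (iv F14569)))
theorem Q3468 : ∀ i, i < 3468 → P i := stepQ 3467 Q3467 (allL N3467 (tt N2402 (iv D3530)) (tt N4804 (iv F15057)) (tt N4784 (iv F14996)) (tt N3467 F10863) (tt N4805 D4874) (tt N4746 (iv F14872)) (tt N3467 F10864) (tt N4599 F14407))
theorem Q3469 : ∀ i, i < 3469 → P i := stepQ 3468 Q3468 (allL N3468 (tt N4805 (iv F15069)) (tt N2403 F10865) (tt N4785 (iv F15001)) (tt N4806 D4875) (tt N2402 (iv D3531)) (tt N4747 (iv F14875)) (tt N3468 F10866) (tt N4600 (iv F14412)))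
theorem Q3470 : ∀ i, i < 3470 → P i := stepQ 3469 Q3469 (allL N3469 (tt N3458 (iv F21764)) (tt N4806 (iv F15071)) (tt N3469 F10867) (tt N2403 (iv D3532)) (tt N3469 F10868) (tt N3469 F10869) (tt N3469 F10870) (tt N4807 D4876))
theorem Q3471 : ∀ i, i < 3471 → P i := stepQ 3470 Q3470 (allL N3470 (tt N2404 (iv D3533)) (tt N4655 (iv F14577)) (tt N2405 F10871) (tt N3772 (iv F11867)) (tt N3823 (iv F12031)) (tt N4808 D4877) (tt N3821 F12026) (tt N4678 (iv F14652)))
theorem Q3472 : ∀ i, i < 3472 → P i := stepQ 3471 Q3471 (allL N3471 (tt N4808 (iv F15077)) (tt N3818 (iv F12016)) (tt N2406 F10872) (tt N3774 (iv F11873)) (tt N3826 (iv F12037)) (tt N2404 (iv D3534)) (tt N4809 D4878) (tt N4679 (iv F14654)))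
theorem Q3473 : ∀ i, i < 3473 → P i := stepQ 3472 Q3472 (allL N3472 (tt N2406 F10873) (tt N4810 D4879) (tt N4808 (iv F15078)) (tt N2413 F10874) (tt N3832 (iv F12055)) (tt N2405 (iv D3535)) (tt N4811 D4880) (tt N4696 (iv F14701)))
theorem Q3474 : ∀ i, i < 3474 → P i := stepQ 3473 Q3473 (allL N3473 (tt N4811 (iv F15085)) (tt N3473 F10875) (tt N4809 (iv F15079)) (tt N2415 F10876) (tt N3835 (iv F12066)) (tt N3834 (iv F12063)) (tt N2406 (iv D3536)) (tt N4664 (iv F14601)))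
theorem Q3475 : ∀ i, i < 3475 → P i := stepQ 3474 Q3474 (allL N3474 (tt N3474 F10877) (tt N2407 (iv D3537)) (tt N4812 D4881) (tt N2419 F10878) (tt N4255 (iv F13366)) (tt N4810 (iv F15082)) (tt N4813 D4882) (tt N4476 (iv F14065)))
theorem Q3476 : ∀ i, i < 3476 → P i := stepQ 3475 Q3475 (allL N3475 (tt N2408 F10879) (tt N4813 (iv F15091)) (tt N4660 (iv F14588)) (tt N2420 F10880) (tt N4253 (iv F13358)) (tt N4250 (iv F13350)) (tt N2407 (iv D3538)) (tt N4495 (iv F14128)))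
theorem Q3477 : ∀ i, i < 3477 → P i := stepQ 3476 Q3476 (allL N3476 (tt N2410 F10881) (tt N4814 D4883) (tt N2413 F10882) (tt N3781 (iv F11900)) (tt N3476 F10883) (tt N2409 (iv D3539)) (tt N4815 D4884) (tt N3476 F10884))
theorem Q3478 : ∀ i, i < 3478 → P i := stepQ 3477 Q3477 (allL N3477 (tt N2411 F10885) (tt N3477 F10886) (tt N2414 F10887) (tt N3782 (iv F11903)) (tt N3477 F10888) (tt N2706 (iv F10889)) (tt N2409 (iv D3540)) (tt N2705 (iv F10890)))
theorem Q3479 : ∀ i, i < 3479 → P i := stepQ 3478 Q3478 (allL N3478 (tt N4815 (iv F15096)) (tt N3764 (iv F11835)) (tt N2415 F10891) (tt N3784 (iv F11911)) (tt N3478 F10892) (tt N2719 F10893) (tt N2410 (iv D3541)) (tt N2718 (iv F10894)))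
theorem Q3480 : ∀ i, i < 3480 → P i := stepQ 3479 Q3479 (allL N3479 (tt N3479 F10895) (tt N2413 (iv D3542)) (tt N4816 D4885) (tt N4810 (iv F15081)) (tt N3479 F10896) (tt N2419 F10897) (tt N4817 D4886) (tt N3479 F10898))
theorem Q3481 : ∀ i, i < 3481 → P i := stepQ 3480 Q3480 (allL N3480 (tt N2415 F10899) (tt N4817 (iv F15106)) (tt N4815 (iv F15097)) (tt N4811 (iv F15086)) (tt N3480 F10900) (tt N4818 D4887) (tt N2413 (iv D3543)) (tt N4819 D4888))
theorem Q3482 : ∀ i, i < 3482 → P i := stepQ 3481 Q3481 (allL N3481 (tt N2416 F10901) (tt N4820 D4889) (tt N2706 F10902) (tt N3829 (iv F12046)) (tt N3481 F10903) (tt N2414 (iv D3544)) (tt N4818 (iv F15111)) (tt N2704 (iv F10904)))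
theorem Q3483 : ∀ i, i < 3483 → P i := stepQ 3482 Q3482 (allL N3482 (tt N2417 F10905) (tt N2422 F10906) (tt N2705 F10907) (tt N2711 (iv F10911)) (tt N3482 F10908) (tt N2704 F10909) (tt N3482 F10910) (tt N2414 (iv D3545)))
theorem Q3484 : ∀ i, i < 3484 → P i := stepQ 3483 Q3483 (allL N3483 (tt N4818 (iv F15108)) (tt N3844 (iv F12090)) (tt N2719 F10912) (tt N3834 (iv F12061)) (tt N3483 F10913) (tt N2415 (iv D3546)) (tt N2416 F10914) (tt N2717 (iv F10915)))
theorem Q3485 : ∀ i, i < 3485 → P i := stepQ 3484 Q3484 (allL N3484 (tt N4819 (iv F15113)) (tt N3484 F10916) (tt N2718 F10917) (tt N4673 (iv F14635)) (tt N3484 F10918) (tt N2717 F10919) (tt N3484 F10920) (tt N2415 (iv D3547)))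
theorem Q3486 : ∀ i, i < 3486 → P i := stepQ 3485 Q3485 (allL N3485 (tt N3485 F10921) (tt N3485 F10922) (tt N2419 (iv D3548)) (tt N4821 D4890) (tt N3485 F10923) (tt N4816 (iv F15103)) (tt N4822 D4891) (tt N3485 F10924))
theorem Q3487 : ∀ i, i < 3487 → P i := stepQ 3486 Q3486 (allL N3486 (tt N3486 F10925) (tt N2420 F10926) (tt N4822 (iv F15125)) (tt N4813 (iv F15092)) (tt N3486 F10927) (tt N4823 D4892) (tt N2419 (iv D3549)) (tt N4824 D4893))
theorem Q3488 : ∀ i, i < 3488 → P i := stepQ 3487 Q3487 (allL N3487 (tt N2423 F10928) (tt N4825 D4894) (tt N3487 F10929) (tt N4250 (iv F13348)) (tt N3487 F10930) (tt N2420 (iv D3550)) (tt N2421 F10931) (tt N4826 D4895))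
theorem Q3489 : ∀ i, i < 3489 → P i := stepQ 3488 Q3488 (allL N3488 (tt N2424 F10932) (tt N4824 (iv F15130)) (tt N3488 F10933) (tt N4827 D4896) (tt N3488 F10934) (tt N4826 (iv F15138)) (tt N3488 F10935) (tt N2420 (iv D3551)))
theorem Q3490 : ∀ i, i < 3490 → P i := stepQ 3489 Q3489 (allL N3489 (tt N4259 (iv F13379)) (tt N2421 (iv D3552)) (tt N4828 D4897) (tt N4249 (iv F13345)) (tt N3489 F10936) (tt N4820 (iv F15119)) (tt N4825 (iv F15134)) (tt N4829 D4898))
theorem Q3491 : ∀ i, i < 3491 → P i := stepQ 3490 Q3490 (allL N3490 (tt N2425 F10937) (tt N4829 (iv F15143)) (tt N3490 F10938) (tt N4830 D4899) (tt N3490 F10939) (tt N2422 F10940) (tt N4831 D4900) (tt N2421 (iv D3553)))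
theorem Q3492 : ∀ i, i < 3492 → P i := stepQ 3491 Q3491 (allL N3491 (tt N2426 F10941) (tt N2711 F10942) (tt N4832 D4901) (tt N2422 (iv D3554)) (tt N3262 (iv F10944)) (tt N4830 (iv F15149)) (tt N3491 F10943) (tt N4056 (iv F12774)))
theorem Q3493 : ∀ i, i < 3493 → P i := stepQ 3492 Q3492 (allL N3492 (tt N4826 (iv F15135)) (tt N4275 (iv F13427)) (tt N3492 F10945) (tt N4833 D4902) (tt N3492 F10946) (tt N2424 F10947) (tt N4834 D4903) (tt N2423 (iv D3555)))
theorem Q3494 : ∀ i, i < 3494 → P i := stepQ 3493 Q3493 (allL N3493 (tt N4827 (iv F15139)) (tt N3493 F10948) (tt N4835 D4904) (tt N2424 (iv D3556)) (tt N4515 (iv F14191)) (tt N4833 (iv F15160)) (tt N3493 F10949) (tt N4496 F14132))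
theorem Q3495 : ∀ i, i < 3495 → P i := stepQ 3494 Q3494 (allL N3494 (tt N4830 (iv F15147)) (tt N4078 (iv F12843)) (tt N4836 D4905) (tt N2425 (iv D3557)) (tt N4190 (iv F13162)) (tt N2426 F10950) (tt N4837 D4906) (tt N4064 (iv F12800)))
theorem Q3496 : ∀ i, i < 3496 → P i := stepQ 3495 Q3495 (allL N3495 (tt N4831 (iv F15151)) (tt N4276 (iv F13430)) (tt N3495 F10951) (tt N4837 (iv F15172)) (tt N3495 F10952) (tt N3495 F10953) (tt N2425 (iv D3558)) (tt N4834 (iv F15164)))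
theorem Q3497 : ∀ i, i < 3497 → P i := stepQ 3496 Q3496 (allL N3496 (tt N4832 (iv F15155)) (tt N3496 F10954) (tt N2426 (iv D3559)) (tt N3496 F10955) (tt N4838 D4907) (tt N4836 (iv F15170)) (tt N3496 F10956) (tt N4063 (iv F12794)))
theorem Q3498 : ∀ i, i < 3498 → P i := stepQ 3497 Q3497 (allL N3497 (tt N3262 F10957) (tt N2427 F10958) (tt N4838 (iv F15176)) (tt N3497 F10959) (tt N2426 (iv D3560)) (tt N4190 (iv F13163)) (tt N3497 F10960) (tt N2972 F10961))
theorem Q3499 : ∀ i, i < 3499 → P i := stepQ 3498 Q3498 (allL N3498 (tt N3498 F10962) (tt N2429 F10963) (tt N4839 D4908) (tt N2428 (iv D3561)) (tt N4840 D4909) (tt N4418 F13854) (tt N3498 F10964) (tt N4841 D4910))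
theorem Q3500 : ∀ i, i < 3500 → P i := stepQ 3499 Q3499 (allL N3499 (tt N2433 F10965) (tt N4840 (iv F15186)) (tt N3499 F10966) (tt N3499 F10967) (tt N2429 (iv D3562)) (tt N2443 F10968) (tt N3499 F10969) (tt N4842 D4911))
theorem Q3501 : ∀ i, i < 3501 → P i := stepQ 3500 Q3500 (allL N3500 (tt N2434 F10970) (tt N4841 (iv F15190)) (tt N3500 F10971) (tt N4843 D4912) (tt N4842 (iv F15196)) (tt N2444 F10972) (tt N4844 D4913) (tt N2429 (iv D3563)))
theorem Q3502 : ∀ i, i < 3502 → P i := stepQ 3501 Q3501 (allL N3501 (tt N2435 F10973) (tt N4423 (iv F13872)) (tt N3547 (iv F11107)) (tt N2430 (iv D3564)) (tt N3727 (iv F11691)) (tt N2445 F10974) (tt N3914 F12353) (tt N4843 (iv F15201)))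
theorem Q3503 : ∀ i, i < 3503 → P i := stepQ 3502 Q3502 (allL N3502 (tt N2437 F10975) (tt N3502 F10976) (tt N2517 F10977) (tt N2432 F10978) (tt N2486 F10979) (tt N4448 (iv F13958)) (tt N2431 (iv D3565)) (tt N2638 (iv F10980)))
theorem Q3504 : ∀ i, i < 3504 → P i := stepQ 3503 Q3503 (allL N3503 (tt N4842 (iv F15194)) (tt N3503 F10981) (tt N3503 F10982) (tt N4845 D4914) (tt N2434 F10983) (tt N2451 F10984) (tt N4846 D4915) (tt N2433 (iv D3566)))
theorem Q3505 : ∀ i, i < 3505 → P i := stepQ 3504 Q3504 (allL N3504 (tt N4843 (iv F15198)) (tt N3504 F10985) (tt N3550 (iv F11119)) (tt N2434 (iv D3567)) (tt N3737 (iv F11723)) (tt N2452 F10986) (tt N3916 (iv F12360)) (tt N2435 F10987))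
theorem Q3506 : ∀ i, i < 3506 → P i := stepQ 3505 Q3505 (allL N3505 (tt N4844 (iv F15203)) (tt N3505 F10988) (tt N3505 F10989) (tt N3916 F12361) (tt N4846 (iv F15211)) (tt N3917 (iv F12364)) (tt N2434 (iv D3568)) (tt N3505 F10990))
theorem Q3507 : ∀ i, i < 3507 → P i := stepQ 3506 Q3506 (allL N3506 (tt N4448 (iv F13955)) (tt N3568 (iv F11199)) (tt N2520 F10991) (tt N2438 F10992) (tt N2487 F10993) (tt N2437 (iv D3569)) (tt N2461 F10994) (tt N2640 F10995))
theorem Q3508 : ∀ i, i < 3508 → P i := stepQ 3507 Q3507 (allL N3507 (tt N2523 F10996) (tt N3507 F10997) (tt N2440 (iv D3570)) (tt N2763 F10998) (tt N4847 D4916) (tt N4848 D4917) (tt N3757 (iv F11812)) (tt N4849 D4918))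
theorem Q3509 : ∀ i, i < 3509 → P i := stepQ 3508 Q3508 (allL N3508 (tt N2524 F10999) (tt N2443 F11000) (tt N4847 (iv F15215)) (tt N3508 F11001) (tt N2440 (iv D3571)) (tt N4850 D4919) (tt N3244 F11002) (tt N4851 D4920))
theorem Q3510 : ∀ i, i < 3510 → P i := stepQ 3509 Q3509 (allL N3509 (tt N2525 F11003) (tt N4418 (iv F13852)) (tt N4848 (iv F15218)) (tt N2441 F11004) (tt N4850 (iv F15225)) (tt N2440 (iv D3572)) (tt N4101 (iv F12903)) (tt N4852 D4921))
theorem Q3511 : ∀ i, i < 3511 → P i := stepQ 3510 Q3510 (allL N3510 (tt N2526 F11005) (tt N2444 F11006) (tt N4849 (iv F15222)) (tt N4853 D4922) (tt N4851 (iv F15228)) (tt N4852 (iv F15230)) (tt N4854 D4923) (tt N2440 (iv D3573)))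
theorem Q3512 : ∀ i, i < 3512 → P i := stepQ 3511 Q3511 (allL N3511 (tt N2529 F11007) (tt N2445 F11008) (tt N4855 D4924) (tt N2442 (iv D3574)) (tt N4856 D4925) (tt N4104 F12911) (tt N4109 (iv F12921)) (tt N4853 (iv F15233)))
theorem Q3513 : ∀ i, i < 3513 → P i := stepQ 3512 Q3512 (allL N3512 (tt N2451 F11009) (tt N4851 (iv F15227)) (tt N3512 F11010) (tt N4857 D4926) (tt N2444 F11011) (tt N4842 (iv F15197)) (tt N4858 D4927) (tt N2443 (iv D3575)))
theorem Q3514 : ∀ i, i < 3514 → P i := stepQ 3513 Q3513 (allL N3513 (tt N2452 F11012) (tt N4853 (iv F15232)) (tt N4859 D4928) (tt N2444 (iv D3576)) (tt N4860 D4929) (tt N4843 (iv F15200)) (tt N4861 D4930) (tt N2445 F11013))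
theorem Q3515 : ∀ i, i < 3515 → P i := stepQ 3514 Q3514 (allL N3514 (tt N2453 F11014) (tt N4854 (iv F15235)) (tt N3514 F11015) (tt N4861 (iv F15255)) (tt N4858 (iv F15245)) (tt N4862 D4931) (tt N2444 (iv D3577)) (tt N3761 (iv F11826)))
theorem Q3516 : ∀ i, i < 3516 → P i := stepQ 3515 Q3515 (allL N3515 (tt N2454 F11016) (tt N4863 D4932) (tt N2445 (iv D3578)) (tt N2447 F11017) (tt N3728 (iv F11697)) (tt N3547 (iv F11109)) (tt N4864 D4933) (tt N4859 (iv F15250)))
theorem Q3517 : ∀ i, i < 3517 → P i := stepQ 3516 Q3516 (allL N3516 (tt N2455 F11018) (tt N4856 (iv F15239)) (tt N3728 (iv F11695)) (tt N3516 F11019) (tt N2445 (iv D3579)) (tt N3727 F11693) (tt N4702 (iv F14725)) (tt N4860 (iv F15253)))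
theorem Q3518 : ∀ i, i < 3518 → P i := stepQ 3517 Q3517 (allL N3517 (tt N2456 F11020) (tt N4109 (iv F12919)) (tt N4864 (iv F15263)) (tt N2446 F11021) (tt N4702 (iv F14724)) (tt N3707 (iv F11609)) (tt N2445 (iv D3580)) (tt N3706 F11605))
theorem Q3519 : ∀ i, i < 3519 → P i := stepQ 3518 Q3518 (allL N3518 (tt N4865 D4934) (tt N2447 (iv D3581)) (tt N2778 F11022) (tt N4863 (iv F15258)) (tt N3548 (iv F11111)) (tt N3995 (iv F12610)) (tt N4866 D4935) (tt N3518 F11023))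
theorem Q3520 : ∀ i, i < 3520 → P i := stepQ 3519 Q3519 (allL N3519 (tt N2459 F11024) (tt N4866 (iv F15270)) (tt N2449 F11025) (tt N4864 (iv F15264)) (tt N3549 (iv F11117)) (tt N4867 D4936) (tt N2447 (iv D3582)) (tt N4868 D4937))
theorem Q3521 : ∀ i, i < 3521 → P i := stepQ 3520 Q3520 (allL N3520 (tt N2460 F11026) (tt N2781 F11027) (tt N3549 (iv F11115)) (tt N3520 F11028) (tt N2449 F11029) (tt N4869 D4938) (tt N2448 (iv D3583)) (tt N4699 (iv F14715)))
theorem Q3522 : ∀ i, i < 3522 → P i := stepQ 3521 Q3521 (allL N3521 (tt N2461 F11030) (tt N4142 (iv F13005)) (tt N4867 (iv F15273)) (tt N2450 F11031) (tt N4869 (iv F15282)) (tt N2449 (iv D3584)) (tt N4448 (iv F13959)) (tt N4870 D4939))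
theorem Q3523 : ∀ i, i < 3523 → P i := stepQ 3522 Q3522 (allL N3522 (tt N2462 F11032) (tt N2783 F11033) (tt N4868 (iv F15277)) (tt N3721 (iv F11668)) (tt N4699 (iv F14713)) (tt N4870 (iv F15285)) (tt N3522 F11034) (tt N2449 (iv D3585)))
theorem Q3524 : ∀ i, i < 3524 → P i := stepQ 3523 Q3523 (allL N3523 (tt N4857 (iv F15241)) (tt N2545 F11035) (tt N4871 D4940) (tt N2451 (iv D3586)) (tt N4872 D4941) (tt N4845 (iv F15207)) (tt N4873 D4942) (tt N3523 F11036))
theorem Q3525 : ∀ i, i < 3525 → P i := stepQ 3524 Q3524 (allL N3524 (tt N4858 (iv F15243)) (tt N2546 F11037) (tt N3524 F11038) (tt N4873 (iv F15293)) (tt N2453 F11039) (tt N4874 D4943) (tt N2451 (iv D3587)) (tt N3356 F11040))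
theorem Q3526 : ∀ i, i < 3526 → P i := stepQ 3525 Q3525 (allL N3525 (tt N4859 (iv F15247)) (tt N4729 (iv F14809)) (tt N2452 (iv D3588)) (tt N3525 F11041) (tt N3739 (iv F11733)) (tt N3550 (iv F11122)) (tt N4875 D4944) (tt N2454 F11042))
theorem Q3527 : ∀ i, i < 3527 → P i := stepQ 3526 Q3526 (allL N3526 (tt N4860 (iv F15252)) (tt N2548 F11043) (tt N3739 (iv F11731)) (tt N4872 (iv F15290)) (tt N2452 (iv D3589)) (tt N3737 (iv F11724)) (tt N4876 D4945) (tt N2455 F11044))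
theorem Q3528 : ∀ i, i < 3528 → P i := stepQ 3527 Q3527 (allL N3527 (tt N4861 (iv F15254)) (tt N2549 F11045) (tt N4875 (iv F15300)) (tt N2453 F11046) (tt N4876 (iv F15303)) (tt N3714 (iv F11633)) (tt N2452 (iv D3590)) (tt N3713 F11631))
theorem Q3529 : ∀ i, i < 3529 → P i := stepQ 3528 Q3528 (allL N3528 (tt N4862 (iv F15256)) (tt N3745 (iv F11758)) (tt N3528 F11047) (tt N3714 F11635) (tt N4874 (iv F15298)) (tt N2453 (iv D3591)) (tt N3917 (iv F12365)) (tt N3762 (iv F11829)))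
theorem Q3530 : ∀ i, i < 3530 → P i := stepQ 3529 Q3529 (allL N3529 (tt N4877 D4946) (tt N2454 (iv D3592)) (tt N2551 F11048) (tt N2458 F11049) (tt N3709 (iv F11619)) (tt N3540 (iv F11080)) (tt N4878 D4947) (tt N4729 (iv F14813)))
theorem Q3531 : ∀ i, i < 3531 → P i := stepQ 3530 Q3530 (allL N3530 (tt N4864 (iv F15262)) (tt N4878 (iv F15309)) (tt N2456 F11050) (tt N2459 F11051) (tt N3738 (iv F11728)) (tt N3689 (iv F11551)) (tt N2454 (iv D3593)) (tt N3688 F11547))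
theorem Q3532 : ∀ i, i < 3532 → P i := stepQ 3531 Q3531 (allL N3531 (tt N2458 (iv D3594)) (tt N4865 (iv F15265)) (tt N2463 F11052) (tt N4877 (iv F15306)) (tt N3538 (iv F11073)) (tt N3537 F11069) (tt N4879 D4948) (tt N3531 F11053))
theorem Q3533 : ∀ i, i < 3533 → P i := stepQ 3532 Q3532 (allL N3532 (tt N4879 (iv F15312)) (tt N2459 F11054) (tt N2466 F11055) (tt N4878 (iv F15311)) (tt N3542 (iv F11087)) (tt N4880 D4949) (tt N2458 (iv D3595)) (tt N4881 D4950))
theorem Q3534 : ∀ i, i < 3534 → P i := stepQ 3533 Q3533 (allL N3533 (tt N4867 (iv F15272)) (tt N3694 (iv F11564)) (tt N2461 F11056) (tt N3689 F11553) (tt N2521 F11057) (tt N2459 (iv D3596)) (tt N2520 F11058) (tt N4882 D4951))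
theorem Q3535 : ∀ i, i < 3535 → P i := stepQ 3534 Q3534 (allL N3534 (tt N4868 (iv F15276)) (tt N4881 (iv F15316)) (tt N2462 F11059) (tt N4883 D4952) (tt N3551 (iv F11124)) (tt N4882 (iv F15323)) (tt N3534 F11060) (tt N2459 (iv D3597)))
theorem Q3536 : ∀ i, i < 3536 → P i := stepQ 3535 Q3535 (allL N3535 (tt N4869 (iv F15279)) (tt N3611 (iv F11339)) (tt N2521 F11061) (tt N3535 F11062) (tt N2461 F11063) (tt N2460 (iv D3598)) (tt N2487 F11064) (tt N4682 (iv F14662)))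
theorem Q3537 : ∀ i, i < 3537 → P i := stepQ 3536 Q3536 (allL N3536 (tt N4870 (iv F15284)) (tt N3612 (iv F11344)) (tt N4882 (iv F15321)) (tt N3698 (iv F11578)) (tt N4682 (iv F14659)) (tt N2462 F11065) (tt N4884 D4953) (tt N2461 (iv D3599)))
theorem Q3538 : ∀ i, i < 3538 → P i := stepQ 3537 Q3537 (allL N3537 (tt N2464 F11066) (tt N2800 F11067) (tt N3538 (iv F11071)) (tt N4308 (iv F13508)) (tt N2463 (iv D3600)) (tt N3531 (iv F11069)) (tt N4885 D4954) (tt N3537 F11068))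
theorem Q3539 : ∀ i, i < 3539 → P i := stepQ 3538 Q3538 (allL N3538 (tt N2465 F11070) (tt N4886 D4955) (tt N3537 F11071) (tt N2572 F11072) (tt N3531 F11073) (tt N2463 (iv D3601)) (tt N4887 D4956) (tt N3538 F11074))
theorem Q3540 : ∀ i, i < 3540 → P i := stepQ 3539 Q3539 (allL N3539 (tt N2466 F11075) (tt N2802 F11076) (tt N4879 (iv F15313)) (tt N2573 F11077) (tt N4885 (iv F15334)) (tt N4888 D4957) (tt N2463 (iv D3602)) (tt N4889 D4958))
theorem Q3541 : ∀ i, i < 3541 → P i := stepQ 3540 Q3540 (allL N3540 (tt N4308 (iv F13507)) (tt N2467 F11078) (tt N3674 (iv F11511)) (tt N2464 (iv D3603)) (tt N2574 F11079) (tt N3529 F11080) (tt N4890 D4959) (tt N3409 (iv F11081)))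
theorem Q3542 : ∀ i, i < 3542 → P i := stepQ 3541 Q3541 (allL N3541 (tt N4885 (iv F15332)) (tt N2468 F11082) (tt N3542 (iv F11085)) (tt N4890 (iv F15354)) (tt N2466 F11083) (tt N4891 D4960) (tt N2464 (iv D3604)) (tt N4698 (iv F14710)))
theorem Q3543 : ∀ i, i < 3543 → P i := stepQ 3542 Q3542 (allL N3542 (tt N4887 (iv F15341)) (tt N2473 F11084) (tt N3541 F11085) (tt N2577 F11086) (tt N3532 F11087) (tt N4892 D4961) (tt N2465 (iv D3605)) (tt N4893 D4962))
theorem Q3544 : ∀ i, i < 3544 → P i := stepQ 3543 Q3543 (allL N3543 (tt N4888 (iv F15345)) (tt N3601 (iv F11312)) (tt N4880 (iv F15314)) (tt N2578 F11088) (tt N4891 (iv F15357)) (tt N2466 (iv D3606)) (tt N4892 (iv F15363)) (tt N2590 (iv F11089)))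
theorem Q3545 : ∀ i, i < 3545 → P i := stepQ 3544 Q3544 (allL N3544 (tt N4889 (iv F15348)) (tt N2469 F11090) (tt N4881 (iv F15317)) (tt N2570 F11091) (tt N4698 (iv F14707)) (tt N2590 F11092) (tt N3544 F11093) (tt N2466 (iv D3607)))
theorem Q3546 : ∀ i, i < 3546 → P i := stepQ 3545 Q3545 (allL N3545 (tt N2807 F11094) (tt N4890 (iv F15353)) (tt N3545 F11095) (tt N2468 F11096) (tt N2580 F11097) (tt N3618 (iv F11362)) (tt N2467 (iv D3608)) (tt N3545 F11098))
theorem Q3547 : ∀ i, i < 3547 → P i := stepQ 3546 Q3546 (allL N3546 (tt N2808 F11099) (tt N2570 F11100) (tt N2557 F11101) (tt N2469 (iv D3609)) (tt N3546 F11102) (tt N3602 (iv F11319)) (tt N3546 F11103) (tt N2584 F11104))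
theorem Q3548 : ∀ i, i < 3548 → P i := stepQ 3547 Q3547 (allL N3547 (tt N2472 F11105) (tt N2809 F11106) (tt N3501 F11107) (tt N2470 (iv D3610)) (tt N2591 F11108) (tt N3515 F11109) (tt N3619 (iv F11367)) (tt N4659 (iv F14586)))
theorem Q3549 : ∀ i, i < 3549 → P i := stepQ 3548 Q3548 (allL N3548 (tt N4886 (iv F15335)) (tt N2471 (iv D3611)) (tt N3967 (iv F12523)) (tt N2593 F11110) (tt N3518 F11111) (tt N2811 F11112) (tt N4894 D4963) (tt N3548 F11113))
theorem Q3550 : ∀ i, i < 3550 → P i := stepQ 3549 Q3549 (allL N3549 (tt N2473 F11114) (tt N4894 (iv F15371)) (tt N3520 F11115) (tt N2594 F11116) (tt N3519 F11117) (tt N3622 (iv F11374)) (tt N2471 (iv D3612)) (tt N4895 D4964))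
theorem Q3551 : ∀ i, i < 3551 → P i := stepQ 3550 Q3550 (allL N3550 (tt N4659 (iv F14583)) (tt N2474 F11118) (tt N3504 F11119) (tt N3550 F11120) (tt N2599 F11121) (tt N3525 F11122) (tt N4896 D4965) (tt N2472 (iv D3613)))
theorem Q3552 : ∀ i, i < 3552 → P i := stepQ 3551 Q3551 (allL N3551 (tt N4895 (iv F15374)) (tt N4893 (iv F15365)) (tt N3383 F11123) (tt N4897 D4966) (tt N3534 F11124) (tt N3623 (iv F11375)) (tt N3551 F11125) (tt N2473 (iv D3614)))
theorem Q3553 : ∀ i, i < 3553 → P i := stepQ 3552 Q3552 (allL N3552 (tt N2815 F11126) (tt N4896 (iv F15378)) (tt N3552 F11127) (tt N3552 F11128) (tt N2607 F11129) (tt N3552 F11130) (tt N2474 (iv D3615)) (tt N3624 (iv F11381)))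
theorem Q3554 : ∀ i, i < 3554 → P i := stepQ 3553 Q3553 (allL N3553 (tt N3553 F11131) (tt N2489 F11132) (tt N3553 F11133) (tt N3130 F11134) (tt N3553 F11135) (tt N2475 (iv D3616)) (tt N3235 F11169) (tt N3222 (iv F11168)))
theorem Q3555 : ∀ i, i < 3555 → P i := stepQ 3554 Q3554 (allL N3554 (tt N3554 F11136) (tt N2476 F11137) (tt N3554 F11138) (tt N4420 F13861) (tt N3554 F11139) (tt N3222 F11167) (tt N3203 (iv F11166)) (tt N2475 (iv D3617)))
theorem Q3556 : ∀ i, i < 3556 → P i := stepQ 3555 Q3555 (allL N3555 (tt N2479 F11140) (tt N4420 F13860) (tt N4898 D4967) (tt N2476 (iv D3618)) (tt N4419 (iv F13862)) (tt N2492 F11141) (tt N4899 D4968) (tt N3242 F11142))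
theorem Q3557 : ∀ i, i < 3557 → P i := stepQ 3556 Q3556 (allL N3556 (tt N2480 F11143) (tt N3203 F11165) (tt N2478 F11144) (tt N4899 (iv F15394)) (tt N3556 F11145) (tt N3199 (iv F11164)) (tt N2476 (iv D3619)) (tt N3556 F11146))
theorem Q3558 : ∀ i, i < 3558 → P i := stepQ 3557 Q3557 (allL N3557 (tt N2481 F11147) (tt N4900 D4969) (tt N2477 (iv D3620)) (tt N4898 (iv F15389)) (tt N4901 D4970) (tt N2494 F11148) (tt N4902 D4971) (tt N2624 F11149))
theorem Q3559 : ∀ i, i < 3559 → P i := stepQ 3558 Q3558 (allL N3558 (tt N2482 F11150) (tt N3558 F11151) (tt N4901 (iv F15401)) (tt N3558 F11152) (tt N2477 (iv D3621)) (tt N2495 F11153) (tt N3569 (iv F11205)) (tt N2625 F11154))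
theorem Q3560 : ∀ i, i < 3560 → P i := stepQ 3559 Q3559 (allL N3559 (tt N2483 F11155) (tt N3559 F11156) (tt N4902 (iv F15405)) (tt N2478 F11157) (tt N3569 (iv F11204)) (tt N4903 D4972) (tt N2477 (iv D3622)) (tt N3780 (iv F11897)))
theorem Q3561 : ∀ i, i < 3561 → P i := stepQ 3560 Q3560 (allL N3560 (tt N2484 F11158) (tt N3184 (iv F11162)) (tt N3199 F11163) (tt N4903 (iv F15407)) (tt N3560 F11159) (tt N2478 (iv D3623)) (tt N2497 F11160) (tt N3560 F11161))
theorem Q3562 : ∀ i, i < 3562 → P i := stepQ 3561 Q3561 (allL N3561 (tt N4898 (iv F15388)) (tt N4904 D4973) (tt N2479 (iv D3624)) (tt N2481 F11170) (tt N4905 D4974) (tt N2500 F11171) (tt N4906 D4975) (tt N3351 F11172))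
theorem Q3563 : ∀ i, i < 3563 → P i := stepQ 3562 Q3562 (allL N3562 (tt N4419 F13863) (tt N3562 F11173) (tt N4905 (iv F15413)) (tt N3562 F11174) (tt N2479 (iv D3625)) (tt N2501 F11175) (tt N3380 (iv F11177)) (tt N3352 F11176))
theorem Q3564 : ∀ i, i < 3564 → P i := stepQ 3563 Q3563 (allL N3563 (tt N4899 (iv F15392)) (tt N3563 F11178) (tt N4906 (iv F15417)) (tt N2480 F11179) (tt N3380 F11180) (tt N2676 (iv F11181)) (tt N2479 (iv D3626)) (tt N2675 (iv F11182)))
theorem Q3565 : ∀ i, i < 3565 → P i := stepQ 3564 Q3564 (allL N3564 (tt N3199 F11183) (tt N2677 F11189) (tt N2484 F11184) (tt N2676 F11185) (tt N3564 F11186) (tt N2480 (iv D3627)) (tt N2503 F11187) (tt N3564 F11188))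
theorem Q3566 : ∀ i, i < 3566 → P i := stepQ 3565 Q3565 (allL N3565 (tt N4907 D4976) (tt N2481 (iv D3628)) (tt N2485 F11190) (tt N4904 (iv F15411)) (tt N3567 (iv F11198)) (tt N4908 D4977) (tt N3566 F11195) (tt N2628 F11191))
theorem Q3567 : ∀ i, i < 3567 → P i := stepQ 3566 Q3566 (allL N3566 (tt N4901 (iv F15400)) (tt N3567 (iv F11196)) (tt N2482 F11192) (tt N4909 D4978) (tt N2481 (iv D3629)) (tt N2505 F11193) (tt N3565 (iv F11195)) (tt N2629 F11194))
theorem Q3568 : ∀ i, i < 3568 → P i := stepQ 3567 Q3567 (allL N3567 (tt N4902 (iv F15404)) (tt N3566 F11196) (tt N2483 F11197) (tt N4906 (iv F15418)) (tt N3565 F11198) (tt N4910 D4979) (tt N2481 (iv D3630)) (tt N3773 (iv F11870)))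
theorem Q3569 : ∀ i, i < 3569 → P i := stepQ 3568 Q3568 (allL N3568 (tt N4903 (iv F15406)) (tt N3506 F11199) (tt N4910 (iv F15434)) (tt N2484 F11200) (tt N3570 (iv F11209)) (tt N2483 (iv D3631)) (tt N2508 F11201) (tt N3783 (iv F11909)))
theorem Q3570 : ∀ i, i < 3570 → P i := stepQ 3569 Q3569 (allL N3569 (tt N2485 (iv D3632)) (tt N3569 F11202) (tt N4907 (iv F15422)) (tt N3569 F11203) (tt N3559 F11204) (tt N4911 D4980) (tt N3558 F11205) (tt N2634 F11206))
theorem Q3571 : ∀ i, i < 3571 → P i := stepQ 3570 Q3570 (allL N3570 (tt N4911 (iv F15438)) (tt N2487 F11207) (tt N4908 (iv F15427)) (tt N3570 F11208) (tt N3568 F11209) (tt N2485 (iv D3633)) (tt N3611 (iv F11342)) (tt N2636 F11210))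
theorem Q3572 : ∀ i, i < 3572 → P i := stepQ 3571 Q3571 (allL N3571 (tt N2487 F11211) (tt N4462 (iv F14000)) (tt N2518 F11212) (tt N3571 F11213) (tt N4448 F13960) (tt N2486 (iv D3634)) (tt N4869 (iv F15283)) (tt N2639 F11214))
theorem Q3573 : ∀ i, i < 3573 → P i := stepQ 3572 Q3572 (allL N3572 (tt N3757 (iv F11809)) (tt N2642 F11215) (tt N2488 (iv D3635)) (tt N2816 F11216) (tt N3048 F11217) (tt N4912 D4981) (tt N2523 F11218) (tt N4913 D4982))
theorem Q3574 : ∀ i, i < 3574 → P i := stepQ 3573 Q3573 (allL N3573 (tt N3758 (iv F11813)) (tt N3130 F11219) (tt N4912 (iv F15443)) (tt N2489 F11220) (tt N3132 F11221) (tt N2488 (iv D3636)) (tt N4914 D4983) (tt N4915 D4984))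
theorem Q3575 : ∀ i, i < 3575 → P i := stepQ 3574 Q3574 (allL N3574 (tt N3759 (iv F11816)) (tt N2491 F11222) (tt N4913 (iv F15447)) (tt N4916 D4985) (tt N3245 F11223) (tt N4915 (iv F15455)) (tt N4917 D4986) (tt N2488 (iv D3637)))
theorem Q3576 : ∀ i, i < 3576 → P i := stepQ 3575 Q3575 (allL N3575 (tt N3760 (iv F11818)) (tt N3235 F11224) (tt N2820 F11225) (tt N4914 (iv F15450)) (tt N3575 F11226) (tt N2527 F11227) (tt N2489 (iv D3638)) (tt N2990 (iv F11228)))
theorem Q3577 : ∀ i, i < 3577 → P i := stepQ 3576 Q3576 (allL N3576 (tt N3753 (iv F11790)) (tt N3222 F11229) (tt N2821 F11230) (tt N4426 F13881) (tt N3576 F11231) (tt N2490 F11232) (tt N2981 F11233) (tt N2489 (iv D3639)))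
theorem Q3578 : ∀ i, i < 3578 → P i := stepQ 3577 Q3577 (allL N3577 (tt N3752 (iv F11788)) (tt N2492 F11234) (tt N4444 (iv F13941)) (tt N2490 (iv D3640)) (tt N4427 (iv F13887)) (tt N4426 F13882) (tt N4918 D4987) (tt N4916 (iv F15457)))
theorem Q3579 : ∀ i, i < 3579 → P i := stepQ 3578 Q3578 (allL N3578 (tt N3724 (iv F11678)) (tt N2493 F11235) (tt N2823 F11236) (tt N4918 (iv F15462)) (tt N3578 F11237) (tt N2955 F11238) (tt N2490 (iv D3641)) (tt N2530 F11239))
theorem Q3580 : ∀ i, i < 3580 → P i := stepQ 3579 Q3579 (allL N3579 (tt N2498 F11240) (tt N4916 (iv F15456)) (tt N4919 D4988) (tt N2491 (iv D3642)) (tt N4920 D4989) (tt N3242 F11241) (tt N4921 D4990) (tt N2492 F11242))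
theorem Q3581 : ∀ i, i < 3581 → P i := stepQ 3580 Q3580 (allL N3580 (tt N2499 F11243) (tt N4917 (iv F15458)) (tt N2647 F11244) (tt N4921 (iv F15473)) (tt N3247 F11245) (tt N4922 D4991) (tt N2491 (iv D3643)) (tt N2533 F11246))
theorem Q3582 : ∀ i, i < 3582 → P i := stepQ 3581 Q3581 (allL N3581 (tt N2500 F11247) (tt N4923 D4992) (tt N2492 (iv D3644)) (tt N2494 F11248) (tt N4924 D4993) (tt N4898 (iv F15390)) (tt N4925 D4994) (tt N4919 (iv F15467)))
theorem Q3583 : ∀ i, i < 3583 → P i := stepQ 3582 Q3582 (allL N3582 (tt N2501 F11249) (tt N4427 (iv F13884)) (tt N4924 (iv F15481)) (tt N3582 F11250) (tt N2492 (iv D3645)) (tt N4419 F13864) (tt N4926 D4995) (tt N4920 (iv F15471)))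
theorem Q3584 : ∀ i, i < 3584 → P i := stepQ 3583 Q3583 (allL N3583 (tt N2502 F11251) (tt N4918 (iv F15461)) (tt N4925 (iv F15483)) (tt N2493 F11252) (tt N4926 (iv F15487)) (tt N4927 D4996) (tt N2492 (iv D3646)) (tt N4928 D4997))
theorem Q3585 : ∀ i, i < 3585 → P i := stepQ 3584 Q3584 (allL N3584 (tt N2503 F11253) (tt N2939 F11254) (tt N2497 F11255) (tt N4927 (iv F15491)) (tt N3584 F11256) (tt N2493 (iv D3647)) (tt N3199 F11257) (tt N2537 F11258))
theorem Q3586 : ∀ i, i < 3586 → P i := stepQ 3585 Q3585 (allL N3585 (tt N4929 D4998) (tt N2494 (iv D3648)) (tt N2831 F11259) (tt N4923 (iv F15479)) (tt N4930 D4999) (tt N4931 D5000) (tt N4932 D5001) (tt N2652 F11260))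
theorem Q3587 : ∀ i, i < 3587 → P i := stepQ 3586 Q3586 (allL N3586 (tt N2505 F11261) (tt N4930 (iv F15501)) (tt N2495 F11262) (tt N4933 D5002) (tt N2494 (iv D3649)) (tt N4901 (iv F15402)) (tt N4934 D5003) (tt N2653 F11263))
theorem Q3588 : ∀ i, i < 3588 → P i := stepQ 3587 Q3587 (allL N3587 (tt N2506 F11264) (tt N4932 (iv F15506)) (tt N2496 F11265) (tt N4925 (iv F15484)) (tt N4934 (iv F15512)) (tt N4935 D5004) (tt N2494 (iv D3650)) (tt N4936 D5005))
theorem Q3589 : ∀ i, i < 3589 → P i := stepQ 3588 Q3588 (allL N3588 (tt N2507 F11266) (tt N2834 F11267) (tt N4934 (iv F15511)) (tt N3588 F11268) (tt N2496 F11269) (tt N4937 D5006) (tt N2495 (iv D3651)) (tt N3253 F11270))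
theorem Q3590 : ∀ i, i < 3590 → P i := stepQ 3589 Q3589 (allL N3589 (tt N2508 F11271) (tt N4938 D5007) (tt N4935 (iv F15515)) (tt N2497 F11272) (tt N4937 (iv F15522)) (tt N2496 (iv D3652)) (tt N4903 (iv F15408)) (tt N4939 D5008))
theorem Q3591 : ∀ i, i < 3591 → P i := stepQ 3590 Q3590 (allL N3590 (tt N2509 F11273) (tt N2836 F11274) (tt N4936 (iv F15517)) (tt N2543 F11275) (tt N3253 F11276) (tt N4939 (iv F15532)) (tt N2655 F11277) (tt N2496 (iv D3653)))
theorem Q3592 : ∀ i, i < 3592 → P i := stepQ 3591 Q3591 (allL N3591 (tt N2917 F11278) (tt N2497 (iv D3654)) (tt N2916 F11279) (tt N4938 (iv F15526)) (tt N3591 F11280) (tt N2837 F11281) (tt N3184 F11282) (tt N2544 F11283))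
theorem Q3593 : ∀ i, i < 3593 → P i := stepQ 3592 Q3592 (allL N3592 (tt N4919 (iv F15464)) (tt N3597 (iv F11299)) (tt N2498 (iv D3655)) (tt N2657 F11284) (tt N3596 F11298) (tt N3351 F11285) (tt N4940 D5009) (tt N2500 F11286))
theorem Q3594 : ∀ i, i < 3594 → P i := stepQ 3593 Q3593 (allL N3593 (tt N4920 (iv F15468)) (tt N2613 F11287) (tt N3596 (iv F11296)) (tt N2610 F11288) (tt N2498 (iv D3656)) (tt N3352 F11289) (tt N4941 D5010) (tt N2501 F11290))
theorem Q3595 : ∀ i, i < 3595 → P i := stepQ 3594 Q3594 (allL N3594 (tt N4921 (iv F15472)) (tt N3756 (iv F11805)) (tt N4940 (iv F15533)) (tt N2499 F11291) (tt N4941 (iv F15537)) (tt N4942 D5011) (tt N2498 (iv D3657)) (tt N4943 D5012))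
theorem Q3596 : ∀ i, i < 3596 → P i := stepQ 3595 Q3595 (allL N3595 (tt N4922 (iv F15474)) (tt N4944 D5013) (tt N2660 F11292) (tt N4942 (iv F15539)) (tt N3358 F11293) (tt N2499 (iv D3658)) (tt N3354 F11294) (tt N2550 F11295))
theorem Q3597 : ∀ i, i < 3597 → P i := stepQ 3596 Q3596 (allL N3596 (tt N4945 D5014) (tt N2500 (iv D3659)) (tt N3593 F11296) (tt N2504 F11297) (tt N3592 (iv F11298)) (tt N4662 (iv F14595)) (tt N4946 D5015) (tt N3597 (iv F11301)))
theorem Q3598 : ∀ i, i < 3598 → P i := stepQ 3597 Q3597 (allL N3597 (tt N4924 (iv F15480)) (tt N3592 F11299) (tt N2501 F11300) (tt N3809 (iv F11985)) (tt N2500 (iv D3660)) (tt N4905 (iv F15414)) (tt N4947 D5016) (tt N3596 F11301))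
theorem Q3599 : ∀ i, i < 3599 → P i := stepQ 3598 Q3598 (allL N3598 (tt N4925 (iv F15482)) (tt N4946 (iv F15555)) (tt N2502 F11302) (tt N2506 F11303) (tt N4947 (iv F15561)) (tt N4948 D5017) (tt N2500 (iv D3661)) (tt N4949 D5018))
theorem Q3600 : ∀ i, i < 3600 → P i := stepQ 3599 Q3599 (allL N3599 (tt N4926 (iv F15485)) (tt N3726 (iv F11686)) (tt N4947 (iv F15560)) (tt N3599 F11304) (tt N2502 F11305) (tt N3381 F11306) (tt N2501 (iv D3662)) (tt N4950 D5019))
theorem Q3601 : ∀ i, i < 3601 → P i := stepQ 3600 Q3600 (allL N3600 (tt N4927 (iv F15489)) (tt N2516 F11307) (tt N4948 (iv F15563)) (tt N2503 F11308) (tt N3381 F11309) (tt N2502 (iv D3663)) (tt N2676 F11310) (tt N2513 (iv F11311)))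
theorem Q3602 : ∀ i, i < 3602 → P i := stepQ 3601 Q3601 (allL N3601 (tt N4928 (iv F15495)) (tt N3543 F11312) (tt N4949 (iv F15569)) (tt N2556 F11313) (tt N4950 (iv F15572)) (tt N2513 F11314) (tt N4943 (iv F15545)) (tt N2502 (iv D3664)))
theorem Q3603 : ∀ i, i < 3603 → P i := stepQ 3602 Q3602 (allL N3602 (tt N2867 F11315) (tt N2503 (iv D3665)) (tt N2584 F11316) (tt N2516 F11317) (tt N3602 F11318) (tt N3546 F11319) (tt N2677 F11320) (tt N2557 F11321))
theorem Q3604 : ∀ i, i < 3604 → P i := stepQ 3603 Q3603 (allL N3603 (tt N2504 (iv D3666)) (tt N4929 (iv F15498)) (tt N2510 F11322) (tt N4945 (iv F15552)) (tt N4951 D5020) (tt N4952 D5021) (tt N4953 D5022) (tt N2665 F11323))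
theorem Q3605 : ∀ i, i < 3605 → P i := stepQ 3604 Q3604 (allL N3604 (tt N4951 (iv F15574)) (tt N2505 F11324) (tt N2511 F11325) (tt N3810 (iv F11990)) (tt N2504 (iv D3667)) (tt N3828 (iv F12042)) (tt N4954 D5023) (tt N2666 F11326))
theorem Q3606 : ∀ i, i < 3606 → P i := stepQ 3605 Q3605 (allL N3605 (tt N4952 (iv F15577)) (tt N4908 (iv F15426)) (tt N2512 F11327) (tt N4662 (iv F14594)) (tt N3828 F12044) (tt N2504 (iv D3668)) (tt N4955 D5024) (tt N2667 F11328))
theorem Q3607 : ∀ i, i < 3607 → P i := stepQ 3606 Q3606 (allL N3606 (tt N4953 (iv F15580)) (tt N2506 F11329) (tt N2513 F11330) (tt N4946 (iv F15557)) (tt N4954 (iv F15584)) (tt N4949 (iv F15570)) (tt N2504 (iv D3669)) (tt N4948 F15568))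
theorem Q3608 : ∀ i, i < 3608 → P i := stepQ 3607 Q3607 (allL N3607 (tt N4933 (iv F15508)) (tt N3810 (iv F11988)) (tt N3607 F11331) (tt N2505 (iv D3670)) (tt N3809 F11987) (tt N4909 (iv F15431)) (tt N4956 D5025) (tt N3817 (iv F12015)))
theorem Q3609 : ∀ i, i < 3609 → P i := stepQ 3608 Q3608 (allL N3608 (tt N4934 (iv F15510)) (tt N4954 (iv F15582)) (tt N2507 F11332) (tt N4956 (iv F15588)) (tt N2506 F11333) (tt N4957 D5026) (tt N2505 (iv D3671)) (tt N3365 F11334))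
theorem Q3610 : ∀ i, i < 3610 → P i := stepQ 3609 Q3609 (allL N3609 (tt N4935 (iv F15514)) (tt N4958 D5027) (tt N2508 F11335) (tt N4948 (iv F15564)) (tt N4957 (iv F15590)) (tt N2506 (iv D3672)) (tt N4910 (iv F15437)) (tt N4959 D5028))
theorem Q3611 : ∀ i, i < 3611 → P i := stepQ 3610 Q3610 (allL N3610 (tt N4936 (iv F15516)) (tt N4948 (iv F15567)) (tt N2509 F11336) (tt N4958 (iv F15595)) (tt N3365 F11337) (tt N4959 (iv F15600)) (tt N2669 F11338) (tt N2506 (iv D3673)))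
theorem Q3612 : ∀ i, i < 3612 → P i := stepQ 3611 Q3611 (allL N3611 (tt N4937 (iv F15520)) (tt N3535 F11339) (tt N4957 (iv F15589)) (tt N3611 F11340) (tt N2508 F11341) (tt N2507 (iv D3674)) (tt N3570 F11342) (tt N3366 F11343))
theorem Q3613 : ∀ i, i < 3613 → P i := stepQ 3612 Q3612 (allL N3612 (tt N4939 (iv F15529)) (tt N3536 F11344) (tt N4959 (iv F15598)) (tt N2568 F11345) (tt N3366 F11346) (tt N2509 F11347) (tt N4960 D5029) (tt N2508 (iv D3675)))
theorem Q3614 : ∀ i, i < 3614 → P i := stepQ 3613 Q3613 (allL N3613 (tt N2511 F11348) (tt N2857 F11349) (tt N4951 (iv F15575)) (tt N3883 (iv F12225)) (tt N2510 (iv D3676)) (tt N3884 (iv F12230)) (tt N4961 D5030) (tt N2670 F11350))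
theorem Q3615 : ∀ i, i < 3615 → P i := stepQ 3614 Q3614 (allL N3614 (tt N2512 F11351) (tt N4962 D5031) (tt N4952 (iv F15578)) (tt N3746 (iv F11762)) (tt N3884 (iv F12229)) (tt N2510 (iv D3677)) (tt N4963 D5032) (tt N2671 F11352))
theorem Q3616 : ∀ i, i < 3616 → P i := stepQ 3615 Q3615 (allL N3615 (tt N2513 F11353) (tt N2859 F11354) (tt N4953 (iv F15581)) (tt N3717 (iv F11650)) (tt N4961 (iv F15607)) (tt N4928 (iv F15497)) (tt N2510 (iv D3678)) (tt N4927 F15494))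
theorem Q3617 : ∀ i, i < 3617 → P i := stepQ 3616 Q3616 (allL N3616 (tt N4961 (iv F15605)) (tt N2515 F11355) (tt N4954 (iv F15583)) (tt N3906 (iv F12321)) (tt N2513 F11356) (tt N4950 (iv F15573)) (tt N2511 (iv D3679)) (tt N3381 F11357))
theorem Q3618 : ∀ i, i < 3618 → P i := stepQ 3617 Q3617 (allL N3617 (tt N4963 (iv F15612)) (tt N2521 F11358) (tt N4955 (iv F15586)) (tt N3743 (iv F11747)) (tt N3694 F11566) (tt N4943 (iv F15544)) (tt N2512 (iv D3680)) (tt N4942 (iv F15541)))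
theorem Q3619 : ∀ i, i < 3619 → P i := stepQ 3618 Q3618 (allL N3618 (tt N2866 F11359) (tt N3906 (iv F12319)) (tt N3618 F11360) (tt N2515 F11361) (tt N3715 (iv F11639)) (tt N3545 F11362) (tt N2514 (iv D3681)) (tt N3618 F11363))
theorem Q3620 : ∀ i, i < 3620 → P i := stepQ 3619 Q3619 (allL N3619 (tt N2519 F11364) (tt N2868 F11365) (tt N3914 (iv F12349)) (tt N2517 (iv D3682)) (tt N3214 F11366) (tt N3902 (iv F12305)) (tt N3547 F11367) (tt N3901 F12300))
theorem Q3621 : ∀ i, i < 3621 → P i := stepQ 3620 Q3620 (allL N3620 (tt N2520 F11368) (tt N4964 D5033) (tt N4448 (iv F13957)) (tt N3902 (iv F12303)) (tt N2518 F11369) (tt N2517 (iv D3683)) (tt N4867 (iv F15275)) (tt N2679 F11370))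
theorem Q3622 : ∀ i, i < 3622 → P i := stepQ 3621 Q3621 (allL N3621 (tt N4962 (iv F15609)) (tt N2518 (iv D3684)) (tt N4965 D5034) (tt N3736 (iv F11718)) (tt N4964 (iv F15613)) (tt N2870 F11371) (tt N4966 D5035) (tt N2680 F11372))
theorem Q3623 : ∀ i, i < 3623 → P i := stepQ 3622 Q3622 (allL N3622 (tt N2521 F11373) (tt N4966 (iv F15618)) (tt N4869 (iv F15280)) (tt N3734 (iv F11713)) (tt N4867 (iv F15274)) (tt N3549 F11374) (tt N2518 (iv D3685)) (tt N4967 D5036))
theorem Q3624 : ∀ i, i < 3624 → P i := stepQ 3623 Q3623 (allL N3623 (tt N4967 (iv F15619)) (tt N4942 (iv F15538)) (tt N4682 F14663) (tt N4944 (iv F15546)) (tt N4882 (iv F15322)) (tt N3551 F11375) (tt N2685 F11376) (tt N2521 (iv D3686)))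
theorem Q3625 : ∀ i, i < 3625 → P i := stepQ 3624 Q3624 (allL N3624 (tt N2876 F11377) (tt N3904 (iv F12315)) (tt N3624 F11378) (tt N2686 F11379) (tt N3747 (iv F11770)) (tt N3624 F11380) (tt N2522 (iv D3687)) (tt N3552 F11381))
theorem Q3626 : ∀ i, i < 3626 → P i := stepQ 3625 Q3625 (allL N3625 (tt N4847 (iv F15213)) (tt N2687 F11382) (tt N2524 F11383) (tt N4968 D5037) (tt N2523 (iv D3688)) (tt N4969 D5038) (tt N3048 F11384) (tt N4970 D5039))
theorem Q3627 : ∀ i, i < 3627 → P i := stepQ 3626 Q3626 (allL N3626 (tt N4848 (iv F15217)) (tt N4971 D5040) (tt N2525 F11385) (tt N2878 F11386) (tt N4969 (iv F15627)) (tt N2523 (iv D3689)) (tt N4972 D5041) (tt N4973 D5042))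
theorem Q3628 : ∀ i, i < 3628 → P i := stepQ 3627 Q3627 (allL N3627 (tt N4849 (iv F15220)) (tt N2689 F11387) (tt N2526 F11388) (tt N4974 D5043) (tt N4970 (iv F15630)) (tt N4973 (iv F15637)) (tt N4975 D5044) (tt N2523 (iv D3690)))
theorem Q3629 : ∀ i, i < 3629 → P i := stepQ 3628 Q3628 (allL N3628 (tt N4850 (iv F15223)) (tt N3628 F11389) (tt N4969 (iv F15626)) (tt N3628 F11390) (tt N2525 F11391) (tt N2524 (iv D3691)) (tt N4976 D5045) (tt N4977 D5046))
theorem Q3630 : ∀ i, i < 3630 → P i := stepQ 3629 Q3629 (allL N3629 (tt N4851 (iv F15226)) (tt N2531 F11392) (tt N4970 (iv F15629)) (tt N4978 D5047) (tt N2526 F11393) (tt N4977 (iv F15648)) (tt N4979 D5048) (tt N2524 (iv D3692)))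
theorem Q3631 : ∀ i, i < 3631 → P i := stepQ 3630 Q3630 (allL N3630 (tt N4101 (iv F12901)) (tt N3630 F11394) (tt N4972 (iv F15634)) (tt N2527 F11395) (tt N4976 (iv F15644)) (tt N4914 (iv F15452)) (tt N2525 (iv D3693)) (tt N4980 D5049))
theorem Q3632 : ∀ i, i < 3632 → P i := stepQ 3631 Q3631 (allL N3631 (tt N4852 (iv F15229)) (tt N3631 F11396) (tt N4973 (iv F15636)) (tt N4981 D5050) (tt N4977 (iv F15647)) (tt N2526 F11397) (tt N4982 D5051) (tt N2525 (iv D3694)))
theorem Q3633 : ∀ i, i < 3633 → P i := stepQ 3632 Q3632 (allL N3632 (tt N4853 (iv F15231)) (tt N2532 F11398) (tt N4983 D5052) (tt N2526 (iv D3695)) (tt N4984 D5053) (tt N4981 (iv F15656)) (tt N4985 D5054) (tt N2529 F11399))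
theorem Q3634 : ∀ i, i < 3634 → P i := stepQ 3633 Q3633 (allL N3633 (tt N4854 (iv F15234)) (tt N2533 F11400) (tt N4975 (iv F15641)) (tt N4985 (iv F15663)) (tt N4979 (iv F15652)) (tt N4986 D5055) (tt N2526 (iv D3696)) (tt N4917 (iv F15460)))
theorem Q3635 : ∀ i, i < 3635 → P i := stepQ 3634 Q3634 (allL N3634 (tt N4104 (iv F12908)) (tt N3634 F11401) (tt N4987 D5056) (tt N2528 (iv D3697)) (tt N4988 D5057) (tt N2529 F11402) (tt N3954 (iv F12483)) (tt N4981 (iv F15657)))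
theorem Q3636 : ∀ i, i < 3636 → P i := stepQ 3635 Q3635 (allL N3635 (tt N4855 (iv F15236)) (tt N4989 D5058) (tt N2529 (iv D3698)) (tt N2889 F11403) (tt N4990 D5059) (tt N4987 (iv F15665)) (tt N4991 D5060) (tt N4983 (iv F15659)))
theorem Q3637 : ∀ i, i < 3637 → P i := stepQ 3636 Q3636 (allL N3636 (tt N4856 (iv F15238)) (tt N2535 F11404) (tt N4990 (iv F15671)) (tt N3636 F11405) (tt N2529 (iv D3699)) (tt N4988 (iv F15668)) (tt N4992 D5061) (tt N4984 (iv F15661)))
theorem Q3638 : ∀ i, i < 3638 → P i := stepQ 3637 Q3637 (allL N3637 (tt N4109 (iv F12918)) (tt N2536 F11406) (tt N4991 (iv F15672)) (tt N2530 F11407) (tt N4992 (iv F15676)) (tt N3957 (iv F12491)) (tt N2529 (iv D3700)) (tt N4993 D5062))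
theorem Q3639 : ∀ i, i < 3639 → P i := stepQ 3638 Q3638 (allL N3638 (tt N2545 F11408) (tt N4978 (iv F15649)) (tt N3638 F11409) (tt N2531 (iv D3701)) (tt N4994 D5063) (tt N3638 F11410) (tt N4995 D5064) (tt N3638 F11411))
theorem Q3640 : ∀ i, i < 3640 → P i := stepQ 3639 Q3639 (allL N3639 (tt N2546 F11412) (tt N4979 (iv F15651)) (tt N2699 F11413) (tt N4995 (iv F15685)) (tt N2533 F11414) (tt N4996 D5065) (tt N2531 (iv D3702)) (tt N3247 F11415))
theorem Q3641 : ∀ i, i < 3641 → P i := stepQ 3640 Q3640 (allL N3640 (tt N2547 F11416) (tt N4997 D5066) (tt N2532 (iv D3703)) (tt N2700 F11417) (tt N4998 D5067) (tt N3640 F11418) (tt N4999 D5068) (tt N2534 F11419))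
theorem Q3642 : ∀ i, i < 3642 → P i := stepQ 3641 Q3641 (allL N3641 (tt N2548 F11420) (tt N4984 (iv F15660)) (tt N4998 (iv F15694)) (tt N4994 (iv F15680)) (tt N2532 (iv D3704)) (tt N3641 F11421) (tt N5000 D5069) (tt N2535 F11422))
theorem Q3643 : ∀ i, i < 3643 → P i := stepQ 3642 Q3642 (allL N3642 (tt N2549 F11423) (tt N4985 (iv F15662)) (tt N4999 (iv F15699)) (tt N2533 F11424) (tt N5000 (iv F15702)) (tt N5001 D5070) (tt N2532 (iv D3705)) (tt N5002 D5071))
theorem Q3644 : ∀ i, i < 3644 → P i := stepQ 3643 Q3643 (allL N3643 (tt N2550 F11425) (tt N5003 D5072) (tt N2702 F11426) (tt N5001 (iv F15704)) (tt N4996 (iv F15688)) (tt N2533 (iv D3706)) (tt N3643 F11427) (tt N4922 (iv F15478)))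
theorem Q3645 : ∀ i, i < 3645 → P i := stepQ 3644 Q3644 (allL N3644 (tt N5004 D5073) (tt N2534 (iv D3707)) (tt N4989 (iv F15669)) (tt N2538 F11428) (tt N5005 D5074) (tt N5006 D5075) (tt N5007 D5076) (tt N4997 (iv F15692)))
theorem Q3646 : ∀ i, i < 3646 → P i := stepQ 3645 Q3645 (allL N3645 (tt N2552 F11429) (tt N5005 (iv F15711)) (tt N2535 F11430) (tt N5008 D5077) (tt N2534 (iv D3708)) (tt N3645 F11431) (tt N5009 D5078) (tt N4998 (iv F15697)))
theorem Q3647 : ∀ i, i < 3647 → P i := stepQ 3646 Q3646 (allL N3646 (tt N2553 F11432) (tt N5007 (iv F15714)) (tt N2536 F11433) (tt N2540 F11434) (tt N5009 (iv F15723)) (tt N5010 D5079) (tt N2534 (iv D3709)) (tt N5011 D5080))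
theorem Q3648 : ∀ i, i < 3648 → P i := stepQ 3647 Q3647 (allL N3647 (tt N2554 F11435) (tt N4992 (iv F15674)) (tt N5009 (iv F15722)) (tt N3647 F11436) (tt N2536 F11437) (tt N4703 (iv F14729)) (tt N2535 (iv D3710)) (tt N5012 D5081))
theorem Q3649 : ∀ i, i < 3649 → P i := stepQ 3648 Q3648 (allL N3648 (tt N2555 F11438) (tt N3964 (iv F12513)) (tt N5010 (iv F15725)) (tt N2537 F11439) (tt N4703 (iv F14728)) (tt N2536 (iv D3711)) (tt N3648 F11440) (tt N3717 (iv F11653)))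
theorem Q3650 : ∀ i, i < 3650 → P i := stepQ 3649 Q3649 (allL N3649 (tt N2556 F11441) (tt N4993 (iv F15677)) (tt N5011 (iv F15729)) (tt N4928 (iv F15496)) (tt N5012 (iv F15731)) (tt N3717 (iv F11651)) (tt N5002 (iv F15707)) (tt N2536 (iv D3712)))
theorem Q3651 : ∀ i, i < 3651 → P i := stepQ 3650 Q3650 (allL N3650 (tt N2538 (iv D3713)) (tt N2558 F11442) (tt N2906 F11443) (tt N5004 (iv F15710)) (tt N5013 D5082) (tt N5014 D5083) (tt N5015 D5084) (tt N2707 F11444))
theorem Q3652 : ∀ i, i < 3652 → P i := stepQ 3651 Q3651 (allL N3651 (tt N5013 (iv F15732)) (tt N2539 F11445) (tt N2907 F11446) (tt N5016 D5085) (tt N2538 (iv D3714)) (tt N5017 D5086) (tt N5018 D5087) (tt N2708 F11447))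
theorem Q3653 : ∀ i, i < 3653 → P i := stepQ 3652 Q3652 (allL N3652 (tt N5014 (iv F15736)) (tt N3652 F11448) (tt N2908 F11449) (tt N5006 (iv F15713)) (tt N5017 (iv F15746)) (tt N2538 (iv D3715)) (tt N5019 D5088) (tt N2709 F11450))
theorem Q3654 : ∀ i, i < 3654 → P i := stepQ 3653 Q3653 (allL N3653 (tt N5015 (iv F15739)) (tt N2540 F11451) (tt N2909 F11452) (tt N5007 (iv F15715)) (tt N5018 (iv F15750)) (tt N5020 D5089) (tt N2538 (iv D3716)) (tt N5021 D5090))
theorem Q3655 : ∀ i, i < 3655 → P i := stepQ 3654 Q3654 (allL N3654 (tt N2562 F11453) (tt N5016 (iv F15742)) (tt N3654 F11454) (tt N2539 (iv D3717)) (tt N5008 (iv F15718)) (tt N3654 F11455) (tt N5022 D5091) (tt N3654 F11456))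
theorem Q3656 : ∀ i, i < 3656 → P i := stepQ 3655 Q3655 (allL N3655 (tt N2563 F11457) (tt N5018 (iv F15748)) (tt N2541 F11458) (tt N5022 (iv F15761)) (tt N2540 F11459) (tt N5023 D5092) (tt N2539 (iv D3718)) (tt N3259 F11460))
theorem Q3657 : ∀ i, i < 3657 → P i := stepQ 3656 Q3656 (allL N3656 (tt N2564 F11461) (tt N5024 D5093) (tt N2542 F11462) (tt N5010 (iv F15726)) (tt N5023 (iv F15764)) (tt N2540 (iv D3719)) (tt N3656 F11463) (tt N5025 D5094))
theorem Q3658 : ∀ i, i < 3658 → P i := stepQ 3657 Q3657 (allL N3657 (tt N2565 F11464) (tt N5021 (iv F15755)) (tt N2543 F11465) (tt N5026 D5095) (tt N3259 F11466) (tt N5025 (iv F15771)) (tt N2712 F11467) (tt N2540 (iv D3720)))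
theorem Q3659 : ∀ i, i < 3659 → P i := stepQ 3658 Q3658 (allL N3658 (tt N2566 F11468) (tt N4474 (iv F14050)) (tt N5023 (iv F15763)) (tt N3658 F11469) (tt N2542 F11470) (tt N2541 (iv D3721)) (tt N3658 F11471) (tt N3260 F11472))
theorem Q3660 : ∀ i, i < 3660 → P i := stepQ 3659 Q3659 (allL N3659 (tt N4480 (iv F14078)) (tt N2542 (iv D3722)) (tt N5027 D5096) (tt N2544 F11473) (tt N4474 (iv F14052)) (tt N2914 F11474) (tt N3659 F11475) (tt N5028 D5097))
theorem Q3661 : ∀ i, i < 3661 → P i := stepQ 3660 Q3660 (allL N3660 (tt N2568 F11476) (tt N5028 (iv F15777)) (tt N5025 (iv F15769)) (tt N4939 (iv F15530)) (tt N3260 F11477) (tt N2543 F11478) (tt N5029 D5098) (tt N2542 (iv D3723)))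
theorem Q3662 : ∀ i, i < 3662 → P i := stepQ 3661 Q3661 (allL N3661 (tt N2544 (iv D3724)) (tt N2569 F11479) (tt N2837 F11480) (tt N4480 (iv F14080)) (tt N3661 F11481) (tt N2916 F11482) (tt N3661 F11483) (tt N2917 F11484))
theorem Q3663 : ∀ i, i < 3663 → P i := stepQ 3662 Q3662 (allL N3662 (tt N4994 (iv F15678)) (tt N4872 (iv F15289)) (tt N3662 F11485) (tt N2548 F11486) (tt N2545 (iv D3725)) (tt N3662 F11487) (tt N5030 D5099) (tt N3662 F11488))
theorem Q3664 : ∀ i, i < 3664 → P i := stepQ 3663 Q3663 (allL N3663 (tt N4995 (iv F15683)) (tt N4873 (iv F15292)) (tt N3663 F11489) (tt N2546 F11490) (tt N5030 (iv F15786)) (tt N5031 D5100) (tt N2545 (iv D3726)) (tt N5032 D5101))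
theorem Q3665 : ∀ i, i < 3665 → P i := stepQ 3664 Q3664 (allL N3664 (tt N4996 (iv F15686)) (tt N5033 D5102) (tt N2715 F11491) (tt N5031 (iv F15788)) (tt N2550 F11492) (tt N2546 (iv D3727)) (tt N3664 F11493) (tt N3358 F11494))
theorem Q3666 : ∀ i, i < 3666 → P i := stepQ 3665 Q3665 (allL N3665 (tt N5034 D5103) (tt N2547 (iv D3728)) (tt N4729 (iv F14810)) (tt N2716 F11495) (tt N4728 F14807) (tt N4731 (iv F14819)) (tt N5035 D5104) (tt N2551 F11496))
theorem Q3667 : ∀ i, i < 3667 → P i := stepQ 3666 Q3666 (allL N3666 (tt N4998 (iv F15693)) (tt N4728 (iv F14803)) (tt N2548 F11497) (tt N3666 F11498) (tt N2547 (iv D3729)) (tt N3666 F11499) (tt N4675 (iv F14645)) (tt N2552 F11500))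
theorem Q3668 : ∀ i, i < 3668 → P i := stepQ 3667 Q3667 (allL N3667 (tt N4999 (iv F15698)) (tt N5035 (iv F15801)) (tt N2549 F11501) (tt N2717 F11502) (tt N4675 (iv F14643)) (tt N4673 (iv F14637)) (tt N2547 (iv D3730)) (tt N4672 F14632))
theorem Q3669 : ∀ i, i < 3669 → P i := stepQ 3668 Q3668 (allL N3668 (tt N5000 (iv F15701)) (tt N4876 (iv F15302)) (tt N4675 (iv F14641)) (tt N5030 (iv F15785)) (tt N2549 F11503) (tt N4671 (iv F14627)) (tt N2548 (iv D3731)) (tt N4670 (iv F14624)))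
theorem Q3670 : ∀ i, i < 3670 → P i := stepQ 3669 Q3669 (allL N3669 (tt N5001 (iv F15703)) (tt N3744 (iv F11753)) (tt N4673 (iv F14634)) (tt N2550 F11504) (tt N4671 (iv F14626)) (tt N2549 (iv D3732)) (tt N3669 F11505) (tt N3743 F11752))
theorem Q3671 : ∀ i, i < 3671 → P i := stepQ 3670 Q3670 (allL N3670 (tt N5002 (iv F15706)) (tt N3713 F11630) (tt N4672 (iv F14629)) (tt N4943 (iv F15543)) (tt N4670 (iv F14622)) (tt N3743 (iv F11749)) (tt N2556 F11506) (tt N2549 (iv D3733)))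
theorem Q3672 : ∀ i, i < 3672 → P i := stepQ 3671 Q3671 (allL N3671 (tt N5036 D5105) (tt N2550 (iv D3734)) (tt N5037 D5106) (tt N3744 F11757) (tt N5033 (iv F15794)) (tt N3745 (iv F11759)) (tt N3671 F11507) (tt N4944 (iv F15550)))
theorem Q3673 : ∀ i, i < 3673 → P i := stepQ 3672 Q3672 (allL N3672 (tt N2551 (iv D3735)) (tt N5004 (iv F15709)) (tt N4877 (iv F15305)) (tt N2558 F11508) (tt N5038 D5107) (tt N5039 D5108) (tt N5040 D5109) (tt N5034 (iv F15800)))
theorem Q3674 : ∀ i, i < 3674 → P i := stepQ 3673 Q3673 (allL N3673 (tt N5038 (iv F15808)) (tt N2552 F11509) (tt N3709 (iv F11617)) (tt N5041 D5110) (tt N2551 (iv D3736)) (tt N3708 F11615) (tt N5042 D5111) (tt N4728 (iv F14806)))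
theorem Q3675 : ∀ i, i < 3675 → P i := stepQ 3674 Q3674 (allL N3674 (tt N5039 (iv F15809)) (tt N3674 F11510) (tt N3540 F11511) (tt N2560 F11512) (tt N3708 (iv F11613)) (tt N2551 (iv D3737)) (tt N5043 D5112) (tt N4731 (iv F14821)))
theorem Q3676 : ∀ i, i < 3676 → P i := stepQ 3675 Q3675 (allL N3675 (tt N5040 (iv F15814)) (tt N2553 F11513) (tt N4878 (iv F15310)) (tt N2561 F11514) (tt N5042 (iv F15820)) (tt N5044 D5113) (tt N2551 (iv D3738)) (tt N5045 D5114))
theorem Q3677 : ∀ i, i < 3677 → P i := stepQ 3676 Q3676 (allL N3676 (tt N5008 (iv F15716)) (tt N5041 (iv F15816)) (tt N3676 F11515) (tt N2552 (iv D3739)) (tt N2562 F11516) (tt N3676 F11517) (tt N5046 D5115) (tt N3676 F11518))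
theorem Q3678 : ∀ i, i < 3678 → P i := stepQ 3677 Q3677 (allL N3677 (tt N5009 (iv F15721)) (tt N5042 (iv F15819)) (tt N2554 F11519) (tt N5046 (iv F15831)) (tt N2553 F11520) (tt N4668 (iv F14617)) (tt N2552 (iv D3740)) (tt N4667 (iv F14613)))
theorem Q3679 : ∀ i, i < 3679 → P i := stepQ 3678 Q3678 (allL N3678 (tt N5010 (iv F15724)) (tt N3723 (iv F11673)) (tt N2555 F11521) (tt N2564 F11522) (tt N4668 (iv F14616)) (tt N2553 (iv D3741)) (tt N3678 F11523) (tt N3718 (iv F11658)))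
theorem Q3680 : ∀ i, i < 3680 → P i := stepQ 3679 Q3679 (allL N3679 (tt N5011 (iv F15728)) (tt N5045 (iv F15827)) (tt N2556 F11524) (tt N5047 D5116) (tt N4667 (iv F14611)) (tt N3718 (iv F11656)) (tt N4672 (iv F14631)) (tt N2553 (iv D3742)))
theorem Q3681 : ∀ i, i < 3681 → P i := stepQ 3680 Q3680 (allL N3680 (tt N5012 (iv F15730)) (tt N3712 F11628) (tt N4667 (iv F14609)) (tt N4685 (iv F14671)) (tt N2556 F11525) (tt N3716 (iv F11645)) (tt N4670 (iv F14623)) (tt N2554 (iv D3743)))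
theorem Q3682 : ∀ i, i < 3682 → P i := stepQ 3681 Q3681 (allL N3681 (tt N2559 F11526) (tt N5013 (iv F15733)) (tt N2571 F11527) (tt N5048 D5117) (tt N2558 (iv D3744)) (tt N5049 D5118) (tt N5050 D5119) (tt N2724 F11528))
theorem Q3683 : ∀ i, i < 3683 → P i := stepQ 3682 Q3682 (allL N3682 (tt N2560 F11529) (tt N5051 D5120) (tt N2572 F11530) (tt N5039 (iv F15811)) (tt N5049 (iv F15843)) (tt N2558 (iv D3745)) (tt N5052 D5121) (tt N2725 F11531))
theorem Q3684 : ∀ i, i < 3684 → P i := stepQ 3683 Q3683 (allL N3683 (tt N2561 F11532) (tt N5015 (iv F15740)) (tt N2573 F11533) (tt N5040 (iv F15815)) (tt N5050 (iv F15847)) (tt N5053 D5122) (tt N2558 (iv D3746)) (tt N5054 D5123))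
theorem Q3685 : ∀ i, i < 3685 → P i := stepQ 3684 Q3684 (allL N3684 (tt N5048 (iv F15839)) (tt N2562 F11534) (tt N5055 D5124) (tt N2559 (iv D3747)) (tt N5041 (iv F15817)) (tt N5056 D5125) (tt N5057 D5126) (tt N3684 F11535))
theorem Q3686 : ∀ i, i < 3686 → P i := stepQ 3685 Q3685 (allL N3685 (tt N5049 (iv F15841)) (tt N3685 F11536) (tt N2575 F11537) (tt N5056 (iv F15870)) (tt N2560 F11538) (tt N2559 (iv D3748)) (tt N5058 D5127) (tt N2727 F11539))
theorem Q3687 : ∀ i, i < 3687 → P i := stepQ 3686 Q3686 (allL N3686 (tt N5050 (iv F15845)) (tt N2563 F11540) (tt N2576 F11541) (tt N5057 (iv F15874)) (tt N2561 F11542) (tt N5059 D5128) (tt N2559 (iv D3749)) (tt N3372 F11543))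
theorem Q3688 : ∀ i, i < 3688 → P i := stepQ 3687 Q3687 (allL N3687 (tt N5052 (iv F15853)) (tt N3687 F11544) (tt N2577 F11545) (tt N5043 (iv F15823)) (tt N5058 (iv F15877)) (tt N5060 D5129) (tt N2560 (iv D3750)) (tt N5061 D5130))
theorem Q3689 : ∀ i, i < 3689 → P i := stepQ 3688 Q3688 (allL N3688 (tt N5053 (iv F15855)) (tt N5062 D5131) (tt N2578 F11546) (tt N5044 (iv F15825)) (tt N5059 (iv F15879)) (tt N2561 (iv D3751)) (tt N5060 (iv F15882)) (tt N3530 (iv F11547)))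
theorem Q3690 : ∀ i, i < 3690 → P i := stepQ 3689 Q3689 (allL N3689 (tt N5054 (iv F15858)) (tt N2565 F11548) (tt N2579 F11549) (tt N3533 (iv F11553)) (tt N3372 F11550) (tt N3530 F11551) (tt N2730 F11552) (tt N2561 (iv D3752)))
theorem Q3691 : ∀ i, i < 3691 → P i := stepQ 3690 Q3690 (allL N3690 (tt N5022 (iv F15759)) (tt N5057 (iv F15873)) (tt N3690 F11554) (tt N2563 F11555) (tt N5046 (iv F15832)) (tt N5063 D5132) (tt N2562 (iv D3753)) (tt N5064 D5133))
theorem Q3692 : ∀ i, i < 3692 → P i := stepQ 3691 Q3691 (allL N3691 (tt N5023 (iv F15762)) (tt N5065 D5134) (tt N2566 F11556) (tt N5063 (iv F15893)) (tt N2564 F11557) (tt N2563 (iv D3754)) (tt N3691 F11558) (tt N3373 F11559))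
theorem Q3693 : ∀ i, i < 3693 → P i := stepQ 3692 Q3692 (allL N3692 (tt N5066 D5135) (tt N2564 (iv D3755)) (tt N4883 (iv F15326)) (tt N3723 F11677) (tt N5065 (iv F15902)) (tt N5062 (iv F15890)) (tt N3692 F11560) (tt N5067 D5136))
theorem Q3694 : ∀ i, i < 3694 → P i := stepQ 3693 Q3693 (allL N3693 (tt N5025 (iv F15768)) (tt N5067 (iv F15906)) (tt N2568 F11561) (tt N5068 D5137) (tt N3373 F11562) (tt N2565 F11563) (tt N5069 D5138) (tt N2564 (iv D3756)))
theorem Q3695 : ∀ i, i < 3695 → P i := stepQ 3694 Q3694 (allL N3694 (tt N5026 (iv F15772)) (tt N3533 F11564) (tt N4958 (iv F15594)) (tt N2565 (iv D3757)) (tt N3617 (iv F11566)) (tt N5068 (iv F15913)) (tt N2732 F11565) (tt N5047 (iv F15838)))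
theorem Q3696 : ∀ i, i < 3696 → P i := stepQ 3695 Q3695 (allL N3695 (tt N4487 (iv F14098)) (tt N2566 (iv D3758)) (tt N5070 D5139) (tt N3695 F11567) (tt N2567 F11568) (tt N2585 F11569) (tt N3695 F11570) (tt N3374 F11571))
theorem Q3697 : ∀ i, i < 3697 → P i := stepQ 3696 Q3696 (allL N3696 (tt N2567 (iv D3759)) (tt N4480 (iv F14079)) (tt N5071 D5140) (tt N2569 F11572) (tt N4487 (iv F14100)) (tt N2586 F11573) (tt N3696 F11574) (tt N5072 D5141))
theorem Q3698 : ∀ i, i < 3698 → P i := stepQ 3697 Q3697 (allL N3697 (tt N5071 (iv F15926)) (tt N4883 (iv F15325)) (tt N2567 (iv D3760)) (tt N4881 F15320) (tt N5070 (iv F15921)) (tt N2587 F11575) (tt N3697 F11576) (tt N5073 D5142))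
theorem Q3699 : ∀ i, i < 3699 → P i := stepQ 3698 Q3698 (allL N3698 (tt N5072 (iv F15929)) (tt N2568 F11577) (tt N5073 (iv F15934)) (tt N3536 F11578) (tt N3374 F11579) (tt N2588 F11580) (tt N5074 D5143) (tt N2567 (iv D3761)))
theorem Q3700 : ∀ i, i < 3700 → P i := stepQ 3699 Q3699 (allL N3699 (tt N5029 (iv F15780)) (tt N5074 (iv F15938)) (tt N5069 (iv F15916)) (tt N4960 (iv F15602)) (tt N3369 F11581) (tt N2733 F11582) (tt N2568 (iv D3762)) (tt N3699 F11583))
theorem Q3701 : ∀ i, i < 3701 → P i := stepQ 3700 Q3700 (allL N3700 (tt N2570 F11584) (tt N2830 F11585) (tt N2569 (iv D3763)) (tt N4889 (iv F15350)) (tt N3700 F11586) (tt N2589 F11587) (tt N3700 F11588) (tt N2905 F11589))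
theorem Q3702 : ∀ i, i < 3702 → P i := stepQ 3701 Q3701 (allL N3701 (tt N2574 F11590) (tt N2940 F11591) (tt N5075 D5144) (tt N2571 (iv D3764)) (tt N4308 (iv F13509)) (tt N5076 D5145) (tt N5077 D5146) (tt N3403 F11592))
theorem Q3703 : ∀ i, i < 3703 → P i := stepQ 3702 Q3702 (allL N3702 (tt N2575 F11593) (tt N5078 D5147) (tt N5049 (iv F15842)) (tt N5076 (iv F15949)) (tt N2572 F11594) (tt N2571 (iv D3765)) (tt N5079 D5148) (tt N2734 F11595))
theorem Q3704 : ∀ i, i < 3704 → P i := stepQ 3703 Q3703 (allL N3703 (tt N2576 F11596) (tt N2942 F11597) (tt N5050 (iv F15846)) (tt N5077 (iv F15954)) (tt N2573 F11598) (tt N5080 D5149) (tt N2571 (iv D3766)) (tt N3387 F11599))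
theorem Q3705 : ∀ i, i < 3705 → P i := stepQ 3704 Q3704 (allL N3704 (tt N2593 F11600) (tt N2572 (iv D3767)) (tt N5081 D5150) (tt N4886 (iv F15337)) (tt N5078 (iv F15957)) (tt N2943 F11601) (tt N5082 D5151) (tt N2735 F11602))
theorem Q3706 : ∀ i, i < 3706 → P i := stepQ 3705 Q3705 (allL N3705 (tt N2577 F11603) (tt N5082 (iv F15971)) (tt N5052 (iv F15854)) (tt N4887 (iv F15343)) (tt N5079 (iv F15961)) (tt N5083 D5152) (tt N2572 (iv D3768)) (tt N5084 D5153))
theorem Q3707 : ∀ i, i < 3707 → P i := stepQ 3706 Q3706 (allL N3706 (tt N2578 F11604) (tt N5085 D5154) (tt N5053 (iv F15856)) (tt N4888 (iv F15346)) (tt N5080 (iv F15963)) (tt N2573 (iv D3769)) (tt N5083 (iv F15973)) (tt N3517 (iv F11605)))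
theorem Q3708 : ∀ i, i < 3708 → P i := stepQ 3707 Q3707 (allL N3707 (tt N2579 F11606) (tt N2903 F11607) (tt N5054 (iv F15859)) (tt N2905 (iv F11611)) (tt N3387 F11608) (tt N3517 F11609) (tt N2738 F11610) (tt N2573 (iv D3770)))
theorem Q3709 : ∀ i, i < 3709 → P i := stepQ 3708 Q3708 (allL N3708 (tt N5075 (iv F15943)) (tt N3708 F11612) (tt N2574 (iv D3771)) (tt N5055 (iv F15865)) (tt N3674 F11613) (tt N3673 (iv F11615)) (tt N5086 D5155) (tt N3408 F11614))
theorem Q3710 : ∀ i, i < 3710 → P i := stepQ 3709 Q3709 (allL N3709 (tt N5076 (iv F15947)) (tt N2597 F11616) (tt N3673 F11617) (tt N2575 F11618) (tt N3529 F11619) (tt N2574 (iv D3772)) (tt N5087 D5156) (tt N3406 F11620))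
theorem Q3711 : ∀ i, i < 3711 → P i := stepQ 3710 Q3710 (allL N3710 (tt N5077 (iv F15952)) (tt N2580 F11621) (tt N5086 (iv F15983)) (tt N2576 F11622) (tt N4890 (iv F15355)) (tt N5088 D5157) (tt N2574 (iv D3773)) (tt N3710 F11623))
theorem Q3712 : ∀ i, i < 3712 → P i := stepQ 3711 Q3711 (allL N3711 (tt N5079 (iv F15960)) (tt N2600 F11624) (tt N5058 (iv F15876)) (tt N5087 (iv F15988)) (tt N2577 F11625) (tt N5089 D5158) (tt N2575 (iv D3774)) (tt N5090 D5159))
theorem Q3713 : ∀ i, i < 3713 → P i := stepQ 3712 Q3712 (allL N3712 (tt N5080 (iv F15962)) (tt N3680 (iv F11628)) (tt N5059 (iv F15878)) (tt N5088 (iv F15992)) (tt N2578 F11626) (tt N2576 (iv D3775)) (tt N5089 (iv F15998)) (tt N3388 F11627))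
theorem Q3714 : ∀ i, i < 3714 → P i := stepQ 3713 Q3713 (allL N3713 (tt N5083 (iv F15972)) (tt N3670 (iv F11630)) (tt N5060 (iv F15881)) (tt N4892 (iv F15361)) (tt N5089 (iv F15997)) (tt N2577 (iv D3776)) (tt N2578 F11629) (tt N3527 (iv F11631)))
theorem Q3715 : ∀ i, i < 3715 → P i := stepQ 3714 Q3714 (allL N3714 (tt N5084 (iv F15975)) (tt N2603 F11632) (tt N5061 (iv F15885)) (tt N3528 (iv F11635)) (tt N5090 (iv F16001)) (tt N3527 F11633) (tt N2741 F11634) (tt N2577 (iv D3777)))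
theorem Q3716 : ∀ i, i < 3716 → P i := stepQ 3715 Q3715 (allL N3715 (tt N2947 F11636) (tt N3368 (iv F11642)) (tt N3715 F11637) (tt N2581 F11638) (tt N3618 F11639) (tt N2580 (iv D3778)) (tt N2605 F11640) (tt N3715 F11641))
theorem Q3717 : ∀ i, i < 3717 → P i := stepQ 3716 Q3716 (allL N3716 (tt N5091 D5160) (tt N2581 (iv D3779)) (tt N3357 (iv F11648)) (tt N3368 F11643) (tt N2582 F11644) (tt N3680 F11645) (tt N2608 F11646) (tt N3389 F11647))
theorem Q3718 : ∀ i, i < 3718 → P i := stepQ 3717 Q3717 (allL N3717 (tt N2582 (iv D3780)) (tt N2949 F11649) (tt N5092 D5161) (tt N3615 F11650) (tt N5091 (iv F16007)) (tt N3649 F11651) (tt N2609 F11652) (tt N3648 F11653))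
theorem Q3719 : ∀ i, i < 3719 → P i := stepQ 3718 Q3718 (allL N3718 (tt N5092 (iv F16011)) (tt N2587 F11654) (tt N2582 (iv D3781)) (tt N4941 (iv F15536)) (tt N3357 F11655) (tt N3679 F11656) (tt N2610 F11657) (tt N3678 F11658))
theorem Q3720 : ∀ i, i < 3720 → P i := stepQ 3719 Q3719 (allL N3719 (tt N4489 (iv F14104)) (tt N3357 F11659) (tt N2585 (iv D3782)) (tt N3356 (iv F11663)) (tt N2587 F11660) (tt N5070 (iv F15922)) (tt N2611 F11661) (tt N3391 F11662))
theorem Q3721 : ∀ i, i < 3721 → P i := stepQ 3720 Q3720 (allL N3720 (tt N2587 F11664) (tt N5093 D5162) (tt N2586 (iv D3783)) (tt N5094 D5163) (tt N4489 (iv F14105)) (tt N5071 (iv F15927)) (tt N2612 F11665) (tt N5095 D5164))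
theorem Q3722 : ∀ i, i < 3722 → P i := stepQ 3721 Q3721 (allL N3721 (tt N2588 F11666) (tt N2952 F11667) (tt N5095 (iv F16022)) (tt N3522 F11668) (tt N3390 F11669) (tt N5072 (iv F15932)) (tt N3721 F11670) (tt N2586 (iv D3784)))
theorem Q3723 : ∀ i, i < 3723 → P i := stepQ 3722 Q3722 (allL N3722 (tt N5094 (iv F16018)) (tt N4941 (iv F15535)) (tt N2590 F11671) (tt N2587 (iv D3785)) (tt N3756 (iv F11808)) (tt N4881 (iv F15318)) (tt N2613 F11672) (tt N4880 (iv F15315)))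
theorem Q3724 : ∀ i, i < 3724 → P i := stepQ 3723 Q3723 (allL N3723 (tt N5095 (iv F16021)) (tt N3678 F11673) (tt N2588 F11674) (tt N3692 (iv F11677)) (tt N3391 F11675) (tt N5073 (iv F15937)) (tt N3723 F11676) (tt N2587 (iv D3786)))
theorem Q3725 : ∀ i, i < 3725 → P i := stepQ 3724 Q3724 (allL N3724 (tt N3578 F11678) (tt N2589 (iv D3787)) (tt N2955 F11679) (tt N5096 D5165) (tt N3724 F11680) (tt N2823 F11681) (tt N2614 F11682) (tt N2892 F11683))
theorem Q3726 : ∀ i, i < 3726 → P i := stepQ 3725 Q3725 (allL N3725 (tt N2590 F11684) (tt N5096 (iv F16027)) (tt N5094 (iv F16019)) (tt N2589 (iv D3788)) (tt N5097 D5166) (tt N4889 (iv F15351)) (tt N2615 F11685) (tt N4888 F15347))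
theorem Q3727 : ∀ i, i < 3727 → P i := stepQ 3726 Q3726 (allL N3726 (tt N5097 (iv F16030)) (tt N3599 F11686) (tt N3756 (iv F11806)) (tt N3726 F11687) (tt N2590 (iv D3789)) (tt N4698 (iv F14708)) (tt N2616 F11688) (tt N4891 (iv F15359)))
theorem Q3728 : ∀ i, i < 3728 → P i := stepQ 3727 Q3727 (allL N3727 (tt N2596 F11689) (tt N4475 (iv F14055)) (tt N2591 (iv D3790)) (tt N3727 F11690) (tt N3501 F11691) (tt N3516 (iv F11693)) (tt N3386 F11692) (tt N5098 D5167))
theorem Q3729 : ∀ i, i < 3729 → P i := stepQ 3728 Q3728 (allL N3728 (tt N2597 F11694) (tt N5099 D5168) (tt N3516 F11695) (tt N2592 F11696) (tt N3515 F11697) (tt N2591 (iv D3791)) (tt N5100 D5169) (tt N5101 D5170))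
theorem Q3730 : ∀ i, i < 3730 → P i := stepQ 3729 Q3729 (allL N3729 (tt N2599 F11698) (tt N2959 F11699) (tt N5098 (iv F16034)) (tt N2746 F11700) (tt N4659 (iv F14585)) (tt N5101 (iv F16050)) (tt N5102 D5171) (tt N2591 (iv D3792)))
theorem Q3731 : ∀ i, i < 3731 → P i := stepQ 3730 Q3730 (allL N3730 (tt N5078 (iv F15956)) (tt N2592 (iv D3793)) (tt N5103 D5172) (tt N5099 (iv F16038)) (tt N2593 F11701) (tt N2960 F11702) (tt N5104 D5173) (tt N2747 F11703))
theorem Q3732 : ∀ i, i < 3732 → P i := stepQ 3731 Q3731 (allL N3731 (tt N2600 F11704) (tt N5104 (iv F16060)) (tt N3731 F11705) (tt N5100 (iv F16043)) (tt N2594 F11706) (tt N4490 (iv F14110)) (tt N2592 (iv D3794)) (tt N5105 D5174))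
theorem Q3733 : ∀ i, i < 3733 → P i := stepQ 3732 Q3732 (allL N3732 (tt N5081 (iv F15965)) (tt N3732 F11707) (tt N2593 (iv D3795)) (tt N5106 D5175) (tt N5103 (iv F16057)) (tt N2962 F11708) (tt N5107 D5176) (tt N2749 F11709))
theorem Q3734 : ∀ i, i < 3734 → P i := stepQ 3733 Q3733 (allL N3733 (tt N5082 (iv F15970)) (tt N2594 F11710) (tt N5107 (iv F16073)) (tt N4894 (iv F15372)) (tt N5104 (iv F16061)) (tt N5108 D5177) (tt N2593 (iv D3796)) (tt N5109 D5178))
theorem Q3735 : ∀ i, i < 3735 → P i := stepQ 3734 Q3734 (allL N3734 (tt N2602 F11711) (tt N5110 D5179) (tt N3734 F11712) (tt N3622 F11713) (tt N4490 (iv F14109)) (tt N2594 (iv D3797)) (tt N2595 F11714) (tt N5111 D5180))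
theorem Q3736 : ∀ i, i < 3736 → P i := stepQ 3735 Q3735 (allL N3735 (tt N2603 F11715) (tt N5109 (iv F16075)) (tt N3735 F11716) (tt N5112 D5181) (tt N5105 (iv F16064)) (tt N5111 (iv F16081)) (tt N2751 F11717) (tt N2594 (iv D3798)))
theorem Q3737 : ∀ i, i < 3737 → P i := stepQ 3736 Q3736 (allL N3736 (tt N5113 D5182) (tt N2595 (iv D3799)) (tt N5114 D5183) (tt N3621 F11718) (tt N4192 (iv F13166)) (tt N2966 F11719) (tt N5110 (iv F16078)) (tt N3736 F11720))
theorem Q3738 : ∀ i, i < 3738 → P i := stepQ 3737 Q3737 (allL N3737 (tt N5098 (iv F16033)) (tt N3737 F11721) (tt N2599 F11722) (tt N5115 D5184) (tt N3504 F11723) (tt N3526 F11724) (tt N3396 F11725) (tt N2596 (iv D3800)))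
theorem Q3739 : ∀ i, i < 3739 → P i := stepQ 3738 Q3738 (allL N3738 (tt N5100 (iv F16041)) (tt N5087 (iv F15986)) (tt N3388 F11726) (tt N2600 F11727) (tt N3530 F11728) (tt N3372 F11729) (tt N2597 (iv D3801)) (tt N5059 (iv F15880)))
theorem Q3740 : ∀ i, i < 3740 → P i := stepQ 3739 Q3739 (allL N3739 (tt N5101 (iv F16046)) (tt N3406 F11730) (tt N3526 F11731) (tt N2755 F11732) (tt N3525 F11733) (tt N2599 F11734) (tt N5116 D5185) (tt N2597 (iv D3802)))
theorem Q3741 : ∀ i, i < 3741 → P i := stepQ 3740 Q3740 (allL N3740 (tt N5102 (iv F16051)) (tt N2607 F11735) (tt N3396 F11736) (tt N2756 F11737) (tt N4896 (iv F15381)) (tt N5117 D5186) (tt N2599 (iv D3803)) (tt N3378 F11738))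
theorem Q3742 : ∀ i, i < 3742 → P i := stepQ 3741 Q3741 (allL N3741 (tt N4490 (iv F14107)) (tt N3359 (iv F11743)) (tt N3741 F11739) (tt N3372 F11740) (tt N2602 F11741) (tt N2600 (iv D3804)) (tt N2601 F11742) (tt N5118 D5187))
theorem Q3743 : ∀ i, i < 3743 → P i := stepQ 3742 Q3742 (allL N3742 (tt N5105 (iv F16062)) (tt N5090 (iv F16000)) (tt N3742 F11744) (tt N5119 D5188) (tt N2603 F11745) (tt N5118 (iv F16113)) (tt N2757 F11746) (tt N2600 (iv D3805)))
theorem Q3744 : ∀ i, i < 3744 → P i := stepQ 3743 Q3743 (allL N3743 (tt N5120 D5189) (tt N2602 (iv D3806)) (tt N3360 (iv F11751)) (tt N3617 F11747) (tt N3359 F11748) (tt N3670 F11749) (tt N2604 F11750) (tt N3669 (iv F11752)))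
theorem Q3745 : ∀ i, i < 3745 → P i := stepQ 3744 Q3744 (allL N3744 (tt N5111 (iv F16079)) (tt N3669 F11753) (tt N3744 F11754) (tt N3671 (iv F11757)) (tt N5118 (iv F16112)) (tt N2603 F11755) (tt N3744 F11756) (tt N2602 (iv D3807)))
theorem Q3746 : ∀ i, i < 3746 → P i := stepQ 3745 Q3745 (allL N3745 (tt N5112 (iv F16084)) (tt N3528 F11758) (tt N5121 D5190) (tt N2603 (iv D3808)) (tt N5122 D5191) (tt N3671 F11759) (tt N2758 F11760) (tt N4897 (iv F15387)))
theorem Q3747 : ∀ i, i < 3747 → P i := stepQ 3746 Q3746 (allL N3746 (tt N2604 (iv D3809)) (tt N5113 (iv F16087)) (tt N3249 F11761) (tt N3614 F11762) (tt N3248 F11763) (tt N2609 F11764) (tt N5120 (iv F16120)) (tt N3746 F11765))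
theorem Q3748 : ∀ i, i < 3748 → P i := stepQ 3747 Q3747 (allL N3747 (tt N2973 F11766) (tt N3378 F11767) (tt N3747 F11768) (tt N3747 F11769) (tt N3624 F11770) (tt N3747 F11771) (tt N2606 (iv D3810)) (tt N2607 F11772))
theorem Q3749 : ∀ i, i < 3749 → P i := stepQ 3748 Q3748 (allL N3748 (tt N2608 (iv D3811)) (tt N2974 F11773) (tt N3246 F11774) (tt N3255 F11775) (tt N2609 F11776) (tt N3248 F11777) (tt N5091 (iv F16009)) (tt N3748 F11778))
theorem Q3750 : ∀ i, i < 3750 → P i := stepQ 3749 Q3749 (allL N3749 (tt N2610 F11779) (tt N5123 D5192) (tt N2609 (iv D3812)) (tt N4920 (iv F15469)) (tt N3246 F11780) (tt N3249 F11781) (tt N5092 (iv F16014)) (tt N3749 F11782))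
theorem Q3751 : ∀ i, i < 3751 → P i := stepQ 3750 Q3750 (allL N3750 (tt N5123 (iv F16130)) (tt N2612 (iv D3813)) (tt N2977 F11783) (tt N5124 D5193) (tt N4184 (iv F13139)) (tt N5125 D5194) (tt N5093 (iv F16017)) (tt N3750 F11784))
theorem Q3752 : ∀ i, i < 3752 → P i := stepQ 3751 Q3751 (allL N3751 (tt N2613 F11785) (tt N5124 (iv F16134)) (tt N2615 F11786) (tt N2612 (iv D3814)) (tt N3755 (iv F11803)) (tt N3751 F11787) (tt N5094 (iv F16020)) (tt N3754 F11799))
theorem Q3753 : ∀ i, i < 3753 → P i := stepQ 3752 Q3752 (allL N3752 (tt N3577 F11788) (tt N2615 F11789) (tt N5126 D5195) (tt N2614 (iv D3815)) (tt N5127 D5196) (tt N5128 D5197) (tt N5096 (iv F16029)) (tt N5129 D5198))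
theorem Q3754 : ∀ i, i < 3754 → P i := stepQ 3753 Q3753 (allL N3753 (tt N3576 F11790) (tt N3753 F11791) (tt N2981 F11792) (tt N5128 (iv F16152)) (tt N3753 F11793) (tt N2614 (iv D3816)) (tt N2821 F11794) (tt N2619 F11795))
theorem Q3755 : ∀ i, i < 3755 → P i := stepQ 3754 Q3754 (allL N3754 (tt N2616 F11796) (tt N5127 (iv F16144)) (tt N3755 (iv F11801)) (tt N3754 F11797) (tt N2615 (iv D3817)) (tt N3754 F11798) (tt N5097 (iv F16032)) (tt N3751 (iv F11799)))
theorem Q3756 : ∀ i, i < 3756 → P i := stepQ 3755 Q3755 (allL N3755 (tt N2617 F11800) (tt N5129 (iv F16156)) (tt N3754 F11801) (tt N2620 F11802) (tt N3751 F11803) (tt N3755 F11804) (tt N5130 D5199) (tt N2615 (iv D3818)))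
theorem Q3757 : ∀ i, i < 3757 → P i := stepQ 3756 Q3756 (allL N3756 (tt N5130 (iv F16159)) (tt N3594 F11805) (tt N3726 F11806) (tt N2621 F11807) (tt N3722 F11808) (tt N4893 (iv F15369)) (tt N2617 (iv D3819)) (tt N4892 (iv F15364)))
theorem Q3758 : ∀ i, i < 3758 → P i := stepQ 3757 Q3757 (allL N3757 (tt N3572 F11809) (tt N3757 F11810) (tt N2618 (iv D3820)) (tt N2986 F11811) (tt N4283 (iv F13450)) (tt N5131 D5200) (tt N3507 F11812) (tt N5132 D5201))
theorem Q3759 : ∀ i, i < 3759 → P i := stepQ 3758 Q3758 (allL N3758 (tt N3573 F11813) (tt N3758 F11814) (tt N5131 (iv F16164)) (tt N2619 F11815) (tt N4387 (iv F13757)) (tt N2618 (iv D3821)) (tt N5133 D5202) (tt N5134 D5203))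
theorem Q3760 : ∀ i, i < 3760 → P i := stepQ 3759 Q3759 (allL N3759 (tt N3574 F11816) (tt N2620 F11817) (tt N5132 (iv F16168)) (tt N5129 (iv F16157)) (tt N4520 (iv F14207)) (tt N5134 (iv F16175)) (tt N5135 D5204) (tt N2618 (iv D3822)))
theorem Q3761 : ∀ i, i < 3761 → P i := stepQ 3760 Q3760 (allL N3760 (tt N3575 F11818) (tt N3760 F11819) (tt N2990 F11820) (tt N5133 (iv F16171)) (tt N3760 F11821) (tt N2886 F11822) (tt N2619 (iv D3823)) (tt N2820 F11823))
theorem Q3762 : ∀ i, i < 3762 → P i := stepQ 3761 Q3761 (allL N3761 (tt N2621 F11824) (tt N5135 (iv F16177)) (tt N3761 F11825) (tt N5130 (iv F16161)) (tt N4665 (iv F14605)) (tt N5136 D5205) (tt N2620 (iv D3824)) (tt N3514 F11826))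
theorem Q3763 : ∀ i, i < 3763 → P i := stepQ 3762 Q3762 (allL N3762 (tt N5136 (iv F16179)) (tt N4897 (iv F15384)) (tt N3762 F11827) (tt N4893 (iv F15367)) (tt N4666 (iv F14607)) (tt N2621 (iv D3825)) (tt N3762 F11828) (tt N3528 F11829))
theorem Q3764 : ∀ i, i < 3764 → P i := stepQ 3763 Q3763 (allL N3763 (tt N2623 F11830) (tt N5137 D5206) (tt N3763 F11831) (tt N2639 F11832) (tt N3763 F11833) (tt N2622 (iv D3826)) (tt N5138 D5207) (tt N3763 F11834))
theorem Q3765 : ∀ i, i < 3765 → P i := stepQ 3764 Q3764 (allL N3764 (tt N5138 (iv F16188)) (tt N3478 F11835) (tt N3764 F11836) (tt N2641 F11837) (tt N3764 F11838) (tt N3764 F11839) (tt N2623 (iv D3827)) (tt N3892 (iv F12267)))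
theorem Q3766 : ∀ i, i < 3766 → P i := stepQ 3765 Q3765 (allL N3765 (tt N5139 D5208) (tt N2624 (iv D3828)) (tt N3765 F11840) (tt N3346 F11841) (tt N5140 D5209) (tt N5141 D5210) (tt N5142 D5211) (tt N4900 (iv F15399)))
theorem Q3767 : ∀ i, i < 3767 → P i := stepQ 3766 Q3766 (allL N3766 (tt N2629 F11842) (tt N5140 (iv F16196)) (tt N2625 F11843) (tt N5143 D5212) (tt N2624 (iv D3829)) (tt N2653 F11844) (tt N5144 D5213) (tt N4901 (iv F15403)))
theorem Q3768 : ∀ i, i < 3768 → P i := stepQ 3767 Q3767 (allL N3767 (tt N2630 F11845) (tt N5142 (iv F16201)) (tt N2626 F11846) (tt N2653 F11847) (tt N5144 (iv F16212)) (tt N5143 (iv F16207)) (tt N2624 (iv D3830)) (tt N5145 D5214))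
theorem Q3769 : ∀ i, i < 3769 → P i := stepQ 3768 Q3768 (allL N3768 (tt N2631 F11848) (tt N3768 F11849) (tt N5144 (iv F16210)) (tt N2651 F11850) (tt N2626 F11851) (tt N2650 F11852) (tt N2625 (iv D3831)) (tt N3782 (iv F11905)))
theorem Q3770 : ∀ i, i < 3770 → P i := stepQ 3769 Q3769 (allL N3769 (tt N2632 F11853) (tt N5146 D5215) (tt N5143 (iv F16205)) (tt N2627 F11854) (tt N2650 F11855) (tt N2626 (iv D3832)) (tt N2649 F11856) (tt N5147 D5216))
theorem Q3771 : ∀ i, i < 3771 → P i := stepQ 3770 Q3770 (allL N3770 (tt N2633 F11857) (tt N3770 F11858) (tt N5145 (iv F16215)) (tt N3770 F11859) (tt N3782 (iv F11904)) (tt N5147 (iv F16224)) (tt N3780 F11898) (tt N2626 (iv D3833)))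
theorem Q3772 : ∀ i, i < 3772 → P i := stepQ 3771 Q3771 (allL N3771 (tt N3771 F11860) (tt N2627 (iv D3834)) (tt N3771 F11861) (tt N5146 (iv F16217)) (tt N2759 F11862) (tt N3771 F11863) (tt N2656 F11864) (tt N3771 F11865))
theorem Q3773 : ∀ i, i < 3773 → P i := stepQ 3772 Q3772 (allL N3772 (tt N2628 (iv D3835)) (tt N5139 (iv F16193)) (tt N2634 F11866) (tt N3470 F11867) (tt N5148 D5217) (tt N5149 D5218) (tt N5150 D5219) (tt N4907 (iv F15425)))
theorem Q3774 : ∀ i, i < 3774 → P i := stepQ 3773 Q3773 (allL N3773 (tt N5148 (iv F16225)) (tt N2629 F11868) (tt N2635 F11869) (tt N5151 D5220) (tt N2628 (iv D3836)) (tt N5152 D5221) (tt N3778 (iv F11889)) (tt N3567 F11870))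
theorem Q3775 : ∀ i, i < 3775 → P i := stepQ 3774 Q3774 (allL N3774 (tt N5149 (iv F16229)) (tt N2667 F11871) (tt N2636 F11872) (tt N3471 F11873) (tt N5152 (iv F16243)) (tt N2628 (iv D3837)) (tt N5153 D5222) (tt N4908 (iv F15428)))
theorem Q3776 : ∀ i, i < 3776 → P i := stepQ 3775 Q3775 (allL N3775 (tt N5150 (iv F16232)) (tt N2630 F11874) (tt N2637 F11875) (tt N2666 F11876) (tt N3778 (iv F11888)) (tt N3820 (iv F12023)) (tt N2628 (iv D3838)) (tt N3777 (iv F11885)))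
theorem Q3777 : ∀ i, i < 3777 → P i := stepQ 3776 Q3776 (allL N3776 (tt N5143 (iv F16204)) (tt N5151 (iv F16237)) (tt N2632 F11877) (tt N2629 (iv D3839)) (tt N2663 F11878) (tt N2630 F11879) (tt N2662 (iv F11880)) (tt N5154 D5223))
theorem Q3778 : ∀ i, i < 3778 → P i := stepQ 3777 Q3777 (allL N3777 (tt N5144 (iv F16209)) (tt N3778 (iv F11886)) (tt N2631 F11881) (tt N2662 F11882) (tt N2630 F11883) (tt N2663 F11884) (tt N2629 (iv D3840)) (tt N3775 F11885))
theorem Q3779 : ∀ i, i < 3779 → P i := stepQ 3778 Q3778 (allL N3778 (tt N5145 (iv F16214)) (tt N3777 F11886) (tt N2633 F11887) (tt N3817 (iv F12014)) (tt N3775 F11888) (tt N5154 (iv F16250)) (tt N3773 F11889) (tt N2630 (iv D3841)))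
theorem Q3780 : ∀ i, i < 3780 → P i := stepQ 3779 Q3779 (allL N3779 (tt N5147 (iv F16221)) (tt N3779 F11890) (tt N5154 (iv F16248)) (tt N3779 F11891) (tt N2664 F11892) (tt N2633 F11893) (tt N5155 D5224) (tt N2632 (iv D3842)))
theorem Q3781 : ∀ i, i < 3781 → P i := stepQ 3780 Q3780 (allL N3780 (tt N2635 F11894) (tt N3780 F11895) (tt N5148 (iv F16226)) (tt N3780 F11896) (tt N2634 (iv D3843)) (tt N5156 D5225) (tt N3770 (iv F11898)) (tt N3559 F11897))
theorem Q3782 : ∀ i, i < 3782 → P i := stepQ 3781 Q3781 (allL N3781 (tt N2636 F11899) (tt N5157 D5226) (tt N5149 (iv F16230)) (tt N3476 F11900) (tt N5156 (iv F16257)) (tt N2634 (iv D3844)) (tt N5158 D5227) (tt N4911 (iv F15441)))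
theorem Q3783 : ∀ i, i < 3783 → P i := stepQ 3782 Q3782 (allL N3782 (tt N2637 F11901) (tt N3782 F11902) (tt N5150 (iv F16233)) (tt N3477 F11903) (tt N3770 F11904) (tt N3803 (iv F11971)) (tt N2634 (iv D3845)) (tt N3768 F11905))
theorem Q3784 : ∀ i, i < 3784 → P i := stepQ 3783 Q3783 (allL N3783 (tt N5156 (iv F16255)) (tt N2640 F11906) (tt N5152 (iv F16242)) (tt N3783 F11907) (tt N2636 F11908) (tt N2635 (iv D3846)) (tt N5159 D5228) (tt N3568 F11909))
theorem Q3785 : ∀ i, i < 3785 → P i := stepQ 3784 Q3784 (allL N3784 (tt N5158 (iv F16262)) (tt N2641 F11910) (tt N5153 (iv F16246)) (tt N3478 F11911) (tt N5159 (iv F16266)) (tt N3814 (iv F12003)) (tt N2636 (iv D3847)) (tt N3813 F11999))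
theorem Q3786 : ∀ i, i < 3786 → P i := stepQ 3785 Q3785 (allL N3785 (tt N2640 F11912) (tt N4463 (iv F14004)) (tt N2679 F11913) (tt N3785 F11914) (tt N2639 F11915) (tt N2638 (iv D3848)) (tt N5160 D5229) (tt N4448 F13961))
theorem Q3787 : ∀ i, i < 3787 → P i := stepQ 3786 Q3786 (allL N3786 (tt N5157 (iv F16259)) (tt N2639 (iv D3849)) (tt N5161 D5230) (tt N5137 (iv F16184)) (tt N4463 (iv F14006)) (tt N3786 F11916) (tt N5162 D5231) (tt N4462 F14003))
theorem Q3788 : ∀ i, i < 3788 → P i := stepQ 3787 Q3787 (allL N3787 (tt N2641 F11917) (tt N5162 (iv F16276)) (tt N2681 F11918) (tt N5138 (iv F16190)) (tt N5160 (iv F16272)) (tt N3787 F11919) (tt N2639 (iv D3850)) (tt N5163 D5232))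
theorem Q3789 : ∀ i, i < 3789 → P i := stepQ 3788 Q3788 (allL N3788 (tt N5160 (iv F16269)) (tt N5159 (iv F16264)) (tt N2684 F11920) (tt N3788 F11921) (tt N2641 F11922) (tt N3788 F11923) (tt N2640 (iv D3851)) (tt N4884 (iv F15331)))
theorem Q3790 : ∀ i, i < 3790 → P i := stepQ 3789 Q3789 (allL N3789 (tt N5163 (iv F16277)) (tt N3813 (iv F12000)) (tt N2685 F11924) (tt N3815 (iv F12005)) (tt N4884 (iv F15329)) (tt N3789 F11925) (tt N4682 (iv F14661)) (tt N2641 (iv D3852)))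
theorem Q3791 : ∀ i, i < 3791 → P i := stepQ 3790 Q3790 (allL N3790 (tt N3790 F11926) (tt N4913 (iv F15446)) (tt N2643 F11927) (tt N5164 D5233) (tt N3049 F11928) (tt N3047 F11929) (tt N5165 D5234) (tt N2642 (iv D3853)))
theorem Q3792 : ∀ i, i < 3792 → P i := stepQ 3791 Q3791 (allL N3791 (tt N3791 F11930) (tt N2646 F11931) (tt N5166 D5235) (tt N2643 (iv D3854)) (tt N5167 D5236) (tt N3052 F11932) (tt N5168 D5237) (tt N2644 F11933))
theorem Q3793 : ∀ i, i < 3793 → P i := stepQ 3792 Q3792 (allL N3792 (tt N3792 F11934) (tt N2647 F11935) (tt N5165 (iv F16284)) (tt N5168 (iv F16297)) (tt N3055 F11936) (tt N5169 D5238) (tt N2643 (iv D3855)) (tt N2695 F11937))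
theorem Q3794 : ∀ i, i < 3794 → P i := stepQ 3793 Q3793 (allL N3793 (tt N3793 F11938) (tt N5170 D5239) (tt N2644 (iv D3856)) (tt N3004 F11939) (tt N5171 D5240) (tt N3128 F11940) (tt N4783 (iv F14995)) (tt N5166 (iv F16289)))
theorem Q3795 : ∀ i, i < 3795 → P i := stepQ 3794 Q3794 (allL N3794 (tt N3794 F11941) (tt N2649 F11942) (tt N5171 (iv F16305)) (tt N2656 F11943) (tt N2644 (iv D3857)) (tt N3013 F11944) (tt N5146 (iv F16220)) (tt N5167 (iv F16294)))
theorem Q3796 : ∀ i, i < 3796 → P i := stepQ 3795 Q3795 (allL N3795 (tt N3795 F11945) (tt N2650 F11946) (tt N4783 (iv F14993)) (tt N2645 F11947) (tt N5146 (iv F16218)) (tt N3795 F11948) (tt N2644 (iv D3858)) (tt N5172 D5241))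
theorem Q3797 : ∀ i, i < 3797 → P i := stepQ 3796 Q3796 (allL N3796 (tt N2657 F11949) (tt N5173 D5242) (tt N2646 (iv D3859)) (tt N4919 (iv F15465)) (tt N5174 D5243) (tt N3252 F11950) (tt N5175 D5244) (tt N2648 F11951))
theorem Q3798 : ∀ i, i < 3798 → P i := stepQ 3797 Q3797 (allL N3797 (tt N2658 F11952) (tt N5167 (iv F16291)) (tt N5174 (iv F16314)) (tt N2714 F11953) (tt N2646 (iv D3860)) (tt N2655 F11954) (tt N5176 D5245) (tt N2649 F11955))
theorem Q3799 : ∀ i, i < 3799 → P i := stepQ 3798 Q3798 (allL N3798 (tt N2659 F11956) (tt N5168 (iv F16296)) (tt N5175 (iv F16319)) (tt N2647 F11957) (tt N5176 (iv F16322)) (tt N5177 D5246) (tt N2646 (iv D3861)) (tt N5178 D5247))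
theorem Q3800 : ∀ i, i < 3800 → P i := stepQ 3799 Q3799 (allL N3799 (tt N2660 F11958) (tt N5179 D5248) (tt N4922 (iv F15475)) (tt N5177 (iv F16324)) (tt N3257 F11959) (tt N2647 (iv D3862)) (tt N3254 F11960) (tt N2702 F11961))
theorem Q3801 : ∀ i, i < 3801 → P i := stepQ 3800 Q3800 (allL N3800 (tt N5180 D5249) (tt N2648 (iv D3863)) (tt N5170 (iv F16302)) (tt N2652 F11962) (tt N5181 D5250) (tt N5182 D5251) (tt N5183 D5252) (tt N5173 (iv F16312)))
theorem Q3802 : ∀ i, i < 3802 → P i := stepQ 3801 Q3801 (allL N3801 (tt N2662 F11963) (tt N5181 (iv F16336)) (tt N2649 F11964) (tt N5144 (iv F16211)) (tt N2648 (iv D3864)) (tt N2654 F11965) (tt N5143 F16208) (tt N5174 (iv F16317)))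
theorem Q3803 : ∀ i, i < 3803 → P i := stepQ 3802 Q3802 (allL N3802 (tt N2663 F11966) (tt N5183 (iv F16339)) (tt N2650 F11967) (tt N2654 F11968) (tt N5143 (iv F16206)) (tt N5144 (iv F16213)) (tt N2648 (iv D3865)) (tt N5184 D5253))
theorem Q3804 : ∀ i, i < 3804 → P i := stepQ 3803 Q3803 (allL N3803 (tt N2664 F11969) (tt N5172 (iv F16309)) (tt N5184 (iv F16342)) (tt N2706 F11970) (tt N5147 (iv F16223)) (tt N3782 F11971) (tt N5178 (iv F16330)) (tt N2650 (iv D3866)))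
theorem Q3805 : ∀ i, i < 3805 → P i := stepQ 3804 Q3804 (allL N3804 (tt N2652 (iv D3867)) (tt N2665 F11972) (tt N3008 F11973) (tt N5180 (iv F16335)) (tt N5185 D5254) (tt N5186 D5255) (tt N5187 D5256) (tt N4929 (iv F15500)))
theorem Q3806 : ∀ i, i < 3806 → P i := stepQ 3805 Q3805 (allL N3805 (tt N5185 (iv F16344)) (tt N2653 F11974) (tt N3009 F11975) (tt N5142 (iv F16203)) (tt N2652 (iv D3868)) (tt N5188 D5257) (tt N3346 (iv F11976)) (tt N4930 (iv F15503)))
theorem Q3807 : ∀ i, i < 3807 → P i := stepQ 3806 Q3806 (allL N3806 (tt N5186 (iv F16348)) (tt N5141 (iv F16198)) (tt N3010 F11977) (tt N5182 (iv F16338)) (tt N5188 (iv F16355)) (tt N2652 (iv D3869)) (tt N5189 D5258) (tt N4931 (iv F15505)))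
theorem Q3808 : ∀ i, i < 3808 → P i := stepQ 3807 Q3807 (allL N3807 (tt N5187 (iv F16350)) (tt N2654 F11978) (tt N3011 F11979) (tt N5183 (iv F16340)) (tt N3346 F11980) (tt N5190 D5259) (tt N2652 (iv D3870)) (tt N5191 D5260))
theorem Q3809 : ∀ i, i < 3809 → P i := stepQ 3808 Q3808 (allL N3808 (tt N2669 F11981) (tt N5191 (iv F16359)) (tt N2655 F11982) (tt N5192 D5261) (tt N3252 F11983) (tt N5174 (iv F16316)) (tt N4936 (iv F15519)) (tt N2654 (iv D3871)))
theorem Q3810 : ∀ i, i < 3810 → P i := stepQ 3809 Q3809 (allL N3809 (tt N5193 D5262) (tt N2657 (iv D3872)) (tt N3809 F11984) (tt N3597 F11985) (tt N3607 (iv F11987)) (tt N5194 D5263) (tt N5195 D5264) (tt N2661 F11986))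
theorem Q3811 : ∀ i, i < 3811 → P i := stepQ 3810 Q3810 (allL N3810 (tt N5174 (iv F16313)) (tt N3607 F11988) (tt N2658 F11989) (tt N3604 F11990) (tt N2657 (iv D3873)) (tt N2669 F11991) (tt N5196 D5265) (tt N2662 F11992))
theorem Q3812 : ∀ i, i < 3812 → P i := stepQ 3811 Q3811 (allL N3811 (tt N5175 (iv F16318)) (tt N5195 (iv F16375)) (tt N2659 F11993) (tt N4940 (iv F15534)) (tt N5196 (iv F16382)) (tt N5197 D5266) (tt N2657 (iv D3874)) (tt N5198 D5267))
theorem Q3813 : ∀ i, i < 3813 → P i := stepQ 3812 Q3812 (allL N3812 (tt N5176 (iv F16320)) (tt N3812 F11994) (tt N5196 (iv F16380)) (tt N2733 F11995) (tt N2659 F11996) (tt N4960 (iv F15604)) (tt N2658 (iv D3875)) (tt N5155 (iv F16254)))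
theorem Q3814 : ∀ i, i < 3814 → P i := stepQ 3813 Q3813 (allL N3813 (tt N5177 (iv F16323)) (tt N3789 F12000) (tt N5197 (iv F16383)) (tt N2660 F11997) (tt N4960 (iv F15603)) (tt N2659 (iv D3876)) (tt N3366 F11998) (tt N3784 (iv F11999)))
theorem Q3815 : ∀ i, i < 3815 → P i := stepQ 3814 Q3814 (allL N3814 (tt N5178 (iv F16327)) (tt N3814 F12001) (tt N5198 (iv F16386)) (tt N2719 F12002) (tt N5155 (iv F16253)) (tt N3784 F12003) (tt N2664 F12004) (tt N2659 (iv D3877)))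
theorem Q3816 : ∀ i, i < 3816 → P i := stepQ 3815 Q3815 (allL N3815 (tt N5199 D5268) (tt N2660 (iv D3878)) (tt N5200 D5269) (tt N3789 F12005) (tt N3370 F12006) (tt N3815 F12007) (tt N3367 F12008) (tt N2720 F12009))
theorem Q3817 : ∀ i, i < 3817 → P i := stepQ 3816 Q3816 (allL N3816 (tt N2661 (iv D3879)) (tt N5180 (iv F16334)) (tt N3816 F12010) (tt N2665 F12011) (tt N5201 D5270) (tt N5202 D5271) (tt N5203 D5272) (tt N5193 (iv F16369)))
theorem Q3818 : ∀ i, i < 3818 → P i := stepQ 3817 Q3817 (allL N3817 (tt N5201 (iv F16398)) (tt N2662 F12012) (tt N3817 F12013) (tt N3778 F12014) (tt N2661 (iv D3880)) (tt N5204 D5273) (tt N5151 (iv F16240)) (tt N3607 F12015))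
theorem Q3819 : ∀ i, i < 3819 → P i := stepQ 3818 Q3818 (allL N3818 (tt N5202 (iv F16402)) (tt N3471 F12016) (tt N3818 F12017) (tt N2667 F12018) (tt N5204 (iv F16411)) (tt N2661 (iv D3881)) (tt N5205 D5274) (tt N5194 (iv F16374)))
theorem Q3820 : ∀ i, i < 3820 → P i := stepQ 3819 Q3819 (allL N3819 (tt N5203 (iv F16405)) (tt N2663 F12019) (tt N3819 F12020) (tt N2668 F12021) (tt N5151 (iv F16239)) (tt N5206 D5275) (tt N2661 (iv D3882)) (tt N5207 D5276))
theorem Q3821 : ∀ i, i < 3821 → P i := stepQ 3820 Q3820 (allL N3820 (tt N5184 (iv F16341)) (tt N5207 (iv F16420)) (tt N2664 F12022) (tt N3824 (iv F12033)) (tt N5154 (iv F16249)) (tt N3775 F12023) (tt N5198 (iv F16388)) (tt N2663 (iv D3883)))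
theorem Q3822 : ∀ i, i < 3822 → P i := stepQ 3821 Q3821 (allL N3821 (tt N2666 F12024) (tt N5185 (iv F16345)) (tt N2670 F12025) (tt N5150 (iv F16234)) (tt N2665 (iv D3884)) (tt N5208 D5277) (tt N3470 (iv F12026)) (tt N4951 (iv F15576)))
theorem Q3823 : ∀ i, i < 3823 → P i := stepQ 3822 Q3822 (allL N3822 (tt N2667 F12027) (tt N5209 D5278) (tt N2671 F12028) (tt N5202 (iv F16404)) (tt N5208 (iv F16428)) (tt N2665 (iv D3885)) (tt N5210 D5279) (tt N4952 (iv F15579)))
theorem Q3824 : ∀ i, i < 3824 → P i := stepQ 3823 Q3823 (allL N3823 (tt N2668 F12029) (tt N5187 (iv F16351)) (tt N2672 F12030) (tt N5203 (iv F16407)) (tt N3470 F12031) (tt N5211 D5280) (tt N2665 (iv D3886)) (tt N5212 D5281))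
theorem Q3825 : ∀ i, i < 3825 → P i := stepQ 3824 Q3824 (allL N3824 (tt N5208 (iv F16425)) (tt N5152 (iv F16241)) (tt N2673 F12032) (tt N3820 F12033) (tt N2667 F12034) (tt N2666 (iv D3887)) (tt N5213 D5282) (tt N3828 (iv F12043)))
theorem Q3826 : ∀ i, i < 3826 → P i := stepQ 3825 Q3825 (allL N3825 (tt N5210 (iv F16430)) (tt N5153 (iv F16245)) (tt N2674 F12035) (tt N5205 (iv F16415)) (tt N5213 (iv F16440)) (tt N5214 D5283) (tt N2667 (iv D3888)) (tt N5215 D5284))
theorem Q3827 : ∀ i, i < 3827 → P i := stepQ 3826 Q3826 (allL N3826 (tt N5211 (iv F16432)) (tt N5204 (iv F16408)) (tt N2675 F12036) (tt N5206 (iv F16418)) (tt N3471 F12037) (tt N2668 (iv D3889)) (tt N5214 (iv F16444)) (tt N4906 F15421))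
theorem Q3828 : ∀ i, i < 3828 → P i := stepQ 3827 Q3827 (allL N3827 (tt N5212 (iv F16435)) (tt N2669 F12038) (tt N2676 F12039) (tt N4910 (iv F15435)) (tt N3364 F12040) (tt N4906 F15420) (tt N4948 (iv F15566)) (tt N2668 (iv D3890)))
theorem Q3829 : ∀ i, i < 3829 → P i := stepQ 3828 Q3828 (allL N3828 (tt N5192 (iv F16362)) (tt N4910 (iv F15433)) (tt N2732 F12041) (tt N2669 (iv D3891)) (tt N3605 (iv F12044)) (tt N3604 F12042) (tt N4958 (iv F15597)) (tt N3824 F12043))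
theorem Q3830 : ∀ i, i < 3830 → P i := stepQ 3829 Q3829 (allL N3829 (tt N2673 F12045) (tt N5216 D5285) (tt N5208 (iv F16426)) (tt N3481 F12046) (tt N2671 F12047) (tt N2670 (iv D3892)) (tt N5217 D5286) (tt N3884 (iv F12231)))
theorem Q3831 : ∀ i, i < 3831 → P i := stepQ 3830 Q3830 (allL N3830 (tt N2680 F12048) (tt N2671 (iv D3893)) (tt N5218 D5287) (tt N3830 F12049) (tt N5216 (iv F16452)) (tt N3025 F12050) (tt N5219 D5288) (tt N4962 (iv F15611)))
theorem Q3832 : ∀ i, i < 3832 → P i := stepQ 3831 Q3831 (allL N3831 (tt N2674 F12051) (tt N5219 (iv F16461)) (tt N5210 (iv F16431)) (tt N3831 F12052) (tt N5217 (iv F16456)) (tt N5220 D5289) (tt N2671 (iv D3894)) (tt N5221 D5290))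
theorem Q3833 : ∀ i, i < 3833 → P i := stepQ 3832 Q3832 (allL N3832 (tt N2675 F12053) (tt N5222 D5291) (tt N5211 (iv F16433)) (tt N3832 F12054) (tt N3472 F12055) (tt N2672 (iv D3895)) (tt N5220 (iv F16466)) (tt N4899 F15397))
theorem Q3834 : ∀ i, i < 3834 → P i := stepQ 3833 Q3833 (allL N3833 (tt N2676 F12056) (tt N3028 F12057) (tt N5212 (iv F16436)) (tt N3199 (iv F12059)) (tt N3379 F12058) (tt N4899 F15396) (tt N4927 (iv F15493)) (tt N2672 (iv D3896)))
theorem Q3835 : ∀ i, i < 3835 → P i := stepQ 3834 Q3834 (allL N3834 (tt N5217 (iv F16454)) (tt N2684 F12060) (tt N5213 (iv F16438)) (tt N3483 F12061) (tt N2674 F12062) (tt N3473 F12063) (tt N2673 (iv D3897)) (tt N5223 D5292))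
theorem Q3836 : ∀ i, i < 3836 → P i := stepQ 3835 Q3835 (allL N3835 (tt N5220 (iv F16463)) (tt N3835 F12064) (tt N5214 (iv F16442)) (tt N3835 F12065) (tt N3473 F12066) (tt N2674 (iv D3898)) (tt N2675 F12067) (tt N3353 (iv F12068)))
theorem Q3837 : ∀ i, i < 3837 → P i := stepQ 3836 Q3836 (allL N3836 (tt N5221 (iv F16468)) (tt N2685 F12069) (tt N5215 (iv F16447)) (tt N3354 (iv F12071)) (tt N5223 (iv F16478)) (tt N3353 F12070) (tt N4942 (iv F15540)) (tt N2674 (iv D3899)))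
theorem Q3838 : ∀ i, i < 3838 → P i := stepQ 3837 Q3837 (allL N3837 (tt N2682 F12072) (tt N5224 D5293) (tt N3837 F12073) (tt N2679 F12074) (tt N3837 F12075) (tt N2678 (iv D3900)) (tt N5225 D5294) (tt N3896 F12282))
theorem Q3839 : ∀ i, i < 3839 → P i := stepQ 3838 Q3838 (allL N3838 (tt N2683 F12076) (tt N3034 F12077) (tt N3838 F12078) (tt N3901 (iv F12298)) (tt N3838 F12079) (tt N3896 F12281) (tt N5226 D5295) (tt N2678 (iv D3901)))
theorem Q3840 : ∀ i, i < 3840 → P i := stepQ 3839 Q3839 (allL N3839 (tt N5216 (iv F16450)) (tt N2679 (iv D3902)) (tt N5227 D5296) (tt N5224 (iv F16482)) (tt N2680 F12080) (tt N3035 F12081) (tt N5228 D5297) (tt N4964 (iv F15615)))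
theorem Q3841 : ∀ i, i < 3841 → P i := stepQ 3840 Q3840 (allL N3840 (tt N2684 F12082) (tt N5228 (iv F16497)) (tt N5160 (iv F16270)) (tt N5225 (iv F16487)) (tt N2681 F12083) (tt N3840 F12084) (tt N2679 (iv D3903)) (tt N5229 D5298))
theorem Q3842 : ∀ i, i < 3842 → P i := stepQ 3841 Q3841 (allL N3841 (tt N5218 (iv F16458)) (tt N5161 (iv F16274)) (tt N2680 (iv D3904)) (tt N5230 D5299) (tt N5227 (iv F16495)) (tt N3037 F12085) (tt N5231 D5300) (tt N4965 (iv F15617)))
theorem Q3843 : ∀ i, i < 3843 → P i := stepQ 3842 Q3842 (allL N3842 (tt N5219 (iv F16460)) (tt N2681 F12086) (tt N5231 (iv F16504)) (tt N3842 F12087) (tt N5228 (iv F16498)) (tt N5232 D5301) (tt N2680 (iv D3905)) (tt N5233 D5302))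
theorem Q3844 : ∀ i, i < 3844 → P i := stepQ 3843 Q3843 (allL N3843 (tt N2685 F12088) (tt N5233 (iv F16508)) (tt N5163 (iv F16278)) (tt N5234 D5303) (tt N5229 (iv F16500)) (tt N3843 F12089) (tt N4967 (iv F15621)) (tt N2681 (iv D3906)))
theorem Q3845 : ∀ i, i < 3845 → P i := stepQ 3844 Q3844 (allL N3844 (tt N5225 (iv F16485)) (tt N3483 F12090) (tt N3844 F12091) (tt N2684 F12092) (tt N3844 F12093) (tt N3844 F12094) (tt N2682 (iv D3907)) (tt N3891 (iv F12261)))
theorem Q3846 : ∀ i, i < 3846 → P i := stepQ 3845 Q3845 (allL N3845 (tt N5226 (iv F16490)) (tt N2686 F12095) (tt N3845 F12096) (tt N3904 (iv F12312)) (tt N3845 F12097) (tt N3897 (iv F12287)) (tt N2683 (iv D3908)) (tt N3845 F12098))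
theorem Q3847 : ∀ i, i < 3847 → P i := stepQ 3846 Q3846 (allL N3846 (tt N5229 (iv F16499)) (tt N5223 (iv F16476)) (tt N4884 (iv F15328)) (tt N5235 D5304) (tt N2685 F12099) (tt N3846 F12100) (tt N4882 (iv F15324)) (tt N2684 (iv D3909)))
theorem Q3848 : ∀ i, i < 3848 → P i := stepQ 3847 Q3847 (allL N3847 (tt N5234 (iv F16509)) (tt N3354 F12101) (tt N5236 D5305) (tt N2685 (iv D3910)) (tt N3363 (iv F12104)) (tt N3847 F12102) (tt N4944 (iv F15549)) (tt N3847 F12103))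
theorem Q3849 : ∀ i, i < 3849 → P i := stepQ 3848 Q3848 (allL N3848 (tt N3848 F12105) (tt N4968 (iv F15622)) (tt N2692 F12106) (tt N2687 (iv D3911)) (tt N2997 F12107) (tt N2996 (iv F12109)) (tt N2688 F12108) (tt N5237 D5306))
theorem Q3850 : ∀ i, i < 3850 → P i := stepQ 3849 Q3849 (allL N3849 (tt N3849 F12110) (tt N5238 D5307) (tt N2690 F12111) (tt N2996 F12112) (tt N2688 F12113) (tt N2687 (iv D3912)) (tt N2997 F12114) (tt N5239 D5308))
theorem Q3851 : ∀ i, i < 3851 → P i := stepQ 3850 Q3850 (allL N3850 (tt N3850 F12115) (tt N4970 (iv F15628)) (tt N2691 F12116) (tt N5240 D5309) (tt N2689 F12117) (tt N5239 (iv F16534)) (tt N5241 D5310) (tt N2687 (iv D3913)))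
theorem Q3852 : ∀ i, i < 3852 → P i := stepQ 3851 Q3851 (allL N3851 (tt N5242 D5311) (tt N2688 (iv D3914)) (tt N3851 F12118) (tt N3048 F12119) (tt N5238 (iv F16529)) (tt N4971 (iv F15633)) (tt N4968 (iv F15625)) (tt N5243 D5312))
theorem Q3853 : ∀ i, i < 3853 → P i := stepQ 3852 Q3852 (allL N3852 (tt N3852 F12120) (tt N5243 (iv F16544)) (tt N2693 F12121) (tt N5244 D5313) (tt N5239 (iv F16533)) (tt N2689 F12122) (tt N5245 D5314) (tt N2688 (iv D3915)))
theorem Q3854 : ∀ i, i < 3854 → P i := stepQ 3853 Q3853 (allL N3853 (tt N3853 F12123) (tt N4974 (iv F15638)) (tt N5246 D5315) (tt N2689 (iv D3916)) (tt N5247 D5316) (tt N5244 (iv F16547)) (tt N5248 D5317) (tt N3050 F12124))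
theorem Q3855 : ∀ i, i < 3855 → P i := stepQ 3854 Q3854 (allL N3854 (tt N3854 F12125) (tt N4975 (iv F15640)) (tt N2695 F12126) (tt N5248 (iv F16557)) (tt N5241 (iv F16539)) (tt N5249 D5318) (tt N2689 (iv D3917)) (tt N5165 (iv F16286)))
theorem Q3856 : ∀ i, i < 3856 → P i := stepQ 3855 Q3855 (allL N3855 (tt N3855 F12127) (tt N3855 F12128) (tt N5239 (iv F16532)) (tt N3855 F12129) (tt N2693 F12130) (tt N2691 F12131) (tt N5250 D5319) (tt N2690 (iv D3918)))
theorem Q3857 : ∀ i, i < 3857 → P i := stepQ 3856 Q3856 (allL N3856 (tt N3856 F12132) (tt N2699 F12133) (tt N5241 (iv F16538)) (tt N3856 F12134) (tt N2695 F12135) (tt N5251 D5320) (tt N2691 (iv D3919)) (tt N3055 F12136))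
theorem Q3858 : ∀ i, i < 3858 → P i := stepQ 3857 Q3857 (allL N3857 (tt N3857 F12137) (tt N3857 F12138) (tt N5237 (iv F16524)) (tt N3857 F12139) (tt N3000 F12140) (tt N2999 F12141) (tt N5252 D5321) (tt N2692 (iv D3920)))
theorem Q3859 : ∀ i, i < 3859 → P i := stepQ 3858 Q3858 (allL N3858 (tt N3858 F12142) (tt N3858 F12143) (tt N5253 D5322) (tt N2693 (iv D3921)) (tt N3858 F12144) (tt N2694 F12145) (tt N5254 D5323) (tt N2696 F12146))
theorem Q3860 : ∀ i, i < 3860 → P i := stepQ 3859 Q3859 (allL N3859 (tt N3859 F12147) (tt N3859 F12148) (tt N5245 (iv F16550)) (tt N5254 (iv F16580)) (tt N5250 (iv F16563)) (tt N5255 D5324) (tt N2693 (iv D3922)) (tt N5252 (iv F16573)))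
theorem Q3861 : ∀ i, i < 3861 → P i := stepQ 3860 Q3860 (allL N3860 (tt N3860 F12149) (tt N5256 D5325) (tt N2694 (iv D3923)) (tt N5246 (iv F16552)) (tt N3860 F12150) (tt N5253 (iv F16576)) (tt N5257 D5326) (tt N2697 F12151))
theorem Q3862 : ∀ i, i < 3862 → P i := stepQ 3861 Q3861 (allL N3861 (tt N3861 F12152) (tt N2701 F12153) (tt N5257 (iv F16589)) (tt N2695 F12154) (tt N3861 F12155) (tt N5258 D5327) (tt N2694 (iv D3924)) (tt N5259 D5328))
theorem Q3863 : ∀ i, i < 3863 → P i := stepQ 3862 Q3862 (allL N3862 (tt N3862 F12156) (tt N5260 D5329) (tt N5249 (iv F16559)) (tt N5258 (iv F16592)) (tt N5251 (iv F16567)) (tt N2695 (iv D3925)) (tt N5255 (iv F16584)) (tt N5169 (iv F16301)))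
theorem Q3864 : ∀ i, i < 3864 → P i := stepQ 3863 Q3863 (allL N3863 (tt N3863 F12157) (tt N5261 D5330) (tt N2696 (iv D3926)) (tt N3060 F12158) (tt N3863 F12159) (tt N2697 F12160) (tt N3863 F12161) (tt N5253 (iv F16577)))
theorem Q3865 : ∀ i, i < 3865 → P i := stepQ 3864 Q3864 (allL N3864 (tt N5262 D5331) (tt N2697 (iv D3927)) (tt N2703 F12162) (tt N3061 F12163) (tt N3864 F12164) (tt N5263 D5332) (tt N5264 D5333) (tt N5256 (iv F16587)))
theorem Q3866 : ∀ i, i < 3866 → P i := stepQ 3865 Q3865 (allL N3865 (tt N3865 F12165) (tt N5264 (iv F16630)) (tt N2698 F12166) (tt N3063 F12167) (tt N3865 F12168) (tt N3865 F12169) (tt N2697 (iv D3928)) (tt N5265 D5334))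
theorem Q3867 : ∀ i, i < 3867 → P i := stepQ 3866 Q3866 (allL N3866 (tt N3866 F12170) (tt N2706 F12171) (tt N5265 (iv F16635)) (tt N5172 (iv F16310)) (tt N3866 F12172) (tt N3866 F12173) (tt N5259 (iv F16597)) (tt N2698 (iv D3929)))
theorem Q3868 : ∀ i, i < 3868 → P i := stepQ 3867 Q3867 (allL N3867 (tt N2715 F12174) (tt N5266 D5335) (tt N4996 (iv F15687)) (tt N3867 F12175) (tt N2702 F12176) (tt N2699 (iv D3930)) (tt N3867 F12177) (tt N3257 F12178))
theorem Q3869 : ∀ i, i < 3869 → P i := stepQ 3868 Q3868 (allL N3868 (tt N5267 D5336) (tt N2700 (iv D3931)) (tt N5256 (iv F16585)) (tt N4997 (iv F15691)) (tt N3868 F12179) (tt N5268 D5337) (tt N5269 D5338) (tt N2703 F12180))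
theorem Q3870 : ∀ i, i < 3870 → P i := stepQ 3869 Q3869 (allL N3869 (tt N2717 F12181) (tt N5269 (iv F16652)) (tt N2701 F12182) (tt N4999 (iv F15700)) (tt N3869 F12183) (tt N4819 (iv F15116)) (tt N2700 (iv D3932)) (tt N4818 F15112))
theorem Q3871 : ∀ i, i < 3871 → P i := stepQ 3870 Q3870 (allL N3870 (tt N2718 F12184) (tt N5270 D5339) (tt N4819 (iv F15114)) (tt N2702 F12185) (tt N3870 F12186) (tt N2701 (iv D3933)) (tt N3870 F12187) (tt N4815 F15100))
theorem Q3872 : ∀ i, i < 3872 → P i := stepQ 3871 Q3871 (allL N3871 (tt N2719 F12188) (tt N5259 (iv F16595)) (tt N4818 (iv F15109)) (tt N5178 (iv F16328)) (tt N3871 F12189) (tt N4815 (iv F15099)) (tt N2706 F12190) (tt N2701 (iv D3934)))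
theorem Q3873 : ∀ i, i < 3873 → P i := stepQ 3872 Q3872 (allL N3872 (tt N5271 D5340) (tt N2702 (iv D3935)) (tt N5272 D5341) (tt N5270 (iv F16654)) (tt N5266 (iv F16639)) (tt N5260 (iv F16598)) (tt N3872 F12191) (tt N5179 (iv F16333)))
theorem Q3874 : ∀ i, i < 3874 → P i := stepQ 3873 Q3873 (allL N3873 (tt N2703 (iv D3936)) (tt N2721 F12192) (tt N5262 (iv F16619)) (tt N2707 F12193) (tt N3873 F12194) (tt N5273 D5342) (tt N5274 D5343) (tt N5267 (iv F16645)))
theorem Q3875 : ∀ i, i < 3875 → P i := stepQ 3874 Q3874 (allL N3874 (tt N5273 (iv F16660)) (tt N3874 F12195) (tt N5263 (iv F16626)) (tt N2709 F12196) (tt N3874 F12197) (tt N2703 (iv D3937)) (tt N5275 D5344) (tt N5268 (iv F16651)))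
theorem Q3876 : ∀ i, i < 3876 → P i := stepQ 3875 Q3875 (allL N3875 (tt N5274 (iv F16666)) (tt N2704 F12198) (tt N5264 (iv F16631)) (tt N2710 F12199) (tt N3875 F12200) (tt N4829 (iv F15145)) (tt N2703 (iv D3938)) (tt N4820 (iv F15120)))
theorem Q3877 : ∀ i, i < 3877 → P i := stepQ 3876 Q3876 (allL N3876 (tt N2708 F12201) (tt N2724 F12202) (tt N3076 F12203) (tt N3876 F12204) (tt N2707 (iv D3939)) (tt N5276 D5345) (tt N3263 (iv F12205)) (tt N5013 (iv F15735)))
theorem Q3878 : ∀ i, i < 3878 → P i := stepQ 3877 Q3877 (allL N3877 (tt N2709 F12206) (tt N5277 D5346) (tt N3077 F12207) (tt N5273 (iv F16662)) (tt N5276 (iv F16677)) (tt N2707 (iv D3940)) (tt N5278 D5347) (tt N5014 (iv F15738)))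
theorem Q3879 : ∀ i, i < 3879 → P i := stepQ 3878 Q3878 (allL N3878 (tt N2710 F12208) (tt N2726 F12209) (tt N3078 F12210) (tt N5274 (iv F16668)) (tt N3263 F12211) (tt N5279 D5348) (tt N2707 (iv D3941)) (tt N5280 D5349))
theorem Q3880 : ∀ i, i < 3880 → P i := stepQ 3879 Q3879 (allL N3879 (tt N5276 (iv F16674)) (tt N3879 F12212) (tt N3079 F12213) (tt N3879 F12214) (tt N2709 F12215) (tt N2708 (iv D3942)) (tt N5281 D5350) (tt N5017 (iv F15747)))
theorem Q3881 : ∀ i, i < 3881 → P i := stepQ 3880 Q3880 (allL N3880 (tt N5278 (iv F16682)) (tt N3880 F12216) (tt N3080 F12217) (tt N5275 (iv F16672)) (tt N5281 (iv F16695)) (tt N5282 D5351) (tt N2709 (iv D3943)) (tt N5283 D5352))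
theorem Q3882 : ∀ i, i < 3882 → P i := stepQ 3881 Q3881 (allL N3881 (tt N5279 (iv F16684)) (tt N4830 (iv F15148)) (tt N3081 F12218) (tt N4829 F15146) (tt N3264 F12219) (tt N2710 (iv D3944)) (tt N5282 (iv F16699)) (tt N5284 D5353))
theorem Q3883 : ∀ i, i < 3883 → P i := stepQ 3882 Q3882 (allL N3882 (tt N5280 (iv F16687)) (tt N2712 F12220) (tt N3082 F12221) (tt N5285 D5354) (tt N3258 F12222) (tt N5284 (iv F16704)) (tt N5021 (iv F15758)) (tt N2710 (iv D3945)))
theorem Q3884 : ∀ i, i < 3884 → P i := stepQ 3883 Q3883 (allL N3883 (tt N2731 F12223) (tt N4056 (iv F12773)) (tt N2714 F12224) (tt N3613 F12225) (tt N3255 F12226) (tt N2712 F12227) (tt N5286 D5355) (tt N2711 (iv D3946)))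
theorem Q3885 : ∀ i, i < 3885 → P i := stepQ 3884 Q3884 (allL N3884 (tt N2732 F12228) (tt N5285 (iv F16706)) (tt N5192 (iv F16363)) (tt N2712 (iv D3947)) (tt N3614 F12229) (tt N3613 F12230) (tt N5026 (iv F15773)) (tt N3829 F12231))
theorem Q3886 : ∀ i, i < 3886 → P i := stepQ 3885 Q3885 (allL N3885 (tt N3885 F12232) (tt N4832 (iv F15156)) (tt N2713 (iv D3948)) (tt N3885 F12233) (tt N3060 F12234) (tt N3062 F12235) (tt N3885 F12236) (tt N5287 D5356))
theorem Q3887 : ∀ i, i < 3887 → P i := stepQ 3886 Q3886 (allL N3886 (tt N3886 F12237) (tt N2714 F12238) (tt N5287 (iv F16715)) (tt N5167 (iv F16292)) (tt N3054 F12239) (tt N3057 F12240) (tt N5288 D5357) (tt N2713 (iv D3949)))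
theorem Q3888 : ∀ i, i < 3888 → P i := stepQ 3887 Q3887 (allL N3887 (tt N2733 F12241) (tt N5288 (iv F16719)) (tt N5286 (iv F16710)) (tt N5176 (iv F16321)) (tt N3256 F12242) (tt N5029 (iv F15782)) (tt N2714 (iv D3950)) (tt N3887 F12243))
theorem Q3889 : ∀ i, i < 3889 → P i := stepQ 3888 Q3888 (allL N3888 (tt N5289 D5358) (tt N2715 (iv D3951)) (tt N5290 D5359) (tt N3888 F12244) (tt N2720 F12245) (tt N3888 F12246) (tt N3888 F12247) (tt N3370 F12248))
theorem Q3890 : ∀ i, i < 3890 → P i := stepQ 3889 Q3889 (allL N3889 (tt N2716 (iv D3952)) (tt N5267 (iv F16642)) (tt N3889 F12249) (tt N5034 (iv F15798)) (tt N3889 F12250) (tt N5291 D5360) (tt N5292 D5361) (tt N2721 F12251))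
theorem Q3891 : ∀ i, i < 3891 → P i := stepQ 3890 Q3890 (allL N3890 (tt N5291 (iv F16731)) (tt N3890 F12252) (tt N3890 F12253) (tt N4731 F14822) (tt N3890 F12254) (tt N2716 (iv D3953)) (tt N3890 F12256) (tt N2722 F12255))
theorem Q3892 : ∀ i, i < 3892 → P i := stepQ 3891 Q3891 (allL N3891 (tt N5292 (iv F16738)) (tt N2717 F12257) (tt N3891 F12258) (tt N5035 (iv F15802)) (tt N3891 F12259) (tt N3891 F12260) (tt N2716 (iv D3954)) (tt N3844 F12261))
theorem Q3893 : ∀ i, i < 3893 → P i := stepQ 3892 Q3892 (allL N3892 (tt N5293 D5362) (tt N2718 (iv D3955)) (tt N3892 F12262) (tt N2720 F12263) (tt N3892 F12264) (tt N3892 F12265) (tt N3892 F12266) (tt N3764 F12267))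
theorem Q3894 : ∀ i, i < 3894 → P i := stepQ 3893 Q3893 (allL N3893 (tt N2720 (iv D3956)) (tt N5271 (iv F16657)) (tt N5294 D5363) (tt N5293 (iv F16744)) (tt N5289 (iv F16723)) (tt N3893 F12268) (tt N3893 F12269) (tt N5199 (iv F16393)))
theorem Q3895 : ∀ i, i < 3895 → P i := stepQ 3894 Q3894 (allL N3894 (tt N5294 (iv F16749)) (tt N5037 (iv F15805)) (tt N2720 (iv D3957)) (tt N3894 F12270) (tt N5290 (iv F16727)) (tt N3894 F12271) (tt N3894 F12272) (tt N5200 (iv F16397)))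
theorem Q3896 : ∀ i, i < 3896 → P i := stepQ 3895 Q3895 (allL N3895 (tt N2722 F12273) (tt N5295 D5364) (tt N3895 F12274) (tt N2725 F12275) (tt N3895 F12276) (tt N2721 (iv D3958)) (tt N5296 D5365) (tt N5291 (iv F16736)))
theorem Q3897 : ∀ i, i < 3897 → P i := stepQ 3896 Q3896 (allL N3896 (tt N2723 F12277) (tt N5274 (iv F16667)) (tt N3896 F12278) (tt N2726 F12279) (tt N3896 F12280) (tt N3838 (iv F12281)) (tt N2721 (iv D3959)) (tt N3837 (iv F12282)))
theorem Q3898 : ∀ i, i < 3898 → P i := stepQ 3897 Q3897 (allL N3897 (tt N5296 (iv F16759)) (tt N3897 F12283) (tt N3897 F12284) (tt N2728 F12285) (tt N3897 F12286) (tt N3845 F12287) (tt N2722 (iv D3960)) (tt N3897 F12288))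
theorem Q3899 : ∀ i, i < 3899 → P i := stepQ 3898 Q3898 (allL N3898 (tt N2727 F12289) (tt N5297 D5366) (tt N2734 F12290) (tt N3898 F12291) (tt N2725 F12292) (tt N2724 (iv D3961)) (tt N5298 D5367) (tt N5049 (iv F15844)))
theorem Q3900 : ∀ i, i < 3900 → P i := stepQ 3899 Q3899 (allL N3899 (tt N3899 F12293) (tt N2725 (iv D3962)) (tt N5299 D5368) (tt N5295 (iv F16754)) (tt N5297 (iv F16767)) (tt N5277 (iv F16680)) (tt N5300 D5369) (tt N5051 (iv F15851)))
theorem Q3901 : ∀ i, i < 3901 → P i := stepQ 3900 Q3900 (allL N3900 (tt N2728 F12294) (tt N5300 (iv F16779)) (tt N2736 F12295) (tt N5296 (iv F16761)) (tt N5298 (iv F16771)) (tt N5301 D5370) (tt N2725 (iv D3963)) (tt N5302 D5371))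
theorem Q3902 : ∀ i, i < 3902 → P i := stepQ 3901 Q3901 (allL N3901 (tt N2729 F12296) (tt N4071 (iv F12822)) (tt N2737 F12297) (tt N3838 F12298) (tt N3377 F12299) (tt N2726 (iv D3964)) (tt N5301 (iv F16784)) (tt N3619 (iv F12300)))
theorem Q3903 : ∀ i, i < 3903 → P i := stepQ 3902 Q3902 (allL N3902 (tt N2730 F12301) (tt N5280 (iv F16688)) (tt N2738 F12302) (tt N3620 F12303) (tt N3371 F12304) (tt N3619 F12305) (tt N5054 (iv F15862)) (tt N2726 (iv D3965)))
theorem Q3904 : ∀ i, i < 3904 → P i := stepQ 3903 Q3903 (allL N3903 (tt N5298 (iv F16768)) (tt N3903 F12306) (tt N2739 F12307) (tt N3903 F12308) (tt N2728 F12309) (tt N3378 F12310) (tt N2727 (iv D3966)) (tt N5117 (iv F16109)))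
theorem Q3905 : ∀ i, i < 3905 → P i := stepQ 3904 Q3904 (allL N3904 (tt N5301 (iv F16780)) (tt N3624 F12315) (tt N2740 F12311) (tt N3845 F12312) (tt N3378 F12313) (tt N2728 (iv D3967)) (tt N2729 F12314) (tt N4896 (iv F15382)))
theorem Q3906 : ∀ i, i < 3906 → P i := stepQ 3905 Q3905 (allL N3905 (tt N5302 (iv F16785)) (tt N3905 F12316) (tt N2741 F12317) (tt N3905 F12318) (tt N5117 (iv F16108)) (tt N4896 (iv F15383)) (tt N5061 (iv F15888)) (tt N2728 (iv D3968)))
theorem Q3907 : ∀ i, i < 3907 → P i := stepQ 3906 Q3906 (allL N3906 (tt N5286 (iv F16709)) (tt N3618 F12319) (tt N2733 F12320) (tt N3616 F12321) (tt N3368 F12322) (tt N5069 (iv F15919)) (tt N2731 (iv D3969)) (tt N3906 F12323))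
theorem Q3908 : ∀ i, i < 3908 → P i := stepQ 3907 Q3907 (allL N3907 (tt N2747 F12324) (tt N2734 (iv D3970)) (tt N5303 D5372) (tt N3401 F12325) (tt N2735 F12326) (tt N3100 F12327) (tt N5304 D5373) (tt N5078 (iv F15959)))
theorem Q3909 : ∀ i, i < 3909 → P i := stepQ 3908 Q3908 (allL N3908 (tt N2739 F12328) (tt N5304 (iv F16792)) (tt N5298 (iv F16769)) (tt N3399 F12329) (tt N2736 F12330) (tt N3395 F12331) (tt N2734 (iv D3971)) (tt N5305 D5374))
theorem Q3910 : ∀ i, i < 3910 → P i := stepQ 3909 Q3909 (allL N3909 (tt N2749 F12332) (tt N5299 (iv F16774)) (tt N2735 (iv D3972)) (tt N5306 D5375) (tt N5303 (iv F16789)) (tt N3102 F12333) (tt N5307 D5376) (tt N5081 (iv F15969)))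
theorem Q3911 : ∀ i, i < 3911 → P i := stepQ 3910 Q3910 (allL N3910 (tt N2750 F12334) (tt N2736 F12335) (tt N5307 (iv F16804)) (tt N3910 F12336) (tt N5304 (iv F16794)) (tt N5308 D5377) (tt N2735 (iv D3973)) (tt N5309 D5378))
theorem Q3912 : ∀ i, i < 3912 → P i := stepQ 3911 Q3911 (allL N3911 (tt N2740 F12337) (tt N5310 D5379) (tt N5301 (iv F16781)) (tt N3911 F12338) (tt N3395 F12339) (tt N2736 (iv D3974)) (tt N2737 F12340) (tt N5311 D5380))
theorem Q3913 : ∀ i, i < 3913 → P i := stepQ 3912 Q3912 (allL N3912 (tt N2741 F12341) (tt N5309 (iv F16809)) (tt N5302 (iv F16786)) (tt N5312 D5381) (tt N5305 (iv F16796)) (tt N5311 (iv F16816)) (tt N5084 (iv F15977)) (tt N2736 (iv D3975)))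
theorem Q3914 : ∀ i, i < 3914 → P i := stepQ 3913 Q3913 (allL N3913 (tt N3913 F12342) (tt N2737 (iv D3976)) (tt N4492 (iv F14117)) (tt N3913 F12343) (tt N3394 F12344) (tt N3106 F12345) (tt N5310 (iv F16813)) (tt N3158 (iv F12346)))
theorem Q3915 : ∀ i, i < 3915 → P i := stepQ 3914 Q3914 (allL N3914 (tt N2742 F12347) (tt N3158 F12348) (tt N3619 F12349) (tt N3159 (iv F12352)) (tt N3386 F12350) (tt N2738 F12351) (tt N3501 (iv F12353)) (tt N2737 (iv D3977)))
theorem Q3916 : ∀ i, i < 3916 → P i := stepQ 3915 Q3915 (allL N3915 (tt N5305 (iv F16795)) (tt N2757 F12354) (tt N5117 (iv F16106)) (tt N5313 D5382) (tt N2741 F12355) (tt N3396 F12356) (tt N5090 (iv F16003)) (tt N2739 (iv D3978)))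
theorem Q3917 : ∀ i, i < 3917 → P i := stepQ 3916 Q3916 (allL N3916 (tt N5311 (iv F16814)) (tt N3916 F12357) (tt N4896 (iv F15379)) (tt N3505 (iv F12361)) (tt N3396 F12358) (tt N2741 F12359) (tt N3504 F12360) (tt N2740 (iv D3979)))
theorem Q3918 : ∀ i, i < 3918 → P i := stepQ 3917 Q3917 (allL N3917 (tt N5312 (iv F16819)) (tt N2758 F12362) (tt N3917 F12363) (tt N2741 (iv D3980)) (tt N5314 D5383) (tt N3505 F12364) (tt N3528 F12365) (tt N3917 F12366))
theorem Q3919 : ∀ i, i < 3919 → P i := stepQ 3918 Q3918 (allL N3918 (tt N2752 F12367) (tt N5315 D5384) (tt N2745 F12368) (tt N3918 F12369) (tt N3918 F12370) (tt N2744 (iv D3981)) (tt N5316 D5385) (tt N5317 D5386))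
theorem Q3920 : ∀ i, i < 3920 → P i := stepQ 3919 Q3919 (allL N3919 (tt N2753 F12371) (tt N3919 F12372) (tt N2746 F12373) (tt N5318 D5387) (tt N3919 F12374) (tt N5317 (iv F16844)) (tt N5319 D5388) (tt N2744 (iv D3982)))
theorem Q3921 : ∀ i, i < 3921 → P i := stepQ 3920 Q3920 (allL N3920 (tt N3401 F12375) (tt N2745 (iv D3983)) (tt N5320 D5389) (tt N2747 F12376) (tt N3920 F12377) (tt N3108 F12378) (tt N5321 D5390) (tt N5322 D5391))
theorem Q3922 : ∀ i, i < 3922 → P i := stepQ 3921 Q3921 (allL N3921 (tt N2754 F12379) (tt N5321 (iv F16857)) (tt N5316 (iv F16837)) (tt N2748 F12380) (tt N3921 F12381) (tt N3921 F12382) (tt N2745 (iv D3984)) (tt N5323 D5392))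
theorem Q3923 : ∀ i, i < 3923 → P i := stepQ 3922 Q3922 (allL N3922 (tt N2755 F12383) (tt N5322 (iv F16861)) (tt N5317 (iv F16842)) (tt N5101 (iv F16048)) (tt N3922 F12384) (tt N2746 F12385) (tt N5324 D5393) (tt N2745 (iv D3985)))
theorem Q3924 : ∀ i, i < 3924 → P i := stepQ 3923 Q3923 (allL N3923 (tt N2756 F12386) (tt N3111 F12387) (tt N5319 (iv F16850)) (tt N5102 (iv F16054)) (tt N3923 F12388) (tt N5325 D5394) (tt N2746 (iv D3986)) (tt N3923 F12389))
theorem Q3925 : ∀ i, i < 3925 → P i := stepQ 3924 Q3924 (allL N3924 (tt N5303 (iv F16788)) (tt N3924 F12390) (tt N2747 (iv D3987)) (tt N5326 D5395) (tt N2749 F12391) (tt N3112 F12392) (tt N5327 D5396) (tt N5103 (iv F16059)))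
theorem Q3926 : ∀ i, i < 3926 → P i := stepQ 3925 Q3925 (allL N3925 (tt N5304 (iv F16791)) (tt N2748 F12393) (tt N5327 (iv F16875)) (tt N5321 (iv F16858)) (tt N2750 F12394) (tt N5328 D5397) (tt N2747 (iv D3988)) (tt N5329 D5398))
theorem Q3927 : ∀ i, i < 3927 → P i := stepQ 3926 Q3926 (allL N3926 (tt N2757 F12395) (tt N5329 (iv F16880)) (tt N3926 F12396) (tt N5330 D5399) (tt N2751 F12397) (tt N3926 F12398) (tt N5105 (iv F16065)) (tt N2748 (iv D3989)))
theorem Q3928 : ∀ i, i < 3928 → P i := stepQ 3927 Q3927 (allL N3927 (tt N5306 (iv F16798)) (tt N3927 F12399) (tt N3927 F12400) (tt N2749 (iv D3990)) (tt N5331 D5400) (tt N3115 F12401) (tt N5332 D5401) (tt N5333 D5402))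
theorem Q3929 : ∀ i, i < 3929 → P i := stepQ 3928 Q3928 (allL N3928 (tt N5307 (iv F16803)) (tt N3928 F12402) (tt N2750 F12403) (tt N5332 (iv F16889)) (tt N5327 (iv F16876)) (tt N5334 D5403) (tt N2749 (iv D3991)) (tt N5335 D5404))
theorem Q3930 : ∀ i, i < 3930 → P i := stepQ 3929 Q3929 (allL N3929 (tt N5308 (iv F16805)) (tt N3929 F12404) (tt N5334 (iv F16895)) (tt N3929 F12405) (tt N5328 (iv F16878)) (tt N2750 (iv D3992)) (tt N3117 F12406) (tt N5336 D5405))
theorem Q3931 : ∀ i, i < 3931 → P i := stepQ 3930 Q3930 (allL N3930 (tt N5309 (iv F16808)) (tt N2751 F12407) (tt N5335 (iv F16898)) (tt N5337 D5406) (tt N5329 (iv F16881)) (tt N5336 (iv F16900)) (tt N5109 (iv F16076)) (tt N2750 (iv D3993)))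
theorem Q3932 : ∀ i, i < 3932 → P i := stepQ 3931 Q3931 (allL N3931 (tt N2758 F12408) (tt N5337 (iv F16901)) (tt N5338 D5407) (tt N2751 (iv D3994)) (tt N5339 D5408) (tt N3931 F12409) (tt N5112 (iv F16086)) (tt N3931 F12410))
theorem Q3933 : ∀ i, i < 3933 → P i := stepQ 3932 Q3932 (allL N3932 (tt N5316 (iv F16836)) (tt N3932 F12411) (tt N2754 F12412) (tt N3932 F12413) (tt N3932 F12414) (tt N3932 F12415) (tt N2752 (iv D3995)) (tt N5340 D5409))
theorem Q3934 : ∀ i, i < 3934 → P i := stepQ 3933 Q3933 (allL N3933 (tt N5317 (iv F16841)) (tt N3933 F12416) (tt N2755 F12417) (tt N5341 D5410) (tt N3933 F12418) (tt N2753 F12419) (tt N5342 D5411) (tt N2752 (iv D3996)))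
theorem Q3935 : ∀ i, i < 3935 → P i := stepQ 3934 Q3934 (allL N3934 (tt N5318 (iv F16845)) (tt N2760 F12420) (tt N5115 (iv F16096)) (tt N2753 (iv D3997)) (tt N5343 D5412) (tt N5341 (iv F16916)) (tt N5344 D5413) (tt N3934 F12421))
theorem Q3936 : ∀ i, i < 3936 → P i := stepQ 3935 Q3935 (allL N3935 (tt N5319 (iv F16848)) (tt N2761 F12422) (tt N2756 F12423) (tt N5344 (iv F16929)) (tt N3935 F12424) (tt N5345 D5414) (tt N2753 (iv D3998)) (tt N3935 F12425))
theorem Q3937 : ∀ i, i < 3937 → P i := stepQ 3936 Q3936 (allL N3936 (tt N5323 (iv F16864)) (tt N3404 F12426) (tt N5340 (iv F16911)) (tt N5346 D5415) (tt N3936 F12427) (tt N3936 F12428) (tt N5347 D5416) (tt N2754 (iv D3999)))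
theorem Q3938 : ∀ i, i < 3938 → P i := stepQ 3937 Q3937 (allL N3937 (tt N5324 (iv F16867)) (tt N3407 F12429) (tt N5342 (iv F16920)) (tt N5116 (iv F16103)) (tt N3937 F12430) (tt N5348 D5417) (tt N2755 (iv D4000)) (tt N5347 (iv F16939)))
theorem Q3939 : ∀ i, i < 3939 → P i := stepQ 3938 Q3938 (allL N3938 (tt N5325 (iv F16869)) (tt N3938 F12431) (tt N5345 (iv F16931)) (tt N5117 (iv F16107)) (tt N3938 F12432) (tt N2756 (iv D4001)) (tt N5348 (iv F16942)) (tt N3938 F12433))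
theorem Q3940 : ∀ i, i < 3940 → P i := stepQ 3939 Q3939 (allL N3939 (tt N5330 (iv F16882)) (tt N5313 (iv F16824)) (tt N5349 D5418) (tt N2757 (iv D4002)) (tt N5350 D5419) (tt N3939 F12434) (tt N5119 (iv F16115)) (tt N5346 (iv F16936)))
theorem Q3941 : ∀ i, i < 3941 → P i := stepQ 3940 Q3940 (allL N3940 (tt N5338 (iv F16903)) (tt N3940 F12435) (tt N2758 (iv D4003)) (tt N3940 F12436) (tt N5351 D5420) (tt N3940 F12437) (tt N5121 (iv F16125)) (tt N3940 F12438))
theorem Q3942 : ∀ i, i < 3942 → P i := stepQ 3941 Q3941 (allL N3941 (tt N5339 (iv F16907)) (tt N5314 (iv F16827)) (tt N5351 (iv F16951)) (tt N5350 (iv F16947)) (tt N2758 (iv D4004)) (tt N3941 F12439) (tt N5122 (iv F16129)) (tt N3941 F12440))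
theorem Q3943 : ∀ i, i < 3943 → P i := stepQ 3942 Q3942 (allL N3942 (tt N3942 F12441) (tt N5343 (iv F16922)) (tt N3942 F12442) (tt N3942 F12443) (tt N2760 (iv D4005)) (tt N3942 F12444) (tt N5352 D5421) (tt N3942 F12445))
theorem Q3944 : ∀ i, i < 3944 → P i := stepQ 3943 Q3943 (allL N3943 (tt N3943 F12446) (tt N5344 (iv F16927)) (tt N3943 F12447) (tt N2761 F12448) (tt N5352 (iv F16958)) (tt N5353 D5422) (tt N2760 (iv D4006)) (tt N5354 D5423))
theorem Q3945 : ∀ i, i < 3945 → P i := stepQ 3944 Q3944 (allL N3944 (tt N3944 F12449) (tt N5355 D5424) (tt N2762 F12450) (tt N5353 (iv F16961)) (tt N3944 F12451) (tt N2761 (iv D4007)) (tt N3944 F12452) (tt N3944 F12453))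
theorem Q3946 : ∀ i, i < 3946 → P i := stepQ 3945 Q3945 (allL N3945 (tt N2877 F12454) (tt N3945 F12455) (tt N2764 F12456) (tt N5333 (iv F16893)) (tt N2763 (iv D4008)) (tt N5356 D5425) (tt N4203 (iv F13198)) (tt N5106 F16071))
theorem Q3947 : ∀ i, i < 3947 → P i := stepQ 3946 Q3946 (allL N3946 (tt N2878 F12457) (tt N5357 D5426) (tt N2765 F12458) (tt N4848 (iv F15219)) (tt N5356 (iv F16978)) (tt N2763 (iv D4009)) (tt N5358 D5427) (tt N5359 D5428))
theorem Q3948 : ∀ i, i < 3948 → P i := stepQ 3947 Q3947 (allL N3947 (tt N2879 F12459) (tt N3947 F12460) (tt N2766 F12461) (tt N5360 D5429) (tt N5106 F16070) (tt N5359 (iv F16991)) (tt N5361 D5430) (tt N2763 (iv D4010)))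
theorem Q3949 : ∀ i, i < 3949 → P i := stepQ 3948 Q3948 (allL N3948 (tt N2880 F12462) (tt N3948 F12463) (tt N5356 (iv F16976)) (tt N3948 F12464) (tt N2765 F12465) (tt N2764 (iv D4011)) (tt N5362 D5431) (tt N5363 D5432))
theorem Q3950 : ∀ i, i < 3950 → P i := stepQ 3949 Q3949 (allL N3949 (tt N2881 F12466) (tt N2771 F12467) (tt N5106 (iv F16068)) (tt N3967 (iv F12524)) (tt N2766 F12468) (tt N5363 (iv F17005)) (tt N5364 D5433) (tt N2764 (iv D4012)))
theorem Q3951 : ∀ i, i < 3951 → P i := stepQ 3950 Q3950 (allL N3950 (tt N2882 F12469) (tt N3950 F12470) (tt N5358 (iv F16986)) (tt N2767 F12471) (tt N5362 (iv F17000)) (tt N4208 (iv F13214)) (tt N2765 (iv D4013)) (tt N5365 D5434))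
theorem Q3952 : ∀ i, i < 3952 → P i := stepQ 3951 Q3951 (allL N3951 (tt N2883 F12472) (tt N3951 F12473) (tt N5359 (iv F16989)) (tt N5366 D5435) (tt N5363 (iv F17004)) (tt N2766 F12474) (tt N5367 D5436) (tt N2765 (iv D4014)))
theorem Q3953 : ∀ i, i < 3953 → P i := stepQ 3952 Q3952 (allL N3952 (tt N2884 F12475) (tt N2772 F12476) (tt N5368 D5437) (tt N2766 (iv D4015)) (tt N3961 (iv F12501)) (tt N5366 (iv F17015)) (tt N5369 D5438) (tt N2769 F12477))
theorem Q3954 : ∀ i, i < 3954 → P i := stepQ 3953 Q3953 (allL N3953 (tt N2885 F12478) (tt N2773 F12479) (tt N5361 (iv F16996)) (tt N5369 (iv F17023)) (tt N5364 (iv F17009)) (tt N5370 D5439) (tt N2766 (iv D4016)) (tt N4210 (iv F13220)))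
theorem Q3955 : ∀ i, i < 3955 → P i := stepQ 3954 Q3954 (allL N3954 (tt N2887 F12480) (tt N3954 F12481) (tt N5371 D5440) (tt N2768 (iv D4017)) (tt N5372 D5441) (tt N2769 F12482) (tt N3634 F12483) (tt N5366 (iv F17016)))
theorem Q3956 : ∀ i, i < 3956 → P i := stepQ 3955 Q3955 (allL N3955 (tt N2889 F12484) (tt N5373 D5442) (tt N2769 (iv D4018)) (tt N4855 (iv F15237)) (tt N5374 D5443) (tt N5371 (iv F17026)) (tt N5375 D5444) (tt N5368 (iv F17020)))
theorem Q3957 : ∀ i, i < 3957 → P i := stepQ 3956 Q3956 (allL N3956 (tt N2890 F12485) (tt N2775 F12486) (tt N5374 (iv F17037)) (tt N3956 F12487) (tt N2769 (iv D4019)) (tt N5372 (iv F17031)) (tt N5376 D5445) (tt N3961 (iv F12502)))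
theorem Q3958 : ∀ i, i < 3958 → P i := stepQ 3957 Q3957 (allL N3957 (tt N2891 F12488) (tt N2776 F12489) (tt N5375 (iv F17040)) (tt N2770 F12490) (tt N5376 (iv F17045)) (tt N3637 F12491) (tt N2769 (iv D4020)) (tt N5377 D5446))
theorem Q3959 : ∀ i, i < 3959 → P i := stepQ 3958 Q3958 (allL N3958 (tt N2785 F12492) (tt N5364 (iv F17008)) (tt N3958 F12493) (tt N3970 (iv F12531)) (tt N2773 F12494) (tt N5378 D5447) (tt N2771 (iv D4021)) (tt N4212 (iv F13227)))
theorem Q3960 : ∀ i, i < 3960 → P i := stepQ 3959 Q3959 (allL N3959 (tt N2786 F12495) (tt N5369 (iv F17022)) (tt N3963 (iv F12508)) (tt N2773 F12496) (tt N3962 (iv F12506)) (tt N4739 (iv F14849)) (tt N2772 (iv D4022)) (tt N5379 D5448))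
theorem Q3961 : ∀ i, i < 3961 → P i := stepQ 3960 Q3960 (allL N3960 (tt N2787 F12497) (tt N5380 D5449) (tt N3960 F12498) (tt N4739 F14852) (tt N5378 (iv F17052)) (tt N2773 (iv D4023)) (tt N3960 F12499) (tt N4213 (iv F13231)))
theorem Q3962 : ∀ i, i < 3962 → P i := stepQ 3961 Q3961 (allL N3961 (tt N4098 (iv F12895)) (tt N2774 (iv D4024)) (tt N5373 (iv F17033)) (tt N2778 F12500) (tt N3952 F12501) (tt N5381 D5450) (tt N5382 D5451) (tt N3956 F12502))
theorem Q3963 : ∀ i, i < 3963 → P i := stepQ 3962 Q3962 (allL N3962 (tt N2788 F12503) (tt N5382 (iv F17062)) (tt N2776 F12504) (tt N2780 F12505) (tt N3959 F12506) (tt N5383 D5452) (tt N2774 (iv D4025)) (tt N5384 D5453))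
theorem Q3964 : ∀ i, i < 3964 → P i := stepQ 3963 Q3963 (allL N3963 (tt N2789 F12507) (tt N5376 (iv F17043)) (tt N3959 F12508) (tt N3963 F12509) (tt N2776 F12510) (tt N3416 (iv F12511)) (tt N2775 (iv D4026)) (tt N5385 D5454))
theorem Q3965 : ∀ i, i < 3965 → P i := stepQ 3964 Q3964 (allL N3964 (tt N2790 F12512) (tt N3648 F12513) (tt N5383 (iv F17066)) (tt N2777 F12514) (tt N3416 F12515) (tt N2776 (iv D4027)) (tt N3964 F12516) (tt N2949 (iv F12517)))
theorem Q3966 : ∀ i, i < 3966 → P i := stepQ 3965 Q3965 (allL N3965 (tt N2791 F12518) (tt N5377 (iv F17048)) (tt N5384 (iv F17072)) (tt N4061 (iv F12785)) (tt N5385 (iv F17077)) (tt N2949 F12519) (tt N5379 (iv F17056)) (tt N2776 (iv D4028)))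
theorem Q3967 : ∀ i, i < 3967 → P i := stepQ 3966 Q3966 (allL N3966 (tt N2778 (iv D4029)) (tt N2793 F12520) (tt N4865 (iv F15266)) (tt N4098 (iv F12897)) (tt N4092 F12886) (tt N5386 D5455) (tt N5387 D5456) (tt N3966 F12521))
theorem Q3968 : ∀ i, i < 3968 → P i := stepQ 3967 Q3967 (allL N3967 (tt N4092 (iv F12883)) (tt N2779 F12522) (tt N3548 F12523) (tt N3949 F12524) (tt N2778 (iv D4030)) (tt N3997 (iv F12618)) (tt N5388 D5457) (tt N3967 F12525))
theorem Q3969 : ∀ i, i < 3969 → P i := stepQ 3968 Q3968 (allL N3968 (tt N5386 (iv F17080)) (tt N3968 F12526) (tt N3995 F12612) (tt N5381 (iv F17059)) (tt N3997 (iv F12617)) (tt N2778 (iv D4031)) (tt N5389 D5458) (tt N3968 F12527))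
theorem Q3970 : ∀ i, i < 3970 → P i := stepQ 3969 Q3969 (allL N3969 (tt N5387 (iv F17084)) (tt N2780 F12528) (tt N4866 (iv F15271)) (tt N5382 (iv F17063)) (tt N5388 (iv F17089)) (tt N5390 D5459) (tt N2778 (iv D4032)) (tt N5391 D5460))
theorem Q3971 : ∀ i, i < 3971 → P i := stepQ 3970 Q3970 (allL N3970 (tt N2795 F12529) (tt N5388 (iv F17086)) (tt N2781 F12530) (tt N3958 F12531) (tt N2780 F12532) (tt N5392 D5461) (tt N2779 (iv D4033)) (tt N4733 (iv F14831)))
theorem Q3972 : ∀ i, i < 3972 → P i := stepQ 3971 Q3971 (allL N3971 (tt N2796 F12533) (tt N5393 D5462) (tt N2782 F12534) (tt N5383 (iv F17067)) (tt N5392 (iv F17096)) (tt N2780 (iv D4034)) (tt N3971 F12535) (tt N5394 D5463))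
theorem Q3973 : ∀ i, i < 3973 → P i := stepQ 3972 Q3972 (allL N3972 (tt N2797 F12536) (tt N5391 (iv F17091)) (tt N2783 F12537) (tt N5395 D5464) (tt N4733 (iv F14829)) (tt N5394 (iv F17101)) (tt N3972 F12538) (tt N2780 (iv D4035)))
theorem Q3974 : ∀ i, i < 3974 → P i := stepQ 3973 Q3973 (allL N3973 (tt N2798 F12539) (tt N5396 D5465) (tt N5392 (iv F17094)) (tt N3973 F12540) (tt N2782 F12541) (tt N2781 (iv D4036)) (tt N3973 F12542) (tt N4593 (iv F14388)))
theorem Q3975 : ∀ i, i < 3975 → P i := stepQ 3974 Q3974 (allL N3974 (tt N4032 (iv F12708)) (tt N2782 (iv D4037)) (tt N5397 D5466) (tt N2784 F12543) (tt N5396 (iv F17106)) (tt N4142 (iv F13006)) (tt N3974 F12544) (tt N5398 D5467))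
theorem Q3976 : ∀ i, i < 3976 → P i := stepQ 3975 Q3975 (allL N3975 (tt N2799 F12545) (tt N5398 (iv F17110)) (tt N5394 (iv F17100)) (tt N3207 F12546) (tt N4593 (iv F14386)) (tt N2783 F12547) (tt N3333 (iv F12548)) (tt N2782 (iv D4038)))
theorem Q3977 : ∀ i, i < 3977 → P i := stepQ 3976 Q3976 (allL N3976 (tt N5378 (iv F17050)) (tt N4742 (iv F14859)) (tt N3976 F12549) (tt N3984 (iv F12579)) (tt N2787 F12550) (tt N2785 (iv D4039)) (tt N3976 F12551) (tt N4216 (iv F13241)))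
theorem Q3978 : ∀ i, i < 3978 → P i := stepQ 3977 Q3977 (allL N3977 (tt N5379 (iv F17054)) (tt N2923 F12552) (tt N3980 (iv F12565)) (tt N4068 (iv F12810)) (tt N3979 (iv F12562)) (tt N2970 F12553) (tt N2791 F12554) (tt N2786 (iv D4040)))
theorem Q3979 : ∀ i, i < 3979 → P i := stepQ 3978 Q3978 (allL N3978 (tt N5383 (iv F17065)) (tt N2954 F12559) (tt N2790 F12555) (tt N2796 F12556) (tt N3417 F12557) (tt N2788 (iv D4041)) (tt N3978 F12558) (tt N2950 (iv F12560)))
theorem Q3980 : ∀ i, i < 3980 → P i := stepQ 3979 Q3979 (allL N3979 (tt N5384 (iv F17071)) (tt N4148 (iv F13028)) (tt N2791 F12561) (tt N5399 D5468) (tt N3977 F12562) (tt N2950 F12563) (tt N3980 (iv F12568)) (tt N2788 (iv D4042)))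
theorem Q3981 : ∀ i, i < 3981 → P i := stepQ 3980 Q3980 (allL N3980 (tt N5385 (iv F17075)) (tt N2930 F12564) (tt N3977 F12565) (tt N5400 D5469) (tt N2791 F12566) (tt N2948 F12567) (tt N3979 F12568) (tt N2789 (iv D4043)))
theorem Q3982 : ∀ i, i < 3982 → P i := stepQ 3981 Q3981 (allL N3981 (tt N2794 F12569) (tt N5387 (iv F17085)) (tt N2802 F12570) (tt N4115 (iv F12937)) (tt N4111 (iv F12926)) (tt N5401 D5470) (tt N2793 (iv D4044)) (tt N5402 D5471))
theorem Q3983 : ∀ i, i < 3983 → P i := stepQ 3982 Q3982 (allL N3982 (tt N5401 (iv F17122)) (tt N4185 (iv F13141)) (tt N2805 F12571) (tt N4147 (iv F13024)) (tt N4143 (iv F13010)) (tt N2794 (iv D4045)) (tt N4354 (iv F13651)) (tt N2845 (iv F12572)))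
theorem Q3984 : ∀ i, i < 3984 → P i := stepQ 3983 Q3983 (allL N3983 (tt N5402 (iv F17125)) (tt N2797 F12573) (tt N2806 F12574) (tt N2853 F12577) (tt N4144 (iv F13015)) (tt N2845 F12575) (tt N3983 F12576) (tt N2794 (iv D4046)))
theorem Q3985 : ∀ i, i < 3985 → P i := stepQ 3984 Q3984 (allL N3984 (tt N5392 (iv F17093)) (tt N5403 D5472) (tt N2798 F12578) (tt N3976 F12579) (tt N2796 F12580) (tt N2795 (iv D4047)) (tt N3984 F12581) (tt N4594 (iv F14391)))
theorem Q3986 : ∀ i, i < 3986 → P i := stepQ 3985 Q3985 (allL N3985 (tt N5404 D5473) (tt N2796 (iv D4048)) (tt N3987 (iv F12588)) (tt N2954 F12582) (tt N5403 (iv F17131)) (tt N4185 (iv F13142)) (tt N3985 F12583) (tt N5405 D5474))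
theorem Q3987 : ∀ i, i < 3987 → P i := stepQ 3986 Q3986 (allL N3986 (tt N5394 (iv F17099)) (tt N5405 (iv F17136)) (tt N2799 F12584) (tt N5406 D5475) (tt N4594 (iv F14389)) (tt N2797 F12585) (tt N3343 (iv F12586)) (tt N2796 (iv D4049)))
theorem Q3988 : ∀ i, i < 3988 → P i := stepQ 3987 Q3987 (allL N3987 (tt N5395 (iv F17103)) (tt N2853 F12587) (tt N3985 F12588) (tt N2797 (iv D4050)) (tt N5407 D5476) (tt N5406 (iv F17143)) (tt N3987 F12589) (tt N5399 (iv F17115)))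
theorem Q3989 : ∀ i, i < 3989 → P i := stepQ 3988 Q3988 (allL N3988 (tt N2803 F12590) (tt N4885 (iv F15333)) (tt N4111 (iv F12924)) (tt N4309 (iv F13513)) (tt N2802 F12591) (tt N5408 D5477) (tt N2800 (iv D4051)) (tt N4732 (iv F14827)))
theorem Q3990 : ∀ i, i < 3990 → P i := stepQ 3989 Q3989 (allL N3989 (tt N2811 F12592) (tt N2801 (iv D4052)) (tt N5409 D5478) (tt N2943 F12593) (tt N4429 (iv F13895)) (tt N4886 (iv F15339)) (tt N5410 D5479) (tt N3989 F12594))
theorem Q3991 : ∀ i, i < 3991 → P i := stepQ 3990 Q3990 (allL N3990 (tt N2804 F12595) (tt N5410 (iv F17160)) (tt N4431 (iv F13902)) (tt N2944 F12596) (tt N4430 (iv F13900)) (tt N5411 D5480) (tt N2801 (iv D4053)) (tt N4760 (iv F14921)))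
theorem Q3992 : ∀ i, i < 3992 → P i := stepQ 3991 Q3991 (allL N3991 (tt N2805 F12597) (tt N5412 D5481) (tt N5401 (iv F17123)) (tt N2904 F12598) (tt N5408 (iv F17151)) (tt N2802 (iv D4054)) (tt N5411 (iv F17164)) (tt N2829 (iv F12599)))
theorem Q3993 : ∀ i, i < 3993 → P i := stepQ 3992 Q3992 (allL N3992 (tt N2806 F12600) (tt N4889 (iv F15349)) (tt N5402 (iv F17126)) (tt N2830 F12601) (tt N4732 (iv F14824)) (tt N2829 F12602) (tt N3992 F12603) (tt N2802 (iv D4055)))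
theorem Q3994 : ∀ i, i < 3994 → P i := stepQ 3993 Q3993 (allL N3993 (tt N5408 (iv F17150)) (tt N4067 (iv F12806)) (tt N4143 (iv F13008)) (tt N4333 (iv F13578)) (tt N2805 F12604) (tt N2803 (iv D4056)) (tt N4464 (iv F14011)) (tt N2846 F12605))
theorem Q3995 : ∀ i, i < 3995 → P i := stepQ 3994 Q3994 (allL N3994 (tt N5411 (iv F17162)) (tt N4068 (iv F12809)) (tt N4354 (iv F13648)) (tt N2923 F12606) (tt N4464 (iv F14010)) (tt N2804 (iv D4057)) (tt N2805 F12607) (tt N2842 F12608))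
theorem Q3996 : ∀ i, i < 3996 → P i := stepQ 3995 Q3995 (allL N3995 (tt N4429 (iv F13893)) (tt N2810 (iv D4058)) (tt N3968 (iv F12612)) (tt N4548 (iv F14287)) (tt N2811 F12609) (tt N3518 F12610) (tt N5413 D5482) (tt N3995 F12611))
theorem Q3997 : ∀ i, i < 3997 → P i := stepQ 3996 Q3996 (allL N3996 (tt N2813 F12613) (tt N5413 (iv F17168)) (tt N3996 F12614) (tt N4591 (iv F14383)) (tt N2812 F12615) (tt N4073 (iv F12831)) (tt N2810 (iv D4059)) (tt N5414 D5483))
theorem Q3998 : ∀ i, i < 3998 → P i := stepQ 3997 Q3997 (allL N3997 (tt N5409 (iv F17153)) (tt N3997 F12616) (tt N2811 (iv D4060)) (tt N5363 F17006) (tt N3968 F12617) (tt N3967 F12618) (tt N5415 D5484) (tt N3997 F12619))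
theorem Q3999 : ∀ i, i < 3999 → P i := stepQ 3998 Q3998 (allL N3998 (tt N5410 (iv F17159)) (tt N2812 F12620) (tt N5415 (iv F17176)) (tt N2963 F12621) (tt N5413 (iv F17170)) (tt N5416 D5485) (tt N2811 (iv D4061)) (tt N5417 D5486))
theorem Q4000 : ∀ i, i < 4000 → P i := stepQ 3999 Q3999 (allL N3999 (tt N2814 F12622) (tt N5417 (iv F17179)) (tt N3999 F12623) (tt N4784 (iv F14997)) (tt N5414 (iv F17173)) (tt N4076 (iv F12837)) (tt N3999 F12624) (tt N2812 (iv D4062)))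
theorem Q4001 : ∀ i, i < 4001 → P i := stepQ 4000 Q4000 (allL N4000 (tt N5414 (iv F17171)) (tt N4465 (iv F14013)) (tt N4000 F12625) (tt N5418 D5487) (tt N2814 F12626) (tt N4080 (iv F12855)) (tt N4000 F12627) (tt N2813 (iv D4063)))
theorem Q4002 : ∀ i, i < 4002 → P i := stepQ 4001 Q4001 (allL N4001 (tt N4203 (iv F13195)) (tt N2996 F12628) (tt N2817 F12629) (tt N5238 (iv F16528)) (tt N2816 (iv D4064)) (tt N5419 D5488) (tt N2877 F12630) (tt N5420 D5489))
theorem Q4003 : ∀ i, i < 4003 → P i := stepQ 4002 Q4002 (allL N4002 (tt N4204 (iv F13199)) (tt N5421 D5490) (tt N2818 F12631) (tt N4912 (iv F15444)) (tt N5419 (iv F17183)) (tt N2816 (iv D4065)) (tt N5422 D5491) (tt N5423 D5492))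
theorem Q4004 : ∀ i, i < 4004 → P i := stepQ 4003 Q4003 (allL N4003 (tt N4205 (iv F13201)) (tt N2998 F12632) (tt N2819 F12633) (tt N5424 D5493) (tt N5420 (iv F17186)) (tt N5423 (iv F17197)) (tt N5425 D5494) (tt N2816 (iv D4066)))
theorem Q4005 : ∀ i, i < 4005 → P i := stepQ 4004 Q4004 (allL N4004 (tt N4206 (iv F13204)) (tt N4004 F12634) (tt N5419 (iv F17182)) (tt N4004 F12635) (tt N2818 F12636) (tt N2817 (iv D4067)) (tt N5426 D5495) (tt N5427 D5496))
theorem Q4006 : ∀ i, i < 4006 → P i := stepQ 4005 Q4005 (allL N4005 (tt N4207 (iv F13208)) (tt N2824 F12637) (tt N5420 (iv F17185)) (tt N5428 D5497) (tt N2819 F12638) (tt N5427 (iv F17212)) (tt N5429 D5498) (tt N2817 (iv D4068)))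
theorem Q4007 : ∀ i, i < 4007 → P i := stepQ 4006 Q4006 (allL N4006 (tt N4208 (iv F13211)) (tt N4006 F12639) (tt N5422 (iv F17192)) (tt N2820 F12640) (tt N5426 (iv F17208)) (tt N2882 F12641) (tt N2818 (iv D4069)) (tt N5430 D5499))
theorem Q4008 : ∀ i, i < 4008 → P i := stepQ 4007 Q4007 (allL N4007 (tt N4209 (iv F13215)) (tt N4007 F12642) (tt N5423 (iv F17196)) (tt N5431 D5500) (tt N5427 (iv F17211)) (tt N2819 F12643) (tt N5432 D5501) (tt N2818 (iv D4070)))
theorem Q4009 : ∀ i, i < 4009 → P i := stepQ 4008 Q4008 (allL N4008 (tt N4198 (iv F13181)) (tt N2825 F12644) (tt N5433 D5502) (tt N2819 (iv D4071)) (tt N5434 D5503) (tt N5431 (iv F17223)) (tt N5435 D5504) (tt N2822 F12645))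
theorem Q4010 : ∀ i, i < 4010 → P i := stepQ 4009 Q4009 (allL N4009 (tt N4210 (iv F13218)) (tt N2826 F12646) (tt N5425 (iv F17204)) (tt N5435 (iv F17234)) (tt N5429 (iv F17216)) (tt N5436 D5505) (tt N2819 (iv D4072)) (tt N2885 F12647))
theorem Q4011 : ∀ i, i < 4011 → P i := stepQ 4010 Q4010 (allL N4010 (tt N4197 (iv F13178)) (tt N4010 F12648) (tt N4443 (iv F13936)) (tt N2821 (iv D4073)) (tt N4451 (iv F13969)) (tt N2822 F12649) (tt N5128 (iv F16154)) (tt N5431 (iv F17224)))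
theorem Q4012 : ∀ i, i < 4012 → P i := stepQ 4011 Q4011 (allL N4011 (tt N4195 (iv F13174)) (tt N5437 D5506) (tt N2822 (iv D4074)) (tt N4444 (iv F13942)) (tt N4452 (iv F13975)) (tt N4443 F13940) (tt N5438 D5507) (tt N5433 (iv F17229)))
theorem Q4013 : ∀ i, i < 4013 → P i := stepQ 4012 Q4012 (allL N4012 (tt N4196 (iv F13175)) (tt N2828 F12650) (tt N4452 (iv F13973)) (tt N4012 F12651) (tt N2822 (iv D4075)) (tt N4451 F13971) (tt N5439 D5508) (tt N5434 (iv F17232)))
theorem Q4014 : ∀ i, i < 4014 → P i := stepQ 4013 Q4013 (allL N4013 (tt N4170 (iv F13102)) (tt N2829 F12652) (tt N5438 (iv F17240)) (tt N2823 F12653) (tt N5439 (iv F17243)) (tt N5096 (iv F16028)) (tt N2822 (iv D4076)) (tt N5412 (iv F17167)))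
theorem Q4015 : ∀ i, i < 4015 → P i := stepQ 4014 Q4014 (allL N4014 (tt N2838 F12654) (tt N5428 (iv F17213)) (tt N4014 F12655) (tt N2824 (iv D4077)) (tt N5440 D5509) (tt N4014 F12656) (tt N5441 D5510) (tt N4014 F12657))
theorem Q4016 : ∀ i, i < 4016 → P i := stepQ 4015 Q4015 (allL N4015 (tt N2839 F12658) (tt N5429 (iv F17215)) (tt N3005 F12659) (tt N5441 (iv F17251)) (tt N2826 F12660) (tt N4780 (iv F14984)) (tt N2824 (iv D4078)) (tt N2894 F12661))
theorem Q4017 : ∀ i, i < 4017 → P i := stepQ 4016 Q4016 (allL N4016 (tt N2840 F12662) (tt N5442 D5511) (tt N2825 (iv D4079)) (tt N3006 F12663) (tt N5443 D5512) (tt N4016 F12664) (tt N4759 (iv F14916)) (tt N2827 F12665))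
theorem Q4018 : ∀ i, i < 4018 → P i := stepQ 4017 Q4017 (allL N4017 (tt N2841 F12666) (tt N5434 (iv F17231)) (tt N5443 (iv F17258)) (tt N5440 (iv F17246)) (tt N2825 (iv D4080)) (tt N4017 F12667) (tt N5444 D5513) (tt N2828 F12668))
theorem Q4019 : ∀ i, i < 4019 → P i := stepQ 4018 Q4018 (allL N4018 (tt N2842 F12669) (tt N5435 (iv F17233)) (tt N4759 (iv F14914)) (tt N2826 F12670) (tt N5444 (iv F17263)) (tt N4760 (iv F14919)) (tt N2825 (iv D4081)) (tt N5411 (iv F17165)))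
theorem Q4020 : ∀ i, i < 4020 → P i := stepQ 4019 Q4019 (allL N4019 (tt N5445 D5514) (tt N2827 (iv D4082)) (tt N5437 (iv F17237)) (tt N2831 F12671) (tt N5446 D5515) (tt N5447 D5516) (tt N5448 D5517) (tt N5442 (iv F17254)))
theorem Q4021 : ∀ i, i < 4021 → P i := stepQ 4020 Q4020 (allL N4020 (tt N2844 F12672) (tt N5446 (iv F17269)) (tt N2828 F12673) (tt N5449 D5518) (tt N2827 (iv D4083)) (tt N4020 F12674) (tt N5450 D5519) (tt N5443 (iv F17261)))
theorem Q4022 : ∀ i, i < 4022 → P i := stepQ 4021 Q4021 (allL N4021 (tt N2845 F12675) (tt N5448 (iv F17275)) (tt N2829 F12676) (tt N2833 F12677) (tt N5450 (iv F17284)) (tt N5402 (iv F17127)) (tt N2827 (iv D4084)) (tt N5401 F17124))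
theorem Q4023 : ∀ i, i < 4023 → P i := stepQ 4022 Q4022 (allL N4022 (tt N2846 F12678) (tt N5439 (iv F17241)) (tt N5450 (iv F17283)) (tt N4022 F12679) (tt N2829 F12680) (tt N4732 (iv F14825)) (tt N2828 (iv D4085)) (tt N5408 (iv F17152)))
theorem Q4024 : ∀ i, i < 4024 → P i := stepQ 4023 Q4023 (allL N4023 (tt N2831 (iv D4086)) (tt N2847 F12681) (tt N4929 (iv F15499)) (tt N5445 (iv F17266)) (tt N5451 D5520) (tt N5452 D5521) (tt N5453 D5522) (tt N3008 F12682))
theorem Q4025 : ∀ i, i < 4025 → P i := stepQ 4024 Q4024 (allL N4024 (tt N5451 (iv F17285)) (tt N2832 F12683) (tt N4930 (iv F15502)) (tt N5454 D5523) (tt N2831 (iv D4087)) (tt N5455 D5524) (tt N5456 D5525) (tt N3009 F12684))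
theorem Q4026 : ∀ i, i < 4026 → P i := stepQ 4025 Q4025 (allL N4025 (tt N5452 (iv F17288)) (tt N4025 F12685) (tt N4931 (iv F15504)) (tt N5447 (iv F17273)) (tt N5455 (iv F17297)) (tt N2831 (iv D4088)) (tt N5457 D5526) (tt N3010 F12686))
theorem Q4027 : ∀ i, i < 4027 → P i := stepQ 4026 Q4026 (allL N4026 (tt N5453 (iv F17292)) (tt N2833 F12687) (tt N4932 (iv F15507)) (tt N5448 (iv F17276)) (tt N5456 (iv F17300)) (tt N5458 D5527) (tt N2831 (iv D4089)) (tt N5459 D5528))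
theorem Q4028 : ∀ i, i < 4028 → P i := stepQ 4027 Q4027 (allL N4027 (tt N2851 F12688) (tt N5454 (iv F17294)) (tt N4027 F12689) (tt N2832 (iv D4090)) (tt N5449 (iv F17279)) (tt N4027 F12690) (tt N5460 D5529) (tt N4027 F12691))
theorem Q4029 : ∀ i, i < 4029 → P i := stepQ 4028 Q4028 (allL N4028 (tt N2852 F12692) (tt N5456 (iv F17299)) (tt N2834 F12693) (tt N5460 (iv F17308)) (tt N2833 F12694) (tt N5461 D5530) (tt N2832 (iv D4091)) (tt N3266 F12695))
theorem Q4030 : ∀ i, i < 4030 → P i := stepQ 4029 Q4029 (allL N4029 (tt N2853 F12696) (tt N5462 D5531) (tt N2835 F12697) (tt N5402 F17129) (tt N5461 (iv F17311)) (tt N2833 (iv D4092)) (tt N4029 F12698) (tt N5463 D5532))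
theorem Q4031 : ∀ i, i < 4031 → P i := stepQ 4030 Q4030 (allL N4030 (tt N2854 F12699) (tt N5459 (iv F17303)) (tt N2836 F12700) (tt N4160 (iv F13076)) (tt N3266 F12701) (tt N5463 (iv F17318)) (tt N3012 F12702) (tt N2833 (iv D4093)))
theorem Q4032 : ∀ i, i < 4032 → P i := stepQ 4031 Q4031 (allL N4031 (tt N2855 F12703) (tt N5464 D5533) (tt N5461 (iv F17310)) (tt N4031 F12704) (tt N2835 F12705) (tt N2834 (iv D4094)) (tt N4031 F12706) (tt N3267 F12707))
theorem Q4033 : ∀ i, i < 4033 → P i := stepQ 4032 Q4032 (allL N4032 (tt N3974 F12708) (tt N2835 (iv D4095)) (tt N5465 D5534) (tt N2837 F12709) (tt N5464 (iv F17321)) (tt N4938 (iv F15527)) (tt N4032 F12710) (tt N5466 D5535))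
theorem Q4034 : ∀ i, i < 4034 → P i := stepQ 4033 Q4033 (allL N4033 (tt N2856 F12711) (tt N5466 (iv F17327)) (tt N5463 (iv F17316)) (tt N2915 F12712) (tt N3267 F12713) (tt N2836 F12714) (tt N4619 (iv F14476)) (tt N2835 (iv D4096)))
theorem Q4035 : ∀ i, i < 4035 → P i := stepQ 4034 Q4034 (allL N4034 (tt N5440 (iv F17244)) (tt N4201 (iv F13189)) (tt N4034 F12715) (tt N2841 F12716) (tt N2838 (iv D4097)) (tt N4034 F12717) (tt N5467 D5536) (tt N4034 F12718))
theorem Q4036 : ∀ i, i < 4036 → P i := stepQ 4035 Q4035 (allL N4035 (tt N5441 (iv F17249)) (tt N4215 (iv F13236)) (tt N4035 F12719) (tt N2839 F12720) (tt N5467 (iv F17332)) (tt N4786 (iv F15005)) (tt N2838 (iv D4098)) (tt N5468 D5537))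
theorem Q4037 : ∀ i, i < 4037 → P i := stepQ 4036 Q4036 (allL N4036 (tt N5469 D5538) (tt N2840 (iv D4099)) (tt N4190 (iv F13160)) (tt N3015 F12721) (tt N4836 (iv F15169)) (tt N4838 (iv F15177)) (tt N4374 (iv F13710)) (tt N2843 F12722))
theorem Q4038 : ∀ i, i < 4038 → P i := stepQ 4037 Q4037 (allL N4037 (tt N5443 (iv F17257)) (tt N4836 (iv F15167)) (tt N2841 F12723) (tt N4037 F12724) (tt N2840 (iv D4100)) (tt N4037 F12725) (tt N4466 (iv F14022)) (tt N2844 F12726))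
theorem Q4039 : ∀ i, i < 4039 → P i := stepQ 4038 Q4038 (allL N4038 (tt N5444 (iv F17262)) (tt N4202 (iv F13193)) (tt N4466 (iv F14018)) (tt N5467 (iv F17331)) (tt N2842 F12727) (tt N4465 (iv F14016)) (tt N2841 (iv D4101)) (tt N4464 (iv F14012)))
theorem Q4040 : ∀ i, i < 4040 → P i := stepQ 4039 Q4039 (allL N4039 (tt N2843 (iv D4102)) (tt N5445 (iv F17264)) (tt N4189 (iv F13157)) (tt N2847 F12728) (tt N5470 D5539) (tt N5471 D5540) (tt N5472 D5541) (tt N5469 (iv F17341)))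
theorem Q4041 : ∀ i, i < 4041 → P i := stepQ 4040 Q4040 (allL N4040 (tt N5470 (iv F17342)) (tt N2844 F12729) (tt N4064 (iv F12797)) (tt N5473 D5542) (tt N2843 (iv D4103)) (tt N4063 F12795) (tt N5474 D5543) (tt N4836 (iv F15171)))
theorem Q4042 : ∀ i, i < 4042 → P i := stepQ 4041 Q4041 (allL N4041 (tt N5471 (iv F17343)) (tt N4041 F12730) (tt N2972 F12731) (tt N2849 F12732) (tt N4063 (iv F12793)) (tt N2843 (iv D4104)) (tt N5475 D5544) (tt N4838 (iv F15179)))
theorem Q4043 : ∀ i, i < 4043 → P i := stepQ 4042 Q4042 (allL N4042 (tt N5472 (iv F17348)) (tt N2845 F12733) (tt N4166 (iv F13092)) (tt N2850 F12734) (tt N5474 (iv F17354)) (tt N5405 (iv F17139)) (tt N2843 (iv D4105)) (tt N4185 (iv F13144)))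
theorem Q4044 : ∀ i, i < 4044 → P i := stepQ 4043 Q4043 (allL N4043 (tt N5449 (iv F17277)) (tt N5473 (iv F17350)) (tt N4043 F12735) (tt N2844 (iv D4106)) (tt N2851 F12736) (tt N4043 F12737) (tt N5476 D5545) (tt N4043 F12738))
theorem Q4045 : ∀ i, i < 4045 → P i := stepQ 4044 Q4044 (allL N4044 (tt N5450 (iv F17282)) (tt N5474 (iv F17353)) (tt N2846 F12739) (tt N5476 (iv F17361)) (tt N2845 F12740) (tt N4144 (iv F13016)) (tt N2844 (iv D4107)) (tt N4143 (iv F13012)))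
theorem Q4046 : ∀ i, i < 4046 → P i := stepQ 4045 Q4045 (allL N4045 (tt N2848 F12741) (tt N5451 (iv F17286)) (tt N2857 F12742) (tt N5477 D5546) (tt N2847 (iv D4108)) (tt N5478 D5547) (tt N5479 D5548) (tt N3018 F12743))
theorem Q4047 : ∀ i, i < 4047 → P i := stepQ 4046 Q4046 (allL N4046 (tt N2849 F12744) (tt N5480 D5549) (tt N2858 F12745) (tt N5471 (iv F17346)) (tt N5478 (iv F17369)) (tt N2847 (iv D4109)) (tt N5481 D5550) (tt N3019 F12746))
theorem Q4048 : ∀ i, i < 4048 → P i := stepQ 4047 Q4047 (allL N4047 (tt N2850 F12747) (tt N5453 (iv F17293)) (tt N2859 F12748) (tt N5472 (iv F17349)) (tt N5479 (iv F17373)) (tt N5482 D5551) (tt N2847 (iv D4110)) (tt N4173 (iv F13114)))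
theorem Q4049 : ∀ i, i < 4049 → P i := stepQ 4048 Q4048 (allL N4048 (tt N5477 (iv F17365)) (tt N2851 F12749) (tt N5483 D5552) (tt N2848 (iv D4111)) (tt N5473 (iv F17351)) (tt N5484 D5553) (tt N5485 D5554) (tt N4048 F12750))
theorem Q4050 : ∀ i, i < 4050 → P i := stepQ 4049 Q4049 (allL N4049 (tt N5478 (iv F17367)) (tt N4049 F12751) (tt N2861 F12752) (tt N5484 (iv F17391)) (tt N2849 F12753) (tt N2848 (iv D4112)) (tt N5486 D5555) (tt N3021 F12754))
theorem Q4051 : ∀ i, i < 4051 → P i := stepQ 4050 Q4050 (allL N4050 (tt N5479 (iv F17371)) (tt N2852 F12755) (tt N2862 F12756) (tt N5485 (iv F17395)) (tt N2850 F12757) (tt N5487 D5556) (tt N2848 (iv D4113)) (tt N3296 F12758))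
theorem Q4052 : ∀ i, i < 4052 → P i := stepQ 4051 Q4051 (allL N4051 (tt N5481 (iv F17380)) (tt N4051 F12759) (tt N2863 F12760) (tt N5475 (iv F17357)) (tt N5486 (iv F17399)) (tt N5488 D5557) (tt N2849 (iv D4114)) (tt N5489 D5558))
theorem Q4053 : ∀ i, i < 4053 → P i := stepQ 4052 Q4052 (allL N4052 (tt N5482 (iv F17382)) (tt N5406 (iv F17141)) (tt N2864 F12761) (tt N5405 (iv F17138)) (tt N5487 (iv F17401)) (tt N2850 (iv D4115)) (tt N5488 (iv F17405)) (tt N2953 F12762))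
theorem Q4054 : ∀ i, i < 4054 → P i := stepQ 4053 Q4053 (allL N4053 (tt N5460 (iv F17306)) (tt N5485 (iv F17394)) (tt N4053 F12763) (tt N2852 F12764) (tt N5476 (iv F17362)) (tt N5490 D5559) (tt N2851 (iv D4116)) (tt N5491 D5560))
theorem Q4055 : ∀ i, i < 4055 → P i := stepQ 4054 Q4054 (allL N4054 (tt N5461 (iv F17309)) (tt N5407 (iv F17146)) (tt N2855 F12765) (tt N5490 (iv F17414)) (tt N2853 F12766) (tt N2852 (iv D4117)) (tt N4054 F12767) (tt N3297 F12768))
theorem Q4056 : ∀ i, i < 4056 → P i := stepQ 4055 Q4055 (allL N4055 (tt N5463 (iv F17315)) (tt N5399 (iv F17113)) (tt N2856 F12769) (tt N4148 (iv F13029)) (tt N3297 F12770) (tt N2854 F12771) (tt N4154 (iv F13057)) (tt N2853 (iv D4118)))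
theorem Q4057 : ∀ i, i < 4057 → P i := stepQ 4056 Q4056 (allL N4056 (tt N2860 F12772) (tt N3883 F12773) (tt N5492 D5561) (tt N2857 (iv D4119)) (tt N4187 (iv F13151)) (tt N5493 D5562) (tt N5494 D5563) (tt N3491 F12774))
theorem Q4058 : ∀ i, i < 4058 → P i := stepQ 4057 Q4057 (allL N4057 (tt N2861 F12775) (tt N5495 D5564) (tt N5478 (iv F17368)) (tt N5493 (iv F17432)) (tt N2858 F12776) (tt N2857 (iv D4120)) (tt N5496 D5565) (tt N3024 F12777))
theorem Q4059 : ∀ i, i < 4059 → P i := stepQ 4058 Q4058 (allL N4058 (tt N2862 F12778) (tt N4961 (iv F15606)) (tt N5479 (iv F17372)) (tt N5494 (iv F17437)) (tt N2859 F12779) (tt N5497 D5566) (tt N2857 (iv D4121)) (tt N3410 F12780))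
theorem Q4060 : ∀ i, i < 4060 → P i := stepQ 4059 Q4059 (allL N4059 (tt N2870 F12781) (tt N2858 (iv D4122)) (tt N5498 D5567) (tt N4183 (iv F13136)) (tt N5495 (iv F17441)) (tt N4962 (iv F15610)) (tt N5499 D5568) (tt N3025 F12782))
theorem Q4061 : ∀ i, i < 4061 → P i := stepQ 4060 Q4060 (allL N4060 (tt N2863 F12783) (tt N5499 (iv F17454)) (tt N5481 (iv F17381)) (tt N4186 (iv F13146)) (tt N5496 (iv F17445)) (tt N5500 D5569) (tt N2858 (iv D4123)) (tt N5501 D5570))
theorem Q4062 : ∀ i, i < 4062 → P i := stepQ 4061 Q4061 (allL N4061 (tt N2864 F12784) (tt N5502 D5571) (tt N5482 (iv F17383)) (tt N3965 F12785) (tt N5497 (iv F17447)) (tt N2859 (iv D4124)) (tt N5500 (iv F17457)) (tt N2956 (iv F12786)))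
theorem Q4063 : ∀ i, i < 4063 → P i := stepQ 4062 Q4062 (allL N4062 (tt N2865 F12787) (tt N4927 (iv F15490)) (tt N4173 (iv F13111)) (tt N2939 F12788) (tt N3410 F12789) (tt N2956 F12790) (tt N3028 F12791) (tt N2859 (iv D4125)))
theorem Q4064 : ∀ i, i < 4064 → P i := stepQ 4063 Q4063 (allL N4063 (tt N5492 (iv F17424)) (tt N4063 F12792) (tt N2860 (iv D4126)) (tt N5483 (iv F17386)) (tt N4041 F12793) (tt N4040 (iv F12795)) (tt N5503 D5572) (tt N3496 F12794))
theorem Q4065 : ∀ i, i < 4065 → P i := stepQ 4064 Q4064 (allL N4064 (tt N5493 (iv F17429)) (tt N2872 F12796) (tt N4040 F12797) (tt N2861 F12798) (tt N2976 F12799) (tt N2860 (iv D4127)) (tt N5504 D5573) (tt N3494 F12800))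
theorem Q4066 : ∀ i, i < 4066 → P i := stepQ 4065 Q4065 (allL N4065 (tt N5494 (iv F17435)) (tt N2866 F12801) (tt N5503 (iv F17467)) (tt N2862 F12802) (tt N4163 (iv F13083)) (tt N5505 D5574) (tt N2860 (iv D4128)) (tt N4065 F12803))
theorem Q4067 : ∀ i, i < 4067 → P i := stepQ 4066 Q4066 (allL N4066 (tt N5496 (iv F17444)) (tt N2874 F12804) (tt N5486 (iv F17398)) (tt N5504 (iv F17472)) (tt N2863 F12805) (tt N5506 D5575) (tt N2861 (iv D4129)) (tt N5507 D5576))
theorem Q4068 : ∀ i, i < 4068 → P i := stepQ 4067 Q4067 (allL N4067 (tt N5497 (iv F17446)) (tt N3993 F12806) (tt N5487 (iv F17400)) (tt N5505 (iv F17476)) (tt N2864 F12807) (tt N2862 (iv D4130)) (tt N5506 (iv F17483)) (tt N2957 F12808))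
theorem Q4069 : ∀ i, i < 4069 → P i := stepQ 4068 Q4068 (allL N4068 (tt N5500 (iv F17455)) (tt N3994 F12809) (tt N5488 (iv F17403)) (tt N3977 F12810) (tt N5506 (iv F17482)) (tt N2863 (iv D4131)) (tt N2864 F12811) (tt N2985 (iv F12812)))
theorem Q4070 : ∀ i, i < 4070 → P i := stepQ 4069 Q4069 (allL N4069 (tt N5501 (iv F17459)) (tt N2875 F12813) (tt N5489 (iv F17409)) (tt N2995 F12814) (tt N5507 (iv F17486)) (tt N2985 F12815) (tt N3031 F12816) (tt N2863 (iv D4132)))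
theorem Q4071 : ∀ i, i < 4071 → P i := stepQ 4070 Q4070 (allL N4070 (tt N2872 F12817) (tt N5508 D5577) (tt N2982 F12818) (tt N2869 F12819) (tt N2978 F12820) (tt N2868 (iv D4133)) (tt N5509 D5578) (tt N5510 D5579))
theorem Q4072 : ∀ i, i < 4072 → P i := stepQ 4071 Q4071 (allL N4071 (tt N2873 F12821) (tt N3901 F12822) (tt N3223 F12823) (tt N3034 F12824) (tt N3216 F12825) (tt N5510 (iv F17504)) (tt N5511 D5580) (tt N2868 (iv D4134)))
theorem Q4073 : ∀ i, i < 4073 → P i := stepQ 4072 Q4072 (allL N4072 (tt N5495 (iv F17439)) (tt N2869 (iv D4135)) (tt N5512 D5581) (tt N5508 (iv F17490)) (tt N2870 F12826) (tt N4964 (iv F15614)) (tt N5513 D5582) (tt N3035 F12827))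
theorem Q4074 : ∀ i, i < 4074 → P i := stepQ 4073 Q4073 (allL N4073 (tt N2874 F12828) (tt N5513 (iv F17514)) (tt N4073 F12829) (tt N5509 (iv F17496)) (tt N2871 F12830) (tt N3996 F12831) (tt N2869 (iv D4136)) (tt N5514 D5583))
theorem Q4075 : ∀ i, i < 4075 → P i := stepQ 4074 Q4074 (allL N4074 (tt N5498 (iv F17449)) (tt N4074 F12832) (tt N2870 (iv D4137)) (tt N5515 D5584) (tt N5512 (iv F17512)) (tt N4965 (iv F15616)) (tt N5516 D5585) (tt N3037 F12833))
theorem Q4076 : ∀ i, i < 4076 → P i := stepQ 4075 Q4075 (allL N4075 (tt N5499 (iv F17453)) (tt N2871 F12834) (tt N5516 (iv F17527)) (tt N4182 (iv F13132)) (tt N5513 (iv F17515)) (tt N5517 D5586) (tt N2870 (iv D4138)) (tt N5518 D5587))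
theorem Q4077 : ∀ i, i < 4077 → P i := stepQ 4076 Q4076 (allL N4076 (tt N2875 F12835) (tt N5518 (iv F17529)) (tt N4076 F12836) (tt N5519 D5588) (tt N5514 (iv F17518)) (tt N3999 F12837) (tt N3039 F12838) (tt N2871 (iv D4139)))
theorem Q4078 : ∀ i, i < 4078 → P i := stepQ 4077 Q4077 (allL N4077 (tt N5509 (iv F17494)) (tt N5504 (iv F17470)) (tt N2957 F12839) (tt N2874 F12840) (tt N2953 F12841) (tt N3296 F12842) (tt N2872 (iv D4140)) (tt N5487 (iv F17402)))
theorem Q4079 : ∀ i, i < 4079 → P i := stepQ 4078 Q4078 (allL N4078 (tt N5510 (iv F17499)) (tt N3494 F12843) (tt N2984 F12844) (tt N3043 F12845) (tt N2979 F12846) (tt N2873 F12847) (tt N5520 D5589) (tt N2872 (iv D4141)))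
theorem Q4080 : ∀ i, i < 4080 → P i := stepQ 4079 Q4079 (allL N4079 (tt N5511 (iv F17505)) (tt N2876 F12848) (tt N3226 F12849) (tt N3044 F12850) (tt N3217 F12851) (tt N5521 D5590) (tt N2873 (iv D4142)) (tt N3350 F12852))
theorem Q4081 : ∀ i, i < 4081 → P i := stepQ 4080 Q4080 (allL N4080 (tt N5514 (iv F17516)) (tt N5507 (iv F17485)) (tt N4080 F12853) (tt N5522 D5591) (tt N2875 F12854) (tt N4000 F12855) (tt N3045 F12856) (tt N2874 (iv D4143)))
theorem Q4082 : ∀ i, i < 4082 → P i := stepQ 4081 Q4081 (allL N4081 (tt N5519 (iv F17531)) (tt N2995 F12857) (tt N3423 (iv F12861)) (tt N2875 (iv D4144)) (tt N5523 D5592) (tt N3451 F12858) (tt N3046 F12859) (tt N3419 F12860))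
theorem Q4083 : ∀ i, i < 4083 → P i := stepQ 4082 Q4082 (allL N4082 (tt N5333 (iv F16890)) (tt N2997 F12862) (tt N4082 F12863) (tt N2877 (iv D4145)) (tt N4968 (iv F15624)) (tt N5421 (iv F17190)) (tt N5238 (iv F16530)) (tt N5306 (iv F16802)))
theorem Q4084 : ∀ i, i < 4084 → P i := stepQ 4083 Q4083 (allL N4083 (tt N5356 (iv F16975)) (tt N4912 (iv F15442)) (tt N2880 F12864) (tt N5421 (iv F17189)) (tt N2878 F12865) (tt N2877 (iv D4146)) (tt N5524 D5593) (tt N5525 D5594))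
theorem Q4085 : ∀ i, i < 4085 → P i := stepQ 4084 Q4084 (allL N4084 (tt N5106 (iv F16066)) (tt N3047 F12866) (tt N2881 F12867) (tt N5081 (iv F15967)) (tt N2879 F12868) (tt N5525 (iv F17558)) (tt N5526 D5595) (tt N2877 (iv D4147)))
theorem Q4086 : ∀ i, i < 4086 → P i := stepQ 4085 Q4085 (allL N4085 (tt N5527 D5596) (tt N2878 (iv D4148)) (tt N3132 F12869) (tt N4971 (iv F15632)) (tt N4912 (iv F15445)) (tt N3048 F12870) (tt N5528 D5597) (tt N5529 D5598))
theorem Q4087 : ∀ i, i < 4087 → P i := stepQ 4086 Q4086 (allL N4086 (tt N5358 (iv F16985)) (tt N5528 (iv F17565)) (tt N2882 F12871) (tt N4972 (iv F15635)) (tt N5524 (iv F17553)) (tt N5422 (iv F17193)) (tt N2878 (iv D4149)) (tt N5530 D5599))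
theorem Q4088 : ∀ i, i < 4088 → P i := stepQ 4087 Q4087 (allL N4087 (tt N5359 (iv F16987)) (tt N5529 (iv F17567)) (tt N2883 F12872) (tt N5531 D5600) (tt N5525 (iv F17557)) (tt N2879 F12873) (tt N5532 D5601) (tt N2878 (iv D4150)))
theorem Q4089 : ∀ i, i < 4089 → P i := stepQ 4088 Q4088 (allL N4088 (tt N5360 (iv F16992)) (tt N3050 F12874) (tt N5533 D5602) (tt N2879 (iv D4151)) (tt N5534 D5603) (tt N5531 (iv F17571)) (tt N5535 D5604) (tt N4974 (iv F15639)))
theorem Q4090 : ∀ i, i < 4090 → P i := stepQ 4089 Q4089 (allL N4089 (tt N5361 (iv F16994)) (tt N3051 F12875) (tt N2885 F12876) (tt N5535 (iv F17576)) (tt N5526 (iv F17561)) (tt N5536 D5605) (tt N2879 (iv D4152)) (tt N5425 (iv F17205)))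
theorem Q4091 : ∀ i, i < 4091 → P i := stepQ 4090 Q4090 (allL N4090 (tt N5362 (iv F16997)) (tt N3137 F12877) (tt N5524 (iv F17552)) (tt N4090 F12878) (tt N2882 F12879) (tt N5426 (iv F17209)) (tt N2880 (iv D4153)) (tt N5537 D5606))
theorem Q4092 : ∀ i, i < 4092 → P i := stepQ 4091 Q4091 (allL N4091 (tt N5363 (iv F17001)) (tt N3138 F12880) (tt N5525 (iv F17555)) (tt N5409 F17158) (tt N2883 F12881) (tt N2881 F12882) (tt N5538 D5607) (tt N2880 (iv D4154)))
theorem Q4093 : ∀ i, i < 4093 → P i := stepQ 4092 Q4092 (allL N4092 (tt N3967 F12883) (tt N2893 F12884) (tt N4886 (iv F15336)) (tt N2881 (iv D4155)) (tt N3966 (iv F12886)) (tt N5409 (iv F17156)) (tt N5539 D5608) (tt N4092 F12885))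
theorem Q4094 : ∀ i, i < 4094 → P i := stepQ 4093 Q4093 (allL N4093 (tt N5364 (iv F17007)) (tt N2894 F12887) (tt N5526 (iv F17560)) (tt N5539 (iv F17584)) (tt N2885 F12888) (tt N5540 D5609) (tt N2881 (iv D4156)) (tt N5429 (iv F17217)))
theorem Q4095 : ∀ i, i < 4095 → P i := stepQ 4094 Q4094 (allL N4094 (tt N5365 (iv F17010)) (tt N3141 F12889) (tt N5530 (iv F17570)) (tt N5541 D5610) (tt N5537 (iv F17579)) (tt N5430 (iv F17219)) (tt N5542 D5611) (tt N2882 (iv D4157)))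
theorem Q4096 : ∀ i, i < 4096 → P i := stepQ 4095 Q4095 (allL N4095 (tt N5366 (iv F17013)) (tt N3142 F12890) (tt N5543 D5612) (tt N2883 (iv D4158)) (tt N5544 D5613) (tt N2884 F12891) (tt N5545 D5614) (tt N2887 F12892))
theorem Q4097 : ∀ i, i < 4097 → P i := stepQ 4096 Q4096 (allL N4096 (tt N5367 (iv F17017)) (tt N3143 F12893) (tt N5532 (iv F17572)) (tt N5545 (iv F17600)) (tt N5538 (iv F17581)) (tt N5546 D5615) (tt N2883 (iv D4159)) (tt N5542 (iv F17591)))
theorem Q4098 : ∀ i, i < 4098 → P i := stepQ 4097 Q4097 (allL N4097 (tt N5368 (iv F17019)) (tt N5547 D5616) (tt N2884 (iv D4160)) (tt N5533 (iv F17573)) (tt N5548 D5617) (tt N5543 (iv F17592)) (tt N5549 D5618) (tt N2889 F12894))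
theorem Q4099 : ∀ i, i < 4099 → P i := stepQ 4098 Q4098 (allL N4098 (tt N3961 F12895) (tt N2896 F12896) (tt N5548 (iv F17605)) (tt N3966 F12897) (tt N2884 (iv D4161)) (tt N5544 (iv F17597)) (tt N5550 D5619) (tt N2890 F12898))
theorem Q4100 : ∀ i, i < 4100 → P i := stepQ 4099 Q4099 (allL N4099 (tt N5369 (iv F17021)) (tt N2897 F12899) (tt N5549 (iv F17607)) (tt N2885 F12900) (tt N5550 (iv F17611)) (tt N5551 D5620) (tt N2884 (iv D4162)) (tt N5552 D5621))
theorem Q4101 : ∀ i, i < 4101 → P i := stepQ 4100 Q4100 (allL N4100 (tt N5370 (iv F17024)) (tt N5553 D5622) (tt N5536 (iv F17577)) (tt N5551 (iv F17612)) (tt N5540 (iv F17586)) (tt N2885 (iv D4163)) (tt N5546 (iv F17601)) (tt N5436 (iv F17235)))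
theorem Q4102 : ∀ i, i < 4102 → P i := stepQ 4101 Q4101 (allL N4101 (tt N3630 F12901) (tt N3148 F12902) (tt N5554 D5623) (tt N2886 (iv D4164)) (tt N5555 D5624) (tt N5133 (iv F16172)) (tt N3509 F12903) (tt N5541 (iv F17589)))
theorem Q4103 : ∀ i, i < 4103 → P i := stepQ 4102 Q4102 (allL N4102 (tt N5371 (iv F17025)) (tt N5556 D5625) (tt N2887 (iv D4165)) (tt N4987 (iv F15664)) (tt N5557 D5626) (tt N2889 F12904) (tt N5558 D5627) (tt N5543 (iv F17593)))
theorem Q4104 : ∀ i, i < 4104 → P i := stepQ 4103 Q4103 (allL N4103 (tt N5372 (iv F17028)) (tt N3151 F12905) (tt N5557 (iv F17628)) (tt N4103 F12906) (tt N2887 (iv D4166)) (tt N2890 F12907) (tt N5559 D5628) (tt N5544 (iv F17598)))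
theorem Q4105 : ∀ i, i < 4105 → P i := stepQ 4104 Q4104 (allL N4104 (tt N3634 F12908) (tt N3152 F12909) (tt N5558 (iv F17632)) (tt N2888 F12910) (tt N5559 (iv F17638)) (tt N3511 (iv F12911)) (tt N2887 (iv D4167)) (tt N5560 D5629))
theorem Q4106 : ∀ i, i < 4106 → P i := stepQ 4105 Q4105 (allL N4105 (tt N5561 D5630) (tt N2889 (iv D4168)) (tt N2899 F12912) (tt N4989 (iv F15670)) (tt N5562 D5631) (tt N5563 D5632) (tt N5564 D5633) (tt N5547 (iv F17603)))
theorem Q4107 : ∀ i, i < 4107 → P i := stepQ 4106 Q4106 (allL N4106 (tt N5374 (iv F17035)) (tt N5562 (iv F17648)) (tt N2890 F12913) (tt N5565 D5634) (tt N2889 (iv D4169)) (tt N5557 (iv F17629)) (tt N5566 D5635) (tt N5548 (iv F17606)))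
theorem Q4108 : ∀ i, i < 4108 → P i := stepQ 4107 Q4107 (allL N4107 (tt N5375 (iv F17039)) (tt N5564 (iv F17656)) (tt N2891 F12914) (tt N4991 (iv F15673)) (tt N5566 (iv F17663)) (tt N5567 D5636) (tt N2889 (iv D4170)) (tt N5568 D5637))
theorem Q4109 : ∀ i, i < 4109 → P i := stepQ 4108 Q4108 (allL N4108 (tt N5376 (iv F17042)) (tt N2902 F12915) (tt N5566 (iv F17662)) (tt N4108 F12916) (tt N2891 F12917) (tt N5569 D5638) (tt N2890 (iv D4171)) (tt N5570 D5639))
theorem Q4110 : ∀ i, i < 4110 → P i := stepQ 4109 Q4109 (allL N4109 (tt N3637 F12918) (tt N3517 F12919) (tt N5567 (iv F17665)) (tt N2892 F12920) (tt N5569 (iv F17672)) (tt N2891 (iv D4172)) (tt N3511 F12921) (tt N5085 (iv F15981)))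
theorem Q4111 : ∀ i, i < 4111 → P i := stepQ 4110 Q4110 (allL N4110 (tt N5377 (iv F17047)) (tt N2904 F12922) (tt N5568 (iv F17668)) (tt N5412 (iv F17166)) (tt N5570 (iv F17675)) (tt N5085 (iv F15980)) (tt N5552 (iv F17614)) (tt N2891 (iv D4173)))
theorem Q4112 : ∀ i, i < 4112 → P i := stepQ 4111 Q4111 (allL N4111 (tt N2918 F12923) (tt N5539 (iv F17583)) (tt N3988 F12924) (tt N2894 F12925) (tt N3981 F12926) (tt N5571 D5640) (tt N2893 (iv D4174)) (tt N5572 D5641))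
theorem Q4113 : ∀ i, i < 4113 → P i := stepQ 4112 Q4112 (allL N4112 (tt N2919 F12927) (tt N5573 D5642) (tt N3066 F12928) (tt N5571 (iv F17678)) (tt N2898 F12929) (tt N2894 (iv D4175)) (tt N3163 F12930) (tt N4780 (iv F14986)))
theorem Q4114 : ∀ i, i < 4114 → P i := stepQ 4113 Q4113 (allL N4113 (tt N4120 (iv F12950)) (tt N2895 (iv D4176)) (tt N5547 (iv F17602)) (tt N3067 F12931) (tt N4119 F12949) (tt N5574 D5643) (tt N5575 D5644) (tt N2899 F12932))
theorem Q4115 : ∀ i, i < 4115 → P i := stepQ 4114 Q4114 (allL N4114 (tt N2920 F12933) (tt N5575 (iv F17692)) (tt N2897 F12934) (tt N3069 F12935) (tt N4150 (iv F13038)) (tt N4597 (iv F14399)) (tt N2895 (iv D4177)) (tt N5576 D5645))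
theorem Q4116 : ∀ i, i < 4116 → P i := stepQ 4115 Q4115 (allL N4115 (tt N2921 F12936) (tt N5550 (iv F17609)) (tt N4150 (iv F13036)) (tt N3981 F12937) (tt N2897 F12938) (tt N5577 D5646) (tt N2896 (iv D4178)) (tt N5578 D5647))
theorem Q4117 : ∀ i, i < 4117 → P i := stepQ 4116 Q4116 (allL N4116 (tt N2922 F12939) (tt N5579 D5648) (tt N4597 (iv F14397)) (tt N2898 F12940) (tt N5577 (iv F17700)) (tt N2897 (iv D4179)) (tt N3105 F12941) (tt N2944 (iv F12942)))
theorem Q4118 : ∀ i, i < 4118 → P i := stepQ 4117 Q4117 (allL N4117 (tt N2923 F12943) (tt N5552 (iv F17613)) (tt N5576 (iv F17695)) (tt N5411 (iv F17163)) (tt N5578 (iv F17705)) (tt N2944 F12944) (tt N2904 F12945) (tt N2897 (iv D4180)))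
theorem Q4119 : ∀ i, i < 4119 → P i := stepQ 4118 Q4118 (allL N4118 (tt N5580 D5649) (tt N2898 (iv D4181)) (tt N5581 D5650) (tt N5579 (iv F17709)) (tt N5573 (iv F17687)) (tt N5553 (iv F17615)) (tt N3168 F12946) (tt N4779 (iv F14981)))
theorem Q4120 : ∀ i, i < 4120 → P i := stepQ 4119 Q4119 (allL N4119 (tt N2899 (iv D4182)) (tt N2925 F12947) (tt N5561 (iv F17645)) (tt N2906 F12948) (tt N4113 (iv F12949)) (tt N5582 D5651) (tt N5583 D5652) (tt N4120 (iv F12952)))
theorem Q4121 : ∀ i, i < 4121 → P i := stepQ 4120 Q4120 (allL N4120 (tt N4113 F12950) (tt N2900 F12951) (tt N5562 (iv F17649)) (tt N4312 (iv F13523)) (tt N2899 (iv D4183)) (tt N5584 D5653) (tt N5585 D5654) (tt N4119 F12952))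
theorem Q4122 : ∀ i, i < 4122 → P i := stepQ 4121 Q4121 (allL N4121 (tt N5582 (iv F17717)) (tt N3171 F12953) (tt N5563 (iv F17654)) (tt N2908 F12954) (tt N5584 (iv F17728)) (tt N2899 (iv D4184)) (tt N5586 D5655) (tt N5574 (iv F17691)))
theorem Q4123 : ∀ i, i < 4123 → P i := stepQ 4122 Q4122 (allL N4122 (tt N5583 (iv F17720)) (tt N2901 F12955) (tt N5564 (iv F17657)) (tt N2909 F12956) (tt N5585 (iv F17732)) (tt N5587 D5656) (tt N2899 (iv D4185)) (tt N5588 D5657))
theorem Q4124 : ∀ i, i < 4124 → P i := stepQ 4123 Q4123 (allL N4123 (tt N2927 F12957) (tt N5585 (iv F17731)) (tt N2902 F12958) (tt N4334 (iv F13584)) (tt N2901 F12959) (tt N3301 F12960) (tt N2900 (iv D4186)) (tt N5589 D5658))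
theorem Q4125 : ∀ i, i < 4125 → P i := stepQ 4124 Q4124 (allL N4124 (tt N2928 F12961) (tt N5590 D5659) (tt N2903 F12962) (tt N2912 F12963) (tt N3301 F12964) (tt N2901 (iv D4187)) (tt N3096 F12965) (tt N2933 (iv F12966)))
theorem Q4126 : ∀ i, i < 4126 → P i := stepQ 4125 Q4125 (allL N4125 (tt N2929 F12967) (tt N5588 (iv F17736)) (tt N2904 F12968) (tt N5591 D5660) (tt N5589 (iv F17740)) (tt N2933 F12969) (tt N5576 (iv F17697)) (tt N2901 (iv D4188)))
theorem Q4127 : ∀ i, i < 4127 → P i := stepQ 4126 Q4126 (allL N4126 (tt N2930 F12970) (tt N5570 (iv F17674)) (tt N5589 (iv F17738)) (tt N5592 D5661) (tt N2904 F12971) (tt N2942 F12972) (tt N5578 (iv F17707)) (tt N2902 (iv D4189)))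
theorem Q4128 : ∀ i, i < 4128 → P i := stepQ 4127 Q4127 (allL N4127 (tt N2907 F12973) (tt N2931 F12974) (tt N5013 (iv F15734)) (tt N4313 (iv F13528)) (tt N2906 (iv D4190)) (tt N5593 D5662) (tt N5594 D5663) (tt N3076 F12975))
theorem Q4129 : ∀ i, i < 4129 → P i := stepQ 4128 Q4128 (allL N4128 (tt N2908 F12976) (tt N5595 D5664) (tt N5014 (iv F15737)) (tt N5582 (iv F17718)) (tt N5593 (iv F17758)) (tt N2906 (iv D4191)) (tt N5596 D5665) (tt N3077 F12977))
theorem Q4130 : ∀ i, i < 4130 → P i := stepQ 4129 Q4129 (allL N4129 (tt N2909 F12978) (tt N2933 F12979) (tt N5015 (iv F15741)) (tt N5583 (iv F17722)) (tt N5594 (iv F17762)) (tt N5597 D5666) (tt N2906 (iv D4192)) (tt N5590 (iv F17746)))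
theorem Q4131 : ∀ i, i < 4131 → P i := stepQ 4130 Q4130 (allL N4130 (tt N4313 (iv F13526)) (tt N2910 F12980) (tt N5598 D5667) (tt N2907 (iv D4193)) (tt N4312 F13525) (tt N5599 D5668) (tt N5600 D5669) (tt N3291 F12981))
theorem Q4132 : ∀ i, i < 4132 → P i := stepQ 4131 Q4131 (allL N4131 (tt N5593 (iv F17757)) (tt N3178 F12982) (tt N5017 (iv F15745)) (tt N5599 (iv F17775)) (tt N2908 F12983) (tt N2907 (iv D4194)) (tt N5601 D5670) (tt N3079 F12984))
theorem Q4133 : ∀ i, i < 4133 → P i := stepQ 4132 Q4132 (allL N4132 (tt N5594 (iv F17760)) (tt N2911 F12985) (tt N5018 (iv F15749)) (tt N5600 (iv F17779)) (tt N2909 F12986) (tt N5602 D5671) (tt N2907 (iv D4195)) (tt N3271 F12987))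
theorem Q4134 : ∀ i, i < 4134 → P i := stepQ 4133 Q4133 (allL N4133 (tt N5596 (iv F17767)) (tt N3179 F12988) (tt N5019 (iv F15753)) (tt N5586 (iv F17734)) (tt N5601 (iv F17781)) (tt N5603 D5672) (tt N2908 (iv D4196)) (tt N5604 D5673))
theorem Q4135 : ∀ i, i < 4135 → P i := stepQ 4134 Q4134 (allL N4134 (tt N5597 (iv F17768)) (tt N5605 D5674) (tt N5020 (iv F15754)) (tt N5587 (iv F17735)) (tt N5602 (iv F17782)) (tt N2909 (iv D4197)) (tt N5603 (iv F17784)) (tt N5606 D5675))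
theorem Q4136 : ∀ i, i < 4136 → P i := stepQ 4135 Q4135 (allL N4135 (tt N5590 (iv F17742)) (tt N2913 F12989) (tt N5021 (iv F15756)) (tt N5607 D5676) (tt N3271 F12990) (tt N5606 (iv F17789)) (tt N3082 F12991) (tt N2909 (iv D4198)))
theorem Q4137 : ∀ i, i < 4137 → P i := stepQ 4136 Q4136 (allL N4136 (tt N2936 F12992) (tt N5600 (iv F17778)) (tt N4136 F12993) (tt N2911 F12994) (tt N4334 (iv F13585)) (tt N4469 (iv F14036)) (tt N2910 (iv D4199)) (tt N4605 (iv F14433)))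
theorem Q4138 : ∀ i, i < 4138 → P i := stepQ 4137 Q4137 (allL N4137 (tt N5607 (iv F17790)) (tt N2912 (iv D4200)) (tt N5608 D5677) (tt N5590 (iv F17743)) (tt N4471 (iv F14042)) (tt N5605 (iv F17787)) (tt N3182 F12995) (tt N5609 D5678))
theorem Q4139 : ∀ i, i < 4139 → P i := stepQ 4138 Q4138 (allL N4138 (tt N2938 F12996) (tt N5609 (iv F17795)) (tt N2915 F12997) (tt N5610 D5679) (tt N3272 F12998) (tt N2913 F12999) (tt N4608 (iv F14443)) (tt N2912 (iv D4201)))
theorem Q4140 : ∀ i, i < 4140 → P i := stepQ 4139 Q4139 (allL N4139 (tt N2937 F13000) (tt N5607 (iv F17791)) (tt N4160 (iv F13075)) (tt N2913 (iv D4202)) (tt N4157 (iv F13067)) (tt N5610 (iv F17799)) (tt N3083 F13001) (tt N5591 (iv F17751)))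
theorem Q4141 : ∀ i, i < 4141 → P i := stepQ 4140 Q4140 (allL N4140 (tt N4479 (iv F14075)) (tt N5608 (iv F17793)) (tt N2914 (iv D4203)) (tt N5611 D5680) (tt N4473 (iv F14048)) (tt N5027 (iv F15775)) (tt N3183 F13002) (tt N5612 D5681))
theorem Q4142 : ∀ i, i < 4142 → P i := stepQ 4141 Q4141 (allL N4141 (tt N4481 (iv F14083)) (tt N2915 F13003) (tt N5612 (iv F17806)) (tt N5466 (iv F17328)) (tt N3273 F13004) (tt N5028 (iv F15779)) (tt N4618 (iv F14472)) (tt N2914 (iv D4204)))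
theorem Q4143 : ∀ i, i < 4143 → P i := stepQ 4142 Q4142 (allL N4142 (tt N4938 (iv F15525)) (tt N3521 F13005) (tt N5611 (iv F17803)) (tt N2917 (iv D4205)) (tt N5613 D5682) (tt N3974 F13006) (tt N3185 F13007) (tt N5614 D5683))
theorem Q4144 : ∀ i, i < 4144 → P i := stepQ 4143 Q4143 (allL N4143 (tt N5571 (iv F17676)) (tt N5615 D5684) (tt N3993 F13008) (tt N2919 F13009) (tt N3982 F13010) (tt N2918 (iv D4206)) (tt N3188 F13011) (tt N4044 F13012))
theorem Q4145 : ∀ i, i < 4145 → P i := stepQ 4144 Q4144 (allL N4144 (tt N5572 (iv F17682)) (tt N3413 F13013) (tt N3411 F13014) (tt N5468 (iv F17335)) (tt N3983 F13015) (tt N4044 F13016) (tt N4144 F13017) (tt N2918 (iv D4207)))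
theorem Q4146 : ∀ i, i < 4146 → P i := stepQ 4145 Q4145 (allL N4145 (tt N5616 D5685) (tt N2919 (iv D4208)) (tt N4600 (iv F14409)) (tt N5615 (iv F17814)) (tt N2924 F13018) (tt N4742 (iv F14861)) (tt N3124 F13019) (tt N4785 (iv F15003)))
theorem Q4147 : ∀ i, i < 4147 → P i := stepQ 4146 Q4146 (allL N4146 (tt N5576 (iv F17694)) (tt N4153 (iv F13049)) (tt N2923 F13020) (tt N4344 (iv F13617)) (tt N4152 (iv F13047)) (tt N2935 F13021) (tt N2929 F13022) (tt N2920 (iv D4209)))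
theorem Q4148 : ∀ i, i < 4148 → P i := stepQ 4147 Q4147 (allL N4147 (tt N5577 (iv F17698)) (tt N2969 F13023) (tt N4151 (iv F13040)) (tt N3982 F13024) (tt N2922 F13025) (tt N2921 (iv D4210)) (tt N3107 F13026) (tt N2946 F13027))
theorem Q4149 : ∀ i, i < 4149 → P i := stepQ 4148 Q4148 (allL N4148 (tt N5578 (iv F17703)) (tt N3979 F13028) (tt N4152 (iv F13045)) (tt N4055 F13029) (tt N2923 F13030) (tt N2946 F13031) (tt N2930 F13032) (tt N2921 (iv D4211)))
theorem Q4150 : ∀ i, i < 4150 → P i := stepQ 4149 Q4149 (allL N4149 (tt N2924 (iv D4212)) (tt N5580 (iv F17712)) (tt N4599 (iv F14404)) (tt N2965 F13033) (tt N5616 (iv F17819)) (tt N4741 (iv F14857)) (tt N3119 F13034) (tt N4784 (iv F14999)))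
theorem Q4151 : ∀ i, i < 4151 → P i := stepQ 4150 Q4150 (allL N4150 (tt N2926 F13035) (tt N5583 (iv F17721)) (tt N4115 F13036) (tt N2933 F13037) (tt N4114 F13038) (tt N5591 (iv F17750)) (tt N2925 (iv D4213)) (tt N5610 (iv F17801)))
theorem Q4152 : ∀ i, i < 4152 → P i := stepQ 4151 Q4151 (allL N4151 (tt N5591 (iv F17747)) (tt N2938 F13039) (tt N4147 F13040) (tt N2929 F13041) (tt N3302 F13042) (tt N2926 (iv D4214)) (tt N4344 (iv F13620)) (tt N2937 F13043))
theorem Q4153 : ∀ i, i < 4153 → P i := stepQ 4152 Q4152 (allL N4152 (tt N5610 (iv F17797)) (tt N2929 F13044) (tt N4148 F13045) (tt N2938 F13046) (tt N4146 F13047) (tt N2937 F13048) (tt N4153 (iv F13054)) (tt N2926 (iv D4215)))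
theorem Q4154 : ∀ i, i < 4154 → P i := stepQ 4153 Q4153 (allL N4153 (tt N5589 (iv F17737)) (tt N4146 F13049) (tt N2930 F13050) (tt N3318 F13051) (tt N2929 F13052) (tt N2934 F13053) (tt N4152 F13054) (tt N2927 (iv D4216)))
theorem Q4155 : ∀ i, i < 4155 → P i := stepQ 4154 Q4154 (allL N4154 (tt N5592 (iv F17752)) (tt N5400 (iv F17117)) (tt N3328 F13055) (tt N2930 (iv D4217)) (tt N4333 (iv F13579)) (tt N2945 F13056) (tt N4055 F13057) (tt N4154 F13058))
theorem Q4156 : ∀ i, i < 4156 → P i := stepQ 4155 Q4155 (allL N4155 (tt N2934 F13059) (tt N5594 (iv F17761)) (tt N2942 F13060) (tt N4316 (iv F13535)) (tt N2933 F13061) (tt N5589 (iv F17741)) (tt N2931 (iv D4218)) (tt N3301 F13062))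
theorem Q4157 : ∀ i, i < 4157 → P i := stepQ 4156 Q4156 (allL N4156 (tt N3196 F13063) (tt N2932 (iv D4219)) (tt N5617 D5686) (tt N4436 (iv F13918)) (tt N4332 F13576) (tt N5595 (iv F17765)) (tt N5618 D5687) (tt N3093 F13064))
theorem Q4158 : ∀ i, i < 4158 → P i := stepQ 4157 Q4157 (allL N4157 (tt N2935 F13065) (tt N5618 (iv F17825)) (tt N2944 F13066) (tt N4439 (iv F13926)) (tt N4139 F13067) (tt N5576 (iv F17696)) (tt N2932 (iv D4220)) (tt N4597 (iv F14401)))
theorem Q4159 : ∀ i, i < 4159 → P i := stepQ 4158 Q4158 (allL N4158 (tt N2945 F13068) (tt N5077 (iv F15953)) (tt N4240 (iv F13311)) (tt N2942 F13069) (tt N4309 (iv F13514)) (tt N5592 (iv F17754)) (tt N2940 (iv D4221)) (tt N4158 F13070))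
theorem Q4160 : ∀ i, i < 4160 → P i := stepQ 4159 Q4159 (allL N4159 (tt N2960 F13071) (tt N2941 (iv D4222)) (tt N5619 D5688) (tt N4237 (iv F13300)) (tt N2943 F13072) (tt N5078 (iv F15958)) (tt N5620 D5689) (tt N3100 F13073))
theorem Q4161 : ∀ i, i < 4161 → P i := stepQ 4160 Q4160 (allL N4160 (tt N2946 F13074) (tt N5620 (iv F17831)) (tt N4139 F13075) (tt N4030 F13076) (tt N2944 F13077) (tt N5578 (iv F17706)) (tt N2941 (iv D4223)) (tt N5577 (iv F17702)))
theorem Q4162 : ∀ i, i < 4162 → P i := stepQ 4161 Q4161 (allL N4161 (tt N2962 F13078) (tt N5617 (iv F17822)) (tt N2943 (iv D4224)) (tt N5525 (iv F17556)) (tt N5619 (iv F17828)) (tt N5081 (iv F15968)) (tt N5621 D5690) (tt N3102 F13079))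
theorem Q4163 : ∀ i, i < 4163 → P i := stepQ 4162 Q4162 (allL N4162 (tt N2963 F13080) (tt N2944 F13081) (tt N5621 (iv F17835)) (tt N5410 (iv F17161)) (tt N5620 (iv F17833)) (tt N5622 D5691) (tt N2943 (iv D4225)) (tt N5579 (iv F17711)))
theorem Q4164 : ∀ i, i < 4164 → P i := stepQ 4163 Q4163 (allL N4163 (tt N5623 D5692) (tt N2947 (iv D4226)) (tt N5475 (iv F17356)) (tt N2948 F13082) (tt N4065 F13083) (tt N5400 (iv F17118)) (tt N2972 F13084) (tt N4163 F13085))
theorem Q4165 : ∀ i, i < 4165 → P i := stepQ 4164 Q4164 (allL N4164 (tt N2948 (iv D4227)) (tt N5091 (iv F16004)) (tt N4186 (iv F13145)) (tt N5623 (iv F17838)) (tt N2949 F13086) (tt N5385 (iv F17078)) (tt N2974 F13087) (tt N3416 F13088))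
theorem Q4166 : ∀ i, i < 4166 → P i := stepQ 4165 Q4165 (allL N4165 (tt N2950 F13089) (tt N5624 D5693) (tt N2949 (iv D4228)) (tt N5625 D5694) (tt N4186 (iv F13147)) (tt N5384 (iv F17074)) (tt N2975 F13090) (tt N5383 F17070))
theorem Q4167 : ∀ i, i < 4167 → P i := stepQ 4166 Q4166 (allL N4166 (tt N5625 (iv F17844)) (tt N2953 F13091) (tt N4042 F13092) (tt N2950 (iv D4229)) (tt N5504 (iv F17473)) (tt N5399 (iv F17114)) (tt N2976 F13093) (tt N5406 (iv F17145)))
theorem Q4168 : ∀ i, i < 4168 → P i := stepQ 4167 Q4167 (allL N4167 (tt N5624 (iv F17842)) (tt N2951 (iv D4230)) (tt N5093 (iv F16016)) (tt N5626 D5695) (tt N4182 (iv F13133)) (tt N5627 D5696) (tt N2977 F13094) (tt N5628 D5697))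
theorem Q4169 : ∀ i, i < 4169 → P i := stepQ 4168 Q4168 (allL N4168 (tt N2953 F13095) (tt N5626 (iv F17847)) (tt N2956 F13096) (tt N2951 (iv D4231)) (tt N5509 (iv F17497)) (tt N4173 (iv F13113)) (tt N2978 F13097) (tt N5482 (iv F17384)))
theorem Q4170 : ∀ i, i < 4170 → P i := stepQ 4169 Q4169 (allL N4169 (tt N2954 F13098) (tt N5628 (iv F17849)) (tt N2952 F13099) (tt N5404 (iv F17134)) (tt N3418 F13100) (tt N4177 (iv F13125)) (tt N4169 F13101) (tt N2951 (iv D4232)))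
theorem Q4171 : ∀ i, i < 4171 → P i := stepQ 4170 Q4170 (allL N4170 (tt N4013 F13102) (tt N2956 F13103) (tt N5629 D5698) (tt N2955 (iv D4233)) (tt N5630 D5699) (tt N4918 (iv F15463)) (tt N2980 F13104) (tt N5502 (iv F17465)))
theorem Q4172 : ∀ i, i < 4172 → P i := stepQ 4171 Q4171 (allL N4171 (tt N2957 F13105) (tt N5630 (iv F17855)) (tt N5509 (iv F17495)) (tt N4171 F13106) (tt N2956 (iv D4234)) (tt N3410 F13107) (tt N2982 F13108) (tt N5497 (iv F17448)))
theorem Q4173 : ∀ i, i < 4173 → P i := stepQ 4172 Q4172 (allL N4172 (tt N4237 (iv F13298)) (tt N2958 (iv D4235)) (tt N5631 D5700) (tt N2960 F13109) (tt N4548 (iv F14288)) (tt N5099 (iv F16040)) (tt N5632 D5701) (tt N4233 F13292))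
theorem Q4174 : ∀ i, i < 4174 → P i := stepQ 4173 Q4173 (allL N4173 (tt N2967 F13110) (tt N5632 (iv F17862)) (tt N4062 F13111) (tt N2961 F13112) (tt N4591 (iv F14384)) (tt N4168 F13113) (tt N2958 (iv D4236)) (tt N4047 F13114))
theorem Q4175 : ∀ i, i < 4175 → P i := stepQ 4174 Q4174 (allL N4174 (tt N2968 F13115) (tt N5102 (iv F16052)) (tt N4253 (iv F13356)) (tt N3111 F13116) (tt N4660 (iv F14590)) (tt N4246 (iv F13334)) (tt N2959 (iv D4237)) (tt N4491 (iv F14114)))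
theorem Q4176 : ∀ i, i < 4176 → P i := stepQ 4175 Q4175 (allL N4175 (tt N5619 (iv F17827)) (tt N3205 F13117) (tt N2960 (iv D4238)) (tt N5633 D5702) (tt N2962 F13118) (tt N5103 (iv F16058)) (tt N5634 D5703) (tt N3112 F13119))
theorem Q4177 : ∀ i, i < 4177 → P i := stepQ 4176 Q4176 (allL N4176 (tt N5620 (iv F17830)) (tt N2961 F13120) (tt N5634 (iv F17867)) (tt N5632 (iv F17863)) (tt N2963 F13121) (tt N5635 D5704) (tt N2960 (iv D4239)) (tt N5636 D5705))
theorem Q4178 : ∀ i, i < 4178 → P i := stepQ 4177 Q4177 (allL N4177 (tt N2969 F13122) (tt N5636 (iv F17871)) (tt N3207 F13123) (tt N5637 D5706) (tt N2965 F13124) (tt N4169 F13125) (tt N3114 F13126) (tt N2961 (iv D4240)))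
theorem Q4179 : ∀ i, i < 4179 → P i := stepQ 4178 Q4178 (allL N4178 (tt N5525 (iv F17554)) (tt N3208 F13127) (tt N5363 (iv F17003)) (tt N2962 (iv D4241)) (tt N5359 (iv F16990)) (tt N5106 (iv F16069)) (tt N5638 D5707) (tt N5356 (iv F16979)))
theorem Q4180 : ∀ i, i < 4180 → P i := stepQ 4179 Q4179 (allL N4179 (tt N5621 (iv F17834)) (tt N3209 F13128) (tt N2963 F13129) (tt N5638 (iv F17879)) (tt N5634 (iv F17868)) (tt N5639 D5708) (tt N2962 (iv D4242)) (tt N5640 D5709))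
theorem Q4181 : ∀ i, i < 4181 → P i := stepQ 4180 Q4180 (allL N4180 (tt N5622 (iv F17836)) (tt N5641 D5710) (tt N5639 (iv F17880)) (tt N5416 (iv F17178)) (tt N5635 (iv F17870)) (tt N2963 (iv D4243)) (tt N5108 (iv F16074)) (tt N5642 D5711))
theorem Q4182 : ∀ i, i < 4182 → P i := stepQ 4181 Q4181 (allL N4181 (tt N5579 (iv F17708)) (tt N2965 F13130) (tt N5640 (iv F17882)) (tt N5580 (iv F17713)) (tt N5636 (iv F17872)) (tt N5642 (iv F17887)) (tt N3118 F13131) (tt N2963 (iv D4244)))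
theorem Q4183 : ∀ i, i < 4183 → P i := stepQ 4182 Q4182 (allL N4182 (tt N5643 D5712) (tt N2964 (iv D4245)) (tt N5644 D5713) (tt N4075 F13132) (tt N4167 F13133) (tt N5641 (iv F17886)) (tt N2966 F13134) (tt N4740 (iv F14854)))
theorem Q4184 : ∀ i, i < 4184 → P i := stepQ 4183 Q4183 (allL N4183 (tt N2966 (iv D4246)) (tt N2971 F13135) (tt N4521 F14212) (tt N4059 F13136) (tt N4188 (iv F13154)) (tt N5113 (iv F16090)) (tt N5643 (iv F17891)) (tt N4183 F13137))
theorem Q4185 : ∀ i, i < 4185 → P i := stepQ 4184 Q4184 (allL N4184 (tt N4521 (iv F14209)) (tt N3213 F13138) (tt N2966 (iv D4247)) (tt N4520 F14208) (tt N3750 F13139) (tt N5114 (iv F16093)) (tt N5644 (iv F17894)) (tt N4184 F13140))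
theorem Q4186 : ∀ i, i < 4186 → P i := stepQ 4185 Q4185 (allL N4185 (tt N5637 (iv F17874)) (tt N3982 F13141) (tt N5406 (iv F17142)) (tt N2969 (iv D4248)) (tt N5615 (iv F17815)) (tt N3985 F13142) (tt N3122 F13143) (tt N4042 F13144))
theorem Q4187 : ∀ i, i < 4187 → P i := stepQ 4186 Q4186 (allL N4186 (tt N2970 (iv D4249)) (tt N5643 (iv F17888)) (tt N4164 F13145) (tt N4060 F13146) (tt N4165 F13147) (tt N5379 (iv F17055)) (tt N2971 F13148) (tt N4739 (iv F14851)))
theorem Q4188 : ∀ i, i < 4188 → P i := stepQ 4187 Q4187 (allL N4187 (tt N2972 (iv D4250)) (tt N3255 F13149) (tt N5471 (iv F17345)) (tt N2974 F13150) (tt N4056 F13151) (tt N4189 (iv F13158)) (tt N5623 (iv F17840)) (tt N3262 F13152))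
theorem Q4189 : ∀ i, i < 4189 → P i := stepQ 4188 Q4188 (allL N4188 (tt N2977 F13153) (tt N2975 (iv D4251)) (tt N5123 (iv F16131)) (tt N4539 (iv F14259)) (tt N4183 F13154) (tt N4525 (iv F14221)) (tt N5624 (iv F17843)) (tt N4188 F13155))
theorem Q4190 : ∀ i, i < 4190 → P i := stepQ 4189 Q4189 (allL N4189 (tt N2976 F13156) (tt N4539 (iv F14257)) (tt N4039 F13157) (tt N2975 (iv D4252)) (tt N5493 (iv F17433)) (tt N4187 F13158) (tt N5625 (iv F17846)) (tt N4545 (iv F14278)))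
theorem Q4191 : ∀ i, i < 4191 → P i := stepQ 4190 Q4190 (allL N4190 (tt N4545 (iv F14275)) (tt N2979 F13159) (tt N4036 F13160) (tt N4190 F13161) (tt N3494 F13162) (tt N3497 F13163) (tt N5645 D5714) (tt N2976 (iv D4253)))
theorem Q4192 : ∀ i, i < 4192 → P i := stepQ 4191 Q4191 (allL N4191 (tt N4539 (iv F14256)) (tt N2978 F13164) (tt N4555 (iv F14302)) (tt N2977 (iv D4254)) (tt N5508 (iv F17491)) (tt N4538 F14255) (tt N5626 (iv F17848)) (tt N4546 (iv F14283)))
theorem Q4193 : ∀ i, i < 4193 → P i := stepQ 4192 Q4192 (allL N4192 (tt N4525 (iv F14219)) (tt N3215 F13165) (tt N5125 (iv F16136)) (tt N4538 (iv F14253)) (tt N3736 F13166) (tt N2977 (iv D4255)) (tt N5646 D5715) (tt N4192 F13167))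
theorem Q4194 : ∀ i, i < 4194 → P i := stepQ 4193 Q4193 (allL N4193 (tt N2979 F13168) (tt N4546 (iv F14280)) (tt N2983 F13169) (tt N4193 F13170) (tt N5510 (iv F17503)) (tt N3216 F13171) (tt N5647 D5716) (tt N2978 (iv D4256)))
theorem Q4195 : ∀ i, i < 4195 → P i := stepQ 4194 Q4194 (allL N4194 (tt N5647 (iv F17903)) (tt N5645 (iv F17895)) (tt N2985 F13172) (tt N4194 F13173) (tt N5520 (iv F17539)) (tt N5489 (iv F17411)) (tt N2979 (iv D4257)) (tt N5488 F17407))
theorem Q4196 : ∀ i, i < 4196 → P i := stepQ 4195 Q4195 (allL N4195 (tt N4011 F13174) (tt N4555 (iv F14301)) (tt N2980 (iv D4258)) (tt N5126 (iv F16140)) (tt N4447 (iv F13954)) (tt N4445 F13950) (tt N5629 (iv F17853)) (tt N4563 (iv F14314)))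
theorem Q4197 : ∀ i, i < 4197 → P i := stepQ 4196 Q4196 (allL N4196 (tt N4012 F13175) (tt N2982 F13176) (tt N4447 (iv F13952)) (tt N4196 F13177) (tt N2980 (iv D4259)) (tt N4428 F13892) (tt N5630 (iv F17857)) (tt N5648 D5717))
theorem Q4198 : ∀ i, i < 4198 → P i := stepQ 4197 Q4197 (allL N4197 (tt N4010 F13178) (tt N3220 F13179) (tt N4445 (iv F13946)) (tt N2981 F13180) (tt N4428 (iv F13891)) (tt N2980 (iv D4260)) (tt N4426 F13883) (tt N4601 (iv F14415)))
theorem Q4199 : ∀ i, i < 4199 → P i := stepQ 4198 Q4198 (allL N4198 (tt N4008 F13181) (tt N2983 F13182) (tt N4563 (iv F14311)) (tt N2989 F13183) (tt N5648 (iv F17908)) (tt N4601 (iv F14414)) (tt N5649 D5718) (tt N2980 (iv D4261)))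
theorem Q4200 : ∀ i, i < 4200 → P i := stepQ 4199 Q4199 (allL N4199 (tt N2984 F13184) (tt N5648 (iv F17907)) (tt N5510 (iv F17501)) (tt N5650 D5719) (tt N2983 F13185) (tt N3223 F13186) (tt N5651 D5720) (tt N2982 (iv D4262)))
theorem Q4201 : ∀ i, i < 4201 → P i := stepQ 4200 Q4200 (allL N4200 (tt N2985 F13187) (tt N5649 (iv F17910)) (tt N5647 (iv F17904)) (tt N2992 F13188) (tt N5651 (iv F17917)) (tt N5501 (iv F17461)) (tt N2983 (iv D4263)) (tt N5500 F17458))
theorem Q4202 : ∀ i, i < 4202 → P i := stepQ 4201 Q4201 (allL N4201 (tt N5650 (iv F17912)) (tt N4034 F13189) (tt N5652 D5721) (tt N2984 (iv D4264)) (tt N2993 F13190) (tt N3225 F13191) (tt N5653 D5722) (tt N4201 F13192))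
theorem Q4203 : ∀ i, i < 4203 → P i := stepQ 4202 Q4202 (allL N4202 (tt N5651 (iv F17916)) (tt N4038 F13193) (tt N5520 (iv F17537)) (tt N5653 (iv F17924)) (tt N2985 F13194) (tt N5507 (iv F17487)) (tt N2984 (iv D4265)) (tt N5506 (iv F17484)))
theorem Q4204 : ∀ i, i < 4204 → P i := stepQ 4203 Q4203 (allL N4203 (tt N4001 F13195) (tt N4203 F13196) (tt N2987 F13197) (tt N5654 D5723) (tt N2986 (iv D4266)) (tt N5655 D5724) (tt N3945 F13198) (tt N5656 D5725))
theorem Q4205 : ∀ i, i < 4205 → P i := stepQ 4204 Q4204 (allL N4204 (tt N4002 F13199) (tt N4622 (iv F14485)) (tt N2988 F13200) (tt N5131 (iv F16165)) (tt N5655 (iv F17933)) (tt N2986 (iv D4267)) (tt N5657 D5726) (tt N4609 F14447))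
theorem Q4206 : ∀ i, i < 4206 → P i := stepQ 4205 Q4205 (allL N4205 (tt N4003 F13201) (tt N4205 F13202) (tt N2989 F13203) (tt N4571 (iv F14332)) (tt N5656 (iv F17937)) (tt N4609 (iv F14446)) (tt N5658 D5727) (tt N2986 (iv D4268)))
theorem Q4207 : ∀ i, i < 4207 → P i := stepQ 4206 Q4206 (allL N4206 (tt N4004 F13204) (tt N3230 F13205) (tt N5655 (iv F17932)) (tt N4206 F13206) (tt N2988 F13207) (tt N2987 (iv D4269)) (tt N5659 D5728) (tt N5660 D5729))
theorem Q4208 : ∀ i, i < 4208 → P i := stepQ 4207 Q4207 (allL N4207 (tt N4005 F13208) (tt N2991 F13209) (tt N5656 (iv F17936)) (tt N5661 D5730) (tt N2989 F13210) (tt N5660 (iv F17953)) (tt N5662 D5731) (tt N2987 (iv D4270)))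
theorem Q4209 : ∀ i, i < 4209 → P i := stepQ 4208 Q4208 (allL N4208 (tt N4006 F13211) (tt N3232 F13212) (tt N5657 (iv F17939)) (tt N2990 F13213) (tt N5659 (iv F17948)) (tt N3950 F13214) (tt N2988 (iv D4271)) (tt N5663 D5732))
theorem Q4210 : ∀ i, i < 4210 → P i := stepQ 4209 Q4209 (allL N4209 (tt N4007 F13215) (tt N3233 F13216) (tt N4609 (iv F14445)) (tt N4601 F14416) (tt N5660 (iv F17952)) (tt N2989 F13217) (tt N5664 D5733) (tt N2988 (iv D4272)))
theorem Q4211 : ∀ i, i < 4211 → P i := stepQ 4210 Q4210 (allL N4210 (tt N4009 F13218) (tt N2992 F13219) (tt N5658 (iv F17943)) (tt N5649 (iv F17911)) (tt N5662 (iv F17959)) (tt N5665 D5734) (tt N2989 (iv D4273)) (tt N3953 F13220))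
theorem Q4212 : ∀ i, i < 4212 → P i := stepQ 4211 Q4211 (allL N4211 (tt N2993 F13221) (tt N5661 (iv F17955)) (tt N5666 D5735) (tt N2991 (iv D4274)) (tt N5650 (iv F17913)) (tt N3236 F13222) (tt N5667 D5736) (tt N4211 F13223))
theorem Q4213 : ∀ i, i < 4213 → P i := stepQ 4212 Q4212 (allL N4212 (tt N2994 F13224) (tt N5662 (iv F17958)) (tt N4212 F13225) (tt N5667 (iv F17973)) (tt N2992 F13226) (tt N5668 D5737) (tt N2991 (iv D4275)) (tt N3958 F13227))
theorem Q4214 : ∀ i, i < 4214 → P i := stepQ 4213 Q4213 (allL N4213 (tt N2995 F13228) (tt N5669 D5738) (tt N4213 F13229) (tt N5501 (iv F17460)) (tt N5668 (iv F17976)) (tt N2992 (iv D4276)) (tt N3238 F13230) (tt N3960 F13231))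
theorem Q4215 : ∀ i, i < 4215 → P i := stepQ 4214 Q4214 (allL N4214 (tt N5666 (iv F17968)) (tt N4214 F13232) (tt N2993 (iv D4277)) (tt N4214 F13233) (tt N5652 (iv F17920)) (tt N3239 F13234) (tt N4738 F14847) (tt N4214 F13235))
theorem Q4216 : ∀ i, i < 4216 → P i := stepQ 4215 Q4215 (allL N4215 (tt N5667 (iv F17972)) (tt N4035 F13236) (tt N4738 (iv F14845)) (tt N2994 F13237) (tt N5653 (iv F17925)) (tt N5670 D5739) (tt N2993 (iv D4278)) (tt N4734 (iv F14834)))
theorem Q4217 : ∀ i, i < 4217 → P i := stepQ 4216 Q4216 (allL N4216 (tt N5668 (iv F17974)) (tt N5523 (iv F17547)) (tt N4216 F13238) (tt N5670 (iv F17981)) (tt N2995 F13239) (tt N2994 (iv D4279)) (tt N3241 F13240) (tt N3976 F13241))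
theorem Q4218 : ∀ i, i < 4218 → P i := stepQ 4217 Q4217 (allL N4217 (tt N4217 F13242) (tt N5420 (iv F17184)) (tt N2999 F13243) (tt N5671 D5740) (tt N2998 F13244) (tt N5237 (iv F16526)) (tt N5672 D5741) (tt N2996 (iv D4280)))
theorem Q4219 : ∀ i, i < 4219 → P i := stepQ 4218 Q4218 (allL N4218 (tt N4218 F13245) (tt N5306 (iv F16799)) (tt N3000 F13246) (tt N5299 (iv F16775)) (tt N5237 (iv F16525)) (tt N2998 F13247) (tt N5673 D5742) (tt N2997 (iv D4281)))
theorem Q4220 : ∀ i, i < 4220 → P i := stepQ 4219 Q4219 (allL N4219 (tt N4219 F13248) (tt N5424 (iv F17200)) (tt N5277 F16681) (tt N2998 (iv D4282)) (tt N5674 D5743) (tt N5299 (iv F16776)) (tt N5675 D5744) (tt N5164 (iv F16282)))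
theorem Q4221 : ∀ i, i < 4221 → P i := stepQ 4220 Q4220 (allL N4220 (tt N4220 F13249) (tt N5425 (iv F17203)) (tt N3002 F13250) (tt N5675 (iv F17993)) (tt N5672 (iv F17987)) (tt N5676 D5745) (tt N2998 (iv D4283)) (tt N3051 F13251))
theorem Q4222 : ∀ i, i < 4222 → P i := stepQ 4221 Q4221 (allL N4221 (tt N4221 F13252) (tt N3005 F13253) (tt N5672 (iv F17986)) (tt N4221 F13254) (tt N3002 F13255) (tt N5677 D5746) (tt N2999 (iv D4284)) (tt N3053 F13256))
theorem Q4223 : ∀ i, i < 4223 → P i := stepQ 4222 Q4222 (allL N4222 (tt N4222 F13257) (tt N4222 F13258) (tt N5295 F16758) (tt N3000 (iv D4285)) (tt N4222 F13259) (tt N3001 F13260) (tt N5678 D5747) (tt N3003 F13261))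
theorem Q4224 : ∀ i, i < 4224 → P i := stepQ 4223 Q4223 (allL N4223 (tt N4223 F13262) (tt N4223 F13263) (tt N5673 (iv F17990)) (tt N5678 (iv F18003)) (tt N5252 (iv F16572)) (tt N5679 D5748) (tt N3000 (iv D4286)) (tt N5250 (iv F16564)))
theorem Q4225 : ∀ i, i < 4225 → P i := stepQ 4224 Q4224 (allL N4224 (tt N4224 F13264) (tt N5273 F16665) (tt N3001 (iv D4287)) (tt N5277 (iv F16679)) (tt N4224 F13265) (tt N5295 (iv F16756)) (tt N4778 (iv F14979)) (tt N3004 F13266))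
theorem Q4226 : ∀ i, i < 4226 → P i := stepQ 4225 Q4225 (allL N4225 (tt N4225 F13267) (tt N4773 (iv F14959)) (tt N5676 (iv F17995)) (tt N4772 (iv F14955)) (tt N5677 (iv F17999)) (tt N3002 (iv D4288)) (tt N5679 (iv F18007)) (tt N3059 F13268))
theorem Q4227 : ∀ i, i < 4227 → P i := stepQ 4226 Q4226 (allL N4226 (tt N4226 F13269) (tt N5291 (iv F16732)) (tt N3003 (iv D4289)) (tt N3128 F13270) (tt N4226 F13271) (tt N3004 F13272) (tt N4226 F13273) (tt N5295 (iv F16757)))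
theorem Q4228 : ∀ i, i < 4228 → P i := stepQ 4227 Q4227 (allL N4227 (tt N5268 (iv F16647)) (tt N3004 (iv D4290)) (tt N3007 F13274) (tt N5170 (iv F16303)) (tt N4227 F13275) (tt N5267 F16646) (tt N4762 F14926) (tt N5273 (iv F16664)))
theorem Q4229 : ∀ i, i < 4229 → P i := stepQ 4228 Q4228 (allL N4228 (tt N5263 (iv F16624)) (tt N3006 (iv D4291)) (tt N5273 (iv F16661)) (tt N5442 (iv F17253)) (tt N4228 F13276) (tt N5262 F16623) (tt N4758 (iv F14912)) (tt N3007 F13277))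
theorem Q4230 : ∀ i, i < 4230 → P i := stepQ 4229 Q4229 (allL N4229 (tt N3007 (iv D4292)) (tt N3016 F13278) (tt N5268 (iv F16649)) (tt N3008 F13279) (tt N4229 F13280) (tt N5256 (iv F16608)) (tt N4357 F13664) (tt N5263 (iv F16629)))
theorem Q4231 : ∀ i, i < 4231 → P i := stepQ 4230 Q4230 (allL N4230 (tt N5256 F16609) (tt N4230 F13281) (tt N5267 (iv F16643)) (tt N3010 F13282) (tt N4230 F13283) (tt N3007 (iv D4293)) (tt N5680 D5749) (tt N5262 (iv F16622)))
theorem Q4232 : ∀ i, i < 4232 → P i := stepQ 4231 Q4231 (allL N4231 (tt N3009 F13284) (tt N3018 F13285) (tt N5185 (iv F16346)) (tt N4231 F13286) (tt N3008 (iv D4294)) (tt N5681 D5750) (tt N3347 (iv F13287)) (tt N5451 (iv F17287)))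
theorem Q4233 : ∀ i, i < 4233 → P i := stepQ 4232 Q4232 (allL N4232 (tt N3010 F13288) (tt N5246 (iv F16611)) (tt N5186 (iv F16349)) (tt N5256 F16610) (tt N5681 (iv F18013)) (tt N3008 (iv D4295)) (tt N5682 D5751) (tt N5452 (iv F17290)))
theorem Q4234 : ∀ i, i < 4234 → P i := stepQ 4233 Q4233 (allL N4233 (tt N3011 F13289) (tt N3020 F13290) (tt N5187 (iv F16352)) (tt N4357 (iv F13662)) (tt N3347 F13291) (tt N5683 D5752) (tt N3008 (iv D4296)) (tt N4172 (iv F13292)))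
theorem Q4235 : ∀ i, i < 4235 → P i := stepQ 4234 Q4234 (allL N4234 (tt N5681 (iv F18011)) (tt N4234 F13293) (tt N5188 (iv F16354)) (tt N4234 F13294) (tt N3010 F13295) (tt N3009 (iv D4297)) (tt N5684 D5753) (tt N5455 (iv F17298)))
theorem Q4236 : ∀ i, i < 4236 → P i := stepQ 4235 Q4235 (allL N4235 (tt N5682 (iv F18014)) (tt N4235 F13296) (tt N5189 (iv F16356)) (tt N5680 (iv F18009)) (tt N5684 (iv F18022)) (tt N5685 D5754) (tt N3010 (iv D4298)) (tt N5686 D5755))
theorem Q4237 : ∀ i, i < 4237 → P i := stepQ 4236 Q4236 (allL N4236 (tt N5683 (iv F18015)) (tt N4721 (iv F14781)) (tt N5190 (iv F16357)) (tt N4720 F14779) (tt N3348 F13297) (tt N3011 (iv D4299)) (tt N5685 (iv F18025)) (tt N5687 D5756))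
theorem Q4238 : ∀ i, i < 4238 → P i := stepQ 4237 Q4237 (allL N4237 (tt N4172 F13298) (tt N3012 F13299) (tt N5191 (iv F16360)) (tt N4159 F13300) (tt N3265 F13301) (tt N5687 (iv F18031)) (tt N5459 (iv F17305)) (tt N3011 (iv D4300)))
theorem Q4239 : ∀ i, i < 4239 → P i := stepQ 4238 Q4238 (allL N4238 (tt N4238 F13302) (tt N4723 (iv F14789)) (tt N3013 (iv D4301)) (tt N4238 F13303) (tt N3128 F13304) (tt N5171 (iv F16307)) (tt N4238 F13305) (tt N5688 D5757))
theorem Q4240 : ∀ i, i < 4240 → P i := stepQ 4239 Q4239 (allL N4239 (tt N4239 F13306) (tt N3014 F13307) (tt N5688 (iv F18034)) (tt N3057 F13308) (tt N3052 F13309) (tt N5167 (iv F16293)) (tt N5689 D5758) (tt N3013 (iv D4302)))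
theorem Q4241 : ∀ i, i < 4241 → P i := stepQ 4240 Q4240 (allL N4240 (tt N3023 F13310) (tt N5689 (iv F18037)) (tt N4158 F13311) (tt N3070 F13312) (tt N3065 F13313) (tt N4619 (iv F14475)) (tt N3014 (iv D4303)) (tt N4240 F13314))
theorem Q4242 : ∀ i, i < 4242 → P i := stepQ 4241 Q4241 (allL N4241 (tt N3015 (iv D4304)) (tt N5263 (iv F16625)) (tt N4241 F13315) (tt N5469 (iv F17339)) (tt N4241 F13316) (tt N5261 (iv F16604)) (tt N4358 (iv F13669)) (tt N3016 F13317))
theorem Q4243 : ∀ i, i < 4243 → P i := stepQ 4242 Q4242 (allL N4242 (tt N5261 F16603) (tt N4242 F13318) (tt N4242 F13319) (tt N4838 F15180) (tt N4242 F13320) (tt N3015 (iv D4305)) (tt N4242 F13321) (tt N3017 F13322))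
theorem Q4244 : ∀ i, i < 4244 → P i := stepQ 4243 Q4243 (allL N4243 (tt N3017 F13323) (tt N5253 F16606) (tt N4243 F13324) (tt N3019 F13325) (tt N4243 F13326) (tt N3016 (iv D4306)) (tt N4359 (iv F13674)) (tt N5261 (iv F16605)))
theorem Q4245 : ∀ i, i < 4245 → P i := stepQ 4244 Q4244 (allL N4244 (tt N3021 F13327) (tt N5690 D5759) (tt N3024 F13328) (tt N4244 F13329) (tt N3019 F13330) (tt N3018 (iv D4307)) (tt N5691 D5760) (tt N5478 (iv F17370)))
theorem Q4246 : ∀ i, i < 4246 → P i := stepQ 4245 Q4245 (allL N4245 (tt N4245 F13331) (tt N3019 (iv D4308)) (tt N5244 (iv F16613)) (tt N5253 (iv F16607)) (tt N5690 (iv F18043)) (tt N5246 F16612) (tt N5692 D5761) (tt N5480 (iv F17378)))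
theorem Q4247 : ∀ i, i < 4247 → P i := stepQ 4246 Q4246 (allL N4246 (tt N3022 F13332) (tt N5692 (iv F18050)) (tt N3026 F13333) (tt N4359 (iv F13672)) (tt N5691 (iv F18047)) (tt N4174 F13334) (tt N3019 (iv D4309)) (tt N5693 D5762))
theorem Q4248 : ∀ i, i < 4248 → P i := stepQ 4247 Q4247 (allL N4247 (tt N5691 (iv F18044)) (tt N4247 F13335) (tt N3029 F13336) (tt N4247 F13337) (tt N3022 F13338) (tt N3350 F13339) (tt N3021 (iv D4310)) (tt N5521 (iv F17544)))
theorem Q4249 : ∀ i, i < 4249 → P i := stepQ 4248 Q4248 (allL N4248 (tt N5693 (iv F18051)) (tt N4248 F13340) (tt N3031 F13341) (tt N4248 F13342) (tt N5521 (iv F17543)) (tt N3217 F13343) (tt N5489 (iv F17412)) (tt N3022 (iv D4311)))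
theorem Q4250 : ∀ i, i < 4250 → P i := stepQ 4249 Q4249 (allL N4249 (tt N3035 F13344) (tt N3024 (iv D4312)) (tt N5694 D5763) (tt N3489 F13345) (tt N3025 F13346) (tt N5216 (iv F16453)) (tt N5695 D5764) (tt N5495 (iv F17443)))
theorem Q4251 : ∀ i, i < 4251 → P i := stepQ 4250 Q4250 (allL N4250 (tt N3029 F13347) (tt N5695 (iv F18058)) (tt N5691 (iv F18045)) (tt N3487 F13348) (tt N3026 F13349) (tt N3475 F13350) (tt N3024 (iv D4313)) (tt N5696 D5765))
theorem Q4252 : ∀ i, i < 4252 → P i := stepQ 4251 Q4251 (allL N4251 (tt N3037 F13351) (tt N5244 F16614) (tt N3025 (iv D4314)) (tt N5243 (iv F16615)) (tt N5694 (iv F18056)) (tt N5218 (iv F16459)) (tt N5697 D5766) (tt N5498 (iv F17452)))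
theorem Q4253 : ∀ i, i < 4253 → P i := stepQ 4252 Q4252 (allL N4252 (tt N3038 F13352) (tt N3026 F13353) (tt N5697 (iv F18065)) (tt N4252 F13354) (tt N5695 (iv F18060)) (tt N5698 D5767) (tt N3025 (iv D4315)) (tt N5699 D5768))
theorem Q4254 : ∀ i, i < 4254 → P i := stepQ 4253 Q4253 (allL N4253 (tt N3030 F13355) (tt N5700 D5769) (tt N4174 F13356) (tt N4253 F13357) (tt N3475 F13358) (tt N3026 (iv D4316)) (tt N3027 F13359) (tt N3224 (iv F13360)))
theorem Q4255 : ∀ i, i < 4255 → P i := stepQ 4254 Q4254 (allL N4254 (tt N3031 F13361) (tt N5699 (iv F18069)) (tt N5693 (iv F18052)) (tt N3238 (iv F13363)) (tt N5696 (iv F18062)) (tt N3224 F13362) (tt N5501 (iv F17462)) (tt N3026 (iv D4317)))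
theorem Q4256 : ∀ i, i < 4256 → P i := stepQ 4255 Q4255 (allL N4255 (tt N4255 F13364) (tt N3027 (iv D4318)) (tt N5701 D5770) (tt N4255 F13365) (tt N3474 F13366) (tt N5222 (iv F16474)) (tt N5700 (iv F18074)) (tt N3202 F13367))
theorem Q4257 : ∀ i, i < 4257 → P i := stepQ 4256 Q4256 (allL N4256 (tt N5696 (iv F18061)) (tt N3045 F13368) (tt N5521 (iv F17541)) (tt N5702 D5771) (tt N3031 F13369) (tt N3226 F13370) (tt N5507 (iv F17488)) (tt N3029 (iv D4319)))
theorem Q4258 : ∀ i, i < 4258 → P i := stepQ 4257 Q4257 (allL N4257 (tt N3040 F13371) (tt N5703 D5772) (tt N3033 F13372) (tt N4257 F13373) (tt N4257 F13374) (tt N3032 (iv D4320)) (tt N5704 D5773) (tt N5705 D5774))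
theorem Q4259 : ∀ i, i < 4259 → P i := stepQ 4258 Q4258 (allL N4258 (tt N3041 F13375) (tt N4258 F13376) (tt N3034 F13377) (tt N5706 D5775) (tt N4258 F13378) (tt N5705 (iv F18096)) (tt N5707 D5776) (tt N3032 (iv D4321)))
theorem Q4260 : ∀ i, i < 4260 → P i := stepQ 4259 Q4259 (allL N4259 (tt N3489 F13379) (tt N3033 (iv D4322)) (tt N5708 D5777) (tt N3035 F13380) (tt N4259 F13381) (tt N5224 (iv F16484)) (tt N5709 D5778) (tt N5710 D5779))
theorem Q4261 : ∀ i, i < 4261 → P i := stepQ 4260 Q4260 (allL N4260 (tt N3042 F13382) (tt N5709 (iv F18110)) (tt N5704 (iv F18089)) (tt N3036 F13383) (tt N4260 F13384) (tt N4260 F13385) (tt N3033 (iv D4323)) (tt N5711 D5780))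
theorem Q4262 : ∀ i, i < 4262 → P i := stepQ 4261 Q4261 (allL N4261 (tt N3043 F13386) (tt N5710 (iv F18114)) (tt N5705 (iv F18094)) (tt N5510 (iv F17502)) (tt N4261 F13387) (tt N3034 F13388) (tt N5712 D5781) (tt N3033 (iv D4324)))
theorem Q4263 : ∀ i, i < 4263 → P i := stepQ 4262 Q4262 (allL N4262 (tt N3044 F13389) (tt N5226 (iv F16491)) (tt N5707 (iv F18104)) (tt N5511 (iv F17508)) (tt N4262 F13390) (tt N5713 D5782) (tt N3034 (iv D4325)) (tt N4262 F13391))
theorem Q4264 : ∀ i, i < 4264 → P i := stepQ 4263 Q4263 (allL N4263 (tt N5694 (iv F18055)) (tt N4263 F13392) (tt N3035 (iv D4326)) (tt N5714 D5783) (tt N3037 F13393) (tt N5227 (iv F16496)) (tt N5715 D5784) (tt N5512 (iv F17513)))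
theorem Q4265 : ∀ i, i < 4265 → P i := stepQ 4264 Q4264 (allL N4264 (tt N5695 (iv F18057)) (tt N3036 F13394) (tt N5715 (iv F18128)) (tt N5709 (iv F18111)) (tt N3038 F13395) (tt N5716 D5785) (tt N3035 (iv D4327)) (tt N5717 D5786))
theorem Q4266 : ∀ i, i < 4266 → P i := stepQ 4265 Q4265 (allL N4265 (tt N3045 F13396) (tt N5717 (iv F18132)) (tt N4265 F13397) (tt N5718 D5787) (tt N3039 F13398) (tt N4265 F13399) (tt N5514 (iv F17520)) (tt N3036 (iv D4328)))
theorem Q4267 : ∀ i, i < 4267 → P i := stepQ 4266 Q4266 (allL N4266 (tt N5243 F16616) (tt N4266 F13400) (tt N4266 F13401) (tt N3037 (iv D4329)) (tt N5719 D5788) (tt N5230 (iv F16503)) (tt N5720 D5789) (tt N5242 (iv F16617)))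
theorem Q4268 : ∀ i, i < 4268 → P i := stepQ 4267 Q4267 (allL N4267 (tt N5697 (iv F18064)) (tt N4267 F13402) (tt N3038 F13403) (tt N5720 (iv F18141)) (tt N5715 (iv F18129)) (tt N5721 D5790) (tt N3037 (iv D4330)) (tt N5722 D5791))
theorem Q4269 : ∀ i, i < 4269 → P i := stepQ 4268 Q4268 (allL N4268 (tt N5698 (iv F18066)) (tt N4268 F13404) (tt N5721 (iv F18142)) (tt N4268 F13405) (tt N5716 (iv F18131)) (tt N3038 (iv D4331)) (tt N5232 (iv F16507)) (tt N5723 D5792))
theorem Q4270 : ∀ i, i < 4270 → P i := stepQ 4269 Q4269 (allL N4269 (tt N5699 (iv F18068)) (tt N3039 F13406) (tt N5722 (iv F18144)) (tt N5724 D5793) (tt N5717 (iv F18133)) (tt N5723 (iv F18146)) (tt N5518 (iv F17530)) (tt N3038 (iv D4332)))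
theorem Q4271 : ∀ i, i < 4271 → P i := stepQ 4270 Q4270 (allL N4270 (tt N3046 F13407) (tt N5724 (iv F18148)) (tt N5725 D5794) (tt N3039 (iv D4333)) (tt N5726 D5795) (tt N4270 F13408) (tt N5519 (iv F17533)) (tt N4270 F13409))
theorem Q4272 : ∀ i, i < 4272 → P i := stepQ 4271 Q4271 (allL N4271 (tt N5704 (iv F18088)) (tt N4271 F13410) (tt N3042 F13411) (tt N4271 F13412) (tt N4271 F13413) (tt N4271 F13414) (tt N3040 (iv D4334)) (tt N5727 D5796))
theorem Q4273 : ∀ i, i < 4273 → P i := stepQ 4272 Q4272 (allL N4272 (tt N5705 (iv F18093)) (tt N4272 F13415) (tt N3043 F13416) (tt N5652 (iv F17919)) (tt N4272 F13417) (tt N3041 F13418) (tt N5728 D5797) (tt N3040 (iv D4335)))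
theorem Q4274 : ∀ i, i < 4274 → P i := stepQ 4273 Q4273 (allL N4273 (tt N5706 (iv F18097)) (tt N3125 F13419) (tt N3225 F13420) (tt N3041 (iv D4336)) (tt N3239 (iv F13422)) (tt N5652 (iv F17921)) (tt N5729 D5798) (tt N4273 F13421))
theorem Q4275 : ∀ i, i < 4275 → P i := stepQ 4274 Q4274 (allL N4274 (tt N5707 (iv F18102)) (tt N3126 F13423) (tt N3044 F13424) (tt N5729 (iv F18167)) (tt N4274 F13425) (tt N5730 D5799) (tt N3041 (iv D4337)) (tt N4274 F13426))
theorem Q4276 : ∀ i, i < 4276 → P i := stepQ 4275 Q4275 (allL N4275 (tt N5711 (iv F18118)) (tt N3492 F13427) (tt N5727 (iv F18159)) (tt N5731 D5800) (tt N4275 F13428) (tt N4275 F13429) (tt N5732 D5801) (tt N3042 (iv D4338)))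
theorem Q4277 : ∀ i, i < 4277 → P i := stepQ 4276 Q4276 (allL N4276 (tt N5712 (iv F18121)) (tt N3495 F13430) (tt N5728 (iv F18163)) (tt N5520 (iv F17538)) (tt N4276 F13431) (tt N5733 D5802) (tt N3043 (iv D4339)) (tt N5732 (iv F18178)))
theorem Q4278 : ∀ i, i < 4278 → P i := stepQ 4277 Q4277 (allL N4277 (tt N5713 (iv F18123)) (tt N4277 F13432) (tt N5730 (iv F18170)) (tt N5521 (iv F17542)) (tt N4277 F13433) (tt N3044 (iv D4340)) (tt N5733 (iv F18181)) (tt N4277 F13434))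
theorem Q4279 : ∀ i, i < 4279 → P i := stepQ 4278 Q4278 (allL N4278 (tt N5718 (iv F18134)) (tt N5702 (iv F18080)) (tt N5734 D5803) (tt N3045 (iv D4341)) (tt N5735 D5804) (tt N4278 F13435) (tt N5522 (iv F17546)) (tt N5731 (iv F18175)))
theorem Q4280 : ∀ i, i < 4280 → P i := stepQ 4279 Q4279 (allL N4279 (tt N5725 (iv F18150)) (tt N4279 F13436) (tt N3046 (iv D4342)) (tt N4279 F13437) (tt N5736 D5805) (tt N4279 F13438) (tt N3423 F13439) (tt N4279 F13440))
theorem Q4281 : ∀ i, i < 4281 → P i := stepQ 4280 Q4280 (allL N4280 (tt N5726 (iv F18155)) (tt N3241 F13441) (tt N5736 (iv F18191)) (tt N5735 (iv F18187)) (tt N3046 (iv D4343)) (tt N4280 F13442) (tt N5523 (iv F17550)) (tt N4280 F13443))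
theorem Q4282 : ∀ i, i < 4282 → P i := stepQ 4281 Q4281 (allL N4281 (tt N4281 F13444) (tt N5081 (iv F15966)) (tt N5051 F15852) (tt N3047 (iv D4344)) (tt N5737 D5806) (tt N5164 (iv F16281)) (tt N5738 D5807) (tt N5299 (iv F16777)))
theorem Q4283 : ∀ i, i < 4283 → P i := stepQ 4282 Q4282 (allL N4282 (tt N4282 F13445) (tt N5526 (iv F17559)) (tt N3053 F13446) (tt N5738 (iv F18199)) (tt N3051 F13447) (tt N5739 D5808) (tt N3047 (iv D4345)) (tt N5672 (iv F17988)))
theorem Q4284 : ∀ i, i < 4284 → P i := stepQ 4283 Q4283 (allL N4283 (tt N3048 (iv D4346)) (tt N4283 F13448) (tt N3244 F13449) (tt N5242 (iv F16543)) (tt N3757 F13450) (tt N5527 (iv F17564)) (tt N4847 (iv F15216)) (tt N5515 (iv F17524)))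
theorem Q4285 : ∀ i, i < 4285 → P i := stepQ 4284 Q4284 (allL N4284 (tt N5515 (iv F17521)) (tt N3049 F13451) (tt N3245 F13452) (tt N5498 (iv F17451)) (tt N4913 (iv F15448)) (tt N5529 (iv F17569)) (tt N5740 D5809) (tt N3048 (iv D4347)))
theorem Q4286 : ∀ i, i < 4286 → P i := stepQ 4285 Q4285 (allL N4285 (tt N4285 F13453) (tt N5498 (iv F17450)) (tt N5480 F17379) (tt N3049 (iv D4348)) (tt N5741 D5810) (tt N3050 F13454) (tt N5742 D5811) (tt N5244 (iv F16548)))
theorem Q4287 : ∀ i, i < 4287 → P i := stepQ 4286 Q4286 (allL N4286 (tt N4286 F13455) (tt N5740 (iv F18203)) (tt N3055 F13456) (tt N5742 (iv F18208)) (tt N5165 (iv F16285)) (tt N5743 D5812) (tt N3049 (iv D4349)) (tt N5241 (iv F16540)))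
theorem Q4288 : ∀ i, i < 4288 → P i := stepQ 4287 Q4287 (allL N4287 (tt N4287 F13457) (tt N5452 F17291) (tt N3050 (iv D4350)) (tt N3056 F13458) (tt N5744 D5813) (tt N5480 (iv F17377)) (tt N5745 D5814) (tt N5246 (iv F16553)))
theorem Q4289 : ∀ i, i < 4289 → P i := stepQ 4288 Q4288 (allL N4288 (tt N4288 F13459) (tt N5534 (iv F17574)) (tt N5744 (iv F18213)) (tt N5737 (iv F18197)) (tt N3050 (iv D4351)) (tt N5741 (iv F18206)) (tt N5746 D5815) (tt N5247 (iv F16555)))
theorem Q4290 : ∀ i, i < 4290 → P i := stepQ 4289 Q4289 (allL N4289 (tt N4289 F13460) (tt N5535 (iv F17575)) (tt N5745 (iv F18215)) (tt N3051 F13461) (tt N5746 (iv F18218)) (tt N5747 D5816) (tt N3050 (iv D4352)) (tt N5748 D5817))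
theorem Q4291 : ∀ i, i < 4291 → P i := stepQ 4290 Q4290 (allL N4290 (tt N4290 F13462) (tt N5749 D5818) (tt N3059 F13463) (tt N5747 (iv F18220)) (tt N5739 (iv F18202)) (tt N3051 (iv D4353)) (tt N5743 (iv F18211)) (tt N5676 (iv F17996)))
theorem Q4292 : ∀ i, i < 4292 → P i := stepQ 4291 Q4291 (allL N4291 (tt N4291 F13464) (tt N5039 F15813) (tt N3052 (iv D4354)) (tt N5051 (iv F15850)) (tt N5688 (iv F18035)) (tt N5166 (iv F16288)) (tt N5750 D5819) (tt N3128 F13465))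
theorem Q4293 : ∀ i, i < 4293 → P i := stepQ 4292 Q4292 (allL N4292 (tt N4292 F13466) (tt N3065 F13467) (tt N5750 (iv F18223)) (tt N3053 F13468) (tt N5689 (iv F18039)) (tt N5751 D5820) (tt N3052 (iv D4355)) (tt N4292 F13469))
theorem Q4294 : ∀ i, i < 4294 → P i := stepQ 4293 Q4293 (allL N4293 (tt N4293 F13470) (tt N5752 D5821) (tt N5739 (iv F18201)) (tt N5751 (iv F18226)) (tt N3059 F13471) (tt N3053 (iv D4356)) (tt N5169 (iv F16300)) (tt N5677 (iv F18000)))
theorem Q4295 : ∀ i, i < 4295 → P i := stepQ 4294 Q4294 (allL N4294 (tt N4294 F13472) (tt N5471 (iv F17344)) (tt N3054 (iv D4357)) (tt N5480 (iv F17376)) (tt N5287 (iv F16716)) (tt N3056 F13473) (tt N5753 D5822) (tt N3060 F13474))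
theorem Q4296 : ∀ i, i < 4296 → P i := stepQ 4295 Q4295 (allL N4295 (tt N4295 F13475) (tt N3256 F13476) (tt N5753 (iv F18231)) (tt N3055 F13477) (tt N5288 (iv F16720)) (tt N5754 D5823) (tt N3054 (iv D4358)) (tt N4295 F13478))
theorem Q4297 : ∀ i, i < 4297 → P i := stepQ 4296 Q4296 (allL N4296 (tt N4296 F13479) (tt N5755 D5824) (tt N5743 (iv F18210)) (tt N5754 (iv F18234)) (tt N5169 (iv F16299)) (tt N3055 (iv D4359)) (tt N3059 F13480) (tt N5251 (iv F16568)))
theorem Q4298 : ∀ i, i < 4298 → P i := stepQ 4297 Q4297 (allL N4297 (tt N5447 (iv F17270)) (tt N3056 (iv D4360)) (tt N3067 F13481) (tt N5452 (iv F17289)) (tt N5756 D5825) (tt N5445 F17268) (tt N5757 D5826) (tt N3061 F13482))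
theorem Q4299 : ∀ i, i < 4299 → P i := stepQ 4298 Q4298 (allL N4298 (tt N4298 F13483) (tt N5756 (iv F18240)) (tt N3057 F13484) (tt N5758 D5827) (tt N3056 (iv D4361)) (tt N5287 (iv F16717)) (tt N5759 D5828) (tt N3062 F13485))
theorem Q4300 : ∀ i, i < 4300 → P i := stepQ 4299 Q4299 (allL N4299 (tt N4299 F13486) (tt N5757 (iv F18243)) (tt N3058 F13487) (tt N5745 (iv F18216)) (tt N5759 (iv F18249)) (tt N5760 D5829) (tt N3056 (iv D4362)) (tt N4627 (iv F14507)))
theorem Q4301 : ∀ i, i < 4301 → P i := stepQ 4300 Q4300 (allL N4300 (tt N4300 F13488) (tt N3070 F13489) (tt N5759 (iv F18248)) (tt N5689 (iv F18038)) (tt N3058 F13490) (tt N5761 D5830) (tt N3057 (iv D4363)) (tt N3294 F13491))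
theorem Q4302 : ∀ i, i < 4302 → P i := stepQ 4301 Q4301 (allL N4301 (tt N4301 F13492) (tt N4626 (iv F14501)) (tt N5760 (iv F18252)) (tt N3059 F13493) (tt N5761 (iv F18254)) (tt N3058 (iv D4364)) (tt N5754 (iv F18235)) (tt N4625 F14499))
theorem Q4303 : ∀ i, i < 4303 → P i := stepQ 4302 Q4302 (allL N4302 (tt N4646 (iv F14550)) (tt N3059 (iv D4365)) (tt N5762 D5831) (tt N4626 F14503) (tt N5752 (iv F18228)) (tt N3071 F13494) (tt N5755 (iv F18238)) (tt N4773 (iv F14961)))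
theorem Q4304 : ∀ i, i < 4304 → P i := stepQ 4303 Q4303 (allL N4303 (tt N4838 (iv F15174)) (tt N3060 (iv D4366)) (tt N3262 F13495) (tt N5261 (iv F16600)) (tt N4832 (iv F15158)) (tt N5469 (iv F17340)) (tt N4303 F13496) (tt N5471 (iv F17347)))
theorem Q4305 : ∀ i, i < 4305 → P i := stepQ 4304 Q4304 (allL N4304 (tt N3061 (iv D4367)) (tt N4304 F13497) (tt N3072 F13498) (tt N5262 (iv F16620)) (tt N4587 (iv F14370)) (tt N5442 F17256) (tt N5763 D5832) (tt N5447 (iv F17274)))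
theorem Q4306 : ∀ i, i < 4306 → P i := stepQ 4305 Q4305 (allL N4305 (tt N4587 (iv F14367)) (tt N3062 F13499) (tt N3073 F13500) (tt N4305 F13501) (tt N3061 (iv D4368)) (tt N5764 D5833) (tt N3283 (iv F13502)) (tt N5756 (iv F18242)))
theorem Q4307 : ∀ i, i < 4307 → P i := stepQ 4306 Q4306 (allL N4306 (tt N5442 F17255) (tt N5469 (iv F17337)) (tt N3074 F13503) (tt N5263 (iv F16627)) (tt N5764 (iv F18263)) (tt N3061 (iv D4369)) (tt N5765 D5834) (tt N5445 (iv F17267)))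
theorem Q4308 : ∀ i, i < 4308 → P i := stepQ 4307 Q4307 (allL N4307 (tt N5763 (iv F18257)) (tt N3063 F13504) (tt N3075 F13505) (tt N5264 (iv F16632)) (tt N3283 F13506) (tt N5766 D5835) (tt N3061 (iv D4370)) (tt N4614 (iv F14457)))
theorem Q4309 : ∀ i, i < 4309 → P i := stepQ 4308 Q4308 (allL N4308 (tt N3540 F13507) (tt N3064 (iv D4371)) (tt N5039 (iv F15810)) (tt N3537 F13508) (tt N3701 F13509) (tt N4877 (iv F15307)) (tt N5767 D5836) (tt N3129 F13510))
theorem Q4310 : ∀ i, i < 4310 → P i := stepQ 4309 Q4309 (allL N4309 (tt N3084 F13511) (tt N5767 (iv F18269)) (tt N3065 F13512) (tt N3988 F13513) (tt N4158 F13514) (tt N5768 D5837) (tt N3064 (iv D4372)) (tt N4309 F13515))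
theorem Q4311 : ∀ i, i < 4311 → P i := stepQ 4310 Q4310 (allL N4310 (tt N3085 F13516) (tt N5769 D5838) (tt N5768 (iv F18274)) (tt N3066 F13517) (tt N4619 (iv F14474)) (tt N3065 (iv D4373)) (tt N3267 F13518) (tt N4310 F13519))
theorem Q4312 : ∀ i, i < 4312 → P i := stepQ 4311 Q4311 (allL N4311 (tt N4649 (iv F14559)) (tt N3066 (iv D4374)) (tt N5770 D5839) (tt N5769 (iv F18279)) (tt N3071 F13520) (tt N5752 (iv F18229)) (tt N3268 F13521) (tt N4776 (iv F14973)))
theorem Q4313 : ∀ i, i < 4313 → P i := stepQ 4312 Q4312 (allL N4312 (tt N3067 (iv D4375)) (tt N3086 F13522) (tt N5447 (iv F17272)) (tt N4120 F13523) (tt N4130 (iv F13525)) (tt N5437 (iv F17238)) (tt N5771 D5840) (tt N3072 F13524))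
theorem Q4314 : ∀ i, i < 4314 → P i := stepQ 4313 Q4313 (allL N4313 (tt N4130 F13526) (tt N3068 F13527) (tt N5756 (iv F18241)) (tt N4127 F13528) (tt N3067 (iv D4376)) (tt N5772 D5841) (tt N5773 D5842) (tt N3073 F13529))
theorem Q4315 : ∀ i, i < 4315 → P i := stepQ 4314 Q4314 (allL N4314 (tt N5437 (iv F17236)) (tt N3270 F13530) (tt N5445 (iv F17265)) (tt N5574 (iv F17690)) (tt N5772 (iv F18291)) (tt N3067 (iv D4377)) (tt N5774 D5843) (tt N3074 F13531))
theorem Q4316 : ∀ i, i < 4316 → P i := stepQ 4315 Q4315 (allL N4315 (tt N5771 (iv F18284)) (tt N3069 F13532) (tt N5757 (iv F18244)) (tt N5575 (iv F17693)) (tt N5773 (iv F18296)) (tt N5775 D5844) (tt N3067 (iv D4378)) (tt N4613 (iv F14454)))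
theorem Q4317 : ∀ i, i < 4317 → P i := stepQ 4316 Q4316 (allL N4316 (tt N3088 F13533) (tt N5773 (iv F18294)) (tt N3070 F13534) (tt N4155 F13535) (tt N3069 F13536) (tt N4608 (iv F14442)) (tt N3068 (iv D4379)) (tt N3292 F13537))
theorem Q4318 : ∀ i, i < 4318 → P i := stepQ 4317 Q4317 (allL N4317 (tt N4648 (iv F14556)) (tt N5581 (iv F17715)) (tt N3071 (iv D4380)) (tt N5776 D5845) (tt N5770 (iv F18282)) (tt N5762 (iv F18256)) (tt N3275 F13538) (tt N4775 (iv F14968)))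
theorem Q4319 : ∀ i, i < 4319 → P i := stepQ 4318 Q4318 (allL N4318 (tt N3074 F13539) (tt N5433 F17230) (tt N5442 (iv F17252)) (tt N3077 F13540) (tt N4585 (iv F14361)) (tt N3072 (iv D4381)) (tt N5777 D5846) (tt N5437 (iv F17239)))
theorem Q4320 : ∀ i, i < 4320 → P i := stepQ 4319 Q4319 (allL N4319 (tt N3075 F13541) (tt N3090 F13542) (tt N5763 (iv F18259)) (tt N3078 F13543) (tt N3278 F13544) (tt N5778 D5847) (tt N3072 (iv D4382)) (tt N4603 (iv F14422)))
theorem Q4321 : ∀ i, i < 4321 → P i := stepQ 4320 Q4320 (allL N4320 (tt N4585 (iv F14360)) (tt N3081 F13545) (tt N5764 (iv F18261)) (tt N3287 F13546) (tt N3074 F13547) (tt N3073 (iv D4383)) (tt N5779 D5848) (tt N5772 (iv F18292)))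
theorem Q4322 : ∀ i, i < 4322 → P i := stepQ 4321 Q4321 (allL N4321 (tt N5777 (iv F18300)) (tt N3277 F13548) (tt N5765 (iv F18264)) (tt N3080 F13549) (tt N5779 (iv F18307)) (tt N5780 D5849) (tt N3074 (iv D4384)) (tt N5781 D5850))
theorem Q4323 : ∀ i, i < 4323 → P i := stepQ 4322 Q4322 (allL N4322 (tt N5778 (iv F18302)) (tt N3287 F13550) (tt N5766 (iv F18266)) (tt N3081 F13551) (tt N3284 F13552) (tt N3075 (iv D4385)) (tt N5780 (iv F18312)) (tt N4575 (iv F14341)))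
theorem Q4324 : ∀ i, i < 4324 → P i := stepQ 4323 Q4323 (allL N4323 (tt N3079 F13553) (tt N5782 D5851) (tt N5276 (iv F16675)) (tt N3282 F13554) (tt N3077 F13555) (tt N3076 (iv D4386)) (tt N5783 D5852) (tt N5593 (iv F17759)))
theorem Q4325 : ∀ i, i < 4325 → P i := stepQ 4324 Q4324 (allL N4324 (tt N3280 F13556) (tt N3077 (iv D4387)) (tt N5424 F17202) (tt N5433 (iv F17227)) (tt N5782 (iv F18316)) (tt N3093 F13557) (tt N5784 D5853) (tt N5595 (iv F17766)))
theorem Q4326 : ∀ i, i < 4326 → P i := stepQ 4325 Q4325 (allL N4325 (tt N3080 F13558) (tt N5784 (iv F18323)) (tt N5278 (iv F16683)) (tt N5777 (iv F18301)) (tt N5783 (iv F18320)) (tt N5785 D5854) (tt N3077 (iv D4388)) (tt N5786 D5855))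
theorem Q4327 : ∀ i, i < 4327 → P i := stepQ 4326 Q4326 (allL N4326 (tt N3081 F13559) (tt N5787 D5856) (tt N5279 (iv F16685)) (tt N5778 (iv F18303)) (tt N3276 F13560) (tt N3078 (iv D4389)) (tt N5785 (iv F18326)) (tt N5788 D5857))
theorem Q4328 : ∀ i, i < 4328 → P i := stepQ 4327 Q4327 (allL N4327 (tt N3082 F13561) (tt N3096 F13562) (tt N5280 (iv F16689)) (tt N3182 (iv F13564)) (tt N3269 F13563) (tt N5788 (iv F18336)) (tt N5590 (iv F17745)) (tt N3078 (iv D4390)))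
theorem Q4329 : ∀ i, i < 4329 → P i := stepQ 4328 Q4328 (allL N4328 (tt N5783 (iv F18318)) (tt N3286 F13565) (tt N5281 (iv F16693)) (tt N3288 F13566) (tt N3080 F13567) (tt N3277 F13568) (tt N3079 (iv D4391)) (tt N5789 D5858))
theorem Q4330 : ∀ i, i < 4330 → P i := stepQ 4329 Q4329 (allL N4329 (tt N5785 (iv F18324)) (tt N5779 (iv F18305)) (tt N5282 (iv F16697)) (tt N5780 (iv F18310)) (tt N3277 F13569) (tt N3080 (iv D4392)) (tt N3081 F13570) (tt N5790 D5859))
theorem Q4331 : ∀ i, i < 4331 → P i := stepQ 4330 Q4330 (allL N4330 (tt N5786 (iv F18327)) (tt N3289 F13571) (tt N5283 (iv F16701)) (tt N5791 D5860) (tt N5789 (iv F18339)) (tt N5790 (iv F18342)) (tt N5604 (iv F17786)) (tt N3080 (iv D4393)))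
theorem Q4332 : ∀ i, i < 4332 → P i := stepQ 4331 Q4331 (allL N4331 (tt N5788 (iv F18332)) (tt N5772 (iv F18289)) (tt N5284 (iv F16702)) (tt N5792 D5861) (tt N3270 F13572) (tt N3082 F13573) (tt N5793 D5862) (tt N3081 (iv D4394)))
theorem Q4333 : ∀ i, i < 4333 → P i := stepQ 4332 Q4332 (allL N4332 (tt N3182 F13574) (tt N3083 F13575) (tt N5794 D5863) (tt N3082 (iv D4395)) (tt N4156 (iv F13576)) (tt N5792 (iv F18346)) (tt N5607 (iv F17792)) (tt N4337 (iv F13594)))
theorem Q4334 : ∀ i, i < 4334 → P i := stepQ 4333 Q4333 (allL N4333 (tt N5768 (iv F18273)) (tt N5505 (iv F17475)) (tt N3085 F13577) (tt N3993 F13578) (tt N4154 F13579) (tt N3084 (iv D4396)) (tt N3297 F13580) (tt N4333 F13581))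
theorem Q4335 : ∀ i, i < 4335 → P i := stepQ 4334 Q4334 (allL N4334 (tt N3087 F13582) (tt N5771 (iv F18285)) (tt N4334 F13583) (tt N4123 F13584) (tt N4136 F13585) (tt N4467 (iv F14026)) (tt N3086 (iv D4397)) (tt N4604 (iv F14427)))
theorem Q4336 : ∀ i, i < 4336 → P i := stepQ 4335 Q4335 (allL N4335 (tt N3305 F13586) (tt N3089 (iv D4398)) (tt N5431 (iv F17222)) (tt N3093 F13587) (tt N4453 (iv F13979)) (tt N5433 (iv F17228)) (tt N5795 D5864) (tt N4443 (iv F13938)))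
theorem Q4337 : ∀ i, i < 4337 → P i := stepQ 4336 Q4336 (allL N4336 (tt N3091 F13588) (tt N5795 (iv F18354)) (tt N4336 F13589) (tt N3094 F13590) (tt N4458 (iv F13994)) (tt N4605 (iv F14432)) (tt N3089 (iv D4399)) (tt N4469 (iv F14037)))
theorem Q4338 : ∀ i, i < 4338 → P i := stepQ 4337 Q4337 (allL N4337 (tt N3309 F13591) (tt N3092 (iv D4400)) (tt N5796 D5865) (tt N3315 F13592) (tt N3093 F13593) (tt N5782 (iv F18317)) (tt N5797 D5866) (tt N4332 F13594))
theorem Q4339 : ∀ i, i < 4339 → P i := stepQ 4338 Q4338 (allL N4338 (tt N3097 F13595) (tt N5797 (iv F18361)) (tt N3101 F13596) (tt N3313 F13597) (tt N3094 F13598) (tt N3306 F13599) (tt N3092 (iv D4401)) (tt N5798 D5867))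
theorem Q4340 : ∀ i, i < 4340 → P i := stepQ 4339 Q4339 (allL N4339 (tt N3311 F13600) (tt N3102 F13601) (tt N3093 (iv D4402)) (tt N5423 F17198) (tt N5796 (iv F18358)) (tt N5424 (iv F17201)) (tt N5799 D5868) (tt N5617 (iv F17823)))
theorem Q4341 : ∀ i, i < 4341 → P i := stepQ 4340 Q4340 (allL N4340 (tt N3312 F13602) (tt N3094 F13603) (tt N5799 (iv F18372)) (tt N5795 (iv F18355)) (tt N5797 (iv F18363)) (tt N5800 D5869) (tt N3093 (iv D4403)) (tt N5801 D5870))
theorem Q4342 : ∀ i, i < 4342 → P i := stepQ 4341 Q4341 (allL N4341 (tt N3098 F13604) (tt N5802 D5871) (tt N3104 F13605) (tt N4605 (iv F14430)) (tt N3306 F13606) (tt N3094 (iv D4404)) (tt N3095 F13607) (tt N3166 (iv F13608)))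
theorem Q4343 : ∀ i, i < 4343 → P i := stepQ 4342 Q4342 (allL N4342 (tt N3099 F13609) (tt N5801 (iv F18375)) (tt N3105 F13610) (tt N3272 (iv F13612)) (tt N5798 (iv F18367)) (tt N3166 F13611) (tt N4597 (iv F14400)) (tt N3094 (iv D4405)))
theorem Q4344 : ∀ i, i < 4344 → P i := stepQ 4343 Q4343 (allL N4343 (tt N4453 (iv F13976)) (tt N3095 (iv D4406)) (tt N5803 D5872) (tt N4568 (iv F14324)) (tt N3305 F13613) (tt N5787 (iv F18330)) (tt N5802 (iv F18378)) (tt N3172 F13614))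
theorem Q4345 : ∀ i, i < 4345 → P i := stepQ 4344 Q4344 (allL N4344 (tt N5798 (iv F18364)) (tt N3318 F13615) (tt N3107 F13616) (tt N4146 F13617) (tt N3099 F13618) (tt N3192 F13619) (tt N4151 F13620) (tt N3097 (iv D4407)))
theorem Q4346 : ∀ i, i < 4346 → P i := stepQ 4345 Q4345 (allL N4345 (tt N3112 F13621) (tt N5796 (iv F18357)) (tt N3100 (iv D4408)) (tt N5804 D5873) (tt N3102 F13622) (tt N5303 (iv F16790)) (tt N5805 D5874) (tt N5619 (iv F17829)))
theorem Q4347 : ∀ i, i < 4347 → P i := stepQ 4346 Q4346 (allL N4346 (tt N3113 F13623) (tt N3101 F13624) (tt N5805 (iv F18387)) (tt N3430 F13625) (tt N3103 F13626) (tt N5806 D5875) (tt N3100 (iv D4409)) (tt N5807 D5876))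
theorem Q4348 : ∀ i, i < 4348 → P i := stepQ 4347 Q4347 (allL N4347 (tt N3107 F13627) (tt N5807 (iv F18394)) (tt N5798 (iv F18365)) (tt N5808 D5877) (tt N3105 F13628) (tt N3167 F13629) (tt N5577 (iv F17701)) (tt N3101 (iv D4410)))
theorem Q4349 : ∀ i, i < 4349 → P i := stepQ 4348 Q4348 (allL N4348 (tt N3115 F13630) (tt N5423 (iv F17195)) (tt N4348 F13631) (tt N3102 (iv D4411)) (tt N5809 D5878) (tt N5306 (iv F16801)) (tt N5810 D5879) (tt N5421 F17191))
theorem Q4350 : ∀ i, i < 4350 → P i := stepQ 4349 Q4349 (allL N4349 (tt N3116 F13632) (tt N5799 (iv F18371)) (tt N3103 F13633) (tt N5810 (iv F18406)) (tt N5805 (iv F18388)) (tt N5811 D5880) (tt N3102 (iv D4412)) (tt N5812 D5881))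
theorem Q4351 : ∀ i, i < 4351 → P i := stepQ 4350 Q4350 (allL N4350 (tt N3117 F13634) (tt N5813 D5882) (tt N5811 (iv F18408)) (tt N4350 F13635) (tt N5806 (iv F18392)) (tt N3103 (iv D4413)) (tt N5308 (iv F16807)) (tt N5814 D5883))
theorem Q4352 : ∀ i, i < 4352 → P i := stepQ 4351 Q4351 (allL N4351 (tt N3118 F13636) (tt N3105 F13637) (tt N5812 (iv F18410)) (tt N3168 (iv F13638)) (tt N5807 (iv F18395)) (tt N5814 (iv F18418)) (tt N5579 (iv F17710)) (tt N3103 (iv D4414)))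
theorem Q4353 : ∀ i, i < 4353 → P i := stepQ 4352 Q4352 (allL N4352 (tt N4352 F13639) (tt N3104 (iv D4415)) (tt N5815 D5884) (tt N4352 F13640) (tt N3425 F13641) (tt N5813 (iv F18414)) (tt N3106 F13642) (tt N3146 F13643))
theorem Q4354 : ∀ i, i < 4354 → P i := stepQ 4353 Q4353 (allL N4353 (tt N4353 F13644) (tt N5803 (iv F18380)) (tt N3106 (iv D4416)) (tt N5816 D5885) (tt N3424 F13645) (tt N4492 (iv F14119)) (tt N5815 (iv F18422)) (tt N3156 F13646))
theorem Q4355 : ∀ i, i < 4355 → P i := stepQ 4354 Q4354 (allL N4354 (tt N5808 (iv F18396)) (tt N3122 F13647) (tt N3994 F13648) (tt N3107 (iv D4417)) (tt N3188 F13649) (tt N3187 F13650) (tt N3982 F13651) (tt N3435 F13652))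
theorem Q4356 : ∀ i, i < 4356 → P i := stepQ 4355 Q4355 (allL N4355 (tt N3433 F13653) (tt N4355 F13654) (tt N3108 (iv D4418)) (tt N5817 D5886) (tt N4355 F13655) (tt N5320 (iv F16855)) (tt N5818 D5887) (tt N5819 D5888))
theorem Q4357 : ∀ i, i < 4357 → P i := stepQ 4356 Q4356 (allL N4356 (tt N3430 F13656) (tt N3109 F13657) (tt N5818 (iv F18432)) (tt N3113 F13658) (tt N4356 F13659) (tt N5820 D5889) (tt N3108 (iv D4419)) (tt N5821 D5890))
theorem Q4358 : ∀ i, i < 4358 → P i := stepQ 4357 Q4357 (allL N4357 (tt N3434 F13660) (tt N3110 F13661) (tt N5819 (iv F18436)) (tt N4233 F13662) (tt N4357 F13663) (tt N5322 (iv F16863)) (tt N4229 (iv F13664)) (tt N3108 (iv D4420)))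
theorem Q4359 : ∀ i, i < 4359 → P i := stepQ 4358 Q4358 (allL N4358 (tt N3120 F13665) (tt N5821 (iv F18445)) (tt N4358 F13666) (tt N5822 D5891) (tt N4358 F13667) (tt N4358 F13668) (tt N4241 F13669) (tt N3109 (iv D4421)))
theorem Q4360 : ∀ i, i < 4360 → P i := stepQ 4359 Q4359 (allL N4359 (tt N3121 F13670) (tt N5823 D5892) (tt N4359 F13671) (tt N4246 F13672) (tt N4359 F13673) (tt N3111 (iv D4422)) (tt N4243 F13674) (tt N4359 F13675))
theorem Q4361 : ∀ i, i < 4361 → P i := stepQ 4360 Q4360 (allL N4360 (tt N5804 (iv F18384)) (tt N3329 F13676) (tt N5817 (iv F18429)) (tt N3112 (iv D4423)) (tt N5824 D5893) (tt N5326 (iv F16873)) (tt N5825 D5894) (tt N5826 D5895))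
theorem Q4362 : ∀ i, i < 4362 → P i := stepQ 4361 Q4361 (allL N4361 (tt N5805 (iv F18386)) (tt N3330 F13677) (tt N3113 F13678) (tt N5825 (iv F18464)) (tt N3116 F13679) (tt N5827 D5896) (tt N3112 (iv D4424)) (tt N5828 D5897))
theorem Q4363 : ∀ i, i < 4363 → P i := stepQ 4362 Q4362 (allL N4362 (tt N5806 (iv F18389)) (tt N4362 F13680) (tt N5827 (iv F18466)) (tt N5820 (iv F18442)) (tt N3117 F13681) (tt N3113 (iv D4425)) (tt N5328 (iv F16879)) (tt N5829 D5898))
theorem Q4364 : ∀ i, i < 4364 → P i := stepQ 4363 Q4363 (allL N4363 (tt N5807 (iv F18393)) (tt N3114 F13682) (tt N5828 (iv F18469)) (tt N5830 D5899) (tt N3118 F13683) (tt N5829 (iv F18473)) (tt N5636 (iv F17873)) (tt N3113 (iv D4426)))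
theorem Q4365 : ∀ i, i < 4365 → P i := stepQ 4364 Q4364 (allL N4364 (tt N3122 F13684) (tt N5830 (iv F18474)) (tt N5831 D5900) (tt N3114 (iv D4427)) (tt N5832 D5901) (tt N4364 F13685) (tt N5637 (iv F17876)) (tt N5822 (iv F18454)))
theorem Q4366 : ∀ i, i < 4366 → P i := stepQ 4365 Q4365 (allL N4365 (tt N5809 (iv F18402)) (tt N3334 F13686) (tt N4365 F13687) (tt N5824 (iv F18462)) (tt N3115 (iv D4428)) (tt N5331 (iv F16886)) (tt N5833 D5902) (tt N5834 D5903))
theorem Q4367 : ∀ i, i < 4367 → P i := stepQ 4366 Q4366 (allL N4366 (tt N5810 (iv F18404)) (tt N3335 F13688) (tt N4366 F13689) (tt N3116 F13690) (tt N5833 (iv F18485)) (tt N5835 D5904) (tt N3115 (iv D4429)) (tt N5836 D5905))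
theorem Q4368 : ∀ i, i < 4368 → P i := stepQ 4367 Q4367 (allL N4367 (tt N5421 (iv F17187)) (tt N3336 F13691) (tt N4367 F13692) (tt N5356 (iv F16977)) (tt N5834 (iv F18488)) (tt N5333 (iv F16894)) (tt N5837 D5906) (tt N3115 (iv D4430)))
theorem Q4369 : ∀ i, i < 4369 → P i := stepQ 4368 Q4368 (allL N4368 (tt N5811 (iv F18407)) (tt N5838 D5907) (tt N3117 F13693) (tt N5835 (iv F18490)) (tt N5827 (iv F18467)) (tt N3116 (iv D4431)) (tt N5334 (iv F16896)) (tt N5839 D5908))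
theorem Q4370 : ∀ i, i < 4370 → P i := stepQ 4369 Q4369 (allL N4369 (tt N5812 (iv F18409)) (tt N3338 F13694) (tt N3118 F13695) (tt N5840 D5909) (tt N5828 (iv F18470)) (tt N5839 (iv F18498)) (tt N5640 (iv F17883)) (tt N3116 (iv D4432)))
theorem Q4371 : ∀ i, i < 4371 → P i := stepQ 4370 Q4370 (allL N4370 (tt N5814 (iv F18416)) (tt N4370 F13696) (tt N5839 (iv F18497)) (tt N5841 D5910) (tt N5829 (iv F18472)) (tt N3118 F13697) (tt N5842 D5911) (tt N3117 (iv D4433)))
theorem Q4372 : ∀ i, i < 4372 → P i := stepQ 4371 Q4371 (allL N4371 (tt N3168 F13698) (tt N3119 F13699) (tt N5843 D5912) (tt N3118 (iv D4434)) (tt N5844 D5913) (tt N5841 (iv F18502)) (tt N5580 (iv F17714)) (tt N4371 F13700))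
theorem Q4373 : ∀ i, i < 4373 → P i := stepQ 4372 Q4372 (allL N4372 (tt N3123 F13701) (tt N5845 D5914) (tt N3119 (iv D4435)) (tt N3341 F13702) (tt N5846 D5915) (tt N4372 F13703) (tt N4599 (iv F14406)) (tt N4372 F13704))
theorem Q4374 : ∀ i, i < 4374 → P i := stepQ 4373 Q4373 (allL N4373 (tt N3124 F13705) (tt N5844 (iv F18508)) (tt N5846 (iv F18514)) (tt N5832 (iv F18481)) (tt N3119 (iv D4436)) (tt N4373 F13706) (tt N5616 (iv F17820)) (tt N4373 F13707))
theorem Q4375 : ∀ i, i < 4375 → P i := stepQ 4374 Q4374 (allL N4374 (tt N5822 (iv F18450)) (tt N3435 F13708) (tt N5645 (iv F17896)) (tt N3120 (iv D4437)) (tt N5847 D5916) (tt N4374 F13709) (tt N4036 F13710) (tt N3122 F13711))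
theorem Q4376 : ∀ i, i < 4376 → P i := stepQ 4375 Q4375 (allL N4375 (tt N5831 (iv F18477)) (tt N5488 (iv F17406)) (tt N3122 (iv D4438)) (tt N3343 F13712) (tt N5848 D5917) (tt N4375 F13713) (tt N5406 (iv F17144)) (tt N5645 (iv F17900)))
theorem Q4377 : ∀ i, i < 4377 → P i := stepQ 4376 Q4376 (allL N4376 (tt N5832 (iv F18480)) (tt N3188 F13714) (tt N5848 (iv F18523)) (tt N3124 F13715) (tt N3122 (iv D4439)) (tt N4376 F13716) (tt N5615 (iv F17817)) (tt N5847 (iv F18522)))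
theorem Q4378 : ∀ i, i < 4378 → P i := stepQ 4377 Q4377 (allL N4377 (tt N5846 (iv F18513)) (tt N3300 F13717) (tt N3124 F13718) (tt N5849 D5918) (tt N3123 (iv D4440)) (tt N4377 F13719) (tt N4600 (iv F14411)) (tt N4377 F13720))
theorem Q4379 : ∀ i, i < 4379 → P i := stepQ 4378 Q4378 (allL N4378 (tt N4378 F13721) (tt N3239 F13722) (tt N4378 F13723) (tt N4378 F13724) (tt N3125 (iv D4441)) (tt N4378 F13725) (tt N5850 D5919) (tt N4378 F13726))
theorem Q4380 : ∀ i, i < 4380 → P i := stepQ 4379 Q4379 (allL N4379 (tt N4379 F13727) (tt N5729 (iv F18165)) (tt N4379 F13728) (tt N3126 F13729) (tt N5850 (iv F18533)) (tt N5851 D5920) (tt N3125 (iv D4442)) (tt N5852 D5921))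
theorem Q4381 : ∀ i, i < 4381 → P i := stepQ 4380 Q4380 (allL N4380 (tt N4380 F13730) (tt N5853 D5922) (tt N3127 F13731) (tt N5851 (iv F18536)) (tt N4380 F13732) (tt N3126 (iv D4443)) (tt N4380 F13733) (tt N4380 F13734))
theorem Q4382 : ∀ i, i < 4382 → P i := stepQ 4381 Q4381 (allL N4381 (tt N4731 (iv F14816)) (tt N3128 (iv D4444)) (tt N3129 F13735) (tt N5291 (iv F16734)) (tt N4723 (iv F14791)) (tt N5034 (iv F15799)) (tt N4381 F13736) (tt N5039 (iv F15812)))
theorem Q4383 : ∀ i, i < 4383 → P i := stepQ 4382 Q4382 (allL N4382 (tt N4729 (iv F14808)) (tt N3348 F13737) (tt N5034 (iv F15797)) (tt N4382 F13738) (tt N4721 F14783) (tt N3129 (iv D4445)) (tt N5854 D5923) (tt N4877 (iv F15308)))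
theorem Q4384 : ∀ i, i < 4384 → P i := stepQ 4383 Q4383 (allL N4383 (tt N4383 F13739) (tt N4914 (iv F15449)) (tt N3137 F13740) (tt N3235 F13741) (tt N3133 F13742) (tt N4383 F13743) (tt N3130 (iv D4446)) (tt N5855 D5924))
theorem Q4385 : ∀ i, i < 4385 → P i := stepQ 4384 Q4384 (allL N4384 (tt N4384 F13744) (tt N4915 (iv F15453)) (tt N3138 F13745) (tt N4411 F13823) (tt N3134 F13746) (tt N3131 F13747) (tt N5856 D5925) (tt N3130 (iv D4447)))
theorem Q4386 : ∀ i, i < 4386 → P i := stepQ 4385 Q4385 (allL N4385 (tt N4385 F13748) (tt N3242 F13749) (tt N4407 F13827) (tt N3131 (iv D4448)) (tt N4406 F13828) (tt N4411 (iv F13826)) (tt N5857 D5926) (tt N4420 (iv F13859)))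
theorem Q4387 : ∀ i, i < 4387 → P i := stepQ 4386 Q4386 (allL N4386 (tt N4386 F13750) (tt N3243 F13751) (tt N3140 F13752) (tt N5857 (iv F18563)) (tt N3136 F13753) (tt N5858 D5927) (tt N3131 (iv D4449)) (tt N4386 F13754))
theorem Q4388 : ∀ i, i < 4388 → P i := stepQ 4387 Q4387 (allL N4387 (tt N3132 (iv D4450)) (tt N4387 F13755) (tt N5527 (iv F17562)) (tt N4387 F13756) (tt N3758 F13757) (tt N3244 F13758) (tt N5859 D5928) (tt N5860 D5929))
theorem Q4389 : ∀ i, i < 4389 → P i := stepQ 4388 Q4388 (allL N4388 (tt N5859 (iv F18568)) (tt N3133 F13759) (tt N5528 (iv F17566)) (tt N4388 F13760) (tt N4914 (iv F15451)) (tt N4976 (iv F15645)) (tt N3132 (iv D4451)) (tt N5861 D5930))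
theorem Q4390 : ∀ i, i < 4390 → P i := stepQ 4389 Q4389 (allL N4389 (tt N5860 (iv F18573)) (tt N3134 F13761) (tt N5529 (iv F17568)) (tt N5862 D5931) (tt N4915 (iv F15454)) (tt N3245 F13762) (tt N5863 D5932) (tt N3132 (iv D4452)))
theorem Q4391 : ∀ i, i < 4391 → P i := stepQ 4390 Q4390 (allL N4390 (tt N4390 F13763) (tt N5861 (iv F18578)) (tt N3141 F13764) (tt N5864 D5933) (tt N5855 (iv F18556)) (tt N4390 F13765) (tt N5865 D5934) (tt N3133 (iv D4453)))
theorem Q4392 : ∀ i, i < 4392 → P i := stepQ 4391 Q4391 (allL N4391 (tt N4391 F13766) (tt N5862 (iv F18580)) (tt N4394 (iv F13830)) (tt N3134 (iv D4454)) (tt N4393 (iv F13825)) (tt N3135 F13767) (tt N5866 D5935) (tt N4391 F13768))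
theorem Q4393 : ∀ i, i < 4393 → P i := stepQ 4392 Q4392 (allL N4392 (tt N4392 F13769) (tt N5863 (iv F18584)) (tt N3143 F13770) (tt N5866 (iv F18592)) (tt N5856 (iv F18560)) (tt N5867 D5936) (tt N3134 (iv D4455)) (tt N5865 (iv F18590)))
theorem Q4394 : ∀ i, i < 4394 → P i := stepQ 4393 Q4393 (allL N4393 (tt N4393 F13771) (tt N5868 D5937) (tt N3135 (iv D4456)) (tt N3144 F13772) (tt N4391 F13825) (tt N4394 (iv F13831)) (tt N5869 D5938) (tt N4393 F13773))
theorem Q4395 : ∀ i, i < 4395 → P i := stepQ 4394 Q4394 (allL N4394 (tt N4394 F13774) (tt N3249 F13775) (tt N4391 F13830) (tt N4406 (iv F13829)) (tt N3135 (iv D4457)) (tt N4393 F13831) (tt N5870 D5939) (tt N4394 F13776))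
theorem Q4396 : ∀ i, i < 4396 → P i := stepQ 4395 Q4395 (allL N4395 (tt N4395 F13777) (tt N3250 F13778) (tt N5869 (iv F18603)) (tt N3136 F13779) (tt N5870 (iv F18609)) (tt N5871 D5940) (tt N3135 (iv D4458)) (tt N5872 D5941))
theorem Q4397 : ∀ i, i < 4397 → P i := stepQ 4396 Q4396 (allL N4396 (tt N4396 F13780) (tt N5873 D5942) (tt N3147 F13781) (tt N5871 (iv F18611)) (tt N5858 (iv F18566)) (tt N3136 (iv D4459)) (tt N5867 (iv F18595)) (tt N4396 F13782))
theorem Q4398 : ∀ i, i < 4398 → P i := stepQ 4397 Q4397 (allL N4397 (tt N4397 F13783) (tt N5537 (iv F17578)) (tt N5855 (iv F18554)) (tt N5874 D5943) (tt N3141 F13784) (tt N4397 F13785) (tt N5875 D5944) (tt N3137 (iv D4460)))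
theorem Q4399 : ∀ i, i < 4399 → P i := stepQ 4398 Q4398 (allL N4398 (tt N4398 F13786) (tt N5409 (iv F17154)) (tt N4401 (iv F13824)) (tt N3138 (iv D4461)) (tt N4400 (iv F13833)) (tt N3139 F13787) (tt N5876 D5945) (tt N4398 F13788))
theorem Q4400 : ∀ i, i < 4400 → P i := stepQ 4399 Q4399 (allL N4399 (tt N4399 F13789) (tt N5538 (iv F17580)) (tt N5856 (iv F18559)) (tt N5876 (iv F18625)) (tt N3143 F13790) (tt N5877 D5946) (tt N3138 (iv D4462)) (tt N5875 (iv F18623)))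
theorem Q4401 : ∀ i, i < 4401 → P i := stepQ 4400 Q4400 (allL N4400 (tt N4400 F13791) (tt N5386 (iv F17081)) (tt N3139 (iv D4463)) (tt N4407 (iv F13832)) (tt N4398 F13833) (tt N4401 F13834) (tt N5878 D5947) (tt N4400 F13792))
theorem Q4402 : ∀ i, i < 4402 → P i := stepQ 4401 Q4401 (allL N4401 (tt N4401 F13793) (tt N3161 F13794) (tt N4398 F13824) (tt N3145 F13795) (tt N3139 (iv D4464)) (tt N4400 (iv F13834)) (tt N5879 D5948) (tt N4401 F13796))
theorem Q4403 : ∀ i, i < 4403 → P i := stepQ 4402 Q4402 (allL N4402 (tt N4402 F13797) (tt N3162 F13798) (tt N5878 (iv F18630)) (tt N3140 F13799) (tt N5879 (iv F18636)) (tt N5880 D5949) (tt N3139 (iv D4465)) (tt N5881 D5950))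
theorem Q4404 : ∀ i, i < 4404 → P i := stepQ 4403 Q4403 (allL N4403 (tt N4403 F13800) (tt N5882 D5951) (tt N5858 (iv F18565)) (tt N5880 (iv F18639)) (tt N3147 F13801) (tt N3140 (iv D4466)) (tt N5877 (iv F18628)) (tt N4403 F13802))
theorem Q4405 : ∀ i, i < 4405 → P i := stepQ 4404 Q4404 (allL N4404 (tt N4404 F13803) (tt N5541 (iv F17588)) (tt N5883 D5952) (tt N3141 (iv D4467)) (tt N5884 D5953) (tt N4404 F13804) (tt N5885 D5954) (tt N3148 F13805))
theorem Q4406 : ∀ i, i < 4406 → P i := stepQ 4405 Q4405 (allL N4405 (tt N4405 F13806) (tt N5542 (iv F17590)) (tt N5865 (iv F18589)) (tt N5885 (iv F18655)) (tt N5875 (iv F18622)) (tt N5886 D5955) (tt N3141 (iv D4468)) (tt N3143 F13807))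
theorem Q4407 : ∀ i, i < 4407 → P i := stepQ 4406 Q4406 (allL N4406 (tt N4406 F13808) (tt N4517 (iv F14196)) (tt N3142 (iv D4469)) (tt N4394 F13829) (tt N4385 (iv F13828)) (tt N3144 F13809) (tt N5887 D5956) (tt N3150 F13810))
theorem Q4408 : ∀ i, i < 4408 → P i := stepQ 4407 Q4407 (allL N4407 (tt N4407 F13811) (tt N5544 (iv F17595)) (tt N4385 (iv F13827)) (tt N4400 F13832) (tt N3142 (iv D4470)) (tt N3145 F13812) (tt N5888 D5957) (tt N3151 F13813))
theorem Q4409 : ∀ i, i < 4409 → P i := stepQ 4408 Q4408 (allL N4408 (tt N4408 F13814) (tt N5545 (iv F17599)) (tt N5887 (iv F18660)) (tt N3143 F13815) (tt N5888 (iv F18666)) (tt N5889 D5958) (tt N3142 (iv D4471)) (tt N5890 D5959))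
theorem Q4410 : ∀ i, i < 4410 → P i := stepQ 4409 Q4409 (allL N4409 (tt N4409 F13816) (tt N5891 D5960) (tt N5867 (iv F18594)) (tt N5889 (iv F18668)) (tt N5877 (iv F18627)) (tt N3143 (iv D4472)) (tt N3147 F13817) (tt N5886 (iv F18658)))
theorem Q4411 : ∀ i, i < 4411 → P i := stepQ 4410 Q4410 (allL N4410 (tt N5892 D5961) (tt N3144 (iv D4473)) (tt N3164 F13818) (tt N5868 (iv F18597)) (tt N5893 D5962) (tt N5894 D5963) (tt N5895 D5964) (tt N3154 F13819))
theorem Q4412 : ∀ i, i < 4412 → P i := stepQ 4411 Q4411 (allL N4411 (tt N4411 F13820) (tt N5893 (iv F18678)) (tt N3145 F13821) (tt N4384 (iv F13823)) (tt N3144 (iv D4474)) (tt N4385 F13826) (tt N5896 D5965) (tt N3155 F13822))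
theorem Q4413 : ∀ i, i < 4413 → P i := stepQ 4412 Q4412 (allL N4412 (tt N4412 F13835) (tt N5895 (iv F18689)) (tt N3146 F13836) (tt N5869 (iv F18604)) (tt N5896 (iv F18694)) (tt N5897 D5966) (tt N3144 (iv D4475)) (tt N5815 (iv F18423)))
theorem Q4414 : ∀ i, i < 4414 → P i := stepQ 4413 Q4413 (allL N4413 (tt N4413 F13837) (tt N3167 F13838) (tt N5896 (iv F18692)) (tt N5879 (iv F18635)) (tt N3146 F13839) (tt N5898 D5967) (tt N3145 (iv D4476)) (tt N3425 F13840))
theorem Q4415 : ∀ i, i < 4415 → P i := stepQ 4414 Q4414 (allL N4414 (tt N4414 F13841) (tt N5814 (iv F18417)) (tt N5897 (iv F18697)) (tt N3147 F13842) (tt N5898 (iv F18699)) (tt N3146 (iv D4477)) (tt N5889 (iv F18669)) (tt N5813 F18415))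
theorem Q4416 : ∀ i, i < 4416 → P i := stepQ 4415 Q4415 (allL N4415 (tt N5841 (iv F18500)) (tt N3147 (iv D4478)) (tt N5899 D5968) (tt N5814 F18419) (tt N5882 (iv F18645)) (tt N3168 F13843) (tt N5891 (iv F18672)) (tt N4415 F13844))
theorem Q4417 : ∀ i, i < 4417 → P i := stepQ 4416 Q4416 (allL N4416 (tt N4416 F13845) (tt N5900 D5969) (tt N3148 (iv D4479)) (tt N4416 F13846) (tt N5901 D5970) (tt N4416 F13847) (tt N5902 D5971) (tt N5883 (iv F18650)))
theorem Q4418 : ∀ i, i < 4418 → P i := stepQ 4417 Q4417 (allL N4417 (tt N4417 F13848) (tt N5555 (iv F17620)) (tt N5901 (iv F18705)) (tt N4417 F13849) (tt N3148 (iv D4480)) (tt N4417 F13850) (tt N5903 D5972) (tt N5884 (iv F18653)))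
theorem Q4419 : ∀ i, i < 4419 → P i := stepQ 4418 Q4418 (allL N4418 (tt N4418 F13851) (tt N3509 F13852) (tt N5902 (iv F18708)) (tt N3149 F13853) (tt N5903 (iv F18714)) (tt N3498 (iv F13854)) (tt N3148 (iv D4481)) (tt N5904 D5973))
theorem Q4420 : ∀ i, i < 4420 → P i := stepQ 4419 Q4419 (allL N4419 (tt N3562 (iv F13863)) (tt N3150 (iv D4482)) (tt N5556 (iv F17623)) (tt N4419 F13855) (tt N3555 F13862) (tt N3582 (iv F13864)) (tt N4696 F14702) (tt N4517 (iv F14198)))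
theorem Q4421 : ∀ i, i < 4421 → P i := stepQ 4420 Q4420 (allL N4420 (tt N4420 F13856) (tt N3555 (iv F13860)) (tt N3151 F13857) (tt N3554 (iv F13861)) (tt N3150 (iv D4483)) (tt N3155 F13858) (tt N4477 (iv F14071)) (tt N4385 F13859))
theorem Q4422 : ∀ i, i < 4422 → P i := stepQ 4421 Q4421 (allL N4421 (tt N4421 F13865) (tt N4696 (iv F14699)) (tt N3152 F13866) (tt N4421 F13867) (tt N4477 (iv F14070)) (tt N4476 F14066) (tt N3150 (iv D4484)) (tt N4810 (iv F15083)))
theorem Q4423 : ∀ i, i < 4423 → P i := stepQ 4422 Q4422 (allL N4422 (tt N4422 F13868) (tt N5559 (iv F17636)) (tt N4477 (iv F14068)) (tt N4422 F13869) (tt N3152 F13870) (tt N4475 F14059) (tt N3151 (iv D4485)) (tt N5905 D5974))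
theorem Q4424 : ∀ i, i < 4424 → P i := stepQ 4423 Q4423 (allL N4423 (tt N4423 F13871) (tt N3501 F13872) (tt N4476 (iv F14062)) (tt N3153 F13873) (tt N4475 F14058) (tt N3152 (iv D4486)) (tt N3158 F13874) (tt N4812 (iv F15089)))
theorem Q4425 : ∀ i, i < 4425 → P i := stepQ 4424 Q4424 (allL N4424 (tt N4424 F13875) (tt N5560 (iv F17641)) (tt N4810 F15084) (tt N5904 (iv F18718)) (tt N5905 (iv F18722)) (tt N4812 (iv F15088)) (tt N5890 (iv F18671)) (tt N3152 (iv D4487)))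
theorem Q4426 : ∀ i, i < 4426 → P i := stepQ 4425 Q4425 (allL N4425 (tt N3154 (iv D4488)) (tt N4425 F13876) (tt N3169 F13877) (tt N4425 F13878) (tt N5128 (iv F16153)) (tt N5127 F16147) (tt N4451 (iv F13970)) (tt N5892 (iv F18676)))
theorem Q4427 : ∀ i, i < 4427 → P i := stepQ 4426 Q4426 (allL N4426 (tt N5128 (iv F16149)) (tt N3155 F13879) (tt N3170 F13880) (tt N3576 (iv F13881)) (tt N3154 (iv D4489)) (tt N3577 (iv F13882)) (tt N4197 (iv F13883)) (tt N5893 (iv F18681)))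
theorem Q4428 : ∀ i, i < 4428 → P i := stepQ 4427 Q4427 (allL N4427 (tt N5127 (iv F16143)) (tt N3582 F13884) (tt N3171 F13885) (tt N4427 F13886) (tt N3577 F13887) (tt N3154 (iv D4490)) (tt N5906 D5975) (tt N5894 (iv F18688)))
theorem Q4429 : ∀ i, i < 4429 → P i := stepQ 4428 Q4428 (allL N4428 (tt N4451 (iv F13966)) (tt N3156 F13888) (tt N3172 F13889) (tt N4428 F13890) (tt N4197 F13891) (tt N4196 (iv F13892)) (tt N3154 (iv D4491)) (tt N5803 (iv F18383)))
theorem Q4430 : ∀ i, i < 4430 → P i := stepQ 4429 Q4429 (allL N4429 (tt N3995 F13893) (tt N3160 (iv D4492)) (tt N5386 (iv F17082)) (tt N3265 F13894) (tt N3989 F13895) (tt N4865 (iv F15268)) (tt N5907 D5976) (tt N4429 F13896))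
theorem Q4431 : ∀ i, i < 4431 → P i := stepQ 4430 Q4430 (allL N4430 (tt N3186 F13897) (tt N5907 (iv F18730)) (tt N3162 F13898) (tt N3266 F13899) (tt N3990 F13900) (tt N5908 D5977) (tt N3160 (iv D4493)) (tt N5909 D5978))
theorem Q4432 : ∀ i, i < 4432 → P i := stepQ 4431 Q4431 (allL N4431 (tt N3187 F13901) (tt N5879 (iv F18633)) (tt N3990 F13902) (tt N3167 F13903) (tt N3162 F13904) (tt N5808 (iv F18399)) (tt N3161 (iv D4494)) (tt N3432 (iv F13905)))
theorem Q4433 : ∀ i, i < 4433 → P i := stepQ 4432 Q4432 (allL N4432 (tt N3188 F13906) (tt N5910 D5979) (tt N5908 (iv F18734)) (tt N3163 F13907) (tt N5808 (iv F18398)) (tt N3162 (iv D4495)) (tt N5571 (iv F17680)) (tt N5911 D5980))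
theorem Q4434 : ∀ i, i < 4434 → P i := stepQ 4433 Q4433 (allL N4433 (tt N3189 F13908) (tt N5881 (iv F18641)) (tt N5909 (iv F18740)) (tt N4433 F13909) (tt N3432 F13910) (tt N5911 (iv F18749)) (tt N4433 F13911) (tt N3162 (iv D4496)))
theorem Q4435 : ∀ i, i < 4435 → P i := stepQ 4434 Q4434 (allL N4434 (tt N5844 (iv F18507)) (tt N3163 (iv D4497)) (tt N5912 D5981) (tt N5910 (iv F18744)) (tt N3168 F13912) (tt N5882 (iv F18646)) (tt N5573 (iv F17688)) (tt N4434 F13913))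
theorem Q4436 : ∀ i, i < 4436 → P i := stepQ 4435 Q4435 (allL N4435 (tt N3164 (iv D4498)) (tt N3190 F13914) (tt N5892 (iv F18674)) (tt N3269 F13915) (tt N4468 (iv F14030)) (tt N5913 D5982) (tt N5914 D5983) (tt N3169 F13916))
theorem Q4437 : ∀ i, i < 4437 → P i := stepQ 4436 Q4436 (allL N4436 (tt N4468 (iv F14028)) (tt N3165 F13917) (tt N5893 (iv F18679)) (tt N4156 F13918) (tt N3164 (iv D4499)) (tt N5915 D5984) (tt N5916 D5985) (tt N3170 F13919))
theorem Q4438 : ∀ i, i < 4438 → P i := stepQ 4437 Q4437 (allL N4437 (tt N5913 (iv F18754)) (tt N5574 (iv F17689)) (tt N5894 (iv F18685)) (tt N3270 F13920) (tt N5915 (iv F18765)) (tt N3164 (iv D4500)) (tt N5917 D5986) (tt N3171 F13921))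
theorem Q4439 : ∀ i, i < 4439 → P i := stepQ 4438 Q4438 (allL N4438 (tt N5914 (iv F18759)) (tt N3166 F13922) (tt N5895 (iv F18690)) (tt N3271 F13923) (tt N5916 (iv F18769)) (tt N5918 D5987) (tt N3164 (iv D4501)) (tt N5802 (iv F18379)))
theorem Q4440 : ∀ i, i < 4440 → P i := stepQ 4439 Q4439 (allL N4439 (tt N3192 F13924) (tt N5916 (iv F18767)) (tt N3167 F13925) (tt N4157 F13926) (tt N3166 F13927) (tt N5798 (iv F18368)) (tt N3165 (iv D4502)) (tt N3306 F13928))
theorem Q4441 : ∀ i, i < 4441 → P i := stepQ 4440 Q4440 (allL N4440 (tt N5843 (iv F18505)) (tt N3275 F13929) (tt N3168 (iv D4503)) (tt N5919 D5988) (tt N5912 (iv F18752)) (tt N5899 (iv F18701)) (tt N5581 (iv F17716)) (tt N4440 F13930))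
theorem Q4442 : ∀ i, i < 4442 → P i := stepQ 4441 Q4441 (allL N4441 (tt N3170 F13931) (tt N3193 F13932) (tt N5128 (iv F16151)) (tt N4445 (iv F13947)) (tt N3169 (iv D4504)) (tt N5126 F16142) (tt N4443 F13939) (tt N4468 (iv F14031)))
theorem Q4443 : ∀ i, i < 4443 → P i := stepQ 4442 Q4442 (allL N4442 (tt N3171 F13933) (tt N5920 D5989) (tt N5127 (iv F16145)) (tt N3176 F13934) (tt N5126 F16141) (tt N3169 (iv D4505)) (tt N5921 D5990) (tt N5913 (iv F18758)))
theorem Q4444 : ∀ i, i < 4444 → P i := stepQ 4443 Q4443 (allL N4443 (tt N4445 (iv F13944)) (tt N3173 F13935) (tt N4010 F13936) (tt N3170 (iv D4506)) (tt N3177 F13937) (tt N4011 (iv F13940)) (tt N4441 (iv F13939)) (tt N4335 F13938))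
theorem Q4445 : ∀ i, i < 4445 → P i := stepQ 4444 Q4444 (allL N4444 (tt N5126 (iv F16139)) (tt N5584 (iv F17725)) (tt N3577 F13941) (tt N4011 F13942) (tt N3171 F13943) (tt N3170 (iv D4507)) (tt N5922 D5991) (tt N5915 (iv F18766)))
theorem Q4446 : ∀ i, i < 4446 → P i := stepQ 4445 Q4445 (allL N4445 (tt N4443 F13944) (tt N3174 F13945) (tt N4197 F13946) (tt N4441 F13947) (tt N3172 F13948) (tt N4195 (iv F13950)) (tt N3170 (iv D4508)) (tt N3305 (iv F13949)))
theorem Q4447 : ∀ i, i < 4447 → P i := stepQ 4446 Q4446 (allL N4446 (tt N5921 (iv F18780)) (tt N5586 (iv F17733)) (tt N5906 (iv F18725)) (tt N3179 F13951) (tt N5922 (iv F18784)) (tt N5923 D5992) (tt N3171 (iv D4509)) (tt N5924 D5993))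
theorem Q4448 : ∀ i, i < 4448 → P i := stepQ 4447 Q4447 (allL N4447 (tt N4452 (iv F13972)) (tt N5788 (iv F18333)) (tt N4196 F13952) (tt N3180 F13953) (tt N4195 F13954) (tt N3172 (iv D4510)) (tt N5923 (iv F18789)) (tt N5787 F18331))
theorem Q4449 : ∀ i, i < 4449 → P i := stepQ 4448 Q4448 (allL N4448 (tt N3506 F13955) (tt N3185 F13956) (tt N3620 F13957) (tt N3175 (iv D4511)) (tt N3571 (iv F13960)) (tt N3502 F13958) (tt N3521 F13959) (tt N3785 (iv F13961)))
theorem Q4450 : ∀ i, i < 4450 → P i := stepQ 4449 Q4449 (allL N4449 (tt N5595 (iv F17764)) (tt N3176 (iv D4512)) (tt N5925 D5994) (tt N5920 (iv F18776)) (tt N4457 (iv F13989)) (tt N3196 F13962) (tt N5926 D5995) (tt N3280 F13963))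
theorem Q4451 : ∀ i, i < 4451 → P i := stepQ 4450 Q4450 (allL N4450 (tt N3179 F13964) (tt N5926 (iv F18794)) (tt N4450 F13965) (tt N5921 (iv F18781)) (tt N4455 (iv F13985)) (tt N4454 (iv F13982)) (tt N3176 (iv D4513)) (tt N5927 D5996))
theorem Q4452 : ∀ i, i < 4452 → P i := stepQ 4451 Q4451 (allL N4451 (tt N4428 F13966) (tt N4451 F13967) (tt N3177 (iv D4514)) (tt N4451 F13968) (tt N4010 F13969) (tt N4012 (iv F13971)) (tt N4425 F13970) (tt N5928 D5997))
theorem Q4453 : ∀ i, i < 4453 → P i := stepQ 4452 Q4452 (allL N4452 (tt N4447 F13972) (tt N5599 (iv F17773)) (tt N4012 F13973) (tt N3178 F13974) (tt N4011 F13975) (tt N3177 (iv D4515)) (tt N5929 D5998) (tt N5930 D5999))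
theorem Q4454 : ∀ i, i < 4454 → P i := stepQ 4453 Q4453 (allL N4453 (tt N4343 F13976) (tt N3181 F13977) (tt N5928 (iv F18800)) (tt N3285 F13978) (tt N4335 F13979) (tt N5930 (iv F18813)) (tt N5931 D6000) (tt N3177 (iv D4516)))
theorem Q4455 : ∀ i, i < 4455 → P i := stepQ 4454 Q4454 (allL N4454 (tt N4455 (iv F13983)) (tt N5601 (iv F17780)) (tt N4454 F13980) (tt N5929 (iv F18805)) (tt N3179 F13981) (tt N4450 F13982) (tt N3178 (iv D4517)) (tt N5932 D6001))
theorem Q4456 : ∀ i, i < 4456 → P i := stepQ 4455 Q4455 (allL N4455 (tt N4454 F13983) (tt N5933 D6002) (tt N4455 F13984) (tt N5923 (iv F18787)) (tt N4450 F13985) (tt N3179 (iv D4518)) (tt N3180 F13986) (tt N5934 D6003))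
theorem Q4457 : ∀ i, i < 4457 → P i := stepQ 4456 Q4456 (allL N4456 (tt N5927 (iv F18795)) (tt N5604 (iv F17785)) (tt N4456 F13987) (tt N5935 D6004) (tt N5932 (iv F18820)) (tt N5934 (iv F18828)) (tt N3289 F13988) (tt N3179 (iv D4519)))
theorem Q4458 : ∀ i, i < 4458 → P i := stepQ 4457 Q4457 (allL N4457 (tt N5792 (iv F18344)) (tt N3180 (iv D4520)) (tt N5936 D6005) (tt N5788 F18337) (tt N4449 F13989) (tt N3182 F13990) (tt N5933 (iv F18824)) (tt N4569 (iv F14327)))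
theorem Q4459 : ∀ i, i < 4459 → P i := stepQ 4458 Q4458 (allL N4458 (tt N3198 F13991) (tt N5931 (iv F18815)) (tt N4458 F13992) (tt N3292 F13993) (tt N4336 F13994) (tt N4604 (iv F14426)) (tt N3181 (iv D4521)) (tt N4467 (iv F14027)))
theorem Q4460 : ∀ i, i < 4460 → P i := stepQ 4459 Q4459 (allL N4459 (tt N5794 (iv F18350)) (tt N3183 F13995) (tt N3182 (iv D4522)) (tt N5937 D6006) (tt N4470 (iv F14039)) (tt N5936 (iv F18833)) (tt N5608 (iv F17794)) (tt N4606 (iv F14436)))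
theorem Q4461 : ∀ i, i < 4461 → P i := stepQ 4460 Q4460 (allL N4460 (tt N4478 (iv F14072)) (tt N5937 (iv F18834)) (tt N3185 F13996) (tt N3183 (iv D4523)) (tt N5938 D6007) (tt N4460 F13997) (tt N5611 (iv F17805)) (tt N5939 D6008))
theorem Q4462 : ∀ i, i < 4462 → P i := stepQ 4461 Q4461 (allL N4461 (tt N3185 F13998) (tt N4903 F15409) (tt N4478 (iv F14073)) (tt N3184 (iv D4524)) (tt N5940 D6009) (tt N4461 F13999) (tt N4938 (iv F15528)) (tt N5941 D6010))
theorem Q4463 : ∀ i, i < 4463 → P i := stepQ 4462 Q4462 (allL N4462 (tt N5940 (iv F18847)) (tt N3571 F14000) (tt N5938 (iv F18840)) (tt N4462 F14001) (tt N3185 (iv D4525)) (tt N4462 F14002) (tt N5613 (iv F17811)) (tt N3786 (iv F14003)))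
theorem Q4464 : ∀ i, i < 4464 → P i := stepQ 4463 Q4463 (allL N4463 (tt N5941 (iv F18852)) (tt N3785 F14004) (tt N5939 (iv F18844)) (tt N4463 F14005) (tt N3786 F14006) (tt N4463 F14007) (tt N5942 D6011) (tt N3185 (iv D4526)))
theorem Q4465 : ∀ i, i < 4465 → P i := stepQ 4464 Q4464 (allL N4464 (tt N5908 (iv F18733)) (tt N5506 (iv F17480)) (tt N3188 F14008) (tt N3297 F14009) (tt N3994 F14010) (tt N3186 (iv D4527)) (tt N3993 F14011) (tt N4038 F14012))
theorem Q4466 : ∀ i, i < 4466 → P i := stepQ 4465 Q4465 (allL N4465 (tt N5909 (iv F18739)) (tt N4000 F14013) (tt N3189 F14014) (tt N5491 (iv F17420)) (tt N3436 F14015) (tt N4038 F14016) (tt N4465 F14017) (tt N3186 (iv D4528)))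
theorem Q4467 : ∀ i, i < 4467 → P i := stepQ 4466 Q4466 (allL N4466 (tt N5911 (iv F18745)) (tt N5847 (iv F18517)) (tt N4038 F14018) (tt N4466 F14019) (tt N3435 F14020) (tt N3189 F14021) (tt N4037 F14022) (tt N3188 (iv D4529)))
theorem Q4468 : ∀ i, i < 4468 → P i := stepQ 4467 Q4467 (allL N4467 (tt N3191 F14023) (tt N5914 (iv F18760)) (tt N4467 F14024) (tt N3301 F14025) (tt N4469 (iv F14035)) (tt N4334 F14026) (tt N3190 (iv D4530)) (tt N4458 F14027))
theorem Q4469 : ∀ i, i < 4469 → P i := stepQ 4468 Q4468 (allL N4468 (tt N4436 F14028) (tt N3194 (iv D4531)) (tt N5943 D6012) (tt N3196 F14029) (tt N4435 F14030) (tt N5920 (iv F18778)) (tt N5944 D6013) (tt N4441 F14031))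
theorem Q4470 : ∀ i, i < 4470 → P i := stepQ 4469 Q4469 (allL N4469 (tt N3195 F14032) (tt N5944 (iv F18867)) (tt N4469 F14033) (tt N3197 F14034) (tt N4467 F14035) (tt N4136 F14036) (tt N3194 (iv D4532)) (tt N4336 F14037))
theorem Q4471 : ∀ i, i < 4471 → P i := stepQ 4470 Q4470 (allL N4470 (tt N5617 (iv F17821)) (tt N3200 F14038) (tt N3196 (iv D4533)) (tt N5945 D6014) (tt N4459 F14039) (tt N5925 (iv F18792)) (tt N5946 D6015) (tt N3311 F14040))
theorem Q4472 : ∀ i, i < 4472 → P i := stepQ 4471 Q4471 (allL N4471 (tt N5618 (iv F17824)) (tt N3197 F14041) (tt N5946 (iv F18876)) (tt N5944 (iv F18868)) (tt N4137 F14042) (tt N5947 D6016) (tt N3196 (iv D4534)) (tt N4559 (iv F14306)))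
theorem Q4473 : ∀ i, i < 4473 → P i := stepQ 4472 Q4472 (allL N4472 (tt N3208 F14043) (tt N5945 (iv F18871)) (tt N4472 F14044) (tt N3200 (iv D4535)) (tt N5948 D6017) (tt N4472 F14045) (tt N5949 D6018) (tt N5950 D6019))
theorem Q4474 : ∀ i, i < 4474 → P i := stepQ 4473 Q4473 (allL N4473 (tt N3209 F14046) (tt N5946 (iv F18875)) (tt N3201 F14047) (tt N5949 (iv F18886)) (tt N4140 F14048) (tt N5951 D6020) (tt N3200 (iv D4536)) (tt N4560 (iv F14308)))
theorem Q4475 : ∀ i, i < 4475 → P i := stepQ 4474 Q4474 (allL N4474 (tt N3210 F14049) (tt N3658 F14050) (tt N5951 (iv F18893)) (tt N4474 F14051) (tt N3659 F14052) (tt N3201 (iv D4537)) (tt N4474 F14053) (tt N4542 (iv F14267)))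
theorem Q4476 : ∀ i, i < 4476 → P i := stepQ 4475 Q4475 (allL N4475 (tt N4475 F14054) (tt N3727 F14055) (tt N3202 (iv D4538)) (tt N4475 F14056) (tt N4423 (iv F14058)) (tt N4422 (iv F14059)) (tt N3218 F14057) (tt N5701 (iv F18079)))
theorem Q4477 : ∀ i, i < 4477 → P i := stepQ 4476 Q4476 (allL N4476 (tt N4476 F14060) (tt N3204 F14061) (tt N4423 F14062) (tt N4476 F14063) (tt N3202 (iv D4539)) (tt N4421 (iv F14066)) (tt N3219 F14064) (tt N3474 F14065))
theorem Q4478 : ∀ i, i < 4478 → P i := stepQ 4477 Q4477 (allL N4477 (tt N4477 F14067) (tt N4899 (iv F15393)) (tt N4422 F14068) (tt N3203 F14069) (tt N4421 F14070) (tt N3202 (iv D4540)) (tt N4420 F14071) (tt N5222 (iv F16475)))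
theorem Q4479 : ∀ i, i < 4479 → P i := stepQ 4478 Q4478 (allL N4478 (tt N4460 F14072) (tt N5633 (iv F17865)) (tt N4461 F14073) (tt N3205 (iv D4541)) (tt N5952 D6021) (tt N4478 F14074) (tt N5953 D6022) (tt N5954 D6023))
theorem Q4480 : ∀ i, i < 4480 → P i := stepQ 4479 Q4479 (allL N4479 (tt N4140 F14075) (tt N5634 (iv F17866)) (tt N3206 F14076) (tt N5953 (iv F18902)) (tt N3209 F14077) (tt N5955 D6024) (tt N3205 (iv D4542)) (tt N5956 D6025))
theorem Q4481 : ∀ i, i < 4481 → P i := stepQ 4480 Q4480 (allL N4480 (tt N3659 F14078) (tt N3696 F14079) (tt N5955 (iv F18909)) (tt N3661 F14080) (tt N3210 F14081) (tt N3206 (iv D4543)) (tt N4480 F14082) (tt N5957 D6026))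
theorem Q4482 : ∀ i, i < 4482 → P i := stepQ 4481 Q4481 (allL N4481 (tt N4141 F14083) (tt N3207 F14084) (tt N5956 (iv F18914)) (tt N5398 (iv F17111)) (tt N3211 F14085) (tt N5957 (iv F18921)) (tt N3332 F14086) (tt N3206 (iv D4544)))
theorem Q4483 : ∀ i, i < 4483 → P i := stepQ 4482 Q4482 (allL N4482 (tt N5948 (iv F18880)) (tt N5359 (iv F16988)) (tt N4482 F14087) (tt N5952 (iv F18898)) (tt N3208 (iv D4545)) (tt N4482 F14088) (tt N5958 D6027) (tt N5357 F16984))
theorem Q4484 : ∀ i, i < 4484 → P i := stepQ 4483 Q4483 (allL N4483 (tt N5949 (iv F18884)) (tt N5638 (iv F17878)) (tt N4483 F14089) (tt N3209 F14090) (tt N5958 (iv F18923)) (tt N5959 D6028) (tt N3208 (iv D4546)) (tt N5960 D6029))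
theorem Q4485 : ∀ i, i < 4485 → P i := stepQ 4484 Q4484 (allL N4484 (tt N5950 (iv F18887)) (tt N5356 F16980) (tt N4484 F14091) (tt N3336 F14092) (tt N5357 (iv F16982)) (tt N4484 F14093) (tt N5961 D6030) (tt N3208 (iv D4547)))
theorem Q4486 : ∀ i, i < 4486 → P i := stepQ 4485 Q4485 (allL N4485 (tt N5951 (iv F18892)) (tt N5962 D6031) (tt N3210 F14094) (tt N5959 (iv F18925)) (tt N5955 (iv F18911)) (tt N3209 (iv D4548)) (tt N4485 F14095) (tt N5963 D6032))
theorem Q4487 : ∀ i, i < 4487 → P i := stepQ 4486 Q4486 (allL N4486 (tt N4560 (iv F14307)) (tt N5640 (iv F17881)) (tt N3211 F14096) (tt N5964 D6033) (tt N5956 (iv F18915)) (tt N5963 (iv F18932)) (tt N3338 F14097) (tt N3209 (iv D4549)))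
theorem Q4488 : ∀ i, i < 4488 → P i := stepQ 4487 Q4487 (allL N4487 (tt N3695 F14098) (tt N3210 (iv D4550)) (tt N5965 D6034) (tt N4487 F14099) (tt N3696 F14100) (tt N3212 F14101) (tt N4487 F14102) (tt N4691 (iv F14688)))
theorem Q4489 : ∀ i, i < 4489 → P i := stepQ 4488 Q4488 (allL N4488 (tt N4542 F14268) (tt N4691 (iv F14685)) (tt N5963 (iv F18931)) (tt N4543 (iv F14270)) (tt N5957 (iv F18920)) (tt N3211 F14103) (tt N5966 D6035) (tt N3210 (iv D4551)))
theorem Q4490 : ∀ i, i < 4490 → P i := stepQ 4489 Q4489 (allL N4489 (tt N3719 F14104) (tt N5644 (iv F17892)) (tt N3212 (iv D4552)) (tt N4665 (iv F14604)) (tt N3720 F14105) (tt N5965 (iv F18936)) (tt N3213 F14106) (tt N4704 (iv F14733)))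
theorem Q4491 : ∀ i, i < 4491 → P i := stepQ 4490 Q4490 (allL N4490 (tt N3741 F14107) (tt N5646 (iv F17901)) (tt N4490 F14108) (tt N4689 (iv F14684)) (tt N3734 F14109) (tt N3731 F14110) (tt N3215 (iv D4553)) (tt N5967 D6036))
theorem Q4492 : ∀ i, i < 4492 → P i := stepQ 4491 Q4491 (allL N4491 (tt N3217 F14111) (tt N4695 (iv F14695)) (tt N3224 F14112) (tt N4491 F14113) (tt N5511 (iv F17509)) (tt N5693 (iv F18054)) (tt N3216 (iv D4554)) (tt N4174 F14114))
theorem Q4493 : ∀ i, i < 4493 → P i := stepQ 4492 Q4492 (allL N4492 (tt N4492 F14115) (tt N3223 F14116) (tt N3913 F14117) (tt N5968 D6037) (tt N3221 F14118) (tt N4353 F14119) (tt N5969 D6038) (tt N3219 (iv D4555)))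
theorem Q4494 : ∀ i, i < 4494 → P i := stepQ 4493 Q4493 (allL N4493 (tt N4493 F14120) (tt N3224 F14121) (tt N4710 (iv F14748)) (tt N3234 F14122) (tt N5969 (iv F18954)) (tt N5970 D6039) (tt N3221 (iv D4556)) (tt N5700 (iv F18075)))
theorem Q4495 : ∀ i, i < 4495 → P i := stepQ 4494 Q4494 (allL N4494 (tt N3225 F14123) (tt N5968 (iv F18946)) (tt N5706 (iv F18099)) (tt N3223 (iv D4557)) (tt N3236 F14124) (tt N5650 (iv F17914)) (tt N5971 D6040) (tt N4494 F14125))
theorem Q4496 : ∀ i, i < 4496 → P i := stepQ 4495 Q4495 (allL N4495 (tt N3226 F14126) (tt N5969 (iv F18952)) (tt N5511 (iv F17507)) (tt N5971 (iv F18959)) (tt N3224 F14127) (tt N5696 (iv F18063)) (tt N3223 (iv D4558)) (tt N3475 F14128))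
theorem Q4497 : ∀ i, i < 4497 → P i := stepQ 4496 Q4496 (allL N4496 (tt N5971 (iv F18958)) (tt N4496 F14129) (tt N5729 (iv F18166)) (tt N3226 F14130) (tt N3240 F14131) (tt N5702 (iv F18082)) (tt N3225 (iv D4559)) (tt N3493 (iv F14132)))
theorem Q4498 : ∀ i, i < 4498 → P i := stepQ 4497 Q4497 (allL N4497 (tt N4497 F14133) (tt N4497 F14134) (tt N4497 F14135) (tt N3227 (iv D4560)) (tt N4497 F14136) (tt N5972 D6041) (tt N4497 F14137) (tt N4497 F14146))
theorem Q4499 : ∀ i, i < 4499 → P i := stepQ 4498 Q4498 (allL N4498 (tt N4498 F14138) (tt N4764 (iv F14931)) (tt N3230 F14139) (tt N5972 (iv F18964)) (tt N3228 F14140) (tt N3227 (iv D4561)) (tt N5973 D6042) (tt N4750 (iv F14886)))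
theorem Q4500 : ∀ i, i < 4500 → P i := stepQ 4499 Q4499 (allL N4499 (tt N4499 F14141) (tt N4499 F14142) (tt N3231 F14143) (tt N4499 F14145) (tt N3229 F14144) (tt N4750 (iv F14885)) (tt N5974 D6043) (tt N3227 (iv D4562)))
theorem Q4501 : ∀ i, i < 4501 → P i := stepQ 4500 Q4500 (allL N4500 (tt N4500 F14147) (tt N4767 (iv F14939)) (tt N3232 F14148) (tt N4500 F14149) (tt N5973 (iv F18969)) (tt N4500 F14150) (tt N3228 (iv D4563)) (tt N5975 D6044))
theorem Q4502 : ∀ i, i < 4502 → P i := stepQ 4501 Q4501 (allL N4501 (tt N4501 F14151) (tt N4501 F14152) (tt N3234 F14153) (tt N4713 (iv F14756)) (tt N5974 (iv F18975)) (tt N5976 D6045) (tt N3229 (iv D4564)) (tt N4501 F14154))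
theorem Q4503 : ∀ i, i < 4503 → P i := stepQ 4502 Q4502 (allL N4502 (tt N4502 F14155) (tt N5659 (iv F17946)) (tt N5973 (iv F18968)) (tt N4502 F14156) (tt N3232 F14157) (tt N4502 F14158) (tt N3230 (iv D4565)) (tt N5977 D6046))
theorem Q4504 : ∀ i, i < 4504 → P i := stepQ 4503 Q4503 (allL N4503 (tt N4503 F14159) (tt N5660 (iv F17951)) (tt N4750 (iv F14883)) (tt N5978 D6047) (tt N3233 F14160) (tt N3231 F14161) (tt N5979 D6048) (tt N3230 (iv D4566)))
theorem Q4505 : ∀ i, i < 4505 → P i := stepQ 4504 Q4504 (allL N4504 (tt N4504 F14162) (tt N3236 F14163) (tt N4504 F14164) (tt N3231 (iv D4567)) (tt N5968 (iv F18948)) (tt N5978 (iv F18989)) (tt N5980 D6049) (tt N4504 F14165))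
theorem Q4506 : ∀ i, i < 4506 → P i := stepQ 4505 Q4505 (allL N4505 (tt N4505 F14166) (tt N3237 F14167) (tt N5974 (iv F18973)) (tt N5980 (iv F18996)) (tt N3234 F14168) (tt N5981 D6050) (tt N3231 (iv D4568)) (tt N4505 F14169))
theorem Q4507 : ∀ i, i < 4507 → P i := stepQ 4506 Q4506 (allL N4506 (tt N4506 F14170) (tt N5663 (iv F17962)) (tt N5975 (iv F18978)) (tt N5855 (iv F18555)) (tt N5977 (iv F18984)) (tt N4506 F14171) (tt N5982 D6051) (tt N3232 (iv D4569)))
theorem Q4508 : ∀ i, i < 4508 → P i := stepQ 4507 Q4507 (allL N4507 (tt N4507 F14172) (tt N5664 (iv F17965)) (tt N4751 (iv F14889)) (tt N4748 (iv F14878)) (tt N5979 (iv F18992)) (tt N5983 D6052) (tt N3233 (iv D4570)) (tt N5982 (iv F19001)))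
theorem Q4509 : ∀ i, i < 4509 → P i := stepQ 4508 Q4508 (allL N4508 (tt N4508 F14173) (tt N5984 D6053) (tt N5976 (iv F18981)) (tt N5970 (iv F18957)) (tt N5981 (iv F18998)) (tt N3234 (iv D4571)) (tt N5983 (iv F19003)) (tt N4508 F14174))
theorem Q4510 : ∀ i, i < 4510 → P i := stepQ 4509 Q4509 (allL N4509 (tt N3239 F14175) (tt N4509 F14176) (tt N3236 (iv D4572)) (tt N4509 F14177) (tt N5706 F18101) (tt N5666 (iv F17970)) (tt N5985 D6054) (tt N4509 F14178))
theorem Q4511 : ∀ i, i < 4511 → P i := stepQ 4510 Q4510 (allL N4510 (tt N3240 F14179) (tt N5980 (iv F18994)) (tt N5985 (iv F19008)) (tt N3237 F14180) (tt N5971 (iv F18960)) (tt N5986 D6055) (tt N3236 (iv D4573)) (tt N5987 D6056))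
theorem Q4512 : ∀ i, i < 4512 → P i := stepQ 4511 Q4511 (allL N4511 (tt N3241 F14181) (tt N5988 D6057) (tt N4511 F14182) (tt N5986 (iv F19011)) (tt N3238 F14183) (tt N3237 (iv D4574)) (tt N5668 (iv F17977)) (tt N4511 F14184))
theorem Q4513 : ∀ i, i < 4513 → P i := stepQ 4512 Q4512 (allL N4512 (tt N5724 (iv F18147)) (tt N3238 (iv D4575)) (tt N5989 D6058) (tt N5699 F18070) (tt N5988 (iv F19016)) (tt N5984 (iv F19004)) (tt N5669 (iv F17979)) (tt N4512 F14185))
theorem Q4514 : ∀ i, i < 4514 → P i := stepQ 4513 Q4513 (allL N4513 (tt N5985 (iv F19006)) (tt N5850 (iv F18530)) (tt N3240 F14186) (tt N4513 F14187) (tt N5729 (iv F18168)) (tt N5990 D6059) (tt N3239 (iv D4576)) (tt N5991 D6060))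
theorem Q4515 : ∀ i, i < 4515 → P i := stepQ 4514 Q4514 (allL N4514 (tt N5986 (iv F19010)) (tt N5735 (iv F18185)) (tt N5990 (iv F19020)) (tt N3241 F14188) (tt N5702 (iv F18081)) (tt N3240 (iv D4577)) (tt N5670 (iv F17982)) (tt N5992 D6061))
theorem Q4516 : ∀ i, i < 4516 → P i := stepQ 4515 Q4515 (allL N4515 (tt N5987 (iv F19012)) (tt N4515 F14189) (tt N5991 (iv F19023)) (tt N4515 F14190) (tt N3493 F14191) (tt N5992 (iv F19030)) (tt N4515 F14192) (tt N3240 (iv D4578)))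
theorem Q4517 : ∀ i, i < 4517 → P i := stepQ 4516 Q4516 (allL N4516 (tt N3351 F14193) (tt N5993 D6062) (tt N3242 (iv D4579)) (tt N3252 F14194) (tt N5994 D6063) (tt N4919 (iv F15466)) (tt N5995 D6064) (tt N4898 (iv F15391)))
theorem Q4518 : ∀ i, i < 4518 → P i := stepQ 4517 Q4517 (allL N4517 (tt N3352 F14195) (tt N4406 F14196) (tt N5994 (iv F19038)) (tt N3249 F14197) (tt N3242 (iv D4580)) (tt N4920 (iv F15470)) (tt N5996 D6065) (tt N4419 F14198))
theorem Q4519 : ∀ i, i < 4519 → P i := stepQ 4518 Q4518 (allL N4518 (tt N3353 F14199) (tt N5857 (iv F18562)) (tt N5995 (iv F19043)) (tt N3243 F14200) (tt N5996 (iv F19048)) (tt N5221 (iv F16469)) (tt N3242 (iv D4581)) (tt N5220 F16467))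
theorem Q4520 : ∀ i, i < 4520 → P i := stepQ 4519 Q4519 (allL N4519 (tt N3354 F14201) (tt N5997 D6066) (tt N3254 F14202) (tt N5221 F16470) (tt N3251 F14203) (tt N3243 (iv D4582)) (tt N4922 (iv F15477)) (tt N4519 F14204))
theorem Q4521 : ∀ i, i < 4521 → P i := stepQ 4520 Q4520 (allL N4520 (tt N3245 F14205) (tt N3355 F14206) (tt N5515 (iv F17523)) (tt N4184 (iv F14208)) (tt N3759 F14207) (tt N5860 (iv F18576)) (tt N5998 D6067) (tt N3244 (iv D4583)))
theorem Q4522 : ∀ i, i < 4522 → P i := stepQ 4521 Q4521 (allL N4521 (tt N4184 F14209) (tt N3246 F14210) (tt N4183 (iv F14212)) (tt N3245 (iv D4584)) (tt N5123 (iv F16132)) (tt N5862 (iv F18581)) (tt N5999 D6068) (tt N4521 F14211))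
theorem Q4523 : ∀ i, i < 4523 → P i := stepQ 4522 Q4522 (allL N4522 (tt N5998 (iv F19052)) (tt N3247 F14213) (tt N5740 (iv F18204)) (tt N5999 (iv F19059)) (tt N4917 (iv F15459)) (tt N6000 D6069) (tt N3245 (iv D4585)) (tt N4979 (iv F15653)))
theorem Q4524 : ∀ i, i < 4524 → P i := stepQ 4523 Q4523 (allL N4523 (tt N3357 F14214) (tt N5999 (iv F19057)) (tt N5091 (iv F16005)) (tt N3247 F14215) (tt N5092 (iv F16012)) (tt N6001 D6070) (tt N3246 (iv D4586)) (tt N6002 D6071))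
theorem Q4525 : ∀ i, i < 4525 → P i := stepQ 4524 Q4524 (allL N4524 (tt N3358 F14216) (tt N6003 D6072) (tt N3257 F14217) (tt N6001 (iv F19062)) (tt N4922 (iv F15476)) (tt N3247 (iv D4587)) (tt N3251 F14218) (tt N4996 (iv F15690)))
theorem Q4526 : ∀ i, i < 4526 → P i := stepQ 4525 Q4525 (allL N4525 (tt N4192 F14219) (tt N3248 (iv D4588)) (tt N5868 (iv F18596)) (tt N3258 F14220) (tt N5113 (iv F16089)) (tt N4188 F14221) (tt N6004 D6073) (tt N4525 F14222))
theorem Q4527 : ∀ i, i < 4527 → P i := stepQ 4526 Q4526 (allL N4526 (tt N3359 F14223) (tt N6004 (iv F19073)) (tt N3250 F14224) (tt N3259 F14225) (tt N5120 (iv F16118)) (tt N6005 D6074) (tt N3248 (iv D4589)) (tt N6006 D6075))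
theorem Q4528 : ∀ i, i < 4528 → P i := stepQ 4527 Q4527 (allL N4527 (tt N3360 F14226) (tt N5870 (iv F18607)) (tt N5120 (iv F16116)) (tt N5996 (iv F19047)) (tt N3250 F14227) (tt N6007 D6076) (tt N3249 (iv D4590)) (tt N6008 D6077))
theorem Q4529 : ∀ i, i < 4529 → P i := stepQ 4528 Q4528 (allL N4528 (tt N3361 F14228) (tt N6009 D6078) (tt N6005 (iv F19076)) (tt N3251 F14229) (tt N6007 (iv F19088)) (tt N3250 (iv D4591)) (tt N6001 (iv F19064)) (tt N6010 D6079))
theorem Q4530 : ∀ i, i < 4530 → P i := stepQ 4529 Q4529 (allL N4529 (tt N3362 F14230) (tt N5872 (iv F18613)) (tt N6006 (iv F19082)) (tt N4529 F14231) (tt N6008 (iv F19094)) (tt N6010 (iv F19102)) (tt N4529 F14232) (tt N3250 (iv D4592)))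
theorem Q4531 : ∀ i, i < 4531 → P i := stepQ 4530 Q4530 (allL N4530 (tt N6011 D6080) (tt N3251 (iv D4593)) (tt N6012 D6081) (tt N6009 (iv F19097)) (tt N5997 (iv F19050)) (tt N5873 (iv F18616)) (tt N6003 (iv F19071)) (tt N4530 F14233))
theorem Q4532 : ∀ i, i < 4532 → P i := stepQ 4531 Q4531 (allL N4531 (tt N6013 D6082) (tt N3252 (iv D4594)) (tt N3265 F14234) (tt N5993 (iv F19032)) (tt N5191 (iv F16361)) (tt N6014 D6083) (tt N6015 D6084) (tt N3346 F14235))
theorem Q4533 : ∀ i, i < 4533 → P i := stepQ 4532 Q4532 (allL N4532 (tt N3365 F14236) (tt N6015 (iv F19115)) (tt N3253 F14237) (tt N5995 (iv F19044)) (tt N4936 (iv F15518)) (tt N6016 D6085) (tt N3252 (iv D4595)) (tt N4934 (iv F15513)))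
theorem Q4534 : ∀ i, i < 4534 → P i := stepQ 4533 Q4533 (allL N4533 (tt N3366 F14238) (tt N6017 D6086) (tt N6016 (iv F19118)) (tt N3254 F14239) (tt N4939 (iv F15531)) (tt N3253 (iv D4596)) (tt N5177 (iv F16325)) (tt N4937 (iv F15524)))
theorem Q4535 : ∀ i, i < 4535 → P i := stepQ 4534 Q4534 (allL N4534 (tt N6018 D6087) (tt N3254 (iv D4597)) (tt N6019 D6088) (tt N6017 (iv F19119)) (tt N3261 F14240) (tt N3268 F14241) (tt N5179 (iv F16332)) (tt N4534 F14242))
theorem Q4536 : ∀ i, i < 4536 → P i := stepQ 4535 Q4535 (allL N4535 (tt N3368 F14243) (tt N5623 (iv F17837)) (tt N3256 F14244) (tt N5091 (iv F16006)) (tt N5286 (iv F16712)) (tt N6020 D6089) (tt N3255 (iv D4598)) (tt N4535 F14245))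
theorem Q4537 : ∀ i, i < 4537 → P i := stepQ 4536 Q4536 (allL N4536 (tt N3369 F14246) (tt N6021 D6090) (tt N6020 (iv F19129)) (tt N3257 F14247) (tt N5029 (iv F15781)) (tt N3256 (iv D4599)) (tt N3260 F14248) (tt N4536 F14249))
theorem Q4538 : ∀ i, i < 4538 → P i := stepQ 4537 Q4537 (allL N4537 (tt N6022 D6091) (tt N3257 (iv D4600)) (tt N6023 D6092) (tt N6021 (iv F19133)) (tt N5179 (iv F16331)) (tt N5755 (iv F18237)) (tt N3261 F14250) (tt N5266 (iv F16641)))
theorem Q4539 : ∀ i, i < 4539 → P i := stepQ 4538 Q4538 (allL N4538 (tt N3258 (iv D4601)) (tt N3371 F14251) (tt N3269 F14252) (tt N4192 F14253) (tt N5280 (iv F16691)) (tt N4191 (iv F14255)) (tt N6024 D6093) (tt N3263 F14254))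
theorem Q4540 : ∀ i, i < 4540 → P i := stepQ 4539 Q4539 (allL N4539 (tt N4191 F14256) (tt N4189 F14257) (tt N3270 F14258) (tt N4188 F14259) (tt N5284 (iv F16703)) (tt N3258 (iv D4602)) (tt N6025 D6094) (tt N3264 F14260))
theorem Q4541 : ∀ i, i < 4541 → P i := stepQ 4540 Q4540 (allL N4540 (tt N6024 (iv F19141)) (tt N3259 F14261) (tt N3271 F14262) (tt N6004 (iv F19074)) (tt N5021 (iv F15757)) (tt N6026 D6095) (tt N3258 (iv D4603)) (tt N5018 (iv F15751)))
theorem Q4542 : ∀ i, i < 4542 → P i := stepQ 4541 Q4541 (allL N4541 (tt N3373 F14263) (tt N6027 D6096) (tt N3260 F14264) (tt N6005 (iv F19077)) (tt N5025 (iv F15770)) (tt N3259 (iv D4604)) (tt N6020 (iv F19131)) (tt N5023 (iv F15766)))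
theorem Q4543 : ∀ i, i < 4543 → P i := stepQ 4542 Q4542 (allL N4542 (tt N4488 (iv F14268)) (tt N3260 (iv D4605)) (tt N6028 D6097) (tt N3261 F14265) (tt N5028 (iv F15778)) (tt N3273 F14266) (tt N6021 (iv F19134)) (tt N4474 F14267))
theorem Q4544 : ∀ i, i < 4544 → P i := stepQ 4543 Q4543 (allL N4543 (tt N3261 (iv D4606)) (tt N3375 F14269) (tt N6029 D6098) (tt N4488 F14270) (tt N6018 (iv F19122)) (tt N3274 F14271) (tt N6022 (iv F19139)) (tt N4543 F14272))
theorem Q4545 : ∀ i, i < 4545 → P i := stepQ 4544 Q4544 (allL N4544 (tt N6029 (iv F19153)) (tt N6012 (iv F19106)) (tt N3261 (iv D4607)) (tt N6030 D6099) (tt N6019 (iv F19125)) (tt N3275 F14273) (tt N6023 (iv F19140)) (tt N4544 F14274))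
theorem Q4546 : ∀ i, i < 4546 → P i := stepQ 4545 Q4545 (allL N4545 (tt N4190 F14275) (tt N3264 F14276) (tt N5469 (iv F17338)) (tt N4545 F14277) (tt N4830 F15150) (tt N3262 (iv D4608)) (tt N6031 D6100) (tt N4189 F14278))
theorem Q4547 : ∀ i, i < 4547 → P i := stepQ 4546 Q4546 (allL N4546 (tt N3264 F14279) (tt N4193 F14280) (tt N3276 F14281) (tt N4546 F14282) (tt N5279 (iv F16686)) (tt N3263 (iv D4609)) (tt N6032 D6101) (tt N4191 F14283))
theorem Q4548 : ∀ i, i < 4548 → P i := stepQ 4547 Q4547 (allL N4547 (tt N6032 (iv F19163)) (tt N6031 (iv F19158)) (tt N3277 F14284) (tt N4547 F14285) (tt N5282 (iv F16698)) (tt N5281 (iv F16696)) (tt N3264 (iv D4610)) (tt N6033 D6102))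
theorem Q4549 : ∀ i, i < 4549 → P i := stepQ 4548 Q4548 (allL N4548 (tt N3265 (iv D4611)) (tt N3295 F14286) (tt N6013 (iv F19109)) (tt N3995 F14287) (tt N4172 F14288) (tt N4863 (iv F15259)) (tt N6034 D6103) (tt N3347 F14289))
theorem Q4550 : ∀ i, i < 4550 → P i := stepQ 4549 Q4549 (allL N4549 (tt N4863 F15261) (tt N4877 (iv F15304)) (tt N6014 (iv F19112)) (tt N4865 (iv F15267)) (tt N5687 (iv F18030)) (tt N3265 (iv D4612)) (tt N6035 D6104) (tt N3348 F14290))
theorem Q4551 : ∀ i, i < 4551 → P i := stepQ 4550 Q4550 (allL N4550 (tt N6034 (iv F19169)) (tt N3266 F14291) (tt N6015 (iv F19116)) (tt N5907 (iv F18731)) (tt N5459 (iv F17304)) (tt N6036 D6105) (tt N3265 (iv D4613)) (tt N5456 (iv F17301)))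
theorem Q4552 : ∀ i, i < 4552 → P i := stepQ 4551 Q4551 (allL N4551 (tt N3297 F14292) (tt N6037 D6106) (tt N3267 F14293) (tt N5908 (iv F18735)) (tt N5463 (iv F17317)) (tt N3266 (iv D4614)) (tt N5768 (iv F18277)) (tt N5461 (iv F17313)))
theorem Q4553 : ∀ i, i < 4553 → P i := stepQ 4552 Q4552 (allL N4552 (tt N6038 D6107) (tt N3267 (iv D4615)) (tt N6039 D6108) (tt N3268 F14294) (tt N5466 (iv F17329)) (tt N6017 (iv F19120)) (tt N5769 (iv F18280)) (tt N5464 (iv F17323)))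
theorem Q4554 : ∀ i, i < 4554 → P i := stepQ 4553 Q4553 (allL N4553 (tt N3268 (iv D4616)) (tt N3299 F14295) (tt N6040 D6109) (tt N6038 (iv F19174)) (tt N3274 F14296) (tt N6018 (iv F19123)) (tt N4649 (iv F14561)) (tt N4553 F14297))
theorem Q4555 : ∀ i, i < 4555 → P i := stepQ 4554 Q4554 (allL N4554 (tt N6040 (iv F19177)) (tt N5912 (iv F18751)) (tt N3268 (iv D4617)) (tt N6041 D6110) (tt N3275 F14298) (tt N6019 (iv F19126)) (tt N5770 (iv F18283)) (tt N4554 F14299))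
theorem Q4556 : ∀ i, i < 4556 → P i := stepQ 4555 Q4555 (allL N4555 (tt N3270 F14300) (tt N4195 F14301) (tt N4191 F14302) (tt N5913 (iv F18757)) (tt N5788 (iv F18335)) (tt N3269 (iv D4618)) (tt N6042 D6111) (tt N3276 F14303))
theorem Q4557 : ∀ i, i < 4557 → P i := stepQ 4556 Q4556 (allL N4556 (tt N3271 F14304) (tt N3301 F14305) (tt N6024 (iv F19143)) (tt N5914 (iv F18761)) (tt N5590 (iv F17744)) (tt N6043 D6112) (tt N3269 (iv D4619)) (tt N5594 (iv F17763)))
theorem Q4558 : ∀ i, i < 4558 → P i := stepQ 4557 Q4557 (allL N4557 (tt N6042 (iv F19180)) (tt N5774 (iv F18298)) (tt N6025 (iv F19147)) (tt N5917 (iv F18771)) (tt N5793 (iv F18349)) (tt N6044 D6113) (tt N3270 (iv D4620)) (tt N6045 D6114))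
theorem Q4559 : ∀ i, i < 4559 → P i := stepQ 4558 Q4558 (allL N4558 (tt N6043 (iv F19183)) (tt N6046 D6115) (tt N6026 (iv F19149)) (tt N5918 (iv F18772)) (tt N5606 (iv F17788)) (tt N3271 (iv D4621)) (tt N6044 (iv F19184)) (tt N5602 (iv F17783)))
theorem Q4560 : ∀ i, i < 4560 → P i := stepQ 4559 Q4559 (allL N4559 (tt N6047 D6116) (tt N3272 (iv D4622)) (tt N6048 D6117) (tt N5801 F18376) (tt N5609 (iv F17796)) (tt N6046 (iv F19186)) (tt N4612 (iv F14451)) (tt N4471 F14306))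
theorem Q4561 : ∀ i, i < 4561 → P i := stepQ 4560 Q4560 (allL N4560 (tt N4486 F14307) (tt N6048 (iv F19192)) (tt N3273 (iv D4623)) (tt N6049 D6118) (tt N5612 (iv F17807)) (tt N6028 (iv F19151)) (tt N4624 (iv F14493)) (tt N4473 F14308))
theorem Q4562 : ∀ i, i < 4562 → P i := stepQ 4561 Q4561 (allL N4561 (tt N3275 F14309) (tt N6050 D6119) (tt N3274 (iv D4624)) (tt N6051 D6120) (tt N6040 (iv F19178)) (tt N6029 (iv F19154)) (tt N4648 (iv F14557)) (tt N4561 F14310))
theorem Q4563 : ∀ i, i < 4563 → P i := stepQ 4562 Q4562 (allL N4562 (tt N6051 (iv F19198)) (tt N5919 (iv F18773)) (tt N6049 (iv F19195)) (tt N3275 (iv D4625)) (tt N6052 D6121) (tt N6030 (iv F19156)) (tt N5776 (iv F18299)) (tt N6053 D6122))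
theorem Q4564 : ∀ i, i < 4564 → P i := stepQ 4563 Q4563 (allL N4563 (tt N5433 (iv F17226)) (tt N3276 (iv D4626)) (tt N4198 F14311) (tt N3280 F14312) (tt N5787 (iv F18329)) (tt N3305 F14313) (tt N6054 D6123) (tt N4195 F14314))
theorem Q4565 : ∀ i, i < 4565 → P i := stepQ 4564 Q4564 (allL N4564 (tt N3277 F14315) (tt N6054 (iv F19201)) (tt N6032 (iv F19165)) (tt N3281 F14316) (tt N5785 (iv F18325)) (tt N5783 (iv F18321)) (tt N3276 (iv D4627)) (tt N6055 D6124))
theorem Q4566 : ∀ i, i < 4566 → P i := stepQ 4565 Q4565 (allL N4565 (tt N6055 (iv F19204)) (tt N5781 (iv F18313)) (tt N6033 (iv F19168)) (tt N6056 D6125) (tt N5790 (iv F18341)) (tt N5789 (iv F18340)) (tt N6045 (iv F19185)) (tt N3277 (iv D4628)))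
theorem Q4567 : ∀ i, i < 4567 → P i := stepQ 4566 Q4566 (allL N4566 (tt N3283 F14317) (tt N4566 F14318) (tt N3278 (iv D4629)) (tt N4566 F14319) (tt N5763 (iv F18260)) (tt N6057 D6126) (tt N4587 (iv F14371)) (tt N6058 D6127))
theorem Q4568 : ∀ i, i < 4568 → P i := stepQ 4567 Q4567 (allL N4567 (tt N3284 F14320) (tt N6059 D6128) (tt N6057 (iv F19207)) (tt N3279 F14321) (tt N5778 (iv F18304)) (tt N3278 (iv D4630)) (tt N6060 D6129) (tt N6061 D6130))
theorem Q4569 : ∀ i, i < 4569 → P i := stepQ 4568 Q4568 (allL N4568 (tt N3285 F14322) (tt N3308 F14323) (tt N6058 (iv F19211)) (tt N4343 F14324) (tt N4603 (iv F14421)) (tt N6061 (iv F19222)) (tt N6062 D6131) (tt N3278 (iv D4631)))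
theorem Q4570 : ∀ i, i < 4570 → P i := stepQ 4569 Q4569 (allL N4569 (tt N5782 (iv F18314)) (tt N3279 (iv D4632)) (tt N6063 D6132) (tt N6059 (iv F19213)) (tt N3280 F14325) (tt N3309 F14326) (tt N6064 D6133) (tt N4457 F14327))
theorem Q4571 : ∀ i, i < 4571 → P i := stepQ 4570 Q4570 (allL N4570 (tt N3286 F14328) (tt N6064 (iv F19231)) (tt N4570 F14329) (tt N6060 (iv F19217)) (tt N3281 F14330) (tt N4586 (iv F14366)) (tt N3279 (iv D4633)) (tt N6065 D6134))
theorem Q4572 : ∀ i, i < 4572 → P i := stepQ 4571 Q4571 (allL N4571 (tt N5424 (iv F17199)) (tt N4571 F14331) (tt N3280 (iv D4634)) (tt N4205 F14332) (tt N6063 (iv F19228)) (tt N3311 F14333) (tt N6066 D6135) (tt N5925 (iv F18793)))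
theorem Q4573 : ∀ i, i < 4573 → P i := stepQ 4572 Q4572 (allL N4572 (tt N5784 (iv F18322)) (tt N3281 F14334) (tt N6066 (iv F19238)) (tt N6054 (iv F19203)) (tt N6064 (iv F19232)) (tt N6067 D6136) (tt N3280 (iv D4635)) (tt N6068 D6137))
theorem Q4574 : ∀ i, i < 4574 → P i := stepQ 4573 Q4573 (allL N4573 (tt N3288 F14335) (tt N6069 D6138) (tt N4573 F14336) (tt N5783 (iv F18319)) (tt N4586 (iv F14365)) (tt N3281 (iv D4636)) (tt N3282 F14337) (tt N6070 D6139))
theorem Q4575 : ∀ i, i < 4575 → P i := stepQ 4574 Q4574 (allL N4574 (tt N3289 F14338) (tt N6068 (iv F19241)) (tt N4574 F14339) (tt N6071 D6140) (tt N6065 (iv F19235)) (tt N6070 (iv F19245)) (tt N5927 (iv F18797)) (tt N3281 (iv D4637)))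
theorem Q4576 : ∀ i, i < 4576 → P i := stepQ 4575 Q4575 (allL N4575 (tt N6059 (iv F19212)) (tt N3282 (iv D4638)) (tt N6072 D6141) (tt N5782 (iv F18315)) (tt N4579 (iv F14350)) (tt N3315 F14340) (tt N6069 (iv F19242)) (tt N4322 F14341))
theorem Q4577 : ∀ i, i < 4577 → P i := stepQ 4576 Q4576 (allL N4576 (tt N6057 (iv F19206)) (tt N4576 F14342) (tt N3284 F14343) (tt N4576 F14344) (tt N5766 (iv F18267)) (tt N3283 (iv D4639)) (tt N6073 D6142) (tt N6074 D6143))
theorem Q4578 : ∀ i, i < 4578 → P i := stepQ 4577 Q4577 (allL N4577 (tt N6058 (iv F19209)) (tt N3293 F14345) (tt N3285 F14346) (tt N6075 D6144) (tt N4614 (iv F14456)) (tt N6074 (iv F19256)) (tt N6076 D6145) (tt N3283 (iv D4640)))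
theorem Q4579 : ∀ i, i < 4579 → P i := stepQ 4578 Q4578 (allL N4578 (tt N6060 (iv F19216)) (tt N3288 F14347) (tt N6073 (iv F19251)) (tt N3286 F14348) (tt N5780 (iv F18311)) (tt N5779 (iv F18308)) (tt N3284 (iv D4641)) (tt N6077 D6146))
theorem Q4580 : ∀ i, i < 4580 → P i := stepQ 4579 Q4579 (allL N4579 (tt N6061 (iv F19218)) (tt N3290 F14349) (tt N6074 (iv F19254)) (tt N5930 (iv F18811)) (tt N4575 F14350) (tt N3285 F14351) (tt N6078 D6147) (tt N3284 (iv D4642)))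
theorem Q4581 : ∀ i, i < 4581 → P i := stepQ 4580 Q4580 (allL N4580 (tt N6062 (iv F19223)) (tt N3292 F14352) (tt N6076 (iv F19260)) (tt N5931 (iv F18816)) (tt N4613 (iv F14452)) (tt N6079 D6148) (tt N3285 (iv D4643)) (tt N5773 (iv F18297)))
theorem Q4582 : ∀ i, i < 4582 → P i := stepQ 4581 Q4581 (allL N4581 (tt N4586 (iv F14363)) (tt N5780 (iv F18309)) (tt N4581 F14353) (tt N5779 (iv F18306)) (tt N3288 F14354) (tt N3286 (iv D4644)) (tt N3287 F14355) (tt N6080 D6149))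
theorem Q4583 : ∀ i, i < 4583 → P i := stepQ 4582 Q4582 (allL N4582 (tt N6065 (iv F19233)) (tt N5789 (iv F18338)) (tt N4582 F14356) (tt N6081 D6150) (tt N3289 F14357) (tt N6080 (iv F19266)) (tt N5932 (iv F18822)) (tt N3286 (iv D4645)))
theorem Q4584 : ∀ i, i < 4584 → P i := stepQ 4583 Q4583 (allL N4583 (tt N6070 (iv F19243)) (tt N6077 (iv F19261)) (tt N4583 F14358) (tt N6082 D6151) (tt N6080 (iv F19265)) (tt N3289 F14359) (tt N6083 D6152) (tt N3288 (iv D4646)))
theorem Q4585 : ∀ i, i < 4585 → P i := stepQ 4584 Q4584 (allL N4584 (tt N6071 (iv F19246)) (tt N5791 (iv F18343)) (tt N6084 D6153) (tt N3289 (iv D4647)) (tt N6085 D6154) (tt N6082 (iv F19268)) (tt N5935 (iv F18829)) (tt N6056 (iv F19205)))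
theorem Q4586 : ∀ i, i < 4586 → P i := stepQ 4585 Q4585 (allL N4585 (tt N4320 F14360) (tt N5930 (iv F18809)) (tt N6086 D6155) (tt N3290 (iv D4648)) (tt N4318 F14361) (tt N3291 F14362) (tt N6087 D6156) (tt N5599 (iv F17777)))
theorem Q4587 : ∀ i, i < 4587 → P i := stepQ 4586 Q4586 (allL N4586 (tt N4581 F14363) (tt N6078 (iv F19262)) (tt N4586 F14364) (tt N6087 (iv F19282)) (tt N4573 F14365) (tt N4570 F14366) (tt N3290 (iv D4649)) (tt N6083 (iv F19273)))
theorem Q4588 : ∀ i, i < 4588 → P i := stepQ 4587 Q4587 (allL N4587 (tt N4305 F14367) (tt N4587 F14368) (tt N3291 (iv D4650)) (tt N4587 F14369) (tt N4304 F14370) (tt N6086 (iv F19279)) (tt N4566 F14371) (tt N5598 (iv F17771)))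
theorem Q4589 : ∀ i, i < 4589 → P i := stepQ 4588 Q4588 (allL N4588 (tt N4588 F14372) (tt N6075 (iv F19257)) (tt N4588 F14373) (tt N3293 (iv D4651)) (tt N6088 D6157) (tt N4588 F14374) (tt N6089 D6158) (tt N4588 F14375))
theorem Q4590 : ∀ i, i < 4590 → P i := stepQ 4589 Q4589 (allL N4589 (tt N4589 F14376) (tt N6076 (iv F19259)) (tt N3294 F14377) (tt N6089 (iv F19291)) (tt N4627 (iv F14505)) (tt N6090 D6159) (tt N3293 (iv D4652)) (tt N5759 (iv F18250)))
theorem Q4591 : ∀ i, i < 4591 → P i := stepQ 4590 Q4590 (allL N4590 (tt N4590 F14378) (tt N4617 (iv F14465)) (tt N6090 (iv F19293)) (tt N4590 F14379) (tt N4625 (iv F14496)) (tt N3294 (iv D4653)) (tt N4590 F14380) (tt N5761 (iv F18255)))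
theorem Q4592 : ∀ i, i < 4592 → P i := stepQ 4591 Q4591 (allL N4591 (tt N3296 F14381) (tt N6034 (iv F19170)) (tt N3410 F14382) (tt N3996 F14383) (tt N4173 F14384) (tt N5509 (iv F17498)) (tt N3295 (iv D4654)) (tt N5479 (iv F17374)))
theorem Q4593 : ∀ i, i < 4593 → P i := stepQ 4592 Q4592 (allL N4592 (tt N6091 D6160) (tt N3297 (iv D4655)) (tt N6092 D6161) (tt N5506 (iv F17481)) (tt N5399 F17116) (tt N5504 F17474) (tt N5505 (iv F17478)) (tt N5407 (iv F17149)))
theorem Q4594 : ∀ i, i < 4594 → P i := stepQ 4593 Q4593 (allL N4593 (tt N3298 (iv D4656)) (tt N6038 (iv F19173)) (tt N6093 D6162) (tt N3299 F14385) (tt N3975 F14386) (tt N3412 F14387) (tt N4637 (iv F14534)) (tt N3973 F14388))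
theorem Q4595 : ∀ i, i < 4595 → P i := stepQ 4594 Q4594 (allL N4594 (tt N6093 (iv F19299)) (tt N6092 (iv F19295)) (tt N3298 (iv D4657)) (tt N6094 D6163) (tt N3986 F14389) (tt N3413 F14390) (tt N4653 (iv F14573)) (tt N3984 F14391))
theorem Q4596 : ∀ i, i < 4596 → P i := stepQ 4595 Q4595 (allL N4595 (tt N3300 F14392) (tt N6095 D6164) (tt N3299 (iv D4658)) (tt N6096 D6165) (tt N3303 F14393) (tt N3414 F14394) (tt N4651 (iv F14568)) (tt N4595 F14395))
theorem Q4597 : ∀ i, i < 4597 → P i := stepQ 4596 Q4596 (allL N4596 (tt N6096 (iv F19308)) (tt N5849 (iv F18526)) (tt N6094 (iv F19303)) (tt N3300 (iv D4659)) (tt N6097 D6166) (tt N3415 F14396) (tt N4654 (iv F14576)) (tt N6098 D6167))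
theorem Q4598 : ∀ i, i < 4598 → P i := stepQ 4597 Q4597 (allL N4597 (tt N3302 (iv D4660)) (tt N6047 (iv F19188)) (tt N4116 F14397) (tt N3314 F14398) (tt N5591 (iv F17749)) (tt N4114 F14399) (tt N4342 F14400) (tt N4157 F14401))
theorem Q4599 : ∀ i, i < 4599 → P i := stepQ 4598 Q4598 (allL N4598 (tt N5845 (iv F18510)) (tt N3303 (iv D4661)) (tt N6050 (iv F19196)) (tt N6099 D6168) (tt N6095 (iv F19306)) (tt N6100 D6169) (tt N4650 (iv F14563)) (tt N4598 F14402))
theorem Q4600 : ∀ i, i < 4600 → P i := stepQ 4599 Q4599 (allL N4599 (tt N3304 F14403) (tt N6099 (iv F19319)) (tt N4149 F14404) (tt N3303 (iv D4662)) (tt N6101 D6170) (tt N3421 F14405) (tt N4372 F14406) (tt N3467 (iv F14407)))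
theorem Q4601 : ∀ i, i < 4601 → P i := stepQ 4600 Q4600 (allL N4600 (tt N6101 (iv F19324)) (tt N3345 F14408) (tt N4145 F14409) (tt N6097 (iv F19311)) (tt N3304 (iv D4663)) (tt N3422 F14410) (tt N4377 F14411) (tt N3468 F14412))
theorem Q4602 : ∀ i, i < 4602 → P i := stepQ 4601 Q4601 (allL N4601 (tt N5431 (iv F17220)) (tt N3424 F14413) (tt N3305 (iv D4664)) (tt N4209 (iv F14416)) (tt N5803 (iv F18381)) (tt N4198 F14414) (tt N6102 D6171) (tt N4197 F14415))
theorem Q4603 : ∀ i, i < 4603 → P i := stepQ 4602 Q4602 (allL N4602 (tt N5795 (iv F18353)) (tt N3306 F14417) (tt N6102 (iv F19330)) (tt N3312 F14418) (tt N5802 (iv F18377)) (tt N6103 D6172) (tt N3305 (iv D4665)) (tt N5916 (iv F18770)))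
theorem Q4604 : ∀ i, i < 4604 → P i := stepQ 4603 Q4603 (allL N4603 (tt N3315 F14419) (tt N3307 (iv D4666)) (tt N6104 D6173) (tt N3309 F14420) (tt N4568 F14421) (tt N6059 (iv F19214)) (tt N6105 D6174) (tt N4319 F14422))
theorem Q4605 : ∀ i, i < 4605 → P i := stepQ 4604 Q4604 (allL N4604 (tt N3316 F14423) (tt N6105 (iv F19338)) (tt N4604 F14424) (tt N3310 F14425) (tt N4605 (iv F14431)) (tt N4458 F14426) (tt N3307 (iv D4667)) (tt N4334 F14427))
theorem Q4606 : ∀ i, i < 4606 → P i := stepQ 4605 Q4605 (allL N4605 (tt N3317 F14428) (tt N6062 (iv F19224)) (tt N4605 F14429) (tt N4341 F14430) (tt N4604 F14431) (tt N4336 F14432) (tt N3308 (iv D4668)) (tt N4136 F14433))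
theorem Q4607 : ∀ i, i < 4607 → P i := stepQ 4606 Q4606 (allL N4606 (tt N5796 (iv F18356)) (tt N3319 F14434) (tt N3309 (iv D4669)) (tt N6106 D6175) (tt N3311 F14435) (tt N6063 (iv F19229)) (tt N6107 D6176) (tt N4459 F14436))
theorem Q4608 : ∀ i, i < 4608 → P i := stepQ 4607 Q4607 (allL N4607 (tt N5797 (iv F18360)) (tt N3310 F14437) (tt N6107 (iv F19344)) (tt N6105 (iv F19339)) (tt N3312 F14438) (tt N6108 D6177) (tt N3309 (iv D4670)) (tt N6109 D6178))
theorem Q4609 : ∀ i, i < 4609 → P i := stepQ 4608 Q4608 (allL N4608 (tt N3318 F14439) (tt N6109 (iv F19348)) (tt N3321 F14440) (tt N5589 (iv F17739)) (tt N3314 F14441) (tt N4316 F14442) (tt N4138 F14443) (tt N3310 (iv D4671)))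
theorem Q4610 : ∀ i, i < 4610 → P i := stepQ 4609 Q4609 (allL N4609 (tt N5423 (iv F17194)) (tt N3322 F14444) (tt N4209 F14445) (tt N3311 (iv D4672)) (tt N6110 D6179) (tt N4205 F14446) (tt N6111 D6180) (tt N4204 (iv F14447)))
theorem Q4611 : ∀ i, i < 4611 → P i := stepQ 4610 Q4610 (allL N4610 (tt N5799 (iv F18370)) (tt N3323 F14448) (tt N3312 F14449) (tt N6111 (iv F19357)) (tt N6107 (iv F19345)) (tt N6112 D6181) (tt N3311 (iv D4673)) (tt N6113 D6182))
theorem Q4612 : ∀ i, i < 4612 → P i := stepQ 4611 Q4611 (allL N4611 (tt N5800 (iv F18373)) (tt N6114 D6183) (tt N6112 (iv F19358)) (tt N6103 (iv F19332)) (tt N6108 (iv F19347)) (tt N3312 (iv D4674)) (tt N6067 (iv F19240)) (tt N6115 D6184))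
theorem Q4613 : ∀ i, i < 4613 → P i := stepQ 4612 Q4612 (allL N4612 (tt N5801 (iv F18374)) (tt N3314 F14450) (tt N6113 (iv F19360)) (tt N6047 (iv F19189)) (tt N6109 (iv F19349)) (tt N6115 (iv F19366)) (tt N4559 F14451) (tt N3312 (iv D4675)))
theorem Q4614 : ∀ i, i < 4614 → P i := stepQ 4613 Q4613 (allL N4613 (tt N6105 (iv F19337)) (tt N3313 (iv D4676)) (tt N6116 D6185) (tt N5797 (iv F18362)) (tt N4580 F14452) (tt N6114 (iv F19363)) (tt N3315 F14453) (tt N4315 F14454))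
theorem Q4615 : ∀ i, i < 4615 → P i := stepQ 4614 Q4614 (allL N4614 (tt N6104 (iv F19333)) (tt N3327 F14455) (tt N3315 (iv D4677)) (tt N6117 D6186) (tt N4577 F14456) (tt N6072 (iv F19248)) (tt N6116 (iv F19369)) (tt N4307 F14457))
theorem Q4616 : ∀ i, i < 4616 → P i := stepQ 4615 Q4615 (allL N4615 (tt N3329 F14458) (tt N6106 (iv F19342)) (tt N4615 F14459) (tt N3319 (iv D4678)) (tt N6118 D6187) (tt N4615 F14460) (tt N6119 D6188) (tt N6120 D6189))
theorem Q4617 : ∀ i, i < 4617 → P i := stepQ 4616 Q4616 (allL N4616 (tt N3330 F14461) (tt N6107 (iv F19343)) (tt N3320 F14462) (tt N6119 (iv F19378)) (tt N3323 F14463) (tt N6121 D6190) (tt N3319 (iv D4679)) (tt N6122 D6191))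
theorem Q4618 : ∀ i, i < 4618 → P i := stepQ 4617 Q4617 (allL N4617 (tt N3331 F14464) (tt N4590 F14465) (tt N6121 (iv F19384)) (tt N4617 F14466) (tt N3324 F14467) (tt N3320 (iv D4680)) (tt N4617 F14468) (tt N6123 D6192))
theorem Q4619 : ∀ i, i < 4619 → P i := stepQ 4618 Q4618 (allL N4618 (tt N3332 F14469) (tt N3321 F14470) (tt N6122 (iv F19388)) (tt N6124 D6193) (tt N3325 F14471) (tt N6123 (iv F19394)) (tt N4141 F14472) (tt N3320 (iv D4681)))
theorem Q4620 : ∀ i, i < 4620 → P i := stepQ 4619 Q4619 (allL N4619 (tt N3328 F14473) (tt N6124 (iv F19396)) (tt N5592 (iv F17753)) (tt N3321 (iv D4682)) (tt N4310 F14474) (tt N4240 F14475) (tt N4033 F14476) (tt N4619 F14477))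
theorem Q4621 : ∀ i, i < 4621 → P i := stepQ 4620 Q4620 (allL N4620 (tt N3334 F14478) (tt N6110 (iv F19351)) (tt N3437 F14479) (tt N6118 (iv F19374)) (tt N3322 (iv D4683)) (tt N4620 F14480) (tt N6125 D6194) (tt N6126 D6195))
theorem Q4622 : ∀ i, i < 4622 → P i := stepQ 4621 Q4621 (allL N4621 (tt N3335 F14481) (tt N6111 (iv F19355)) (tt N3438 F14482) (tt N3323 F14483) (tt N6125 (iv F19402)) (tt N6127 D6196) (tt N3322 (iv D4684)) (tt N6128 D6197))
theorem Q4623 : ∀ i, i < 4623 → P i := stepQ 4622 Q4622 (allL N4622 (tt N3336 F14484) (tt N4204 F14485) (tt N3439 F14486) (tt N5950 (iv F18890)) (tt N6126 (iv F19406)) (tt N4622 F14487) (tt N6129 D6198) (tt N3322 (iv D4685)))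
theorem Q4624 : ∀ i, i < 4624 → P i := stepQ 4623 Q4623 (allL N4623 (tt N3337 F14488) (tt N6130 D6199) (tt N3324 F14489) (tt N6127 (iv F19410)) (tt N6121 (iv F19385)) (tt N3323 (iv D4686)) (tt N4623 F14490) (tt N6131 D6200))
theorem Q4625 : ∀ i, i < 4625 → P i := stepQ 4624 Q4624 (allL N4624 (tt N3338 F14491) (tt N6113 (iv F19359)) (tt N3325 F14492) (tt N6132 D6201) (tt N6122 (iv F19389)) (tt N6131 (iv F19420)) (tt N4560 F14493) (tt N3323 (iv D4687)))
theorem Q4626 : ∀ i, i < 4626 → P i := stepQ 4625 Q4625 (allL N4625 (tt N4625 F14494) (tt N3324 (iv D4688)) (tt N6133 D6202) (tt N3442 F14495) (tt N4590 F14496) (tt N3326 F14497) (tt N4625 F14498) (tt N4301 (iv F14499)))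
theorem Q4627 : ∀ i, i < 4627 → P i := stepQ 4626 Q4626 (allL N4626 (tt N3339 F14500) (tt N4301 F14501) (tt N6131 (iv F19419)) (tt N4302 (iv F14503)) (tt N6123 (iv F19393)) (tt N3325 F14502) (tt N6134 D6203) (tt N3324 (iv D4689)))
theorem Q4628 : ∀ i, i < 4628 → P i := stepQ 4627 Q4627 (allL N4627 (tt N4627 F14504) (tt N6116 (iv F19367)) (tt N3326 (iv D4690)) (tt N6135 D6204) (tt N4589 F14505) (tt N6133 (iv F19426)) (tt N3327 F14506) (tt N4299 F14507))
theorem Q4629 : ∀ i, i < 4629 → P i := stepQ 4628 Q4628 (allL N4628 (tt N4628 F14508) (tt N6117 (iv F19371)) (tt N3449 F14509) (tt N3327 (iv D4691)) (tt N6136 D6205) (tt N4628 F14510) (tt N6135 (iv F19436)) (tt N6137 D6206))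
theorem Q4630 : ∀ i, i < 4630 → P i := stepQ 4629 Q4629 (allL N4629 (tt N6118 (iv F19372)) (tt N5824 (iv F18461)) (tt N4629 F14511) (tt N3334 F14512) (tt N3329 (iv D4692)) (tt N4629 F14513) (tt N6138 D6207) (tt N6139 D6208))
theorem Q4631 : ∀ i, i < 4631 → P i := stepQ 4630 Q4630 (allL N4630 (tt N6119 (iv F19376)) (tt N5825 (iv F18463)) (tt N4630 F14514) (tt N3330 F14515) (tt N6138 (iv F19447)) (tt N6140 D6209) (tt N3329 (iv D4693)) (tt N6141 D6210))
theorem Q4632 : ∀ i, i < 4632 → P i := stepQ 4631 Q4631 (allL N4631 (tt N6120 (iv F19379)) (tt N5826 (iv F18465)) (tt N4631 F14516) (tt N5954 (iv F18906)) (tt N6139 (iv F19449)) (tt N4631 F14517) (tt N6142 D6211) (tt N3329 (iv D4694)))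
theorem Q4633 : ∀ i, i < 4633 → P i := stepQ 4632 Q4632 (allL N4632 (tt N6121 (iv F19383)) (tt N6143 D6212) (tt N3331 F14518) (tt N6140 (iv F19452)) (tt N3337 F14519) (tt N3330 (iv D4695)) (tt N4632 F14520) (tt N6144 D6213))
theorem Q4634 : ∀ i, i < 4634 → P i := stepQ 4633 Q4633 (allL N4633 (tt N6122 (iv F19387)) (tt N5828 (iv F18468)) (tt N3332 F14521) (tt N6145 D6214) (tt N3338 F14522) (tt N6144 (iv F19461)) (tt N5956 (iv F18916)) (tt N3330 (iv D4696)))
theorem Q4635 : ∀ i, i < 4635 → P i := stepQ 4634 Q4634 (allL N4634 (tt N6123 (iv F19391)) (tt N4634 F14523) (tt N6144 (iv F19459)) (tt N6146 D6215) (tt N3339 F14524) (tt N3332 F14525) (tt N6147 D6216) (tt N3331 (iv D4697)))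
theorem Q4636 : ∀ i, i < 4636 → P i := stepQ 4635 Q4635 (allL N4635 (tt N6124 (iv F19395)) (tt N3333 F14526) (tt N6148 D6217) (tt N3332 (iv D4698)) (tt N6149 D6218) (tt N6146 (iv F19463)) (tt N5398 F17112) (tt N4635 F14527))
theorem Q4637 : ∀ i, i < 4637 → P i := stepQ 4636 Q4636 (allL N4636 (tt N3343 F14528) (tt N6150 D6219) (tt N3333 (iv D4699)) (tt N5831 (iv F18478)) (tt N6151 D6220) (tt N4636 F14529) (tt N5394 F17102) (tt N4636 F14530))
theorem Q4638 : ∀ i, i < 4638 → P i := stepQ 4637 Q4637 (allL N4637 (tt N3344 F14531) (tt N6149 (iv F19470)) (tt N6151 (iv F19477)) (tt N3342 F14532) (tt N3333 (iv D4700)) (tt N4637 F14533) (tt N4593 F14534) (tt N4637 F14535))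
theorem Q4639 : ∀ i, i < 4639 → P i := stepQ 4638 Q4638 (allL N4638 (tt N6125 (iv F19400)) (tt N5833 (iv F18483)) (tt N3453 F14536) (tt N6138 (iv F19446)) (tt N3335 F14537) (tt N4802 F21780) (tt N3334 (iv D4701)) (tt N6152 D6222))
theorem Q4640 : ∀ i, i < 4640 → P i := stepQ 4639 Q4639 (allL N4639 (tt N6126 (iv F19403)) (tt N5834 (iv F18486)) (tt N3454 F14538) (tt N6153 D6223) (tt N3336 F14539) (tt N4639 F14540) (tt N6154 D6224) (tt N3334 (iv D4702)))
theorem Q4641 : ∀ i, i < 4641 → P i := stepQ 4640 Q4640 (allL N4640 (tt N6127 (iv F19408)) (tt N4803 (iv F21773)) (tt N3455 F14541) (tt N3337 F14542) (tt N4802 (iv F21774)) (tt N3335 (iv D4703)) (tt N4640 F14543) (tt N6155 D6226))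
theorem Q4642 : ∀ i, i < 4642 → P i := stepQ 4641 Q4641 (allL N4641 (tt N6128 (iv F19412)) (tt N5836 (iv F18491)) (tt N3456 F14544) (tt N6156 D6227) (tt N6152 (iv F19485)) (tt N6155 (iv F19492)) (tt N6157 D6228) (tt N3335 (iv D4704)))
theorem Q4643 : ∀ i, i < 4643 → P i := stepQ 4642 Q4642 (allL N4642 (tt N6129 (iv F19414)) (tt N5837 (iv F18493)) (tt N3457 F14545) (tt N5961 (iv F18929)) (tt N6154 (iv F19488)) (tt N6158 D6229) (tt N3336 (iv D4705)) (tt N6157 (iv F19495)))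
theorem Q4644 : ∀ i, i < 4644 → P i := stepQ 4643 Q4643 (allL N4643 (tt N6159 D6230) (tt N3337 (iv D4706)) (tt N4643 F14546) (tt N4803 F21779) (tt N6143 (iv F19457)) (tt N5838 (iv F18496)) (tt N4643 F14547) (tt N6160 D6231))
theorem Q4645 : ∀ i, i < 4645 → P i := stepQ 4644 Q4644 (allL N4644 (tt N6131 (iv F19418)) (tt N6160 (iv F19500)) (tt N3339 F14548) (tt N6161 D6232) (tt N6144 (iv F19460)) (tt N3338 F14549) (tt N6162 D6233) (tt N3337 (iv D4707)))
theorem Q4646 : ∀ i, i < 4646 → P i := stepQ 4645 Q4645 (allL N4645 (tt N6132 (iv F19421)) (tt N5840 (iv F18499)) (tt N6163 D6234) (tt N3338 (iv D4708)) (tt N6164 D6235) (tt N6161 (iv F19502)) (tt N5964 (iv F18933)) (tt N6156 (iv F19493)))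
theorem Q4647 : ∀ i, i < 4647 → P i := stepQ 4646 Q4646 (allL N4646 (tt N4302 F14550) (tt N4646 F14551) (tt N6165 D6236) (tt N3339 (iv D4709)) (tt N6166 D6237) (tt N3340 F14552) (tt N6167 D6238) (tt N3461 F14553))
theorem Q4648 : ∀ i, i < 4648 → P i := stepQ 4647 Q4647 (allL N4647 (tt N6134 (iv F19429)) (tt N4647 F14554) (tt N6162 (iv F19503)) (tt N6167 (iv F19517)) (tt N6147 (iv F19466)) (tt N5966 (iv F18938)) (tt N3339 (iv D4710)) (tt N4647 F14555))
theorem Q4649 : ∀ i, i < 4649 → P i := stepQ 4648 Q4648 (allL N4648 (tt N4317 F14556) (tt N6168 D6239) (tt N3340 (iv D4711)) (tt N6163 (iv F19506)) (tt N6169 D6240) (tt N6165 (iv F19509)) (tt N4561 F14557) (tt N3463 F14558))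
theorem Q4650 : ∀ i, i < 4650 → P i := stepQ 4649 Q4649 (allL N4649 (tt N4311 F14559) (tt N3342 F14560) (tt N6169 (iv F19523)) (tt N6149 (iv F19471)) (tt N3340 (iv D4712)) (tt N6166 (iv F19513)) (tt N4553 F14561) (tt N3464 F14562))
theorem Q4651 : ∀ i, i < 4651 → P i := stepQ 4650 Q4650 (allL N4650 (tt N6099 (iv F19318)) (tt N3341 (iv D4713)) (tt N6168 (iv F19519)) (tt N5845 (iv F18511)) (tt N4790 F21776) (tt N4787 (iv F21781)) (tt N4598 F14563) (tt N3465 F14564))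
theorem Q4652 : ∀ i, i < 4652 → P i := stepQ 4651 Q4651 (allL N4651 (tt N3345 F14565) (tt N4790 (iv F21767)) (tt N3342 F14566) (tt N6170 D6243) (tt N3341 (iv D4714)) (tt N4651 F14567) (tt N4595 F14568) (tt N3466 F14569))
theorem Q4653 : ∀ i, i < 4653 → P i := stepQ 4652 Q4652 (allL N4652 (tt N6171 D6244) (tt N3343 (iv D4715)) (tt N5400 (iv F17121)) (tt N5488 (iv F17404)) (tt N6172 D6245) (tt N5475 (iv F17358)) (tt N5405 F17140) (tt N4652 F14570))
theorem Q4654 : ∀ i, i < 4654 → P i := stepQ 4653 Q4653 (allL N4653 (tt N6151 (iv F19476)) (tt N6172 (iv F19535)) (tt N3344 F14571) (tt N6173 D6246) (tt N3343 (iv D4716)) (tt N4653 F14572) (tt N4594 F14573) (tt N4653 F14574))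
theorem Q4655 : ∀ i, i < 4655 → P i := stepQ 4654 Q4654 (allL N4654 (tt N6170 (iv F19531)) (tt N6097 (iv F19310)) (tt N6173 (iv F19540)) (tt N3345 (iv D4717)) (tt N5849 (iv F18527)) (tt N4654 F14575) (tt N4596 F14576) (tt N6174 D6247))
theorem Q4656 : ∀ i, i < 4656 → P i := stepQ 4655 Q4655 (allL N4655 (tt N3346 (iv D4718)) (tt N3470 F14577) (tt N3347 F14578) (tt N5139 (iv F16195)) (tt N5187 (iv F16353)) (tt N6175 D6248) (tt N5185 F16347) (tt N6013 (iv F19111)))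
theorem Q4657 : ∀ i, i < 4657 → P i := stepQ 4656 Q4656 (allL N4656 (tt N6175 (iv F19545)) (tt N5182 (iv F16337)) (tt N3348 F14579) (tt N5141 (iv F16200)) (tt N5190 (iv F16358)) (tt N3346 (iv D4719)) (tt N6176 D6249) (tt N6014 (iv F19114)))
theorem Q4658 : ∀ i, i < 4658 → P i := stepQ 4657 Q4657 (allL N4657 (tt N3348 F14580) (tt N4859 F15251) (tt N6175 (iv F19546)) (tt N4657 F14581) (tt N5683 (iv F18018)) (tt N3347 (iv D4720)) (tt N6177 D6250) (tt N4863 (iv F15260)))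
theorem Q4659 : ∀ i, i < 4659 → P i := stepQ 4658 Q4658 (allL N4658 (tt N6177 (iv F19548)) (tt N5854 (iv F18550)) (tt N6176 (iv F19547)) (tt N4658 F14582) (tt N5685 (iv F18024)) (tt N5684 (iv F18023)) (tt N3348 (iv D4721)) (tt N6178 D6251))
theorem Q4660 : ∀ i, i < 4660 → P i := stepQ 4659 Q4659 (allL N4659 (tt N3550 F14583) (tt N3349 (iv D4722)) (tt N4843 F15202) (tt N4659 F14584) (tt N3729 F14585) (tt N4859 (iv F15249)) (tt N6179 D6252) (tt N3547 F14586))
theorem Q4661 : ∀ i, i < 4661 → P i := stepQ 4660 Q4660 (allL N4660 (tt N3350 F14587) (tt N6179 (iv F19551)) (tt N3475 F14588) (tt N4660 F14589) (tt N4174 F14590) (tt N5691 (iv F18048)) (tt N3349 (iv D4723)) (tt N5511 (iv F17510)))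
theorem Q4662 : ∀ i, i < 4662 → P i := stepQ 4661 Q4661 (allL N4661 (tt N6180 D6253) (tt N3351 (iv D4724)) (tt N4661 F14591) (tt N3364 F14592) (tt N6181 D6254) (tt N6182 D6255) (tt N6183 D6256) (tt N4904 (iv F15412)))
theorem Q4663 : ∀ i, i < 4663 → P i := stepQ 4662 Q4662 (allL N4662 (tt N5994 (iv F19036)) (tt N6181 (iv F19559)) (tt N3352 F14593) (tt N3605 F14594) (tt N3351 (iv D4725)) (tt N3596 F14595) (tt N6184 D6257) (tt N4905 (iv F15415)))
theorem Q4664 : ∀ i, i < 4664 → P i := stepQ 4663 Q4663 (allL N4663 (tt N5995 (iv F19042)) (tt N6183 (iv F19569)) (tt N3353 F14596) (tt N3365 F14597) (tt N6184 (iv F19575)) (tt N5215 (iv F16448)) (tt N3351 (iv D4726)) (tt N5214 F16445))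
theorem Q4665 : ∀ i, i < 4665 → P i := stepQ 4664 Q4664 (allL N4664 (tt N5996 (iv F19045)) (tt N4664 F14598) (tt N6184 (iv F19573)) (tt N3360 F14599) (tt N3353 F14600) (tt N5223 (iv F16479)) (tt N3352 (iv D4727)) (tt N3473 F14601))
theorem Q4666 : ∀ i, i < 4666 → P i := stepQ 4665 Q4665 (allL N4665 (tt N3356 F14602) (tt N5998 (iv F19053)) (tt N4665 F14603) (tt N4489 F14604) (tt N3761 F14605) (tt N6185 D6258) (tt N3355 (iv D4728)) (tt N4858 (iv F15246)))
theorem Q4667 : ∀ i, i < 4667 → P i := stepQ 4666 Q4666 (allL N4666 (tt N6185 (iv F19577)) (tt N6186 D6259) (tt N4666 F14606) (tt N5070 (iv F15925)) (tt N3762 F14607) (tt N3356 (iv D4729)) (tt N4666 F14608) (tt N4874 (iv F15299)))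
theorem Q4668 : ∀ i, i < 4668 → P i := stepQ 4667 Q4667 (allL N4667 (tt N6001 (iv F19060)) (tt N6187 D6260) (tt N3680 F14609) (tt N3358 F14610) (tt N3679 F14611) (tt N3357 (iv D4730)) (tt N3361 F14612) (tt N3677 F14613))
theorem Q4669 : ∀ i, i < 4669 → P i := stepQ 4668 Q4668 (allL N4668 (tt N6002 (iv F19066)) (tt N3391 F14614) (tt N3389 F14615) (tt N5032 (iv F15792)) (tt N3678 F14616) (tt N3677 F14617) (tt N4668 F14618) (tt N3357 (iv D4731)))
theorem Q4670 : ∀ i, i < 4670 → P i := stepQ 4669 Q4669 (allL N4669 (tt N6188 D6261) (tt N3358 (iv D4732)) (tt N6189 D6262) (tt N6187 (iv F19586)) (tt N4944 (iv F15547)) (tt N6186 (iv F19583)) (tt N3363 F14619) (tt N5033 (iv F15796)))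
theorem Q4671 : ∀ i, i < 4671 → P i := stepQ 4670 Q4670 (allL N4670 (tt N6005 (iv F19075)) (tt N5089 (iv F15995)) (tt N3361 F14620) (tt N3373 F14621) (tt N3670 F14622) (tt N3359 (iv D4733)) (tt N3680 F14623) (tt N3668 F14624))
theorem Q4672 : ∀ i, i < 4672 → P i := stepQ 4671 Q4671 (allL N4671 (tt N6006 (iv F19081)) (tt N5118 (iv F16110)) (tt N3362 F14625) (tt N5064 (iv F15898)) (tt N3669 F14626) (tt N3668 F14627) (tt N4671 F14628) (tt N3359 (iv D4734)))
theorem Q4673 : ∀ i, i < 4673 → P i := stepQ 4672 Q4672 (allL N4672 (tt N6007 (iv F19086)) (tt N5235 (iv F16513)) (tt N3670 F14629) (tt N5223 (iv F16477)) (tt N3361 F14630) (tt N3360 (iv D4735)) (tt N3679 F14631) (tt N3667 (iv F14632)))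
theorem Q4674 : ∀ i, i < 4674 → P i := stepQ 4673 Q4673 (allL N4673 (tt N6008 (iv F19091)) (tt N4673 F14633) (tt N3669 F14634) (tt N3484 F14635) (tt N3362 F14636) (tt N3667 F14637) (tt N4673 F14638) (tt N3360 (iv D4736)))
theorem Q4675 : ∀ i, i < 4675 → P i := stepQ 4674 Q4674 (allL N4674 (tt N6190 D6263) (tt N3361 (iv D4737)) (tt N6191 D6264) (tt N3363 F14639) (tt N5235 (iv F16514)) (tt N4674 F14640) (tt N6187 (iv F19588)) (tt N6192 D6265))
theorem Q4676 : ∀ i, i < 4676 → P i := stepQ 4675 Q4675 (allL N4675 (tt N6010 (iv F19098)) (tt N6192 (iv F19596)) (tt N3668 F14641) (tt N4675 F14642) (tt N3667 F14643) (tt N3362 F14644) (tt N3666 F14645) (tt N3361 (iv D4738)))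
theorem Q4677 : ∀ i, i < 4677 → P i := stepQ 4676 Q4676 (allL N4676 (tt N3363 (iv D4739)) (tt N6011 (iv F19104)) (tt N6193 D6266) (tt N6190 (iv F19593)) (tt N5234 F16512) (tt N4676 F14646) (tt N6188 (iv F19590)) (tt N4676 F14647))
theorem Q4678 : ∀ i, i < 4678 → P i := stepQ 4677 Q4677 (allL N4677 (tt N6193 (iv F19603)) (tt N3376 F14648) (tt N3363 (iv D4740)) (tt N6194 D6267) (tt N5236 (iv F16520)) (tt N4677 F14649) (tt N6189 (iv F19592)) (tt N4677 F14650))
theorem Q4679 : ∀ i, i < 4679 → P i := stepQ 4678 Q4678 (allL N4678 (tt N3364 (iv D4741)) (tt N6013 (iv F19108)) (tt N3379 F14651) (tt N6180 (iv F19558)) (tt N5212 (iv F16437)) (tt N6195 D6268) (tt N6196 D6269) (tt N3470 F14652))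
theorem Q4680 : ∀ i, i < 4680 → P i := stepQ 4679 Q4679 (allL N4679 (tt N6195 (iv F19608)) (tt N5194 (iv F16370)) (tt N3380 F14653) (tt N6182 (iv F19565)) (tt N4906 (iv F15419)) (tt N3364 (iv D4742)) (tt N4905 (iv F15416)) (tt N3471 F14654))
theorem Q4681 : ∀ i, i < 4681 → P i := stepQ 4680 Q4680 (allL N4680 (tt N6196 (iv F19613)) (tt N3365 F14655) (tt N3381 F14656) (tt N6183 (iv F19571)) (tt N4948 (iv F15565)) (tt N4947 (iv F15562)) (tt N3364 (iv D4743)) (tt N4954 (iv F15585)))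
theorem Q4682 : ∀ i, i < 4682 → P i := stepQ 4681 Q4681 (allL N4681 (tt N6016 (iv F19117)) (tt N6197 D6270) (tt N3366 F14657) (tt N5215 F16449) (tt N4959 (iv F15599)) (tt N3365 (iv D4744)) (tt N5197 (iv F16384)) (tt N4957 (iv F15592)))
theorem Q4683 : ∀ i, i < 4683 → P i := stepQ 4682 Q4682 (allL N4682 (tt N6198 D6271) (tt N3366 (iv D4745)) (tt N3623 (iv F14663)) (tt N3367 F14658) (tt N3536 F14659) (tt N3383 F14660) (tt N3789 F14661) (tt N3535 F14662))
theorem Q4684 : ∀ i, i < 4684 → P i := stepQ 4683 Q4683 (allL N4683 (tt N3367 (iv D4746)) (tt N6018 (iv F19121)) (tt N6199 D6272) (tt N6198 (iv F19621)) (tt N3375 F14664) (tt N3384 F14665) (tt N5199 (iv F16392)) (tt N4683 F14666))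
theorem Q4685 : ∀ i, i < 4685 → P i := stepQ 4684 Q4684 (allL N4684 (tt N6199 (iv F19626)) (tt N5236 (iv F16518)) (tt N3367 (iv D4747)) (tt N6200 D6273) (tt N3376 F14667) (tt N3385 F14668) (tt N5200 (iv F16396)) (tt N4684 F14669))
theorem Q4686 : ∀ i, i < 4686 → P i := stepQ 4685 Q4685 (allL N4685 (tt N6020 (iv F19128)) (tt N5088 (iv F15991)) (tt N3369 F14670) (tt N3680 F14671) (tt N5069 (iv F15918)) (tt N3368 (iv D4748)) (tt N3373 F14672) (tt N4685 F14673))
theorem Q4687 : ∀ i, i < 4687 → P i := stepQ 4686 Q4686 (allL N4686 (tt N6201 D6274) (tt N3369 (iv D4749)) (tt N6202 D6275) (tt N3370 F14674) (tt N5074 (iv F15940)) (tt N4686 F14675) (tt N3374 F14676) (tt N4686 F14677))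
theorem Q4688 : ∀ i, i < 4688 → P i := stepQ 4687 Q4687 (allL N4687 (tt N3370 (iv D4750)) (tt N6022 (iv F19137)) (tt N6203 D6276) (tt N6201 (iv F19637)) (tt N5199 (iv F16390)) (tt N4687 F14678) (tt N3375 F14679) (tt N5289 (iv F16726)))
theorem Q4689 : ∀ i, i < 4689 → P i := stepQ 4688 Q4688 (allL N4688 (tt N6203 (iv F19644)) (tt N6189 (iv F19591)) (tt N3370 (iv D4751)) (tt N6204 D6277) (tt N5200 (iv F16394)) (tt N4688 F14680) (tt N3376 F14681) (tt N5290 (iv F16730)))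
theorem Q4690 : ∀ i, i < 4690 → P i := stepQ 4689 Q4689 (allL N4689 (tt N3372 F14682) (tt N6024 (iv F19142)) (tt N3387 F14683) (tt N4490 F14684) (tt N5054 (iv F15860)) (tt N5100 (iv F16045)) (tt N3371 (iv D4752)) (tt N5050 (iv F15848)))
theorem Q4691 : ∀ i, i < 4691 → P i := stepQ 4690 Q4690 (allL N4690 (tt N6205 D6278) (tt N3373 (iv D4753)) (tt N6206 D6279) (tt N5089 (iv F15996)) (tt N5067 (iv F15909)) (tt N5087 F15990) (tt N5088 (iv F15993)) (tt N5065 (iv F15904)))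
theorem Q4692 : ∀ i, i < 4692 → P i := stepQ 4691 Q4691 (allL N4691 (tt N3374 (iv D4754)) (tt N4488 F14685) (tt N6207 D6280) (tt N3375 F14686) (tt N5072 (iv F15931)) (tt N3390 F14687) (tt N6201 (iv F19639)) (tt N4487 F14688))
theorem Q4693 : ∀ i, i < 4693 → P i := stepQ 4692 Q4692 (allL N4692 (tt N6207 (iv F19653)) (tt N6206 (iv F19650)) (tt N3374 (iv D4755)) (tt N6208 D6281) (tt N5073 (iv F15936)) (tt N3391 F14689) (tt N6202 (iv F19642)) (tt N5070 (iv F15924)))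
theorem Q4694 : ∀ i, i < 4694 → P i := stepQ 4693 Q4693 (allL N4693 (tt N3376 F14690) (tt N6209 D6282) (tt N3375 (iv D4756)) (tt N6210 D6283) (tt N6199 (iv F19627)) (tt N3392 F14691) (tt N6203 (iv F19646)) (tt N4693 F14692))
theorem Q4695 : ∀ i, i < 4695 → P i := stepQ 4694 Q4694 (allL N4694 (tt N6210 (iv F19659)) (tt N6194 (iv F19606)) (tt N6208 (iv F19656)) (tt N3376 (iv D4757)) (tt N6211 D6284) (tt N3393 F14693) (tt N6204 (iv F19649)) (tt N6212 D6285))
theorem Q4696 : ∀ i, i < 4696 → P i := stepQ 4695 Q4695 (allL N4695 (tt N3378 F14694) (tt N4491 F14695) (tt N3395 F14696) (tt N4695 F14697) (tt N5301 (iv F16783)) (tt N5298 (iv F16772)) (tt N3377 (iv D4758)) (tt N5102 (iv F16055)))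
theorem Q4697 : ∀ i, i < 4697 → P i := stepQ 4696 Q4696 (allL N4696 (tt N3380 F14698) (tt N4421 F14699) (tt N6195 (iv F19609)) (tt N4696 F14700) (tt N4899 (iv F15395)) (tt N3379 (iv D4759)) (tt N4419 (iv F14702)) (tt N3472 F14701))
theorem Q4698 : ∀ i, i < 4698 → P i := stepQ 4697 Q4697 (allL N4697 (tt N3381 F14703) (tt N3410 F14704) (tt N6196 (iv F19614)) (tt N4697 F14705) (tt N4927 (iv F15492)) (tt N4926 (iv F15488)) (tt N3379 (iv D4760)) (tt N4961 (iv F15608)))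
theorem Q4699 : ∀ i, i < 4699 → P i := stepQ 4698 Q4698 (allL N4698 (tt N6213 D6286) (tt N3382 (iv D4761)) (tt N4893 (iv F15366)) (tt N4698 F14706) (tt N3544 F14707) (tt N3726 F14708) (tt N4698 F14709) (tt N3541 F14710))
theorem Q4700 : ∀ i, i < 4700 → P i := stepQ 4699 Q4699 (allL N4699 (tt N3383 (iv D4762)) (tt N3412 F14711) (tt N4895 (iv F15375)) (tt N3384 F14712) (tt N3522 F14713) (tt N6198 (iv F19623)) (tt N4699 F14714) (tt N3520 F14715))
theorem Q4701 : ∀ i, i < 4701 → P i := stepQ 4700 Q4700 (allL N4700 (tt N3385 F14716) (tt N6214 D6287) (tt N3384 (iv D4763)) (tt N6215 D6288) (tt N3392 F14717) (tt N6199 (iv F19628)) (tt N4700 F14718) (tt N4700 F14719))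
theorem Q4702 : ∀ i, i < 4702 → P i := stepQ 4701 Q4701 (allL N4701 (tt N6215 (iv F19678)) (tt N4701 F14720) (tt N4897 (iv F15385)) (tt N3385 (iv D4764)) (tt N6216 D6289) (tt N6200 (iv F19632)) (tt N4701 F14721) (tt N5121 (iv F16126)))
theorem Q4703 : ∀ i, i < 4703 → P i := stepQ 4702 Q4702 (allL N4702 (tt N3388 F14722) (tt N5569 (iv F17670)) (tt N5100 (iv F16042)) (tt N4702 F14723) (tt N3517 F14724) (tt N3387 (iv D4765)) (tt N3516 F14725) (tt N5080 (iv F15964)))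
theorem Q4704 : ∀ i, i < 4704 → P i := stepQ 4703 Q4703 (allL N4703 (tt N3389 (iv D4766)) (tt N3416 F14726) (tt N6002 (iv F19067)) (tt N4703 F14727) (tt N3648 F14728) (tt N3647 F14729) (tt N4703 F14730) (tt N5091 (iv F16010)))
theorem Q4705 : ∀ i, i < 4705 → P i := stepQ 4704 Q4704 (allL N4704 (tt N3391 F14731) (tt N6217 D6290) (tt N3390 (iv D4767)) (tt N6218 D6291) (tt N5095 (iv F16023)) (tt N6207 (iv F19654)) (tt N4704 F14732) (tt N4489 F14733))
theorem Q4706 : ∀ i, i < 4706 → P i := stepQ 4705 Q4705 (allL N4705 (tt N6218 (iv F19688)) (tt N5032 (iv F15790)) (tt N3393 F14734) (tt N3391 (iv D4768)) (tt N6219 D6292) (tt N6208 (iv F19657)) (tt N4705 F14735) (tt N4873 F15294))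
theorem Q4707 : ∀ i, i < 4707 → P i := stepQ 4706 Q4706 (allL N4706 (tt N4706 F14736) (tt N3392 (iv D4769)) (tt N3420 F14737) (tt N6220 D6293) (tt N6214 (iv F19675)) (tt N6221 D6294) (tt N4706 F14738) (tt N4706 F14739))
theorem Q4708 : ∀ i, i < 4708 → P i := stepQ 4707 Q4707 (allL N4707 (tt N3393 F14740) (tt N6220 (iv F19696)) (tt N6218 (iv F19689)) (tt N3392 (iv D4770)) (tt N6222 D6295) (tt N6210 (iv F19660)) (tt N4707 F14741) (tt N6223 D6296))
theorem Q4709 : ∀ i, i < 4709 → P i := stepQ 4708 Q4708 (allL N4708 (tt N6222 (iv F19701)) (tt N4708 F14742) (tt N6219 (iv F19692)) (tt N6216 (iv F19682)) (tt N3393 (iv D4771)) (tt N6211 (iv F19663)) (tt N4708 F14743) (tt N6224 D6297))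
theorem Q4710 : ∀ i, i < 4710 → P i := stepQ 4709 Q4709 (allL N4709 (tt N6223 (iv F19703)) (tt N4709 F14744) (tt N4873 (iv F15295)) (tt N4709 F14745) (tt N6224 (iv F19706)) (tt N6212 (iv F19666)) (tt N4871 F15296) (tt N3393 (iv D4772)))
theorem Q4711 : ∀ i, i < 4711 → P i := stepQ 4710 Q4710 (allL N4710 (tt N4710 F14746) (tt N3395 F14747) (tt N4493 F14748) (tt N3398 F14749) (tt N5310 (iv F16812)) (tt N6225 D6298) (tt N3394 (iv D4773)) (tt N6226 D6299))
theorem Q4712 : ∀ i, i < 4712 → P i := stepQ 4711 Q4711 (allL N4711 (tt N3396 F14750) (tt N6226 (iv F19714)) (tt N5102 (iv F16053)) (tt N6227 D6300) (tt N5311 (iv F16815)) (tt N5305 (iv F16797)) (tt N5098 (iv F16037)) (tt N3395 (iv D4774)))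
theorem Q4713 : ∀ i, i < 4713 → P i := stepQ 4712 Q4712 (allL N4712 (tt N6227 (iv F19717)) (tt N4712 F14751) (tt N5344 (iv F16928)) (tt N3396 (iv D4775)) (tt N6228 D6301) (tt N5313 (iv F16825)) (tt N5115 (iv F16099)) (tt N3405 F14752))
theorem Q4714 : ∀ i, i < 4714 → P i := stepQ 4713 Q4713 (allL N4713 (tt N4713 F14753) (tt N4713 F14754) (tt N3398 F14755) (tt N4501 F14756) (tt N4713 F14757) (tt N6229 D6302) (tt N3397 (iv D4776)) (tt N6230 D6303))
theorem Q4715 : ∀ i, i < 4715 → P i := stepQ 4714 Q4714 (allL N4714 (tt N4714 F14758) (tt N6231 D6304) (tt N6229 (iv F19724)) (tt N6225 (iv F19711)) (tt N4714 F14759) (tt N3398 (iv D4777)) (tt N3428 F14760) (tt N6232 D6305))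
theorem Q4716 : ∀ i, i < 4716 → P i := stepQ 4715 Q4715 (allL N4715 (tt N4715 F14761) (tt N3400 F14762) (tt N6230 (iv F19730)) (tt N6233 D6306) (tt N4715 F14763) (tt N6232 (iv F19739)) (tt N4715 F14764) (tt N3398 (iv D4778)))
theorem Q4717 : ∀ i, i < 4717 → P i := stepQ 4716 Q4716 (allL N4716 (tt N5321 (iv F16856)) (tt N3399 (iv D4779)) (tt N6234 D6307) (tt N5304 (iv F16793)) (tt N4716 F14765) (tt N6231 (iv F19735)) (tt N3401 F14766) (tt N6235 D6308))
theorem Q4718 : ∀ i, i < 4718 → P i := stepQ 4717 Q4717 (allL N4717 (tt N3404 F14767) (tt N6235 (iv F19747)) (tt N4717 F14768) (tt N6236 D6309) (tt N4717 F14769) (tt N3400 F14770) (tt N6237 D6310) (tt N3399 (iv D4780)))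
theorem Q4719 : ∀ i, i < 4719 → P i := stepQ 4718 Q4718 (allL N4718 (tt N3405 F14771) (tt N6233 (iv F19741)) (tt N6238 D6311) (tt N3400 (iv D4781)) (tt N6239 D6312) (tt N6236 (iv F19750)) (tt N4718 F14772) (tt N6227 (iv F19718)))
theorem Q4720 : ∀ i, i < 4720 → P i := stepQ 4719 Q4719 (allL N4719 (tt N5320 (iv F16853)) (tt N4719 F14773) (tt N3401 (iv D4782)) (tt N6240 D6313) (tt N4719 F14774) (tt N3433 F14775) (tt N6234 (iv F19746)) (tt N6241 D6314))
theorem Q4721 : ∀ i, i < 4721 → P i := stepQ 4720 Q4720 (allL N4720 (tt N5322 (iv F16860)) (tt N3402 F14776) (tt N6241 (iv F19766)) (tt N4236 (iv F14779)) (tt N4720 F14777) (tt N3434 F14778) (tt N6242 D6315) (tt N3401 (iv D4783)))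
theorem Q4722 : ∀ i, i < 4722 → P i := stepQ 4721 Q4721 (allL N4721 (tt N3406 F14780) (tt N4236 F14781) (tt N6243 D6316) (tt N3402 (iv D4784)) (tt N4382 (iv F14783)) (tt N3403 F14782) (tt N6244 D6317) (tt N5076 (iv F15951)))
theorem Q4723 : ∀ i, i < 4723 → P i := stepQ 4722 Q4722 (allL N4722 (tt N3407 F14784) (tt N6242 (iv F19769)) (tt N4722 F14785) (tt N6244 (iv F19780)) (tt N4722 F14786) (tt N4722 F14787) (tt N3402 (iv D4785)) (tt N6237 (iv F19755)))
theorem Q4724 : ∀ i, i < 4724 → P i := stepQ 4723 Q4723 (allL N4723 (tt N3408 F14788) (tt N4238 F14789) (tt N3403 (iv D4786)) (tt N4723 F14790) (tt N4381 F14791) (tt N6243 (iv F19776)) (tt N4723 F14792) (tt N5075 (iv F15945)))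
theorem Q4725 : ∀ i, i < 4725 → P i := stepQ 4724 Q4724 (allL N4724 (tt N6236 (iv F19749)) (tt N5346 (iv F16934)) (tt N6245 D6318) (tt N3404 (iv D4787)) (tt N6246 D6319) (tt N3405 F14793) (tt N6247 D6320) (tt N5313 (iv F16826)))
theorem Q4726 : ∀ i, i < 4726 → P i := stepQ 4725 Q4725 (allL N4725 (tt N6237 (iv F19751)) (tt N5347 (iv F16937)) (tt N4725 F14794) (tt N6247 (iv F19788)) (tt N4725 F14795) (tt N4725 F14796) (tt N3404 (iv D4788)) (tt N3407 F14797))
theorem Q4727 : ∀ i, i < 4727 → P i := stepQ 4726 Q4726 (allL N4726 (tt N6238 (iv F19756)) (tt N5354 (iv F16965)) (tt N3405 (iv D4789)) (tt N4726 F14798) (tt N6248 D6321) (tt N6245 (iv F19784)) (tt N4726 F14799) (tt N5344 F16930))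
theorem Q4728 : ∀ i, i < 4728 → P i := stepQ 4727 Q4727 (allL N4727 (tt N6239 (iv F19760)) (tt N4727 F14800) (tt N6248 (iv F19791)) (tt N4727 F14801) (tt N3405 (iv D4790)) (tt N6246 (iv F19787)) (tt N4727 F14802) (tt N6228 (iv F19722)))
theorem Q4729 : ∀ i, i < 4729 → P i := stepQ 4728 Q4728 (allL N4728 (tt N6243 (iv F19773)) (tt N3666 F14803) (tt N3406 (iv D4791)) (tt N4728 F14804) (tt N3665 (iv F14807)) (tt N3408 F14805) (tt N6192 (iv F19600)) (tt N3673 F14806))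
theorem Q4730 : ∀ i, i < 4730 → P i := stepQ 4729 Q4729 (allL N4729 (tt N4382 F14808) (tt N3525 F14809) (tt N3665 F14810) (tt N4729 F14811) (tt N3406 (iv D4792)) (tt N3409 F14812) (tt N6249 D6322) (tt N3529 F14813))
theorem Q4731 : ∀ i, i < 4731 → P i := stepQ 4730 Q4730 (allL N4730 (tt N6244 (iv F19778)) (tt N5116 (iv F16101)) (tt N6192 F19601) (tt N3407 F14814) (tt N6249 (iv F19798)) (tt N4730 F14815) (tt N3406 (iv D4793)) (tt N6191 (iv F19602)))
theorem Q4732 : ∀ i, i < 4732 → P i := stepQ 4731 Q4731 (allL N4731 (tt N4381 F14816) (tt N4731 F14817) (tt N3409 F14818) (tt N3890 (iv F14822)) (tt N3408 (iv D4794)) (tt N3665 F14819) (tt N4731 F14820) (tt N3674 F14821))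
theorem Q4733 : ∀ i, i < 4733 → P i := stepQ 4732 Q4732 (allL N4732 (tt N3411 (iv D4795)) (tt N6213 (iv F19667)) (tt N5572 (iv F17683)) (tt N4732 F14823) (tt N3992 F14824) (tt N4022 F14825) (tt N4732 F14826) (tt N3988 F14827))
theorem Q4734 : ∀ i, i < 4734 → P i := stepQ 4733 Q4733 (allL N4733 (tt N3413 F14828) (tt N6250 D6323) (tt N3412 (iv D4796)) (tt N6251 D6324) (tt N3972 F14829) (tt N6093 (iv F19301)) (tt N4733 F14830) (tt N3970 F14831))
theorem Q4735 : ∀ i, i < 4735 → P i := stepQ 4734 Q4734 (allL N4734 (tt N6251 (iv F19803)) (tt N5468 (iv F17333)) (tt N3415 F14832) (tt N3413 (iv D4797)) (tt N6252 D6325) (tt N6094 (iv F19304)) (tt N4734 F14833) (tt N4215 F14834))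
theorem Q4736 : ∀ i, i < 4736 → P i := stepQ 4735 Q4735 (allL N4735 (tt N4735 F14835) (tt N3414 (iv D4798)) (tt N6214 (iv F19674)) (tt N6253 D6326) (tt N3420 F14836) (tt N6254 D6327) (tt N4735 F14837) (tt N4735 F14838))
theorem Q4737 : ∀ i, i < 4737 → P i := stepQ 4736 Q4736 (allL N4736 (tt N3415 F14839) (tt N6253 (iv F19813)) (tt N6251 (iv F19804)) (tt N3414 (iv D4799)) (tt N6255 D6328) (tt N6096 (iv F19309)) (tt N4736 F14840) (tt N6256 D6329))
theorem Q4738 : ∀ i, i < 4738 → P i := stepQ 4737 Q4737 (allL N4737 (tt N6255 (iv F19818)) (tt N4737 F14841) (tt N6252 (iv F19808)) (tt N3422 F14842) (tt N3415 (iv D4800)) (tt N6097 (iv F19312)) (tt N4737 F14843) (tt N6257 D6330))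
theorem Q4739 : ∀ i, i < 4739 → P i := stepQ 4738 Q4738 (allL N4738 (tt N6256 (iv F19821)) (tt N4738 F14844) (tt N4215 F14845) (tt N4738 F14846) (tt N6257 (iv F19827)) (tt N6098 (iv F19316)) (tt N4214 (iv F14847)) (tt N3415 (iv D4801)))
theorem Q4740 : ∀ i, i < 4740 → P i := stepQ 4739 Q4739 (allL N4739 (tt N3417 F14848) (tt N6258 D6331) (tt N3416 (iv D4802)) (tt N3960 (iv F14852)) (tt N5383 (iv F17068)) (tt N3959 F14849) (tt N4739 F14850) (tt N4186 F14851))
theorem Q4741 : ∀ i, i < 4741 → P i := stepQ 4740 Q4740 (allL N4740 (tt N6258 (iv F19830)) (tt N3418 (iv D4803)) (tt N6217 (iv F19685)) (tt N6259 D6332) (tt N5628 (iv F17850)) (tt N6260 D6333) (tt N4740 F14853) (tt N4182 F14854))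
theorem Q4742 : ∀ i, i < 4742 → P i := stepQ 4741 Q4741 (allL N4741 (tt N3419 F14855) (tt N6259 (iv F19835)) (tt N3421 F14856) (tt N3418 (iv D4804)) (tt N6261 D6334) (tt N4149 F14857) (tt N4741 F14858) (tt N5519 (iv F17534)))
theorem Q4743 : ∀ i, i < 4743 → P i := stepQ 4742 Q4742 (allL N4742 (tt N6261 (iv F19839)) (tt N3976 F14859) (tt N3422 F14860) (tt N5403 (iv F17130)) (tt N3419 (iv D4805)) (tt N4145 F14861) (tt N4742 F14862) (tt N5523 (iv F17551)))
theorem Q4744 : ∀ i, i < 4744 → P i := stepQ 4743 Q4743 (allL N4743 (tt N4743 F14863) (tt N3421 F14864) (tt N6262 D6335) (tt N3420 (iv D4806)) (tt N6263 D6336) (tt N6264 D6337) (tt N4743 F14865) (tt N6265 D6338))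
theorem Q4745 : ∀ i, i < 4745 → P i := stepQ 4744 Q4744 (allL N4744 (tt N4744 F14866) (tt N6100 (iv F19322)) (tt N6221 (iv F19699)) (tt N6264 (iv F19849)) (tt N6254 (iv F19816)) (tt N3420 (iv D4807)) (tt N6266 D6339) (tt N4744 F14867))
theorem Q4746 : ∀ i, i < 4746 → P i := stepQ 4745 Q4745 (allL N4745 (tt N3422 F14868) (tt N6263 (iv F19846)) (tt N6261 (iv F19840)) (tt N6255 (iv F19819)) (tt N3421 (iv D4808)) (tt N6101 (iv F19326)) (tt N4745 F14869) (tt N6267 D6340))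
theorem Q4747 : ∀ i, i < 4747 → P i := stepQ 4746 Q4746 (allL N4746 (tt N3423 F14870) (tt N6265 (iv F19851)) (tt N5519 F17535) (tt N4746 F14871) (tt N6267 (iv F19856)) (tt N3467 F14872) (tt N5725 (iv F18153)) (tt N3421 (iv D4809)))
theorem Q4748 : ∀ i, i < 4748 → P i := stepQ 4747 Q4747 (allL N4747 (tt N6267 (iv F19855)) (tt N4747 F14873) (tt N5523 (iv F17548)) (tt N6268 D6341) (tt N3423 F14874) (tt N3468 F14875) (tt N5736 (iv F18193)) (tt N3422 (iv D4810)))
theorem Q4749 : ∀ i, i < 4749 → P i := stepQ 4748 Q4748 (allL N4748 (tt N4748 F14876) (tt N6102 (iv F19329)) (tt N3425 F14877) (tt N4507 F14878) (tt N5815 (iv F18421)) (tt N6269 D6342) (tt N3424 (iv D4811)) (tt N5896 (iv F18695)))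
theorem Q4750 : ∀ i, i < 4750 → P i := stepQ 4749 Q4749 (allL N4749 (tt N4749 F14879) (tt N5806 (iv F18390)) (tt N6269 (iv F19865)) (tt N3428 F14880) (tt N5813 (iv F18413)) (tt N3425 (iv D4812)) (tt N6225 (iv F19712)) (tt N5898 (iv F18700)))
theorem Q4751 : ∀ i, i < 4751 → P i := stepQ 4750 Q4750 (allL N4750 (tt N4750 F14881) (tt N3437 F14882) (tt N4503 F14883) (tt N4750 F14884) (tt N3426 (iv D4813)) (tt N4499 F14885) (tt N6270 D6343) (tt N4498 F14886))
theorem Q4752 : ∀ i, i < 4752 → P i := stepQ 4751 Q4751 (allL N4751 (tt N4751 F14887) (tt N3438 F14888) (tt N4507 F14889) (tt N3427 F14890) (tt N6270 (iv F19872)) (tt N6271 D6344) (tt N3426 (iv D4814)) (tt N6272 D6345))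
theorem Q4753 : ∀ i, i < 4753 → P i := stepQ 4752 Q4752 (allL N4752 (tt N4752 F14891) (tt N6273 D6346) (tt N3428 F14892) (tt N6271 (iv F19875)) (tt N4752 F14893) (tt N3427 (iv D4815)) (tt N6229 (iv F19727)) (tt N6274 D6347))
theorem Q4754 : ∀ i, i < 4754 → P i := stepQ 4753 Q4753 (allL N4753 (tt N4753 F14894) (tt N3441 F14895) (tt N3429 F14896) (tt N6275 D6348) (tt N4753 F14897) (tt N6274 (iv F19886)) (tt N4753 F14898) (tt N3427 (iv D4816)))
theorem Q4755 : ∀ i, i < 4755 → P i := stepQ 4754 Q4754 (allL N4754 (tt N5820 (iv F18440)) (tt N3428 (iv D4817)) (tt N6276 D6349) (tt N5806 (iv F18391)) (tt N4754 F14899) (tt N3430 F14900) (tt N6231 (iv F19736)) (tt N6277 D6350))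
theorem Q4756 : ∀ i, i < 4756 → P i := stepQ 4755 Q4755 (allL N4755 (tt N4755 F14901) (tt N6277 (iv F19892)) (tt N6274 (iv F19884)) (tt N6278 D6351) (tt N4755 F14902) (tt N3429 F14903) (tt N6279 D6352) (tt N3428 (iv D4818)))
theorem Q4757 : ∀ i, i < 4757 → P i := stepQ 4756 Q4756 (allL N4756 (tt N4756 F14904) (tt N3432 F14905) (tt N6280 D6353) (tt N3429 (iv D4819)) (tt N5881 (iv F18643)) (tt N6278 (iv F19896)) (tt N4756 F14906) (tt N5879 F18637))
theorem Q4758 : ∀ i, i < 4758 → P i := stepQ 4757 Q4757 (allL N4757 (tt N5818 (iv F18430)) (tt N3445 F14907) (tt N3430 (iv D4820)) (tt N6281 D6354) (tt N4757 F14908) (tt N6276 (iv F19891)) (tt N3433 F14909) (tt N6282 D6355))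
theorem Q4759 : ∀ i, i < 4759 → P i := stepQ 4758 Q4758 (allL N4758 (tt N5821 (iv F18444)) (tt N3431 F14910) (tt N6282 (iv F19907)) (tt N6283 D6356) (tt N4758 F14911) (tt N6277 (iv F19894)) (tt N4228 F14912) (tt N3430 (iv D4821)))
theorem Q4760 : ∀ i, i < 4760 → P i := stepQ 4759 Q4759 (allL N4759 (tt N3435 F14913) (tt N6283 (iv F19912)) (tt N4018 F14914) (tt N3431 (iv D4822)) (tt N5911 (iv F18748)) (tt N3432 F14915) (tt N4016 F14916) (tt N5808 (iv F18401)))
theorem Q4761 : ∀ i, i < 4761 → P i := stepQ 4760 Q4760 (allL N4760 (tt N3436 F14917) (tt N6284 D6357) (tt N3432 (iv D4823)) (tt N3447 F14918) (tt N5909 (iv F18741)) (tt N4018 F14919) (tt N4760 F14920) (tt N3990 F14921))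
theorem Q4762 : ∀ i, i < 4762 → P i := stepQ 4761 Q4761 (allL N4761 (tt N5817 (iv F18427)) (tt N3449 F14922) (tt N5804 (iv F18385)) (tt N3433 (iv D4824)) (tt N6285 D6358) (tt N6240 (iv F19764)) (tt N6281 (iv F19904)) (tt N6286 D6359))
theorem Q4763 : ∀ i, i < 4763 → P i := stepQ 4762 Q4762 (allL N4762 (tt N5819 (iv F18434)) (tt N3450 F14923) (tt N3434 F14924) (tt N6287 D6360) (tt N4762 F14925) (tt N6241 (iv F19768)) (tt N4227 (iv F14926)) (tt N3433 (iv D4825)))
theorem Q4764 : ∀ i, i < 4764 → P i := stepQ 4763 Q4763 (allL N4763 (tt N3453 F14927) (tt N6270 (iv F19869)) (tt N6125 (iv F19401)) (tt N4763 F14928) (tt N3438 F14929) (tt N4804 F21778) (tt N3437 (iv D4826)) (tt N6288 D6362))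
theorem Q4765 : ∀ i, i < 4765 → P i := stepQ 4764 Q4764 (allL N4764 (tt N3454 F14930) (tt N4498 F14931) (tt N6126 (iv F19405)) (tt N6289 D6363) (tt N3439 F14932) (tt N4764 F14933) (tt N6290 D6364) (tt N3437 (iv D4827)))
theorem Q4766 : ∀ i, i < 4766 → P i := stepQ 4765 Q4765 (allL N4765 (tt N3455 F14934) (tt N4805 (iv F21770)) (tt N6127 (iv F19409)) (tt N3440 F14935) (tt N4804 (iv F21772)) (tt N3438 (iv D4828)) (tt N4765 F14936) (tt N6291 D6366))
theorem Q4767 : ∀ i, i < 4767 → P i := stepQ 4766 Q4766 (allL N4766 (tt N3456 F14937) (tt N6272 (iv F19878)) (tt N6128 (iv F19413)) (tt N6292 D6367) (tt N6288 (iv F19930)) (tt N6291 (iv F19942)) (tt N6293 D6368) (tt N3438 (iv D4829)))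
theorem Q4768 : ∀ i, i < 4768 → P i := stepQ 4767 Q4767 (allL N4767 (tt N3457 F14938) (tt N4500 F14939) (tt N6129 (iv F19416)) (tt N4767 F14940) (tt N6290 (iv F19938)) (tt N6294 D6369) (tt N3439 (iv D4830)) (tt N6293 (iv F19947)))
theorem Q4769 : ∀ i, i < 4769 → P i := stepQ 4768 Q4768 (allL N4768 (tt N4806 F21769) (tt N3440 (iv D4831)) (tt N6295 D6371) (tt N4805 (iv F21771)) (tt N4768 F14941) (tt N6273 (iv F19882)) (tt N4768 F14942) (tt N6296 D6372))
theorem Q4770 : ∀ i, i < 4770 → P i := stepQ 4769 Q4769 (allL N4769 (tt N3459 F14943) (tt N6296 (iv F19958)) (tt N3443 F14944) (tt N6297 D6373) (tt N4769 F14945) (tt N3441 F14946) (tt N6298 D6374) (tt N3440 (iv D4832)))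
theorem Q4771 : ∀ i, i < 4771 → P i := stepQ 4770 Q4770 (allL N4770 (tt N3460 F14947) (tt N6275 (iv F19888)) (tt N6299 D6375) (tt N3441 (iv D4833)) (tt N6300 D6376) (tt N6297 (iv F19961)) (tt N4770 F14948) (tt N6292 (iv F19944)))
theorem Q4772 : ∀ i, i < 4772 → P i := stepQ 4771 Q4771 (allL N4771 (tt N4771 F14949) (tt N6295 (iv F19955)) (tt N3442 (iv D4834)) (tt N6301 D6377) (tt N4771 F14950) (tt N3445 F14951) (tt N4771 F14952) (tt N6302 D6378))
theorem Q4773 : ∀ i, i < 4773 → P i := stepQ 4772 Q4772 (allL N4772 (tt N4772 F14953) (tt N3443 F14954) (tt N6302 (iv F19977)) (tt N4225 F14955) (tt N4772 F14956) (tt N3446 F14957) (tt N6303 D6379) (tt N3442 (iv D4835)))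
theorem Q4774 : ∀ i, i < 4774 → P i := stepQ 4773 Q4773 (allL N4773 (tt N3461 F14958) (tt N4225 F14959) (tt N6304 D6380) (tt N3443 (iv D4836)) (tt N6305 D6381) (tt N3444 F14960) (tt N6306 D6382) (tt N4302 F14961))
theorem Q4775 : ∀ i, i < 4775 → P i := stepQ 4774 Q4774 (allL N4774 (tt N3462 F14962) (tt N6303 (iv F19981)) (tt N6298 (iv F19963)) (tt N6306 (iv F19996)) (tt N4774 F14963) (tt N4774 F14964) (tt N3443 (iv D4837)) (tt N4774 F14965))
theorem Q4776 : ∀ i, i < 4776 → P i := stepQ 4775 Q4775 (allL N4775 (tt N3463 F14966) (tt N6307 D6383) (tt N3444 (iv D4838)) (tt N6299 (iv F19968)) (tt N6308 D6384) (tt N6304 (iv F19987)) (tt N4775 F14967) (tt N4317 F14968))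
theorem Q4777 : ∀ i, i < 4777 → P i := stepQ 4776 Q4776 (allL N4776 (tt N3464 F14969) (tt N3448 F14970) (tt N6308 (iv F20002)) (tt N4776 F14971) (tt N3444 (iv D4839)) (tt N6305 (iv F19992)) (tt N4776 F14972) (tt N4311 F14973))
theorem Q4778 : ∀ i, i < 4778 → P i := stepQ 4777 Q4777 (allL N4777 (tt N4777 F14974) (tt N6281 (iv F19903)) (tt N6135 (iv F19435)) (tt N3445 (iv D4840)) (tt N6309 D6385) (tt N6301 (iv F19974)) (tt N3449 F14975) (tt N6310 D6386))
theorem Q4779 : ∀ i, i < 4779 → P i := stepQ 4778 Q4778 (allL N4778 (tt N4778 F14976) (tt N6282 (iv F19906)) (tt N3446 F14977) (tt N6311 D6387) (tt N4778 F14978) (tt N6302 (iv F19979)) (tt N4224 F14979) (tt N3445 (iv D4841)))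
theorem Q4780 : ∀ i, i < 4780 → P i := stepQ 4779 Q4779 (allL N4779 (tt N6312 D6388) (tt N3447 (iv D4842)) (tt N6307 (iv F19998)) (tt N6284 (iv F19916)) (tt N6313 D6389) (tt N6314 D6390) (tt N4779 F14980) (tt N4118 F14981))
theorem Q4781 : ∀ i, i < 4781 → P i := stepQ 4780 Q4780 (allL N4780 (tt N3452 F14982) (tt N6313 (iv F20017)) (tt N3448 F14983) (tt N6315 D6391) (tt N3447 (iv D4843)) (tt N4015 F14984) (tt N4780 F14985) (tt N4112 F14986))
theorem Q4782 : ∀ i, i < 4782 → P i := stepQ 4781 Q4781 (allL N4781 (tt N4781 F14987) (tt N6285 (iv F19919)) (tt N6136 (iv F19438)) (tt N4781 F14988) (tt N3449 (iv D4844)) (tt N4781 F14989) (tt N6309 (iv F20007)) (tt N6316 D6392))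
theorem Q4783 : ∀ i, i < 4783 → P i := stepQ 4782 Q4782 (allL N4782 (tt N4782 F14990) (tt N6286 (iv F19921)) (tt N6137 (iv F19442)) (tt N6317 D6393) (tt N6316 (iv F20027)) (tt N4782 F14991) (tt N6318 D6394) (tt N3449 (iv D4845)))
theorem Q4784 : ∀ i, i < 4784 → P i := stepQ 4783 Q4783 (allL N4783 (tt N4783 F14992) (tt N6287 (iv F19922)) (tt N3795 F14993) (tt N3450 (iv D4846)) (tt N6319 D6395) (tt N4783 F14994) (tt N3793 F14995) (tt N6317 (iv F20032)))
theorem Q4785 : ∀ i, i < 4785 → P i := stepQ 4784 Q4784 (allL N4784 (tt N3451 (iv D4847)) (tt N6312 (iv F20013)) (tt N3467 F14996) (tt N3999 F14997) (tt N6320 D6396) (tt N5519 (iv F17532)) (tt N4784 F14998) (tt N4149 F14999))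
theorem Q4786 : ∀ i, i < 4786 → P i := stepQ 4785 Q4785 (allL N4785 (tt N6320 (iv F20039)) (tt N3452 F15000) (tt N3468 F15001) (tt N6321 D6397) (tt N3451 (iv D4848)) (tt N5523 (iv F17549)) (tt N4785 F15002) (tt N4145 F15003))
theorem Q4787 : ∀ i, i < 4787 → P i := stepQ 4786 Q4786 (allL N4786 (tt N6315 (iv F20022)) (tt N6321 (iv F20043)) (tt N4786 F15004) (tt N3452 (iv D4849)) (tt N5491 (iv F17421)) (tt N4035 F15005) (tt N4786 F15006) (tt N5476 F17363))
theorem Q4788 : ∀ i, i < 4788 → P i := stepQ 4787 Q4787 (allL N4787 (tt N6288 (iv F19929)) (tt N4787 F15010) (tt N6152 (iv F19484)) (tt N6322 D6400) (tt N3456 F15011) (tt N4650 F21781) (tt N6323 D6401) (tt N3453 (iv D4851)))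
theorem Q4789 : ∀ i, i < 4789 → P i := stepQ 4788 Q4788 (allL N4788 (tt N6289 (iv F19931)) (tt N4788 F15012) (tt N6324 D6402) (tt N3454 (iv D4852)) (tt N4788 F15013) (tt N4788 F15014) (tt N6325 D6403) (tt N4788 F15015))
theorem Q4790 : ∀ i, i < 4790 → P i := stepQ 4789 Q4789 (allL N4789 (tt N6290 (iv F19936)) (tt N4789 F15016) (tt N6154 (iv F19487)) (tt N6325 (iv F20061)) (tt N3457 F15017) (tt N6326 D6404) (tt N3454 (iv D4853)) (tt N6323 (iv F20056)))
theorem Q4791 : ∀ i, i < 4791 → P i := stepQ 4790 Q4790 (allL N4790 (tt N6291 (iv F19941)) (tt N4651 F21767) (tt N6155 (iv F19491)) (tt N6327 D6408) (tt N4650 (iv F21776)) (tt N3456 F15021) (tt N6095 (iv F21777)) (tt N3455 (iv D4855)))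
theorem Q4792 : ∀ i, i < 4792 → P i := stepQ 4791 Q4791 (allL N4791 (tt N6292 (iv F19943)) (tt N4791 F15022) (tt N6328 D6410) (tt N3456 (iv D4856)) (tt N6329 D6411) (tt N6327 (iv F20073)) (tt N6330 D6412) (tt N3460 F15023))
theorem Q4793 : ∀ i, i < 4793 → P i := stepQ 4792 Q4792 (allL N4792 (tt N6293 (iv F19945)) (tt N4792 F15024) (tt N6157 (iv F19494)) (tt N6330 (iv F20080)) (tt N6323 (iv F20055)) (tt N6331 D6413) (tt N3456 (iv D4857)) (tt N3457 F15025))
theorem Q4794 : ∀ i, i < 4794 → P i := stepQ 4793 Q4793 (allL N4793 (tt N6294 (iv F19948)) (tt N6332 D6414) (tt N6158 (iv F19496)) (tt N4793 F15026) (tt N6326 (iv F20063)) (tt N3457 (iv D4858)) (tt N4793 F15027) (tt N6331 (iv F20082)))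
theorem Q4795 : ∀ i, i < 4795 → P i := stepQ 4794 Q4794 (allL N4794 (tt N4807 F21768) (tt N3459 F15032) (tt N4794 F15033) (tt N6333 D6416) (tt N4794 F15034) (tt N4794 F15035) (tt N6334 D6417) (tt N3458 (iv D4860)))
theorem Q4796 : ∀ i, i < 4796 → P i := stepQ 4795 Q4795 (allL N4795 (tt N6297 (iv F19960)) (tt N6333 (iv F20091)) (tt N6335 D6418) (tt N3459 (iv D4861)) (tt N6336 D6419) (tt N3460 F15036) (tt N6337 D6420) (tt N6327 (iv F20074)))
theorem Q4797 : ∀ i, i < 4797 → P i := stepQ 4796 Q4796 (allL N4796 (tt N6298 (iv F19962)) (tt N6334 (iv F20093)) (tt N3462 F15037) (tt N6337 (iv F20101)) (tt N4796 F15038) (tt N4796 F15039) (tt N3459 (iv D4862)) (tt N4796 F15040))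
theorem Q4798 : ∀ i, i < 4798 → P i := stepQ 4797 Q4797 (allL N4797 (tt N6299 (iv F19967)) (tt N6338 D6421) (tt N3460 (iv D4863)) (tt N3463 F15041) (tt N6339 D6422) (tt N6335 (iv F20098)) (tt N4797 F15042) (tt N6328 (iv F20076)))
theorem Q4799 : ∀ i, i < 4799 → P i := stepQ 4798 Q4798 (allL N4798 (tt N6300 (iv F19970)) (tt N4798 F15043) (tt N6339 (iv F20106)) (tt N4798 F15044) (tt N3460 (iv D4864)) (tt N6336 (iv F20100)) (tt N4798 F15045) (tt N6329 (iv F20078)))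
theorem Q4800 : ∀ i, i < 4800 → P i := stepQ 4799 Q4799 (allL N4799 (tt N6304 (iv F19986)) (tt N6340 D6423) (tt N3461 (iv D4865)) (tt N6335 (iv F20097)) (tt N6341 D6424) (tt N3463 F15046) (tt N6342 D6425) (tt N6165 (iv F19510)))
theorem Q4801 : ∀ i, i < 4801 → P i := stepQ 4800 Q4800 (allL N4800 (tt N6305 (iv F19989)) (tt N4800 F15047) (tt N6341 (iv F20109)) (tt N4800 F15048) (tt N3461 (iv D4866)) (tt N3464 F15049) (tt N6343 D6426) (tt N6166 (iv F19514)))
theorem Q4802 : ∀ i, i < 4802 → P i := stepQ 4801 Q4801 (allL N4801 (tt N6306 (iv F19994)) (tt N4801 F15050) (tt N6342 (iv F20111)) (tt N3462 F15051) (tt N6343 (iv F20115)) (tt N4801 F15052) (tt N3461 (iv D4867)) (tt N6344 D6427))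
theorem Q4803 : ∀ i, i < 4803 → P i := stepQ 4802 Q4802 (allL N4802 (tt N6345 D6428) (tt N3463 (iv D4868)) (tt N3465 F15053) (tt N6338 (iv F20104)) (tt N4640 F21774) (tt N4638 (iv F21780)) (tt N4802 F15054) (tt N6168 (iv F19521)))
theorem Q4804 : ∀ i, i < 4804 → P i := stepQ 4803 Q4803 (allL N4803 (tt N6308 (iv F20001)) (tt N4640 F21773) (tt N3464 F15055) (tt N4643 (iv F21779)) (tt N3463 (iv D4869)) (tt N6341 (iv F20110)) (tt N4803 F15056) (tt N6169 (iv F19525)))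
theorem Q4805 : ∀ i, i < 4805 → P i := stepQ 4804 Q4804 (allL N4804 (tt N3465 (iv D4870)) (tt N3467 F15057) (tt N6345 (iv F20120)) (tt N4804 F15058) (tt N4765 F21772) (tt N4763 (iv F21778)) (tt N4804 F15059) (tt N6099 F19321))
theorem Q4806 : ∀ i, i < 4806 → P i := stepQ 4805 Q4805 (allL N4805 (tt N3468 F15069) (tt N4765 F21770) (tt N6320 (iv F20040)) (tt N4768 F21771) (tt N3467 (iv D4874)) (tt N6267 (iv F19857)) (tt N4805 F15070) (tt N6101 (iv F19328)))
theorem Q4807 : ∀ i, i < 4807 → P i := stepQ 4806 Q4806 (allL N4806 (tt N4768 (iv F21769)) (tt N3469 F15071) (tt N6346 D6439) (tt N3468 (iv D4875)) (tt N4806 F15072) (tt N6268 (iv F19860)) (tt N4806 F15073) (tt N6347 D6440))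
theorem Q4808 : ∀ i, i < 4808 → P i := stepQ 4807 Q4807 (allL N4807 (tt N4794 (iv F21768)) (tt N6347 (iv F20153)) (tt N4807 F15074) (tt N6174 (iv F19543)) (tt N4807 F15075) (tt N4807 F15076) (tt N6348 D6441) (tt N3469 (iv D4876)))
theorem Q4809 : ∀ i, i < 4809 → P i := stepQ 4808 Q4808 (allL N4808 (tt N3471 F15077) (tt N6349 D6442) (tt N3472 F15078) (tt N5149 (iv F16231)) (tt N5211 (iv F16434)) (tt N3470 (iv D4877)) (tt N6350 D6443) (tt N6195 (iv F19610)))
theorem Q4810 : ∀ i, i < 4810 → P i := stepQ 4809 Q4809 (allL N4809 (tt N6350 (iv F20165)) (tt N5205 (iv F16413)) (tt N3473 F15079) (tt N5153 (iv F16247)) (tt N5214 (iv F16443)) (tt N5213 (iv F16441)) (tt N3471 (iv D4878)) (tt N6184 (iv F19576)))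
theorem Q4811 : ∀ i, i < 4811 → P i := stepQ 4810 Q4810 (allL N4810 (tt N4810 F15080) (tt N3472 (iv D4879)) (tt N4424 (iv F15084)) (tt N3479 F15081) (tt N5222 (iv F16473)) (tt N3474 F15082) (tt N6351 D6444) (tt N4421 F15083))
theorem Q4812 : ∀ i, i < 4812 → P i := stepQ 4811 Q4811 (allL N4811 (tt N3473 F15085) (tt N6351 (iv F20168)) (tt N6350 (iv F20166)) (tt N3480 F15086) (tt N5220 (iv F16465)) (tt N5217 (iv F16457)) (tt N3472 (iv D4880)) (tt N5996 (iv F19049)))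
theorem Q4813 : ∀ i, i < 4813 → P i := stepQ 4812 Q4812 (allL N4812 (tt N4812 F15087) (tt N4843 (iv F15199)) (tt N3474 (iv D4881)) (tt N4841 (iv F15191)) (tt N5701 (iv F18078)) (tt N4424 F15088) (tt N6352 D6445) (tt N4423 F15089))
theorem Q4814 : ∀ i, i < 4814 → P i := stepQ 4813 Q4813 (allL N4813 (tt N4813 F15090) (tt N3475 F15091) (tt N6352 (iv F20174)) (tt N3486 F15092) (tt N5700 (iv F18073)) (tt N6353 D6446) (tt N3474 (iv D4882)) (tt N5969 (iv F18955)))
theorem Q4815 : ∀ i, i < 4815 → P i := stepQ 4814 Q4814 (allL N4814 (tt N5137 (iv F16183)) (tt N3476 (iv D4883)) (tt N6354 D6447) (tt N5157 (iv F16260)) (tt N4814 F15093) (tt N4814 F15094) (tt N6355 D6448) (tt N4814 F15095))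
theorem Q4816 : ∀ i, i < 4816 → P i := stepQ 4815 Q4815 (allL N4815 (tt N3478 F15096) (tt N6355 (iv F20183)) (tt N3480 F15097) (tt N5158 (iv F16263)) (tt N4815 F15098) (tt N3871 F15099) (tt N3476 (iv D4884)) (tt N3870 (iv F15100)))
theorem Q4817 : ∀ i, i < 4817 → P i := stepQ 4816 Q4816 (allL N4816 (tt N4816 F15101) (tt N6354 (iv F20179)) (tt N3479 (iv D4885)) (tt N6356 D6449) (tt N4816 F15102) (tt N3485 F15103) (tt N6357 D6450) (tt N4816 F15104))
theorem Q4818 : ∀ i, i < 4818 → P i := stepQ 4817 Q4817 (allL N4817 (tt N4817 F15105) (tt N3480 F15106) (tt N6357 (iv F20191)) (tt N6351 (iv F20170)) (tt N4817 F15107) (tt N6358 D6451) (tt N3479 (iv D4886)) (tt N6359 D6452))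
theorem Q4819 : ∀ i, i < 4819 → P i := stepQ 4818 Q4818 (allL N4818 (tt N3483 F15108) (tt N6360 D6453) (tt N3871 F15109) (tt N5217 (iv F16455)) (tt N4818 F15110) (tt N3480 (iv D4887)) (tt N3481 F15111) (tt N3869 (iv F15112)))
theorem Q4820 : ∀ i, i < 4820 → P i := stepQ 4819 Q4819 (allL N4819 (tt N3484 F15113) (tt N6359 (iv F20197)) (tt N3870 F15114) (tt N6008 (iv F19093)) (tt N4819 F15115) (tt N3869 F15116) (tt N4819 F15117) (tt N3480 (iv D4888)))
theorem Q4821 : ∀ i, i < 4821 → P i := stepQ 4820 Q4820 (allL N4820 (tt N5224 (iv F16481)) (tt N3481 (iv D4889)) (tt N6361 D6454) (tt N5216 (iv F16451)) (tt N4820 F15118) (tt N3489 F15119) (tt N6360 (iv F20201)) (tt N3875 F15120))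
theorem Q4822 : ∀ i, i < 4822 → P i := stepQ 4821 Q4821 (allL N4821 (tt N4821 F15121) (tt N4821 F15122) (tt N4841 F15192) (tt N3485 (iv D4890)) (tt N6362 D6455) (tt N6356 (iv F20188)) (tt N6363 D6456) (tt N4839 (iv F15193)))
theorem Q4823 : ∀ i, i < 4823 → P i := stepQ 4822 Q4822 (allL N4822 (tt N4822 F15123) (tt N4822 F15124) (tt N3486 F15125) (tt N6363 (iv F20212)) (tt N4822 F15126) (tt N6364 D6457) (tt N3485 (iv D4891)) (tt N6365 D6458))
theorem Q4824 : ∀ i, i < 4824 → P i := stepQ 4823 Q4823 (allL N4823 (tt N4823 F15127) (tt N6366 D6459) (tt N6364 (iv F20215)) (tt N6353 (iv F20178)) (tt N4823 F15128) (tt N3486 (iv D4892)) (tt N6358 (iv F20195)) (tt N6367 D6460))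
theorem Q4825 : ∀ i, i < 4825 → P i := stepQ 4824 Q4824 (allL N4824 (tt N4824 F15129) (tt N3488 F15130) (tt N6365 (iv F20219)) (tt N6368 D6461) (tt N4824 F15131) (tt N6367 (iv F20227)) (tt N4824 F15132) (tt N3486 (iv D4893)))
theorem Q4826 : ∀ i, i < 4826 → P i := stepQ 4825 Q4825 (allL N4825 (tt N5709 (iv F18109)) (tt N3487 (iv D4894)) (tt N6369 D6462) (tt N5695 (iv F18059)) (tt N4825 F15133) (tt N6366 (iv F20224)) (tt N3489 F15134) (tt N6370 D6463))
theorem Q4827 : ∀ i, i < 4827 → P i := stepQ 4826 Q4826 (allL N4826 (tt N3492 F15135) (tt N6370 (iv F20235)) (tt N4826 F15136) (tt N6371 D6464) (tt N4826 F15137) (tt N3488 F15138) (tt N6372 D6465) (tt N3487 (iv D4895)))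
theorem Q4828 : ∀ i, i < 4828 → P i := stepQ 4827 Q4827 (allL N4827 (tt N3493 F15139) (tt N6368 (iv F20229)) (tt N6373 D6466) (tt N3488 (iv D4896)) (tt N5987 (iv F19014)) (tt N6371 (iv F20238)) (tt N4827 F15140) (tt N5971 F18961))
theorem Q4829 : ∀ i, i < 4829 → P i := stepQ 4828 Q4828 (allL N4828 (tt N5708 (iv F18107)) (tt N4828 F15141) (tt N3489 (iv D4897)) (tt N6374 D6467) (tt N4828 F15142) (tt N6361 (iv F20205)) (tt N6369 (iv F20234)) (tt N6375 D6468))
theorem Q4830 : ∀ i, i < 4830 → P i := stepQ 4829 Q4829 (allL N4829 (tt N5710 (iv F18113)) (tt N3490 F15143) (tt N6375 (iv F20250)) (tt N3881 (iv F15146)) (tt N4829 F15144) (tt N3875 F15145) (tt N6376 D6469) (tt N3489 (iv D4898)))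
theorem Q4831 : ∀ i, i < 4831 → P i := stepQ 4830 Q4830 (allL N4830 (tt N3494 F15147) (tt N3881 F15148) (tt N6377 D6470) (tt N3490 (iv D4899)) (tt N4545 (iv F15150)) (tt N3491 F15149) (tt N6378 D6471) (tt N5493 (iv F17434)))
theorem Q4832 : ∀ i, i < 4832 → P i := stepQ 4831 Q4831 (allL N4831 (tt N3495 F15151) (tt N6376 (iv F20254)) (tt N4831 F15152) (tt N6378 (iv F20266)) (tt N4831 F15153) (tt N4831 F15154) (tt N3490 (iv D4900)) (tt N6372 (iv F20243)))
theorem Q4833 : ∀ i, i < 4833 → P i := stepQ 4832 Q4832 (allL N4832 (tt N3496 F15155) (tt N3885 F15156) (tt N3491 (iv D4901)) (tt N4832 F15157) (tt N4303 F15158) (tt N6377 (iv F20262)) (tt N4832 F15159) (tt N5492 (iv F17427)))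
theorem Q4834 : ∀ i, i < 4834 → P i := stepQ 4833 Q4833 (allL N4833 (tt N6371 (iv F20237)) (tt N5731 (iv F18173)) (tt N6379 D6472) (tt N3492 (iv D4902)) (tt N5992 (iv F19029)) (tt N3493 F15160) (tt N6380 D6473) (tt N5702 (iv F18083)))
theorem Q4835 : ∀ i, i < 4835 → P i := stepQ 4834 Q4834 (allL N4834 (tt N6372 (iv F20239)) (tt N5732 (iv F18176)) (tt N4834 F15161) (tt N6380 (iv F20272)) (tt N4834 F15162) (tt N4834 F15163) (tt N3492 (iv D4903)) (tt N3495 F15164))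
theorem Q4836 : ∀ i, i < 4836 → P i := stepQ 4835 Q4835 (allL N4835 (tt N6373 (iv F20244)) (tt N5852 (iv F18540)) (tt N3493 (iv D4904)) (tt N4835 F15165) (tt N5991 (iv F19024)) (tt N6379 (iv F20271)) (tt N4835 F15166) (tt N5729 F18169))
theorem Q4837 : ∀ i, i < 4837 → P i := stepQ 4836 Q4836 (allL N4836 (tt N6377 (iv F20258)) (tt N4037 F15167) (tt N3494 (iv D4905)) (tt N4836 F15168) (tt N4036 F15169) (tt N3496 F15170) (tt N5847 (iv F18521)) (tt N4040 F15171))
theorem Q4838 : ∀ i, i < 4838 → P i := stepQ 4837 Q4837 (allL N4837 (tt N6378 (iv F20264)) (tt N5520 (iv F17536)) (tt N5847 (iv F18518)) (tt N3495 F15172) (tt N5645 (iv F17898)) (tt N4837 F15173) (tt N3494 (iv D4906)) (tt N5848 (iv F18525)))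
theorem Q4839 : ∀ i, i < 4839 → P i := stepQ 4838 Q4838 (allL N4838 (tt N4303 F15174) (tt N4838 F15175) (tt N3497 F15176) (tt N4242 (iv F15180)) (tt N3496 (iv D4907)) (tt N4036 F15177) (tt N4838 F15178) (tt N4041 F15179))
theorem Q4840 : ∀ i, i < 4840 → P i := stepQ 4839 Q4839 (allL N4839 (tt N4839 F15181) (tt N4839 F15182) (tt N3498 (iv D4908)) (tt N4839 F15183) (tt N6381 D6474) (tt N5902 F18710) (tt N4839 F15184) (tt N4821 F15193))
theorem Q4841 : ∀ i, i < 4841 → P i := stepQ 4840 Q4840 (allL N4840 (tt N4840 F15185) (tt N3499 F15186) (tt N6381 (iv F20276)) (tt N4840 F15187) (tt N3498 (iv D4909)) (tt N5903 F18715) (tt N4840 F15188) (tt N6382 D6475))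
theorem Q4842 : ∀ i, i < 4842 → P i := stepQ 4841 Q4841 (allL N4841 (tt N4841 F15189) (tt N3500 F15190) (tt N4821 (iv F15192)) (tt N4812 F15191) (tt N6382 (iv F20282)) (tt N5904 (iv F18719)) (tt N6383 D6476) (tt N3498 (iv D4910)))
theorem Q4843 : ∀ i, i < 4843 → P i := stepQ 4842 Q4842 (allL N4842 (tt N3503 F15194) (tt N6382 (iv F20280)) (tt N4842 F15195) (tt N6384 D6477) (tt N3500 F15196) (tt N3512 F15197) (tt N6385 D6478) (tt N3499 (iv D4911)))
theorem Q4844 : ∀ i, i < 4844 → P i := stepQ 4843 Q4843 (allL N4843 (tt N3504 F15198) (tt N4812 F15199) (tt N4659 (iv F15202)) (tt N3500 (iv D4912)) (tt N5098 (iv F16035)) (tt N3513 F15200) (tt N5311 (iv F16817)) (tt N3501 F15201))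
theorem Q4845 : ∀ i, i < 4845 → P i := stepQ 4844 Q4844 (allL N4844 (tt N3505 F15203) (tt N6383 (iv F20284)) (tt N4844 F15204) (tt N5311 F16818) (tt N6385 (iv F20293)) (tt N5312 (iv F16821)) (tt N3500 (iv D4913)) (tt N4844 F15205))
theorem Q4846 : ∀ i, i < 4846 → P i := stepQ 4845 Q4845 (allL N4845 (tt N6384 (iv F20288)) (tt N4845 F15206) (tt N5343 (iv F16923)) (tt N3503 (iv D4914)) (tt N5115 (iv F16097)) (tt N3523 F15207) (tt N6228 (iv F19721)) (tt N4845 F15208))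
theorem Q4847 : ∀ i, i < 4847 → P i := stepQ 4846 Q4846 (allL N4846 (tt N6385 (iv F20291)) (tt N4846 F15209) (tt N4846 F15210) (tt N6228 (iv F19720)) (tt N3505 F15211) (tt N5314 (iv F16829)) (tt N3503 (iv D4915)) (tt N4846 F15212))
theorem Q4848 : ∀ i, i < 4848 → P i := stepQ 4847 Q4847 (allL N4847 (tt N3625 F15213) (tt N4847 F15214) (tt N3508 F15215) (tt N6386 D6479) (tt N3507 (iv D4916)) (tt N6387 D6480) (tt N4283 F15216) (tt N6388 D6481))
theorem Q4849 : ∀ i, i < 4849 → P i := stepQ 4848 Q4848 (allL N4848 (tt N3626 F15217) (tt N6389 D6482) (tt N3509 F15218) (tt N3946 F15219) (tt N6387 (iv F20305)) (tt N3507 (iv D4917)) (tt N5554 (iv F17618)) (tt N6390 D6483))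
theorem Q4850 : ∀ i, i < 4850 → P i := stepQ 4849 Q4849 (allL N4849 (tt N3627 F15220) (tt N4849 F15221) (tt N3510 F15222) (tt N6391 D6484) (tt N6388 (iv F20310)) (tt N6390 (iv F20316)) (tt N6392 D6485) (tt N3507 (iv D4918)))
theorem Q4851 : ∀ i, i < 4851 → P i := stepQ 4850 Q4850 (allL N4850 (tt N3628 F15223) (tt N5903 (iv F18712)) (tt N6387 (iv F20303)) (tt N4850 F15224) (tt N3509 F15225) (tt N3508 (iv D4919)) (tt N5555 (iv F17622)) (tt N6393 D6486))
theorem Q4852 : ∀ i, i < 4852 → P i := stepQ 4851 Q4851 (allL N4851 (tt N3629 F15226) (tt N3512 F15227) (tt N6388 (iv F20309)) (tt N6394 D6487) (tt N3510 F15228) (tt N6393 (iv F20325)) (tt N6395 D6488) (tt N3508 (iv D4920)))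
theorem Q4853 : ∀ i, i < 4853 → P i := stepQ 4852 Q4852 (allL N4852 (tt N3631 F15229) (tt N5904 (iv F18717)) (tt N6390 (iv F20315)) (tt N5560 (iv F17642)) (tt N6393 (iv F20324)) (tt N3510 F15230) (tt N6396 D6489) (tt N3509 (iv D4921)))
theorem Q4854 : ∀ i, i < 4854 → P i := stepQ 4853 Q4853 (allL N4853 (tt N3632 F15231) (tt N3513 F15232) (tt N6397 D6490) (tt N3510 (iv D4922)) (tt N6398 D6491) (tt N5560 (iv F17643)) (tt N6399 D6492) (tt N3511 F15233))
theorem Q4855 : ∀ i, i < 4855 → P i := stepQ 4854 Q4854 (allL N4854 (tt N3633 F15234) (tt N3514 F15235) (tt N6392 (iv F20322)) (tt N6399 (iv F20343)) (tt N6395 (iv F20331)) (tt N6400 D6493) (tt N3510 (iv D4923)) (tt N5135 (iv F16178)))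
theorem Q4856 : ∀ i, i < 4856 → P i := stepQ 4855 Q4855 (allL N4855 (tt N3635 F15236) (tt N6401 D6494) (tt N3511 (iv D4924)) (tt N3955 F15237) (tt N6402 D6495) (tt N5558 F17634) (tt N5567 (iv F17667)) (tt N6397 (iv F20337)))
theorem Q4857 : ∀ i, i < 4857 → P i := stepQ 4856 Q4856 (allL N4856 (tt N3636 F15238) (tt N3516 F15239) (tt N6402 (iv F20351)) (tt N4856 F15240) (tt N3511 (iv D4925)) (tt N5559 F17639) (tt N5569 (iv F17673)) (tt N6398 (iv F20340)))
theorem Q4858 : ∀ i, i < 4858 → P i := stepQ 4857 Q4857 (allL N4857 (tt N3523 F15241) (tt N6394 (iv F20327)) (tt N6403 D6496) (tt N3512 (iv D4926)) (tt N6404 D6497) (tt N6384 (iv F20289)) (tt N6405 D6498) (tt N4857 F15242))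
theorem Q4859 : ∀ i, i < 4859 → P i := stepQ 4858 Q4858 (allL N4858 (tt N3524 F15243) (tt N6395 (iv F20330)) (tt N4858 F15244) (tt N6405 (iv F20361)) (tt N3514 F15245) (tt N6406 D6499) (tt N3512 (iv D4927)) (tt N4665 F15246))
theorem Q4860 : ∀ i, i < 4860 → P i := stepQ 4859 Q4859 (allL N4859 (tt N3525 F15247) (tt N4657 (iv F15251)) (tt N3513 (iv D4928)) (tt N4859 F15248) (tt N5101 (iv F16049)) (tt N4659 F15249) (tt N6407 D6500) (tt N3515 F15250))
theorem Q4861 : ∀ i, i < 4861 → P i := stepQ 4860 Q4860 (allL N4860 (tt N3526 F15252) (tt N6398 (iv F20339)) (tt N5101 (iv F16047)) (tt N6404 (iv F20357)) (tt N3513 (iv D4929)) (tt N5098 (iv F16036)) (tt N6408 D6501) (tt N3516 F15253))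
theorem Q4862 : ∀ i, i < 4862 → P i := stepQ 4861 Q4861 (allL N4861 (tt N3527 F15254) (tt N6399 (iv F20342)) (tt N6407 (iv F20369)) (tt N3514 F15255) (tt N6408 (iv F20372)) (tt N5084 (iv F15976)) (tt N3513 (iv D4930)) (tt N5083 F15974))
theorem Q4863 : ∀ i, i < 4863 → P i := stepQ 4862 Q4862 (allL N4862 (tt N3528 F15256) (tt N6409 D6502) (tt N4862 F15257) (tt N5084 F15978) (tt N6406 (iv F20365)) (tt N3514 (iv D4931)) (tt N5312 (iv F16822)) (tt N5136 (iv F16182)))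
theorem Q4864 : ∀ i, i < 4864 → P i := stepQ 4863 Q4863 (allL N4863 (tt N4549 (iv F15261)) (tt N3515 (iv D4932)) (tt N6401 (iv F20345)) (tt N3518 F15258) (tt N5099 (iv F16039)) (tt N4548 F15259) (tt N6410 D6503) (tt N4657 F15260))
theorem Q4865 : ∀ i, i < 4865 → P i := stepQ 4864 Q4864 (allL N4864 (tt N3530 F15262) (tt N6410 (iv F20374)) (tt N3517 F15263) (tt N3519 F15264) (tt N5100 (iv F16044)) (tt N5054 (iv F15861)) (tt N3515 (iv D4933)) (tt N5053 F15857))
theorem Q4866 : ∀ i, i < 4866 → P i := stepQ 4865 Q4865 (allL N4865 (tt N3518 (iv D4934)) (tt N3531 F15265) (tt N3966 F15266) (tt N4549 F15267) (tt N4886 (iv F15338)) (tt N4429 F15268) (tt N6411 D6504) (tt N4865 F15269))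
theorem Q4867 : ∀ i, i < 4867 → P i := stepQ 4866 Q4866 (allL N4866 (tt N6411 (iv F20376)) (tt N3519 F15270) (tt N3969 F15271) (tt N6410 (iv F20375)) (tt N4894 (iv F15373)) (tt N6412 D6505) (tt N3518 (iv D4935)) (tt N6413 D6506))
theorem Q4868 : ∀ i, i < 4868 → P i := stepQ 4867 Q4867 (allL N4867 (tt N3533 F15272) (tt N6414 D6507) (tt N3521 F15273) (tt N5054 F15863) (tt N3622 F15274) (tt N3519 (iv D4936)) (tt N3620 F15275) (tt N6415 D6508))
theorem Q4869 : ∀ i, i < 4869 → P i := stepQ 4868 Q4868 (allL N4868 (tt N3534 F15276) (tt N6413 (iv F20381)) (tt N3522 F15277) (tt N6416 D6509) (tt N4895 (iv F15376)) (tt N6415 (iv F20389)) (tt N4868 F15278) (tt N3519 (iv D4937)))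
theorem Q4870 : ∀ i, i < 4870 → P i := stepQ 4869 Q4869 (allL N4869 (tt N3535 F15279) (tt N5613 (iv F17808)) (tt N3622 F15280) (tt N4869 F15281) (tt N3521 F15282) (tt N3520 (iv D4938)) (tt N3571 F15283) (tt N6198 (iv F19625)))
theorem Q4871 : ∀ i, i < 4871 → P i := stepQ 4870 Q4870 (allL N4870 (tt N3536 F15284) (tt N5614 (iv F17812)) (tt N6415 (iv F20387)) (tt N5072 (iv F15930)) (tt N6198 (iv F19622)) (tt N3522 F15285) (tt N6417 D6510) (tt N3521 (iv D4939)))
theorem Q4872 : ∀ i, i < 4872 → P i := stepQ 4871 Q4871 (allL N4871 (tt N6403 (iv F20352)) (tt N4871 F15286) (tt N3523 (iv D4940)) (tt N4871 F15287) (tt N5341 F16918) (tt N5343 (iv F16925)) (tt N4709 (iv F15296)) (tt N4871 F15288))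
theorem Q4873 : ∀ i, i < 4873 → P i := stepQ 4872 Q4872 (allL N4872 (tt N6404 (iv F20356)) (tt N3662 F15289) (tt N5341 (iv F16915)) (tt N3526 F15290) (tt N3523 (iv D4941)) (tt N5115 (iv F16098)) (tt N6418 D6511) (tt N4872 F15291))
theorem Q4874 : ∀ i, i < 4874 → P i := stepQ 4873 Q4873 (allL N4873 (tt N6405 (iv F20359)) (tt N3663 F15292) (tt N4709 F15295) (tt N3524 F15293) (tt N6418 (iv F20402)) (tt N6419 D6512) (tt N3523 (iv D4942)) (tt N4705 (iv F15294)))
theorem Q4875 : ∀ i, i < 4875 → P i := stepQ 4874 Q4874 (allL N4874 (tt N6406 (iv F20363)) (tt N5122 (iv F16127)) (tt N4874 F15297) (tt N6419 (iv F20405)) (tt N3528 F15298) (tt N3524 (iv D4943)) (tt N5314 (iv F16830)) (tt N4666 F15299))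
theorem Q4876 : ∀ i, i < 4876 → P i := stepQ 4875 Q4875 (allL N4875 (tt N6407 (iv F20367)) (tt N6249 (iv F19795)) (tt N3527 F15300) (tt N4875 F15301) (tt N5116 (iv F16104)) (tt N5061 (iv F15887)) (tt N3525 (iv D4944)) (tt N5060 F15883))
theorem Q4877 : ∀ i, i < 4877 → P i := stepQ 4876 Q4876 (allL N4876 (tt N6408 (iv F20371)) (tt N3668 F15302) (tt N5116 (iv F16102)) (tt N6418 (iv F20401)) (tt N3527 F15303) (tt N5090 (iv F16002)) (tt N3526 (iv D4945)) (tt N5089 (iv F15999)))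
theorem Q4878 : ∀ i, i < 4878 → P i := stepQ 4877 Q4877 (allL N4877 (tt N3529 (iv D4946)) (tt N4549 F15304) (tt N3672 F15305) (tt N3531 F15306) (tt N5076 (iv F15950)) (tt N4308 F15307) (tt N6420 D6513) (tt N4382 F15308))
theorem Q4879 : ∀ i, i < 4879 → P i := stepQ 4878 Q4878 (allL N4878 (tt N6420 (iv F20407)) (tt N3530 F15309) (tt N3675 F15310) (tt N3532 F15311) (tt N5087 (iv F15989)) (tt N5067 (iv F15910)) (tt N3529 (iv D4947)) (tt N5062 (iv F15891)))
theorem Q4880 : ∀ i, i < 4880 → P i := stepQ 4879 Q4879 (allL N4879 (tt N3532 F15312) (tt N6411 (iv F20377)) (tt N3539 F15313) (tt N6420 (iv F20410)) (tt N4887 (iv F15344)) (tt N6421 D6514) (tt N3531 (iv D4948)) (tt N6422 D6515))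
theorem Q4881 : ∀ i, i < 4881 → P i := stepQ 4880 Q4880 (allL N4880 (tt N6421 (iv F20411)) (tt N5068 (iv F15911)) (tt N3543 F15314) (tt N5067 (iv F15908)) (tt N4892 (iv F15362)) (tt N3532 (iv D4949)) (tt N4891 (iv F15358)) (tt N3722 F15315))
theorem Q4882 : ∀ i, i < 4882 → P i := stepQ 4881 Q4881 (allL N4881 (tt N6422 (iv F20414)) (tt N3534 F15316) (tt N3544 F15317) (tt N3697 (iv F15320)) (tt N4893 (iv F15368)) (tt N3722 F15318) (tt N4881 F15319) (tt N3532 (iv D4950)))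
theorem Q4883 : ∀ i, i < 4883 → P i := stepQ 4882 Q4882 (allL N4882 (tt N6415 (iv F20386)) (tt N5047 (iv F15835)) (tt N3536 F15321) (tt N5045 (iv F15828)) (tt N3623 F15322) (tt N3534 F15323) (tt N3846 F15324) (tt N3533 (iv D4951)))
theorem Q4884 : ∀ i, i < 4884 → P i := stepQ 4883 Q4883 (allL N4883 (tt N6416 (iv F20391)) (tt N3697 F15325) (tt N3692 F15326) (tt N3534 (iv D4952)) (tt N6423 D6516) (tt N5045 (iv F15829)) (tt N4883 F15327) (tt N5044 F15826))
theorem Q4885 : ∀ i, i < 4885 → P i := stepQ 4884 Q4884 (allL N4884 (tt N6417 (iv F20394)) (tt N4960 (iv F15601)) (tt N3846 F15328) (tt N5074 (iv F15939)) (tt N3789 F15329) (tt N4884 F15330) (tt N3536 (iv D4953)) (tt N3788 F15331))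
theorem Q4886 : ∀ i, i < 4886 → P i := stepQ 4885 Q4885 (allL N4885 (tt N3541 F15332) (tt N3988 F15333) (tt N4887 (iv F15342)) (tt N5767 (iv F18270)) (tt N3539 F15334) (tt N6424 D6517) (tt N3537 (iv D4954)) (tt N6213 (iv F19672)))
theorem Q4887 : ∀ i, i < 4887 → P i := stepQ 4886 Q4886 (allL N4886 (tt N3548 F15335) (tt N3538 (iv D4955)) (tt N4092 F15336) (tt N3704 F15337) (tt N4865 F15338) (tt N3989 F15339) (tt N6425 D6518) (tt N4886 F15340))
theorem Q4888 : ∀ i, i < 4888 → P i := stepQ 4887 Q4887 (allL N4887 (tt N3542 F15341) (tt N6425 (iv F20430)) (tt N4885 F15342) (tt N3705 F15343) (tt N4879 F15344) (tt N6426 D6519) (tt N3538 (iv D4956)) (tt N6427 D6520))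
theorem Q4889 : ∀ i, i < 4889 → P i := stepQ 4888 Q4888 (allL N4888 (tt N3543 F15345) (tt N6428 D6521) (tt N6421 (iv F20412)) (tt N3706 F15346) (tt N6424 (iv F20426)) (tt N3539 (iv D4957)) (tt N6426 (iv F20438)) (tt N3725 (iv F15347)))
theorem Q4890 : ∀ i, i < 4890 → P i := stepQ 4889 Q4889 (allL N4889 (tt N3544 F15348) (tt N3992 F15349) (tt N6422 (iv F20415)) (tt N3700 F15350) (tt N6213 (iv F19669)) (tt N3725 F15351) (tt N4889 F15352) (tt N3539 (iv D4958)))
theorem Q4891 : ∀ i, i < 4891 → P i := stepQ 4890 Q4890 (allL N4890 (tt N5767 (iv F18268)) (tt N3545 F15353) (tt N5043 (iv F15822)) (tt N3541 F15354) (tt N3710 F15355) (tt N6429 D6522) (tt N3540 (iv D4959)) (tt N4890 F15356))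
theorem Q4892 : ∀ i, i < 4892 → P i := stepQ 4891 Q4891 (allL N4891 (tt N6424 (iv F20425)) (tt N4950 (iv F15571)) (tt N4892 (iv F15360)) (tt N6429 (iv F20450)) (tt N3543 F15357) (tt N3541 (iv D4960)) (tt N4880 F15358) (tt N3726 F15359))
theorem Q4893 : ∀ i, i < 4893 → P i := stepQ 4892 Q4892 (allL N4892 (tt N6426 (iv F20434)) (tt N4943 (iv F15542)) (tt N4891 F15360) (tt N3713 F15361) (tt N4880 F15362) (tt N3542 (iv D4961)) (tt N3543 F15363) (tt N3756 F15364))
theorem Q4894 : ∀ i, i < 4894 → P i := stepQ 4893 Q4893 (allL N4893 (tt N6427 (iv F20440)) (tt N3551 F15365) (tt N4698 F15366) (tt N3762 F15367) (tt N4881 F15368) (tt N3756 F15369) (tt N4893 F15370) (tt N3542 (iv D4962)))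
theorem Q4895 : ∀ i, i < 4895 → P i := stepQ 4894 Q4894 (allL N4894 (tt N6425 (iv F20429)) (tt N3549 F15371) (tt N5388 (iv F17087)) (tt N3733 F15372) (tt N4866 F15373) (tt N6430 D6523) (tt N3548 (iv D4963)) (tt N6431 D6524))
theorem Q4896 : ∀ i, i < 4896 → P i := stepQ 4895 Q4895 (allL N4895 (tt N3551 F15374) (tt N6431 (iv F20457)) (tt N4699 F15375) (tt N6432 D6525) (tt N4868 F15376) (tt N4967 (iv F15620)) (tt N4895 F15377) (tt N3549 (iv D4964)))
theorem Q4897 : ∀ i, i < 4897 → P i := stepQ 4896 Q4896 (allL N4896 (tt N6179 (iv F19550)) (tt N3552 F15378) (tt N3916 F15379) (tt N4896 F15380) (tt N3740 F15381) (tt N3905 F15383) (tt N3550 (iv D4965)) (tt N3904 F15382))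
theorem Q4898 : ∀ i, i < 4898 → P i := stepQ 4897 Q4897 (allL N4897 (tt N6432 (iv F20461)) (tt N3762 F15384) (tt N4701 F15385) (tt N3551 (iv D4966)) (tt N6186 (iv F19582)) (tt N4944 (iv F15548)) (tt N4897 F15386) (tt N3745 F15387))
theorem Q4899 : ∀ i, i < 4899 → P i := stepQ 4898 Q4898 (allL N4898 (tt N3561 F15388) (tt N5557 (iv F17627)) (tt N3555 (iv D4967)) (tt N3557 F15389) (tt N5556 F17625) (tt N3581 F15390) (tt N6433 D6526) (tt N4516 F15391))
theorem Q4900 : ∀ i, i < 4900 → P i := stepQ 4899 Q4899 (allL N4899 (tt N3563 F15392) (tt N4477 F15393) (tt N6433 (iv F20466)) (tt N3556 F15394) (tt N4696 F15395) (tt N3833 (iv F15396)) (tt N3555 (iv D4968)) (tt N3832 (iv F15397)))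
theorem Q4901 : ∀ i, i < 4901 → P i := stepQ 4900 Q4900 (allL N4900 (tt N6434 D6527) (tt N3557 (iv D4969)) (tt N4900 F15398) (tt N5557 F17630) (tt N6435 D6528) (tt N5565 (iv F17660)) (tt N6436 D6529) (tt N3765 F15399))
theorem Q4902 : ∀ i, i < 4902 → P i := stepQ 4901 Q4901 (allL N4901 (tt N3566 F15400) (tt N6435 (iv F20474)) (tt N3558 F15401) (tt N6437 D6530) (tt N3557 (iv D4970)) (tt N3586 F15402) (tt N4907 (iv F15424)) (tt N3766 F15403))
theorem Q4903 : ∀ i, i < 4903 → P i := stepQ 4902 Q4902 (allL N4902 (tt N3567 F15404) (tt N6436 (iv F20479)) (tt N3559 F15405) (tt N6433 (iv F20467)) (tt N4907 (iv F15423)) (tt N6438 D6531) (tt N3557 (iv D4971)) (tt N5148 (iv F16227)))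
theorem Q4904 : ∀ i, i < 4904 → P i := stepQ 4903 Q4903 (allL N4903 (tt N3568 F15406) (tt N4461 (iv F15409)) (tt N6438 (iv F20486)) (tt N3560 F15407) (tt N4911 (iv F15440)) (tt N3559 (iv D4972)) (tt N3589 F15408) (tt N5156 (iv F16258)))
theorem Q4905 : ∀ i, i < 4905 → P i := stepQ 4904 Q4904 (allL N4904 (tt N6439 D6532) (tt N3561 (iv D4973)) (tt N4904 F15410) (tt N3565 F15411) (tt N6182 (iv F19566)) (tt N6181 F19562) (tt N4909 (iv F15432)) (tt N4661 F15412))
theorem Q4906 : ∀ i, i < 4906 → P i := stepQ 4905 Q4905 (allL N4905 (tt N5556 F17624) (tt N6182 (iv F19563)) (tt N3562 F15413) (tt N5194 (iv F16372)) (tt N3561 (iv D4974)) (tt N3597 F15414) (tt N4679 F15416) (tt N4662 F15415))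
theorem Q4907 : ∀ i, i < 4907 → P i := stepQ 4906 Q4906 (allL N4906 (tt N6433 (iv F20465)) (tt N4909 (iv F15429)) (tt N3563 F15417) (tt N3567 F15418) (tt N4679 F15419) (tt N3827 (iv F15420)) (tt N3561 (iv D4975)) (tt N3826 (iv F15421)))
theorem Q4908 : ∀ i, i < 4908 → P i := stepQ 4907 Q4907 (allL N4907 (tt N3565 (iv D4976)) (tt N6434 (iv F20471)) (tt N3569 F15422) (tt N6439 (iv F20490)) (tt N4902 F15423) (tt N6440 D6533) (tt N4901 F15424) (tt N3772 F15425))
theorem Q4909 : ∀ i, i < 4909 → P i := stepQ 4908 Q4908 (allL N4908 (tt N6440 (iv F20493)) (tt N3605 F15426) (tt N3570 F15427) (tt N6181 (iv F19561)) (tt N4910 (iv F15436)) (tt N3565 (iv D4977)) (tt N4957 (iv F15591)) (tt N3774 F15428))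
theorem Q4910 : ∀ i, i < 4910 → P i := stepQ 4909 Q4909 (allL N4909 (tt N6437 (iv F20482)) (tt N4906 F15429) (tt N4909 F15430) (tt N3566 (iv D4978)) (tt N5194 (iv F16373)) (tt N3607 F15431) (tt N4904 F15432) (tt N5204 (iv F16412)))
theorem Q4911 : ∀ i, i < 4911 → P i := stepQ 4910 Q4910 (allL N4910 (tt N6438 (iv F20485)) (tt N3828 F15433) (tt N3568 F15434) (tt N3827 F15435) (tt N4908 F15436) (tt N3567 (iv D4979)) (tt N3609 F15437) (tt N5152 (iv F16244)))
theorem Q4912 : ∀ i, i < 4912 → P i := stepQ 4911 Q4911 (allL N4911 (tt N3570 F15438) (tt N5940 (iv F18848)) (tt N6440 (iv F20494)) (tt N4911 F15439) (tt N4903 F15440) (tt N3569 (iv D4980)) (tt N4937 (iv F15523)) (tt N3781 F15441))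
theorem Q4913 : ∀ i, i < 4913 → P i := stepQ 4912 Q4912 (allL N4912 (tt N5131 (iv F16163)) (tt N4083 F15442) (tt N3573 F15443) (tt N4002 F15444) (tt N4085 F15445) (tt N3572 (iv D4981)) (tt N6441 D6534) (tt N6442 D6535))
theorem Q4914 : ∀ i, i < 4914 → P i := stepQ 4913 Q4913 (allL N4913 (tt N5132 (iv F16166)) (tt N3790 F15446) (tt N3574 F15447) (tt N6443 D6536) (tt N4284 F15448) (tt N6442 (iv F20507)) (tt N6444 D6537) (tt N3572 (iv D4982)))
theorem Q4915 : ∀ i, i < 4915 → P i := stepQ 4914 Q4914 (allL N4914 (tt N5133 (iv F16169)) (tt N4383 F15449) (tt N6441 (iv F20498)) (tt N3575 F15450) (tt N4388 F15451) (tt N3630 F15452) (tt N3573 (iv D4983)) (tt N6445 D6538))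
theorem Q4916 : ∀ i, i < 4916 → P i := stepQ 4915 Q4915 (allL N4915 (tt N5134 (iv F16173)) (tt N4384 F15453) (tt N6442 (iv F20504)) (tt N5893 (iv F18680)) (tt N4389 F15454) (tt N3574 F15455) (tt N6446 D6539) (tt N3573 (iv D4984)))
theorem Q4917 : ∀ i, i < 4917 → P i := stepQ 4916 Q4916 (allL N4916 (tt N5129 (iv F16155)) (tt N3579 F15456) (tt N5915 (iv F18763)) (tt N3574 (iv D4985)) (tt N5894 (iv F18687)) (tt N5893 F18682) (tt N6447 D6540) (tt N3577 F15457))
theorem Q4918 : ∀ i, i < 4918 → P i := stepQ 4917 Q4917 (allL N4917 (tt N5135 (iv F16176)) (tt N3580 F15458) (tt N6444 (iv F20514)) (tt N6447 (iv F20524)) (tt N4522 F15459) (tt N6448 D6541) (tt N3574 (iv D4986)) (tt N3633 F15460))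
theorem Q4919 : ∀ i, i < 4919 → P i := stepQ 4918 Q4918 (allL N4918 (tt N5096 (iv F16026)) (tt N3583 F15461) (tt N5922 (iv F18782)) (tt N3578 F15462) (tt N5906 (iv F18727)) (tt N4170 F15463) (tt N3577 (iv D4987)) (tt N6449 D6542))
theorem Q4920 : ∀ i, i < 4920 → P i := stepQ 4919 Q4919 (allL N4919 (tt N3592 F15464) (tt N6450 D6543) (tt N3579 (iv D4988)) (tt N3796 F15465) (tt N4945 (iv F15553)) (tt N4516 F15466) (tt N6451 D6544) (tt N3581 F15467))
theorem Q4921 : ∀ i, i < 4921 → P i := stepQ 4920 Q4920 (allL N4920 (tt N3593 F15468) (tt N5894 (iv F18684)) (tt N4945 (iv F15551)) (tt N3749 F15469) (tt N3579 (iv D4989)) (tt N4517 F15470) (tt N6452 D6545) (tt N3582 F15471))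
theorem Q4922 : ∀ i, i < 4922 → P i := stepQ 4921 Q4921 (allL N4921 (tt N3594 F15472) (tt N6447 (iv F20523)) (tt N6451 (iv F20537)) (tt N3580 F15473) (tt N6452 (iv F20541)) (tt N6453 D6546) (tt N3579 (iv D4990)) (tt N6454 D6547))
theorem Q4923 : ∀ i, i < 4923 → P i := stepQ 4922 Q4922 (allL N4922 (tt N3595 F15474) (tt N6455 D6548) (tt N3799 F15475) (tt N6453 (iv F20543)) (tt N4524 F15476) (tt N3580 (iv D4991)) (tt N4519 F15477) (tt N3643 F15478))
theorem Q4924 : ∀ i, i < 4924 → P i := stepQ 4923 Q4923 (allL N4923 (tt N6456 D6549) (tt N3581 (iv D4992)) (tt N5584 (iv F17726)) (tt N3585 F15479) (tt N5563 (iv F17655)) (tt N5562 (iv F17652)) (tt N6457 D6550) (tt N6450 (iv F20535)))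
theorem Q4925 : ∀ i, i < 4925 → P i := stepQ 4924 Q4924 (allL N4924 (tt N3597 F15480) (tt N5563 (iv F17653)) (tt N3582 F15481) (tt N5193 (iv F16367)) (tt N3581 (iv D4993)) (tt N5556 F17626) (tt N6458 D6551) (tt N4945 (iv F15554)))
theorem Q4926 : ∀ i, i < 4926 → P i := stepQ 4925 Q4925 (allL N4925 (tt N3598 F15482) (tt N6457 (iv F20559)) (tt N3583 F15483) (tt N3587 F15484) (tt N6458 (iv F20563)) (tt N6459 D6552) (tt N3581 (iv D4994)) (tt N6460 D6553))
theorem Q4927 : ∀ i, i < 4927 → P i := stepQ 4926 Q4926 (allL N4926 (tt N3599 F15485) (tt N5906 (iv F18724)) (tt N6458 (iv F20562)) (tt N4926 F15486) (tt N3583 F15487) (tt N4697 F15488) (tt N3582 (iv D4995)) (tt N6461 D6554))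
theorem Q4928 : ∀ i, i < 4928 → P i := stepQ 4927 Q4927 (allL N4927 (tt N3600 F15489) (tt N4062 F15490) (tt N6459 (iv F20566)) (tt N3584 F15491) (tt N4697 F15492) (tt N3583 (iv D4996)) (tt N3833 F15493) (tt N3615 (iv F15494)))
theorem Q4929 : ∀ i, i < 4929 → P i := stepQ 4928 Q4928 (allL N4928 (tt N3601 F15495) (tt N6449 (iv F20528)) (tt N6460 (iv F20572)) (tt N3649 F15496) (tt N6461 (iv F20575)) (tt N3615 F15497) (tt N6454 (iv F20549)) (tt N3583 (iv D4997)))
theorem Q4930 : ∀ i, i < 4930 → P i := stepQ 4929 Q4929 (allL N4929 (tt N3585 (iv D4998)) (tt N3603 F15498) (tt N4023 F15499) (tt N6456 (iv F20555)) (tt N6462 D6555) (tt N6463 D6556) (tt N6464 D6557) (tt N3804 F15500))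
theorem Q4931 : ∀ i, i < 4931 → P i := stepQ 4930 Q4930 (allL N4930 (tt N6462 (iv F20577)) (tt N3586 F15501) (tt N4024 F15502) (tt N6465 D6558) (tt N3585 (iv D4999)) (tt N6466 D6559) (tt N6467 D6560) (tt N3805 F15503))
theorem Q4932 : ∀ i, i < 4932 → P i := stepQ 4931 Q4931 (allL N4931 (tt N6463 (iv F20581)) (tt N5565 (iv F17658)) (tt N4025 F15504) (tt N5562 F17651) (tt N6466 (iv F20591)) (tt N3585 (iv D5000)) (tt N6468 D6561) (tt N3806 F15505))
theorem Q4933 : ∀ i, i < 4933 → P i := stepQ 4932 Q4932 (allL N4932 (tt N6464 (iv F20586)) (tt N3587 F15506) (tt N4026 F15507) (tt N6457 (iv F20560)) (tt N6467 (iv F20595)) (tt N6469 D6562) (tt N3585 (iv D5001)) (tt N6470 D6563))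
theorem Q4934 : ∀ i, i < 4934 → P i := stepQ 4933 Q4933 (allL N4933 (tt N3607 F15508) (tt N6465 (iv F20589)) (tt N4933 F15509) (tt N3586 (iv D5002)) (tt N5193 (iv F16368)) (tt N6437 (iv F20484)) (tt N6471 D6564) (tt N5201 (iv F16401)))
theorem Q4935 : ∀ i, i < 4935 → P i := stepQ 4934 Q4934 (allL N4934 (tt N3608 F15510) (tt N6467 (iv F20593)) (tt N3588 F15511) (tt N6471 (iv F20605)) (tt N3587 F15512) (tt N6472 D6565) (tt N3586 (iv D5003)) (tt N4532 F15513))
theorem Q4936 : ∀ i, i < 4936 → P i := stepQ 4935 Q4935 (allL N4935 (tt N3609 F15514) (tt N6473 D6566) (tt N3589 F15515) (tt N6459 (iv F20567)) (tt N6472 (iv F20608)) (tt N3587 (iv D5004)) (tt N6438 (iv F20488)) (tt N6474 D6567))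
theorem Q4937 : ∀ i, i < 4937 → P i := stepQ 4936 Q4936 (allL N4936 (tt N3610 F15516) (tt N6470 (iv F20599)) (tt N3590 F15517) (tt N6475 D6568) (tt N4532 F15518) (tt N6474 (iv F20614)) (tt N3808 F15519) (tt N3587 (iv D5005)))
theorem Q4938 : ∀ i, i < 4938 → P i := stepQ 4937 Q4937 (allL N4937 (tt N3611 F15520) (tt N6476 D6569) (tt N6472 (iv F20607)) (tt N4937 F15521) (tt N3589 F15522) (tt N3588 (iv D5006)) (tt N4911 F15523) (tt N4533 F15524))
theorem Q4939 : ∀ i, i < 4939 → P i := stepQ 4938 Q4938 (allL N4938 (tt N4142 F15525) (tt N3589 (iv D5007)) (tt N5953 (iv F18901)) (tt N3591 F15526) (tt N6476 (iv F20620)) (tt N4032 F15527) (tt N4461 F15528) (tt N6477 D6570))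
theorem Q4940 : ∀ i, i < 4940 → P i := stepQ 4939 Q4939 (allL N4939 (tt N3612 F15529) (tt N6477 (iv F20625)) (tt N6474 (iv F20612)) (tt N3660 F15530) (tt N4533 F15531) (tt N3590 F15532) (tt N6478 D6571) (tt N3589 (iv D5008)))
theorem Q4941 : ∀ i, i < 4941 → P i := stepQ 4940 Q4940 (allL N4940 (tt N6451 (iv F20536)) (tt N4947 (iv F15559)) (tt N3594 F15533) (tt N3811 F15534) (tt N4946 (iv F15558)) (tt N6197 (iv F19617)) (tt N3592 (iv D5009)) (tt N6479 D6572))
theorem Q4942 : ∀ i, i < 4942 → P i := stepQ 4941 Q4941 (allL N4941 (tt N6452 (iv F20539)) (tt N3722 F15535) (tt N4946 (iv F15556)) (tt N3718 F15536) (tt N3594 F15537) (tt N5047 (iv F15837)) (tt N3593 (iv D5010)) (tt N5068 (iv F15914)))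
theorem Q4943 : ∀ i, i < 4943 → P i := stepQ 4942 Q4942 (allL N4942 (tt N6453 (iv F20542)) (tt N3623 F15538) (tt N6197 (iv F19615)) (tt N3595 F15539) (tt N5047 (iv F15836)) (tt N3594 (iv D5011)) (tt N3836 F15540) (tt N3617 F15541))
theorem Q4944 : ∀ i, i < 4944 → P i := stepQ 4943 Q4943 (allL N4943 (tt N6454 (iv F20546)) (tt N4892 F15542) (tt N6479 (iv F20633)) (tt N3670 F15543) (tt N5068 (iv F15912)) (tt N3617 F15544) (tt N3601 F15545) (tt N3594 (iv D5012)))
theorem Q4945 : ∀ i, i < 4945 → P i := stepQ 4944 Q4944 (allL N4944 (tt N6480 D6573) (tt N3595 (iv D5013)) (tt N6200 (iv F19631)) (tt N3623 F15546) (tt N4669 F15547) (tt N4897 F15548) (tt N3847 F15549) (tt N3671 F15550))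
theorem Q4946 : ∀ i, i < 4946 → P i := stepQ 4945 Q4945 (allL N4945 (tt N3596 (iv D5014)) (tt N6456 (iv F20553)) (tt N4920 F15551) (tt N3603 F15552) (tt N4919 F15553) (tt N5994 (iv F19040)) (tt N6481 D6574) (tt N4924 F15554))
theorem Q4947 : ∀ i, i < 4947 → P i := stepQ 4946 Q4946 (allL N4946 (tt N6481 (iv F20641)) (tt N3598 F15555) (tt N4941 F15556) (tt N3606 F15557) (tt N4940 F15558) (tt N6482 D6575) (tt N3596 (iv D5015)) (tt N6483 D6576))
theorem Q4948 : ∀ i, i < 4948 → P i := stepQ 4947 Q4947 (allL N4947 (tt N6458 (iv F20561)) (tt N4940 F15559) (tt N3599 F15560) (tt N5195 (iv F16377)) (tt N3598 F15561) (tt N4680 F15562) (tt N3597 (iv D5016)) (tt N6484 D6577))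
theorem Q4949 : ∀ i, i < 4949 → P i := stepQ 4948 Q4948 (allL N4948 (tt N6459 (iv F20565)) (tt N3610 F15567) (tt N3600 F15563) (tt N3609 F15564) (tt N4680 F15565) (tt N3598 (iv D5017)) (tt N3827 F15566) (tt N3606 (iv F15568)))
theorem Q4950 : ∀ i, i < 4950 → P i := stepQ 4949 Q4949 (allL N4949 (tt N6460 (iv F20571)) (tt N6483 (iv F20650)) (tt N3601 F15569) (tt N6482 (iv F20647)) (tt N6484 (iv F20657)) (tt N3606 F15570) (tt N6479 (iv F20635)) (tt N3598 (iv D5018)))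
theorem Q4951 : ∀ i, i < 4951 → P i := stepQ 4950 Q4950 (allL N4950 (tt N6461 (iv F20574)) (tt N4891 F15571) (tt N6484 (iv F20656)) (tt N5069 (iv F15917)) (tt N3601 F15572) (tt N3616 F15573) (tt N5068 F15915) (tt N3599 (iv D5019)))
theorem Q4952 : ∀ i, i < 4952 → P i := stepQ 4951 Q4951 (allL N4951 (tt N3604 F15574) (tt N6462 (iv F20578)) (tt N3613 F15575) (tt N5174 (iv F16315)) (tt N3603 (iv D5020)) (tt N5192 (iv F16364)) (tt N6485 D6578) (tt N3821 F15576))
theorem Q4953 : ∀ i, i < 4953 → P i := stepQ 4952 Q4952 (allL N4952 (tt N3605 F15577) (tt N6486 D6579) (tt N3614 F15578) (tt N5994 (iv F19039)) (tt N5192 F16365) (tt N3603 (iv D5021)) (tt N6487 D6580) (tt N3822 F15579))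
theorem Q4954 : ∀ i, i < 4954 → P i := stepQ 4953 Q4953 (allL N4953 (tt N3606 F15580) (tt N6464 (iv F20587)) (tt N3615 F15581) (tt N6481 (iv F20643)) (tt N6485 (iv F20662)) (tt N6460 (iv F20573)) (tt N3603 (iv D5022)) (tt N6459 F20570))
theorem Q4955 : ∀ i, i < 4955 → P i := stepQ 4954 Q4954 (allL N4954 (tt N6485 (iv F20660)) (tt N3608 F15582) (tt N3616 F15583) (tt N5196 (iv F16381)) (tt N3606 F15584) (tt N6484 (iv F20658)) (tt N3604 (iv D5023)) (tt N4680 F15585))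
theorem Q4956 : ∀ i, i < 4956 → P i := stepQ 4955 Q4955 (allL N4955 (tt N6487 (iv F20668)) (tt N4957 F15593) (tt N3617 F15586) (tt N6184 (iv F19574)) (tt N4958 (iv F15596)) (tt N6479 (iv F20634)) (tt N3605 (iv D5024)) (tt N6197 (iv F19619)))
theorem Q4957 : ∀ i, i < 4957 → P i := stepQ 4956 Q4956 (allL N4956 (tt N6471 (iv F20603)) (tt N5196 (iv F16379)) (tt N4956 F15587) (tt N3608 F15588) (tt N5195 (iv F16378)) (tt N6488 D6581) (tt N3607 (iv D5025)) (tt N6489 D6582))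
theorem Q4958 : ∀ i, i < 4958 → P i := stepQ 4957 Q4957 (allL N4957 (tt N6472 (iv F20606)) (tt N4955 (iv F15593)) (tt N3611 F15589) (tt N6488 (iv F20672)) (tt N3609 F15590) (tt N3608 (iv D5026)) (tt N4908 F15591) (tt N4681 F15592))
theorem Q4959 : ∀ i, i < 4959 → P i := stepQ 4958 Q4958 (allL N4958 (tt N6475 (iv F20615)) (tt N3609 (iv D5027)) (tt N3694 F15594) (tt N3610 F15595) (tt N4955 F15596) (tt N6483 (iv F20654)) (tt N3828 F15597) (tt N6482 (iv F20649)))
theorem Q4960 : ∀ i, i < 4960 → P i := stepQ 4959 Q4959 (allL N4959 (tt N6474 (iv F20611)) (tt N6482 (iv F20645)) (tt N3612 F15598) (tt N6483 (iv F20652)) (tt N4681 F15599) (tt N3610 F15600) (tt N6490 D6583) (tt N3609 (iv D5028)))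
theorem Q4961 : ∀ i, i < 4961 → P i := stepQ 4960 Q4960 (allL N4960 (tt N6478 (iv F20629)) (tt N4884 F15601) (tt N6490 (iv F20681)) (tt N3699 F15602) (tt N3813 F15603) (tt N3812 F15604) (tt N3612 (iv D5029)) (tt N5159 (iv F16268)))
theorem Q4962 : ∀ i, i < 4962 → P i := stepQ 4961 Q4961 (allL N4961 (tt N3616 F15605) (tt N4058 F15606) (tt N6485 (iv F20661)) (tt N5286 (iv F16711)) (tt N3615 F15607) (tt N6461 (iv F20576)) (tt N3613 (iv D5030)) (tt N4697 F15608))
theorem Q4963 : ∀ i, i < 4963 → P i := stepQ 4962 Q4962 (allL N4962 (tt N3621 F15609) (tt N3614 (iv D5031)) (tt N6491 D6584) (tt N5113 (iv F16088)) (tt N5285 (iv F16707)) (tt N4059 F15610) (tt N6492 D6585) (tt N3830 F15611))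
theorem Q4964 : ∀ i, i < 4964 → P i := stepQ 4963 Q4963 (allL N4963 (tt N3617 F15612) (tt N6492 (iv F20691)) (tt N6487 (iv F20669)) (tt N5120 (iv F16117)) (tt N5026 F15774) (tt N6454 (iv F20548)) (tt N3614 (iv D5032)) (tt N6453 F20545))
theorem Q4965 : ∀ i, i < 4965 → P i := stepQ 4964 Q4964 (allL N4964 (tt N5285 (iv F16705)) (tt N3620 (iv D5033)) (tt N5937 (iv F18835)) (tt N5280 (iv F16690)) (tt N3621 F15613) (tt N4072 F15614) (tt N6414 (iv F20385)) (tt N3839 F15615))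
theorem Q4966 : ∀ i, i < 4966 → P i := stepQ 4965 Q4965 (allL N4965 (tt N6491 (iv F20685)) (tt N5938 (iv F18839)) (tt N3621 (iv D5034)) (tt N6493 D6586) (tt N5937 F18837) (tt N4074 F15616) (tt N6494 D6587) (tt N3841 F15617))
theorem Q4967 : ∀ i, i < 4967 → P i := stepQ 4966 Q4966 (allL N4966 (tt N6492 (iv F20690)) (tt N3622 F15618) (tt N6494 (iv F20698)) (tt N5110 (iv F16077)) (tt N6414 (iv F20384)) (tt N6495 D6588) (tt N3621 (iv D5035)) (tt N6496 D6589))
theorem Q4968 : ∀ i, i < 4968 → P i := stepQ 4967 Q4967 (allL N4967 (tt N3623 F15619) (tt N6496 (iv F20701)) (tt N6198 (iv F19620)) (tt N6480 (iv F20636)) (tt N6415 (iv F20388)) (tt N4895 F15620) (tt N3843 F15621) (tt N3622 (iv D5036)))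
theorem Q4969 : ∀ i, i < 4969 → P i := stepQ 4968 Q4968 (allL N4968 (tt N6386 (iv F20295)) (tt N3848 F15622) (tt N4968 F15623) (tt N3625 (iv D5037)) (tt N4082 F15624) (tt N6497 D6590) (tt N3851 F15625) (tt N6498 D6591))
theorem Q4970 : ∀ i, i < 4970 → P i := stepQ 4969 Q4969 (allL N4969 (tt N6387 (iv F20302)) (tt N6499 D6592) (tt N3628 F15626) (tt N6497 (iv F20706)) (tt N3626 F15627) (tt N3625 (iv D5038)) (tt N6500 D6593) (tt N6501 D6594))
theorem Q4971 : ∀ i, i < 4971 → P i := stepQ 4970 Q4970 (allL N4970 (tt N6388 (iv F20307)) (tt N3850 F15628) (tt N3629 F15629) (tt N6502 D6595) (tt N3627 F15630) (tt N6501 (iv F20723)) (tt N6503 D6596) (tt N3625 (iv D5039)))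
theorem Q4972 : ∀ i, i < 4972 → P i := stepQ 4971 Q4971 (allL N4971 (tt N6504 D6597) (tt N3626 (iv D5040)) (tt N4971 F15631) (tt N4085 F15632) (tt N6499 (iv F20716)) (tt N3851 F15633) (tt N6505 D6598) (tt N6506 D6599))
theorem Q4973 : ∀ i, i < 4973 → P i := stepQ 4972 Q4972 (allL N4972 (tt N5554 (iv F17616)) (tt N6505 (iv F20733)) (tt N3630 F15634) (tt N4086 F15635) (tt N6500 (iv F20719)) (tt N6441 (iv F20501)) (tt N3626 (iv D5041)) (tt N6507 D6600))
theorem Q4974 : ∀ i, i < 4974 → P i := stepQ 4973 Q4973 (allL N4973 (tt N6390 (iv F20314)) (tt N6506 (iv F20737)) (tt N3631 F15636) (tt N6508 D6601) (tt N6501 (iv F20722)) (tt N3627 F15637) (tt N6509 D6602) (tt N3626 (iv D5042)))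
theorem Q4975 : ∀ i, i < 4975 → P i := stepQ 4974 Q4974 (allL N4974 (tt N6391 (iv F20317)) (tt N3853 F15638) (tt N6510 D6603) (tt N3627 (iv D5043)) (tt N6511 D6604) (tt N6508 (iv F20743)) (tt N6512 D6605) (tt N4088 F15639))
theorem Q4976 : ∀ i, i < 4976 → P i := stepQ 4975 Q4975 (allL N4975 (tt N6392 (iv F20320)) (tt N3854 F15640) (tt N3633 F15641) (tt N6512 (iv F20754)) (tt N6503 (iv F20727)) (tt N6513 D6606) (tt N3627 (iv D5044)) (tt N6444 (iv F20516)))
theorem Q4977 : ∀ i, i < 4977 → P i := stepQ 4976 Q4976 (allL N4976 (tt N5555 (iv F17619)) (tt N4976 F15642) (tt N6500 (iv F20718)) (tt N4976 F15643) (tt N3630 F15644) (tt N4388 F15645) (tt N3628 (iv D5045)) (tt N6514 D6607))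
theorem Q4978 : ∀ i, i < 4978 → P i := stepQ 4977 Q4977 (allL N4977 (tt N6393 (iv F20323)) (tt N4977 F15646) (tt N6501 (iv F20721)) (tt N6515 D6608) (tt N3631 F15647) (tt N3629 F15648) (tt N6516 D6609) (tt N3628 (iv D5046)))
theorem Q4979 : ∀ i, i < 4979 → P i := stepQ 4978 Q4978 (allL N4978 (tt N6394 (iv F20326)) (tt N3638 F15649) (tt N6517 D6610) (tt N3629 (iv D5047)) (tt N6518 D6611) (tt N6515 (iv F20760)) (tt N6519 D6612) (tt N4978 F15650))
theorem Q4980 : ∀ i, i < 4980 → P i := stepQ 4979 Q4979 (allL N4979 (tt N6395 (iv F20329)) (tt N3639 F15651) (tt N6503 (iv F20726)) (tt N6519 (iv F20770)) (tt N3633 F15652) (tt N6520 D6613) (tt N3629 (iv D5048)) (tt N4522 F15653))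
theorem Q4981 : ∀ i, i < 4981 → P i := stepQ 4980 Q4980 (allL N4980 (tt N5541 (iv F17587)) (tt N4980 F15654) (tt N6507 (iv F20741)) (tt N5365 (iv F17012)) (tt N6514 (iv F20757)) (tt N6445 (iv F20520)) (tt N6521 D6614) (tt N3630 (iv D5049)))
theorem Q4982 : ∀ i, i < 4982 → P i := stepQ 4981 Q4981 (allL N4981 (tt N5560 (iv F17640)) (tt N4981 F15655) (tt N6522 D6615) (tt N3631 (iv D5050)) (tt N6523 D6616) (tt N3632 F15656) (tt N6524 D6617) (tt N3634 F15657))
theorem Q4983 : ∀ i, i < 4983 → P i := stepQ 4982 Q4982 (allL N4982 (tt N6396 (iv F20333)) (tt N4982 F15658) (tt N6509 (iv F20746)) (tt N6524 (iv F20784)) (tt N6516 (iv F20763)) (tt N6525 D6618) (tt N3631 (iv D5051)) (tt N6521 (iv F20774)))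
theorem Q4984 : ∀ i, i < 4984 → P i := stepQ 4983 Q4983 (allL N4983 (tt N6397 (iv F20334)) (tt N6526 D6619) (tt N3632 (iv D5052)) (tt N6510 (iv F20748)) (tt N6527 D6620) (tt N6522 (iv F20777)) (tt N6528 D6621) (tt N3635 F15659))
theorem Q4985 : ∀ i, i < 4985 → P i := stepQ 4984 Q4984 (allL N4984 (tt N6398 (iv F20338)) (tt N3641 F15660) (tt N6527 (iv F20791)) (tt N6518 (iv F20767)) (tt N3632 (iv D5053)) (tt N6523 (iv F20781)) (tt N6529 D6622) (tt N3636 F15661))
theorem Q4986 : ∀ i, i < 4986 → P i := stepQ 4985 Q4985 (allL N4985 (tt N6399 (iv F20341)) (tt N3642 F15662) (tt N6528 (iv F20793)) (tt N3633 F15663) (tt N6529 (iv F20795)) (tt N6530 D6623) (tt N3632 (iv D5054)) (tt N6531 D6624))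
theorem Q4987 : ∀ i, i < 4987 → P i := stepQ 4986 Q4986 (allL N4986 (tt N6400 (iv F20344)) (tt N6532 D6625) (tt N6513 (iv F20755)) (tt N6530 (iv F20796)) (tt N6520 (iv F20771)) (tt N3633 (iv D5055)) (tt N6525 (iv F20785)) (tt N6448 (iv F20526)))
theorem Q4988 : ∀ i, i < 4988 → P i := stepQ 4987 Q4987 (allL N4987 (tt N5558 (iv F17631)) (tt N6533 D6626) (tt N3634 (iv D5056)) (tt N4102 F15664) (tt N6534 D6627) (tt N3635 F15665) (tt N5371 (iv F17027)) (tt N6522 (iv F20778)))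
theorem Q4989 : ∀ i, i < 4989 → P i := stepQ 4988 Q4988 (allL N4988 (tt N5559 (iv F17635)) (tt N4988 F15666) (tt N6534 (iv F20807)) (tt N4988 F15667) (tt N3634 (iv D5057)) (tt N3636 F15668) (tt N5372 (iv F17032)) (tt N6523 (iv F20782)))
theorem Q4990 : ∀ i, i < 4990 → P i := stepQ 4989 Q4989 (allL N4989 (tt N6535 D6628) (tt N3635 (iv D5058)) (tt N3644 F15669) (tt N4105 F15670) (tt N6536 D6629) (tt N6537 D6630) (tt N6538 D6631) (tt N6526 (iv F20790)))
theorem Q4991 : ∀ i, i < 4991 → P i := stepQ 4990 Q4990 (allL N4990 (tt N6402 (iv F20350)) (tt N6536 (iv F20815)) (tt N3636 F15671) (tt N6539 D6632) (tt N3635 (iv D5059)) (tt N6534 (iv F20809)) (tt N6540 D6633) (tt N6527 (iv F20792)))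
theorem Q4992 : ∀ i, i < 4992 → P i := stepQ 4991 Q4991 (allL N4991 (tt N5567 (iv F17664)) (tt N6538 (iv F20825)) (tt N3637 F15672) (tt N4107 F15673) (tt N6540 (iv F20833)) (tt N5375 (iv F17041)) (tt N3635 (iv D5060)) (tt N6541 D6634))
theorem Q4993 : ∀ i, i < 4993 → P i := stepQ 4992 Q4992 (allL N4992 (tt N5569 (iv F17669)) (tt N3647 F15674) (tt N6540 (iv F20832)) (tt N4992 F15675) (tt N3637 F15676) (tt N5376 (iv F17046)) (tt N3636 (iv D5061)) (tt N6542 D6635))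
theorem Q4994 : ∀ i, i < 4994 → P i := stepQ 4993 Q4993 (allL N4993 (tt N5085 (iv F15979)) (tt N3649 F15677) (tt N6541 (iv F20834)) (tt N6449 (iv F20529)) (tt N6542 (iv F20836)) (tt N5377 (iv F17049)) (tt N6531 (iv F20798)) (tt N3637 (iv D5062)))
theorem Q4995 : ∀ i, i < 4995 → P i := stepQ 4994 Q4994 (allL N4994 (tt N3662 F15678) (tt N6518 (iv F20766)) (tt N4994 F15679) (tt N3641 F15680) (tt N3638 (iv D5063)) (tt N4994 F15681) (tt N6543 D6636) (tt N4994 F15682))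
theorem Q4996 : ∀ i, i < 4996 → P i := stepQ 4995 Q4995 (allL N4995 (tt N3663 F15683) (tt N6519 (iv F20769)) (tt N4995 F15684) (tt N3639 F15685) (tt N6543 (iv F20840)) (tt N6544 D6637) (tt N3638 (iv D5064)) (tt N6545 D6638))
theorem Q4997 : ∀ i, i < 4997 → P i := stepQ 4996 Q4996 (allL N4996 (tt N3664 F15686) (tt N6546 D6639) (tt N3867 F15687) (tt N6544 (iv F20843)) (tt N3643 F15688) (tt N3639 (iv D5065)) (tt N4996 F15689) (tt N4524 F15690))
theorem Q4998 : ∀ i, i < 4998 → P i := stepQ 4997 Q4997 (allL N4997 (tt N6547 D6640) (tt N3640 (iv D5066)) (tt N6526 (iv F20787)) (tt N3868 F15691) (tt N6548 D6641) (tt N6549 D6642) (tt N6550 D6643) (tt N3644 F15692))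
theorem Q4999 : ∀ i, i < 4999 → P i := stepQ 4998 Q4998 (allL N4998 (tt N3666 F15693) (tt N6548 (iv F20857)) (tt N3641 F15694) (tt N4998 F15695) (tt N3640 (iv D5067)) (tt N4998 F15696) (tt N6010 (iv F19103)) (tt N3645 F15697))
theorem Q5000 : ∀ i, i < 5000 → P i := stepQ 4999 Q4999 (allL N4999 (tt N3667 F15698) (tt N6550 (iv F20865)) (tt N3642 F15699) (tt N3869 F15700) (tt N6010 (iv F19101)) (tt N6008 (iv F19095)) (tt N3640 (iv D5068)) (tt N6007 F19090))
theorem Q5001 : ∀ i, i < 5001 → P i := stepQ 5000 Q5000 (allL N5000 (tt N3668 F15701) (tt N6529 (iv F20794)) (tt N6010 (iv F19099)) (tt N6543 (iv F20839)) (tt N3642 F15702) (tt N6006 (iv F19084)) (tt N3641 (iv D5069)) (tt N6005 (iv F19080)))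
theorem Q5002 : ∀ i, i < 5002 → P i := stepQ 5001 Q5001 (allL N5001 (tt N3669 F15703) (tt N6551 D6644) (tt N6008 (iv F19092)) (tt N3643 F15704) (tt N6006 (iv F19083)) (tt N3642 (iv D5070)) (tt N5001 F15705) (tt N5120 (iv F16121)))
theorem Q5003 : ∀ i, i < 5003 → P i := stepQ 5002 Q5002 (allL N5002 (tt N3670 F15706) (tt N6531 (iv F20797)) (tt N6007 (iv F19087)) (tt N6454 (iv F20547)) (tt N6005 (iv F19078)) (tt N5120 (iv F16119)) (tt N3649 F15707) (tt N3642 (iv D5071)))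
theorem Q5004 : ∀ i, i < 5004 → P i := stepQ 5003 Q5003 (allL N5003 (tt N6552 D6645) (tt N3643 (iv D5072)) (tt N6553 D6646) (tt N6551 (iv F20867)) (tt N6546 (iv F20849)) (tt N6532 (iv F20799)) (tt N5003 F15708) (tt N6455 (iv F20552)))
theorem Q5005 : ∀ i, i < 5005 → P i := stepQ 5004 Q5004 (allL N5004 (tt N3644 (iv D5073)) (tt N3672 F15709) (tt N6535 (iv F20811)) (tt N3650 F15710) (tt N6554 D6647) (tt N6555 D6648) (tt N6556 D6649) (tt N6547 (iv F20855)))
theorem Q5006 : ∀ i, i < 5006 → P i := stepQ 5005 Q5005 (allL N5005 (tt N6554 (iv F20873)) (tt N3645 F15711) (tt N6536 (iv F20816)) (tt N6557 D6650) (tt N3644 (iv D5074)) (tt N6558 D6651) (tt N6559 D6652) (tt N6548 (iv F20859)))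
theorem Q5007 : ∀ i, i < 5007 → P i := stepQ 5006 Q5006 (allL N5006 (tt N6555 (iv F20875)) (tt N5006 F15712) (tt N6537 (iv F20821)) (tt N3652 F15713) (tt N6558 (iv F20888)) (tt N3644 (iv D5075)) (tt N6560 D6653) (tt N6549 (iv F20864)))
theorem Q5008 : ∀ i, i < 5008 → P i := stepQ 5007 Q5007 (allL N5007 (tt N6556 (iv F20880)) (tt N3646 F15714) (tt N6538 (iv F20826)) (tt N3653 F15715) (tt N6559 (iv F20890)) (tt N6561 D6654) (tt N3644 (iv D5076)) (tt N6562 D6655))
theorem Q5009 : ∀ i, i < 5009 → P i := stepQ 5008 Q5008 (allL N5008 (tt N3676 F15716) (tt N6557 (iv F20883)) (tt N5008 F15717) (tt N3645 (iv D5077)) (tt N3654 F15718) (tt N5008 F15719) (tt N6563 D6656) (tt N5008 F15720))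
theorem Q5010 : ∀ i, i < 5010 → P i := stepQ 5009 Q5009 (allL N5009 (tt N3677 F15721) (tt N6559 (iv F20889)) (tt N3647 F15722) (tt N6563 (iv F20897)) (tt N3646 F15723) (tt N6002 (iv F19069)) (tt N3645 (iv D5078)) (tt N6001 (iv F19065)))
theorem Q5011 : ∀ i, i < 5011 → P i := stepQ 5010 Q5010 (allL N5010 (tt N3678 F15724) (tt N6564 D6657) (tt N3648 F15725) (tt N3656 F15726) (tt N6002 (iv F19068)) (tt N3646 (iv D5079)) (tt N5010 F15727) (tt N5092 (iv F16015)))
theorem Q5012 : ∀ i, i < 5012 → P i := stepQ 5011 Q5011 (allL N5011 (tt N3679 F15728) (tt N6562 (iv F20894)) (tt N3649 F15729) (tt N6565 D6658) (tt N6001 (iv F19063)) (tt N5092 (iv F16013)) (tt N6007 (iv F19089)) (tt N3646 (iv D5080)))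
theorem Q5013 : ∀ i, i < 5013 → P i := stepQ 5012 Q5012 (allL N5012 (tt N3680 F15730) (tt N6542 (iv F20835)) (tt N6001 (iv F19061)) (tt N6020 (iv F19130)) (tt N3649 F15731) (tt N5091 (iv F16008)) (tt N6005 (iv F19079)) (tt N3647 (iv D5081)))
theorem Q5014 : ∀ i, i < 5014 → P i := stepQ 5013 Q5013 (allL N5013 (tt N3651 F15732) (tt N3681 F15733) (tt N4127 F15734) (tt N6566 D6659) (tt N3650 (iv D5082)) (tt N6567 D6660) (tt N6568 D6661) (tt N3876 F15735))
theorem Q5015 : ∀ i, i < 5015 → P i := stepQ 5014 Q5014 (allL N5014 (tt N3652 F15736) (tt N6569 D6662) (tt N4128 F15737) (tt N6555 (iv F20878)) (tt N6567 (iv F20912)) (tt N3650 (iv D5083)) (tt N6570 D6663) (tt N3877 F15738))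
theorem Q5016 : ∀ i, i < 5016 → P i := stepQ 5015 Q5015 (allL N5015 (tt N3653 F15739) (tt N3683 F15740) (tt N4129 F15741) (tt N6556 (iv F20882)) (tt N6568 (iv F20917)) (tt N6571 D6664) (tt N3650 (iv D5084)) (tt N6572 D6665))
theorem Q5017 : ∀ i, i < 5017 → P i := stepQ 5016 Q5016 (allL N5016 (tt N6566 (iv F20907)) (tt N3654 F15742) (tt N6573 D6666) (tt N3651 (iv D5085)) (tt N6557 (iv F20884)) (tt N6574 D6667) (tt N6575 D6668) (tt N5016 F15743))
theorem Q5018 : ∀ i, i < 5018 → P i := stepQ 5017 Q5017 (allL N5017 (tt N6567 (iv F20910)) (tt N5017 F15744) (tt N4131 F15745) (tt N6574 (iv F20938)) (tt N3652 F15746) (tt N3651 (iv D5086)) (tt N6576 D6669) (tt N3879 F15747))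
theorem Q5019 : ∀ i, i < 5019 → P i := stepQ 5018 Q5018 (allL N5018 (tt N6568 (iv F20914)) (tt N3655 F15748) (tt N4132 F15749) (tt N6575 (iv F20941)) (tt N3653 F15750) (tt N6577 D6670) (tt N3651 (iv D5087)) (tt N4540 F15751))
theorem Q5020 : ∀ i, i < 5020 → P i := stepQ 5019 Q5019 (allL N5019 (tt N6570 (iv F20924)) (tt N5019 F15752) (tt N4133 F15753) (tt N6560 (iv F20892)) (tt N6576 (iv F20944)) (tt N6578 D6671) (tt N3652 (iv D5088)) (tt N6579 D6672))
theorem Q5021 : ∀ i, i < 5021 → P i := stepQ 5020 Q5020 (allL N5020 (tt N6571 (iv F20926)) (tt N6580 D6673) (tt N4134 F15754) (tt N6561 (iv F20893)) (tt N6577 (iv F20946)) (tt N3653 (iv D5089)) (tt N6578 (iv F20949)) (tt N6581 D6674))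
theorem Q5022 : ∀ i, i < 5022 → P i := stepQ 5021 Q5021 (allL N5021 (tt N6572 (iv F20928)) (tt N3657 F15755) (tt N4135 F15756) (tt N6582 D6675) (tt N4540 F15757) (tt N6581 (iv F20956)) (tt N3882 F15758) (tt N3653 (iv D5090)))
theorem Q5023 : ∀ i, i < 5023 → P i := stepQ 5022 Q5022 (allL N5022 (tt N3690 F15759) (tt N6575 (iv F20940)) (tt N5022 F15760) (tt N3655 F15761) (tt N6563 (iv F20898)) (tt N6583 D6676) (tt N3654 (iv D5091)) (tt N6584 D6677))
theorem Q5024 : ∀ i, i < 5024 → P i := stepQ 5023 Q5023 (allL N5023 (tt N3691 F15762) (tt N6585 D6678) (tt N3658 F15763) (tt N6583 (iv F20963)) (tt N3656 F15764) (tt N3655 (iv D5092)) (tt N5023 F15765) (tt N4541 F15766))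
theorem Q5025 : ∀ i, i < 5025 → P i := stepQ 5024 Q5024 (allL N5024 (tt N6586 D6679) (tt N3656 (iv D5093)) (tt N6587 D6680) (tt N6564 (iv F20901)) (tt N6585 (iv F20973)) (tt N6580 (iv F20953)) (tt N5024 F15767) (tt N6588 D6681))
theorem Q5026 : ∀ i, i < 5026 → P i := stepQ 5025 Q5025 (allL N5025 (tt N3693 F15768) (tt N6588 (iv F20980)) (tt N3660 F15769) (tt N6589 D6682) (tt N4541 F15770) (tt N3657 F15771) (tt N6590 D6683) (tt N3656 (iv D5094)))
theorem Q5027 : ∀ i, i < 5027 → P i := stepQ 5026 Q5026 (allL N5026 (tt N3694 F15772) (tt N6582 (iv F20958)) (tt N6475 (iv F20616)) (tt N3657 (iv D5095)) (tt N4963 (iv F15774)) (tt N6589 (iv F20984)) (tt N3884 F15773) (tt N6565 (iv F20906)))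
theorem Q5028 : ∀ i, i < 5028 → P i := stepQ 5027 Q5027 (allL N5027 (tt N5955 (iv F18908)) (tt N6587 (iv F20978)) (tt N3659 (iv D5096)) (tt N5397 (iv F17108)) (tt N5951 (iv F18894)) (tt N4140 F15775) (tt N5027 F15776) (tt N6591 D6684))
theorem Q5029 : ∀ i, i < 5029 → P i := stepQ 5028 Q5028 (allL N5028 (tt N5957 (iv F18917)) (tt N3660 F15777) (tt N6591 (iv F20993)) (tt N6477 (iv F20626)) (tt N4542 F15778) (tt N4141 F15779) (tt N6592 D6685) (tt N3659 (iv D5097)))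
theorem Q5030 : ∀ i, i < 5030 → P i := stepQ 5029 Q5029 (allL N5029 (tt N3699 F15780) (tt N6592 (iv F20996)) (tt N6590 (iv F20988)) (tt N6478 (iv F20630)) (tt N4536 F15781) (tt N3887 F15782) (tt N3660 (iv D5098)) (tt N5029 F15783))
theorem Q5031 : ∀ i, i < 5031 → P i := stepQ 5030 Q5030 (allL N5030 (tt N6543 (iv F20837)) (tt N6418 (iv F20399)) (tt N5030 F15784) (tt N3668 F15785) (tt N3663 F15786) (tt N5064 (iv F15900)) (tt N3662 (iv D5099)) (tt N5063 (iv F15896)))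
theorem Q5032 : ∀ i, i < 5032 → P i := stepQ 5031 Q5031 (allL N5031 (tt N6544 (iv F20841)) (tt N6593 D6686) (tt N5031 F15787) (tt N3664 F15788) (tt N5064 (iv F15899)) (tt N3663 (iv D5100)) (tt N5031 F15789) (tt N5046 F15833))
theorem Q5033 : ∀ i, i < 5033 → P i := stepQ 5032 Q5032 (allL N5032 (tt N6545 (iv F20845)) (tt N4705 F15790) (tt N5032 F15791) (tt N4668 F15792) (tt N5063 (iv F15894)) (tt N5046 (iv F15834)) (tt N5032 F15793) (tt N3663 (iv D5101)))
theorem Q5034 : ∀ i, i < 5034 → P i := stepQ 5033 Q5033 (allL N5033 (tt N6594 D6687) (tt N3664 (iv D5102)) (tt N6595 D6688) (tt N6593 (iv F20999)) (tt N3671 F15794) (tt N5122 (iv F16128)) (tt N5033 F15795) (tt N4669 F15796))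
theorem Q5035 : ∀ i, i < 5035 → P i := stepQ 5034 Q5034 (allL N5034 (tt N3665 (iv D5103)) (tt N6547 (iv F20852)) (tt N4382 F15797) (tt N3889 F15798) (tt N6243 (iv F19775)) (tt N4381 F15799) (tt N6596 D6689) (tt N3672 F15800))
theorem Q5036 : ∀ i, i < 5036 → P i := stepQ 5035 Q5035 (allL N5035 (tt N6596 (iv F21008)) (tt N3667 F15801) (tt N6249 (iv F19796)) (tt N3891 F15802) (tt N6192 (iv F19598)) (tt N5035 F15803) (tt N3665 (iv D5104)) (tt N5235 (iv F16517)))
theorem Q5037 : ∀ i, i < 5037 → P i := stepQ 5036 Q5036 (allL N5036 (tt N3671 (iv D5105)) (tt N6552 (iv F20869)) (tt N6597 D6690) (tt N5111 F16083) (tt N6594 (iv F21001)) (tt N5112 (iv F16085)) (tt N5036 F15804) (tt N6480 (iv F20640)))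
theorem Q5038 : ∀ i, i < 5038 → P i := stepQ 5037 Q5037 (allL N5037 (tt N6597 (iv F21012)) (tt N3894 F15805) (tt N3671 (iv D5106)) (tt N5037 F15806) (tt N6595 (iv F21005)) (tt N5121 (iv F16124)) (tt N5037 F15807) (tt N6200 (iv F19634)))
theorem Q5039 : ∀ i, i < 5039 → P i := stepQ 5038 Q5038 (allL N5038 (tt N3673 F15808) (tt N6554 (iv F20874)) (tt N5076 (iv F15948)) (tt N6598 D6691) (tt N3672 (iv D5107)) (tt N5075 F15946) (tt N6599 D6692) (tt N6243 (iv F19777)))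
theorem Q5040 : ∀ i, i < 5040 → P i := stepQ 5039 Q5039 (allL N5039 (tt N3674 F15809) (tt N4291 (iv F15813)) (tt N4308 F15810) (tt N3682 F15811) (tt N5075 (iv F15944)) (tt N3672 (iv D5108)) (tt N6600 D6693) (tt N4381 F15812))
theorem Q5041 : ∀ i, i < 5041 → P i := stepQ 5040 Q5040 (allL N5040 (tt N3675 F15814) (tt N6556 (iv F20881)) (tt N6420 (iv F20409)) (tt N3683 F15815) (tt N6599 (iv F21019)) (tt N6601 D6694) (tt N3672 (iv D5109)) (tt N6602 D6695))
theorem Q5042 : ∀ i, i < 5042 → P i := stepQ 5041 Q5041 (allL N5041 (tt N6598 (iv F21015)) (tt N3676 F15816) (tt N5056 (iv F15869)) (tt N3673 (iv D5110)) (tt N3684 F15817) (tt N5055 F15867) (tt N6603 D6696) (tt N5041 F15818))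
theorem Q5043 : ∀ i, i < 5043 → P i := stepQ 5042 Q5042 (allL N5042 (tt N6599 (iv F21018)) (tt N3677 F15819) (tt N5087 (iv F15987)) (tt N6603 (iv F21032)) (tt N3675 F15820) (tt N6206 (iv F19652)) (tt N3673 (iv D5111)) (tt N6187 (iv F19589)))
theorem Q5044 : ∀ i, i < 5044 → P i := stepQ 5043 Q5043 (allL N5043 (tt N6600 (iv F21020)) (tt N5043 F15821) (tt N4890 F15822) (tt N3687 F15823) (tt N5086 (iv F15984)) (tt N6604 D6697) (tt N3674 (iv D5112)) (tt N5043 F15824))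
theorem Q5045 : ∀ i, i < 5045 → P i := stepQ 5044 Q5044 (allL N5044 (tt N6601 (iv F21025)) (tt N5073 (iv F15933)) (tt N5067 (iv F15907)) (tt N3688 F15825) (tt N6206 (iv F19651)) (tt N3675 (iv D5113)) (tt N6604 (iv F21037)) (tt N4883 (iv F15826)))
theorem Q5046 : ∀ i, i < 5046 → P i := stepQ 5045 Q5045 (allL N5045 (tt N6602 (iv F21028)) (tt N3679 F15827) (tt N5062 (iv F15889)) (tt N4882 F15828) (tt N6187 (iv F19587)) (tt N4883 F15829) (tt N5235 (iv F16516)) (tt N3675 (iv D5114)))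
theorem Q5047 : ∀ i, i < 5047 → P i := stepQ 5046 Q5046 (allL N5046 (tt N6563 (iv F20895)) (tt N6603 (iv F21031)) (tt N5046 F15830) (tt N3677 F15831) (tt N3690 F15832) (tt N5032 F15834) (tt N3676 (iv D5115)) (tt N5031 (iv F15833)))
theorem Q5048 : ∀ i, i < 5048 → P i := stepQ 5047 Q5047 (allL N5047 (tt N6565 (iv F20903)) (tt N4882 F15835) (tt N6482 (iv F20646)) (tt N3679 (iv D5116)) (tt N4942 F15836) (tt N4941 F15837) (tt N5223 (iv F16480)) (tt N3694 F15838))
theorem Q5049 : ∀ i, i < 5049 → P i := stepQ 5048 Q5048 (allL N5048 (tt N3684 F15839) (tt N6566 (iv F20908)) (tt N6605 D6698) (tt N3681 (iv D5117)) (tt N6598 (iv F21016)) (tt N6606 D6699) (tt N6607 D6700) (tt N5048 F15840))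
theorem Q5050 : ∀ i, i < 5050 → P i := stepQ 5049 Q5049 (allL N5049 (tt N3685 F15841) (tt N6608 D6701) (tt N3702 F15842) (tt N6606 (iv F21045)) (tt N3682 F15843) (tt N3681 (iv D5118)) (tt N6609 D6702) (tt N3898 F15844))
theorem Q5051 : ∀ i, i < 5051 → P i := stepQ 5050 Q5050 (allL N5050 (tt N3686 F15845) (tt N6568 (iv F20915)) (tt N3703 F15846) (tt N6607 (iv F21049)) (tt N3683 F15847) (tt N6610 D6703) (tt N3681 (iv D5119)) (tt N4689 F15848))
theorem Q5052 : ∀ i, i < 5052 → P i := stepQ 5051 Q5051 (allL N5051 (tt N5051 F15849) (tt N3682 (iv D5120)) (tt N4281 (iv F15852)) (tt N4291 F15850) (tt N6608 (iv F21051)) (tt N6569 (iv F20922)) (tt N6611 D6704) (tt N3899 F15851))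
theorem Q5053 : ∀ i, i < 5053 → P i := stepQ 5052 Q5052 (allL N5052 (tt N3687 F15853) (tt N6611 (iv F21062)) (tt N3705 F15854) (tt N6600 (iv F21023)) (tt N6609 (iv F21056)) (tt N6612 D6705) (tt N3682 (iv D5121)) (tt N6613 D6706))
theorem Q5054 : ∀ i, i < 5054 → P i := stepQ 5053 Q5053 (allL N5053 (tt N3688 F15855) (tt N6614 D6707) (tt N3706 F15856) (tt N6601 (iv F21026)) (tt N6610 (iv F21059)) (tt N3683 (iv D5122)) (tt N6612 (iv F21067)) (tt N4864 (iv F15857)))
theorem Q5055 : ∀ i, i < 5055 → P i := stepQ 5054 Q5054 (allL N5054 (tt N3689 F15858) (tt N6572 (iv F20929)) (tt N3707 F15859) (tt N4867 (iv F15863)) (tt N4689 F15860) (tt N4864 F15861) (tt N3902 F15862) (tt N3683 (iv D5123)))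
theorem Q5056 : ∀ i, i < 5056 → P i := stepQ 5055 Q5055 (allL N5055 (tt N6605 (iv F21039)) (tt N5055 F15864) (tt N3684 (iv D5124)) (tt N3708 F15865) (tt N5056 (iv F15871)) (tt N5041 (iv F15867)) (tt N6615 D6708) (tt N5055 F15866))
theorem Q5057 : ∀ i, i < 5057 → P i := stepQ 5056 Q5056 (allL N5056 (tt N6606 (iv F21043)) (tt N5056 F15868) (tt N5041 F15869) (tt N3685 F15870) (tt N5055 F15871) (tt N3684 (iv D5125)) (tt N6616 D6709) (tt N5056 F15872))
theorem Q5058 : ∀ i, i < 5058 → P i := stepQ 5057 Q5057 (allL N5057 (tt N6607 (iv F21048)) (tt N3690 F15873) (tt N6615 (iv F21076)) (tt N3686 F15874) (tt N6603 (iv F21033)) (tt N6617 D6710) (tt N3684 (iv D5126)) (tt N6618 D6711))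
theorem Q5059 : ∀ i, i < 5059 → P i := stepQ 5058 Q5058 (allL N5058 (tt N6609 (iv F21054)) (tt N5058 F15875) (tt N3711 F15876) (tt N6616 (iv F21080)) (tt N3687 F15877) (tt N6619 D6712) (tt N3685 (iv D5127)) (tt N6620 D6713))
theorem Q5060 : ∀ i, i < 5060 → P i := stepQ 5059 Q5059 (allL N5059 (tt N6610 (iv F21057)) (tt N6621 D6714) (tt N3712 F15878) (tt N6617 (iv F21082)) (tt N3688 F15879) (tt N3686 (iv D5128)) (tt N6619 (iv F21091)) (tt N3738 F15880))
theorem Q5061 : ∀ i, i < 5061 → P i := stepQ 5060 Q5060 (allL N5060 (tt N6612 (iv F21065)) (tt N6622 D6715) (tt N3713 F15881) (tt N6604 (iv F21036)) (tt N6619 (iv F21090)) (tt N3687 (iv D5129)) (tt N3688 F15882) (tt N4875 (iv F15883)))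
theorem Q5062 : ∀ i, i < 5062 → P i := stepQ 5061 Q5061 (allL N5061 (tt N6613 (iv F21069)) (tt N5061 F15884) (tt N3714 F15885) (tt N5061 F15886) (tt N6620 (iv F21096)) (tt N4875 F15887) (tt N3905 F15888) (tt N3687 (iv D5130)))
theorem Q5063 : ∀ i, i < 5063 → P i := stepQ 5062 Q5062 (allL N5062 (tt N6623 D6716) (tt N3688 (iv D5131)) (tt N5045 F15889) (tt N5073 (iv F15935)) (tt N6621 (iv F21101)) (tt N3692 F15890) (tt N6622 (iv F21108)) (tt N4878 F15891))
theorem Q5064 : ∀ i, i < 5064 → P i := stepQ 5063 Q5063 (allL N5063 (tt N6583 (iv F20961)) (tt N6219 (iv F19691)) (tt N5063 F15892) (tt N3691 F15893) (tt N5032 F15894) (tt N3690 (iv D5132)) (tt N5063 F15895) (tt N5030 F15896))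
theorem Q5065 : ∀ i, i < 5065 → P i := stepQ 5064 Q5064 (allL N5064 (tt N6584 (iv F20967)) (tt N6618 (iv F21084)) (tt N5064 F15897) (tt N4671 F15898) (tt N5031 F15899) (tt N5030 F15900) (tt N5064 F15901) (tt N3690 (iv D5133)))
theorem Q5066 : ∀ i, i < 5066 → P i := stepQ 5065 Q5065 (allL N5065 (tt N6624 D6717) (tt N3691 (iv D5134)) (tt N6423 (iv F20420)) (tt N6219 (iv F19693)) (tt N3692 F15902) (tt N6621 (iv F21102)) (tt N5065 F15903) (tt N4690 F15904))
theorem Q5067 : ∀ i, i < 5067 → P i := stepQ 5066 Q5066 (allL N5066 (tt N3692 (iv D5135)) (tt N6586 (iv F20976)) (tt N6416 (iv F20392)) (tt N5095 F16025) (tt N6624 (iv F21113)) (tt N6623 (iv F21111)) (tt N5066 F15905) (tt N6625 D6718))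
theorem Q5068 : ∀ i, i < 5068 → P i := stepQ 5067 Q5067 (allL N5067 (tt N6625 (iv F21116)) (tt N3693 F15906) (tt N5044 F15907) (tt N4880 F15908) (tt N4690 F15909) (tt N4878 F15910) (tt N6429 (iv F20452)) (tt N3692 (iv D5136)))
theorem Q5069 : ∀ i, i < 5069 → P i := stepQ 5068 Q5068 (allL N5068 (tt N6589 (iv F20982)) (tt N4880 F15911) (tt N6483 (iv F20651)) (tt N3693 (iv D5137)) (tt N4943 F15912) (tt N3694 F15913) (tt N4950 (iv F15915)) (tt N4941 F15914))
theorem Q5070 : ∀ i, i < 5070 → P i := stepQ 5069 Q5069 (allL N5069 (tt N6590 (iv F20987)) (tt N6429 (iv F20449)) (tt N3699 F15916) (tt N4950 F15917) (tt N4685 F15918) (tt N3906 F15919) (tt N3693 (iv D5138)) (tt N5069 F15920))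
theorem Q5071 : ∀ i, i < 5071 → P i := stepQ 5070 Q5070 (allL N5070 (tt N5965 (iv F18934)) (tt N6423 (iv F20419)) (tt N3695 (iv D5139)) (tt N4666 F15925) (tt N3697 F15921) (tt N3719 F15922) (tt N5070 F15923) (tt N4692 F15924))
theorem Q5072 : ∀ i, i < 5072 → P i := stepQ 5071 Q5071 (allL N5071 (tt N3697 F15926) (tt N6626 D6719) (tt N3696 (iv D5140)) (tt N6422 F20418) (tt N5965 (iv F18935)) (tt N3720 F15927) (tt N5071 F15928) (tt N6627 D6720))
theorem Q5073 : ∀ i, i < 5073 → P i := stepQ 5072 Q5072 (allL N5072 (tt N3698 F15929) (tt N5957 (iv F18918)) (tt N6627 (iv F21123)) (tt N4870 F15930) (tt N4691 F15931) (tt N3721 F15932) (tt N6628 D6721) (tt N3696 (iv D5141)))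
theorem Q5074 : ∀ i, i < 5074 → P i := stepQ 5073 Q5073 (allL N5073 (tt N6627 (iv F21122)) (tt N5044 F15933) (tt N3698 F15934) (tt N5062 F15935) (tt N4692 F15936) (tt N3723 F15937) (tt N6629 D6722) (tt N3697 (iv D5142)))
theorem Q5075 : ∀ i, i < 5075 → P i := stepQ 5074 Q5074 (allL N5074 (tt N6628 (iv F21127)) (tt N3699 F15938) (tt N6629 (iv F21133)) (tt N4884 F15939) (tt N4686 F15940) (tt N5074 F15941) (tt N3698 (iv D5143)) (tt N5074 F15942))
theorem Q5076 : ∀ i, i < 5076 → P i := stepQ 5075 Q5075 (allL N5075 (tt N3708 F15943) (tt N5688 (iv F18033)) (tt N3701 (iv D5144)) (tt N6605 (iv F21040)) (tt N5039 F15944) (tt N5038 (iv F15946)) (tt N6630 D6723) (tt N4723 F15945))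
theorem Q5077 : ∀ i, i < 5077 → P i := stepQ 5076 Q5076 (allL N5076 (tt N3709 F15947) (tt N5687 (iv F18028)) (tt N5038 F15948) (tt N3702 F15949) (tt N4877 F15950) (tt N3701 (iv D5145)) (tt N6631 D6724) (tt N4721 F15951))
theorem Q5078 : ∀ i, i < 5078 → P i := stepQ 5077 Q5077 (allL N5077 (tt N3710 F15952) (tt N4158 F15953) (tt N6630 (iv F21139)) (tt N3703 F15954) (tt N5767 (iv F18271)) (tt N6632 D6725) (tt N3701 (iv D5146)) (tt N5077 F15955))
theorem Q5079 : ∀ i, i < 5079 → P i := stepQ 5078 Q5078 (allL N5078 (tt N3730 F15956) (tt N3702 (iv D5147)) (tt N6633 D6726) (tt N5687 (iv F18029)) (tt N3704 F15957) (tt N4159 F15958) (tt N6634 D6727) (tt N3907 F15959))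
theorem Q5080 : ∀ i, i < 5080 → P i := stepQ 5079 Q5079 (allL N5079 (tt N3711 F15960) (tt N6634 (iv F21158)) (tt N6609 (iv F21055)) (tt N6631 (iv F21144)) (tt N3705 F15961) (tt N6635 D6728) (tt N3702 (iv D5148)) (tt N6636 D6729))
theorem Q5081 : ∀ i, i < 5081 → P i := stepQ 5080 Q5080 (allL N5080 (tt N3712 F15962) (tt N6637 D6730) (tt N6610 (iv F21058)) (tt N6632 (iv F21148)) (tt N3706 F15963) (tt N3703 (iv D5149)) (tt N6635 (iv F21163)) (tt N4702 F15964))
theorem Q5082 : ∀ i, i < 5082 → P i := stepQ 5081 Q5081 (allL N5081 (tt N3732 F15965) (tt N4281 F15966) (tt N3704 (iv D5150)) (tt N4084 F15967) (tt N6633 (iv F21153)) (tt N4161 F15968) (tt N6638 D6731) (tt N3909 F15969))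
theorem Q5083 : ∀ i, i < 5083 → P i := stepQ 5082 Q5082 (allL N5082 (tt N3733 F15970) (tt N3705 F15971) (tt N6638 (iv F21175)) (tt N6425 (iv F20432)) (tt N6634 (iv F21159)) (tt N6639 D6732) (tt N3704 (iv D5151)) (tt N6640 D6733))
theorem Q5084 : ∀ i, i < 5084 → P i := stepQ 5083 Q5083 (allL N5083 (tt N3713 F15972) (tt N6641 D6734) (tt N6612 (iv F21066)) (tt N6426 (iv F20436)) (tt N6635 (iv F21162)) (tt N3705 (iv D5152)) (tt N3706 F15973) (tt N4861 (iv F15974)))
theorem Q5085 : ∀ i, i < 5085 → P i := stepQ 5084 Q5084 (allL N5084 (tt N3714 F15975) (tt N6640 (iv F21180)) (tt N6613 (iv F21070)) (tt N4862 (iv F15978)) (tt N6636 (iv F21166)) (tt N4861 F15976) (tt N3912 F15977) (tt N3705 (iv D5153)))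
theorem Q5086 : ∀ i, i < 5086 → P i := stepQ 5085 Q5085 (allL N5085 (tt N4993 F15979) (tt N3706 (iv D5154)) (tt N6642 D6735) (tt N6428 (iv F20446)) (tt N6637 (iv F21170)) (tt N4110 F15980) (tt N6641 (iv F21184)) (tt N4109 F15981))
theorem Q5087 : ∀ i, i < 5087 → P i := stepQ 5086 Q5086 (allL N5086 (tt N6630 (iv F21138)) (tt N5086 F15982) (tt N3710 F15983) (tt N6615 (iv F21077)) (tt N5043 F15984) (tt N6643 D6736) (tt N3708 (iv D5155)) (tt N5086 F15985))
theorem Q5088 : ∀ i, i < 5088 → P i := stepQ 5087 Q5087 (allL N5087 (tt N6631 (iv F21142)) (tt N3738 F15986) (tt N5042 F15987) (tt N3711 F15988) (tt N4878 F15989) (tt N4690 (iv F15990)) (tt N3709 (iv D5156)) (tt N6621 (iv F21104)))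
theorem Q5089 : ∀ i, i < 5089 → P i := stepQ 5088 Q5088 (allL N5088 (tt N6632 (iv F21147)) (tt N4685 F15991) (tt N6643 (iv F21189)) (tt N3712 F15992) (tt N6429 (iv F20451)) (tt N3710 (iv D5157)) (tt N4690 F15993) (tt N5088 F15994))
theorem Q5090 : ∀ i, i < 5090 → P i := stepQ 5089 Q5089 (allL N5089 (tt N6635 (iv F21160)) (tt N4670 F15995) (tt N6619 (iv F21089)) (tt N4690 F15996) (tt N3713 F15997) (tt N3711 (iv D5158)) (tt N3712 F15998) (tt N4876 F15999))
theorem Q5091 : ∀ i, i < 5091 → P i := stepQ 5090 Q5090 (allL N5090 (tt N6636 (iv F21165)) (tt N3742 F16000) (tt N6620 (iv F21095)) (tt N6644 D6737) (tt N3714 F16001) (tt N4876 F16002) (tt N3915 F16003) (tt N3711 (iv D5159)))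
theorem Q5092 : ∀ i, i < 5092 → P i := stepQ 5091 Q5091 (allL N5091 (tt N3716 (iv D5160)) (tt N4164 F16004) (tt N4523 F16005) (tt N4535 F16006) (tt N3717 F16007) (tt N5012 F16008) (tt N3748 F16009) (tt N4703 F16010))
theorem Q5093 : ∀ i, i < 5093 → P i := stepQ 5092 Q5092 (allL N5092 (tt N3718 F16011) (tt N6645 D6738) (tt N3717 (iv D5161)) (tt N6452 (iv F20540)) (tt N4523 F16012) (tt N5011 F16013) (tt N3749 F16014) (tt N5010 F16015))
theorem Q5094 : ∀ i, i < 5094 → P i := stepQ 5093 Q5093 (allL N5093 (tt N6645 (iv F21198)) (tt N3720 (iv D5162)) (tt N4167 F16016) (tt N6646 D6739) (tt N5644 (iv F17893)) (tt N6647 D6740) (tt N3750 F16017) (tt N6648 D6741))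
theorem Q5095 : ∀ i, i < 5095 → P i := stepQ 5094 Q5094 (allL N5094 (tt N3722 F16018) (tt N6646 (iv F21203)) (tt N3725 F16019) (tt N3720 (iv D5163)) (tt N5130 (iv F16162)) (tt N6422 (iv F20416)) (tt N3751 F16020) (tt N6421 (iv F20413)))
theorem Q5096 : ∀ i, i < 5096 → P i := stepQ 5095 Q5095 (allL N5095 (tt N3723 F16021) (tt N6648 (iv F21207)) (tt N3721 F16022) (tt N5066 (iv F16025)) (tt N4704 F16023) (tt N6627 (iv F21126)) (tt N5095 F16024) (tt N3720 (iv D5164)))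
theorem Q5097 : ∀ i, i < 5097 → P i := stepQ 5096 Q5096 (allL N5096 (tt N4918 F16026) (tt N3725 F16027) (tt N6649 D6742) (tt N3724 (iv D5165)) (tt N6650 D6743) (tt N4013 F16028) (tt N3752 F16029) (tt N6428 (iv F20448)))
theorem Q5098 : ∀ i, i < 5098 → P i := stepQ 5097 Q5097 (allL N5097 (tt N3726 F16030) (tt N6650 (iv F21218)) (tt N5130 (iv F16160)) (tt N5097 F16031) (tt N3725 (iv D5166)) (tt N6213 (iv F19670)) (tt N3754 F16032) (tt N6424 (iv F20428)))
theorem Q5099 : ∀ i, i < 5099 → P i := stepQ 5098 Q5098 (allL N5098 (tt N3737 F16033) (tt N5701 (iv F18077)) (tt N3729 F16034) (tt N6651 D6744) (tt N4843 F16035) (tt N4860 F16036) (tt N4711 F16037) (tt N3727 (iv D5167)))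
theorem Q5100 : ∀ i, i < 5100 → P i := stepQ 5099 Q5099 (allL N5099 (tt N5687 (iv F18027)) (tt N3728 (iv D5168)) (tt N6652 D6745) (tt N3730 F16038) (tt N4863 F16039) (tt N4172 F16040) (tt N6653 D6746) (tt N5683 (iv F18019)))
theorem Q5101 : ∀ i, i < 5101 → P i := stepQ 5100 Q5100 (allL N5100 (tt N3738 F16041) (tt N6653 (iv F21232)) (tt N4702 F16042) (tt N3731 F16043) (tt N4864 F16044) (tt N4689 F16045) (tt N3728 (iv D5169)) (tt N6610 (iv F21060)))
theorem Q5102 : ∀ i, i < 5102 → P i := stepQ 5101 Q5101 (allL N5101 (tt N3739 F16046) (tt N5683 (iv F18016)) (tt N4860 F16047) (tt N3922 F16048) (tt N4859 F16049) (tt N3729 F16050) (tt N6654 D6747) (tt N3728 (iv D5170)))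
theorem Q5103 : ∀ i, i < 5103 → P i := stepQ 5102 Q5102 (allL N5102 (tt N3740 F16051) (tt N4174 F16052) (tt N4711 F16053) (tt N3923 F16054) (tt N6179 (iv F19554)) (tt N6655 D6748) (tt N3729 (iv D5171)) (tt N4695 F16055))
theorem Q5104 : ∀ i, i < 5104 → P i := stepQ 5103 Q5103 (allL N5103 (tt N6633 (iv F21151)) (tt N5103 F16056) (tt N3730 (iv D5172)) (tt N6656 D6749) (tt N3732 F16057) (tt N4175 F16058) (tt N6657 D6750) (tt N3924 F16059))
theorem Q5105 : ∀ i, i < 5105 → P i := stepQ 5104 Q5104 (allL N5104 (tt N6634 (iv F21157)) (tt N3731 F16060) (tt N6657 (iv F21249)) (tt N6653 (iv F21233)) (tt N3733 F16061) (tt N6658 D6751) (tt N3730 (iv D5173)) (tt N6659 D6752))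
theorem Q5106 : ∀ i, i < 5106 → P i := stepQ 5105 Q5105 (allL N5105 (tt N3742 F16062) (tt N6659 (iv F21253)) (tt N5105 F16063) (tt N6660 D6753) (tt N3735 F16064) (tt N5967 (iv F18943)) (tt N3926 F16065) (tt N3731 (iv D5174)))
theorem Q5107 : ∀ i, i < 5107 → P i := stepQ 5106 Q5106 (allL N5106 (tt N4084 F16066) (tt N5106 F16067) (tt N3949 F16068) (tt N3732 (iv D5175)) (tt N3947 (iv F16070)) (tt N4178 F16069) (tt N6661 D6754) (tt N3945 (iv F16071)))
theorem Q5108 : ∀ i, i < 5108 → P i := stepQ 5107 Q5107 (allL N5107 (tt N6638 (iv F21173)) (tt N5107 F16072) (tt N3733 F16073) (tt N6661 (iv F21261)) (tt N6657 (iv F21250)) (tt N6662 D6755) (tt N3732 (iv D5176)) (tt N6663 D6756))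
theorem Q5109 : ∀ i, i < 5109 → P i := stepQ 5108 Q5108 (allL N5108 (tt N6639 (iv F21177)) (tt N6664 D6757) (tt N6662 (iv F21263)) (tt N6430 (iv F20454)) (tt N6658 (iv F21251)) (tt N3733 (iv D5177)) (tt N4180 F16074) (tt N6665 D6758))
theorem Q5110 : ∀ i, i < 5110 → P i := stepQ 5109 Q5109 (allL N5109 (tt N6640 (iv F21179)) (tt N3735 F16075) (tt N6663 (iv F21266)) (tt N6666 D6759) (tt N6659 (iv F21254)) (tt N6665 (iv F21271)) (tt N3930 F16076) (tt N3733 (iv D5178)))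
theorem Q5111 : ∀ i, i < 5111 → P i := stepQ 5110 Q5110 (allL N5110 (tt N6667 D6760) (tt N3734 (iv D5179)) (tt N6668 D6761) (tt N4966 F16077) (tt N5646 (iv F17902)) (tt N6664 (iv F21269)) (tt N3736 F16078) (tt N6669 D6762))
theorem Q5112 : ∀ i, i < 5112 → P i := stepQ 5111 Q5111 (allL N5111 (tt N3744 F16079) (tt N6669 (iv F21283)) (tt N5111 F16080) (tt N5036 (iv F16083)) (tt N5967 (iv F18942)) (tt N3735 F16081) (tt N5111 F16082) (tt N3734 (iv D5180)))
theorem Q5113 : ∀ i, i < 5113 → P i := stepQ 5112 Q5112 (allL N5112 (tt N3745 F16084) (tt N6666 (iv F21273)) (tt N6670 D6763) (tt N3735 (iv D5181)) (tt N6671 D6764) (tt N5036 F16085) (tt N3931 F16086) (tt N6432 (iv F20464)))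
theorem Q5114 : ∀ i, i < 5114 → P i := stepQ 5113 Q5113 (allL N5113 (tt N3736 (iv D5182)) (tt N3746 F16087) (tt N5862 F18583) (tt N4962 F16088) (tt N4525 F16089) (tt N4183 F16090) (tt N6667 (iv F21278)) (tt N5113 F16091))
theorem Q5115 : ∀ i, i < 5115 → P i := stepQ 5114 Q5114 (allL N5114 (tt N5862 (iv F18579)) (tt N5114 F16092) (tt N3736 (iv D5183)) (tt N5860 F18577) (tt N5125 (iv F16137)) (tt N4184 F16093) (tt N6668 (iv F21281)) (tt N5114 F16094))
theorem Q5116 : ∀ i, i < 5116 → P i := stepQ 5115 Q5115 (allL N5115 (tt N6651 (iv F21223)) (tt N5115 F16095) (tt N3934 F16096) (tt N3737 (iv D5184)) (tt N4845 F16097) (tt N4872 F16098) (tt N4712 F16099) (tt N5115 F16100))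
theorem Q5117 : ∀ i, i < 5117 → P i := stepQ 5116 Q5116 (allL N5116 (tt N6654 (iv F21235)) (tt N4730 F16101) (tt N4876 F16102) (tt N3937 F16103) (tt N4875 F16104) (tt N6620 (iv F21097)) (tt N3739 (iv D5185)) (tt N6619 (iv F21092)))
theorem Q5118 : ∀ i, i < 5118 → P i := stepQ 5117 Q5117 (allL N5117 (tt N6655 (iv F21239)) (tt N5117 F16105) (tt N3915 F16106) (tt N3938 F16107) (tt N3905 F16108) (tt N3740 (iv D5186)) (tt N6620 (iv F21098)) (tt N3903 F16109))
theorem Q5119 : ∀ i, i < 5119 → P i := stepQ 5118 Q5118 (allL N5118 (tt N5967 (iv F18940)) (tt N4671 F16110) (tt N5118 F16111) (tt N6618 (iv F21085)) (tt N3744 F16112) (tt N3742 F16113) (tt N5118 F16114) (tt N3741 (iv D5187)))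
theorem Q5120 : ∀ i, i < 5120 → P i := stepQ 5119 Q5119 (allL N5119 (tt N6660 (iv F21256)) (tt N6644 (iv F21194)) (tt N6672 D6765) (tt N3742 (iv D5188)) (tt N6673 D6766) (tt N6618 (iv F21087)) (tt N3939 F16115) (tt N6617 F21083))
theorem Q5121 : ∀ i, i < 5121 → P i := stepQ 5120 Q5120 (allL N5120 (tt N3743 (iv D5189)) (tt N6667 (iv F21275)) (tt N4527 F16116) (tt N4963 F16117) (tt N4526 F16118) (tt N5002 F16119) (tt N3746 F16120) (tt N5001 F16121))
theorem Q5122 : ∀ i, i < 5122 → P i := stepQ 5121 Q5121 (allL N5121 (tt N6670 (iv F21286)) (tt N5121 F16122) (tt N3745 (iv D5190)) (tt N5121 F16123) (tt N6674 D6767) (tt N5037 F16124) (tt N3940 F16125) (tt N4701 F16126))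
theorem Q5123 : ∀ i, i < 5123 → P i := stepQ 5122 Q5122 (allL N5122 (tt N6671 (iv F21291)) (tt N4874 F16127) (tt N6674 (iv F21301)) (tt N6673 (iv F21297)) (tt N3745 (iv D5191)) (tt N5033 F16128) (tt N3941 F16129) (tt N6186 (iv F19585)))
theorem Q5124 : ∀ i, i < 5124 → P i := stepQ 5123 Q5123 (allL N5123 (tt N3750 F16130) (tt N3749 (iv D5192)) (tt N4188 F16131) (tt N5894 (iv F18686)) (tt N4521 F16132) (tt N5868 (iv F18599)) (tt N6645 (iv F21201)) (tt N5123 F16133))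
theorem Q5125 : ∀ i, i < 5125 → P i := stepQ 5124 Q5124 (allL N5124 (tt N5894 (iv F18683)) (tt N3751 F16134) (tt N5913 (iv F18756)) (tt N3750 (iv D5193)) (tt N5129 (iv F16158)) (tt N5892 F18677) (tt N6646 (iv F21204)) (tt N5127 F16148))
theorem Q5126 : ∀ i, i < 5126 → P i := stepQ 5125 Q5125 (allL N5125 (tt N5868 F18601) (tt N5125 F16135) (tt N4192 F16136) (tt N5892 (iv F18675)) (tt N5114 F16137) (tt N3750 (iv D5194)) (tt N6675 D6768) (tt N5125 F16138))
theorem Q5127 : ∀ i, i < 5127 → P i := stepQ 5126 Q5126 (allL N5126 (tt N4444 F16139) (tt N5913 (iv F18755)) (tt N3752 (iv D5195)) (tt N4195 F16140) (tt N4442 (iv F16141)) (tt N4441 (iv F16142)) (tt N6649 (iv F21215)) (tt N5920 (iv F18779)))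
theorem Q5128 : ∀ i, i < 5128 → P i := stepQ 5127 Q5127 (allL N5127 (tt N4427 F16143) (tt N3754 F16144) (tt N4442 F16145) (tt N5127 F16146) (tt N3752 (iv D5196)) (tt N4425 (iv F16147)) (tt N6650 (iv F21222)) (tt N5124 (iv F16148)))
theorem Q5129 : ∀ i, i < 5129 → P i := stepQ 5128 Q5128 (allL N5128 (tt N4426 F16149) (tt N5128 F16150) (tt N4441 F16151) (tt N3753 F16152) (tt N4425 F16153) (tt N3752 (iv D5197)) (tt N4010 F16154) (tt N5943 (iv F18864)))
theorem Q5130 : ∀ i, i < 5130 → P i := stepQ 5129 Q5129 (allL N5129 (tt N4916 F16155) (tt N3755 F16156) (tt N5920 (iv F18775)) (tt N3759 F16157) (tt N5124 F16158) (tt N5943 (iv F18863)) (tt N6676 D6769) (tt N3752 (iv D5198)))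
theorem Q5131 : ∀ i, i < 5131 → P i := stepQ 5130 Q5130 (allL N5130 (tt N3756 F16159) (tt N6676 (iv F21309)) (tt N5097 F16160) (tt N3761 F16161) (tt N5094 F16162) (tt N6427 (iv F20444)) (tt N3755 (iv D5199)) (tt N6426 (iv F20439)))
theorem Q5132 : ∀ i, i < 5132 → P i := stepQ 5131 Q5131 (allL N5131 (tt N4912 F16163) (tt N5950 (iv F18888)) (tt N3758 F16164) (tt N4204 F16165) (tt N5527 (iv F17563)) (tt N3757 (iv D5200)) (tt N6677 D6770) (tt N5945 (iv F18874)))
theorem Q5133 : ∀ i, i < 5133 → P i := stepQ 5132 Q5132 (allL N5132 (tt N4913 F16166) (tt N5132 F16167) (tt N3759 F16168) (tt N5925 (iv F18791)) (tt N5515 F17525) (tt N5945 (iv F18873)) (tt N6678 D6771) (tt N3757 (iv D5201)))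
theorem Q5134 : ∀ i, i < 5134 → P i := stepQ 5133 Q5133 (allL N5133 (tt N4914 F16169) (tt N5133 F16170) (tt N6677 (iv F21313)) (tt N3760 F16171) (tt N5859 (iv F18571)) (tt N4101 F16172) (tt N3758 (iv D5202)) (tt N6679 D6772))
theorem Q5135 : ∀ i, i < 5135 → P i := stepQ 5134 Q5134 (allL N5134 (tt N4915 F16173) (tt N5134 F16174) (tt N5945 (iv F18872)) (tt N5943 F18865) (tt N5860 (iv F18575)) (tt N3759 F16175) (tt N6680 D6773) (tt N3758 (iv D5203)))
theorem Q5136 : ∀ i, i < 5136 → P i := stepQ 5135 Q5135 (allL N5135 (tt N4917 F16176) (tt N3761 F16177) (tt N6678 (iv F21318)) (tt N6676 (iv F21310)) (tt N5998 (iv F19055)) (tt N6681 D6774) (tt N3759 (iv D5204)) (tt N4854 F16178))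
theorem Q5137 : ∀ i, i < 5137 → P i := stepQ 5136 Q5136 (allL N5136 (tt N3762 F16179) (tt N6682 D6775) (tt N5136 F16180) (tt N6427 (iv F20442)) (tt N6185 (iv F19580)) (tt N3761 (iv D5205)) (tt N5136 F16181) (tt N4862 F16182))
theorem Q5138 : ∀ i, i < 5138 → P i := stepQ 5137 Q5137 (allL N5137 (tt N4814 F16183) (tt N3763 (iv D5206)) (tt N6683 D6776) (tt N3786 F16184) (tt N5137 F16185) (tt N5137 F16186) (tt N6684 D6777) (tt N5137 F16187))
theorem Q5139 : ∀ i, i < 5139 → P i := stepQ 5138 Q5138 (allL N5138 (tt N3764 F16188) (tt N6684 (iv F21336)) (tt N5138 F16189) (tt N3787 F16190) (tt N5138 F16191) (tt N5138 F16192) (tt N3763 (iv D5207)) (tt N5293 (iv F16748)))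
theorem Q5140 : ∀ i, i < 5140 → P i := stepQ 5139 Q5139 (allL N5139 (tt N3765 (iv D5208)) (tt N3772 F16193) (tt N5139 F16194) (tt N4655 F16195) (tt N6685 D6778) (tt N6686 D6779) (tt N6687 D6780) (tt N6434 (iv F20473)))
theorem Q5141 : ∀ i, i < 5141 → P i := stepQ 5140 Q5140 (allL N5140 (tt N6685 (iv F21339)) (tt N3766 F16196) (tt N5140 F16197) (tt N6688 D6781) (tt N3765 (iv D5209)) (tt N6689 D6782) (tt N6690 D6783) (tt N6435 (iv F20476)))
theorem Q5142 : ∀ i, i < 5142 → P i := stepQ 5141 Q5141 (allL N5141 (tt N6686 (iv F21343)) (tt N3806 F16198) (tt N5141 F16199) (tt N4656 F16200) (tt N6689 (iv F21355)) (tt N3765 (iv D5210)) (tt N6691 D6784) (tt N5565 F17661))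
theorem Q5143 : ∀ i, i < 5143 → P i := stepQ 5142 Q5142 (allL N5142 (tt N6687 (iv F21346)) (tt N3767 F16201) (tt N5142 F16202) (tt N3805 F16203) (tt N6690 (iv F21360)) (tt N6692 D6785) (tt N3765 (iv D5211)) (tt N6693 D6786))
theorem Q5144 : ∀ i, i < 5144 → P i := stepQ 5143 Q5143 (allL N5143 (tt N3776 F16204) (tt N6688 (iv F21350)) (tt N3769 F16205) (tt N3766 (iv D5212)) (tt N3802 F16206) (tt N3767 F16207) (tt N3801 (iv F16208)) (tt N6694 D6787))
theorem Q5145 : ∀ i, i < 5145 → P i := stepQ 5144 Q5144 (allL N5144 (tt N3777 F16209) (tt N6690 (iv F21357)) (tt N3768 F16210) (tt N3801 F16211) (tt N3767 F16212) (tt N3802 F16213) (tt N3766 (iv D5213)) (tt N5150 (iv F16236)))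
theorem Q5146 : ∀ i, i < 5146 → P i := stepQ 5145 Q5145 (allL N5145 (tt N3778 F16214) (tt N6693 (iv F21368)) (tt N3770 F16215) (tt N5201 (iv F16400)) (tt N5150 (iv F16235)) (tt N6694 (iv F21375)) (tt N5148 F16228) (tt N3767 (iv D5214)))
theorem Q5147 : ∀ i, i < 5147 → P i := stepQ 5146 Q5146 (allL N5146 (tt N5146 F16216) (tt N3769 (iv D5215)) (tt N6319 (iv F20035)) (tt N3771 F16217) (tt N3795 F16218) (tt N5146 F16219) (tt N3794 F16220) (tt N6695 D6788))
theorem Q5148 : ∀ i, i < 5148 → P i := stepQ 5147 Q5147 (allL N5147 (tt N3779 F16221) (tt N6695 (iv F21377)) (tt N6694 (iv F21373)) (tt N5147 F16222) (tt N3803 F16223) (tt N3770 F16224) (tt N6696 D6789) (tt N3769 (iv D5216)))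
theorem Q5149 : ∀ i, i < 5149 → P i := stepQ 5148 Q5148 (allL N5148 (tt N3773 F16225) (tt N6685 (iv F21340)) (tt N3780 F16226) (tt N6697 D6790) (tt N3772 (iv D5217)) (tt N6698 D6791) (tt N5145 (iv F16228)) (tt N4902 F16227))
theorem Q5150 : ∀ i, i < 5150 → P i := stepQ 5149 Q5149 (allL N5149 (tt N3774 F16229) (tt N6699 D6792) (tt N3781 F16230) (tt N4808 F16231) (tt N6698 (iv F21391)) (tt N3772 (iv D5218)) (tt N6700 D6793) (tt N6440 (iv F20496)))
theorem Q5151 : ∀ i, i < 5151 → P i := stepQ 5150 Q5150 (allL N5150 (tt N3775 F16232) (tt N6687 (iv F21347)) (tt N3782 F16233) (tt N3821 F16234) (tt N5145 F16235) (tt N5184 (iv F16343)) (tt N3772 (iv D5219)) (tt N5144 F16236))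
theorem Q5152 : ∀ i, i < 5152 → P i := stepQ 5151 Q5151 (allL N5151 (tt N6697 (iv F21385)) (tt N3776 F16237) (tt N5151 F16238) (tt N3773 (iv D5220)) (tt N3819 F16239) (tt N5207 (iv F16424)) (tt N3817 F16240) (tt N5206 (iv F16419)))
theorem Q5153 : ∀ i, i < 5153 → P i := stepQ 5152 Q5152 (allL N5152 (tt N6698 (iv F21389)) (tt N3824 F16241) (tt N3783 F16242) (tt N5207 (iv F16422)) (tt N3774 F16243) (tt N3773 (iv D5221)) (tt N6701 D6794) (tt N4910 F16244))
theorem Q5154 : ∀ i, i < 5154 → P i := stepQ 5153 Q5153 (allL N5153 (tt N6700 (iv F21395)) (tt N3825 F16245) (tt N3784 F16246) (tt N4809 F16247) (tt N6701 (iv F21400)) (tt N5198 (iv F16387)) (tt N3774 (iv D5222)) (tt N5197 F16385))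
theorem Q5155 : ∀ i, i < 5155 → P i := stepQ 5154 Q5154 (allL N5154 (tt N6694 (iv F21372)) (tt N5206 (iv F16416)) (tt N3779 F16248) (tt N5204 (iv F16410)) (tt N3820 F16249) (tt N3778 F16250) (tt N6702 D6795) (tt N3776 (iv D5223)))
theorem Q5156 : ∀ i, i < 5156 → P i := stepQ 5155 Q5155 (allL N5155 (tt N6696 (iv F21381)) (tt N5155 F16251) (tt N6702 (iv F21403)) (tt N5155 F16252) (tt N3814 F16253) (tt N5159 (iv F16267)) (tt N3779 (iv D5224)) (tt N3812 F16254))
theorem Q5157 : ∀ i, i < 5157 → P i := stepQ 5156 Q5156 (allL N5156 (tt N3783 F16255) (tt N5941 (iv F18853)) (tt N6698 (iv F21390)) (tt N5156 F16256) (tt N3781 F16257) (tt N3780 (iv D5225)) (tt N6703 D6796) (tt N4903 F16258))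
theorem Q5158 : ∀ i, i < 5158 → P i := stepQ 5157 Q5157 (allL N5157 (tt N3786 F16259) (tt N3781 (iv D5226)) (tt N6704 D6797) (tt N4814 F16260) (tt N5941 (iv F18855)) (tt N5157 F16261) (tt N6705 D6798) (tt N5940 F18851))
theorem Q5159 : ∀ i, i < 5159 → P i := stepQ 5158 Q5158 (allL N5158 (tt N3784 F16262) (tt N6705 (iv F21417)) (tt N6700 (iv F21396)) (tt N4815 F16263) (tt N6703 (iv F21409)) (tt N5178 (iv F16329)) (tt N3781 (iv D5227)) (tt N5177 F16326))
theorem Q5160 : ∀ i, i < 5160 → P i := stepQ 5159 Q5159 (allL N5159 (tt N6703 (iv F21407)) (tt N3788 F16264) (tt N6701 (iv F21399)) (tt N5159 F16265) (tt N3784 F16266) (tt N5155 F16267) (tt N3783 (iv D5228)) (tt N4960 F16268))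
theorem Q5161 : ∀ i, i < 5161 → P i := stepQ 5160 Q5160 (allL N5160 (tt N3788 F16269) (tt N5942 (iv F18857)) (tt N3840 F16270) (tt N5160 F16271) (tt N3787 F16272) (tt N5160 F16273) (tt N3785 (iv D5229)) (tt N6417 (iv F20398)))
theorem Q5162 : ∀ i, i < 5162 → P i := stepQ 5161 Q5161 (allL N5161 (tt N6704 (iv F21412)) (tt N3841 F16274) (tt N3786 (iv D5230)) (tt N6706 D6799) (tt N5939 (iv F18845)) (tt N5161 F16275) (tt N6707 D6800) (tt N5938 F18842))
theorem Q5163 : ∀ i, i < 5163 → P i := stepQ 5162 Q5162 (allL N5162 (tt N6705 (iv F21416)) (tt N3787 F16276) (tt N6707 (iv F21422)) (tt N6684 (iv F21337)) (tt N5942 (iv F18859)) (tt N6708 D6801) (tt N3786 (iv D5231)) (tt N6709 D6802))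
theorem Q5164 : ∀ i, i < 5164 → P i := stepQ 5163 Q5163 (allL N5163 (tt N3789 F16277) (tt N6709 (iv F21425)) (tt N3843 F16278) (tt N5199 (iv F16389)) (tt N6417 (iv F20396)) (tt N5163 F16279) (tt N6198 (iv F19624)) (tt N3787 (iv D5232)))
theorem Q5165 : ∀ i, i < 5165 → P i := stepQ 5164 Q5164 (allL N5164 (tt N5164 F16280) (tt N6443 (iv F20509)) (tt N6569 (iv F20920)) (tt N3790 (iv D5233)) (tt N6710 D6803) (tt N4281 F16281) (tt N6711 D6804) (tt N4219 F16282))
theorem Q5166 : ∀ i, i < 5166 → P i := stepQ 5165 Q5165 (allL N5165 (tt N5165 F16283) (tt N6444 (iv F20513)) (tt N3792 F16284) (tt N6711 (iv F21431)) (tt N4286 F16285) (tt N6712 D6805) (tt N3790 (iv D5234)) (tt N3854 F16286))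
theorem Q5167 : ∀ i, i < 5167 → P i := stepQ 5166 Q5166 (allL N5166 (tt N5166 F16287) (tt N6555 (iv F20876)) (tt N3791 (iv D5235)) (tt N6569 (iv F20921)) (tt N6713 D6806) (tt N4291 F16288) (tt N6714 D6807) (tt N3793 F16289))
theorem Q5168 : ∀ i, i < 5168 → P i := stepQ 5167 Q5167 (allL N5167 (tt N5167 F16290) (tt N3797 F16291) (tt N6713 (iv F21438)) (tt N3886 F16292) (tt N3791 (iv D5236)) (tt N4239 F16293) (tt N6715 D6808) (tt N3794 F16294))
theorem Q5169 : ∀ i, i < 5169 → P i := stepQ 5168 Q5168 (allL N5168 (tt N5168 F16295) (tt N3798 F16296) (tt N6714 (iv F21442)) (tt N3792 F16297) (tt N6715 (iv F21446)) (tt N6716 D6809) (tt N3791 (iv D5237)) (tt N6717 D6810))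
theorem Q5170 : ∀ i, i < 5170 → P i := stepQ 5169 Q5169 (allL N5169 (tt N5169 F16298) (tt N6718 D6811) (tt N6712 (iv F21433)) (tt N6716 (iv F21448)) (tt N4296 F16299) (tt N3792 (iv D5238)) (tt N4293 F16300) (tt N3862 F16301))
theorem Q5171 : ∀ i, i < 5171 → P i := stepQ 5170 Q5170 (allL N5170 (tt N6549 (iv F20860)) (tt N3793 (iv D5239)) (tt N3800 F16302) (tt N4227 F16303) (tt N6719 D6812) (tt N6547 F20856) (tt N6287 (iv F19924)) (tt N6555 (iv F20879)))
theorem Q5172 : ∀ i, i < 5172 → P i := stepQ 5171 Q5171 (allL N5171 (tt N5171 F16304) (tt N6719 (iv F21458)) (tt N3794 F16305) (tt N5171 F16306) (tt N3793 (iv D5240)) (tt N4238 F16307) (tt N6319 (iv F20038)) (tt N6713 (iv F21440)))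
theorem Q5173 : ∀ i, i < 5173 → P i := stepQ 5172 Q5172 (allL N5172 (tt N5172 F16308) (tt N3803 F16309) (tt N6317 (iv F20030)) (tt N3866 F16310) (tt N6695 (iv F21379)) (tt N5172 F16311) (tt N6717 (iv F21453)) (tt N3795 (iv D5241)))
theorem Q5174 : ∀ i, i < 5174 → P i := stepQ 5173 Q5173 (allL N5173 (tt N6537 (iv F20819)) (tt N3796 (iv D5242)) (tt N6555 (iv F20877)) (tt N6450 (iv F20533)) (tt N6720 D6813) (tt N6535 F20814) (tt N6721 D6814) (tt N3800 F16312))
theorem Q5175 : ∀ i, i < 5175 → P i := stepQ 5174 Q5174 (allL N5174 (tt N3810 F16313) (tt N6720 (iv F21462)) (tt N3797 F16314) (tt N4951 F16315) (tt N3796 (iv D5243)) (tt N3808 F16316) (tt N6722 D6815) (tt N3801 F16317))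
theorem Q5176 : ∀ i, i < 5176 → P i := stepQ 5175 Q5175 (allL N5175 (tt N3811 F16318) (tt N6721 (iv F21465)) (tt N3798 F16319) (tt N6451 (iv F20538)) (tt N6722 (iv F21469)) (tt N6723 D6816) (tt N3796 (iv D5244)) (tt N6724 D6817))
theorem Q5177 : ∀ i, i < 5177 → P i := stepQ 5176 Q5176 (allL N5176 (tt N3812 F16320) (tt N6715 (iv F21444)) (tt N6722 (iv F21467)) (tt N3887 F16321) (tt N3798 F16322) (tt N6478 (iv F20632)) (tt N3797 (iv D5245)) (tt N6696 (iv F21384)))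
theorem Q5178 : ∀ i, i < 5178 → P i := stepQ 5177 Q5177 (allL N5177 (tt N3813 F16323) (tt N6725 D6818) (tt N6723 (iv F21471)) (tt N3799 F16324) (tt N6478 (iv F20631)) (tt N3798 (iv D5246)) (tt N4533 F16325) (tt N5158 (iv F16326)))
theorem Q5179 : ∀ i, i < 5179 → P i := stepQ 5178 Q5178 (allL N5178 (tt N3814 F16327) (tt N6717 (iv F21451)) (tt N6724 (iv F21475)) (tt N3871 F16328) (tt N6696 (iv F21383)) (tt N5158 F16329) (tt N3803 F16330) (tt N3798 (iv D5247)))
theorem Q5180 : ∀ i, i < 5180 → P i := stepQ 5179 Q5179 (allL N5179 (tt N6726 D6819) (tt N3799 (iv D5248)) (tt N6727 D6820) (tt N6725 (iv F21479)) (tt N4537 F16331) (tt N6718 (iv F21455)) (tt N4534 F16332) (tt N3872 F16333))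
theorem Q5181 : ∀ i, i < 5181 → P i := stepQ 5180 Q5180 (allL N5180 (tt N3800 (iv D5249)) (tt N3816 F16334) (tt N6549 (iv F20862)) (tt N3804 F16335) (tt N6728 D6821) (tt N6526 (iv F20789)) (tt N6729 D6822) (tt N6537 (iv F20824)))
theorem Q5182 : ∀ i, i < 5182 → P i := stepQ 5181 Q5181 (allL N5181 (tt N6728 (iv F21490)) (tt N3801 F16336) (tt N6719 (iv F21459)) (tt N6690 (iv F21359)) (tt N3800 (iv D5250)) (tt N6730 D6823) (tt N6688 F21352) (tt N6720 (iv F21464)))
theorem Q5183 : ∀ i, i < 5183 → P i := stepQ 5182 Q5182 (allL N5182 (tt N6526 (iv F20786)) (tt N4656 F16337) (tt N6547 (iv F20853)) (tt N3806 F16338) (tt N6730 (iv F21498)) (tt N3800 (iv D5251)) (tt N6731 D6824) (tt N6535 (iv F20813)))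
theorem Q5184 : ∀ i, i < 5184 → P i := stepQ 5183 Q5183 (allL N5183 (tt N6729 (iv F21494)) (tt N3802 F16339) (tt N6287 (iv F19923)) (tt N3807 F16340) (tt N6688 (iv F21351)) (tt N6732 D6825) (tt N3800 (iv D5252)) (tt N6733 D6826))
theorem Q5185 : ∀ i, i < 5185 → P i := stepQ 5184 Q5184 (allL N5184 (tt N3820 F16341) (tt N6733 (iv F21502)) (tt N3803 F16342) (tt N5208 (iv F16427)) (tt N6694 (iv F21374)) (tt N5150 F16343) (tt N6724 (iv F21477)) (tt N3802 (iv D5253)))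
theorem Q5186 : ∀ i, i < 5186 → P i := stepQ 5185 Q5185 (allL N5185 (tt N3805 F16344) (tt N3821 F16345) (tt N4231 F16346) (tt N6687 (iv F21349)) (tt N3804 (iv D5254)) (tt N6734 D6827) (tt N4655 (iv F16347)) (tt N6462 (iv F20580)))
theorem Q5187 : ∀ i, i < 5187 → P i := stepQ 5186 Q5186 (allL N5186 (tt N3806 F16348) (tt N6510 (iv F20747)) (tt N4232 F16349) (tt N6526 (iv F20788)) (tt N6734 (iv F21505)) (tt N3804 (iv D5255)) (tt N6735 D6828) (tt N6463 (iv F20584)))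
theorem Q5188 : ∀ i, i < 5188 → P i := stepQ 5187 Q5187 (allL N5187 (tt N3807 F16350) (tt N3823 F16351) (tt N4233 F16352) (tt N6729 (iv F21496)) (tt N4655 F16353) (tt N6736 D6829) (tt N3804 (iv D5256)) (tt N5631 (iv F17860)))
theorem Q5189 : ∀ i, i < 5189 → P i := stepQ 5188 Q5188 (allL N5188 (tt N6734 (iv F21503)) (tt N6689 (iv F21353)) (tt N4234 F16354) (tt N6692 (iv F21366)) (tt N3806 F16355) (tt N3805 (iv D5257)) (tt N6737 D6830) (tt N6466 (iv F20592)))
theorem Q5190 : ∀ i, i < 5190 → P i := stepQ 5189 Q5189 (allL N5189 (tt N6735 (iv F21506)) (tt N6691 (iv F21362)) (tt N4235 F16356) (tt N6731 (iv F21500)) (tt N6737 (iv F21513)) (tt N6738 D6831) (tt N3806 (iv D5258)) (tt N6739 D6832))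
theorem Q5191 : ∀ i, i < 5191 → P i := stepQ 5190 Q5190 (allL N5190 (tt N6736 (iv F21508)) (tt N6730 (iv F21497)) (tt N4236 F16357) (tt N6732 (iv F21501)) (tt N4656 F16358) (tt N3807 (iv D5259)) (tt N6738 (iv F21517)) (tt N6740 D6833))
theorem Q5192 : ∀ i, i < 5192 → P i := stepQ 5191 Q5191 (allL N5191 (tt N5631 (iv F17858)) (tt N3808 F16359) (tt N4237 F16360) (tt N6741 D6834) (tt N4531 F16361) (tt N6740 (iv F21522)) (tt N6470 (iv F20602)) (tt N3807 (iv D5260)))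
theorem Q5193 : ∀ i, i < 5193 → P i := stepQ 5192 Q5192 (allL N5192 (tt N3828 F16362) (tt N6741 (iv F21523)) (tt N3884 F16363) (tt N3808 (iv D5261)) (tt N4952 (iv F16365)) (tt N4951 F16364) (tt N6475 (iv F20617)) (tt N5208 (iv F16429)))
theorem Q5194 : ∀ i, i < 5194 → P i := stepQ 5193 Q5193 (allL N5193 (tt N3809 (iv D5262)) (tt N6537 (iv F20820)) (tt N5193 F16366) (tt N4924 F16367) (tt N4933 F16368) (tt N6533 F20804) (tt N6742 D6835) (tt N3816 F16369))
theorem Q5195 : ∀ i, i < 5195 → P i := stepQ 5194 Q5194 (allL N5194 (tt N6533 (iv F20800)) (tt N4679 F16370) (tt N5194 F16371) (tt N4905 F16372) (tt N4909 F16373) (tt N3809 (iv D5263)) (tt N6182 (iv F19568)) (tt N3818 F16374))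
theorem Q5196 : ∀ i, i < 5196 → P i := stepQ 5195 Q5195 (allL N5195 (tt N6742 (iv F21525)) (tt N3811 F16375) (tt N5195 F16376) (tt N4947 F16377) (tt N4956 F16378) (tt N6183 (iv F19572)) (tt N3809 (iv D5264)) (tt N6743 D6836))
theorem Q5197 : ∀ i, i < 5197 → P i := stepQ 5196 Q5196 (allL N5196 (tt N6722 (iv F21466)) (tt N4956 F16379) (tt N3812 F16380) (tt N4954 F16381) (tt N3811 F16382) (tt N6490 (iv F20684)) (tt N3810 (iv D5265)) (tt N6702 (iv F21406)))
theorem Q5198 : ∀ i, i < 5198 → P i := stepQ 5197 Q5197 (allL N5197 (tt N6723 (iv F21470)) (tt N5215 (iv F16446)) (tt N3813 F16383) (tt N6197 (iv F19616)) (tt N6490 (iv F20683)) (tt N3811 (iv D5266)) (tt N4681 F16384) (tt N5153 (iv F16385)))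
theorem Q5199 : ∀ i, i < 5199 → P i := stepQ 5198 Q5198 (allL N5198 (tt N6724 (iv F21474)) (tt N6743 (iv F21529)) (tt N3814 F16386) (tt N5213 (iv F16439)) (tt N6702 (iv F21404)) (tt N5153 F16387) (tt N3820 F16388) (tt N3811 (iv D5267)))
theorem Q5200 : ∀ i, i < 5200 → P i := stepQ 5199 Q5199 (allL N5199 (tt N3815 (iv D5268)) (tt N6726 (iv F21482)) (tt N6744 D6837) (tt N5163 F16389) (tt N4687 F16390) (tt N5199 F16391) (tt N4683 F16392) (tt N3893 F16393))
theorem Q5201 : ∀ i, i < 5201 → P i := stepQ 5200 Q5200 (allL N5200 (tt N6744 (iv F21534)) (tt N6200 (iv F19630)) (tt N3815 (iv D5269)) (tt N5236 (iv F16519)) (tt N4688 F16394) (tt N5200 F16395) (tt N4684 F16396) (tt N3894 F16397))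
theorem Q5202 : ∀ i, i < 5202 → P i := stepQ 5201 Q5201 (allL N5201 (tt N3817 F16398) (tt N6728 (iv F21491)) (tt N5201 F16399) (tt N5145 F16400) (tt N3816 (iv D5270)) (tt N6745 D6838) (tt N6697 (iv F21388)) (tt N4933 F16401))
theorem Q5203 : ∀ i, i < 5203 → P i := stepQ 5202 Q5202 (allL N5202 (tt N3818 F16402) (tt N6522 F20779) (tt N5202 F16403) (tt N3822 F16404) (tt N6745 (iv F21542)) (tt N3816 (iv D5271)) (tt N6746 D6839) (tt N6533 (iv F20803)))
theorem Q5204 : ∀ i, i < 5204 → P i := stepQ 5203 Q5203 (allL N5203 (tt N3819 F16405) (tt N6729 (iv F21495)) (tt N5203 F16406) (tt N3823 F16407) (tt N6697 (iv F21387)) (tt N6747 D6840) (tt N3816 (iv D5272)) (tt N6748 D6841))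
theorem Q5205 : ∀ i, i < 5205 → P i := stepQ 5204 Q5204 (allL N5204 (tt N6745 (iv F21539)) (tt N3826 F16408) (tt N5204 F16409) (tt N5154 F16410) (tt N3818 F16411) (tt N3817 (iv D5273)) (tt N6749 D6842) (tt N4909 F16412))
theorem Q5206 : ∀ i, i < 5206 → P i := stepQ 5205 Q5205 (allL N5205 (tt N6746 (iv F21544)) (tt N4809 F16413) (tt N5205 F16414) (tt N3825 F16415) (tt N6749 (iv F21559)) (tt N6489 (iv F20679)) (tt N3818 (iv D5274)) (tt N6488 F20676))
theorem Q5207 : ∀ i, i < 5207 → P i := stepQ 5206 Q5206 (allL N5206 (tt N6747 (iv F21547)) (tt N5154 F16416) (tt N5206 F16417) (tt N3826 F16418) (tt N5207 (iv F16423)) (tt N3819 (iv D5275)) (tt N6489 (iv F20680)) (tt N5151 F16419))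
theorem Q5208 : ∀ i, i < 5208 → P i := stepQ 5207 Q5207 (allL N5207 (tt N6748 (iv F21551)) (tt N3820 F16420) (tt N5207 F16421) (tt N5152 F16422) (tt N5206 F16423) (tt N5151 F16424) (tt N6743 (iv F21533)) (tt N3819 (iv D5276)))
theorem Q5209 : ∀ i, i < 5209 → P i := stepQ 5208 Q5208 (allL N5208 (tt N3824 F16425) (tt N6750 D6843) (tt N3829 F16426) (tt N5184 F16427) (tt N3822 F16428) (tt N3821 (iv D5277)) (tt N6751 D6844) (tt N5192 F16429))
theorem Q5210 : ∀ i, i < 5210 → P i := stepQ 5209 Q5209 (allL N5209 (tt N6699 (iv F21393)) (tt N3822 (iv D5278)) (tt N6508 F20745) (tt N6522 (iv F20776)) (tt N6750 (iv F21563)) (tt N6510 (iv F20749)) (tt N6752 D6845) (tt N6486 (iv F20666)))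
theorem Q5211 : ∀ i, i < 5211 → P i := stepQ 5210 Q5210 (allL N5210 (tt N3825 F16430) (tt N6752 (iv F21570)) (tt N3831 F16431) (tt N6746 (iv F21546)) (tt N6751 (iv F21568)) (tt N6753 D6846) (tt N3822 (iv D5279)) (tt N6754 D6847))
theorem Q5212 : ∀ i, i < 5212 → P i := stepQ 5211 Q5211 (allL N5211 (tt N3826 F16432) (tt N6755 D6848) (tt N3832 F16433) (tt N6747 (iv F21549)) (tt N4808 F16434) (tt N3823 (iv D5280)) (tt N6753 (iv F21574)) (tt N6433 F20470))
theorem Q5213 : ∀ i, i < 5213 → P i := stepQ 5212 Q5212 (allL N5212 (tt N3827 F16435) (tt N5631 (iv F17859)) (tt N3833 F16436) (tt N6438 (iv F20487)) (tt N4678 F16437) (tt N6433 F20469) (tt N6459 (iv F20569)) (tt N3823 (iv D5281)))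
theorem Q5214 : ∀ i, i < 5214 → P i := stepQ 5213 Q5213 (allL N5213 (tt N6751 (iv F21565)) (tt N6701 (iv F21398)) (tt N3834 F16438) (tt N5198 F16439) (tt N3825 F16440) (tt N4809 F16441) (tt N3824 (iv D5282)) (tt N6756 D6849))
theorem Q5215 : ∀ i, i < 5215 → P i := stepQ 5214 Q5214 (allL N5214 (tt N6753 (iv F21571)) (tt N6749 (iv F21556)) (tt N3835 F16442) (tt N6489 (iv F20678)) (tt N4809 F16443) (tt N3825 (iv D5283)) (tt N3826 F16444) (tt N4663 (iv F16445)))
theorem Q5216 : ∀ i, i < 5216 → P i := stepQ 5215 Q5215 (allL N5215 (tt N6754 (iv F21576)) (tt N5197 F16446) (tt N3836 F16447) (tt N4681 (iv F16449)) (tt N6756 (iv F21584)) (tt N4663 F16448) (tt N6197 (iv F19618)) (tt N3825 (iv D5284)))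
theorem Q5217 : ∀ i, i < 5217 → P i := stepQ 5216 Q5216 (allL N5216 (tt N3839 F16450) (tt N3829 (iv D5285)) (tt N6757 D6850) (tt N4820 F16451) (tt N3830 F16452) (tt N4249 F16453) (tt N6758 D6851) (tt N5285 (iv F16708)))
theorem Q5218 : ∀ i, i < 5218 → P i := stepQ 5217 Q5217 (allL N5217 (tt N3834 F16454) (tt N6758 (iv F21591)) (tt N6751 (iv F21566)) (tt N4818 F16455) (tt N3831 F16456) (tt N4811 F16457) (tt N3829 (iv D5286)) (tt N6759 D6852))
theorem Q5219 : ∀ i, i < 5219 → P i := stepQ 5218 Q5218 (allL N5218 (tt N3841 F16458) (tt N6508 (iv F20742)) (tt N3830 (iv D5287)) (tt N6506 (iv F20739)) (tt N6757 (iv F21588)) (tt N4251 F16459) (tt N6760 D6853) (tt N6491 (iv F20689)))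
theorem Q5220 : ∀ i, i < 5220 → P i := stepQ 5219 Q5219 (allL N5219 (tt N3842 F16460) (tt N3831 F16461) (tt N6760 (iv F21600)) (tt N5219 F16462) (tt N6758 (iv F21593)) (tt N6761 D6854) (tt N3830 (iv D5288)) (tt N6762 D6855))
theorem Q5221 : ∀ i, i < 5221 → P i := stepQ 5220 Q5220 (allL N5220 (tt N3835 F16463) (tt N6763 D6856) (tt N6753 (iv F21572)) (tt N5220 F16464) (tt N4811 F16465) (tt N3831 (iv D5289)) (tt N3832 F16466) (tt N4518 (iv F16467)))
theorem Q5222 : ∀ i, i < 5222 → P i := stepQ 5221 Q5221 (allL N5221 (tt N3836 F16468) (tt N6762 (iv F21605)) (tt N6754 (iv F21577)) (tt N4519 (iv F16470)) (tt N6759 (iv F21596)) (tt N4518 F16469) (tt N6453 (iv F20544)) (tt N3831 (iv D5290)))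
theorem Q5223 : ∀ i, i < 5223 → P i := stepQ 5222 Q5222 (allL N5222 (tt N5222 F16471) (tt N3832 (iv D5291)) (tt N5905 (iv F18721)) (tt N5222 F16472) (tt N4810 F16473) (tt N4255 F16474) (tt N6763 (iv F21610)) (tt N4477 F16475))
theorem Q5224 : ∀ i, i < 5224 → P i := stepQ 5223 Q5223 (allL N5223 (tt N6759 (iv F21594)) (tt N3846 F16476) (tt N6756 (iv F21582)) (tt N4672 F16477) (tt N3836 F16478) (tt N4664 F16479) (tt N5047 F16480) (tt N3834 (iv D5292)))
theorem Q5225 : ∀ i, i < 5225 → P i := stepQ 5224 Q5224 (allL N5224 (tt N4820 F16481) (tt N3837 (iv D5293)) (tt N6764 D6857) (tt N3839 F16482) (tt N5224 F16483) (tt N4259 F16484) (tt N6765 D6858) (tt N5274 F16670))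
theorem Q5226 : ∀ i, i < 5226 → P i := stepQ 5225 Q5225 (allL N5225 (tt N3844 F16485) (tt N6765 (iv F21617)) (tt N5225 F16486) (tt N3840 F16487) (tt N5225 F16488) (tt N5225 F16489) (tt N3837 (iv D5294)) (tt N5292 (iv F16742)))
theorem Q5227 : ∀ i, i < 5227 → P i := stepQ 5226 Q5226 (allL N5226 (tt N3845 F16490) (tt N4262 F16491) (tt N5226 F16492) (tt N5301 (iv F16782)) (tt N5226 F16493) (tt N5296 (iv F16763)) (tt N3838 (iv D5295)) (tt N5226 F16494))
theorem Q5228 : ∀ i, i < 5228 → P i := stepQ 5227 Q5227 (allL N5227 (tt N6757 (iv F21587)) (tt N5939 (iv F18843)) (tt N3839 (iv D5296)) (tt N6766 D6859) (tt N3841 F16495) (tt N4263 F16496) (tt N6767 D6860) (tt N5937 F18838))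
theorem Q5229 : ∀ i, i < 5229 → P i := stepQ 5228 Q5228 (allL N5228 (tt N6758 (iv F21590)) (tt N3840 F16497) (tt N6767 (iv F21623)) (tt N6765 (iv F21618)) (tt N3842 F16498) (tt N6768 D6861) (tt N3839 (iv D5297)) (tt N6769 D6862))
theorem Q5230 : ∀ i, i < 5230 → P i := stepQ 5229 Q5229 (allL N5229 (tt N3846 F16499) (tt N6769 (iv F21628)) (tt N6417 (iv F20395)) (tt N6770 D6863) (tt N3843 F16500) (tt N5229 F16501) (tt N6415 (iv F20390)) (tt N3840 (iv D5298)))
theorem Q5231 : ∀ i, i < 5231 → P i := stepQ 5230 Q5230 (allL N5230 (tt N6506 (iv F20736)) (tt N6706 (iv F21419)) (tt N5230 F16502) (tt N3841 (iv D5299)) (tt N6771 D6864) (tt N4266 F16503) (tt N6772 D6865) (tt N6504 F20732))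
theorem Q5232 : ∀ i, i < 5232 → P i := stepQ 5231 Q5231 (allL N5231 (tt N6760 (iv F21599)) (tt N6707 (iv F21421)) (tt N3842 F16504) (tt N6772 (iv F21638)) (tt N6767 (iv F21624)) (tt N6773 D6866) (tt N3841 (iv D5300)) (tt N6774 D6867))
theorem Q5233 : ∀ i, i < 5233 → P i := stepQ 5232 Q5232 (allL N5232 (tt N6761 (iv F21601)) (tt N5232 F16505) (tt N6773 (iv F21639)) (tt N5232 F16506) (tt N6768 (iv F21626)) (tt N3842 (iv D5301)) (tt N4268 F16507) (tt N6775 D6868))
theorem Q5234 : ∀ i, i < 5234 → P i := stepQ 5233 Q5233 (allL N5233 (tt N6762 (iv F21604)) (tt N3843 F16508) (tt N6774 (iv F21641)) (tt N6776 D6869) (tt N6769 (iv F21629)) (tt N6775 (iv F21643)) (tt N6496 (iv F20702)) (tt N3842 (iv D5302)))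
theorem Q5235 : ∀ i, i < 5235 → P i := stepQ 5234 Q5234 (allL N5234 (tt N3847 F16509) (tt N6776 (iv F21645)) (tt N6777 D6870) (tt N3843 (iv D5303)) (tt N4676 (iv F16512)) (tt N5234 F16510) (tt N6480 (iv F20639)) (tt N5234 F16511))
theorem Q5236 : ∀ i, i < 5236 → P i := stepQ 5235 Q5235 (allL N5235 (tt N6770 (iv F21630)) (tt N4672 F16513) (tt N6622 (iv F21105)) (tt N3846 (iv D5304)) (tt N4674 F16514) (tt N5235 F16515) (tt N5045 F16516) (tt N5035 F16517))
theorem Q5237 : ∀ i, i < 5237 → P i := stepQ 5236 Q5236 (allL N5236 (tt N6777 (iv F21648)) (tt N4684 F16518) (tt N3847 (iv D5305)) (tt N5200 F16519) (tt N4677 F16520) (tt N5236 F16521) (tt N6200 (iv F19633)) (tt N5236 F16522))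
theorem Q5238 : ∀ i, i < 5238 → P i := stepQ 5237 Q5237 (allL N5237 (tt N5237 F16523) (tt N6498 (iv F20710)) (tt N3857 F16524) (tt N6778 D6871) (tt N4218 F16525) (tt N4217 F16526) (tt N6779 D6872) (tt N3848 (iv D5306)))
theorem Q5239 : ∀ i, i < 5239 → P i := stepQ 5238 Q5238 (allL N5238 (tt N5654 (iv F17926)) (tt N3849 (iv D5307)) (tt N5238 F16527) (tt N4001 F16528) (tt N3851 F16529) (tt N6499 (iv F20717)) (tt N4082 F16530) (tt N6780 D6873))
theorem Q5240 : ∀ i, i < 5240 → P i := stepQ 5239 Q5239 (allL N5239 (tt N5239 F16531) (tt N6780 (iv F21662)) (tt N3855 F16532) (tt N6781 D6874) (tt N3852 F16533) (tt N3850 F16534) (tt N6782 D6875) (tt N3849 (iv D5308)))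
theorem Q5241 : ∀ i, i < 5241 → P i := stepQ 5240 Q5240 (allL N5240 (tt N5240 F16535) (tt N6502 (iv F20724)) (tt N5240 F16536) (tt N3850 (iv D5309)) (tt N6783 D6876) (tt N6781 (iv F21667)) (tt N6784 D6877) (tt N6778 (iv F21656)))
theorem Q5242 : ∀ i, i < 5242 → P i := stepQ 5241 Q5241 (allL N5241 (tt N5241 F16537) (tt N6503 (iv F20725)) (tt N3856 F16538) (tt N6784 (iv F21678)) (tt N3854 F16539) (tt N6785 D6878) (tt N3850 (iv D5310)) (tt N4286 F16540))
theorem Q5243 : ∀ i, i < 5243 → P i := stepQ 5242 Q5242 (allL N5242 (tt N3851 (iv D5311)) (tt N5242 F16541) (tt N5242 F16542) (tt N4283 F16543) (tt N5654 (iv F17929)) (tt N6504 (iv F20731)) (tt N6386 (iv F20299)) (tt N4266 F16617))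
theorem Q5244 : ∀ i, i < 5244 → P i := stepQ 5243 Q5243 (allL N5243 (tt N4266 (iv F16616)) (tt N3852 F16544) (tt N5243 F16545) (tt N4251 F16615) (tt N6780 (iv F21664)) (tt N6506 (iv F20740)) (tt N6786 D6879) (tt N3851 (iv D5312)))
theorem Q5245 : ∀ i, i < 5245 → P i := stepQ 5244 Q5244 (allL N5244 (tt N5244 F16546) (tt N4251 (iv F16614)) (tt N4245 F16613) (tt N3852 (iv D5313)) (tt N6787 D6880) (tt N3853 F16547) (tt N6788 D6881) (tt N4285 F16548))
theorem Q5246 : ∀ i, i < 5246 → P i := stepQ 5245 Q5245 (allL N5245 (tt N5245 F16549) (tt N6786 (iv F21684)) (tt N3859 F16550) (tt N6788 (iv F21695)) (tt N6782 (iv F21671)) (tt N6789 D6882) (tt N3852 (iv D5314)) (tt N6779 (iv F21660)))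
theorem Q5247 : ∀ i, i < 5247 → P i := stepQ 5246 Q5246 (allL N5246 (tt N5246 F16551) (tt N4232 F16611) (tt N3853 (iv D5315)) (tt N3860 F16552) (tt N6790 D6883) (tt N4245 (iv F16612)) (tt N6791 D6884) (tt N4287 F16553))
theorem Q5248 : ∀ i, i < 5248 → P i := stepQ 5247 Q5247 (allL N5247 (tt N5247 F16554) (tt N6511 (iv F20751)) (tt N6790 (iv F21701)) (tt N6783 (iv F21675)) (tt N3853 (iv D5316)) (tt N6787 (iv F21690)) (tt N6792 D6885) (tt N4288 F16555))
theorem Q5249 : ∀ i, i < 5249 → P i := stepQ 5248 Q5248 (allL N5248 (tt N5248 F16556) (tt N6512 (iv F20753)) (tt N6791 (iv F21707)) (tt N3854 F16557) (tt N6792 (iv F21710)) (tt N6793 D6886) (tt N3853 (iv D5317)) (tt N6794 D6887))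
theorem Q5250 : ∀ i, i < 5250 → P i := stepQ 5249 Q5249 (allL N5249 (tt N5249 F16558) (tt N6795 D6888) (tt N3862 F16559) (tt N6793 (iv F21712)) (tt N6785 (iv F21681)) (tt N3854 (iv D5318)) (tt N6789 (iv F21698)) (tt N6712 (iv F21436)))
theorem Q5251 : ∀ i, i < 5251 → P i := stepQ 5250 Q5250 (allL N5250 (tt N5250 F16560) (tt N5250 F16561) (tt N6782 (iv F21670)) (tt N5250 F16562) (tt N3859 F16563) (tt N6796 D6889) (tt N3855 (iv D5319)) (tt N4223 F16564))
theorem Q5252 : ∀ i, i < 5252 → P i := stepQ 5251 Q5251 (allL N5251 (tt N5251 F16565) (tt N6797 D6890) (tt N6785 (iv F21680)) (tt N5251 F16566) (tt N3862 F16567) (tt N3856 (iv D5320)) (tt N6796 (iv F21718)) (tt N4296 F16568))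
theorem Q5253 : ∀ i, i < 5253 → P i := stepQ 5252 Q5252 (allL N5252 (tt N5252 F16569) (tt N5252 F16570) (tt N6779 (iv F21658)) (tt N5252 F16571) (tt N4223 F16572) (tt N6798 D6891) (tt N3857 (iv D5321)) (tt N3859 F16573))
theorem Q5254 : ∀ i, i < 5254 → P i := stepQ 5253 Q5253 (allL N5253 (tt N5253 F16574) (tt N4243 (iv F16606)) (tt N3858 (iv D5322)) (tt N4245 F16607) (tt N5253 F16575) (tt N3860 F16576) (tt N5823 (iv F18458)) (tt N3863 F16577))
theorem Q5255 : ∀ i, i < 5255 → P i := stepQ 5254 Q5254 (allL N5254 (tt N5254 F16578) (tt N5254 F16579) (tt N5823 F18460) (tt N3859 F16580) (tt N5254 F16581) (tt N6799 D6892) (tt N3858 (iv D5323)) (tt N5254 F16582))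
theorem Q5256 : ∀ i, i < 5256 → P i := stepQ 5255 Q5255 (allL N5255 (tt N5255 F16583) (tt N6800 D6893) (tt N6789 (iv F21697)) (tt N6799 (iv F21730)) (tt N6796 (iv F21717)) (tt N3859 (iv D5324)) (tt N3862 F16584) (tt N6798 (iv F21728)))
theorem Q5257 : ∀ i, i < 5257 → P i := stepQ 5256 Q5256 (allL N5256 (tt N4230 (iv F16609)) (tt N3860 (iv D5325)) (tt N3868 F16585) (tt N4232 (iv F16610)) (tt N5256 F16586) (tt N4229 F16608) (tt N6801 D6894) (tt N3864 F16587))
theorem Q5258 : ∀ i, i < 5258 → P i := stepQ 5257 Q5257 (allL N5257 (tt N5257 F16588) (tt N6801 (iv F21737)) (tt N3861 F16589) (tt N6791 (iv F21708)) (tt N5257 F16590) (tt N6802 D6895) (tt N3860 (iv D5326)) (tt N6803 D6896))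
theorem Q5259 : ∀ i, i < 5259 → P i := stepQ 5258 Q5258 (allL N5258 (tt N5258 F16591) (tt N6804 D6897) (tt N6802 (iv F21742)) (tt N3862 F16592) (tt N5258 F16593) (tt N3861 (iv D5327)) (tt N6799 (iv F21732)) (tt N6805 D6898))
theorem Q5260 : ∀ i, i < 5260 → P i := stepQ 5259 Q5259 (allL N5259 (tt N5259 F16594) (tt N3871 F16595) (tt N6803 (iv F21745)) (tt N6717 (iv F21452)) (tt N5259 F16596) (tt N6805 (iv F21753)) (tt N3866 F16597) (tt N3861 (iv D5328)))
theorem Q5261 : ∀ i, i < 5261 → P i := stepQ 5260 Q5260 (allL N5260 (tt N6806 D6899) (tt N3862 (iv D5329)) (tt N6807 D6900) (tt N6804 (iv F21748)) (tt N6797 (iv F21721)) (tt N3872 F16598) (tt N6800 (iv F21735)) (tt N6718 (iv F21457)))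
theorem Q5262 : ∀ i, i < 5262 → P i := stepQ 5261 Q5261 (allL N5261 (tt N4242 (iv F16603)) (tt N3863 (iv D5330)) (tt N5261 F16599) (tt N4303 F16600) (tt N5261 F16601) (tt N4241 F16604) (tt N5261 F16602) (tt N4243 F16605))
theorem Q5263 : ∀ i, i < 5263 → P i := stepQ 5262 Q5262 (allL N5262 (tt N3864 (iv D5331)) (tt N5262 F16618) (tt N3873 F16619) (tt N4304 F16620) (tt N5262 F16621) (tt N4228 (iv F16623)) (tt N6808 D6901) (tt N4230 F16622))
theorem Q5264 : ∀ i, i < 5264 → P i := stepQ 5263 Q5263 (allL N5263 (tt N4228 F16624) (tt N4241 F16625) (tt N3874 F16626) (tt N4306 F16627) (tt N5263 F16628) (tt N3864 (iv D5332)) (tt N5821 (iv F18448)) (tt N4229 F16629))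
theorem Q5265 : ∀ i, i < 5265 → P i := stepQ 5264 Q5264 (allL N5264 (tt N6808 (iv F21758)) (tt N3865 F16630) (tt N3875 F16631) (tt N4307 F16632) (tt N5264 F16633) (tt N6375 (iv F20252)) (tt N3864 (iv D5333)) (tt N6361 (iv F20206)))
theorem Q5266 : ∀ i, i < 5266 → P i := stepQ 5265 Q5265 (allL N5265 (tt N5265 F16634) (tt N6361 (iv F20203)) (tt N3866 F16635) (tt N6137 (iv F19443)) (tt N5265 F16636) (tt N5265 F16637) (tt N6803 (iv F21747)) (tt N3865 (iv D5334)))
theorem Q5267 : ∀ i, i < 5267 → P i := stepQ 5266 Q5266 (allL N5266 (tt N6809 D6902) (tt N3867 (iv D5335)) (tt N6810 D6903) (tt N5266 F16638) (tt N3872 F16639) (tt N6797 (iv F21722)) (tt N5266 F16640) (tt N4537 F16641))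
theorem Q5268 : ∀ i, i < 5268 → P i := stepQ 5267 Q5267 (allL N5267 (tt N3868 (iv D5336)) (tt N3889 F16642) (tt N4230 F16643) (tt N6547 (iv F20854)) (tt N5267 F16644) (tt N4227 (iv F16646)) (tt N6811 D6904) (tt N3873 F16645))
theorem Q5269 : ∀ i, i < 5269 → P i := stepQ 5268 Q5268 (allL N5268 (tt N4227 F16647) (tt N5268 F16648) (tt N4229 F16649) (tt N6549 (iv F20863)) (tt N5268 F16650) (tt N3868 (iv D5337)) (tt N5819 F18438) (tt N3874 F16651))
theorem Q5270 : ∀ i, i < 5270 → P i := stepQ 5269 Q5269 (allL N5269 (tt N6811 (iv F21827)) (tt N3869 F16652) (tt N6801 (iv F21738)) (tt N6550 (iv F20866)) (tt N5269 F16653) (tt N6812 D6905) (tt N3868 (iv D5338)) (tt N6360 (iv F20202)))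
theorem Q5271 : ∀ i, i < 5271 → P i := stepQ 5270 Q5270 (allL N5270 (tt N6813 D6906) (tt N3870 (iv D5339)) (tt N6814 D6907) (tt N3872 F16654) (tt N5270 F16655) (tt N6804 (iv F21750)) (tt N5270 F16656) (tt N6355 F20185))
theorem Q5272 : ∀ i, i < 5272 → P i := stepQ 5271 Q5271 (allL N5271 (tt N3872 (iv D5340)) (tt N3893 F16657) (tt N6815 D6908) (tt N6813 (iv F21834)) (tt N6809 (iv F21821)) (tt N6806 (iv F21756)) (tt N5271 F16658) (tt N6726 (iv F21486)))
theorem Q5273 : ∀ i, i < 5273 → P i := stepQ 5272 Q5272 (allL N5272 (tt N6815 (iv F21840)) (tt N6553 (iv F20871)) (tt N3872 (iv D5341)) (tt N6816 D6909) (tt N6810 (iv F21824)) (tt N6807 (iv F21757)) (tt N5272 F16659) (tt N6727 (iv F21489)))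
theorem Q5274 : ∀ i, i < 5274 → P i := stepQ 5273 Q5273 (allL N5273 (tt N3874 F16660) (tt N4224 (iv F16665)) (tt N4228 F16661) (tt N3877 F16662) (tt N5273 F16663) (tt N3873 (iv D5342)) (tt N6282 (iv F19909)) (tt N4227 F16664))
theorem Q5275 : ∀ i, i < 5275 → P i := stepQ 5274 Q5274 (allL N5274 (tt N3875 F16666) (tt N3896 F16667) (tt N6808 (iv F21760)) (tt N3878 F16668) (tt N5274 F16669) (tt N5710 (iv F18117)) (tt N3873 (iv D5343)) (tt N5224 (iv F16670)))
theorem Q5276 : ∀ i, i < 5276 → P i := stepQ 5275 Q5275 (allL N5275 (tt N6282 (iv F19905)) (tt N5275 F16671) (tt N5821 (iv F18446)) (tt N3880 F16672) (tt N5275 F16673) (tt N6376 (iv F20257)) (tt N3874 (iv D5344)) (tt N5818 (iv F18439)))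
theorem Q5277 : ∀ i, i < 5277 → P i := stepQ 5276 Q5276 (allL N5276 (tt N3879 F16674) (tt N6817 D6910) (tt N4323 F16675) (tt N5276 F16676) (tt N3877 F16677) (tt N3876 (iv D5345)) (tt N6818 D6911) (tt N6567 (iv F20913)))
theorem Q5278 : ∀ i, i < 5278 → P i := stepQ 5277 Q5277 (allL N5277 (tt N5277 F16678) (tt N3877 (iv D5346)) (tt N4219 (iv F16681)) (tt N4224 F16679) (tt N6817 (iv F21845)) (tt N3899 F16680) (tt N6311 (iv F20012)) (tt N6569 (iv F20923)))
theorem Q5279 : ∀ i, i < 5279 → P i := stepQ 5278 Q5278 (allL N5278 (tt N3880 F16682) (tt N6311 (iv F20010)) (tt N4325 F16683) (tt N6282 F19910) (tt N6818 (iv F21851)) (tt N6819 D6912) (tt N3877 (iv D5347)) (tt N6820 D6913))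
theorem Q5280 : ∀ i, i < 5280 → P i := stepQ 5279 Q5279 (allL N5279 (tt N3881 F16684) (tt N5510 (iv F17500)) (tt N4326 F16685) (tt N5710 (iv F18115)) (tt N4546 F16686) (tt N3878 (iv D5348)) (tt N6819 (iv F21856)) (tt N5508 F17493))
theorem Q5281 : ∀ i, i < 5281 → P i := stepQ 5280 Q5280 (allL N5280 (tt N3882 F16687) (tt N3902 F16688) (tt N4327 F16689) (tt N4964 F16690) (tt N4538 F16691) (tt N5508 (iv F17492)) (tt N6572 (iv F20932)) (tt N3878 (iv D5349)))
theorem Q5282 : ∀ i, i < 5282 → P i := stepQ 5281 Q5281 (allL N5281 (tt N6818 (iv F21848)) (tt N5281 F16692) (tt N4328 F16693) (tt N5281 F16694) (tt N3880 F16695) (tt N4547 F16696) (tt N3879 (iv D5350)) (tt N6821 D6914))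
theorem Q5283 : ∀ i, i < 5283 → P i := stepQ 5282 Q5282 (allL N5282 (tt N6819 (iv F21853)) (tt N6378 (iv F20265)) (tt N4329 F16697) (tt N6376 (iv F20255)) (tt N4547 F16698) (tt N3880 (iv D5351)) (tt N3881 F16699) (tt N6822 D6915))
theorem Q5284 : ∀ i, i < 5284 → P i := stepQ 5283 Q5283 (allL N5283 (tt N6820 (iv F21857)) (tt N5283 F16700) (tt N4330 F16701) (tt N6823 D6916) (tt N6821 (iv F21861)) (tt N6822 (iv F21865)) (tt N6579 (iv F20952)) (tt N3880 (iv D5352)))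
theorem Q5285 : ∀ i, i < 5285 → P i := stepQ 5284 Q5284 (allL N5284 (tt N5508 (iv F17489)) (tt N5493 (iv F17430)) (tt N4331 F16702) (tt N5495 (iv F17440)) (tt N4539 F16703) (tt N3882 F16704) (tt N6824 D6917) (tt N3881 (iv D5353)))
theorem Q5286 : ∀ i, i < 5286 → P i := stepQ 5285 Q5285 (allL N5285 (tt N4964 F16705) (tt N3884 F16706) (tt N6825 D6918) (tt N3882 (iv D5354)) (tt N4962 F16707) (tt N5495 (iv F17442)) (tt N6582 (iv F20959)) (tt N5216 F16708))
theorem Q5287 : ∀ i, i < 5287 → P i := stepQ 5286 Q5286 (allL N5286 (tt N3906 F16709) (tt N5494 (iv F17436)) (tt N3887 F16710) (tt N4961 F16711) (tt N4535 F16712) (tt N6590 (iv F20991)) (tt N3883 (iv D5355)) (tt N5286 F16713))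
theorem Q5288 : ∀ i, i < 5288 → P i := stepQ 5287 Q5287 (allL N5287 (tt N5287 F16714) (tt N5492 (iv F17425)) (tt N3886 F16715) (tt N6826 D6919) (tt N4294 F16716) (tt N4298 F16717) (tt N6827 D6920) (tt N3885 (iv D5356)))
theorem Q5289 : ∀ i, i < 5289 → P i := stepQ 5288 Q5288 (allL N5288 (tt N5288 F16718) (tt N3887 F16719) (tt N6827 (iv F21877)) (tt N6715 (iv F21445)) (tt N4295 F16720) (tt N6828 D6921) (tt N3886 (iv D5357)) (tt N5288 F16721))
theorem Q5290 : ∀ i, i < 5290 → P i := stepQ 5289 Q5289 (allL N5289 (tt N3888 (iv D5358)) (tt N6809 (iv F21819)) (tt N6829 D6922) (tt N5289 F16722) (tt N3893 F16723) (tt N5289 F16724) (tt N5289 F16725) (tt N4687 F16726))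
theorem Q5291 : ∀ i, i < 5291 → P i := stepQ 5290 Q5290 (allL N5290 (tt N6829 (iv F21884)) (tt N6595 (iv F21004)) (tt N3888 (iv D5359)) (tt N6830 D6923) (tt N3894 F16727) (tt N5290 F16728) (tt N5290 F16729) (tt N4688 F16730))
theorem Q5292 : ∀ i, i < 5292 → P i := stepQ 5291 Q5291 (allL N5291 (tt N3890 F16731) (tt N4226 F16732) (tt N5291 F16733) (tt N4381 F16734) (tt N5291 F16735) (tt N3889 (iv D5360)) (tt N5291 F16737) (tt N3895 F16736))
theorem Q5293 : ∀ i, i < 5293 → P i := stepQ 5292 Q5292 (allL N5292 (tt N3891 F16738) (tt N6811 (iv F21828)) (tt N5292 F16739) (tt N6596 (iv F21010)) (tt N5292 F16740) (tt N5292 F16741) (tt N3889 (iv D5361)) (tt N5225 F16742))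
theorem Q5294 : ∀ i, i < 5294 → P i := stepQ 5293 Q5293 (allL N5293 (tt N3892 (iv D5362)) (tt N6813 (iv F21833)) (tt N5293 F16743) (tt N3893 F16744) (tt N5293 F16745) (tt N5293 F16746) (tt N5293 F16747) (tt N5138 F16748))
theorem Q5295 : ∀ i, i < 5295 → P i := stepQ 5294 Q5294 (allL N5294 (tt N3894 F16749) (tt N6831 D6924) (tt N3893 (iv D5363)) (tt N5294 F16750) (tt N6829 (iv F21885)) (tt N5294 F16751) (tt N5294 F16752) (tt N6744 (iv F21538)))
theorem Q5296 : ∀ i, i < 5296 → P i := stepQ 5295 Q5295 (allL N5295 (tt N5295 F16753) (tt N3895 (iv D5364)) (tt N4222 (iv F16758)) (tt N3899 F16754) (tt N5295 F16755) (tt N4224 F16756) (tt N6832 D6925) (tt N4226 F16757))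
theorem Q5297 : ∀ i, i < 5297 → P i := stepQ 5296 Q5296 (allL N5296 (tt N3897 F16759) (tt N6832 (iv F21896)) (tt N5296 F16760) (tt N3900 F16761) (tt N5296 F16762) (tt N5226 F16763) (tt N3895 (iv D5365)) (tt N5296 F16764))
theorem Q5298 : ∀ i, i < 5298 → P i := stepQ 5297 Q5297 (allL N5297 (tt N5297 F16765) (tt N3898 (iv D5366)) (tt N6833 D6926) (tt N5297 F16766) (tt N3899 F16767) (tt N6817 (iv F21846)) (tt N6834 D6927) (tt N6608 (iv F21052)))
theorem Q5299 : ∀ i, i < 5299 → P i := stepQ 5298 Q5298 (allL N5298 (tt N3903 F16768) (tt N6834 (iv F21907)) (tt N3908 F16769) (tt N5298 F16770) (tt N3900 F16771) (tt N4695 F16772) (tt N3898 (iv D5367)) (tt N6655 (iv F21243)))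
theorem Q5300 : ∀ i, i < 5300 → P i := stepQ 5299 Q5299 (allL N5299 (tt N5299 F16773) (tt N3909 F16774) (tt N3899 (iv D5368)) (tt N4218 F16775) (tt N6833 (iv F21903)) (tt N4219 F16776) (tt N6835 D6928) (tt N4281 F16777))
theorem Q5301 : ∀ i, i < 5301 → P i := stepQ 5300 Q5300 (allL N5300 (tt N5300 F16778) (tt N3900 F16779) (tt N6835 (iv F21912)) (tt N6832 (iv F21898)) (tt N6834 (iv F21909)) (tt N6836 D6929) (tt N3899 (iv D5369)) (tt N6837 D6930))
theorem Q5302 : ∀ i, i < 5302 → P i := stepQ 5301 Q5301 (allL N5301 (tt N3904 F16780) (tt N5511 (iv F17506)) (tt N3911 F16781) (tt N5226 F16782) (tt N4695 F16783) (tt N3900 (iv D5370)) (tt N3901 F16784) (tt N6179 (iv F19555)))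
theorem Q5303 : ∀ i, i < 5303 → P i := stepQ 5302 Q5302 (allL N5302 (tt N3905 F16785) (tt N6837 (iv F21916)) (tt N3912 F16786) (tt N5302 F16787) (tt N6655 (iv F21242)) (tt N6179 (iv F19556)) (tt N6613 (iv F21073)) (tt N3900 (iv D5371)))
theorem Q5304 : ∀ i, i < 5304 → P i := stepQ 5303 Q5303 (allL N5303 (tt N3924 F16788) (tt N6833 (iv F21902)) (tt N3907 (iv D5372)) (tt N6838 D6931) (tt N3909 F16789) (tt N4345 F16790) (tt N6839 D6932) (tt N6633 (iv F21155)))
theorem Q5305 : ∀ i, i < 5305 → P i := stepQ 5304 Q5304 (allL N5304 (tt N3925 F16791) (tt N3908 F16792) (tt N6839 (iv F21922)) (tt N4716 F16793) (tt N3910 F16794) (tt N6840 D6933) (tt N3907 (iv D5373)) (tt N6841 D6934))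
theorem Q5306 : ∀ i, i < 5306 → P i := stepQ 5305 Q5305 (allL N5305 (tt N3915 F16795) (tt N6841 (iv F21930)) (tt N6655 (iv F21240)) (tt N6842 D6935) (tt N3912 F16796) (tt N4711 F16797) (tt N6636 (iv F21168)) (tt N3908 (iv D5374)))
theorem Q5307 : ∀ i, i < 5307 → P i := stepQ 5306 Q5306 (allL N5306 (tt N3927 F16798) (tt N4218 F16799) (tt N5306 F16800) (tt N3909 (iv D5375)) (tt N6498 (iv F20712)) (tt N4348 F16801) (tt N6843 D6936) (tt N4082 F16802))
theorem Q5308 : ∀ i, i < 5308 → P i := stepQ 5307 Q5307 (allL N5307 (tt N3928 F16803) (tt N6835 (iv F21911)) (tt N3910 F16804) (tt N6843 (iv F21938)) (tt N6839 (iv F21923)) (tt N6844 D6937) (tt N3909 (iv D5376)) (tt N6845 D6938))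
theorem Q5309 : ∀ i, i < 5309 → P i := stepQ 5308 Q5308 (allL N5308 (tt N3929 F16805) (tt N6846 D6939) (tt N6844 (iv F21940)) (tt N5308 F16806) (tt N6840 (iv F21927)) (tt N3910 (iv D5377)) (tt N4350 F16807) (tt N6847 D6940))
theorem Q5310 : ∀ i, i < 5310 → P i := stepQ 5309 Q5309 (allL N5309 (tt N3930 F16808) (tt N3912 F16809) (tt N6845 (iv F21943)) (tt N6848 D6941) (tt N6841 (iv F21931)) (tt N6847 (iv F21950)) (tt N6640 (iv F21181)) (tt N3910 (iv D5378)))
theorem Q5311 : ∀ i, i < 5311 → P i := stepQ 5310 Q5310 (allL N5310 (tt N5310 F16810) (tt N3911 (iv D5379)) (tt N5969 (iv F18953)) (tt N5310 F16811) (tt N4710 F16812) (tt N6846 (iv F21947)) (tt N3913 F16813) (tt N6352 (iv F20176)))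
theorem Q5312 : ∀ i, i < 5312 → P i := stepQ 5311 Q5311 (allL N5311 (tt N3916 F16814) (tt N6352 (iv F20173)) (tt N6179 (iv F19552)) (tt N4844 (iv F16818)) (tt N4711 F16815) (tt N3912 F16816) (tt N4843 F16817) (tt N3911 (iv D5380)))
theorem Q5313 : ∀ i, i < 5313 → P i := stepQ 5312 Q5312 (allL N5312 (tt N3917 F16819) (tt N6848 (iv F21952)) (tt N5312 F16820) (tt N3912 (iv D5381)) (tt N6849 D6942) (tt N4844 F16821) (tt N4862 F16822) (tt N5312 F16823))
theorem Q5314 : ∀ i, i < 5314 → P i := stepQ 5313 Q5313 (allL N5313 (tt N6842 (iv F21932)) (tt N3939 F16824) (tt N6850 D6943) (tt N3915 (iv D5382)) (tt N6851 D6944) (tt N4712 F16825) (tt N6644 (iv F21197)) (tt N4724 F16826))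
theorem Q5315 : ∀ i, i < 5315 → P i := stepQ 5314 Q5314 (allL N5314 (tt N6849 (iv F21955)) (tt N3941 F16827) (tt N5314 F16828) (tt N6851 (iv F21964)) (tt N3917 (iv D5383)) (tt N4846 F16829) (tt N4874 F16830) (tt N5314 F16831))
theorem Q5316 : ∀ i, i < 5316 → P i := stepQ 5315 Q5315 (allL N5315 (tt N5315 F16832) (tt N3918 (iv D5384)) (tt N6852 D6945) (tt N5315 F16833) (tt N5315 F16834) (tt N5315 F16835) (tt N6853 D6946) (tt N6854 D6947))
theorem Q5317 : ∀ i, i < 5317 → P i := stepQ 5316 Q5316 (allL N5316 (tt N3932 F16836) (tt N6853 (iv F21973)) (tt N3921 F16837) (tt N5316 F16838) (tt N5316 F16839) (tt N5316 F16840) (tt N3918 (iv D5385)) (tt N6855 D6948))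
theorem Q5318 : ∀ i, i < 5318 → P i := stepQ 5317 Q5317 (allL N5317 (tt N3933 F16841) (tt N6854 (iv F21977)) (tt N3922 F16842) (tt N6856 D6949) (tt N5317 F16843) (tt N3919 F16844) (tt N6857 D6950) (tt N3918 (iv D5386)))
theorem Q5319 : ∀ i, i < 5319 → P i := stepQ 5318 Q5318 (allL N5318 (tt N3934 F16845) (tt N5318 F16846) (tt N6651 (iv F21224)) (tt N3919 (iv D5387)) (tt N6858 D6951) (tt N6856 (iv F21986)) (tt N6859 D6952) (tt N5318 F16847))
theorem Q5320 : ∀ i, i < 5320 → P i := stepQ 5319 Q5319 (allL N5319 (tt N3935 F16848) (tt N5319 F16849) (tt N3923 F16850) (tt N6859 (iv F22001)) (tt N5319 F16851) (tt N6860 D6953) (tt N3919 (iv D5388)) (tt N5319 F16852))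
theorem Q5321 : ∀ i, i < 5321 → P i := stepQ 5320 Q5320 (allL N5320 (tt N4719 F16853) (tt N6852 (iv F21969)) (tt N3920 (iv D5389)) (tt N6861 D6954) (tt N5320 F16854) (tt N4355 F16855) (tt N6862 D6955) (tt N6863 D6956))
theorem Q5322 : ∀ i, i < 5322 → P i := stepQ 5321 Q5321 (allL N5321 (tt N4716 F16856) (tt N3921 F16857) (tt N6862 (iv F22011)) (tt N3925 F16858) (tt N5321 F16859) (tt N6864 D6957) (tt N3920 (iv D5390)) (tt N6865 D6958))
theorem Q5323 : ∀ i, i < 5323 → P i := stepQ 5322 Q5322 (allL N5322 (tt N4720 F16860) (tt N3922 F16861) (tt N6863 (iv F22014)) (tt N5683 (iv F18017)) (tt N5322 F16862) (tt N4357 F16863) (tt N6866 D6959) (tt N3920 (iv D5391)))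
theorem Q5324 : ∀ i, i < 5324 → P i := stepQ 5323 Q5323 (allL N5323 (tt N3936 F16864) (tt N6865 (iv F22034)) (tt N6855 (iv F21981)) (tt N6867 D6960) (tt N5323 F16865) (tt N5323 F16866) (tt N6868 D6961) (tt N3921 (iv D5392)))
theorem Q5325 : ∀ i, i < 5325 → P i := stepQ 5324 Q5324 (allL N5324 (tt N3937 F16867) (tt N6866 (iv F22039)) (tt N6857 (iv F21990)) (tt N6654 (iv F21237)) (tt N5324 F16868) (tt N6869 D6962) (tt N3922 (iv D5393)) (tt N6868 (iv F22048)))
theorem Q5326 : ∀ i, i < 5326 → P i := stepQ 5325 Q5325 (allL N5325 (tt N3938 F16869) (tt N6870 D6963) (tt N6860 (iv F22004)) (tt N6655 (iv F21241)) (tt N5325 F16870) (tt N3923 (iv D5394)) (tt N6869 (iv F22052)) (tt N5325 F16871))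
theorem Q5327 : ∀ i, i < 5327 → P i := stepQ 5326 Q5326 (allL N5326 (tt N6838 (iv F21918)) (tt N5326 F16872) (tt N6861 (iv F22008)) (tt N3924 (iv D5395)) (tt N6871 D6964) (tt N4360 F16873) (tt N6872 D6965) (tt N6873 D6966))
theorem Q5328 : ∀ i, i < 5328 → P i := stepQ 5327 Q5327 (allL N5327 (tt N6839 (iv F21921)) (tt N5327 F16874) (tt N3925 F16875) (tt N6872 (iv F22063)) (tt N3928 F16876) (tt N6874 D6967) (tt N3924 (iv D5396)) (tt N6875 D6968))
theorem Q5329 : ∀ i, i < 5329 → P i := stepQ 5328 Q5328 (allL N5328 (tt N6840 (iv F21924)) (tt N5328 F16877) (tt N6874 (iv F22066)) (tt N6864 (iv F22020)) (tt N3929 F16878) (tt N3925 (iv D5397)) (tt N4362 F16879) (tt N6876 D6969))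
theorem Q5330 : ∀ i, i < 5330 → P i := stepQ 5329 Q5329 (allL N5329 (tt N6841 (iv F21929)) (tt N3926 F16880) (tt N6875 (iv F22070)) (tt N6877 D6970) (tt N3930 F16881) (tt N6876 (iv F22074)) (tt N6659 (iv F21255)) (tt N3925 (iv D5398)))
theorem Q5331 : ∀ i, i < 5331 → P i := stepQ 5330 Q5330 (allL N5330 (tt N3939 F16882) (tt N6877 (iv F22075)) (tt N6878 D6971) (tt N3926 (iv D5399)) (tt N6879 D6972) (tt N5330 F16883) (tt N6660 (iv F21257)) (tt N6867 (iv F22045)))
theorem Q5332 : ∀ i, i < 5332 → P i := stepQ 5331 Q5331 (allL N5331 (tt N6498 (iv F20709)) (tt N5331 F16884) (tt N5331 F16885) (tt N6871 (iv F22060)) (tt N3927 (iv D5400)) (tt N4365 F16886) (tt N6880 D6973) (tt N6386 F20301))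
theorem Q5333 : ∀ i, i < 5333 → P i := stepQ 5332 Q5332 (allL N5332 (tt N6843 (iv F21935)) (tt N5332 F16887) (tt N5332 F16888) (tt N3928 F16889) (tt N6880 (iv F22087)) (tt N6881 D6974) (tt N3927 (iv D5401)) (tt N6882 D6975))
theorem Q5334 : ∀ i, i < 5334 → P i := stepQ 5333 Q5333 (allL N5333 (tt N4082 F16890) (tt N5333 F16891) (tt N5333 F16892) (tt N3945 F16893) (tt N6386 (iv F20298)) (tt N4367 F16894) (tt N5654 (iv F17930)) (tt N3927 (iv D5402)))
theorem Q5335 : ∀ i, i < 5335 → P i := stepQ 5334 Q5334 (allL N5334 (tt N6844 (iv F21939)) (tt N6883 D6976) (tt N3929 F16895) (tt N6881 (iv F22090)) (tt N6874 (iv F22067)) (tt N3928 (iv D5403)) (tt N4368 F16896) (tt N6884 D6977))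
theorem Q5336 : ∀ i, i < 5336 → P i := stepQ 5335 Q5335 (allL N5335 (tt N6845 (iv F21942)) (tt N5335 F16897) (tt N3930 F16898) (tt N6885 D6978) (tt N6875 (iv F22071)) (tt N6884 (iv F22100)) (tt N6663 (iv F21267)) (tt N3928 (iv D5404)))
theorem Q5337 : ∀ i, i < 5337 → P i := stepQ 5336 Q5336 (allL N5336 (tt N6847 (iv F21949)) (tt N5336 F16899) (tt N6884 (iv F22099)) (tt N6886 D6979) (tt N6876 (iv F22073)) (tt N3930 F16900) (tt N6887 D6980) (tt N3929 (iv D5405)))
theorem Q5338 : ∀ i, i < 5338 → P i := stepQ 5337 Q5337 (allL N5337 (tt N6848 (iv F21951)) (tt N3931 F16901) (tt N6888 D6981) (tt N3930 (iv D5406)) (tt N6889 D6982) (tt N6886 (iv F22103)) (tt N6666 (iv F21274)) (tt N5337 F16902))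
theorem Q5339 : ∀ i, i < 5339 → P i := stepQ 5338 Q5338 (allL N5338 (tt N3940 F16903) (tt N6890 D6983) (tt N3931 (iv D5407)) (tt N5338 F16904) (tt N6891 D6984) (tt N5338 F16905) (tt N6670 (iv F21289)) (tt N5338 F16906))
theorem Q5340 : ∀ i, i < 5340 → P i := stepQ 5339 Q5339 (allL N5339 (tt N3941 F16907) (tt N6889 (iv F22108)) (tt N6891 (iv F22114)) (tt N6879 (iv F22082)) (tt N3931 (iv D5408)) (tt N5339 F16908) (tt N6671 (iv F21293)) (tt N5339 F16909))
theorem Q5341 : ∀ i, i < 5341 → P i := stepQ 5340 Q5340 (allL N5340 (tt N6855 (iv F21980)) (tt N5340 F16910) (tt N3936 F16911) (tt N5351 F16954) (tt N5340 F16912) (tt N5340 F16913) (tt N6892 D6985) (tt N3932 (iv D5409)))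
theorem Q5342 : ∀ i, i < 5342 → P i := stepQ 5341 Q5341 (allL N5341 (tt N6856 (iv F21984)) (tt N5341 F16914) (tt N4872 F16915) (tt N3933 (iv D5410)) (tt N4871 (iv F16918)) (tt N3934 F16916) (tt N6224 (iv F19708)) (tt N5341 F16917))
theorem Q5343 : ∀ i, i < 5343 → P i := stepQ 5342 Q5342 (allL N5342 (tt N6857 (iv F21989)) (tt N5342 F16919) (tt N3937 F16920) (tt N6224 (iv F19707)) (tt N5342 F16921) (tt N6893 D6986) (tt N3933 (iv D5411)) (tt N6892 (iv F22122)))
theorem Q5344 : ∀ i, i < 5344 → P i := stepQ 5343 Q5343 (allL N5343 (tt N6858 (iv F21992)) (tt N3942 F16922) (tt N4845 F16923) (tt N5343 F16924) (tt N3934 (iv D5412)) (tt N4871 F16925) (tt N6894 D6987) (tt N5343 F16926))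
theorem Q5345 : ∀ i, i < 5345 → P i := stepQ 5344 Q5344 (allL N5344 (tt N6859 (iv F21998)) (tt N3943 F16927) (tt N4712 F16928) (tt N3935 F16929) (tt N6894 (iv F22129)) (tt N6850 (iv F21961)) (tt N3934 (iv D5413)) (tt N4726 (iv F16930)))
theorem Q5346 : ∀ i, i < 5346 → P i := stepQ 5345 Q5345 (allL N5345 (tt N6860 (iv F22003)) (tt N6895 D6988) (tt N3938 F16931) (tt N6850 (iv F21960)) (tt N5345 F16932) (tt N3935 (iv D5414)) (tt N6893 (iv F22125)) (tt N5345 F16933))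
theorem Q5347 : ∀ i, i < 5347 → P i := stepQ 5346 Q5346 (allL N5346 (tt N6867 (iv F22043)) (tt N4724 F16934) (tt N5350 (iv F16946)) (tt N3936 (iv D5415)) (tt N5349 F16945) (tt N5346 F16935) (tt N6896 D6989) (tt N3939 F16936))
theorem Q5348 : ∀ i, i < 5348 → P i := stepQ 5347 Q5347 (allL N5347 (tt N6868 (iv F22046)) (tt N4725 F16937) (tt N6892 (iv F22119)) (tt N6896 (iv F22137)) (tt N5347 F16938) (tt N6897 D6990) (tt N3936 (iv D5416)) (tt N3937 F16939))
theorem Q5349 : ∀ i, i < 5349 → P i := stepQ 5348 Q5348 (allL N5348 (tt N6869 (iv F22049)) (tt N5348 F16940) (tt N6893 (iv F22123)) (tt N6620 F21099) (tt N5348 F16941) (tt N3937 (iv D5417)) (tt N3938 F16942) (tt N6897 (iv F22142)))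
theorem Q5350 : ∀ i, i < 5350 → P i := stepQ 5349 Q5349 (allL N5349 (tt N6878 (iv F22076)) (tt N6246 (iv F19785)) (tt N3939 (iv D5418)) (tt N5349 F16943) (tt N5346 (iv F16945)) (tt N5349 F16944) (tt N6672 (iv F21295)) (tt N5350 (iv F16949)))
theorem Q5351 : ∀ i, i < 5351 → P i := stepQ 5350 Q5350 (allL N5350 (tt N6879 (iv F22080)) (tt N6851 (iv F21963)) (tt N5346 F16946) (tt N3941 F16947) (tt N3939 (iv D5419)) (tt N5350 F16948) (tt N6673 (iv F21299)) (tt N5349 F16949))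
theorem Q5352 : ∀ i, i < 5352 → P i := stepQ 5351 Q5351 (allL N5351 (tt N6891 (iv F22113)) (tt N5351 F16950) (tt N3941 F16951) (tt N5340 (iv F16954)) (tt N3940 (iv D5420)) (tt N5351 F16952) (tt N6674 (iv F21303)) (tt N5351 F16953))
theorem Q5353 : ∀ i, i < 5353 → P i := stepQ 5352 Q5352 (allL N5352 (tt N5352 F16955) (tt N6894 (iv F22126)) (tt N5352 F16956) (tt N5352 F16957) (tt N3943 F16958) (tt N5354 (iv F16969)) (tt N3942 (iv D5421)) (tt N5353 (iv F16963)))
theorem Q5354 : ∀ i, i < 5354 → P i := stepQ 5353 Q5353 (allL N5353 (tt N5353 F16959) (tt N6248 (iv F19790)) (tt N5353 F16960) (tt N3944 F16961) (tt N5354 (iv F16968)) (tt N3943 (iv D5422)) (tt N5353 F16962) (tt N5352 F16963))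
theorem Q5355 : ∀ i, i < 5355 → P i := stepQ 5354 Q5354 (allL N5354 (tt N5354 F16964) (tt N4726 F16965) (tt N5354 F16966) (tt N5354 F16967) (tt N5353 F16968) (tt N5352 F16969) (tt N5354 F16970) (tt N3943 (iv D5423)))
theorem Q5356 : ∀ i, i < 5356 → P i := stepQ 5355 Q5355 (allL N5355 (tt N6898 D6991) (tt N3944 (iv D5424)) (tt N5355 F16971) (tt N6248 F19793) (tt N5355 F16972) (tt N6895 (iv F22133)) (tt N5355 F16973) (tt N5355 F16974))
theorem Q5357 : ∀ i, i < 5357 → P i := stepQ 5356 Q5356 (allL N5356 (tt N4083 F16975) (tt N4484 (iv F16980)) (tt N3948 F16976) (tt N4367 F16977) (tt N3946 F16978) (tt N3945 (iv D5425)) (tt N6899 D6992) (tt N4178 F16979))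
theorem Q5358 : ∀ i, i < 5358 → P i := stepQ 5357 Q5357 (allL N5357 (tt N6900 D6993) (tt N3946 (iv D5426)) (tt N5357 F16981) (tt N6389 (iv F20311)) (tt N4484 F16982) (tt N5357 F16983) (tt N6901 D6994) (tt N4482 (iv F16984)))
theorem Q5359 : ∀ i, i < 5359 → P i := stepQ 5358 Q5358 (allL N5358 (tt N4086 F16985) (tt N6901 (iv F22158)) (tt N3950 F16986) (tt N5554 (iv F17617)) (tt N6899 (iv F22152)) (tt N5657 (iv F17940)) (tt N3946 (iv D5427)) (tt N6902 D6995))
theorem Q5360 : ∀ i, i < 5360 → P i := stepQ 5359 Q5359 (allL N5359 (tt N4087 F16987) (tt N4482 F16988) (tt N3951 F16989) (tt N6903 D6996) (tt N4178 F16990) (tt N3947 F16991) (tt N6904 D6997) (tt N3946 (iv D5428)))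
theorem Q5361 : ∀ i, i < 5361 → P i := stepQ 5360 Q5360 (allL N5360 (tt N4088 F16992) (tt N5360 F16993) (tt N6905 D6998) (tt N3947 (iv D5429)) (tt N6656 (iv F21246)) (tt N6903 (iv F22166)) (tt N6906 D6999) (tt N6391 (iv F20319)))
theorem Q5362 : ∀ i, i < 5362 → P i := stepQ 5361 Q5361 (allL N5361 (tt N4089 F16994) (tt N5361 F16995) (tt N3953 F16996) (tt N6906 (iv F22175)) (tt N6661 (iv F21262)) (tt N6907 D7000) (tt N3947 (iv D5430)) (tt N5658 (iv F17944)))
theorem Q5363 : ∀ i, i < 5363 → P i := stepQ 5362 Q5362 (allL N5362 (tt N4090 F16997) (tt N5362 F16998) (tt N6899 (iv F22150)) (tt N5362 F16999) (tt N3950 F17000) (tt N5659 (iv F17949)) (tt N3948 (iv D5431)) (tt N6908 D7001))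
theorem Q5364 : ∀ i, i < 5364 → P i := stepQ 5363 Q5363 (allL N5363 (tt N4091 F17001) (tt N5363 F17002) (tt N4178 F17003) (tt N3997 (iv F17006)) (tt N3951 F17004) (tt N3949 F17005) (tt N6909 D7002) (tt N3948 (iv D5432)))
theorem Q5365 : ∀ i, i < 5365 → P i := stepQ 5364 Q5364 (allL N5364 (tt N4093 F17007) (tt N3958 F17008) (tt N6661 (iv F21260)) (tt N5388 (iv F17088)) (tt N3953 F17009) (tt N6910 D7003) (tt N3949 (iv D5433)) (tt N5662 (iv F17960)))
theorem Q5366 : ∀ i, i < 5366 → P i := stepQ 5365 Q5365 (allL N5365 (tt N4094 F17010) (tt N5365 F17011) (tt N6902 (iv F22162)) (tt N4980 F17012) (tt N6908 (iv F22180)) (tt N5663 (iv F17963)) (tt N6911 D7004) (tt N3950 (iv D5434)))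
theorem Q5367 : ∀ i, i < 5367 → P i := stepQ 5366 Q5366 (allL N5366 (tt N4095 F17013) (tt N5366 F17014) (tt N6912 D7005) (tt N3951 (iv D5435)) (tt N5381 (iv F17060)) (tt N3952 F17015) (tt N6913 D7006) (tt N3954 F17016))
theorem Q5368 : ∀ i, i < 5368 → P i := stepQ 5367 Q5367 (allL N5367 (tt N4096 F17017) (tt N5367 F17018) (tt N6904 (iv F22169)) (tt N6913 (iv F22197)) (tt N6909 (iv F22185)) (tt N6914 D7007) (tt N3951 (iv D5436)) (tt N6911 (iv F22191)))
theorem Q5369 : ∀ i, i < 5369 → P i := stepQ 5368 Q5368 (allL N5368 (tt N4097 F17019) (tt N5374 (iv F17036)) (tt N3952 (iv D5437)) (tt N6905 (iv F22172)) (tt N5373 F17034) (tt N6912 (iv F22193)) (tt N6915 D7008) (tt N3955 F17020))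
theorem Q5370 : ∀ i, i < 5370 → P i := stepQ 5369 Q5369 (allL N5369 (tt N4099 F17021) (tt N3959 F17022) (tt N6915 (iv F22202)) (tt N3953 F17023) (tt N5382 (iv F17064)) (tt N6916 D7009) (tt N3952 (iv D5438)) (tt N6917 D7010))
theorem Q5371 : ∀ i, i < 5371 → P i := stepQ 5370 Q5370 (allL N5370 (tt N4100 F17024) (tt N6918 D7011) (tt N6907 (iv F22177)) (tt N6916 (iv F22204)) (tt N6910 (iv F22187)) (tt N3953 (iv D5439)) (tt N6914 (iv F22200)) (tt N5665 (iv F17967)))
theorem Q5372 : ∀ i, i < 5372 → P i := stepQ 5371 Q5371 (allL N5371 (tt N4102 F17025) (tt N6919 D7012) (tt N3954 (iv D5440)) (tt N5558 (iv F17633)) (tt N6920 D7013) (tt N3955 F17026) (tt N4987 F17027) (tt N6912 (iv F22194)))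
theorem Q5373 : ∀ i, i < 5373 → P i := stepQ 5372 Q5372 (allL N5372 (tt N4103 F17028) (tt N5372 F17029) (tt N6920 (iv F22217)) (tt N5372 F17030) (tt N3954 (iv D5441)) (tt N3956 F17031) (tt N4988 F17032) (tt N5381 (iv F17061)))
theorem Q5374 : ∀ i, i < 5374 → P i := stepQ 5373 Q5373 (allL N5373 (tt N5548 (iv F17604)) (tt N3955 (iv D5442)) (tt N3961 F17033) (tt N6401 (iv F20346)) (tt N5368 (iv F17034)) (tt N6921 D7014) (tt N6922 D7015) (tt N5374 (iv F17038)))
theorem Q5375 : ∀ i, i < 5375 → P i := stepQ 5374 Q5374 (allL N5374 (tt N4106 F17035) (tt N5368 F17036) (tt N3956 F17037) (tt N6923 D7016) (tt N3955 (iv D5443)) (tt N6920 (iv F22218)) (tt N6924 D7017) (tt N5373 F17038))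
theorem Q5376 : ∀ i, i < 5376 → P i := stepQ 5375 Q5375 (allL N5375 (tt N4107 F17039) (tt N6922 (iv F22227)) (tt N3957 F17040) (tt N5567 (iv F17666)) (tt N6924 (iv F22238)) (tt N4991 F17041) (tt N3955 (iv D5444)) (tt N6925 D7018))
theorem Q5377 : ∀ i, i < 5377 → P i := stepQ 5376 Q5376 (allL N5376 (tt N4108 F17042) (tt N3963 F17043) (tt N6924 (iv F22237)) (tt N5376 F17044) (tt N3957 F17045) (tt N4992 F17046) (tt N3956 (iv D5445)) (tt N6926 D7019))
theorem Q5378 : ∀ i, i < 5378 → P i := stepQ 5377 Q5377 (allL N5377 (tt N4110 F17047) (tt N3965 F17048) (tt N6925 (iv F22241)) (tt N5502 (iv F17464)) (tt N6926 (iv F22245)) (tt N4993 F17049) (tt N6917 (iv F22207)) (tt N3957 (iv D5446)))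
theorem Q5379 : ∀ i, i < 5379 → P i := stepQ 5378 Q5378 (allL N5378 (tt N3976 F17050) (tt N6927 D7020) (tt N5378 F17051) (tt N5392 (iv F17095)) (tt N3960 F17052) (tt N3958 (iv D5447)) (tt N5378 F17053) (tt N5668 (iv F17978)))
theorem Q5380 : ∀ i, i < 5380 → P i := stepQ 5379 Q5379 (allL N5379 (tt N3977 F17054) (tt N6917 (iv F22206)) (tt N5385 (iv F17076)) (tt N5500 (iv F17456)) (tt N5384 (iv F17073)) (tt N4186 F17055) (tt N3965 F17056) (tt N3959 (iv D5448)))
theorem Q5381 : ∀ i, i < 5381 → P i := stepQ 5380 Q5380 (allL N5380 (tt N6259 (iv F19834)) (tt N3960 (iv D5449)) (tt N6928 D7021) (tt N6258 (iv F19831)) (tt N6927 (iv F22247)) (tt N6918 (iv F22208)) (tt N5380 F17057) (tt N5669 (iv F17980)))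
theorem Q5382 : ∀ i, i < 5382 → P i := stepQ 5381 Q5381 (allL N5381 (tt N5544 (iv F17594)) (tt N5381 F17058) (tt N6921 (iv F22223)) (tt N3968 F17059) (tt N5366 F17060) (tt N3961 (iv D5450)) (tt N6929 D7022) (tt N5372 F17061))
theorem Q5383 : ∀ i, i < 5383 → P i := stepQ 5382 Q5382 (allL N5382 (tt N5550 (iv F17608)) (tt N3962 F17062) (tt N6922 (iv F22228)) (tt N3969 F17063) (tt N5369 F17064) (tt N6930 D7023) (tt N3961 (iv D5451)) (tt N6931 D7024))
theorem Q5384 : ∀ i, i < 5384 → P i := stepQ 5383 Q5383 (allL N5383 (tt N3978 F17065) (tt N6932 D7025) (tt N3964 F17066) (tt N3971 F17067) (tt N4739 F17068) (tt N3962 (iv D5452)) (tt N5383 F17069) (tt N4165 (iv F17070)))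
theorem Q5385 : ∀ i, i < 5385 → P i := stepQ 5384 Q5384 (allL N5384 (tt N3979 F17071) (tt N6931 (iv F22256)) (tt N3965 F17072) (tt N6933 D7026) (tt N5379 F17073) (tt N4165 F17074) (tt N5385 (iv F17079)) (tt N3962 (iv D5453)))
theorem Q5386 : ∀ i, i < 5386 → P i := stepQ 5385 Q5385 (allL N5385 (tt N3980 F17075) (tt N6926 (iv F22244)) (tt N5379 F17076) (tt N6934 D7027) (tt N3965 F17077) (tt N4164 F17078) (tt N5384 F17079) (tt N3963 (iv D5454)))
theorem Q5387 : ∀ i, i < 5387 → P i := stepQ 5386 Q5386 (allL N5386 (tt N3968 F17080) (tt N4400 F17081) (tt N4429 F17082) (tt N5544 (iv F17596)) (tt N5409 (iv F17155)) (tt N3966 (iv D5455)) (tt N6935 D7028) (tt N5386 F17083))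
theorem Q5388 : ∀ i, i < 5388 → P i := stepQ 5387 Q5387 (allL N5387 (tt N3969 F17084) (tt N3981 F17085) (tt N6411 (iv F20378)) (tt N5550 (iv F17610)) (tt N5539 (iv F17585)) (tt N6936 D7029) (tt N3966 (iv D5456)) (tt N6937 D7030))
theorem Q5389 : ∀ i, i < 5389 → P i := stepQ 5388 Q5388 (allL N5388 (tt N5539 (iv F17582)) (tt N3970 F17086) (tt N4894 F17087) (tt N5364 F17088) (tt N3969 F17089) (tt N6938 D7031) (tt N3967 (iv D5457)) (tt N6250 (iv F19802)))
theorem Q5390 : ∀ i, i < 5390 → P i := stepQ 5389 Q5389 (allL N5389 (tt N6935 (iv F22274)) (tt N5389 F17090) (tt N5413 (iv F17169)) (tt N6929 (iv F22252)) (tt N5415 (iv F17177)) (tt N6939 D7032) (tt N3968 (iv D5458)) (tt N6940 D7033))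
theorem Q5391 : ∀ i, i < 5391 → P i := stepQ 5390 Q5390 (allL N5390 (tt N6936 (iv F22277)) (tt N6941 D7034) (tt N6412 (iv F20380)) (tt N6930 (iv F22254)) (tt N6938 (iv F22284)) (tt N3969 (iv D5459)) (tt N6939 (iv F22285)) (tt N6942 D7035))
theorem Q5392 : ∀ i, i < 5392 → P i := stepQ 5391 Q5391 (allL N5391 (tt N6937 (iv F22278)) (tt N3972 F17091) (tt N6413 (iv F20382)) (tt N6943 D7036) (tt N6250 (iv F19800)) (tt N6942 (iv F22289)) (tt N5391 F17092) (tt N3969 (iv D5460)))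
theorem Q5393 : ∀ i, i < 5393 → P i := stepQ 5392 Q5392 (allL N5392 (tt N3984 F17093) (tt N6944 D7037) (tt N3973 F17094) (tt N5378 F17095) (tt N3971 F17096) (tt N3970 (iv D5461)) (tt N5392 F17097) (tt N6093 (iv F19302)))
theorem Q5394 : ∀ i, i < 5394 → P i := stepQ 5393 Q5393 (allL N5393 (tt N6945 D7038) (tt N3971 (iv D5462)) (tt N6946 D7039) (tt N6932 (iv F22261)) (tt N6944 (iv F22294)) (tt N6941 (iv F22288)) (tt N5393 F17098) (tt N6947 D7040))
theorem Q5395 : ∀ i, i < 5395 → P i := stepQ 5394 Q5394 (allL N5394 (tt N3986 F17099) (tt N6947 (iv F22302)) (tt N3975 F17100) (tt N6948 D7041) (tt N6093 (iv F19300)) (tt N3972 F17101) (tt N4636 (iv F17102)) (tt N3971 (iv D5463)))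
theorem Q5396 : ∀ i, i < 5396 → P i := stepQ 5395 Q5395 (allL N5395 (tt N3987 F17103) (tt N6943 (iv F22291)) (tt N5404 (iv F17133)) (tt N3972 (iv D5464)) (tt N6949 D7042) (tt N6948 (iv F22306)) (tt N5395 F17104) (tt N6933 (iv F22267)))
theorem Q5397 : ∀ i, i < 5397 → P i := stepQ 5396 Q5396 (allL N5396 (tt N5464 (iv F17319)) (tt N3973 (iv D5465)) (tt N6950 D7043) (tt N5396 F17105) (tt N3974 F17106) (tt N5613 (iv F17810)) (tt N5396 F17107) (tt N6038 (iv F19176)))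
theorem Q5398 : ∀ i, i < 5398 → P i := stepQ 5397 Q5397 (allL N5397 (tt N5465 (iv F17324)) (tt N6946 (iv F22299)) (tt N3974 (iv D5466)) (tt N5027 F17108) (tt N6950 (iv F22312)) (tt N5611 (iv F17804)) (tt N5397 F17109) (tt N6951 D7044))
theorem Q5399 : ∀ i, i < 5399 → P i := stepQ 5398 Q5398 (allL N5398 (tt N5466 (iv F17326)) (tt N3975 F17110) (tt N6951 (iv F22314)) (tt N4481 F17111) (tt N6038 (iv F19175)) (tt N5614 (iv F17813)) (tt N4635 (iv F17112)) (tt N3974 (iv D5467)))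
theorem Q5400 : ∀ i, i < 5400 → P i := stepQ 5399 Q5399 (allL N5399 (tt N6933 (iv F22265)) (tt N4055 F17113) (tt N5405 (iv F17137)) (tt N3979 (iv D5468)) (tt N4592 (iv F17116)) (tt N4166 F17114) (tt N5400 (iv F17119)) (tt N3987 F17115))
theorem Q5401 : ∀ i, i < 5401 → P i := stepQ 5400 Q5400 (allL N5400 (tt N6934 (iv F22269)) (tt N4154 F17117) (tt N4652 F17121) (tt N3980 (iv D5469)) (tt N5505 (iv F17477)) (tt N4163 F17118) (tt N5399 F17119) (tt N5400 F17120))
theorem Q5402 : ∀ i, i < 5402 → P i := stepQ 5401 Q5401 (allL N5401 (tt N3982 F17122) (tt N6952 D7045) (tt N3991 F17123) (tt N5577 (iv F17699)) (tt N5571 (iv F17679)) (tt N3981 (iv D5470)) (tt N5808 (iv F18400)) (tt N4021 (iv F17124)))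
theorem Q5403 : ∀ i, i < 5403 → P i := stepQ 5402 Q5402 (allL N5402 (tt N3983 F17125) (tt N6937 (iv F22279)) (tt N3992 F17126) (tt N4029 (iv F17129)) (tt N5572 (iv F17684)) (tt N4021 F17127) (tt N5402 F17128) (tt N3981 (iv D5471)))
theorem Q5404 : ∀ i, i < 5404 → P i := stepQ 5403 Q5403 (allL N5403 (tt N6953 D7046) (tt N3984 (iv D5472)) (tt N5407 (iv F17147)) (tt N4742 F17130) (tt N3985 F17131) (tt N5615 (iv F17816)) (tt N5403 F17132) (tt N6092 (iv F19298)))
theorem Q5405 : ∀ i, i < 5405 → P i := stepQ 5404 Q5404 (allL N5404 (tt N3985 (iv D5473)) (tt N6945 (iv F22296)) (tt N5395 F17133) (tt N4169 F17134) (tt N6953 (iv F22319)) (tt N5637 (iv F17875)) (tt N5404 F17135) (tt N6954 D7047))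
theorem Q5406 : ∀ i, i < 5406 → P i := stepQ 5405 Q5405 (allL N5405 (tt N6954 (iv F22321)) (tt N3986 F17136) (tt N5399 F17137) (tt N4052 F17138) (tt N6092 (iv F19296)) (tt N4042 F17139) (tt N4652 (iv F17140)) (tt N3985 (iv D5474)))
theorem Q5407 : ∀ i, i < 5407 → P i := stepQ 5406 Q5406 (allL N5406 (tt N6948 (iv F22304)) (tt N4052 F17141) (tt N4185 F17142) (tt N3986 (iv D5475)) (tt N6955 D7048) (tt N3987 F17143) (tt N4375 F17144) (tt N4166 F17145))
theorem Q5408 : ∀ i, i < 5408 → P i := stepQ 5407 Q5407 (allL N5407 (tt N6949 (iv F22309)) (tt N4054 F17146) (tt N5403 F17147) (tt N6252 (iv F19809)) (tt N3987 (iv D5476)) (tt N6955 (iv F22328)) (tt N5407 F17148) (tt N4592 F17149))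
theorem Q5409 : ∀ i, i < 5409 → P i := stepQ 5408 Q5408 (allL N5408 (tt N3993 F17150) (tt N6956 D7049) (tt N5571 (iv F17677)) (tt N5768 (iv F18275)) (tt N3991 F17151) (tt N3988 (iv D5477)) (tt N5908 (iv F18737)) (tt N4022 F17152))
theorem Q5410 : ∀ i, i < 5410 → P i := stepQ 5409 Q5409 (allL N5409 (tt N3997 F17153) (tt N4398 F17154) (tt N3989 (iv D5478)) (tt N4091 (iv F17158)) (tt N5386 F17155) (tt N4092 F17156) (tt N6957 D7050) (tt N5409 F17157))
theorem Q5411 : ∀ i, i < 5411 → P i := stepQ 5410 Q5410 (allL N5410 (tt N3998 F17159) (tt N3990 F17160) (tt N6957 (iv F22335)) (tt N4162 F17161) (tt N5907 (iv F18732)) (tt N6958 D7051) (tt N3989 (iv D5479)) (tt N6284 (iv F19918)))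
theorem Q5412 : ∀ i, i < 5412 → P i := stepQ 5411 Q5411 (allL N5411 (tt N3994 F17162) (tt N6959 D7052) (tt N5808 (iv F18397)) (tt N4117 F17163) (tt N5908 (iv F18736)) (tt N3990 (iv D5480)) (tt N3991 F17164) (tt N4018 F17165))
theorem Q5413 : ∀ i, i < 5413 → P i := stepQ 5412 Q5412 (allL N5412 (tt N5502 (iv F17463)) (tt N3991 (iv D5481)) (tt N6960 D7053) (tt N4110 F17166) (tt N6956 (iv F22331)) (tt N6428 (iv F20447)) (tt N6959 (iv F22341)) (tt N4013 F17167))
theorem Q5414 : ∀ i, i < 5414 → P i := stepQ 5413 Q5413 (allL N5413 (tt N5907 (iv F18729)) (tt N3996 F17168) (tt N5389 F17169) (tt N6034 (iv F19171)) (tt N3998 F17170) (tt N6961 D7054) (tt N3995 (iv D5482)) (tt N6962 D7055))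
theorem Q5415 : ∀ i, i < 5415 → P i := stepQ 5414 Q5414 (allL N5414 (tt N4000 F17171) (tt N6962 (iv F22347)) (tt N5414 F17172) (tt N6963 D7056) (tt N3999 F17173) (tt N5514 (iv F17519)) (tt N5414 F17174) (tt N3996 (iv D5483)))
theorem Q5416 : ∀ i, i < 5416 → P i := stepQ 5415 Q5415 (allL N5415 (tt N6957 (iv F22333)) (tt N5415 F17175) (tt N3998 F17176) (tt N6909 (iv F22184)) (tt N5389 F17177) (tt N6964 D7057) (tt N3997 (iv D5484)) (tt N6965 D7058))
theorem Q5417 : ∀ i, i < 5417 → P i := stepQ 5416 Q5416 (allL N5416 (tt N6958 (iv F22338)) (tt N5517 (iv F17528)) (tt N6964 (iv F22353)) (tt N4180 F17178) (tt N6961 (iv F22345)) (tt N3998 (iv D5485)) (tt N6430 (iv F20456)) (tt N6966 D7059))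
theorem Q5418 : ∀ i, i < 5418 → P i := stepQ 5417 Q5417 (allL N5417 (tt N6284 (iv F19915)) (tt N3999 F17179) (tt N6965 (iv F22357)) (tt N6312 (iv F20014)) (tt N6962 (iv F22349)) (tt N6966 (iv F22360)) (tt N5417 F17180) (tt N3998 (iv D5486)))
theorem Q5419 : ∀ i, i < 5419 → P i := stepQ 5418 Q5418 (allL N5418 (tt N6963 (iv F22351)) (tt N5491 (iv F17418)) (tt N6967 D7060) (tt N4000 (iv D5487)) (tt N6321 (iv F20044)) (tt N5522 (iv F17545)) (tt N5418 F17181) (tt N5485 F17396))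
theorem Q5420 : ∀ i, i < 5420 → P i := stepQ 5419 Q5419 (allL N5419 (tt N5655 (iv F17931)) (tt N6497 (iv F20704)) (tt N4004 F17182) (tt N6499 (iv F20715)) (tt N4002 F17183) (tt N4001 (iv D5488)) (tt N6968 D7061) (tt N6969 D7062))
theorem Q5421 : ∀ i, i < 5421 → P i := stepQ 5420 Q5420 (allL N5420 (tt N5656 (iv F17934)) (tt N4217 F17184) (tt N4005 F17185) (tt N6970 D7063) (tt N4003 F17186) (tt N6969 (iv F22371)) (tt N6971 D7064) (tt N4001 (iv D5489)))
theorem Q5422 : ∀ i, i < 5422 → P i := stepQ 5421 Q5421 (allL N5421 (tt N4367 F17187) (tt N4002 (iv D5490)) (tt N5421 F17188) (tt N4083 F17189) (tt N6497 (iv F20707)) (tt N4082 F17190) (tt N6972 D7065) (tt N4348 (iv F17191)))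
theorem Q5423 : ∀ i, i < 5423 → P i := stepQ 5422 Q5422 (allL N5422 (tt N5657 (iv F17938)) (tt N6972 (iv F22378)) (tt N4006 F17192) (tt N6441 (iv F20499)) (tt N6968 (iv F22365)) (tt N4086 F17193) (tt N4002 (iv D5491)) (tt N6973 D7066))
theorem Q5424 : ∀ i, i < 5424 → P i := stepQ 5423 Q5423 (allL N5423 (tt N4609 F17194) (tt N4348 F17195) (tt N4007 F17196) (tt N4339 (iv F17198)) (tt N6969 (iv F22370)) (tt N4003 F17197) (tt N6974 D7067) (tt N4002 (iv D5492)))
theorem Q5425 : ∀ i, i < 5425 → P i := stepQ 5424 Q5424 (allL N5424 (tt N4571 F17199) (tt N4219 F17200) (tt N4324 (iv F17202)) (tt N4003 (iv D5493)) (tt N6975 D7068) (tt N4339 F17201) (tt N6976 D7069) (tt N6443 (iv F20512)))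
theorem Q5426 : ∀ i, i < 5426 → P i := stepQ 5425 Q5425 (allL N5425 (tt N5658 (iv F17941)) (tt N4220 F17203) (tt N4009 F17204) (tt N6976 (iv F22394)) (tt N6971 (iv F22375)) (tt N6977 D7070) (tt N4003 (iv D5494)) (tt N4089 F17205))
theorem Q5427 : ∀ i, i < 5427 → P i := stepQ 5426 Q5426 (allL N5426 (tt N5659 (iv F17945)) (tt N5426 F17206) (tt N6968 (iv F22364)) (tt N5426 F17207) (tt N4006 F17208) (tt N4090 F17209) (tt N4004 (iv D5495)) (tt N6978 D7071))
theorem Q5428 : ∀ i, i < 5428 → P i := stepQ 5427 Q5427 (allL N5427 (tt N5660 (iv F17950)) (tt N5427 F17210) (tt N6969 (iv F22369)) (tt N6979 D7072) (tt N4007 F17211) (tt N4005 F17212) (tt N6980 D7073) (tt N4004 (iv D5496)))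
theorem Q5429 : ∀ i, i < 5429 → P i := stepQ 5428 Q5428 (allL N5428 (tt N5661 (iv F17954)) (tt N4014 F17213) (tt N6981 D7074) (tt N4005 (iv D5497)) (tt N6982 D7075) (tt N6979 (iv F22401)) (tt N6983 D7076) (tt N5428 F17214))
theorem Q5430 : ∀ i, i < 5430 → P i := stepQ 5429 Q5429 (allL N5429 (tt N5662 (iv F17957)) (tt N4015 F17215) (tt N6971 (iv F22374)) (tt N6983 (iv F22411)) (tt N4009 F17216) (tt N6984 D7077) (tt N4005 (iv D5498)) (tt N4093 F17217))
theorem Q5431 : ∀ i, i < 5431 → P i := stepQ 5430 Q5430 (allL N5430 (tt N5663 (iv F17961)) (tt N5430 F17218) (tt N6973 (iv F22381)) (tt N6679 (iv F21322)) (tt N6978 (iv F22398)) (tt N4094 F17219) (tt N6985 D7078) (tt N4006 (iv D5499)))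
theorem Q5432 : ∀ i, i < 5432 → P i := stepQ 5431 Q5431 (allL N5431 (tt N4601 F17220) (tt N5431 F17221) (tt N4335 F17222) (tt N4007 (iv D5500)) (tt N5928 (iv F18801)) (tt N4008 F17223) (tt N6986 D7079) (tt N4010 F17224))
theorem Q5433 : ∀ i, i < 5433 → P i := stepQ 5432 Q5432 (allL N5432 (tt N5664 (iv F17964)) (tt N5432 F17225) (tt N6974 (iv F22385)) (tt N6986 (iv F22419)) (tt N6980 (iv F22404)) (tt N6987 D7080) (tt N4007 (iv D5501)) (tt N6985 (iv F22415)))
theorem Q5434 : ∀ i, i < 5434 → P i := stepQ 5433 Q5433 (allL N5433 (tt N4563 F17226) (tt N4318 (iv F17230)) (tt N4008 (iv D5502)) (tt N4324 F17227) (tt N5930 (iv F18812)) (tt N4335 F17228) (tt N6988 D7081) (tt N4011 F17229))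
theorem Q5435 : ∀ i, i < 5435 → P i := stepQ 5434 Q5434 (allL N5434 (tt N5648 (iv F17906)) (tt N4017 F17231) (tt N5930 (iv F18810)) (tt N6982 (iv F22408)) (tt N4008 (iv D5503)) (tt N5928 (iv F18802)) (tt N6989 D7082) (tt N4012 F17232))
theorem Q5436 : ∀ i, i < 5436 → P i := stepQ 5435 Q5435 (allL N5435 (tt N5649 (iv F17909)) (tt N4018 F17233) (tt N6988 (iv F22423)) (tt N4009 F17234) (tt N6989 (iv F22426)) (tt N6990 D7083) (tt N4008 (iv D5504)) (tt N6959 (iv F22342)))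
theorem Q5437 : ∀ i, i < 5437 → P i := stepQ 5436 Q5436 (allL N5436 (tt N5665 (iv F17966)) (tt N6314 (iv F20020)) (tt N6977 (iv F22395)) (tt N6990 (iv F22427)) (tt N6984 (iv F22412)) (tt N4009 (iv D5505)) (tt N6987 (iv F22420)) (tt N4100 F17235))
theorem Q5438 : ∀ i, i < 5438 → P i := stepQ 5437 Q5437 (allL N5437 (tt N4314 F17236) (tt N4011 (iv D5506)) (tt N4019 F17237) (tt N5584 (iv F17727)) (tt N5599 (iv F17776)) (tt N4312 F17238) (tt N6991 D7084) (tt N4318 F17239))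
theorem Q5439 : ∀ i, i < 5439 → P i := stepQ 5438 Q5438 (allL N5438 (tt N5629 (iv F17852)) (tt N6991 (iv F22429)) (tt N4013 F17240) (tt N5922 (iv F18783)) (tt N5929 (iv F18806)) (tt N6649 (iv F21214)) (tt N4011 (iv D5507)) (tt N6960 (iv F22343)))
theorem Q5440 : ∀ i, i < 5440 → P i := stepQ 5439 Q5439 (allL N5439 (tt N5630 (iv F17854)) (tt N4022 F17241) (tt N5929 (iv F18804)) (tt N5439 F17242) (tt N4013 F17243) (tt N6650 (iv F21221)) (tt N4012 (iv D5508)) (tt N6956 (iv F22332)))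
theorem Q5441 : ∀ i, i < 5441 → P i := stepQ 5440 Q5440 (allL N5440 (tt N4034 F17244) (tt N6982 (iv F22407)) (tt N5440 F17245) (tt N4017 F17246) (tt N4014 (iv D5509)) (tt N5440 F17247) (tt N6992 D7085) (tt N5440 F17248))
theorem Q5442 : ∀ i, i < 5442 → P i := stepQ 5441 Q5441 (allL N5441 (tt N4035 F17249) (tt N6983 (iv F22410)) (tt N5441 F17250) (tt N4015 F17251) (tt N6992 (iv F22434)) (tt N6315 (iv F20024)) (tt N4014 (iv D5510)) (tt N6993 D7086))
theorem Q5443 : ∀ i, i < 5443 → P i := stepQ 5442 Q5442 (allL N5442 (tt N4306 (iv F17255)) (tt N4016 (iv D5511)) (tt N4318 F17252) (tt N4228 F17253) (tt N6086 (iv F19278)) (tt N4304 (iv F17256)) (tt N6283 (iv F19914)) (tt N4019 F17254))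
theorem Q5444 : ∀ i, i < 5444 → P i := stepQ 5443 Q5443 (allL N5443 (tt N4037 F17257) (tt N6086 (iv F19276)) (tt N4017 F17258) (tt N5443 F17259) (tt N4016 (iv D5512)) (tt N5443 F17260) (tt N5911 (iv F18750)) (tt N4020 F17261))
theorem Q5445 : ∀ i, i < 5445 → P i := stepQ 5444 Q5444 (allL N5444 (tt N4038 F17262) (tt N6989 (iv F22425)) (tt N5911 (iv F18746)) (tt N6992 (iv F22433)) (tt N4018 F17263) (tt N5909 (iv F18742)) (tt N4017 (iv D5513)) (tt N5908 (iv F18738)))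
theorem Q5446 : ∀ i, i < 5446 → P i := stepQ 5445 Q5445 (allL N5445 (tt N4019 (iv D5514)) (tt N4039 F17264) (tt N4314 F17265) (tt N4023 F17266) (tt N6994 D7087) (tt N4297 (iv F17268)) (tt N6995 D7088) (tt N4306 F17267))
theorem Q5447 : ∀ i, i < 5447 → P i := stepQ 5446 Q5446 (allL N5446 (tt N6994 (iv F22439)) (tt N4020 F17269) (tt N5599 (iv F17774)) (tt N6996 D7089) (tt N4019 (iv D5515)) (tt N5598 F17772) (tt N6997 D7090) (tt N6086 (iv F19280)))
theorem Q5448 : ∀ i, i < 5448 → P i := stepQ 5447 Q5447 (allL N5447 (tt N4297 F17270) (tt N5447 F17271) (tt N4312 F17272) (tt N4025 F17273) (tt N5598 (iv F17770)) (tt N4019 (iv D5516)) (tt N6998 D7091) (tt N4304 F17274))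
theorem Q5449 : ∀ i, i < 5449 → P i := stepQ 5448 Q5448 (allL N5448 (tt N6995 (iv F22444)) (tt N4021 F17275) (tt N6991 (iv F22430)) (tt N4026 F17276) (tt N6997 (iv F22454)) (tt N6999 D7092) (tt N4019 (iv D5517)) (tt N6952 (iv F22316)))
theorem Q5450 : ∀ i, i < 5450 → P i := stepQ 5449 Q5449 (allL N5449 (tt N4043 F17277) (tt N6996 (iv F22448)) (tt N5449 F17278) (tt N4020 (iv D5518)) (tt N4027 F17279) (tt N5449 F17280) (tt N7000 D7093) (tt N5449 F17281))
theorem Q5451 : ∀ i, i < 5451 → P i := stepQ 5450 Q5450 (allL N5450 (tt N4044 F17282) (tt N6997 (iv F22453)) (tt N4022 F17283) (tt N7000 (iv F22462)) (tt N4021 F17284) (tt N5572 (iv F17685)) (tt N4020 (iv D5519)) (tt N5571 (iv F17681)))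
theorem Q5452 : ∀ i, i < 5452 → P i := stepQ 5451 Q5451 (allL N5451 (tt N4024 F17285) (tt N4045 F17286) (tt N6462 (iv F20579)) (tt N7001 D7094) (tt N4023 (iv D5520)) (tt N7002 D7095) (tt N7003 D7096) (tt N4231 F17287))
theorem Q5453 : ∀ i, i < 5453 → P i := stepQ 5452 Q5452 (allL N5452 (tt N4025 F17288) (tt N4287 (iv F17291)) (tt N6463 (iv F20582)) (tt N4297 F17289) (tt N7002 (iv F22470)) (tt N4023 (iv D5521)) (tt N7004 D7097) (tt N4232 F17290))
theorem Q5454 : ∀ i, i < 5454 → P i := stepQ 5453 Q5453 (allL N5453 (tt N4026 F17292) (tt N4047 F17293) (tt N6464 (iv F20588)) (tt N6995 (iv F22447)) (tt N7003 (iv F22475)) (tt N7005 D7098) (tt N4023 (iv D5522)) (tt N5632 (iv F17864)))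
theorem Q5455 : ∀ i, i < 5455 → P i := stepQ 5454 Q5454 (allL N5454 (tt N7001 (iv F22466)) (tt N4027 F17294) (tt N7006 D7099) (tt N4024 (iv D5523)) (tt N6996 (iv F22450)) (tt N7007 D7100) (tt N7008 D7101) (tt N5454 F17295))
theorem Q5456 : ∀ i, i < 5456 → P i := stepQ 5455 Q5455 (allL N5455 (tt N7002 (iv F22469)) (tt N5455 F17296) (tt N6466 (iv F20590)) (tt N7007 (iv F22488)) (tt N4025 F17297) (tt N4024 (iv D5524)) (tt N7009 D7102) (tt N4234 F17298))
theorem Q5457 : ∀ i, i < 5457 → P i := stepQ 5456 Q5456 (allL N5456 (tt N7003 (iv F22473)) (tt N4028 F17299) (tt N6467 (iv F20594)) (tt N7008 (iv F22492)) (tt N4026 F17300) (tt N7010 D7103) (tt N4024 (iv D5525)) (tt N4550 F17301))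
theorem Q5458 : ∀ i, i < 5458 → P i := stepQ 5457 Q5457 (allL N5457 (tt N7004 (iv F22477)) (tt N5457 F17302) (tt N6468 (iv F20597)) (tt N6998 (iv F22458)) (tt N7009 (iv F22494)) (tt N7011 D7104) (tt N4025 (iv D5526)) (tt N7012 D7105))
theorem Q5459 : ∀ i, i < 5459 → P i := stepQ 5458 Q5458 (allL N5458 (tt N7005 (iv F22480)) (tt N7013 D7106) (tt N6469 (iv F20598)) (tt N6999 (iv F22459)) (tt N7010 (iv F22495)) (tt N4026 (iv D5527)) (tt N7011 (iv F22497)) (tt N7014 D7107))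
theorem Q5460 : ∀ i, i < 5460 → P i := stepQ 5459 Q5459 (allL N5459 (tt N5632 (iv F17861)) (tt N4030 F17303) (tt N6470 (iv F20600)) (tt N5620 (iv F17832)) (tt N4550 F17304) (tt N7014 (iv F22502)) (tt N4237 F17305) (tt N4026 (iv D5528)))
theorem Q5461 : ∀ i, i < 5461 → P i := stepQ 5460 Q5460 (allL N5460 (tt N4053 F17306) (tt N7008 (iv F22491)) (tt N5460 F17307) (tt N4028 F17308) (tt N7000 (iv F22463)) (tt N7015 D7108) (tt N4027 (iv D5529)) (tt N7016 D7109))
theorem Q5462 : ∀ i, i < 5462 → P i := stepQ 5461 Q5461 (allL N5461 (tt N4054 F17309) (tt N7017 D7110) (tt N4031 F17310) (tt N7015 (iv F22505)) (tt N4029 F17311) (tt N4028 (iv D5530)) (tt N5461 F17312) (tt N4551 F17313))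
theorem Q5463 : ∀ i, i < 5463 → P i := stepQ 5462 Q5462 (allL N5462 (tt N6943 (iv F22290)) (tt N4029 (iv D5531)) (tt N7018 D7111) (tt N6937 F22281) (tt N7017 (iv F22515)) (tt N7013 (iv F22500)) (tt N5462 F17314) (tt N7019 D7112))
theorem Q5464 : ∀ i, i < 5464 → P i := stepQ 5463 Q5463 (allL N5463 (tt N4055 F17315) (tt N7019 (iv F22520)) (tt N4033 F17316) (tt N5578 (iv F17704)) (tt N4551 F17317) (tt N4030 F17318) (tt N5592 (iv F17755)) (tt N4029 (iv D5532)))
theorem Q5465 : ∀ i, i < 5465 → P i := stepQ 5464 Q5464 (allL N5464 (tt N5396 F17319) (tt N4031 (iv D5533)) (tt N7020 D7113) (tt N5464 F17320) (tt N4032 F17321) (tt N6476 (iv F20621)) (tt N5464 F17322) (tt N4552 F17323))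
theorem Q5466 : ∀ i, i < 5466 → P i := stepQ 5465 Q5465 (allL N5465 (tt N5397 F17324) (tt N7018 (iv F22518)) (tt N4032 (iv D5534)) (tt N5955 (iv F18910)) (tt N7020 (iv F22523)) (tt N5953 F18903) (tt N5465 F17325) (tt N7021 D7114))
theorem Q5467 : ∀ i, i < 5467 → P i := stepQ 5466 Q5466 (allL N5466 (tt N5398 F17326) (tt N4033 F17327) (tt N7021 (iv F22527)) (tt N4141 F17328) (tt N4552 F17329) (tt N6477 (iv F20628)) (tt N6124 (iv F19398)) (tt N4032 (iv D5535)))
theorem Q5468 : ∀ i, i < 5468 → P i := stepQ 5467 Q5467 (allL N5467 (tt N6992 (iv F22431)) (tt N5653 (iv F17923)) (tt N5467 F17330) (tt N4038 F17331) (tt N4035 F17332) (tt N5491 (iv F17422)) (tt N4034 (iv D5536)) (tt N5490 (iv F17417)))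
theorem Q5469 : ∀ i, i < 5469 → P i := stepQ 5468 Q5468 (allL N5468 (tt N6993 (iv F22435)) (tt N4734 F17333) (tt N5468 F17334) (tt N4144 F17335) (tt N5490 (iv F17415)) (tt N5476 (iv F17364)) (tt N5468 F17336) (tt N4035 (iv D5537)))
theorem Q5470 : ∀ i, i < 5470 → P i := stepQ 5469 Q5469 (allL N5469 (tt N4036 (iv D5538)) (tt N4306 F17337) (tt N4545 F17338) (tt N4241 F17339) (tt N6377 (iv F20261)) (tt N4303 F17340) (tt N5822 (iv F18453)) (tt N4039 F17341))
theorem Q5471 : ∀ i, i < 5471 → P i := stepQ 5470 Q5470 (allL N5470 (tt N4040 F17342) (tt N6994 (iv F22440)) (tt N5493 (iv F17431)) (tt N7022 D7115) (tt N4039 (iv D5539)) (tt N5492 F17428) (tt N7023 D7116) (tt N6377 (iv F20263)))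
theorem Q5472 : ∀ i, i < 5472 → P i := stepQ 5471 Q5471 (allL N5471 (tt N4041 F17343) (tt N4294 F17344) (tt N4187 F17345) (tt N4046 F17346) (tt N5492 (iv F17426)) (tt N4039 (iv D5540)) (tt N7024 D7117) (tt N4303 F17347))
theorem Q5473 : ∀ i, i < 5473 → P i := stepQ 5472 Q5472 (allL N5472 (tt N4042 F17348) (tt N6995 (iv F22445)) (tt N5625 (iv F17845)) (tt N4047 F17349) (tt N7023 (iv F22533)) (tt N6954 (iv F22324)) (tt N4039 (iv D5541)) (tt N5637 (iv F17877)))
theorem Q5474 : ∀ i, i < 5474 → P i := stepQ 5473 Q5473 (allL N5473 (tt N7022 (iv F22529)) (tt N4043 F17350) (tt N5484 (iv F17390)) (tt N4040 (iv D5542)) (tt N4048 F17351) (tt N5483 F17388) (tt N7025 D7118) (tt N5473 F17352))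
theorem Q5475 : ∀ i, i < 5475 → P i := stepQ 5474 Q5474 (allL N5474 (tt N7023 (iv F22532)) (tt N4044 F17353) (tt N5504 (iv F17471)) (tt N7025 (iv F22541)) (tt N4042 F17354) (tt N6092 (iv F19297)) (tt N4040 (iv D5543)) (tt N5615 (iv F17818)))
theorem Q5476 : ∀ i, i < 5476 → P i := stepQ 5475 Q5475 (allL N5475 (tt N7024 (iv F22534)) (tt N5475 F17355) (tt N4163 F17356) (tt N4051 F17357) (tt N5503 (iv F17468)) (tt N4652 F17358) (tt N4041 (iv D5544)) (tt N5475 F17359))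
theorem Q5477 : ∀ i, i < 5477 → P i := stepQ 5476 Q5476 (allL N5476 (tt N7000 (iv F22460)) (tt N7025 (iv F22540)) (tt N5476 F17360) (tt N4044 F17361) (tt N4053 F17362) (tt N5468 F17364) (tt N4043 (iv D5545)) (tt N4786 (iv F17363)))
theorem Q5478 : ∀ i, i < 5478 → P i := stepQ 5477 Q5477 (allL N5477 (tt N4048 F17365) (tt N7001 (iv F22467)) (tt N7026 D7119) (tt N4045 (iv D5546)) (tt N7022 (iv F22530)) (tt N7027 D7120) (tt N7028 D7121) (tt N5477 F17366))
theorem Q5479 : ∀ i, i < 5479 → P i := stepQ 5478 Q5478 (allL N5478 (tt N4049 F17367) (tt N7029 D7122) (tt N4057 F17368) (tt N7027 (iv F22551)) (tt N4046 F17369) (tt N4045 (iv D5547)) (tt N7030 D7123) (tt N4244 F17370))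
theorem Q5480 : ∀ i, i < 5480 → P i := stepQ 5479 Q5479 (allL N5479 (tt N4050 F17371) (tt N7003 (iv F22474)) (tt N4058 F17372) (tt N7028 (iv F22555)) (tt N4047 F17373) (tt N7031 D7124) (tt N4045 (iv D5548)) (tt N4591 F17374))
theorem Q5481 : ∀ i, i < 5481 → P i := stepQ 5480 Q5480 (allL N5480 (tt N5480 F17375) (tt N4046 (iv D5549)) (tt N4285 (iv F17379)) (tt N4294 F17376) (tt N7029 (iv F22558)) (tt N4287 F17377) (tt N7032 D7125) (tt N4245 F17378))
theorem Q5482 : ∀ i, i < 5482 → P i := stepQ 5481 Q5481 (allL N5481 (tt N4051 F17380) (tt N7032 (iv F22570)) (tt N4060 F17381) (tt N7024 (iv F22537)) (tt N7030 (iv F22564)) (tt N7033 D7126) (tt N4046 (iv D5550)) (tt N7034 D7127))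
theorem Q5483 : ∀ i, i < 5483 → P i := stepQ 5482 Q5482 (allL N5482 (tt N4052 F17382) (tt N7035 D7128) (tt N4061 F17383) (tt N6954 (iv F22323)) (tt N7031 (iv F22567)) (tt N4047 (iv D5551)) (tt N7033 (iv F22576)) (tt N4168 F17384))
theorem Q5484 : ∀ i, i < 5484 → P i := stepQ 5483 Q5483 (allL N5483 (tt N7026 (iv F22544)) (tt N5483 F17385) (tt N4048 (iv D5552)) (tt N4063 F17386) (tt N5484 (iv F17392)) (tt N5473 (iv F17388)) (tt N7036 D7129) (tt N5483 F17387))
theorem Q5485 : ∀ i, i < 5485 → P i := stepQ 5484 Q5484 (allL N5484 (tt N7027 (iv F22549)) (tt N5484 F17389) (tt N5473 F17390) (tt N4049 F17391) (tt N5483 F17392) (tt N4048 (iv D5553)) (tt N7037 D7130) (tt N5484 F17393))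
theorem Q5486 : ∀ i, i < 5486 → P i := stepQ 5485 Q5485 (allL N5485 (tt N7028 (iv F22554)) (tt N4053 F17394) (tt N7036 (iv F22585)) (tt N4050 F17395) (tt N7025 (iv F22542)) (tt N7038 D7131) (tt N4048 (iv D5554)) (tt N5418 (iv F17396)))
theorem Q5487 : ∀ i, i < 5487 → P i := stepQ 5486 Q5486 (allL N5486 (tt N7030 (iv F22562)) (tt N5486 F17397) (tt N4066 F17398) (tt N7037 (iv F22590)) (tt N4051 F17399) (tt N7039 D7132) (tt N4049 (iv D5555)) (tt N7040 D7133))
theorem Q5488 : ∀ i, i < 5488 → P i := stepQ 5487 Q5487 (allL N5487 (tt N7031 (iv F22565)) (tt N6955 (iv F22326)) (tt N4067 F17400) (tt N7038 (iv F22592)) (tt N4052 F17401) (tt N4050 (iv D5556)) (tt N7039 (iv F22596)) (tt N4077 F17402))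
theorem Q5489 : ∀ i, i < 5489 → P i := stepQ 5488 Q5488 (allL N5488 (tt N7033 (iv F22573)) (tt N4375 F17406) (tt N4068 F17403) (tt N4652 F17404) (tt N7039 (iv F22595)) (tt N4051 (iv D5557)) (tt N4052 F17405) (tt N4194 (iv F17407)))
theorem Q5490 : ∀ i, i < 5490 → P i := stepQ 5489 Q5489 (allL N5489 (tt N7034 (iv F22578)) (tt N5489 F17408) (tt N4069 F17409) (tt N5489 F17410) (tt N7040 (iv F22601)) (tt N4194 F17411) (tt N4248 F17412) (tt N4051 (iv D5558)))
theorem Q5491 : ∀ i, i < 5491 → P i := stepQ 5490 Q5490 (allL N5490 (tt N7015 (iv F22503)) (tt N6252 (iv F19807)) (tt N5490 F17413) (tt N4054 F17414) (tt N5468 F17415) (tt N4053 (iv D5559)) (tt N5490 F17416) (tt N5467 F17417))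
theorem Q5492 : ∀ i, i < 5492 → P i := stepQ 5491 Q5491 (allL N5491 (tt N7016 (iv F22509)) (tt N5418 F17418) (tt N5491 F17419) (tt N4465 F17420) (tt N4786 F17421) (tt N5467 F17422) (tt N5491 F17423) (tt N4053 (iv D5560)))
theorem Q5493 : ∀ i, i < 5493 → P i := stepQ 5492 Q5492 (allL N5492 (tt N4063 F17424) (tt N5287 F17425) (tt N4056 (iv D5561)) (tt N7026 (iv F22545)) (tt N5471 F17426) (tt N5470 (iv F17428)) (tt N7041 D7134) (tt N4832 F17427))
theorem Q5494 : ∀ i, i < 5494 → P i := stepQ 5493 Q5493 (allL N5493 (tt N4064 F17429) (tt N5284 F17430) (tt N5470 F17431) (tt N4057 F17432) (tt N4189 F17433) (tt N4056 (iv D5562)) (tt N7042 D7135) (tt N4830 F17434))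
theorem Q5495 : ∀ i, i < 5495 → P i := stepQ 5494 Q5494 (allL N5494 (tt N4065 F17435) (tt N5286 F17436) (tt N7041 (iv F22607)) (tt N4058 F17437) (tt N5623 (iv F17839)) (tt N7043 D7136) (tt N4056 (iv D5563)) (tt N5494 F17438))
theorem Q5496 : ∀ i, i < 5496 → P i := stepQ 5495 Q5495 (allL N5495 (tt N4072 F17439) (tt N4057 (iv D5564)) (tt N7044 D7137) (tt N5284 F17440) (tt N4059 F17441) (tt N5285 F17442) (tt N7045 D7138) (tt N4249 F17443))
theorem Q5497 : ∀ i, i < 5497 → P i := stepQ 5496 Q5496 (allL N5496 (tt N4066 F17444) (tt N7045 (iv F22627)) (tt N7030 (iv F22563)) (tt N7042 (iv F22613)) (tt N4060 F17445) (tt N7046 D7139) (tt N4057 (iv D5565)) (tt N7047 D7140))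
theorem Q5498 : ∀ i, i < 5498 → P i := stepQ 5497 Q5497 (allL N5497 (tt N4067 F17446) (tt N7048 D7141) (tt N7031 (iv F22566)) (tt N7043 (iv F22617)) (tt N4061 F17447) (tt N4058 (iv D5566)) (tt N7046 (iv F22633)) (tt N4171 F17448))
theorem Q5499 : ∀ i, i < 5499 → P i := stepQ 5498 Q5498 (allL N5498 (tt N4074 F17449) (tt N4285 F17450) (tt N4059 (iv D5567)) (tt N4284 F17451) (tt N7044 (iv F22623)) (tt N6491 (iv F20688)) (tt N7049 D7142) (tt N4251 F17452))
theorem Q5500 : ∀ i, i < 5500 → P i := stepQ 5499 Q5499 (allL N5499 (tt N4075 F17453) (tt N4060 F17454) (tt N7049 (iv F22644)) (tt N5643 (iv F17889)) (tt N7045 (iv F22629)) (tt N7050 D7143) (tt N4059 (iv D5568)) (tt N7051 D7144))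
theorem Q5501 : ∀ i, i < 5501 → P i := stepQ 5500 Q5500 (allL N5500 (tt N4068 F17455) (tt N7052 D7145) (tt N7033 (iv F22574)) (tt N5379 F17456) (tt N7046 (iv F22632)) (tt N4060 (iv D5569)) (tt N4061 F17457) (tt N4200 (iv F17458)))
theorem Q5502 : ∀ i, i < 5502 → P i := stepQ 5501 Q5501 (allL N5501 (tt N4069 F17459) (tt N7051 (iv F22648)) (tt N7034 (iv F22579)) (tt N4213 F17460) (tt N7047 (iv F22636)) (tt N4200 F17461) (tt N4254 F17462) (tt N4060 (iv D5570)))
theorem Q5503 : ∀ i, i < 5503 → P i := stepQ 5502 Q5502 (allL N5502 (tt N5412 F17463) (tt N4061 (iv D5571)) (tt N7053 D7146) (tt N5377 F17464) (tt N7048 (iv F22640)) (tt N6449 (iv F20530)) (tt N7052 (iv F22653)) (tt N4170 F17465))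
theorem Q5504 : ∀ i, i < 5504 → P i := stepQ 5503 Q5503 (allL N5503 (tt N7041 (iv F22605)) (tt N5503 F17466) (tt N4065 F17467) (tt N7036 (iv F22586)) (tt N5475 F17468) (tt N6172 (iv F19537)) (tt N4063 (iv D5572)) (tt N5503 F17469))
theorem Q5505 : ∀ i, i < 5505 → P i := stepQ 5504 Q5504 (allL N5504 (tt N7042 (iv F22610)) (tt N4077 F17470) (tt N5474 F17471) (tt N4066 F17472) (tt N4166 F17473) (tt N4592 (iv F17474)) (tt N4064 (iv D5573)) (tt N6955 (iv F22330)))
theorem Q5506 : ∀ i, i < 5506 → P i := stepQ 5505 Q5505 (allL N5505 (tt N7043 (iv F22616)) (tt N4333 F17475) (tt N6172 (iv F19536)) (tt N4067 F17476) (tt N5400 F17477) (tt N4065 (iv D5574)) (tt N4592 F17478) (tt N5505 F17479))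
theorem Q5507 : ∀ i, i < 5507 → P i := stepQ 5506 Q5506 (allL N5506 (tt N7046 (iv F22630)) (tt N4464 F17480) (tt N7039 (iv F22594)) (tt N4592 F17481) (tt N4068 F17482) (tt N4066 (iv D5575)) (tt N4067 F17483) (tt N4202 F17484))
theorem Q5508 : ∀ i, i < 5508 → P i := stepQ 5507 Q5507 (allL N5507 (tt N7047 (iv F22635)) (tt N4080 F17485) (tt N7040 (iv F22600)) (tt N7054 D7147) (tt N4069 F17486) (tt N4202 F17487) (tt N4256 F17488) (tt N4066 (iv D5576)))
theorem Q5509 : ∀ i, i < 5509 → P i := stepQ 5508 Q5508 (allL N5508 (tt N5284 F17489) (tt N4070 (iv D5577)) (tt N5788 (iv F18334)) (tt N4072 F17490) (tt N4191 F17491) (tt N5280 F17492) (tt N7055 D7148) (tt N5279 (iv F17493)))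
theorem Q5510 : ∀ i, i < 5510 → P i := stepQ 5509 Q5509 (allL N5509 (tt N4077 F17494) (tt N7055 (iv F22662)) (tt N4171 F17495) (tt N4073 F17496) (tt N4168 F17497) (tt N4591 F17498) (tt N4070 (iv D5578)) (tt N7031 (iv F22568)))
theorem Q5511 : ∀ i, i < 5511 → P i := stepQ 5510 Q5510 (allL N5510 (tt N4078 F17499) (tt N5279 F17500) (tt N4199 F17501) (tt N4261 F17502) (tt N4193 F17503) (tt N4071 F17504) (tt N7056 D7149) (tt N4070 (iv D5579)))
theorem Q5512 : ∀ i, i < 5512 → P i := stepQ 5511 Q5511 (allL N5511 (tt N4079 F17505) (tt N5301 F17506) (tt N4495 F17507) (tt N4262 F17508) (tt N4491 F17509) (tt N7057 D7150) (tt N4071 (iv D5580)) (tt N4660 F17510))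
theorem Q5513 : ∀ i, i < 5513 → P i := stepQ 5512 Q5512 (allL N5512 (tt N7044 (iv F22621)) (tt N5512 F17511) (tt N4072 (iv D5581)) (tt N5936 (iv F18831)) (tt N4074 F17512) (tt N5937 (iv F18836)) (tt N7058 D7151) (tt N4263 F17513))
theorem Q5514 : ∀ i, i < 5514 → P i := stepQ 5513 Q5513 (allL N5513 (tt N7045 (iv F22626)) (tt N4073 F17514) (tt N7058 (iv F22677)) (tt N7055 (iv F22663)) (tt N4075 F17515) (tt N7059 D7152) (tt N4072 (iv D5582)) (tt N7060 D7153))
theorem Q5515 : ∀ i, i < 5515 → P i := stepQ 5514 Q5514 (allL N5514 (tt N4080 F17516) (tt N7060 (iv F22681)) (tt N5514 F17517) (tt N7061 D7154) (tt N4076 F17518) (tt N5414 F17519) (tt N4265 F17520) (tt N4073 (iv D5583)))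
theorem Q5516 : ∀ i, i < 5516 → P i := stepQ 5515 Q5515 (allL N5515 (tt N4284 F17521) (tt N5515 F17522) (tt N4520 F17523) (tt N4074 (iv D5584)) (tt N5132 (iv F17525)) (tt N6493 (iv F20696)) (tt N7062 D7155) (tt N4283 F17524))
theorem Q5517 : ∀ i, i < 5517 → P i := stepQ 5516 Q5516 (allL N5516 (tt N7049 (iv F22642)) (tt N5516 F17526) (tt N4075 F17527) (tt N7062 (iv F22690)) (tt N7058 (iv F22678)) (tt N7063 D7156) (tt N4074 (iv D5585)) (tt N7064 D7157))
theorem Q5518 : ∀ i, i < 5518 → P i := stepQ 5517 Q5517 (allL N5517 (tt N7050 (iv F22646)) (tt N5416 F17528) (tt N7063 (iv F22692)) (tt N5641 (iv F17884)) (tt N7059 (iv F22680)) (tt N4075 (iv D5586)) (tt N6495 (iv F20700)) (tt N7065 D7158))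
theorem Q5519 : ∀ i, i < 5519 → P i := stepQ 5518 Q5518 (allL N5518 (tt N7051 (iv F22647)) (tt N4076 F17529) (tt N7064 (iv F22694)) (tt N7066 D7159) (tt N7060 (iv F22682)) (tt N7065 (iv F22697)) (tt N4269 F17530) (tt N4075 (iv D5587)))
theorem Q5520 : ∀ i, i < 5520 → P i := stepQ 5519 Q5519 (allL N5519 (tt N4081 F17531) (tt N7066 (iv F22699)) (tt N4746 (iv F17535)) (tt N4076 (iv D5588)) (tt N7067 D7160) (tt N4784 F17532) (tt N4270 F17533) (tt N4741 F17534))
theorem Q5521 : ∀ i, i < 5521 → P i := stepQ 5520 Q5520 (allL N5520 (tt N7056 (iv F22665)) (tt N4837 F17536) (tt N4202 F17537) (tt N4276 F17538) (tt N4194 F17539) (tt N7040 (iv F22602)) (tt N4078 (iv D5589)) (tt N7039 (iv F22598)))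
theorem Q5522 : ∀ i, i < 5522 → P i := stepQ 5521 Q5521 (allL N5521 (tt N7057 (iv F22670)) (tt N5521 F17540) (tt N4256 F17541) (tt N4277 F17542) (tt N4248 F17543) (tt N4079 (iv D5590)) (tt N7040 (iv F22603)) (tt N4247 F17544))
theorem Q5523 : ∀ i, i < 5523 → P i := stepQ 5522 Q5522 (allL N5522 (tt N7061 (iv F22684)) (tt N7054 (iv F22657)) (tt N7068 D7161) (tt N4080 (iv D5591)) (tt N7069 D7162) (tt N5418 F17545) (tt N4278 F17546) (tt N7038 (iv F22593)))
theorem Q5524 : ∀ i, i < 5524 → P i := stepQ 5523 Q5523 (allL N5523 (tt N7067 (iv F22702)) (tt N4216 F17547) (tt N4747 F17548) (tt N7069 (iv F22711)) (tt N4081 (iv D5592)) (tt N4785 F17549) (tt N4280 F17550) (tt N4742 F17551))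
theorem Q5525 : ∀ i, i < 5525 → P i := stepQ 5524 Q5524 (allL N5524 (tt N6899 (iv F22148)) (tt N6441 (iv F20497)) (tt N4090 F17552) (tt N6972 (iv F22380)) (tt N4086 F17553) (tt N6968 (iv F22366)) (tt N4083 (iv D5593)) (tt N7070 D7163))
theorem Q5526 : ∀ i, i < 5526 → P i := stepQ 5525 Q5525 (allL N5525 (tt N4178 F17554) (tt N6442 (iv F20503)) (tt N4091 F17555) (tt N4161 F17556) (tt N4087 F17557) (tt N4084 F17558) (tt N7071 D7164) (tt N4083 (iv D5594)))
theorem Q5527 : ∀ i, i < 5527 → P i := stepQ 5526 Q5526 (allL N5526 (tt N6661 (iv F21258)) (tt N4282 F17559) (tt N4093 F17560) (tt N6638 (iv F21176)) (tt N4089 F17561) (tt N7072 D7165) (tt N4084 (iv D5595)) (tt N6971 (iv F22376)))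
theorem Q5528 : ∀ i, i < 5528 → P i := stepQ 5527 Q5527 (allL N5527 (tt N4085 (iv D5596)) (tt N6900 (iv F22153)) (tt N4387 F17562) (tt N6504 (iv F20730)) (tt N5131 F17563) (tt N4283 F17564) (tt N7073 D7166) (tt N6493 F20697))
theorem Q5529 : ∀ i, i < 5529 → P i := stepQ 5528 Q5528 (allL N5528 (tt N7073 (iv F22722)) (tt N4086 F17565) (tt N4388 F17566) (tt N6505 (iv F20735)) (tt N6441 (iv F20500)) (tt N6500 (iv F20720)) (tt N4085 (iv D5597)) (tt N7074 D7167))
theorem Q5530 : ∀ i, i < 5530 → P i := stepQ 5529 Q5529 (allL N5529 (tt N6493 (iv F20692)) (tt N4087 F17567) (tt N4389 F17568) (tt N6491 (iv F20687)) (tt N6442 (iv F20506)) (tt N4284 F17569) (tt N7075 D7168) (tt N4085 (iv D5598)))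
theorem Q5531 : ∀ i, i < 5531 → P i := stepQ 5530 Q5530 (allL N5530 (tt N6902 (iv F22161)) (tt N7074 (iv F22725)) (tt N4094 F17570) (tt N7076 D7169) (tt N7070 (iv F22715)) (tt N6973 (iv F22382)) (tt N7077 D7170) (tt N4086 (iv D5599)))
theorem Q5532 : ∀ i, i < 5532 → P i := stepQ 5531 Q5531 (allL N5531 (tt N6903 (iv F22163)) (tt N6491 (iv F20686)) (tt N6486 F20667) (tt N4087 (iv D5600)) (tt N7078 D7171) (tt N4088 F17571) (tt N7079 D7172) (tt N6508 (iv F20744)))
theorem Q5533 : ∀ i, i < 5533 → P i := stepQ 5532 Q5532 (allL N5532 (tt N6904 (iv F22167)) (tt N7075 (iv F22727)) (tt N4096 F17572) (tt N7079 (iv F22736)) (tt N7071 (iv F22719)) (tt N7080 D7173) (tt N4087 (iv D5601)) (tt N7077 (iv F22730)))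
theorem Q5534 : ∀ i, i < 5534 → P i := stepQ 5533 Q5533 (allL N5533 (tt N6905 (iv F22171)) (tt N6463 F20585) (tt N4088 (iv D5602)) (tt N4097 F17573) (tt N7081 D7174) (tt N6486 (iv F20665)) (tt N7082 D7175) (tt N6510 (iv F20750)))
theorem Q5535 : ∀ i, i < 5535 → P i := stepQ 5534 Q5534 (allL N5534 (tt N6656 (iv F21244)) (tt N4288 F17574) (tt N7081 (iv F22739)) (tt N6633 F21156) (tt N4088 (iv D5603)) (tt N7078 (iv F22735)) (tt N7083 D7176) (tt N6511 (iv F20752)))
theorem Q5536 : ∀ i, i < 5536 → P i := stepQ 5535 Q5535 (allL N5535 (tt N6906 (iv F22173)) (tt N4289 F17575) (tt N7082 (iv F22742)) (tt N4089 F17576) (tt N7083 (iv F22745)) (tt N7084 D7177) (tt N4088 (iv D5604)) (tt N7085 D7178))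
theorem Q5537 : ∀ i, i < 5537 → P i := stepQ 5536 Q5536 (allL N5536 (tt N6907 (iv F22176)) (tt N7086 D7179) (tt N4100 F17577) (tt N7084 (iv F22746)) (tt N7072 (iv F22721)) (tt N4089 (iv D5605)) (tt N7080 (iv F22738)) (tt N6977 (iv F22396)))
theorem Q5538 : ∀ i, i < 5538 → P i := stepQ 5537 Q5537 (allL N5537 (tt N6908 (iv F22178)) (tt N4397 F17578) (tt N7070 (iv F22714)) (tt N7087 D7180) (tt N4094 F17579) (tt N6978 (iv F22399)) (tt N7088 D7181) (tt N4090 (iv D5606)))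
theorem Q5539 : ∀ i, i < 5539 → P i := stepQ 5538 Q5538 (allL N5538 (tt N6909 (iv F22181)) (tt N4399 F17580) (tt N7071 (iv F22717)) (tt N6957 (iv F22336)) (tt N4096 F17581) (tt N7089 D7182) (tt N4091 (iv D5607)) (tt N7088 (iv F22753)))
theorem Q5540 : ∀ i, i < 5540 → P i := stepQ 5539 Q5539 (allL N5539 (tt N5388 F17582) (tt N4111 F17583) (tt N6425 (iv F20431)) (tt N4093 F17584) (tt N5387 F17585) (tt N7090 D7183) (tt N4092 (iv D5608)) (tt N7091 D7184))
theorem Q5541 : ∀ i, i < 5541 → P i := stepQ 5540 Q5540 (allL N5540 (tt N6910 (iv F22186)) (tt N7092 D7185) (tt N7072 (iv F22720)) (tt N7090 (iv F22757)) (tt N4100 F17586) (tt N4093 (iv D5609)) (tt N7089 (iv F22755)) (tt N6984 (iv F22413)))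
theorem Q5542 : ∀ i, i < 5542 → P i := stepQ 5541 Q5541 (allL N5541 (tt N4980 F17587) (tt N4404 F17588) (tt N7093 D7186) (tt N4094 (iv D5610)) (tt N7094 D7187) (tt N6679 (iv F21323)) (tt N7095 D7188) (tt N4101 F17589))
theorem Q5543 : ∀ i, i < 5543 → P i := stepQ 5542 Q5542 (allL N5542 (tt N6911 (iv F22188)) (tt N4405 F17590) (tt N7077 (iv F22729)) (tt N7095 (iv F22772)) (tt N7088 (iv F22752)) (tt N7096 D7189) (tt N4094 (iv D5611)) (tt N4096 F17591))
theorem Q5544 : ∀ i, i < 5544 → P i := stepQ 5543 Q5543 (allL N5543 (tt N6912 (iv F22192)) (tt N5994 (iv F19037)) (tt N4095 (iv D5612)) (tt N6486 (iv F20664)) (tt N5993 F19034) (tt N4097 F17592) (tt N7097 D7190) (tt N4102 F17593))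
theorem Q5545 : ∀ i, i < 5545 → P i := stepQ 5544 Q5544 (allL N5544 (tt N5381 F17594) (tt N4407 F17595) (tt N5993 (iv F19031)) (tt N5386 F17596) (tt N4095 (iv D5613)) (tt N4098 F17597) (tt N7098 D7191) (tt N4103 F17598))
theorem Q5546 : ∀ i, i < 5546 → P i := stepQ 5545 Q5545 (allL N5545 (tt N6913 (iv F22195)) (tt N4408 F17599) (tt N7097 (iv F22775)) (tt N4096 F17600) (tt N7098 (iv F22779)) (tt N7099 D7192) (tt N4095 (iv D5614)) (tt N7100 D7193))
theorem Q5547 : ∀ i, i < 5547 → P i := stepQ 5546 Q5546 (allL N5546 (tt N6914 (iv F22199)) (tt N7101 D7194) (tt N7080 (iv F22737)) (tt N7099 (iv F22780)) (tt N7089 (iv F22754)) (tt N4096 (iv D5615)) (tt N4100 F17601) (tt N7096 (iv F22774)))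
theorem Q5548 : ∀ i, i < 5548 → P i := stepQ 5547 Q5547 (allL N5547 (tt N5562 (iv F17647)) (tt N4097 (iv D5616)) (tt N4113 F17602) (tt N6463 (iv F20583)) (tt N5561 F17646) (tt N6456 (iv F20557)) (tt N7102 D7195) (tt N4105 F17603))
theorem Q5549 : ∀ i, i < 5549 → P i := stepQ 5548 Q5548 (allL N5548 (tt N5373 F17604) (tt N5561 (iv F17644)) (tt N4098 F17605) (tt N6014 (iv F19113)) (tt N4097 (iv D5617)) (tt N5993 F19035) (tt N7103 D7196) (tt N4106 F17606))
theorem Q5550 : ∀ i, i < 5550 → P i := stepQ 5549 Q5549 (allL N5549 (tt N6915 (iv F22201)) (tt N7102 (iv F22788)) (tt N4099 F17607) (tt N7082 (iv F22743)) (tt N7103 (iv F22792)) (tt N7104 D7197) (tt N4097 (iv D5618)) (tt N7105 D7198))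
theorem Q5551 : ∀ i, i < 5551 → P i := stepQ 5550 Q5550 (allL N5550 (tt N5382 F17608) (tt N4115 F17609) (tt N7103 (iv F22791)) (tt N5387 F17610) (tt N4099 F17611) (tt N7106 D7199) (tt N4098 (iv D5619)) (tt N7107 D7200))
theorem Q5552 : ∀ i, i < 5552 → P i := stepQ 5551 Q5551 (allL N5551 (tt N6916 (iv F22203)) (tt N7108 D7201) (tt N7104 (iv F22793)) (tt N4100 F17612) (tt N7106 (iv F22798)) (tt N4099 (iv D5620)) (tt N7099 (iv F22781)) (tt N7109 D7202))
theorem Q5553 : ∀ i, i < 5553 → P i := stepQ 5552 Q5552 (allL N5552 (tt N6917 (iv F22205)) (tt N4117 F17613) (tt N7105 (iv F22794)) (tt N6959 (iv F22340)) (tt N7107 (iv F22802)) (tt N7109 (iv F22809)) (tt N4110 F17614) (tt N4099 (iv D5621)))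
theorem Q5554 : ∀ i, i < 5554 → P i := stepQ 5553 Q5553 (allL N5553 (tt N7110 D7203) (tt N4100 (iv D5622)) (tt N7111 D7204) (tt N7108 (iv F22804)) (tt N7092 (iv F22763)) (tt N4118 F17615) (tt N7101 (iv F22787)) (tt N6314 (iv F20021)))
theorem Q5555 : ∀ i, i < 5555 → P i := stepQ 5554 Q5554 (allL N5554 (tt N4972 F17616) (tt N7112 D7205) (tt N4101 (iv D5623)) (tt N5358 F17617) (tt N7113 D7206) (tt N6677 (iv F21315)) (tt N4848 F17618) (tt N7093 (iv F22766)))
theorem Q5556 : ∀ i, i < 5556 → P i := stepQ 5555 Q5555 (allL N5555 (tt N4976 F17619) (tt N4417 F17620) (tt N7113 (iv F22817)) (tt N5555 F17621) (tt N4101 (iv D5624)) (tt N5859 (iv F18572)) (tt N4850 F17622) (tt N7094 (iv F22769)))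
theorem Q5557 : ∀ i, i < 5557 → P i := stepQ 5556 Q5556 (allL N5556 (tt N4905 (iv F17624)) (tt N4102 (iv D5625)) (tt N4419 F17623) (tt N6533 (iv F20802)) (tt N4898 (iv F17625)) (tt N4924 (iv F17626)) (tt N6195 F19612) (tt N5994 (iv F19041)))
theorem Q5558 : ∀ i, i < 5558 → P i := stepQ 5557 Q5557 (allL N5557 (tt N6920 (iv F22215)) (tt N4898 F17627) (tt N4103 F17628) (tt N4900 (iv F17630)) (tt N4102 (iv D5626)) (tt N4106 F17629) (tt N7114 D7207) (tt N5993 (iv F19033)))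
theorem Q5559 : ∀ i, i < 5559 → P i := stepQ 5558 Q5558 (allL N5558 (tt N4987 F17631) (tt N6195 F19611) (tt N4104 F17632) (tt N5371 F17633) (tt N7114 (iv F22824)) (tt N4855 (iv F17634)) (tt N4102 (iv D5627)) (tt N6349 (iv F20164)))
theorem Q5560 : ∀ i, i < 5560 → P i := stepQ 5559 Q5559 (allL N5559 (tt N4988 F17635) (tt N4422 F17636) (tt N7114 (iv F22822)) (tt N5559 F17637) (tt N4104 F17638) (tt N4856 (iv F17639)) (tt N4103 (iv D5628)) (tt N7115 D7208))
theorem Q5561 : ∀ i, i < 5561 → P i := stepQ 5560 Q5560 (allL N5560 (tt N4981 F17640) (tt N4424 F17641) (tt N6349 (iv F20163)) (tt N4852 F17642) (tt N7115 (iv F22830)) (tt N4853 F17643) (tt N7100 (iv F22785)) (tt N4104 (iv D5629)))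
theorem Q5562 : ∀ i, i < 5562 → P i := stepQ 5561 Q5561 (allL N5561 (tt N4105 (iv D5630)) (tt N5548 F17644) (tt N4119 F17645) (tt N6535 (iv F20812)) (tt N5547 (iv F17646)) (tt N6450 (iv F20534)) (tt N7116 D7209) (tt N5562 (iv F17650)))
theorem Q5563 : ∀ i, i < 5563 → P i := stepQ 5562 Q5562 (allL N5562 (tt N5547 F17647) (tt N4106 F17648) (tt N4120 F17649) (tt N4931 (iv F17651)) (tt N4105 (iv D5631)) (tt N4923 F17652) (tt N7117 D7210) (tt N5561 F17650))
theorem Q5564 : ∀ i, i < 5564 → P i := stepQ 5563 Q5563 (allL N5563 (tt N6450 (iv F20531)) (tt N4924 F17653) (tt N4121 F17654) (tt N6537 (iv F20822)) (tt N4923 F17655) (tt N4105 (iv D5632)) (tt N7118 D7211) (tt N6456 (iv F20558)))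
theorem Q5565 : ∀ i, i < 5565 → P i := stepQ 5564 Q5564 (allL N5564 (tt N7116 (iv F22832)) (tt N4107 F17656) (tt N4122 F17657) (tt N6538 (iv F20827)) (tt N7117 (iv F22840)) (tt N7119 D7212) (tt N4105 (iv D5633)) (tt N7120 D7213))
theorem Q5566 : ∀ i, i < 5566 → P i := stepQ 5565 Q5565 (allL N5565 (tt N6923 (iv F22230)) (tt N4931 F17658) (tt N5565 F17659) (tt N4106 (iv D5634)) (tt N6539 (iv F20830)) (tt N4900 F17660) (tt N7121 D7214) (tt N5141 (iv F17661)))
theorem Q5567 : ∀ i, i < 5567 → P i := stepQ 5566 Q5566 (allL N5566 (tt N6924 (iv F22235)) (tt N7117 (iv F22837)) (tt N4108 F17662) (tt N7121 (iv F22849)) (tt N4107 F17663) (tt N7122 D7215) (tt N4106 (iv D5635)) (tt N7123 D7216))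
theorem Q5568 : ∀ i, i < 5568 → P i := stepQ 5567 Q5567 (allL N5567 (tt N4991 F17664) (tt N7124 D7217) (tt N4109 F17665) (tt N5375 F17666) (tt N7122 (iv F22852)) (tt N4107 (iv D5636)) (tt N4855 F17667) (tt N6642 (iv F21188)))
theorem Q5569 : ∀ i, i < 5569 → P i := stepQ 5568 Q5568 (allL N5568 (tt N6925 (iv F22240)) (tt N7120 (iv F22845)) (tt N4110 F17668) (tt N7125 D7218) (tt N7123 (iv F22855)) (tt N6642 (iv F21187)) (tt N7105 (iv F22795)) (tt N4107 (iv D5637)))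
theorem Q5570 : ∀ i, i < 5570 → P i := stepQ 5569 Q5569 (allL N5569 (tt N4992 F17669) (tt N4702 F17670) (tt N7122 (iv F22851)) (tt N5569 F17671) (tt N4109 F17672) (tt N4108 (iv D5638)) (tt N4856 F17673) (tt N6637 (iv F21172)))
theorem Q5571 : ∀ i, i < 5571 → P i := stepQ 5570 Q5570 (allL N5570 (tt N6926 (iv F22243)) (tt N4126 F17674) (tt N7123 (iv F22854)) (tt N7126 D7219) (tt N4110 F17675) (tt N6637 (iv F21171)) (tt N7107 (iv F22803)) (tt N4108 (iv D5639)))
theorem Q5572 : ∀ i, i < 5572 → P i := stepQ 5571 Q5571 (allL N5571 (tt N4143 F17676) (tt N7127 D7220) (tt N5408 F17677) (tt N4112 F17678) (tt N5401 F17679) (tt N4111 (iv D5640)) (tt N4432 F17680) (tt N5450 F17681))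
theorem Q5573 : ∀ i, i < 5573 → P i := stepQ 5572 Q5572 (allL N5572 (tt N4144 F17682) (tt N7091 (iv F22760)) (tt N4732 F17683) (tt N6993 (iv F22437)) (tt N5402 F17684) (tt N5450 F17685) (tt N5572 F17686) (tt N4111 (iv D5641)))
theorem Q5574 : ∀ i, i < 5574 → P i := stepQ 5573 Q5573 (allL N5573 (tt N7128 D7221) (tt N4112 (iv D5642)) (tt N7129 D7222) (tt N7127 (iv F22862)) (tt N4118 F17687) (tt N7092 (iv F22764)) (tt N4434 F17688) (tt N6313 (iv F20019)))
theorem Q5575 : ∀ i, i < 5575 → P i := stepQ 5574 Q5574 (allL N5574 (tt N5584 (iv F17724)) (tt N4437 F17689) (tt N6456 (iv F20554)) (tt N4314 F17690) (tt N5582 (iv F17719)) (tt N4113 (iv D5643)) (tt N7130 D7223) (tt N4121 F17691))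
theorem Q5576 : ∀ i, i < 5576 → P i := stepQ 5575 Q5575 (allL N5575 (tt N5585 (iv F17730)) (tt N4114 F17692) (tt N7102 (iv F22789)) (tt N4315 F17693) (tt N5583 (iv F17723)) (tt N7131 D7224) (tt N4113 (iv D5644)) (tt N7132 D7225))
theorem Q5577 : ∀ i, i < 5577 → P i := stepQ 5576 Q5576 (allL N5576 (tt N4146 F17694) (tt N7132 (iv F22875)) (tt N4117 F17695) (tt N5798 (iv F18366)) (tt N5610 F17802) (tt N4157 F17696) (tt N4125 F17697) (tt N4114 (iv D5645)))
theorem Q5578 : ∀ i, i < 5578 → P i := stepQ 5577 Q5577 (allL N5577 (tt N4147 F17698) (tt N7133 D7226) (tt N5591 (iv F17748)) (tt N5401 F17699) (tt N4116 F17700) (tt N4115 (iv D5646)) (tt N4347 F17701) (tt N4160 F17702))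
theorem Q5579 : ∀ i, i < 5579 → P i := stepQ 5578 Q5578 (allL N5578 (tt N4148 F17703) (tt N7107 (iv F22800)) (tt N5610 (iv F17798)) (tt N5463 F17704) (tt N4117 F17705) (tt N4160 F17706) (tt N4126 F17707) (tt N4115 (iv D5647)))
theorem Q5580 : ∀ i, i < 5580 → P i := stepQ 5579 Q5579 (allL N5579 (tt N4181 F17708) (tt N4116 (iv D5648)) (tt N7134 D7227) (tt N4118 F17709) (tt N7133 (iv F22879)) (tt N7108 (iv F22805)) (tt N4351 F17710) (tt N4162 F17711))
theorem Q5581 : ∀ i, i < 5581 → P i := stepQ 5580 Q5580 (allL N5580 (tt N4118 (iv D5649)) (tt N4149 F17712) (tt N7135 D7228) (tt N4181 F17713) (tt N7128 (iv F22867)) (tt N7110 (iv F22811)) (tt N4371 F17714) (tt N6312 (iv F20016)))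
theorem Q5582 : ∀ i, i < 5582 → P i := stepQ 5581 Q5581 (allL N5581 (tt N7135 (iv F22885)) (tt N4317 F17715) (tt N4118 (iv D5650)) (tt N7136 D7229) (tt N7129 (iv F22870)) (tt N7111 (iv F22812)) (tt N4440 F17716) (tt N6307 (iv F20000)))
theorem Q5583 : ∀ i, i < 5583 → P i := stepQ 5582 Q5582 (allL N5582 (tt N4121 F17717) (tt N5915 (iv F18762)) (tt N6450 (iv F20532)) (tt N4128 F17718) (tt N5574 F17719) (tt N4119 (iv D5651)) (tt N7137 D7230) (tt N5584 (iv F17729)))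
theorem Q5584 : ∀ i, i < 5584 → P i := stepQ 5583 Q5583 (allL N5583 (tt N4122 F17720) (tt N4150 F17721) (tt N7116 (iv F22834)) (tt N4129 F17722) (tt N5575 F17723) (tt N7138 D7231) (tt N4119 (iv D5652)) (tt N7139 D7232))
theorem Q5585 : ∀ i, i < 5585 → P i := stepQ 5584 Q5584 (allL N5584 (tt N5574 F17724) (tt N4444 F17725) (tt N4923 F17726) (tt N5437 F17727) (tt N4121 F17728) (tt N4120 (iv D5653)) (tt N7140 D7233) (tt N5582 F17729))
theorem Q5586 : ∀ i, i < 5586 → P i := stepQ 5585 Q5585 (allL N5585 (tt N5575 F17730) (tt N4123 F17731) (tt N7117 (iv F22838)) (tt N5771 (iv F18286)) (tt N4122 F17732) (tt N7141 D7234) (tt N4120 (iv D5654)) (tt N7142 D7235))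
theorem Q5587 : ∀ i, i < 5587 → P i := stepQ 5586 Q5586 (allL N5586 (tt N7137 (iv F22889)) (tt N4446 F17733) (tt N7118 (iv F22842)) (tt N4133 F17734) (tt N7140 (iv F22903)) (tt N7143 D7236) (tt N4121 (iv D5655)) (tt N7144 D7237))
theorem Q5588 : ∀ i, i < 5588 → P i := stepQ 5587 Q5587 (allL N5587 (tt N7138 (iv F22892)) (tt N7145 D7238) (tt N7119 (iv F22844)) (tt N4134 F17735) (tt N7141 (iv F22906)) (tt N4122 (iv D5656)) (tt N7143 (iv F22913)) (tt N7146 D7239))
theorem Q5589 : ∀ i, i < 5589 → P i := stepQ 5588 Q5588 (allL N5588 (tt N7139 (iv F22895)) (tt N4125 F17736) (tt N7120 (iv F22846)) (tt N7147 D7240) (tt N7142 (iv F22910)) (tt N7146 (iv F22921)) (tt N7132 (iv F22876)) (tt N4122 (iv D5657)))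
theorem Q5590 : ∀ i, i < 5590 → P i := stepQ 5589 Q5589 (allL N5589 (tt N4153 F17737) (tt N7142 (iv F22908)) (tt N4126 F17738) (tt N4608 F17739) (tt N4125 F17740) (tt N4155 F17741) (tt N5610 (iv F17800)) (tt N4123 (iv D5658)))
theorem Q5591 : ∀ i, i < 5591 → P i := stepQ 5590 Q5590 (allL N5590 (tt N4135 F17742) (tt N4124 (iv D5659)) (tt N6572 (iv F20930)) (tt N4137 F17743) (tt N4556 F17744) (tt N7145 (iv F22917)) (tt N4327 F17745) (tt N4129 F17746))
theorem Q5592 : ∀ i, i < 5592 → P i := stepQ 5591 Q5591 (allL N5591 (tt N4151 F17747) (tt N7147 (iv F22923)) (tt N5577 F17748) (tt N4125 (iv D5660)) (tt N4597 F17749) (tt N4150 F17750) (tt N5798 (iv F18369)) (tt N4139 F17751))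
theorem Q5593 : ∀ i, i < 5593 → P i := stepQ 5592 Q5592 (allL N5592 (tt N4154 F17752) (tt N7126 (iv F22859)) (tt N4619 F17753) (tt N4126 (iv D5661)) (tt N5768 (iv F18276)) (tt N4158 F17754) (tt N5463 F17755) (tt N5592 F17756))
theorem Q5594 : ∀ i, i < 5594 → P i := stepQ 5593 Q5593 (allL N5593 (tt N4131 F17757) (tt N5792 (iv F18345)) (tt N6567 (iv F20911)) (tt N5772 (iv F18290)) (tt N4128 F17758) (tt N4127 (iv D5662)) (tt N7148 D7241) (tt N4323 F17759))
theorem Q5595 : ∀ i, i < 5595 → P i := stepQ 5594 Q5594 (allL N5594 (tt N4132 F17760) (tt N4155 F17761) (tt N6568 (iv F20916)) (tt N5773 (iv F18295)) (tt N4129 F17762) (tt N7149 D7242) (tt N4127 (iv D5663)) (tt N4556 F17763))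
theorem Q5596 : ∀ i, i < 5596 → P i := stepQ 5595 Q5595 (allL N5595 (tt N4449 F17764) (tt N4128 (iv D5664)) (tt N6443 (iv F20510)) (tt N5915 (iv F18764)) (tt N5792 F18348) (tt N4156 F17765) (tt N7150 D7243) (tt N4324 F17766))
theorem Q5597 : ∀ i, i < 5597 → P i := stepQ 5596 Q5596 (allL N5596 (tt N4133 F17767) (tt N7150 (iv F22932)) (tt N6570 (iv F20925)) (tt N7137 (iv F22890)) (tt N7148 (iv F22927)) (tt N7151 D7244) (tt N4128 (iv D5665)) (tt N7152 D7245))
theorem Q5598 : ∀ i, i < 5598 → P i := stepQ 5597 Q5597 (allL N5597 (tt N4134 F17768) (tt N7146 (iv F22920)) (tt N6571 (iv F20927)) (tt N7138 (iv F22893)) (tt N7149 (iv F22929)) (tt N4129 (iv D5666)) (tt N7151 (iv F22934)) (tt N7145 F22919))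
theorem Q5599 : ∀ i, i < 5599 → P i := stepQ 5598 Q5598 (allL N5598 (tt N5756 (iv F18239)) (tt N5598 F17769) (tt N4130 (iv D5667)) (tt N6573 (iv F20935)) (tt N5447 F17770) (tt N5446 (iv F17772)) (tt N7153 D7246) (tt N4587 F17771))
theorem Q5600 : ∀ i, i < 5600 → P i := stepQ 5599 Q5599 (allL N5599 (tt N5772 (iv F18288)) (tt N4452 F17773) (tt N5446 F17774) (tt N4131 F17775) (tt N5437 F17776) (tt N4130 (iv D5668)) (tt N7154 D7247) (tt N4585 F17777))
theorem Q5601 : ∀ i, i < 5601 → P i := stepQ 5600 Q5600 (allL N5600 (tt N5773 (iv F18293)) (tt N4136 F17778) (tt N7153 (iv F22938)) (tt N4132 F17779) (tt N5771 (iv F18287)) (tt N7155 D7248) (tt N4130 (iv D5669)) (tt N6062 (iv F19226)))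
theorem Q5602 : ∀ i, i < 5602 → P i := stepQ 5601 Q5601 (allL N5601 (tt N7148 (iv F22926)) (tt N4454 F17780) (tt N6576 (iv F20943)) (tt N7154 (iv F22942)) (tt N4133 F17781) (tt N7156 D7249) (tt N4131 (iv D5670)) (tt N7157 D7250))
theorem Q5603 : ∀ i, i < 5603 → P i := stepQ 5602 Q5602 (allL N5602 (tt N7149 (iv F22928)) (tt N5947 (iv F18878)) (tt N6577 (iv F20945)) (tt N7155 (iv F22944)) (tt N4134 F17782) (tt N4132 (iv D5671)) (tt N7156 (iv F22946)) (tt N4558 F17783))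
theorem Q5604 : ∀ i, i < 5604 → P i := stepQ 5603 Q5603 (allL N5603 (tt N7151 (iv F22933)) (tt N7158 D7251) (tt N6578 (iv F20948)) (tt N7143 (iv F22912)) (tt N7156 (iv F22945)) (tt N4133 (iv D5672)) (tt N4134 F17784) (tt N7159 D7252))
theorem Q5605 : ∀ i, i < 5605 → P i := stepQ 5604 Q5604 (allL N5604 (tt N7152 (iv F22935)) (tt N4456 F17785) (tt N6579 (iv F20951)) (tt N7160 D7253) (tt N7157 (iv F22948)) (tt N7159 (iv F22952)) (tt N4330 F17786) (tt N4133 (iv D5673)))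
theorem Q5606 : ∀ i, i < 5606 → P i := stepQ 5605 Q5605 (allL N5605 (tt N7161 D7254) (tt N4134 (iv D5674)) (tt N7162 D7255) (tt N7145 (iv F22915)) (tt N5947 (iv F18879)) (tt N4137 F17787) (tt N7158 (iv F22951)) (tt N7163 D7256))
theorem Q5607 : ∀ i, i < 5607 → P i := stepQ 5606 Q5606 (allL N5606 (tt N7145 F22918) (tt N7163 (iv F22958)) (tt N6581 (iv F20954)) (tt N7161 (iv F22955)) (tt N4558 F17788) (tt N4135 F17789) (tt N7164 D7257) (tt N4134 (iv D5675)))
theorem Q5608 : ∀ i, i < 5608 → P i := stepQ 5607 Q5607 (allL N5607 (tt N4137 F17790) (tt N4139 F17791) (tt N7165 D7258) (tt N4135 (iv D5676)) (tt N5618 (iv F17826)) (tt N7161 (iv F22956)) (tt N4332 F17792) (tt N7147 (iv F22925)))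
theorem Q5609 : ∀ i, i < 5609 → P i := stepQ 5608 Q5608 (allL N5608 (tt N7165 (iv F22963)) (tt N4140 F17793) (tt N4137 (iv D5677)) (tt N7166 D7259) (tt N5946 (iv F18877)) (tt N7162 (iv F22957)) (tt N4459 F17794) (tt N7167 D7260))
theorem Q5610 : ∀ i, i < 5610 → P i := stepQ 5609 Q5609 (allL N5609 (tt N7147 (iv F22922)) (tt N4138 F17795) (tt N7167 (iv F22970)) (tt N7139 (iv F22897)) (tt N4559 F17796) (tt N7163 (iv F22960)) (tt N6109 (iv F19350)) (tt N4137 (iv D5678)))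
theorem Q5611 : ∀ i, i < 5611 → P i := stepQ 5610 Q5610 (allL N5610 (tt N4152 F17797) (tt N7139 (iv F22896)) (tt N5578 F17798) (tt N4138 (iv D5679)) (tt N5576 (iv F17802)) (tt N4139 F17799) (tt N5589 F17800) (tt N4150 F17801))
theorem Q5612 : ∀ i, i < 5612 → P i := stepQ 5611 Q5611 (allL N5611 (tt N5953 (iv F18900)) (tt N7166 (iv F22965)) (tt N4142 F17803) (tt N4140 (iv D5680)) (tt N7168 D7261) (tt N5397 F17804) (tt N4460 F17805) (tt N7169 D7262))
theorem Q5613 : ∀ i, i < 5613 → P i := stepQ 5612 Q5612 (allL N5612 (tt N5956 (iv F18913)) (tt N7167 (iv F22969)) (tt N4141 F17806) (tt N7170 D7263) (tt N4560 F17807) (tt N6591 (iv F20995)) (tt N6122 (iv F19390)) (tt N4140 (iv D5681)))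
theorem Q5614 : ∀ i, i < 5614 → P i := stepQ 5613 Q5613 (allL N5613 (tt N6476 (iv F20618)) (tt N4869 F17808) (tt N7168 (iv F22973)) (tt N5613 F17809) (tt N4142 (iv D5682)) (tt N5396 F17810) (tt N4462 F17811) (tt N7171 D7264))
theorem Q5615 : ∀ i, i < 5615 → P i := stepQ 5614 Q5614 (allL N5614 (tt N6477 (iv F20624)) (tt N4870 F17812) (tt N7169 (iv F22976)) (tt N5957 (iv F18919)) (tt N7171 (iv F22980)) (tt N5398 F17813) (tt N7172 D7265) (tt N4142 (iv D5683)))
theorem Q5616 : ∀ i, i < 5616 → P i := stepQ 5615 Q5615 (allL N5615 (tt N7173 D7266) (tt N4143 (iv D5684)) (tt N6955 (iv F22327)) (tt N4145 F17814) (tt N4185 F17815) (tt N5403 F17816) (tt N4376 F17817) (tt N5474 F17818))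
theorem Q5617 : ∀ i, i < 5617 → P i := stepQ 5616 Q5616 (allL N5616 (tt N4145 (iv D5685)) (tt N7128 (iv F22866)) (tt N6101 (iv F19325)) (tt N7173 (iv F22987)) (tt N4149 F17819) (tt N6261 (iv F19841)) (tt N4373 F17820) (tt N6320 (iv F20042)))
theorem Q5618 : ∀ i, i < 5618 → P i := stepQ 5617 Q5617 (allL N5617 (tt N4470 F17821) (tt N4161 F17822) (tt N4156 (iv D5686)) (tt N6442 (iv F20505)) (tt N5794 (iv F18352)) (tt N6443 (iv F20511)) (tt N7174 D7267) (tt N4339 F17823))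
theorem Q5619 : ∀ i, i < 5619 → P i := stepQ 5618 Q5618 (allL N5618 (tt N4471 F17824) (tt N4157 F17825) (tt N7174 (iv F22994)) (tt N5916 (iv F18768)) (tt N5607 F17826) (tt N7175 D7268) (tt N4156 (iv D5687)) (tt N6047 (iv F19191)))
theorem Q5620 : ∀ i, i < 5620 → P i := stepQ 5619 Q5619 (allL N5619 (tt N4175 F17827) (tt N5794 (iv F18351)) (tt N4159 (iv D5688)) (tt N7078 (iv F22734)) (tt N4161 F17828) (tt N6633 (iv F21154)) (tt N7176 D7269) (tt N4345 F17829))
theorem Q5621 : ∀ i, i < 5621 → P i := stepQ 5620 Q5620 (allL N5620 (tt N4176 F17830) (tt N4160 F17831) (tt N7176 (iv F23000)) (tt N5459 F17832) (tt N4162 F17833) (tt N7177 D7270) (tt N4159 (iv D5689)) (tt N7133 (iv F22881)))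
theorem Q5622 : ∀ i, i < 5622 → P i := stepQ 5621 Q5621 (allL N5621 (tt N4179 F17834) (tt N7174 (iv F22993)) (tt N4162 F17835) (tt N7071 (iv F22718)) (tt N7176 (iv F23001)) (tt N7178 D7271) (tt N4161 (iv D5690)) (tt N7134 (iv F22884)))
theorem Q5623 : ∀ i, i < 5623 → P i := stepQ 5622 Q5622 (allL N5622 (tt N4180 F17836) (tt N7109 (iv F22808)) (tt N7178 (iv F23006)) (tt N6958 (iv F22339)) (tt N7177 (iv F23004)) (tt N4162 (iv D5691)) (tt N6639 (iv F21178)) (tt N7108 F22807))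
theorem Q5624 : ∀ i, i < 5624 → P i := stepQ 5623 Q5623 (allL N5623 (tt N4163 (iv D5692)) (tt N4535 F17837) (tt N7024 (iv F22536)) (tt N4164 F17838) (tt N5494 F17839) (tt N6934 (iv F22270)) (tt N4187 F17840) (tt N5623 F17841))
theorem Q5625 : ∀ i, i < 5625 → P i := stepQ 5624 Q5624 (allL N5624 (tt N4167 F17842) (tt N4165 (iv D5693)) (tt N6645 (iv F21199)) (tt N6025 (iv F19148)) (tt N5643 (iv F17890)) (tt N7179 D7272) (tt N4188 F17843) (tt N6932 (iv F22264)))
theorem Q5626 : ∀ i, i < 5626 → P i := stepQ 5625 Q5625 (allL N5625 (tt N4166 F17844) (tt N6025 (iv F19146)) (tt N5472 F17845) (tt N4165 (iv D5694)) (tt N7042 (iv F22614)) (tt N6933 (iv F22266)) (tt N4189 F17846) (tt N6948 (iv F22308)))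
theorem Q5627 : ∀ i, i < 5627 → P i := stepQ 5626 Q5626 (allL N5626 (tt N6025 (iv F19145)) (tt N4168 F17847) (tt N6042 (iv F19182)) (tt N4167 (iv D5695)) (tt N7055 (iv F22664)) (tt N7180 D7273) (tt N4191 F17848) (tt N7035 (iv F22583)))
theorem Q5628 : ∀ i, i < 5628 → P i := stepQ 5627 Q5627 (allL N5627 (tt N7179 (iv F23007)) (tt N5635 (iv F17869)) (tt N6647 (iv F21205)) (tt N7180 (iv F23008)) (tt N5641 (iv F17885)) (tt N4167 (iv D5696)) (tt N7181 D7274) (tt N7182 D7275))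
theorem Q5629 : ∀ i, i < 5629 → P i := stepQ 5628 Q5628 (allL N5628 (tt N6932 (iv F22259)) (tt N4169 F17849) (tt N6648 (iv F21208)) (tt N6945 (iv F22297)) (tt N4740 F17850) (tt N7182 (iv F23013)) (tt N5628 F17851) (tt N4167 (iv D5697)))
theorem Q5630 : ∀ i, i < 5630 → P i := stepQ 5629 Q5629 (allL N5629 (tt N5438 F17852) (tt N6042 (iv F19181)) (tt N4170 (iv D5698)) (tt N6649 (iv F21213)) (tt N5923 (iv F18788)) (tt N5922 (iv F18785)) (tt N4195 F17853) (tt N7053 (iv F22656)))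
theorem Q5631 : ∀ i, i < 5631 → P i := stepQ 5630 Q5630 (allL N5630 (tt N5439 F17854) (tt N4171 F17855) (tt N5923 (iv F18786)) (tt N5630 F17856) (tt N4170 (iv D5699)) (tt N5906 (iv F18728)) (tt N4196 F17857) (tt N7048 (iv F22641)))
theorem Q5632 : ∀ i, i < 5632 → P i := stepQ 5631 Q5631 (allL N5631 (tt N5191 F17858) (tt N5212 F17859) (tt N4172 (iv D5700)) (tt N7183 D7276) (tt N6013 (iv F19110)) (tt N6652 (iv F21231)) (tt N7184 D7277) (tt N5187 F17860))
theorem Q5633 : ∀ i, i < 5633 → P i := stepQ 5632 Q5632 (allL N5632 (tt N5459 F17861) (tt N4173 F17862) (tt N7184 (iv F23020)) (tt N4176 F17863) (tt N6034 (iv F19172)) (tt N7185 D7278) (tt N4172 (iv D5701)) (tt N5453 F17864))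
theorem Q5634 : ∀ i, i < 5634 → P i := stepQ 5633 Q5633 (allL N5633 (tt N7078 (iv F22731)) (tt N4478 F17865) (tt N7183 (iv F23016)) (tt N4175 (iv D5702)) (tt N6903 (iv F22165)) (tt N6656 (iv F21247)) (tt N7186 D7279) (tt N7187 D7280))
theorem Q5635 : ∀ i, i < 5635 → P i := stepQ 5634 Q5634 (allL N5634 (tt N7176 (iv F22998)) (tt N4479 F17866) (tt N4176 F17867) (tt N7186 (iv F23029)) (tt N4179 F17868) (tt N7188 D7281) (tt N4175 (iv D5703)) (tt N7189 D7282))
theorem Q5636 : ∀ i, i < 5636 → P i := stepQ 5635 Q5635 (allL N5635 (tt N7177 (iv F23002)) (tt N5627 F17869) (tt N7188 (iv F23032)) (tt N7185 (iv F23025)) (tt N4180 F17870) (tt N4176 (iv D5704)) (tt N6658 (iv F21252)) (tt N7190 D7283))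
theorem Q5637 : ∀ i, i < 5637 → P i := stepQ 5636 Q5636 (allL N5636 (tt N7133 (iv F22877)) (tt N4177 F17871) (tt N7189 (iv F23035)) (tt N7191 D7284) (tt N4181 F17872) (tt N7190 (iv F23040)) (tt N4363 F17873) (tt N4176 (iv D5705)))
theorem Q5638 : ∀ i, i < 5638 → P i := stepQ 5637 Q5637 (allL N5637 (tt N4185 F17874) (tt N7191 (iv F23042)) (tt N6948 (iv F22305)) (tt N4177 (iv D5706)) (tt N7173 (iv F22988)) (tt N5404 F17875) (tt N4364 F17876) (tt N5472 F17877))
theorem Q5639 : ∀ i, i < 5639 → P i := stepQ 5638 Q5638 (allL N5638 (tt N7071 (iv F22716)) (tt N4483 F17878) (tt N6909 (iv F22183)) (tt N4179 F17879) (tt N6904 (iv F22170)) (tt N7192 D7285) (tt N4178 (iv D5707)) (tt N7193 D7286))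
theorem Q5640 : ∀ i, i < 5640 → P i := stepQ 5639 Q5639 (allL N5639 (tt N7178 (iv F23005)) (tt N7194 D7287) (tt N4180 F17880) (tt N7192 (iv F23045)) (tt N7188 (iv F23033)) (tt N4179 (iv D5708)) (tt N6662 (iv F21264)) (tt N7195 D7288))
theorem Q5641 : ∀ i, i < 5641 → P i := stepQ 5640 Q5640 (allL N5640 (tt N7134 (iv F22882)) (tt N4486 F17881) (tt N4181 F17882) (tt N7196 D7289) (tt N7189 (iv F23036)) (tt N7195 (iv F23049)) (tt N4369 F17883) (tt N4179 (iv D5709)))
theorem Q5642 : ∀ i, i < 5642 → P i := stepQ 5641 Q5641 (allL N5641 (tt N7197 D7290) (tt N4180 (iv D5710)) (tt N7198 D7291) (tt N5517 F17884) (tt N5627 F17885) (tt N4182 F17886) (tt N6664 (iv F21270)) (tt N6260 (iv F19838)))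
theorem Q5643 : ∀ i, i < 5643 → P i := stepQ 5642 Q5642 (allL N5642 (tt N7108 F22806) (tt N6260 (iv F19837)) (tt N7195 (iv F23048)) (tt N7110 (iv F22810)) (tt N7190 (iv F23039)) (tt N4181 F17887) (tt N7199 D7292) (tt N4180 (iv D5711)))
theorem Q5644 : ∀ i, i < 5644 → P i := stepQ 5643 Q5643 (allL N5643 (tt N4182 (iv D5712)) (tt N4186 F17888) (tt N5999 (iv F19058)) (tt N5499 F17889) (tt N5624 F17890) (tt N7197 (iv F23054)) (tt N4183 F17891) (tt N6258 (iv F19833)))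
theorem Q5645 : ∀ i, i < 5645 → P i := stepQ 5644 Q5644 (allL N5644 (tt N5999 (iv F19056)) (tt N4489 F17892) (tt N4182 (iv D5713)) (tt N5998 (iv F19054)) (tt N5093 F17893) (tt N7198 (iv F23056)) (tt N4184 F17894) (tt N6217 (iv F19687)))
theorem Q5646 : ∀ i, i < 5646 → P i := stepQ 5645 Q5645 (allL N5645 (tt N6031 (iv F19157)) (tt N4194 F17895) (tt N4374 F17896) (tt N5645 F17897) (tt N4837 F17898) (tt N5645 F17899) (tt N4190 (iv D5714)) (tt N4375 F17900))
theorem Q5647 : ∀ i, i < 5647 → P i := stepQ 5646 Q5646 (allL N5646 (tt N6004 (iv F19072)) (tt N4490 F17901) (tt N6675 (iv F21306)) (tt N6024 (iv F19144)) (tt N5110 F17902) (tt N7181 (iv F23011)) (tt N4192 (iv D5715)) (tt N7200 D7293))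
theorem Q5648 : ∀ i, i < 5648 → P i := stepQ 5647 Q5647 (allL N5647 (tt N4194 F17903) (tt N6032 (iv F19164)) (tt N4200 F17904) (tt N5647 F17905) (tt N7056 (iv F22669)) (tt N7034 (iv F22581)) (tt N4193 (iv D5716)) (tt N7033 F22577))
theorem Q5649 : ∀ i, i < 5649 → P i := stepQ 5648 Q5648 (allL N5648 (tt N5434 F17906) (tt N4199 F17907) (tt N5787 (iv F18328)) (tt N7201 D7294) (tt N4198 F17908) (tt N5803 (iv F18382)) (tt N7202 D7295) (tt N4196 (iv D5717)))
theorem Q5650 : ∀ i, i < 5650 → P i := stepQ 5649 Q5649 (allL N5649 (tt N5435 F17909) (tt N4200 F17910) (tt N6054 (iv F19202)) (tt N4210 F17911) (tt N7202 (iv F23067)) (tt N7203 D7296) (tt N4198 (iv D5718)) (tt N7052 (iv F22654)))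
theorem Q5651 : ∀ i, i < 5651 → P i := stepQ 5650 Q5650 (allL N5650 (tt N4201 F17912) (tt N7201 (iv F23062)) (tt N7204 D7297) (tt N4199 (iv D5719)) (tt N4211 F17913) (tt N4494 F17914) (tt N7205 D7298) (tt N5650 F17915))
theorem Q5652 : ∀ i, i < 5652 → P i := stepQ 5651 Q5651 (allL N5651 (tt N4202 F17916) (tt N7202 (iv F23066)) (tt N7056 (iv F22667)) (tt N7205 (iv F23076)) (tt N4200 F17917) (tt N7047 (iv F22637)) (tt N4199 (iv D5720)) (tt N7046 (iv F22634)))
theorem Q5653 : ∀ i, i < 5653 → P i := stepQ 5652 Q5652 (allL N5652 (tt N7204 (iv F23070)) (tt N5652 F17918) (tt N4201 (iv D5721)) (tt N4272 F17919) (tt N4214 F17920) (tt N4273 F17921) (tt N6257 (iv F19829)) (tt N5652 F17922))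
theorem Q5654 : ∀ i, i < 5654 → P i := stepQ 5653 Q5653 (allL N5653 (tt N7205 (iv F23075)) (tt N5467 F17923) (tt N6257 (iv F19826)) (tt N4202 F17924) (tt N4215 F17925) (tt N7054 (iv F22659)) (tt N4201 (iv D5722)) (tt N6252 (iv F19811)))
theorem Q5655 : ∀ i, i < 5655 → P i := stepQ 5654 Q5654 (allL N5654 (tt N5238 F17926) (tt N5654 F17927) (tt N5654 F17928) (tt N4203 (iv D5723)) (tt N5242 F17929) (tt N7206 D7299) (tt N5333 F17930) (tt N5719 (iv F18138)))
theorem Q5656 : ∀ i, i < 5656 → P i := stepQ 5655 Q5655 (allL N5655 (tt N5419 F17931) (tt N6126 (iv F19404)) (tt N4206 F17932) (tt N7206 (iv F23080)) (tt N4204 F17933) (tt N4203 (iv D5724)) (tt N7207 D7300) (tt N6110 (iv F19354)))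
theorem Q5657 : ∀ i, i < 5657 → P i := stepQ 5656 Q5656 (allL N5656 (tt N5420 F17934) (tt N5656 F17935) (tt N4207 F17936) (tt N7208 D7301) (tt N4205 F17937) (tt N6110 (iv F19353)) (tt N7209 D7302) (tt N4203 (iv D5725)))
theorem Q5658 : ∀ i, i < 5658 → P i := stepQ 5657 Q5657 (allL N5657 (tt N5422 F17938) (tt N6129 (iv F19415)) (tt N4208 F17939) (tt N6677 (iv F21314)) (tt N7207 (iv F23085)) (tt N5358 F17940) (tt N4204 (iv D5726)) (tt N7210 D7303))
theorem Q5659 : ∀ i, i < 5659 → P i := stepQ 5658 Q5658 (allL N5658 (tt N5425 F17941) (tt N5658 F17942) (tt N4210 F17943) (tt N6066 (iv F19239)) (tt N7209 (iv F23092)) (tt N7211 D7304) (tt N4205 (iv D5727)) (tt N5361 F17944))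
theorem Q5660 : ∀ i, i < 5660 → P i := stepQ 5659 Q5659 (allL N5659 (tt N5426 F17945) (tt N4502 F17946) (tt N7207 (iv F23084)) (tt N5659 F17947) (tt N4208 F17948) (tt N5362 F17949) (tt N4206 (iv D5728)) (tt N7212 D7305))
theorem Q5661 : ∀ i, i < 5661 → P i := stepQ 5660 Q5660 (allL N5660 (tt N5427 F17950) (tt N4503 F17951) (tt N6110 (iv F19352)) (tt N7213 D7306) (tt N4209 F17952) (tt N4207 F17953) (tt N7214 D7307) (tt N4206 (iv D5729)))
theorem Q5662 : ∀ i, i < 5662 → P i := stepQ 5661 Q5661 (allL N5661 (tt N5428 F17954) (tt N4211 F17955) (tt N7215 D7308) (tt N4207 (iv D5730)) (tt N7201 (iv F23063)) (tt N7213 (iv F23106)) (tt N7216 D7309) (tt N5661 F17956))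
theorem Q5663 : ∀ i, i < 5663 → P i := stepQ 5662 Q5662 (allL N5662 (tt N5429 F17957) (tt N4212 F17958) (tt N7209 (iv F23091)) (tt N7216 (iv F23115)) (tt N4210 F17959) (tt N7217 D7310) (tt N4207 (iv D5731)) (tt N5364 F17960))
theorem Q5664 : ∀ i, i < 5664 → P i := stepQ 5663 Q5663 (allL N5663 (tt N5430 F17961) (tt N4506 F17962) (tt N7210 (iv F23095)) (tt N6445 (iv F20518)) (tt N7212 (iv F23102)) (tt N5365 F17963) (tt N7218 D7311) (tt N4208 (iv D5732)))
theorem Q5665 : ∀ i, i < 5665 → P i := stepQ 5664 Q5664 (allL N5664 (tt N5432 F17964) (tt N4507 F17965) (tt N6111 (iv F19356)) (tt N6102 (iv F19331)) (tt N7214 (iv F23110)) (tt N7219 D7312) (tt N4209 (iv D5733)) (tt N7218 (iv F23121)))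
theorem Q5666 : ∀ i, i < 5666 → P i := stepQ 5665 Q5665 (allL N5665 (tt N5436 F17966) (tt N7220 D7313) (tt N7211 (iv F23098)) (tt N7203 (iv F23069)) (tt N7217 (iv F23117)) (tt N4210 (iv D5734)) (tt N7219 (iv F23123)) (tt N5370 F17967))
theorem Q5667 : ∀ i, i < 5667 → P i := stepQ 5666 Q5666 (allL N5666 (tt N4214 F17968) (tt N7221 D7314) (tt N4211 (iv D5735)) (tt N5666 F17969) (tt N7204 (iv F23072)) (tt N4509 F17970) (tt N6256 F19824) (tt N5666 F17971))
theorem Q5668 : ∀ i, i < 5668 → P i := stepQ 5667 Q5667 (allL N5667 (tt N4215 F17972) (tt N7216 (iv F23114)) (tt N6256 (iv F19822)) (tt N4212 F17973) (tt N7205 (iv F23077)) (tt N7222 D7315) (tt N4211 (iv D5736)) (tt N6251 (iv F19806)))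
theorem Q5669 : ∀ i, i < 5669 → P i := stepQ 5668 Q5668 (allL N5668 (tt N4216 F17974) (tt N7223 D7316) (tt N5668 F17975) (tt N7222 (iv F23131)) (tt N4213 F17976) (tt N4212 (iv D5737)) (tt N4511 F17977) (tt N5378 F17978))
theorem Q5670 : ∀ i, i < 5670 → P i := stepQ 5669 Q5669 (allL N5669 (tt N7066 (iv F22698)) (tt N4213 (iv D5738)) (tt N7224 D7317) (tt N7051 (iv F22649)) (tt N7223 (iv F23133)) (tt N7220 (iv F23124)) (tt N4512 F17979) (tt N5380 F17980))
theorem Q5671 : ∀ i, i < 5671 → P i := stepQ 5670 Q5670 (allL N5670 (tt N7222 (iv F23130)) (tt N7069 (iv F22710)) (tt N6098 (iv F19314)) (tt N4216 F17981) (tt N7054 (iv F22658)) (tt N4215 (iv D5739)) (tt N4514 F17982) (tt N6094 (iv F19305)))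
theorem Q5672 : ∀ i, i < 5672 → P i := stepQ 5671 Q5671 (allL N5671 (tt N5671 F17983) (tt N6970 (iv F22372)) (tt N5671 F17984) (tt N4217 (iv D5740)) (tt N7225 D7318) (tt N6778 (iv F21655)) (tt N7226 D7319) (tt N6781 (iv F21668)))
theorem Q5673 : ∀ i, i < 5673 → P i := stepQ 5672 Q5672 (allL N5672 (tt N5672 F17985) (tt N6971 (iv F22373)) (tt N4221 F17986) (tt N7226 (iv F23144)) (tt N4220 F17987) (tt N7227 D7320) (tt N4217 (iv D5741)) (tt N4282 F17988))
theorem Q5674 : ∀ i, i < 5674 → P i := stepQ 5673 Q5673 (allL N5673 (tt N5673 F17989) (tt N6843 (iv F21936)) (tt N4223 F17990) (tt N6835 (iv F21913)) (tt N6779 (iv F21659)) (tt N7228 D7321) (tt N4218 (iv D5742)) (tt N6782 (iv F21672)))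
theorem Q5675 : ∀ i, i < 5675 → P i := stepQ 5674 Q5674 (allL N5674 (tt N5674 F17991) (tt N6975 (iv F22388)) (tt N6817 F21847) (tt N7225 (iv F23141)) (tt N4219 (iv D5743)) (tt N6833 (iv F21904)) (tt N7229 D7322) (tt N6710 (iv F21429)))
theorem Q5676 : ∀ i, i < 5676 → P i := stepQ 5675 Q5675 (allL N5675 (tt N5675 F17992) (tt N6976 (iv F22392)) (tt N6311 (iv F20011)) (tt N4220 F17993) (tt N7229 (iv F23153)) (tt N7230 D7323) (tt N4219 (iv D5744)) (tt N7231 D7324))
theorem Q5677 : ∀ i, i < 5677 → P i := stepQ 5676 Q5676 (allL N5676 (tt N5676 F17994) (tt N7232 D7325) (tt N4225 F17995) (tt N7230 (iv F23155)) (tt N7227 (iv F23147)) (tt N4220 (iv D5745)) (tt N7228 (iv F23151)) (tt N4290 F17996))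
theorem Q5678 : ∀ i, i < 5678 → P i := stepQ 5677 Q5677 (allL N5677 (tt N5677 F17997) (tt N6305 (iv F19990)) (tt N7227 (iv F23146)) (tt N5677 F17998) (tt N4225 F17999) (tt N4221 (iv D5746)) (tt N6798 (iv F21727)) (tt N4293 F18000))
theorem Q5679 : ∀ i, i < 5679 → P i := stepQ 5678 Q5678 (allL N5678 (tt N5678 F18001) (tt N5678 F18002) (tt N6832 (iv F21897)) (tt N4223 F18003) (tt N5678 F18004) (tt N6303 (iv F19984)) (tt N4222 (iv D5747)) (tt N5678 F18005))
theorem Q5680 : ∀ i, i < 5680 → P i := stepQ 5679 Q5679 (allL N5679 (tt N5679 F18006) (tt N6306 (iv F19995)) (tt N7228 (iv F23150)) (tt N6303 (iv F19982)) (tt N6798 (iv F21726)) (tt N4223 (iv D5748)) (tt N4225 F18007) (tt N6796 (iv F21719)))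
theorem Q5681 : ∀ i, i < 5681 → P i := stepQ 5680 Q5680 (allL N5680 (tt N6801 (iv F21736)) (tt N5680 F18008) (tt N6811 (iv F21829)) (tt N4235 F18009) (tt N5680 F18010) (tt N6242 (iv F19772)) (tt N4230 (iv D5749)) (tt N7233 D7326))
theorem Q5682 : ∀ i, i < 5682 → P i := stepQ 5681 Q5681 (allL N5681 (tt N4234 F18011) (tt N6790 (iv F21700)) (tt N6734 (iv F21504)) (tt N5681 F18012) (tt N4232 F18013) (tt N4231 (iv D5750)) (tt N7234 D7327) (tt N7002 (iv F22471)))
theorem Q5683 : ∀ i, i < 5683 → P i := stepQ 5682 Q5682 (allL N5682 (tt N4235 F18014) (tt N6791 (iv F21706)) (tt N6735 (iv F21507)) (tt N6801 (iv F21739)) (tt N7234 (iv F23165)) (tt N7235 D7328) (tt N4232 (iv D5751)) (tt N7236 D7329))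
theorem Q5684 : ∀ i, i < 5684 → P i := stepQ 5683 Q5683 (allL N5683 (tt N4236 F18015) (tt N5101 F18016) (tt N6736 (iv F21509)) (tt N5322 F18017) (tt N4657 F18018) (tt N4233 (iv D5752)) (tt N7235 (iv F23170)) (tt N5099 F18019))
theorem Q5685 : ∀ i, i < 5685 → P i := stepQ 5684 Q5684 (allL N5684 (tt N7234 (iv F23163)) (tt N5684 F18020) (tt N6737 (iv F21512)) (tt N5684 F18021) (tt N4235 F18022) (tt N4658 F18023) (tt N4234 (iv D5753)) (tt N7237 D7330))
theorem Q5686 : ∀ i, i < 5686 → P i := stepQ 5685 Q5685 (allL N5685 (tt N7235 (iv F23167)) (tt N6244 (iv F19779)) (tt N6738 (iv F21515)) (tt N6242 (iv F19770)) (tt N4658 F18024) (tt N4235 (iv D5754)) (tt N4236 F18025) (tt N7238 D7331))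
theorem Q5687 : ∀ i, i < 5687 → P i := stepQ 5686 Q5686 (allL N5686 (tt N7236 (iv F23172)) (tt N5686 F18026) (tt N6739 (iv F21518)) (tt N7239 D7332) (tt N7237 (iv F23174)) (tt N7238 (iv F23177)) (tt N7012 (iv F22499)) (tt N4235 (iv D5755)))
theorem Q5688 : ∀ i, i < 5688 → P i := stepQ 5687 Q5687 (allL N5687 (tt N5099 F18027) (tt N5076 F18028) (tt N6740 (iv F21520)) (tt N5078 F18029) (tt N4549 F18030) (tt N4237 F18031) (tt N7240 D7333) (tt N4236 (iv D5756)))
theorem Q5689 : ∀ i, i < 5689 → P i := stepQ 5688 Q5688 (allL N5688 (tt N5688 F18032) (tt N5075 F18033) (tt N4239 F18034) (tt N7241 D7334) (tt N4291 F18035) (tt N6713 (iv F21439)) (tt N7242 D7335) (tt N4238 (iv D5757)))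
theorem Q5690 : ∀ i, i < 5690 → P i := stepQ 5689 Q5689 (allL N5689 (tt N5689 F18036) (tt N4240 F18037) (tt N7242 (iv F23189)) (tt N4300 F18038) (tt N4292 F18039) (tt N7243 D7336) (tt N4239 (iv D5758)) (tt N5689 F18040))
theorem Q5691 : ∀ i, i < 5691 → P i := stepQ 5690 Q5690 (allL N5690 (tt N5690 F18041) (tt N4244 (iv D5759)) (tt N6787 (iv F21689)) (tt N5690 F18042) (tt N4245 F18043) (tt N6790 (iv F21703)) (tt N7244 D7337) (tt N7029 (iv F22560)))
theorem Q5692 : ∀ i, i < 5692 → P i := stepQ 5691 Q5691 (allL N5691 (tt N4247 F18044) (tt N7244 (iv F23197)) (tt N4250 F18045) (tt N5691 F18046) (tt N4246 F18047) (tt N4660 F18048) (tt N4244 (iv D5760)) (tt N7057 (iv F22675)))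
theorem Q5693 : ∀ i, i < 5693 → P i := stepQ 5692 Q5692 (allL N5692 (tt N5692 F18049) (tt N4246 F18050) (tt N6788 (iv F21694)) (tt N5823 (iv F18456)) (tt N7244 (iv F23199)) (tt N7245 D7338) (tt N4245 (iv D5761)) (tt N7246 D7339))
theorem Q5694 : ∀ i, i < 5694 → P i := stepQ 5693 Q5693 (allL N5693 (tt N4248 F18051) (tt N7246 (iv F23208)) (tt N4254 F18052) (tt N5693 F18053) (tt N7057 (iv F22674)) (tt N4491 F18054) (tt N7034 (iv F22582)) (tt N4246 (iv D5762)))
theorem Q5695 : ∀ i, i < 5695 → P i := stepQ 5694 Q5694 (allL N5694 (tt N4263 F18055) (tt N6787 (iv F21688)) (tt N4249 (iv D5763)) (tt N7247 D7340) (tt N4251 F18056) (tt N6757 (iv F21589)) (tt N7248 D7341) (tt N7044 (iv F22625)))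
theorem Q5696 : ∀ i, i < 5696 → P i := stepQ 5695 Q5695 (allL N5695 (tt N4264 F18057) (tt N4250 F18058) (tt N7248 (iv F23215)) (tt N4825 F18059) (tt N4252 F18060) (tt N7249 D7342) (tt N4249 (iv D5764)) (tt N7250 D7343))
theorem Q5697 : ∀ i, i < 5697 → P i := stepQ 5696 Q5696 (allL N5696 (tt N4256 F18061) (tt N7250 (iv F23222)) (tt N7057 (iv F22672)) (tt N7251 D7344) (tt N4254 F18062) (tt N4495 F18063) (tt N7047 (iv F22638)) (tt N4250 (iv D5765)))
theorem Q5698 : ∀ i, i < 5698 → P i := stepQ 5697 Q5697 (allL N5697 (tt N4267 F18064) (tt N6788 (iv F21693)) (tt N4252 F18065) (tt N6786 (iv F21686)) (tt N7248 (iv F23216)) (tt N7252 D7345) (tt N4251 (iv D5766)) (tt N7253 D7346))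
theorem Q5699 : ∀ i, i < 5699 → P i := stepQ 5698 Q5698 (allL N5698 (tt N4268 F18066) (tt N7254 D7347) (tt N7252 (iv F23229)) (tt N5698 F18067) (tt N7249 (iv F23220)) (tt N4252 (iv D5767)) (tt N6761 (iv F21603)) (tt N7255 D7348))
theorem Q5700 : ∀ i, i < 5700 → P i := stepQ 5699 Q5699 (allL N5699 (tt N4269 F18068) (tt N4254 F18069) (tt N7253 (iv F23231)) (tt N4512 (iv F18070)) (tt N7250 (iv F23223)) (tt N7255 (iv F23239)) (tt N7051 (iv F22650)) (tt N4252 (iv D5768)))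
theorem Q5701 : ∀ i, i < 5701 → P i := stepQ 5700 Q5700 (allL N5700 (tt N5700 F18071) (tt N4253 (iv D5769)) (tt N6226 (iv F19715)) (tt N5700 F18072) (tt N4813 F18073) (tt N7254 (iv F23235)) (tt N4255 F18074) (tt N4493 F18075))
theorem Q5702 : ∀ i, i < 5702 → P i := stepQ 5701 Q5701 (allL N5701 (tt N5701 F18076) (tt N5098 F18077) (tt N4255 (iv D5770)) (tt N7256 D7349) (tt N4812 F18078) (tt N5905 (iv F18723)) (tt N6226 (iv F19716)) (tt N4475 F18079))
theorem Q5703 : ∀ i, i < 5703 → P i := stepQ 5702 Q5702 (allL N5702 (tt N7251 (iv F23224)) (tt N4278 F18080) (tt N7257 D7350) (tt N4256 (iv D5771)) (tt N4514 F18081) (tt N4496 F18082) (tt N7054 (iv F22660)) (tt N4833 F18083))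
theorem Q5704 : ∀ i, i < 5704 → P i := stepQ 5703 Q5703 (allL N5703 (tt N5703 F18084) (tt N4257 (iv D5772)) (tt N7258 D7351) (tt N5703 F18085) (tt N5703 F18086) (tt N5703 F18087) (tt N7259 D7352) (tt N7260 D7353))
theorem Q5705 : ∀ i, i < 5705 → P i := stepQ 5704 Q5704 (allL N5704 (tt N4271 F18088) (tt N7259 (iv F23256)) (tt N4260 F18089) (tt N5704 F18090) (tt N5704 F18091) (tt N5704 F18092) (tt N4257 (iv D5773)) (tt N7261 D7354))
theorem Q5706 : ∀ i, i < 5706 → P i := stepQ 5705 Q5705 (allL N5705 (tt N4272 F18093) (tt N7260 (iv F23263)) (tt N4261 F18094) (tt N7204 (iv F23071)) (tt N5705 F18095) (tt N4258 F18096) (tt N7262 D7355) (tt N4257 (iv D5774)))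
theorem Q5707 : ∀ i, i < 5707 → P i := stepQ 5706 Q5706 (allL N5706 (tt N4273 F18097) (tt N5706 F18098) (tt N4494 F18099) (tt N4258 (iv D5775)) (tt N4509 (iv F18101)) (tt N7204 (iv F23073)) (tt N7263 D7356) (tt N5706 F18100))
theorem Q5708 : ∀ i, i < 5708 → P i := stepQ 5707 Q5707 (allL N5707 (tt N4274 F18102) (tt N5707 F18103) (tt N4262 F18104) (tt N7263 (iv F23283)) (tt N5707 F18105) (tt N7264 D7357) (tt N4258 (iv D5776)) (tt N5707 F18106))
theorem Q5709 : ∀ i, i < 5709 → P i := stepQ 5708 Q5708 (allL N5708 (tt N4828 F18107) (tt N7258 (iv F23250)) (tt N4259 (iv D5777)) (tt N7265 D7358) (tt N5708 F18108) (tt N6764 (iv F21615)) (tt N7266 D7359) (tt N7267 D7360))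
theorem Q5710 : ∀ i, i < 5710 → P i := stepQ 5709 Q5709 (allL N5709 (tt N4825 F18109) (tt N4260 F18110) (tt N7266 (iv F23296)) (tt N4264 F18111) (tt N5709 F18112) (tt N7268 D7361) (tt N4259 (iv D5778)) (tt N7269 D7362))
theorem Q5711 : ∀ i, i < 5711 → P i := stepQ 5710 Q5710 (allL N5710 (tt N4829 F18113) (tt N4261 F18114) (tt N7267 (iv F23302)) (tt N5279 F18115) (tt N5710 F18116) (tt N5274 F18117) (tt N7270 D7363) (tt N4259 (iv D5779)))
theorem Q5712 : ∀ i, i < 5712 → P i := stepQ 5711 Q5711 (allL N5711 (tt N4275 F18118) (tt N7269 (iv F23313)) (tt N7261 (iv F23270)) (tt N7271 D7364) (tt N5711 F18119) (tt N5711 F18120) (tt N7272 D7365) (tt N4260 (iv D5780)))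
theorem Q5713 : ∀ i, i < 5713 → P i := stepQ 5712 Q5712 (allL N5712 (tt N4276 F18121) (tt N7270 (iv F23319)) (tt N7262 (iv F23276)) (tt N7056 (iv F22668)) (tt N5712 F18122) (tt N7273 D7366) (tt N4261 (iv D5781)) (tt N7272 (iv F23332)))
theorem Q5714 : ∀ i, i < 5714 → P i := stepQ 5713 Q5713 (allL N5713 (tt N4277 F18123) (tt N7274 D7367) (tt N7264 (iv F23287)) (tt N7057 (iv F22673)) (tt N5713 F18124) (tt N4262 (iv D5782)) (tt N7273 (iv F23338)) (tt N5713 F18125))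
theorem Q5715 : ∀ i, i < 5715 → P i := stepQ 5714 Q5714 (allL N5714 (tt N7247 (iv F23212)) (tt N5714 F18126) (tt N7265 (iv F23293)) (tt N4263 (iv D5783)) (tt N7275 D7368) (tt N6766 (iv F21621)) (tt N7276 D7369) (tt N7277 D7370))
theorem Q5716 : ∀ i, i < 5716 → P i := stepQ 5715 Q5715 (allL N5715 (tt N7248 (iv F23214)) (tt N5715 F18127) (tt N4264 F18128) (tt N7276 (iv F23351)) (tt N4267 F18129) (tt N7278 D7371) (tt N4263 (iv D5784)) (tt N7279 D7372))
theorem Q5717 : ∀ i, i < 5717 → P i := stepQ 5716 Q5716 (allL N5716 (tt N7249 (iv F23217)) (tt N5716 F18130) (tt N7278 (iv F23356)) (tt N7268 (iv F23309)) (tt N4268 F18131) (tt N4264 (iv D5785)) (tt N6768 (iv F21627)) (tt N7280 D7373))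
theorem Q5718 : ∀ i, i < 5718 → P i := stepQ 5717 Q5717 (allL N5717 (tt N7250 (iv F23221)) (tt N4265 F18132) (tt N7279 (iv F23359)) (tt N7281 D7374) (tt N4269 F18133) (tt N7280 (iv F23363)) (tt N7060 (iv F22683)) (tt N4264 (iv D5786)))
theorem Q5719 : ∀ i, i < 5719 → P i := stepQ 5718 Q5718 (allL N5718 (tt N4278 F18134) (tt N7281 (iv F23364)) (tt N7282 D7375) (tt N4265 (iv D5787)) (tt N7283 D7376) (tt N5718 F18135) (tt N7061 (iv F22686)) (tt N7271 (iv F23327)))
theorem Q5720 : ∀ i, i < 5720 → P i := stepQ 5719 Q5719 (allL N5719 (tt N6780 (iv F21661)) (tt N5719 F18136) (tt N5719 F18137) (tt N7275 (iv F23348)) (tt N4266 (iv D5788)) (tt N6771 (iv F21636)) (tt N6882 (iv F22095)) (tt N5654 F18138))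
theorem Q5721 : ∀ i, i < 5721 → P i := stepQ 5720 Q5720 (allL N5720 (tt N6786 (iv F21683)) (tt N5720 F18139) (tt N5720 F18140) (tt N4267 F18141) (tt N6882 (iv F22094)) (tt N7284 D7377) (tt N4266 (iv D5789)) (tt N6880 (iv F22088)))
theorem Q5722 : ∀ i, i < 5722 → P i := stepQ 5721 Q5721 (allL N5721 (tt N7252 (iv F23228)) (tt N7285 D7378) (tt N4268 F18142) (tt N7284 (iv F23375)) (tt N7278 (iv F23357)) (tt N4267 (iv D5790)) (tt N6773 (iv F21640)) (tt N7286 D7379))
theorem Q5723 : ∀ i, i < 5723 → P i := stepQ 5722 Q5722 (allL N5722 (tt N7253 (iv F23230)) (tt N5722 F18143) (tt N4269 F18144) (tt N7287 D7380) (tt N7279 (iv F23360)) (tt N7286 (iv F23379)) (tt N7064 (iv F22695)) (tt N4267 (iv D5791)))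
theorem Q5724 : ∀ i, i < 5724 → P i := stepQ 5723 Q5723 (allL N5723 (tt N7255 (iv F23237)) (tt N5723 F18145) (tt N7286 (iv F23378)) (tt N7288 D7381) (tt N7280 (iv F23362)) (tt N4269 F18146) (tt N7289 D7382) (tt N4268 (iv D5792)))
theorem Q5725 : ∀ i, i < 5725 → P i := stepQ 5724 Q5724 (allL N5724 (tt N4512 F18147) (tt N4270 F18148) (tt N7290 D7383) (tt N4269 (iv D5793)) (tt N7291 D7384) (tt N7288 (iv F23383)) (tt N7066 (iv F22700)) (tt N5724 F18149))
theorem Q5726 : ∀ i, i < 5726 → P i := stepQ 5725 Q5725 (allL N5725 (tt N4279 F18150) (tt N7292 D7385) (tt N4270 (iv D5794)) (tt N5725 F18151) (tt N7293 D7386) (tt N5725 F18152) (tt N4746 F18153) (tt N5725 F18154))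
theorem Q5727 : ∀ i, i < 5727 → P i := stepQ 5726 Q5726 (allL N5726 (tt N4280 F18155) (tt N7291 (iv F23389)) (tt N7293 (iv F23407)) (tt N7283 (iv F23371)) (tt N4270 (iv D5795)) (tt N5726 F18156) (tt N7067 (iv F22705)) (tt N5726 F18157))
theorem Q5728 : ∀ i, i < 5728 → P i := stepQ 5727 Q5727 (allL N5727 (tt N7261 (iv F23268)) (tt N5727 F18158) (tt N4275 F18159) (tt N5736 F18195) (tt N5727 F18160) (tt N5727 F18161) (tt N6268 (iv F19861)) (tt N4271 (iv D5796)))
theorem Q5729 : ∀ i, i < 5729 → P i := stepQ 5728 Q5728 (allL N5728 (tt N7262 (iv F23274)) (tt N5728 F18162) (tt N4276 F18163) (tt N6257 (iv F19828)) (tt N5728 F18164) (tt N6347 (iv F20156)) (tt N4272 (iv D5797)) (tt N6268 (iv F19862)))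
theorem Q5730 : ∀ i, i < 5730 → P i := stepQ 5729 Q5729 (allL N5729 (tt N7263 (iv F23280)) (tt N4379 F18165) (tt N4496 F18166) (tt N4274 F18167) (tt N4513 F18168) (tt N7257 (iv F23247)) (tt N4273 (iv D5798)) (tt N4835 (iv F18169)))
theorem Q5731 : ∀ i, i < 5731 → P i := stepQ 5730 Q5730 (allL N5730 (tt N7264 (iv F23286)) (tt N6348 (iv F20158)) (tt N4277 F18170) (tt N7257 (iv F23245)) (tt N5730 F18171) (tt N4274 (iv D5799)) (tt N6347 (iv F20157)) (tt N5730 F18172))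
theorem Q5732 : ∀ i, i < 5732 → P i := stepQ 5731 Q5731 (allL N5731 (tt N7271 (iv F23325)) (tt N4833 F18173) (tt N5735 (iv F18186)) (tt N4275 (iv D5800)) (tt N5734 F18184) (tt N5731 F18174) (tt N7294 D7387) (tt N4278 F18175))
theorem Q5733 : ∀ i, i < 5733 → P i := stepQ 5732 Q5732 (allL N5732 (tt N7272 (iv F23328)) (tt N4834 F18176) (tt N6268 (iv F19863)) (tt N7294 (iv F23414)) (tt N5732 F18177) (tt N6346 (iv F20150)) (tt N4275 (iv D5801)) (tt N4276 F18178))
theorem Q5734 : ∀ i, i < 5734 → P i := stepQ 5733 Q5733 (allL N5733 (tt N7273 (iv F23334)) (tt N5733 F18179) (tt N6347 (iv F20154)) (tt N7040 F22604) (tt N5733 F18180) (tt N4276 (iv D5802)) (tt N4277 F18181) (tt N6346 F20152))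
theorem Q5735 : ∀ i, i < 5735 → P i := stepQ 5734 Q5734 (allL N5734 (tt N7282 (iv F23365)) (tt N5992 (iv F19027)) (tt N4278 (iv D5803)) (tt N5734 F18182) (tt N5731 (iv F18184)) (tt N5734 F18183) (tt N7068 (iv F22709)) (tt N5735 (iv F18189)))
theorem Q5736 : ∀ i, i < 5736 → P i := stepQ 5735 Q5735 (allL N5735 (tt N7283 (iv F23369)) (tt N4514 F18185) (tt N5731 F18186) (tt N4280 F18187) (tt N4278 (iv D5804)) (tt N5735 F18188) (tt N7069 (iv F22713)) (tt N5734 F18189))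
theorem Q5737 : ∀ i, i < 5737 → P i := stepQ 5736 Q5736 (allL N5736 (tt N7293 (iv F23405)) (tt N5736 F18190) (tt N4280 F18191) (tt N5727 (iv F18195)) (tt N4279 (iv D5805)) (tt N5736 F18192) (tt N4747 F18193) (tt N5736 F18194))
theorem Q5738 : ∀ i, i < 5738 → P i := stepQ 5737 Q5737 (allL N5737 (tt N5737 F18196) (tt N6633 (iv F21152)) (tt N6608 F21053) (tt N4288 F18197) (tt N4281 (iv D5806)) (tt N6710 (iv F21428)) (tt N7295 D7388) (tt N6833 (iv F21905)))
theorem Q5739 : ∀ i, i < 5739 → P i := stepQ 5738 Q5738 (allL N5738 (tt N5738 F18198) (tt N6638 (iv F21174)) (tt N6611 (iv F21063)) (tt N4282 F18199) (tt N7295 (iv F23418)) (tt N7296 D7389) (tt N4281 (iv D5807)) (tt N7297 D7390))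
theorem Q5740 : ∀ i, i < 5740 → P i := stepQ 5739 Q5739 (allL N5739 (tt N5739 F18200) (tt N7298 D7391) (tt N4293 F18201) (tt N7296 (iv F23422)) (tt N4290 F18202) (tt N4282 (iv D5808)) (tt N6712 (iv F21435)) (tt N7227 (iv F23148)))
theorem Q5741 : ∀ i, i < 5741 → P i := stepQ 5740 Q5740 (allL N5740 (tt N7062 (iv F22687)) (tt N4286 F18203) (tt N4522 F18204) (tt N7049 (iv F22645)) (tt N6444 (iv F20515)) (tt N7299 D7392) (tt N4284 (iv D5809)) (tt N6503 (iv F20728)))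
theorem Q5742 : ∀ i, i < 5742 → P i := stepQ 5741 Q5741 (allL N5741 (tt N5741 F18205) (tt N7044 (iv F22622)) (tt N7029 F22561) (tt N6710 (iv F21427)) (tt N4285 (iv D5810)) (tt N4288 F18206) (tt N7300 D7393) (tt N6787 (iv F21691)))
theorem Q5743 : ∀ i, i < 5743 → P i := stepQ 5742 Q5742 (allL N5742 (tt N5742 F18207) (tt N7049 (iv F22643)) (tt N7032 (iv F22571)) (tt N4286 F18208) (tt N7300 (iv F23431)) (tt N7301 D7394) (tt N4285 (iv D5811)) (tt N7302 D7395))
theorem Q5744 : ∀ i, i < 5744 → P i := stepQ 5743 Q5743 (allL N5743 (tt N5743 F18209) (tt N7303 D7396) (tt N4296 F18210) (tt N7301 (iv F23435)) (tt N6712 (iv F21434)) (tt N4286 (iv D5812)) (tt N4290 F18211) (tt N6785 (iv F21682)))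
theorem Q5745 : ∀ i, i < 5745 → P i := stepQ 5744 Q5744 (allL N5744 (tt N5744 F18212) (tt N7002 F22472) (tt N4288 F18213) (tt N7304 D7397) (tt N4287 (iv D5813)) (tt N7029 (iv F22559)) (tt N7305 D7398) (tt N6790 (iv F21704)))
theorem Q5746 : ∀ i, i < 5746 → P i := stepQ 5745 Q5745 (allL N5745 (tt N5745 F18214) (tt N7004 (iv F22478)) (tt N4289 F18215) (tt N4299 F18216) (tt N7305 (iv F23448)) (tt N7306 D7399) (tt N4287 (iv D5814)) (tt N7307 D7400))
theorem Q5747 : ∀ i, i < 5747 → P i := stepQ 5746 Q5746 (allL N5746 (tt N5746 F18217) (tt N7083 (iv F22744)) (tt N7305 (iv F23447)) (tt N7295 (iv F23417)) (tt N4289 F18218) (tt N7308 D7401) (tt N4288 (iv D5815)) (tt N7309 D7402))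
theorem Q5748 : ∀ i, i < 5748 → P i := stepQ 5747 Q5747 (allL N5747 (tt N5747 F18219) (tt N7310 D7403) (tt N7306 (iv F23450)) (tt N4290 F18220) (tt N7308 (iv F23456)) (tt N4289 (iv D5816)) (tt N7301 (iv F23437)) (tt N7311 D7404))
theorem Q5749 : ∀ i, i < 5749 → P i := stepQ 5748 Q5748 (allL N5748 (tt N5748 F18221) (tt N7085 (iv F22747)) (tt N7307 (iv F23453)) (tt N7231 (iv F23157)) (tt N7309 (iv F23461)) (tt N7311 (iv F23468)) (tt N6794 (iv F21714)) (tt N4289 (iv D5817)))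
theorem Q5750 : ∀ i, i < 5750 → P i := stepQ 5749 Q5749 (allL N5749 (tt N7312 D7405) (tt N4290 (iv D5818)) (tt N7313 D7406) (tt N7310 (iv F23464)) (tt N7298 (iv F23428)) (tt N7086 (iv F22748)) (tt N7303 (iv F23442)) (tt N7232 (iv F23158)))
theorem Q5751 : ∀ i, i < 5751 → P i := stepQ 5750 Q5750 (allL N5750 (tt N5750 F18222) (tt N6600 (iv F21021)) (tt N4292 F18223) (tt N6611 (iv F21064)) (tt N7242 (iv F23190)) (tt N7314 D7407) (tt N4291 (iv D5819)) (tt N5750 F18224))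
theorem Q5752 : ∀ i, i < 5752 → P i := stepQ 5751 Q5751 (allL N5751 (tt N5751 F18225) (tt N7315 D7408) (tt N7314 (iv F23473)) (tt N4293 F18226) (tt N7243 (iv F23194)) (tt N4292 (iv D5820)) (tt N6716 (iv F21449)) (tt N5751 F18227))
theorem Q5753 : ∀ i, i < 5753 → P i := stepQ 5752 Q5752 (allL N5752 (tt N6166 (iv F19511)) (tt N4293 (iv D5821)) (tt N7316 D7409) (tt N7315 (iv F23475)) (tt N4302 F18228) (tt N4311 F18229) (tt N6718 (iv F21456)) (tt N6305 (iv F19993)))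
theorem Q5754 : ∀ i, i < 5754 → P i := stepQ 5753 Q5753 (allL N5753 (tt N5753 F18230) (tt N7024 (iv F22535)) (tt N4295 F18231) (tt N7032 (iv F22572)) (tt N6827 (iv F21878)) (tt N7317 D7410) (tt N4294 (iv D5822)) (tt N5753 F18232))
theorem Q5755 : ∀ i, i < 5755 → P i := stepQ 5754 Q5754 (allL N5754 (tt N5754 F18233) (tt N6134 (iv F19430)) (tt N7317 (iv F23481)) (tt N4296 F18234) (tt N6828 (iv F21881)) (tt N4295 (iv D5823)) (tt N4301 F18235) (tt N5754 F18236))
theorem Q5756 : ∀ i, i < 5756 → P i := stepQ 5755 Q5755 (allL N5755 (tt N6167 (iv F19515)) (tt N4296 (iv D5824)) (tt N7318 D7411) (tt N6134 (iv F19431)) (tt N6718 (iv F21454)) (tt N4537 F18237) (tt N4302 F18238) (tt N6797 (iv F21723)))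
theorem Q5757 : ∀ i, i < 5757 → P i := stepQ 5756 Q5756 (allL N5756 (tt N5598 F18239) (tt N4298 F18240) (tt N4313 F18241) (tt N7319 D7412) (tt N4297 (iv D5825)) (tt N6994 (iv F22442)) (tt N7320 D7413) (tt N4305 F18242))
theorem Q5758 : ∀ i, i < 5758 → P i := stepQ 5757 Q5757 (allL N5757 (tt N6998 (iv F22455)) (tt N4299 F18243) (tt N4315 F18244) (tt N7004 (iv F22479)) (tt N7320 (iv F23493)) (tt N7321 D7414) (tt N4297 (iv D5826)) (tt N6116 (iv F19370)))
theorem Q5759 : ∀ i, i < 5759 → P i := stepQ 5758 Q5758 (allL N5758 (tt N5758 F18245) (tt N7319 (iv F23487)) (tt N7241 (iv F23185)) (tt N4298 (iv D5827)) (tt N7304 (iv F23444)) (tt N6826 (iv F21874)) (tt N7322 D7415) (tt N5758 F18246))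
theorem Q5760 : ∀ i, i < 5760 → P i := stepQ 5759 Q5759 (allL N5759 (tt N5759 F18247) (tt N7320 (iv F23491)) (tt N4300 F18248) (tt N7322 (iv F23497)) (tt N4299 F18249) (tt N7323 D7416) (tt N4298 (iv D5828)) (tt N4589 F18250))
theorem Q5761 : ∀ i, i < 5761 → P i := stepQ 5760 Q5760 (allL N5760 (tt N5760 F18251) (tt N7324 D7417) (tt N4301 F18252) (tt N7306 (iv F23451)) (tt N7323 (iv F23500)) (tt N4299 (iv D5829)) (tt N7317 (iv F23482)) (tt N6133 (iv F19428)))
theorem Q5762 : ∀ i, i < 5762 → P i := stepQ 5761 Q5761 (allL N5761 (tt N5761 F18253) (tt N6123 (iv F19392)) (tt N7323 (iv F23499)) (tt N7243 (iv F23193)) (tt N4301 F18254) (tt N4300 (iv D5830)) (tt N6828 (iv F21882)) (tt N4590 F18255))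
theorem Q5763 : ∀ i, i < 5763 → P i := stepQ 5762 Q5762 (allL N5762 (tt N6165 (iv F19508)) (tt N7313 (iv F23471)) (tt N4302 (iv D5831)) (tt N7325 D7418) (tt N7316 (iv F23478)) (tt N4317 F18256) (tt N7318 (iv F23485)) (tt N6304 (iv F19988)))
theorem Q5764 : ∀ i, i < 5764 → P i := stepQ 5763 Q5763 (allL N5763 (tt N4307 F18257) (tt N5763 F18258) (tt N4319 F18259) (tt N6808 (iv F21761)) (tt N4566 F18260) (tt N7326 D7419) (tt N4304 (iv D5832)) (tt N6104 (iv F19336)))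
theorem Q5765 : ∀ i, i < 5765 → P i := stepQ 5764 Q5764 (allL N5764 (tt N6086 (iv F19275)) (tt N6377 (iv F20259)) (tt N4320 F18261) (tt N5764 F18262) (tt N4306 F18263) (tt N4305 (iv D5833)) (tt N7327 D7420) (tt N6994 (iv F22443)))
theorem Q5766 : ∀ i, i < 5766 → P i := stepQ 5765 Q5765 (allL N5765 (tt N6283 (iv F19911)) (tt N5822 (iv F18451)) (tt N4321 F18264) (tt N5821 F18449) (tt N7327 (iv F23509)) (tt N7328 D7421) (tt N4306 (iv D5834)) (tt N5830 (iv F18475)))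
theorem Q5767 : ∀ i, i < 5767 → P i := stepQ 5766 Q5766 (allL N5766 (tt N7326 (iv F23503)) (tt N5766 F18265) (tt N4322 F18266) (tt N6375 F20253) (tt N4576 F18267) (tt N4307 (iv D5835)) (tt N7328 (iv F23514)) (tt N6072 (iv F19249)))
theorem Q5768 : ∀ i, i < 5768 → P i := stepQ 5767 Q5767 (allL N5767 (tt N4890 F18268) (tt N4309 F18269) (tt N6600 (iv F21022)) (tt N4885 F18270) (tt N5077 F18271) (tt N7329 D7422) (tt N4308 (iv D5836)) (tt N5767 F18272))
theorem Q5769 : ∀ i, i < 5769 → P i := stepQ 5768 Q5768 (allL N5768 (tt N4333 F18273) (tt N7330 D7423) (tt N4310 F18274) (tt N5408 F18275) (tt N5592 F18276) (tt N4309 (iv D5837)) (tt N4551 F18277) (tt N5768 F18278))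
theorem Q5770 : ∀ i, i < 5770 → P i := stepQ 5769 Q5769 (allL N5769 (tt N6149 (iv F19469)) (tt N4310 (iv D5838)) (tt N7331 D7424) (tt N4311 F18279) (tt N6124 (iv F19397)) (tt N7315 (iv F23476)) (tt N4552 F18280) (tt N5769 F18281))
theorem Q5771 : ∀ i, i < 5771 → P i := stepQ 5770 Q5770 (allL N5770 (tt N6169 (iv F19522)) (tt N7129 (iv F22869)) (tt N4311 (iv D5839)) (tt N7332 D7425) (tt N4317 F18282) (tt N7316 (iv F23479)) (tt N4554 F18283) (tt N6308 (iv F20004)))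
theorem Q5772 : ∀ i, i < 5772 → P i := stepQ 5771 Q5771 (allL N5771 (tt N4315 F18284) (tt N4334 F18285) (tt N6998 (iv F22457)) (tt N5585 F18286) (tt N5600 F18287) (tt N7333 D7426) (tt N4312 (iv D5840)) (tt N6105 (iv F19341)))
theorem Q5773 : ∀ i, i < 5773 → P i := stepQ 5772 Q5772 (allL N5772 (tt N5599 F18288) (tt N4331 F18289) (tt N6994 (iv F22441)) (tt N5593 F18290) (tt N4314 F18291) (tt N4313 (iv D5841)) (tt N7334 D7427) (tt N4320 F18292))
theorem Q5774 : ∀ i, i < 5774 → P i := stepQ 5773 Q5773 (allL N5773 (tt N5600 F18293) (tt N4316 F18294) (tt N7320 (iv F23492)) (tt N5594 F18295) (tt N4315 F18296) (tt N7335 D7428) (tt N4313 (iv D5842)) (tt N4580 F18297))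
theorem Q5775 : ∀ i, i < 5775 → P i := stepQ 5774 Q5774 (allL N5774 (tt N6991 (iv F22428)) (tt N4557 F18298) (tt N6995 (iv F22446)) (tt N7130 (iv F22873)) (tt N7334 (iv F23533)) (tt N7336 D7429) (tt N4314 (iv D5843)) (tt N7337 D7430))
theorem Q5776 : ∀ i, i < 5776 → P i := stepQ 5775 Q5775 (allL N5775 (tt N7333 (iv F23527)) (tt N6115 (iv F19365)) (tt N7321 (iv F23495)) (tt N7131 (iv F22874)) (tt N7335 (iv F23536)) (tt N4315 (iv D5844)) (tt N7336 (iv F23538)) (tt N6114 F19364))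
theorem Q5777 : ∀ i, i < 5777 → P i := stepQ 5776 Q5776 (allL N5776 (tt N6163 (iv F19505)) (tt N7136 (iv F22887)) (tt N6132 (iv F19422)) (tt N4317 (iv D5845)) (tt N7338 D7431) (tt N7325 (iv F23502)) (tt N4562 F18299) (tt N7339 D7432))
theorem Q5778 : ∀ i, i < 5778 → P i := stepQ 5777 Q5777 (allL N5777 (tt N4321 F18300) (tt N6988 (iv F22422)) (tt N6283 (iv F19913)) (tt N4325 F18301) (tt N6087 (iv F19283)) (tt N7340 D7433) (tt N4318 (iv D5846)) (tt N7341 D7434))
theorem Q5779 : ∀ i, i < 5779 → P i := stepQ 5778 Q5778 (allL N5778 (tt N4322 F18302) (tt N6061 (iv F19219)) (tt N7326 (iv F23504)) (tt N4326 F18303) (tt N4567 F18304) (tt N4319 (iv D5847)) (tt N7340 (iv F23546)) (tt N6059 F19215))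
theorem Q5780 : ∀ i, i < 5780 → P i := stepQ 5779 Q5779 (allL N5779 (tt N6087 (iv F19281)) (tt N4329 F18305) (tt N7327 (iv F23507)) (tt N4581 F18306) (tt N4321 F18307) (tt N4578 F18308) (tt N4320 (iv D5848)) (tt N7342 D7435))
theorem Q5781 : ∀ i, i < 5781 → P i := stepQ 5780 Q5780 (allL N5780 (tt N7340 (iv F23543)) (tt N4581 F18309) (tt N7328 (iv F23512)) (tt N4329 F18310) (tt N4578 F18311) (tt N4321 (iv D5849)) (tt N4322 F18312) (tt N7343 D7436))
theorem Q5782 : ∀ i, i < 5782 → P i := stepQ 5781 Q5781 (allL N5781 (tt N7341 (iv F23547)) (tt N4565 F18313) (tt N5830 F18476) (tt N7344 D7437) (tt N7342 (iv F23549)) (tt N7343 (iv F23553)) (tt N7337 (iv F23541)) (tt N4321 (iv D5850)))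
theorem Q5783 : ∀ i, i < 5783 → P i := stepQ 5782 Q5782 (allL N5782 (tt N4569 F18314) (tt N4323 (iv D5851)) (tt N6975 (iv F22389)) (tt N4575 F18315) (tt N4324 F18316) (tt N4337 F18317) (tt N7345 D7438) (tt N5792 (iv F18347)))
theorem Q5784 : ∀ i, i < 5784 → P i := stepQ 5783 Q5783 (allL N5783 (tt N4328 F18318) (tt N7345 (iv F23557)) (tt N6818 (iv F21849)) (tt N4573 F18319) (tt N4325 F18320) (tt N4564 F18321) (tt N4323 (iv D5852)) (tt N7346 D7439))
theorem Q5785 : ∀ i, i < 5785 → P i := stepQ 5784 Q5784 (allL N5784 (tt N4572 F18322) (tt N4325 F18323) (tt N6976 (iv F22393)) (tt N6988 (iv F22424)) (tt N7345 (iv F23559)) (tt N7347 D7440) (tt N4324 (iv D5853)) (tt N7348 D7441))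
theorem Q5786 : ∀ i, i < 5786 → P i := stepQ 5785 Q5785 (allL N5785 (tt N4329 F18324) (tt N7349 D7442) (tt N6819 (iv F21854)) (tt N7340 (iv F23544)) (tt N4564 F18325) (tt N4325 (iv D5854)) (tt N4326 F18326) (tt N7350 D7443))
theorem Q5787 : ∀ i, i < 5787 → P i := stepQ 5786 Q5786 (allL N5786 (tt N4330 F18327) (tt N7348 (iv F23566)) (tt N6820 (iv F21858)) (tt N7351 D7444) (tt N7346 (iv F23561)) (tt N7350 (iv F23572)) (tt N7152 (iv F22936)) (tt N4325 (iv D5855)))
theorem Q5788 : ∀ i, i < 5788 → P i := stepQ 5787 Q5787 (allL N5787 (tt N5930 (iv F18808)) (tt N4326 (iv D5856)) (tt N5648 F18328) (tt N6061 (iv F19220)) (tt N4563 F18329) (tt N4343 F18330) (tt N7349 (iv F23569)) (tt N4447 (iv F18331)))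
theorem Q5789 : ∀ i, i < 5789 → P i := stepQ 5788 Q5788 (allL N5788 (tt N4331 F18332) (tt N4447 F18333) (tt N5508 F18334) (tt N4457 (iv F18337)) (tt N4555 F18335) (tt N4327 F18336) (tt N7352 D7445) (tt N4326 (iv D5857)))
theorem Q5790 : ∀ i, i < 5790 → P i := stepQ 5789 Q5789 (allL N5789 (tt N7346 (iv F23560)) (tt N4582 F18338) (tt N6821 (iv F21860)) (tt N7353 D7446) (tt N4330 F18339) (tt N4565 F18340) (tt N7157 (iv F22949)) (tt N4328 (iv D5858)))
theorem Q5791 : ∀ i, i < 5791 → P i := stepQ 5790 Q5790 (allL N5790 (tt N7350 (iv F23570)) (tt N7342 (iv F23548)) (tt N6822 (iv F21863)) (tt N7354 D7447) (tt N4565 F18341) (tt N4330 F18342) (tt N7355 D7448) (tt N4329 (iv D5859)))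
theorem Q5792 : ∀ i, i < 5792 → P i := stepQ 5791 Q5791 (allL N5791 (tt N7351 (iv F23573)) (tt N4584 F18343) (tt N7356 D7449) (tt N4330 (iv D5860)) (tt N7357 D7450) (tt N7354 (iv F23582)) (tt N7160 (iv F22954)) (tt N7344 (iv F23555)))
theorem Q5793 : ∀ i, i < 5793 → P i := stepQ 5792 Q5792 (allL N5792 (tt N4457 F18344) (tt N5593 F18345) (tt N7358 D7451) (tt N4331 (iv D5861)) (tt N5595 (iv F18348)) (tt N4332 F18346) (tt N7359 D7452) (tt N5782 F18347))
theorem Q5794 : ∀ i, i < 5794 → P i := stepQ 5793 Q5793 (allL N5793 (tt N7352 (iv F23574)) (tt N7334 (iv F23531)) (tt N6824 (iv F21867)) (tt N7359 (iv F23594)) (tt N4557 F18349) (tt N7164 (iv F22962)) (tt N4331 (iv D5862)) (tt N7355 (iv F23584)))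
theorem Q5795 : ∀ i, i < 5795 → P i := stepQ 5794 Q5794 (allL N5794 (tt N4459 F18350) (tt N5619 F18351) (tt N4332 (iv D5863)) (tt N6825 (iv F21870)) (tt N5617 F18352) (tt N7358 (iv F23589)) (tt N7165 (iv F22964)) (tt N5796 (iv F18359)))
theorem Q5796 : ∀ i, i < 5796 → P i := stepQ 5795 Q5795 (allL N5795 (tt N4602 F18353) (tt N4336 F18354) (tt N6986 (iv F22418)) (tt N4340 F18355) (tt N5931 (iv F18817)) (tt N7360 D7453) (tt N4335 (iv D5864)) (tt N5944 (iv F18870)))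
theorem Q5797 : ∀ i, i < 5797 → P i := stepQ 5796 Q5796 (allL N5796 (tt N4606 F18356) (tt N4345 F18357) (tt N4337 (iv D5865)) (tt N7361 D7454) (tt N4339 F18358) (tt N6975 (iv F22390)) (tt N7362 D7455) (tt N5794 F18359))
theorem Q5798 : ∀ i, i < 5798 → P i := stepQ 5797 Q5797 (allL N5797 (tt N4607 F18360) (tt N4338 F18361) (tt N7362 (iv F23603)) (tt N4613 F18362) (tt N4340 F18363) (tt N7363 D7456) (tt N4337 (iv D5866)) (tt N7364 D7457))
theorem Q5799 : ∀ i, i < 5799 → P i := stepQ 5798 Q5798 (allL N5798 (tt N4344 F18364) (tt N7364 (iv F23610)) (tt N4347 F18365) (tt N5576 F18366) (tt N4342 F18367) (tt N4439 F18368) (tt N5591 F18369) (tt N4338 (iv D5867)))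
theorem Q5800 : ∀ i, i < 5800 → P i := stepQ 5799 Q5799 (allL N5799 (tt N4610 F18370) (tt N4349 F18371) (tt N4340 F18372) (tt N6974 (iv F22386)) (tt N7362 (iv F23604)) (tt N7365 D7458) (tt N4339 (iv D5868)) (tt N7366 D7459))
theorem Q5801 : ∀ i, i < 5801 → P i := stepQ 5800 Q5800 (allL N5800 (tt N4611 F18373) (tt N7367 D7460) (tt N7365 (iv F23615)) (tt N7360 (iv F23597)) (tt N7363 (iv F23608)) (tt N4340 (iv D5869)) (tt N7347 (iv F23564)) (tt N7368 D7461))
theorem Q5802 : ∀ i, i < 5802 → P i := stepQ 5801 Q5801 (allL N5801 (tt N4612 F18374) (tt N4342 F18375) (tt N7366 (iv F23618)) (tt N4559 (iv F18376)) (tt N7364 (iv F23612)) (tt N7368 (iv F23624)) (tt N6047 (iv F19190)) (tt N4340 (iv D5870)))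
theorem Q5803 : ∀ i, i < 5803 → P i := stepQ 5802 Q5802 (allL N5802 (tt N5931 (iv F18814)) (tt N4341 (iv D5871)) (tt N7369 D7462) (tt N6062 (iv F19225)) (tt N4602 F18377) (tt N7367 (iv F23620)) (tt N4343 F18378) (tt N4438 F18379))
theorem Q5804 : ∀ i, i < 5804 → P i := stepQ 5803 Q5803 (allL N5803 (tt N5928 (iv F18798)) (tt N4353 F18380) (tt N4343 (iv D5872)) (tt N7370 D7463) (tt N4601 F18381) (tt N5648 F18382) (tt N7369 (iv F23628)) (tt N4428 F18383))
theorem Q5805 : ∀ i, i < 5805 → P i := stepQ 5804 Q5804 (allL N5804 (tt N4360 F18384) (tt N7361 (iv F23599)) (tt N4761 F18385) (tt N4345 (iv D5873)) (tt N7371 D7464) (tt N6838 (iv F21920)) (tt N7372 D7465) (tt N7373 D7466))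
theorem Q5806 : ∀ i, i < 5806 → P i := stepQ 5805 Q5805 (allL N5805 (tt N4361 F18386) (tt N7362 (iv F23602)) (tt N4346 F18387) (tt N7372 (iv F23639)) (tt N4349 F18388) (tt N7374 D7467) (tt N4345 (iv D5874)) (tt N7375 D7468))
theorem Q5807 : ∀ i, i < 5807 → P i := stepQ 5806 Q5806 (allL N5806 (tt N4362 F18389) (tt N4749 F18390) (tt N7374 (iv F23643)) (tt N4754 F18391) (tt N4350 F18392) (tt N4346 (iv D5875)) (tt N6840 (iv F21928)) (tt N7376 D7469))
theorem Q5808 : ∀ i, i < 5808 → P i := stepQ 5807 Q5807 (allL N5807 (tt N4363 F18393) (tt N4347 F18394) (tt N7375 (iv F23646)) (tt N7377 D7470) (tt N4351 F18395) (tt N7376 (iv F23651)) (tt N7133 (iv F22880)) (tt N4346 (iv D5876)))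
theorem Q5809 : ∀ i, i < 5809 → P i := stepQ 5808 Q5808 (allL N5808 (tt N4354 F18396) (tt N7377 (iv F23653)) (tt N5411 F18397) (tt N4347 (iv D5877)) (tt N4432 F18398) (tt N4431 F18399) (tt N5401 F18400) (tt N4759 F18401))
theorem Q5810 : ∀ i, i < 5810 → P i := stepQ 5809 Q5809 (allL N5809 (tt N4365 F18402) (tt N6969 (iv F22368)) (tt N5809 F18403) (tt N7371 (iv F23636)) (tt N4348 (iv D5878)) (tt N6498 (iv F20713)) (tt N7378 D7471) (tt N6497 F20708))
theorem Q5811 : ∀ i, i < 5811 → P i := stepQ 5810 Q5810 (allL N5810 (tt N4366 F18404) (tt N6974 (iv F22384)) (tt N5810 F18405) (tt N4349 F18406) (tt N7378 (iv F23660)) (tt N7379 D7472) (tt N4348 (iv D5879)) (tt N7380 D7473))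
theorem Q5812 : ∀ i, i < 5812 → P i := stepQ 5811 Q5811 (allL N5811 (tt N4368 F18407) (tt N7381 D7474) (tt N4350 F18408) (tt N7379 (iv F23663)) (tt N7374 (iv F23644)) (tt N4349 (iv D5880)) (tt N6844 (iv F21941)) (tt N7382 D7475))
theorem Q5813 : ∀ i, i < 5813 → P i := stepQ 5812 Q5812 (allL N5812 (tt N4369 F18409) (tt N7366 (iv F23617)) (tt N4351 F18410) (tt N7383 D7476) (tt N7375 (iv F23647)) (tt N7382 (iv F23668)) (tt N7134 (iv F22883)) (tt N4349 (iv D5881)))
theorem Q5814 : ∀ i, i < 5814 → P i := stepQ 5813 Q5813 (allL N5813 (tt N5813 F18411) (tt N4350 (iv D5882)) (tt N7384 D7477) (tt N5813 F18412) (tt N4749 F18413) (tt N4352 F18414) (tt N6846 (iv F21948)) (tt N4414 (iv F18415)))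
theorem Q5815 : ∀ i, i < 5815 → P i := stepQ 5814 Q5814 (allL N5814 (tt N4370 F18416) (tt N4414 F18417) (tt N7382 (iv F23667)) (tt N4415 (iv F18419)) (tt N7376 (iv F23650)) (tt N4351 F18418) (tt N7385 D7478) (tt N4350 (iv D5883)))
theorem Q5816 : ∀ i, i < 5816 → P i := stepQ 5815 Q5815 (allL N5815 (tt N5815 F18420) (tt N7369 (iv F23626)) (tt N4352 (iv D5884)) (tt N7386 D7479) (tt N4748 F18421) (tt N7384 (iv F23673)) (tt N4353 F18422) (tt N4412 F18423))
theorem Q5817 : ∀ i, i < 5817 → P i := stepQ 5816 Q5816 (allL N5816 (tt N5816 F18424) (tt N7370 (iv F23630)) (tt N5816 F18425) (tt N4353 (iv D5885)) (tt N5978 (iv F18988)) (tt N5968 (iv F18949)) (tt N7386 (iv F23680)) (tt N5816 F18426))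
theorem Q5818 : ∀ i, i < 5818 → P i := stepQ 5817 Q5817 (allL N5817 (tt N4761 F18427) (tt N5817 F18428) (tt N4360 F18429) (tt N4355 (iv D5886)) (tt N7387 D7480) (tt N6861 (iv F22009)) (tt N7388 D7481) (tt N7389 D7482))
theorem Q5819 : ∀ i, i < 5819 → P i := stepQ 5818 Q5818 (allL N5818 (tt N4757 F18430) (tt N5818 F18431) (tt N4356 F18432) (tt N7388 (iv F23688)) (tt N5818 F18433) (tt N7390 D7483) (tt N4355 (iv D5887)) (tt N5275 F18439))
theorem Q5820 : ∀ i, i < 5820 → P i := stepQ 5819 Q5819 (allL N5819 (tt N4762 F18434) (tt N5819 F18435) (tt N4357 F18436) (tt N7391 D7484) (tt N5819 F18437) (tt N6863 (iv F22016)) (tt N5268 (iv F18438)) (tt N4355 (iv D5888)))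
theorem Q5821 : ∀ i, i < 5821 → P i := stepQ 5820 Q5820 (allL N5820 (tt N4754 F18440) (tt N5820 F18441) (tt N7390 (iv F23694)) (tt N4362 F18442) (tt N5820 F18443) (tt N4356 (iv D5889)) (tt N6864 (iv F22022)) (tt N7392 D7485))
theorem Q5822 : ∀ i, i < 5822 → P i := stepQ 5821 Q5821 (allL N5821 (tt N4758 F18444) (tt N4358 F18445) (tt N5275 F18446) (tt N5765 (iv F18449)) (tt N5821 F18447) (tt N7392 (iv F23707)) (tt N5263 F18448) (tt N4356 (iv D5890)))
theorem Q5823 : ∀ i, i < 5823 → P i := stepQ 5822 Q5822 (allL N5822 (tt N4374 F18450) (tt N5765 F18451) (tt N6031 (iv F19159)) (tt N4358 (iv D5891)) (tt N7393 D7486) (tt N5822 F18452) (tt N5469 F18453) (tt N4364 F18454))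
theorem Q5824 : ∀ i, i < 5824 → P i := stepQ 5823 Q5823 (allL N5823 (tt N5823 F18455) (tt N4359 (iv D5892)) (tt N5254 (iv F18460)) (tt N5692 F18456) (tt N5823 F18457) (tt N6870 (iv F22055)) (tt N5253 F18458) (tt N5823 F18459))
theorem Q5825 : ∀ i, i < 5825 → P i := stepQ 5824 Q5824 (allL N5824 (tt N7371 (iv F23634)) (tt N4629 F18461) (tt N7387 (iv F23683)) (tt N4365 F18462) (tt N4360 (iv D5893)) (tt N6871 (iv F22061)) (tt N7394 D7487) (tt N7395 D7488))
theorem Q5826 : ∀ i, i < 5826 → P i := stepQ 5825 Q5825 (allL N5825 (tt N7372 (iv F23637)) (tt N4630 F18463) (tt N7388 (iv F23687)) (tt N4361 F18464) (tt N7394 (iv F23719)) (tt N7396 D7489) (tt N4360 (iv D5894)) (tt N7397 D7490))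
theorem Q5827 : ∀ i, i < 5827 → P i := stepQ 5826 Q5826 (allL N5826 (tt N7373 (iv F23640)) (tt N4631 F18465) (tt N7389 (iv F23692)) (tt N7187 (iv F23031)) (tt N7395 (iv F23721)) (tt N6873 (iv F22065)) (tt N7398 D7491) (tt N4360 (iv D5895)))
theorem Q5828 : ∀ i, i < 5828 → P i := stepQ 5827 Q5827 (allL N5827 (tt N7374 (iv F23642)) (tt N7399 D7492) (tt N4362 F18466) (tt N7396 (iv F23722)) (tt N4368 F18467) (tt N4361 (iv D5896)) (tt N6874 (iv F22068)) (tt N7400 D7493))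
theorem Q5829 : ∀ i, i < 5829 → P i := stepQ 5828 Q5828 (allL N5828 (tt N7375 (iv F23645)) (tt N4633 F18468) (tt N4363 F18469) (tt N7401 D7494) (tt N4369 F18470) (tt N7400 (iv F23732)) (tt N7189 (iv F23037)) (tt N4361 (iv D5897)))
theorem Q5830 : ∀ i, i < 5830 → P i := stepQ 5829 Q5829 (allL N5829 (tt N7376 (iv F23648)) (tt N5829 F18471) (tt N7400 (iv F23730)) (tt N7402 D7495) (tt N4370 F18472) (tt N4363 F18473) (tt N7403 D7496) (tt N4362 (iv D5898)))
theorem Q5831 : ∀ i, i < 5831 → P i := stepQ 5830 Q5830 (allL N5830 (tt N7377 (iv F23652)) (tt N4364 F18474) (tt N5781 (iv F18476)) (tt N4363 (iv D5899)) (tt N7404 D7497) (tt N7402 (iv F23737)) (tt N7191 (iv F23043)) (tt N5765 F18475))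
theorem Q5832 : ∀ i, i < 5832 → P i := stepQ 5831 Q5831 (allL N5831 (tt N4375 F18477) (tt N6033 (iv F19167)) (tt N4364 (iv D5900)) (tt N4636 F18478) (tt N7405 D7498) (tt N5831 F18479) (tt N6948 (iv F22307)) (tt N6031 F19162))
theorem Q5833 : ∀ i, i < 5833 → P i := stepQ 5832 Q5832 (allL N5832 (tt N4376 F18480) (tt N7404 (iv F23743)) (tt N7405 (iv F23749)) (tt N4373 F18481) (tt N4364 (iv D5901)) (tt N5832 F18482) (tt N7173 (iv F22990)) (tt N7393 (iv F23716)))
theorem Q5834 : ∀ i, i < 5834 → P i := stepQ 5833 Q5833 (allL N5833 (tt N7378 (iv F23658)) (tt N4638 F18483) (tt N5833 F18484) (tt N7394 (iv F23718)) (tt N4366 F18485) (tt N6340 (iv F21802)) (tt N4365 (iv D5902)) (tt N7406 D7499))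
theorem Q5835 : ∀ i, i < 5835 → P i := stepQ 5834 Q5834 (allL N5834 (tt N6497 (iv F20703)) (tt N4639 F18486) (tt N5834 F18487) (tt N6387 (iv F20304)) (tt N4367 F18488) (tt N6386 F20300) (tt N7407 D7500) (tt N4365 (iv D5903)))
theorem Q5836 : ∀ i, i < 5836 → P i := stepQ 5835 Q5835 (allL N5835 (tt N7379 (iv F23661)) (tt N6341 (iv F21808)) (tt N5835 F18489) (tt N4368 F18490) (tt N6340 F21807) (tt N4366 (iv D5904)) (tt N6881 (iv F22091)) (tt N7408 D7501))
theorem Q5837 : ∀ i, i < 5837 → P i := stepQ 5836 Q5836 (allL N5836 (tt N7380 (iv F23664)) (tt N4641 F18491) (tt N5836 F18492) (tt N7409 D7502) (tt N7406 (iv F23754)) (tt N7408 (iv F23760)) (tt N7410 D7503) (tt N4366 (iv D5905)))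
theorem Q5838 : ∀ i, i < 5838 → P i := stepQ 5837 Q5837 (allL N5837 (tt N6972 (iv F22377)) (tt N4642 F18493) (tt N5837 F18494) (tt N6899 (iv F22151)) (tt N7407 (iv F23758)) (tt N7411 D7504) (tt N4367 (iv D5906)) (tt N7410 (iv F23765)))
theorem Q5839 : ∀ i, i < 5839 → P i := stepQ 5838 Q5838 (allL N5838 (tt N7412 D7505) (tt N4368 (iv D5907)) (tt N5838 F18495) (tt N6341 F21809) (tt N7399 (iv F23728)) (tt N4643 F18496) (tt N6883 (iv F22098)) (tt N7413 D7506))
theorem Q5840 : ∀ i, i < 5840 → P i := stepQ 5839 Q5839 (allL N5839 (tt N7382 (iv F23666)) (tt N7413 (iv F23771)) (tt N4370 F18497) (tt N7414 D7507) (tt N7400 (iv F23731)) (tt N4369 F18498) (tt N7415 D7508) (tt N4368 (iv D5908)))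
theorem Q5841 : ∀ i, i < 5841 → P i := stepQ 5840 Q5840 (allL N5840 (tt N7383 (iv F23669)) (tt N4645 F18499) (tt N7416 D7509) (tt N4369 (iv D5909)) (tt N7417 D7510) (tt N7414 (iv F23774)) (tt N7196 (iv F23051)) (tt N7409 (iv F23762)))
theorem Q5842 : ∀ i, i < 5842 → P i := stepQ 5841 Q5841 (allL N5841 (tt N4415 F18500) (tt N5841 F18501) (tt N7418 D7511) (tt N4370 (iv D5910)) (tt N7419 D7512) (tt N4371 F18502) (tt N7420 D7513) (tt N5841 F18503))
theorem Q5843 : ∀ i, i < 5843 → P i := stepQ 5842 Q5842 (allL N5842 (tt N7385 (iv F23675)) (tt N5842 F18504) (tt N7415 (iv F23775)) (tt N7420 (iv F23788)) (tt N7403 (iv F23741)) (tt N7199 (iv F23057)) (tt N4370 (iv D5911)) (tt N6887 (iv F22106)))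
theorem Q5844 : ∀ i, i < 5844 → P i := stepQ 5843 Q5843 (allL N5843 (tt N4440 F18505) (tt N7421 D7514) (tt N4371 (iv D5912)) (tt N7416 (iv F23777)) (tt N7422 D7515) (tt N7418 (iv F23780)) (tt N7135 (iv F22886)) (tt N5843 F18506))
theorem Q5845 : ∀ i, i < 5845 → P i := stepQ 5844 Q5844 (allL N5844 (tt N4434 F18507) (tt N4373 F18508) (tt N7422 (iv F23793)) (tt N7404 (iv F23745)) (tt N4371 (iv D5913)) (tt N7419 (iv F23784)) (tt N7128 (iv F22868)) (tt N5844 F18509))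
theorem Q5846 : ∀ i, i < 5846 → P i := stepQ 5845 Q5845 (allL N5845 (tt N4598 F18510) (tt N4372 (iv D5914)) (tt N7421 (iv F23790)) (tt N4650 F18511) (tt N7423 D7516) (tt N6322 F21784) (tt N6099 (iv F19320)) (tt N5845 F18512))
theorem Q5847 : ∀ i, i < 5847 → P i := stepQ 5846 Q5846 (allL N5846 (tt N4377 F18513) (tt N7423 (iv F23796)) (tt N4373 F18514) (tt N7424 D7517) (tt N4372 (iv D5915)) (tt N5846 F18515) (tt N6101 (iv F19327)) (tt N5846 F18516))
theorem Q5848 : ∀ i, i < 5848 → P i := stepQ 5847 Q5847 (allL N5847 (tt N7393 (iv F23710)) (tt N4466 F18517) (tt N4837 F18518) (tt N5847 F18519) (tt N4374 (iv D5916)) (tt N5847 F18520) (tt N4836 F18521) (tt N4376 F18522))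
theorem Q5849 : ∀ i, i < 5849 → P i := stepQ 5848 Q5848 (allL N5848 (tt N7405 (iv F23747)) (tt N7039 (iv F22597)) (tt N4376 F18523) (tt N7425 D7518) (tt N4375 (iv D5917)) (tt N5848 F18524) (tt N6955 (iv F22329)) (tt N4837 F18525))
theorem Q5850 : ∀ i, i < 5850 → P i := stepQ 5849 Q5849 (allL N5849 (tt N7424 (iv F23799)) (tt N4596 F18526) (tt N7425 (iv F23802)) (tt N4377 (iv D5918)) (tt N4654 F18527) (tt N5849 F18528) (tt N6097 (iv F19313)) (tt N7426 D7519))
theorem Q5851 : ∀ i, i < 5851 → P i := stepQ 5850 Q5850 (allL N5850 (tt N5850 F18529) (tt N4513 F18530) (tt N5850 F18531) (tt N5850 F18532) (tt N4379 F18533) (tt N5852 (iv F18544)) (tt N4378 (iv D5919)) (tt N5851 (iv F18538)))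
theorem Q5852 : ∀ i, i < 5852 → P i := stepQ 5851 Q5851 (allL N5851 (tt N5851 F18534) (tt N5991 (iv F19022)) (tt N5851 F18535) (tt N4380 F18536) (tt N5852 (iv F18543)) (tt N4379 (iv D5920)) (tt N5851 F18537) (tt N5850 F18538))
theorem Q5853 : ∀ i, i < 5853 → P i := stepQ 5852 Q5852 (allL N5852 (tt N5852 F18539) (tt N4835 F18540) (tt N5852 F18541) (tt N5852 F18542) (tt N5851 F18543) (tt N5850 F18544) (tt N5852 F18545) (tt N4379 (iv D5921)))
theorem Q5854 : ∀ i, i < 5854 → P i := stepQ 5853 Q5853 (allL N5853 (tt N7427 D7520) (tt N4380 (iv D5922)) (tt N5853 F18546) (tt N5991 (iv F19026)) (tt N5853 F18547) (tt N6348 (iv F20162)) (tt N5853 F18548) (tt N5853 F18549))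
theorem Q5855 : ∀ i, i < 5855 → P i := stepQ 5854 Q5854 (allL N5854 (tt N6249 (iv F19794)) (tt N4658 F18550) (tt N6596 (iv F21009)) (tt N5854 F18551) (tt N6244 (iv F19781)) (tt N5854 F18552) (tt N4382 (iv D5923)) (tt N7428 D7521))
theorem Q5856 : ∀ i, i < 5856 → P i := stepQ 5855 Q5855 (allL N5855 (tt N5855 F18553) (tt N6445 (iv F20517)) (tt N4397 F18554) (tt N4506 F18555) (tt N4390 F18556) (tt N5855 F18557) (tt N7429 D7522) (tt N4383 (iv D5924)))
theorem Q5857 : ∀ i, i < 5857 → P i := stepQ 5856 Q5856 (allL N5856 (tt N5856 F18558) (tt N6446 (iv F20521)) (tt N4399 F18559) (tt N5896 (iv F18693)) (tt N4392 F18560) (tt N7430 D7523) (tt N4384 (iv D5925)) (tt N7429 (iv F23827)))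
theorem Q5858 : ∀ i, i < 5858 → P i := stepQ 5857 Q5857 (allL N5857 (tt N5857 F18561) (tt N4518 F18562) (tt N5888 (iv F18664)) (tt N4386 F18563) (tt N5887 (iv F18662)) (tt N7431 D7524) (tt N4385 (iv D5926)) (tt N6763 (iv F21611)))
theorem Q5859 : ∀ i, i < 5859 → P i := stepQ 5858 Q5858 (allL N5858 (tt N5858 F18564) (tt N7432 D7525) (tt N4403 F18565) (tt N7431 (iv F23833)) (tt N4396 F18566) (tt N4386 (iv D5927)) (tt N7430 (iv F23831)) (tt N5858 F18567))
theorem Q5860 : ∀ i, i < 5860 → P i := stepQ 5859 Q5859 (allL N5859 (tt N4388 F18568) (tt N5859 F18569) (tt N7073 (iv F22723)) (tt N5859 F18570) (tt N5133 F18571) (tt N5555 F18572) (tt N4387 (iv D5928)) (tt N7433 D7526))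
theorem Q5861 : ∀ i, i < 5861 → P i := stepQ 5860 Q5860 (allL N5860 (tt N4389 F18573) (tt N5860 F18574) (tt N6493 (iv F20694)) (tt N5114 (iv F18577)) (tt N5134 F18575) (tt N4520 F18576) (tt N7434 D7527) (tt N4387 (iv D5929)))
theorem Q5862 : ∀ i, i < 5862 → P i := stepQ 5861 Q5861 (allL N5861 (tt N7433 (iv F23837)) (tt N4390 F18578) (tt N7074 (iv F22726)) (tt N7435 D7528) (tt N6445 (iv F20519)) (tt N6514 (iv F20758)) (tt N7436 D7529) (tt N4388 (iv D5930)))
theorem Q5863 : ∀ i, i < 5863 → P i := stepQ 5862 Q5862 (allL N5862 (tt N5114 F18579) (tt N4391 F18580) (tt N5113 (iv F18583)) (tt N4389 (iv D5931)) (tt N5868 (iv F18598)) (tt N4521 F18581) (tt N7437 D7530) (tt N5862 F18582))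
theorem Q5864 : ∀ i, i < 5864 → P i := stepQ 5863 Q5863 (allL N5863 (tt N7434 (iv F23841)) (tt N4392 F18584) (tt N7075 (iv F22728)) (tt N7437 (iv F23852)) (tt N6446 (iv F20522)) (tt N7438 D7531) (tt N4389 (iv D5932)) (tt N7436 (iv F23848)))
theorem Q5865 : ∀ i, i < 5865 → P i := stepQ 5864 Q5864 (allL N5864 (tt N5864 F18585) (tt N7435 (iv F23845)) (tt N7439 D7532) (tt N4390 (iv D5933)) (tt N7440 D7533) (tt N5864 F18586) (tt N7441 D7534) (tt N5864 F18587))
theorem Q5866 : ∀ i, i < 5866 → P i := stepQ 5865 Q5865 (allL N5865 (tt N5865 F18588) (tt N7436 (iv F23847)) (tt N4405 F18589) (tt N7441 (iv F23863)) (tt N7429 (iv F23826)) (tt N7442 D7535) (tt N4390 (iv D5934)) (tt N4392 F18590))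
theorem Q5867 : ∀ i, i < 5867 → P i := stepQ 5866 Q5866 (allL N5866 (tt N5866 F18591) (tt N7437 (iv F23850)) (tt N5870 (iv F18608)) (tt N4392 F18592) (tt N5869 (iv F18605)) (tt N7443 D7536) (tt N4391 (iv D5935)) (tt N7444 D7537))
theorem Q5868 : ∀ i, i < 5868 → P i := stepQ 5867 Q5867 (allL N5867 (tt N5867 F18593) (tt N7445 D7538) (tt N4409 F18594) (tt N7443 (iv F23869)) (tt N7430 (iv F23830)) (tt N4392 (iv D5936)) (tt N4396 F18595) (tt N7442 (iv F23867)))
theorem Q5869 : ∀ i, i < 5869 → P i := stepQ 5868 Q5868 (allL N5868 (tt N5125 (iv F18601)) (tt N4393 (iv D5937)) (tt N4525 F18596) (tt N4410 F18597) (tt N5862 F18598) (tt N5123 F18599) (tt N7446 D7539) (tt N5868 F18600))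
theorem Q5870 : ∀ i, i < 5870 → P i := stepQ 5869 Q5869 (allL N5869 (tt N5869 F18602) (tt N7446 (iv F23875)) (tt N4395 F18603) (tt N4412 F18604) (tt N5866 F18605) (tt N7447 D7540) (tt N4393 (iv D5938)) (tt N7448 D7541))
theorem Q5871 : ∀ i, i < 5871 → P i := stepQ 5870 Q5870 (allL N5870 (tt N5870 F18606) (tt N4527 F18607) (tt N5866 F18608) (tt N5887 (iv F18661)) (tt N4395 F18609) (tt N7449 D7542) (tt N4394 (iv D5939)) (tt N7450 D7543))
theorem Q5872 : ∀ i, i < 5872 → P i := stepQ 5871 Q5871 (allL N5871 (tt N5871 F18610) (tt N7451 D7544) (tt N7447 (iv F23880)) (tt N4396 F18611) (tt N7449 (iv F23889)) (tt N4395 (iv D5940)) (tt N7443 (iv F23870)) (tt N7452 D7545))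
theorem Q5873 : ∀ i, i < 5873 → P i := stepQ 5872 Q5872 (allL N5872 (tt N5872 F18612) (tt N4529 F18613) (tt N7448 (iv F23884)) (tt N5872 F18614) (tt N7450 (iv F23895)) (tt N7452 (iv F23901)) (tt N5872 F18615) (tt N4395 (iv D5941)))
theorem Q5874 : ∀ i, i < 5874 → P i := stepQ 5873 Q5873 (allL N5873 (tt N7453 D7546) (tt N4396 (iv D5942)) (tt N7454 D7547) (tt N7451 (iv F23897)) (tt N7432 (iv F23834)) (tt N4530 F18616) (tt N7445 (iv F23873)) (tt N5873 F18617))
theorem Q5875 : ∀ i, i < 5875 → P i := stepQ 5874 Q5874 (allL N5874 (tt N5874 F18618) (tt N7087 (iv F22749)) (tt N7455 D7548) (tt N4397 (iv D5943)) (tt N7456 D7549) (tt N5874 F18619) (tt N7457 D7550) (tt N5874 F18620))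
theorem Q5876 : ∀ i, i < 5876 → P i := stepQ 5875 Q5875 (allL N5875 (tt N5875 F18621) (tt N7088 (iv F22751)) (tt N7429 (iv F23824)) (tt N7457 (iv F23917)) (tt N4405 F18622) (tt N7458 D7551) (tt N4397 (iv D5944)) (tt N4399 F18623))
theorem Q5877 : ∀ i, i < 5877 → P i := stepQ 5876 Q5876 (allL N5876 (tt N5876 F18624) (tt N6957 (iv F22334)) (tt N5879 (iv F18634)) (tt N4399 F18625) (tt N5878 (iv F18631)) (tt N7459 D7552) (tt N4398 (iv D5945)) (tt N6280 (iv F19902)))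
theorem Q5878 : ∀ i, i < 5878 → P i := stepQ 5877 Q5877 (allL N5877 (tt N5877 F18626) (tt N7460 D7553) (tt N7430 (iv F23829)) (tt N7459 (iv F23923)) (tt N4409 F18627) (tt N4399 (iv D5946)) (tt N4403 F18628) (tt N7458 (iv F23921)))
theorem Q5879 : ∀ i, i < 5879 → P i := stepQ 5878 Q5878 (allL N5878 (tt N5878 F18629) (tt N6935 (iv F22275)) (tt N4402 F18630) (tt N5888 (iv F18665)) (tt N5876 F18631) (tt N7461 D7554) (tt N4400 (iv D5947)) (tt N7462 D7555))
theorem Q5880 : ∀ i, i < 5880 → P i := stepQ 5879 Q5879 (allL N5879 (tt N5879 F18632) (tt N4431 F18633) (tt N5876 F18634) (tt N4413 F18635) (tt N4402 F18636) (tt N7463 D7556) (tt N4401 (iv D5948)) (tt N4756 (iv F18637)))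
theorem Q5881 : ∀ i, i < 5881 → P i := stepQ 5880 Q5880 (allL N5880 (tt N5880 F18638) (tt N7464 D7557) (tt N7461 (iv F23928)) (tt N4403 F18639) (tt N7463 (iv F23937)) (tt N4402 (iv D5949)) (tt N7459 (iv F23924)) (tt N7465 D7558))
theorem Q5882 : ∀ i, i < 5882 → P i := stepQ 5881 Q5881 (allL N5881 (tt N5881 F18640) (tt N4433 F18641) (tt N7462 (iv F23931)) (tt N5881 F18642) (tt N4756 F18643) (tt N7465 (iv F23945)) (tt N5881 F18644) (tt N4402 (iv D5950)))
theorem Q5883 : ∀ i, i < 5883 → P i := stepQ 5882 Q5882 (allL N5882 (tt N7419 (iv F23782)) (tt N4403 (iv D5951)) (tt N7466 D7559) (tt N7464 (iv F23940)) (tt N4415 F18645) (tt N4434 F18646) (tt N7460 (iv F23926)) (tt N5882 F18647))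
theorem Q5884 : ∀ i, i < 5884 → P i := stepQ 5883 Q5883 (allL N5883 (tt N5883 F18648) (tt N7467 D7560) (tt N4404 (iv D5952)) (tt N7439 (iv F23855)) (tt N7468 D7561) (tt N5883 F18649) (tt N7469 D7562) (tt N4416 F18650))
theorem Q5885 : ∀ i, i < 5885 → P i := stepQ 5884 Q5884 (allL N5884 (tt N5884 F18651) (tt N7094 (iv F22768)) (tt N7468 (iv F23951)) (tt N7456 (iv F23913)) (tt N4404 (iv D5953)) (tt N5884 F18652) (tt N7470 D7563) (tt N4417 F18653))
theorem Q5886 : ∀ i, i < 5886 → P i := stepQ 5885 Q5885 (allL N5885 (tt N5885 F18654) (tt N7095 (iv F22771)) (tt N7469 (iv F23955)) (tt N4405 F18655) (tt N7470 (iv F23957)) (tt N7471 D7564) (tt N4404 (iv D5954)) (tt N7472 D7565))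
theorem Q5887 : ∀ i, i < 5887 → P i := stepQ 5886 Q5886 (allL N5886 (tt N5886 F18656) (tt N7473 D7566) (tt N7442 (iv F23865)) (tt N7471 (iv F23959)) (tt N7458 (iv F23919)) (tt N4405 (iv D5955)) (tt N5886 F18657) (tt N4409 F18658))
theorem Q5888 : ∀ i, i < 5888 → P i := stepQ 5887 Q5887 (allL N5887 (tt N5887 F18659) (tt N5996 (iv F19046)) (tt N4408 F18660) (tt N5870 F18661) (tt N5857 F18662) (tt N7474 D7567) (tt N4406 (iv D5956)) (tt N6351 (iv F20171)))
theorem Q5889 : ∀ i, i < 5889 → P i := stepQ 5888 Q5888 (allL N5888 (tt N5888 F18663) (tt N7098 (iv F22777)) (tt N5857 F18664) (tt N5878 F18665) (tt N4408 F18666) (tt N7475 D7568) (tt N4407 (iv D5957)) (tt N7476 D7569))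
theorem Q5890 : ∀ i, i < 5890 → P i := stepQ 5889 Q5889 (allL N5889 (tt N5889 F18667) (tt N7385 (iv F23676)) (tt N7474 (iv F23968)) (tt N4409 F18668) (tt N7475 (iv F23975)) (tt N4408 (iv D5958)) (tt N4414 F18669) (tt N7477 D7570))
theorem Q5891 : ∀ i, i < 5891 → P i := stepQ 5890 Q5890 (allL N5890 (tt N5890 F18670) (tt N7100 (iv F22783)) (tt N6351 (iv F20169)) (tt N7472 (iv F23963)) (tt N7476 (iv F23979)) (tt N7477 (iv F23982)) (tt N4424 F18671) (tt N4408 (iv D5959)))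
theorem Q5892 : ∀ i, i < 5892 → P i := stepQ 5891 Q5891 (allL N5891 (tt N7420 (iv F23786)) (tt N4409 (iv D5960)) (tt N7478 D7571) (tt N7385 (iv F23677)) (tt N7460 (iv F23925)) (tt N7101 (iv F22786)) (tt N4415 F18672) (tt N7473 (iv F23966)))
theorem Q5893 : ∀ i, i < 5893 → P i := stepQ 5892 Q5892 (allL N5892 (tt N4410 (iv D5961)) (tt N5892 F18673) (tt N4435 F18674) (tt N5125 F18675) (tt N5943 (iv F18862)) (tt N5124 (iv F18677)) (tt N7479 D7572) (tt N4425 F18676))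
theorem Q5894 : ∀ i, i < 5894 → P i := stepQ 5893 Q5893 (allL N5893 (tt N5943 (iv F18860)) (tt N4411 F18678) (tt N4436 F18679) (tt N4915 F18680) (tt N4410 (iv D5962)) (tt N4916 (iv F18682)) (tt N7480 D7573) (tt N4426 F18681))
theorem Q5895 : ∀ i, i < 5895 → P i := stepQ 5894 Q5894 (allL N5894 (tt N5124 F18683) (tt N4920 F18684) (tt N4437 F18685) (tt N5123 F18686) (tt N4916 F18687) (tt N4410 (iv D5963)) (tt N7481 D7574) (tt N4427 F18688))
theorem Q5896 : ∀ i, i < 5896 → P i := stepQ 5895 Q5895 (allL N5895 (tt N7479 (iv F23984)) (tt N4412 F18689) (tt N4438 F18690) (tt N7446 (iv F23877)) (tt N7480 (iv F23991)) (tt N7482 D7575) (tt N4410 (iv D5964)) (tt N7369 (iv F23629)))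
theorem Q5897 : ∀ i, i < 5897 → P i := stepQ 5896 Q5896 (allL N5896 (tt N5896 F18691) (tt N7480 (iv F23988)) (tt N4413 F18692) (tt N5856 F18693) (tt N4412 F18694) (tt N7483 D7576) (tt N4411 (iv D5965)) (tt N4748 F18695))
theorem Q5898 : ∀ i, i < 5898 → P i := stepQ 5897 Q5897 (allL N5897 (tt N5897 F18696) (tt N7484 D7577) (tt N4414 F18697) (tt N7447 (iv F23881)) (tt N7483 (iv F24002)) (tt N4412 (iv D5966)) (tt N7474 (iv F23971)) (tt N7384 (iv F23674)))
theorem Q5899 : ∀ i, i < 5899 → P i := stepQ 5898 Q5898 (allL N5898 (tt N5898 F18698) (tt N7376 (iv F23649)) (tt N7483 (iv F24000)) (tt N7463 (iv F23936)) (tt N4414 F18699) (tt N4413 (iv D5967)) (tt N7475 (iv F23976)) (tt N4749 F18700))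
theorem Q5900 : ∀ i, i < 5900 → P i := stepQ 5899 Q5899 (allL N5899 (tt N7418 (iv F23779)) (tt N7454 (iv F23905)) (tt N4415 (iv D5968)) (tt N7485 D7578) (tt N7466 (iv F23946)) (tt N4440 F18701) (tt N7478 (iv F23983)) (tt N5899 F18702))
theorem Q5901 : ∀ i, i < 5901 → P i := stepQ 5900 Q5900 (allL N5900 (tt N7486 D7579) (tt N4416 (iv D5969)) (tt N7112 (iv F22813)) (tt N5900 F18703) (tt N7487 D7580) (tt N7488 D7581) (tt N7489 D7582) (tt N7467 (iv F23949)))
theorem Q5902 : ∀ i, i < 5902 → P i := stepQ 5901 Q5901 (allL N5901 (tt N5901 F18704) (tt N7487 (iv F24008)) (tt N4417 F18705) (tt N7490 D7583) (tt N4416 (iv D5970)) (tt N5901 F18706) (tt N7491 D7584) (tt N7468 (iv F23953)))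
theorem Q5903 : ∀ i, i < 5903 → P i := stepQ 5902 Q5902 (allL N5902 (tt N5902 F18707) (tt N7489 (iv F24012)) (tt N4418 F18708) (tt N5902 F18709) (tt N7491 (iv F24022)) (tt N4839 (iv F18710)) (tt N4416 (iv D5971)) (tt N6356 F20189))
theorem Q5904 : ∀ i, i < 5904 → P i := stepQ 5903 Q5903 (allL N5903 (tt N5903 F18711) (tt N4850 F18712) (tt N7491 (iv F24021)) (tt N5903 F18713) (tt N4418 F18714) (tt N4840 (iv F18715)) (tt N4417 (iv D5972)) (tt N7492 D7585))
theorem Q5905 : ∀ i, i < 5905 → P i := stepQ 5904 Q5904 (allL N5904 (tt N5904 F18716) (tt N4852 F18717) (tt N6356 (iv F20187)) (tt N4424 F18718) (tt N7492 (iv F24026)) (tt N4841 F18719) (tt N7472 (iv F23964)) (tt N4418 (iv D5973)))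
theorem Q5906 : ∀ i, i < 5906 → P i := stepQ 5905 Q5905 (allL N5905 (tt N5905 F18720) (tt N7115 (iv F22828)) (tt N5222 F18721) (tt N7493 D7586) (tt N4424 F18722) (tt N5701 F18723) (tt N7476 (iv F23980)) (tt N4422 (iv D5974)))
theorem Q5907 : ∀ i, i < 5907 → P i := stepQ 5906 Q5906 (allL N5906 (tt N6650 (iv F21217)) (tt N4926 F18724) (tt N4446 F18725) (tt N5906 F18726) (tt N4918 F18727) (tt N5630 F18728) (tt N4427 (iv D5975)) (tt N7494 D7587))
theorem Q5908 : ∀ i, i < 5908 → P i := stepQ 5907 Q5907 (allL N5907 (tt N5413 F18729) (tt N4430 F18730) (tt N6935 (iv F22276)) (tt N4550 F18731) (tt N5410 F18732) (tt N7495 D7588) (tt N4429 (iv D5976)) (tt N7496 D7589))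
theorem Q5909 : ∀ i, i < 5909 → P i := stepQ 5908 Q5908 (allL N5908 (tt N4464 F18733) (tt N7497 D7590) (tt N4432 F18734) (tt N4551 F18735) (tt N5411 F18736) (tt N4430 (iv D5977)) (tt N5408 F18737) (tt N5444 F18738))
theorem Q5910 : ∀ i, i < 5910 → P i := stepQ 5909 Q5909 (allL N5909 (tt N4465 F18739) (tt N7496 (iv F24040)) (tt N4433 F18740) (tt N7016 (iv F22511)) (tt N4760 F18741) (tt N5444 F18742) (tt N5909 F18743) (tt N4430 (iv D5978)))
theorem Q5911 : ∀ i, i < 5911 → P i := stepQ 5910 Q5910 (allL N5910 (tt N7404 (iv F23742)) (tt N4432 (iv D5979)) (tt N7498 D7591) (tt N4434 F18744) (tt N7377 (iv F23654)) (tt N7464 (iv F23941)) (tt N7127 (iv F22864)) (tt N7499 D7592))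
theorem Q5912 : ∀ i, i < 5912 → P i := stepQ 5911 Q5911 (allL N5911 (tt N4466 F18745) (tt N7499 (iv F24051)) (tt N5444 F18746) (tt N5911 F18747) (tt N4759 F18748) (tt N4433 F18749) (tt N5443 F18750) (tt N4432 (iv D5980)))
theorem Q5913 : ∀ i, i < 5913 → P i := stepQ 5912 Q5912 (allL N5912 (tt N7422 (iv F23792)) (tt N4554 F18751) (tt N4434 (iv D5981)) (tt N7500 D7593) (tt N4440 F18752) (tt N7466 (iv F23947)) (tt N7129 (iv F22871)) (tt N5912 F18753))
theorem Q5914 : ∀ i, i < 5914 → P i := stepQ 5913 Q5913 (allL N5913 (tt N4437 F18754) (tt N5126 F18755) (tt N5124 F18756) (tt N4555 F18757) (tt N5920 (iv F18777)) (tt N4435 (iv D5982)) (tt N7501 D7594) (tt N4442 F18758))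
theorem Q5915 : ∀ i, i < 5915 → P i := stepQ 5914 Q5914 (allL N5914 (tt N4438 F18759) (tt N4467 F18760) (tt N7479 (iv F23986)) (tt N4556 F18761) (tt N5944 (iv F18869)) (tt N7502 D7595) (tt N4435 (iv D5983)) (tt N5931 (iv F18818)))
theorem Q5916 : ∀ i, i < 5916 → P i := stepQ 5915 Q5915 (allL N5915 (tt N5920 (iv F18774)) (tt N5582 F18762) (tt N4916 F18763) (tt N5595 F18764) (tt N4437 F18765) (tt N4436 (iv D5984)) (tt N7503 D7596) (tt N4444 F18766))
theorem Q5917 : ∀ i, i < 5917 → P i := stepQ 5916 Q5916 (allL N5916 (tt N5944 (iv F18866)) (tt N4439 F18767) (tt N7480 (iv F23989)) (tt N5618 F18768) (tt N4438 F18769) (tt N7504 D7597) (tt N4436 (iv D5985)) (tt N4602 F18770))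
theorem Q5918 : ∀ i, i < 5918 → P i := stepQ 5917 Q5917 (allL N5917 (tt N7501 (iv F24057)) (tt N7130 (iv F22872)) (tt N7481 (iv F23995)) (tt N4557 F18771) (tt N7503 (iv F24067)) (tt N7505 D7598) (tt N4437 (iv D5986)) (tt N7506 D7599))
theorem Q5919 : ∀ i, i < 5919 → P i := stepQ 5918 Q5918 (allL N5918 (tt N7502 (iv F24061)) (tt N7368 (iv F23623)) (tt N7482 (iv F23998)) (tt N4558 F18772) (tt N7504 (iv F24069)) (tt N4438 (iv D5987)) (tt N7505 (iv F24072)) (tt N7367 F23621))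
theorem Q5920 : ∀ i, i < 5920 → P i := stepQ 5919 Q5919 (allL N5919 (tt N7416 (iv F23776)) (tt N4562 F18773) (tt N7383 (iv F23670)) (tt N4440 (iv D5988)) (tt N7507 D7600) (tt N7485 (iv F24005)) (tt N7136 (iv F22888)) (tt N7508 D7601))
theorem Q5921 : ∀ i, i < 5921 → P i := stepQ 5920 Q5920 (allL N5920 (tt N5915 F18774) (tt N4442 (iv D5989)) (tt N5129 F18775) (tt N4449 F18776) (tt N5913 F18777) (tt N4468 F18778) (tt N7509 D7602) (tt N5126 F18779))
theorem Q5922 : ∀ i, i < 5922 → P i := stepQ 5921 Q5921 (allL N5921 (tt N4446 F18780) (tt N7509 (iv F24078)) (tt N6650 (iv F21219)) (tt N4450 F18781) (tt N6649 F21216) (tt N5929 (iv F18807)) (tt N4442 (iv D5990)) (tt N7510 D7603))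
theorem Q5923 : ∀ i, i < 5923 → P i := stepQ 5922 Q5922 (allL N5922 (tt N6649 (iv F21212)) (tt N7140 (iv F22900)) (tt N4918 F18782) (tt N5438 F18783) (tt N4446 F18784) (tt N5629 F18785) (tt N4444 (iv D5991)) (tt N7511 D7604))
theorem Q5924 : ∀ i, i < 5924 → P i := stepQ 5923 Q5923 (allL N5923 (tt N5929 (iv F18803)) (tt N7352 (iv F23575)) (tt N5630 F18786) (tt N4455 F18787) (tt N5629 F18788) (tt N4446 (iv D5992)) (tt N4447 F18789) (tt N7512 D7605))
theorem Q5925 : ∀ i, i < 5925 → P i := stepQ 5924 Q5924 (allL N5924 (tt N7510 (iv F24082)) (tt N7144 (iv F22914)) (tt N7494 (iv F24033)) (tt N7513 D7606) (tt N7511 (iv F24084)) (tt N7512 (iv F24088)) (tt N7506 (iv F24073)) (tt N4446 (iv D5993)))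
theorem Q5926 : ∀ i, i < 5926 → P i := stepQ 5925 Q5925 (allL N5925 (tt N6443 (iv F20508)) (tt N5925 F18790) (tt N4449 (iv D5994)) (tt N5132 F18791) (tt N5936 (iv F18832)) (tt N4470 F18792) (tt N7514 D7607) (tt N4571 F18793))
theorem Q5927 : ∀ i, i < 5927 → P i := stepQ 5926 Q5926 (allL N5926 (tt N7150 (iv F22931)) (tt N4450 F18794) (tt N7514 (iv F24091)) (tt N7509 (iv F24080)) (tt N5933 (iv F18823)) (tt N7515 D7608) (tt N4449 (iv D5995)) (tt N7516 D7609))
theorem Q5928 : ∀ i, i < 5928 → P i := stepQ 5927 Q5927 (allL N5927 (tt N4456 F18795) (tt N7516 (iv F24096)) (tt N5927 F18796) (tt N7517 D7610) (tt N5934 (iv F18827)) (tt N5932 (iv F18821)) (tt N4574 F18797) (tt N4450 (iv D5996)))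
theorem Q5929 : ∀ i, i < 5929 → P i := stepQ 5928 Q5928 (allL N5928 (tt N5803 F18798) (tt N5928 F18799) (tt N4453 F18800) (tt N7518 D7611) (tt N5431 F18801) (tt N5434 F18802) (tt N7519 D7612) (tt N4451 (iv D5997)))
theorem Q5930 : ∀ i, i < 5930 → P i := stepQ 5929 Q5929 (allL N5929 (tt N5923 F18803) (tt N7154 (iv F22940)) (tt N5439 F18804) (tt N4454 F18805) (tt N5438 F18806) (tt N5921 F18807) (tt N4452 (iv D5998)) (tt N7520 D7613))
theorem Q5931 : ∀ i, i < 5931 → P i := stepQ 5930 Q5930 (allL N5930 (tt N5787 F18808) (tt N4585 F18809) (tt N5434 F18810) (tt N4579 F18811) (tt N5433 F18812) (tt N4453 F18813) (tt N7521 D7614) (tt N4452 (iv D5999)))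
theorem Q5932 : ∀ i, i < 5932 → P i := stepQ 5931 Q5931 (allL N5931 (tt N5802 F18814) (tt N4458 F18815) (tt N7519 (iv F24108)) (tt N4580 F18816) (tt N5795 F18817) (tt N7522 D7615) (tt N4453 (iv D6000)) (tt N5914 F18818))
theorem Q5933 : ∀ i, i < 5933 → P i := stepQ 5932 Q5932 (allL N5932 (tt N5934 (iv F18825)) (tt N7157 (iv F22947)) (tt N5932 F18819) (tt N7523 D7616) (tt N4456 F18820) (tt N5927 F18821) (tt N4582 F18822) (tt N4454 (iv D6001)))
theorem Q5934 : ∀ i, i < 5934 → P i := stepQ 5933 Q5933 (allL N5933 (tt N7359 (iv F23592)) (tt N4455 (iv D6002)) (tt N7524 D7617) (tt N7352 (iv F23577)) (tt N5926 F18823) (tt N7158 (iv F22950)) (tt N4457 F18824) (tt N7525 D7618))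
theorem Q5935 : ∀ i, i < 5935 → P i := stepQ 5934 Q5934 (allL N5934 (tt N5932 F18825) (tt N7525 (iv F24130)) (tt N5934 F18826) (tt N7526 D7619) (tt N5927 F18827) (tt N4456 F18828) (tt N6065 (iv F19236)) (tt N4455 (iv D6003)))
theorem Q5936 : ∀ i, i < 5936 → P i := stepQ 5935 Q5935 (allL N5935 (tt N7517 (iv F24098)) (tt N7160 (iv F22953)) (tt N7527 D7620) (tt N4456 (iv D6004)) (tt N7528 D7621) (tt N7526 (iv F24133)) (tt N4584 F18829) (tt N7513 (iv F24089)))
theorem Q5937 : ∀ i, i < 5937 → P i := stepQ 5936 Q5936 (allL N5936 (tt N7358 (iv F23586)) (tt N5936 F18830) (tt N4457 (iv D6005)) (tt N5512 F18831) (tt N5925 F18832) (tt N4459 F18833) (tt N7524 (iv F24129)) (tt N6063 (iv F19230)))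
theorem Q5938 : ∀ i, i < 5938 → P i := stepQ 5937 Q5937 (allL N5937 (tt N6825 (iv F21869)) (tt N4460 F18834) (tt N4964 F18835) (tt N4459 (iv D6006)) (tt N4965 (iv F18837)) (tt N5512 F18836) (tt N7166 (iv F22967)) (tt N5227 (iv F18838)))
theorem Q5939 : ∀ i, i < 5939 → P i := stepQ 5938 Q5938 (allL N5938 (tt N5952 (iv F18896)) (tt N4965 F18839) (tt N4462 F18840) (tt N5948 (iv F18882)) (tt N4460 (iv D6007)) (tt N5938 F18841) (tt N7168 (iv F22975)) (tt N5161 (iv F18842)))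
theorem Q5940 : ∀ i, i < 5940 → P i := stepQ 5939 Q5939 (allL N5939 (tt N5954 (iv F18904)) (tt N5227 F18843) (tt N4463 F18844) (tt N6120 (iv F19381)) (tt N5161 F18845) (tt N5939 F18846) (tt N7529 D7622) (tt N4460 (iv D6008)))
theorem Q5941 : ∀ i, i < 5941 → P i := stepQ 5940 Q5940 (allL N5940 (tt N4462 F18847) (tt N4911 F18848) (tt N5952 (iv F18897)) (tt N5940 F18849) (tt N4461 (iv D6009)) (tt N5940 F18850) (tt N6476 (iv F20622)) (tt N5157 (iv F18851)))
theorem Q5942 : ∀ i, i < 5942 → P i := stepQ 5941 Q5941 (allL N5941 (tt N4463 F18852) (tt N5156 F18853) (tt N5954 (iv F18905)) (tt N5941 F18854) (tt N5157 F18855) (tt N5941 F18856) (tt N7530 D7623) (tt N4461 (iv D6010)))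
theorem Q5943 : ∀ i, i < 5943 → P i := stepQ 5942 Q5942 (allL N5942 (tt N7530 (iv F24140)) (tt N5160 F18857) (tt N7529 (iv F24138)) (tt N5942 F18858) (tt N5162 F18859) (tt N7531 D7624) (tt N4463 (iv D6011)) (tt N7172 (iv F22986)))
theorem Q5944 : ∀ i, i < 5944 → P i := stepQ 5943 Q5943 (allL N5943 (tt N5893 F18860) (tt N5943 F18861) (tt N4468 (iv D6012)) (tt N5134 (iv F18865)) (tt N5892 F18862) (tt N5129 F18863) (tt N7532 D7625) (tt N5128 F18864))
theorem Q5945 : ∀ i, i < 5945 → P i := stepQ 5944 Q5944 (allL N5944 (tt N5916 F18866) (tt N4469 F18867) (tt N7532 (iv F24150)) (tt N4471 F18868) (tt N5914 F18869) (tt N7533 D7626) (tt N4468 (iv D6013)) (tt N5795 F18870))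
theorem Q5946 : ∀ i, i < 5946 → P i := stepQ 5945 Q5945 (allL N5945 (tt N6442 (iv F20502)) (tt N4472 F18871) (tt N5134 F18872) (tt N4470 (iv D6014)) (tt N6493 (iv F20695)) (tt N5132 F18873) (tt N7534 D7627) (tt N5131 F18874))
theorem Q5947 : ∀ i, i < 5947 → P i := stepQ 5946 Q5946 (allL N5946 (tt N7174 (iv F22992)) (tt N4473 F18875) (tt N4471 F18876) (tt N7534 (iv F24161)) (tt N5608 F18877) (tt N7535 D7628) (tt N4470 (iv D6015)) (tt N6048 (iv F19193)))
theorem Q5948 : ∀ i, i < 5948 → P i := stepQ 5947 Q5947 (allL N5947 (tt N7175 (iv F22996)) (tt N5602 F18878) (tt N7535 (iv F24162)) (tt N7533 (iv F24156)) (tt N5605 F18879) (tt N4471 (iv D6016)) (tt N7515 (iv F24095)) (tt N6046 (iv F19187)))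
theorem Q5949 : ∀ i, i < 5949 → P i := stepQ 5948 Q5948 (allL N5948 (tt N4482 F18880) (tt N6493 (iv F20693)) (tt N5948 F18881) (tt N5938 F18882) (tt N4472 (iv D6017)) (tt N5948 F18883) (tt N7536 D7629) (tt N6900 (iv F22157)))
theorem Q5950 : ∀ i, i < 5950 → P i := stepQ 5949 Q5949 (allL N5949 (tt N4483 F18884) (tt N7534 (iv F24159)) (tt N5949 F18885) (tt N4473 F18886) (tt N7536 (iv F24167)) (tt N7537 D7630) (tt N4472 (iv D6018)) (tt N7538 D7631))
theorem Q5951 : ∀ i, i < 5951 → P i := stepQ 5950 Q5950 (allL N5950 (tt N4484 F18887) (tt N5131 F18888) (tt N5950 F18889) (tt N4622 F18890) (tt N6900 (iv F22155)) (tt N5950 F18891) (tt N7539 D7632) (tt N4472 (iv D6019)))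
theorem Q5952 : ∀ i, i < 5952 → P i := stepQ 5951 Q5951 (allL N5951 (tt N4485 F18892) (tt N7540 D7633) (tt N4474 F18893) (tt N7537 (iv F24170)) (tt N5027 F18894) (tt N4473 (iv D6020)) (tt N5951 F18895) (tt N6028 (iv F19152)))
theorem Q5953 : ∀ i, i < 5953 → P i := stepQ 5952 Q5952 (allL N5952 (tt N5938 F18896) (tt N6903 (iv F22164)) (tt N5940 F18897) (tt N4482 F18898) (tt N4478 (iv D6021)) (tt N5952 F18899) (tt N7541 D7634) (tt N6704 (iv F21415)))
theorem Q5954 : ∀ i, i < 5954 → P i := stepQ 5953 Q5953 (allL N5953 (tt N5611 F18900) (tt N7186 (iv F23027)) (tt N4938 F18901) (tt N4479 F18902) (tt N7541 (iv F24184)) (tt N5465 (iv F18903)) (tt N4478 (iv D6022)) (tt N7542 D7635))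
theorem Q5955 : ∀ i, i < 5955 → P i := stepQ 5954 Q5954 (allL N5954 (tt N5939 F18904) (tt N7187 (iv F23030)) (tt N5941 F18905) (tt N4631 F18906) (tt N6704 (iv F21413)) (tt N5954 F18907) (tt N7543 D7636) (tt N4478 (iv D6023)))
theorem Q5956 : ∀ i, i < 5956 → P i := stepQ 5955 Q5955 (allL N5955 (tt N5027 F18908) (tt N7544 D7637) (tt N4480 F18909) (tt N5465 F18910) (tt N4485 F18911) (tt N4479 (iv D6024)) (tt N5955 F18912) (tt N7545 D7638))
theorem Q5957 : ∀ i, i < 5957 → P i := stepQ 5956 Q5956 (allL N5956 (tt N5612 F18913) (tt N7189 (iv F23034)) (tt N4481 F18914) (tt N7546 D7639) (tt N4486 F18915) (tt N7545 (iv F24199)) (tt N4633 F18916) (tt N4479 (iv D6025)))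
theorem Q5958 : ∀ i, i < 5958 → P i := stepQ 5957 Q5957 (allL N5957 (tt N5028 F18917) (tt N5072 F18918) (tt N7545 (iv F24197)) (tt N5614 F18919) (tt N4488 F18920) (tt N4481 F18921) (tt N7547 D7640) (tt N4480 (iv D6026)))
theorem Q5959 : ∀ i, i < 5959 → P i := stepQ 5958 Q5958 (allL N5958 (tt N7536 (iv F24164)) (tt N6904 (iv F22168)) (tt N5958 F18922) (tt N7541 (iv F24183)) (tt N4483 F18923) (tt N7548 D7641) (tt N4482 (iv D6027)) (tt N7549 D7642))
theorem Q5960 : ∀ i, i < 5960 → P i := stepQ 5959 Q5959 (allL N5959 (tt N7537 (iv F24168)) (tt N7550 D7643) (tt N5959 F18924) (tt N4485 F18925) (tt N7548 (iv F24210)) (tt N4483 (iv D6028)) (tt N5959 F18926) (tt N7551 D7644))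
theorem Q5961 : ∀ i, i < 5961 → P i := stepQ 5960 Q5960 (allL N5960 (tt N7538 (iv F24172)) (tt N7193 (iv F23046)) (tt N5960 F18927) (tt N7552 D7645) (tt N7549 (iv F24213)) (tt N7551 (iv F24217)) (tt N7553 D7646) (tt N4483 (iv D6029)))
theorem Q5962 : ∀ i, i < 5962 → P i := stepQ 5961 Q5961 (allL N5961 (tt N7539 (iv F24174)) (tt N6899 (iv F22149)) (tt N5961 F18928) (tt N4642 F18929) (tt N6901 (iv F22160)) (tt N7554 D7647) (tt N4484 (iv D6030)) (tt N7553 (iv F24220)))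
theorem Q5963 : ∀ i, i < 5963 → P i := stepQ 5962 Q5962 (allL N5962 (tt N7555 D7648) (tt N4485 (iv D6031)) (tt N7556 D7649) (tt N7550 (iv F24214)) (tt N7544 (iv F24194)) (tt N7194 (iv F23047)) (tt N5962 F18930) (tt N7557 D7650))
theorem Q5964 : ∀ i, i < 5964 → P i := stepQ 5963 Q5963 (allL N5963 (tt N6028 (iv F19150)) (tt N7557 (iv F24228)) (tt N4488 F18931) (tt N7558 D7651) (tt N7545 (iv F24198)) (tt N4486 F18932) (tt N7559 D7652) (tt N4485 (iv D6032)))
theorem Q5965 : ∀ i, i < 5965 → P i := stepQ 5964 Q5964 (allL N5964 (tt N6049 (iv F19194)) (tt N7196 (iv F23050)) (tt N6051 (iv F19199)) (tt N4486 (iv D6033)) (tt N7560 D7653) (tt N7558 (iv F24229)) (tt N4645 F18933) (tt N7552 (iv F24218)))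
theorem Q5966 : ∀ i, i < 5966 → P i := stepQ 5965 Q5965 (allL N5965 (tt N5070 F18934) (tt N7556 (iv F24225)) (tt N4487 (iv D6034)) (tt N6185 (iv F19579)) (tt N5071 F18935) (tt N4489 F18936) (tt N5965 F18937) (tt N6207 (iv F19655)))
theorem Q5967 : ∀ i, i < 5967 → P i := stepQ 5966 Q5966 (allL N5966 (tt N6021 F19136) (tt N6201 (iv F19636)) (tt N7559 (iv F24230)) (tt N6022 (iv F19138)) (tt N7547 (iv F24205)) (tt N4647 F18938) (tt N4488 (iv D6035)) (tt N5966 F18939))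
theorem Q5968 : ∀ i, i < 5968 → P i := stepQ 5967 Q5967 (allL N5967 (tt N5118 F18940) (tt N7200 (iv F23058)) (tt N5967 F18941) (tt N7561 D7654) (tt N5111 F18942) (tt N5105 F18943) (tt N5967 F18944) (tt N4490 (iv D6036)))
theorem Q5969 : ∀ i, i < 5969 → P i := stepQ 5968 Q5968 (allL N5968 (tt N5968 F18945) (tt N4494 F18946) (tt N5968 F18947) (tt N4492 (iv D6037)) (tt N4504 F18948) (tt N5816 F18949) (tt N7562 D7655) (tt N5968 F18950))
theorem Q5970 : ∀ i, i < 5970 → P i := stepQ 5969 Q5969 (allL N5969 (tt N5969 F18951) (tt N4495 F18952) (tt N5310 F18953) (tt N7562 (iv F24241)) (tt N4493 F18954) (tt N7563 D7656) (tt N4492 (iv D6038)) (tt N4813 F18955))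
theorem Q5971 : ∀ i, i < 5971 → P i := stepQ 5970 Q5970 (allL N5970 (tt N5970 F18956) (tt N7255 (iv F23238)) (tt N6225 (iv F19710)) (tt N4508 F18957) (tt N7563 (iv F24246)) (tt N4493 (iv D6039)) (tt N6269 (iv F19867)) (tt N7254 F23236))
theorem Q5972 : ∀ i, i < 5972 → P i := stepQ 5971 Q5971 (allL N5971 (tt N4496 F18958) (tt N7562 (iv F24239)) (tt N7263 (iv F23282)) (tt N4495 F18959) (tt N4510 F18960) (tt N7251 (iv F23226)) (tt N4494 (iv D6040)) (tt N4827 (iv F18961)))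
theorem Q5973 : ∀ i, i < 5973 → P i := stepQ 5972 Q5972 (allL N5972 (tt N5972 F18962) (tt N6289 (iv F19932)) (tt N5972 F18963) (tt N4498 F18964) (tt N5972 F18965) (tt N4497 (iv D6041)) (tt N7564 D7657) (tt N5972 F18966))
theorem Q5974 : ∀ i, i < 5974 → P i := stepQ 5973 Q5973 (allL N5973 (tt N5973 F18967) (tt N6290 (iv F19937)) (tt N4502 F18968) (tt N7564 (iv F24251)) (tt N4500 F18969) (tt N5973 F18970) (tt N4498 (iv D6042)) (tt N7565 D7658))
theorem Q5975 : ∀ i, i < 5975 → P i := stepQ 5974 Q5974 (allL N5974 (tt N5974 F18971) (tt N5974 F18972) (tt N4505 F18973) (tt N5974 F18974) (tt N4501 F18975) (tt N7292 (iv F23395)) (tt N4499 (iv D6043)) (tt N5974 F18976))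
theorem Q5976 : ∀ i, i < 5976 → P i := stepQ 5975 Q5975 (allL N5975 (tt N5975 F18977) (tt N6293 (iv F19946)) (tt N4506 F18978) (tt N7455 (iv F23909)) (tt N7565 (iv F24256)) (tt N5975 F18979) (tt N6272 (iv F19880)) (tt N4500 (iv D6044)))
theorem Q5977 : ∀ i, i < 5977 → P i := stepQ 5976 Q5976 (allL N5976 (tt N5976 F18980) (tt N7293 (iv F23406)) (tt N4508 F18981) (tt N6229 (iv F19725)) (tt N7292 F23397) (tt N4501 (iv D6045)) (tt N6271 (iv F19876)) (tt N5976 F18982))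
theorem Q5978 : ∀ i, i < 5978 → P i := stepQ 5977 Q5977 (allL N5977 (tt N5977 F18983) (tt N7212 (iv F23101)) (tt N7565 (iv F24255)) (tt N7440 (iv F23859)) (tt N4506 F18984) (tt N5977 F18985) (tt N7566 D7659) (tt N4502 (iv D6046)))
theorem Q5979 : ∀ i, i < 5979 → P i := stepQ 5978 Q5978 (allL N5978 (tt N5978 F18986) (tt N7213 (iv F23105)) (tt N5978 F18987) (tt N4503 (iv D6047)) (tt N5816 F18988) (tt N4504 F18989) (tt N7567 D7660) (tt N5978 F18990))
theorem Q5980 : ∀ i, i < 5980 → P i := stepQ 5979 Q5979 (allL N5979 (tt N5979 F18991) (tt N7214 (iv F23109)) (tt N6270 (iv F19870)) (tt N7567 (iv F24267)) (tt N4507 F18992) (tt N7568 D7661) (tt N4503 (iv D6048)) (tt N7566 (iv F24263)))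
theorem Q5981 : ∀ i, i < 5981 → P i := stepQ 5980 Q5980 (allL N5980 (tt N5980 F18993) (tt N4510 F18994) (tt N5980 F18995) (tt N4505 F18996) (tt N7562 (iv F24242)) (tt N7569 D7662) (tt N4504 (iv D6049)) (tt N7570 D7663))
theorem Q5982 : ∀ i, i < 5982 → P i := stepQ 5981 Q5981 (allL N5981 (tt N5981 F18997) (tt N7290 (iv F23398)) (tt N7292 F23396) (tt N7569 (iv F24276)) (tt N4508 F18998) (tt N4505 (iv D6050)) (tt N7568 (iv F24272)) (tt N5981 F18999))
theorem Q5983 : ∀ i, i < 5983 → P i := stepQ 5982 Q5982 (allL N5982 (tt N5982 F19000) (tt N7218 (iv F23120)) (tt N6272 (iv F19879)) (tt N7429 (iv F23825)) (tt N7566 (iv F24262)) (tt N7571 D7664) (tt N4506 (iv D6051)) (tt N4507 F19001))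
theorem Q5984 : ∀ i, i < 5984 → P i := stepQ 5983 Q5983 (allL N5983 (tt N5983 F19002) (tt N7572 D7665) (tt N6271 (iv F19874)) (tt N6269 (iv F19866)) (tt N7568 (iv F24271)) (tt N4507 (iv D6052)) (tt N4508 F19003) (tt N7571 (iv F24287)))
theorem Q5985 : ∀ i, i < 5985 → P i := stepQ 5984 Q5984 (allL N5984 (tt N7288 (iv F23381)) (tt N4508 (iv D6053)) (tt N7291 (iv F23403)) (tt N7255 F23240) (tt N7290 F23399) (tt N4512 F19004) (tt N7572 (iv F24288)) (tt N5984 F19005))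
theorem Q5986 : ∀ i, i < 5986 → P i := stepQ 5985 Q5985 (allL N5985 (tt N4513 F19006) (tt N5985 F19007) (tt N4510 F19008) (tt N5985 F19009) (tt N7263 (iv F23284)) (tt N7573 D7666) (tt N4509 (iv D6054)) (tt N7574 D7667))
theorem Q5987 : ∀ i, i < 5987 → P i := stepQ 5986 Q5986 (allL N5986 (tt N4514 F19010) (tt N7575 D7668) (tt N7573 (iv F24290)) (tt N4511 F19011) (tt N7251 (iv F23225)) (tt N4510 (iv D6055)) (tt N7222 (iv F23132)) (tt N7576 D7669))
theorem Q5988 : ∀ i, i < 5988 → P i := stepQ 5987 Q5987 (allL N5987 (tt N4515 F19012) (tt N7570 (iv F24278)) (tt N7574 (iv F24294)) (tt N5987 F19013) (tt N4827 F19014) (tt N7576 (iv F24302)) (tt N5987 F19015) (tt N4510 (iv D6056)))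
theorem Q5989 : ∀ i, i < 5989 → P i := stepQ 5988 Q5988 (allL N5988 (tt N7291 (iv F23388)) (tt N4511 (iv D6057)) (tt N7288 (iv F23402)) (tt N7575 (iv F24298)) (tt N4512 F19016) (tt N7290 F23400) (tt N7223 (iv F23134)) (tt N5988 F19017))
theorem Q5990 : ∀ i, i < 5990 → P i := stepQ 5989 Q5989 (allL N5989 (tt N7290 (iv F23386)) (tt N5989 F19018) (tt N4512 (iv D6058)) (tt N7577 D7670) (tt N7288 F23404) (tt N7291 F23401) (tt N7224 (iv F23137)) (tt N5989 F19019))
theorem Q5991 : ∀ i, i < 5991 → P i := stepQ 5990 Q5990 (allL N5990 (tt N7573 (iv F24289)) (tt N6379 (iv F20269)) (tt N4514 F19020) (tt N5990 F19021) (tt N7257 (iv F23246)) (tt N4513 (iv D6059)) (tt N6098 (iv F19317)) (tt N7578 D7671))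
theorem Q5992 : ∀ i, i < 5992 → P i := stepQ 5991 Q5991 (allL N5991 (tt N7574 (iv F24292)) (tt N5851 F19022) (tt N4515 F19023) (tt N5853 F19026) (tt N4835 F19024) (tt N7578 (iv F24307)) (tt N5991 F19025) (tt N4513 (iv D6060)))
theorem Q5993 : ∀ i, i < 5993 → P i := stepQ 5992 Q5992 (allL N5992 (tt N7576 (iv F24299)) (tt N5734 F19027) (tt N7578 (iv F24305)) (tt N5992 F19028) (tt N4833 F19029) (tt N4515 F19030) (tt N7579 D7672) (tt N4514 (iv D6061)))
theorem Q5994 : ∀ i, i < 5994 → P i := stepQ 5993 Q5993 (allL N5993 (tt N6921 (iv F22221)) (tt N4516 (iv D6062)) (tt N5544 F19031) (tt N4531 F19032) (tt N5543 (iv F19034)) (tt N5548 (iv F19035)) (tt N7580 D7673) (tt N5557 F19033))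
theorem Q5995 : ∀ i, i < 5995 → P i := stepQ 5994 Q5994 (allL N5994 (tt N4662 F19036) (tt N5543 F19037) (tt N4517 F19038) (tt N4952 F19039) (tt N4516 (iv D6063)) (tt N4945 F19040) (tt N7581 D7674) (tt N5556 F19041))
theorem Q5996 : ∀ i, i < 5996 → P i := stepQ 5995 Q5995 (allL N5995 (tt N4663 F19042) (tt N7580 (iv F24316)) (tt N4518 F19043) (tt N4532 F19044) (tt N7581 (iv F24324)) (tt N6754 (iv F21578)) (tt N4516 (iv D6064)) (tt N6753 F21575))
theorem Q5997 : ∀ i, i < 5997 → P i := stepQ 5996 Q5996 (allL N5996 (tt N4664 F19045) (tt N5887 F19046) (tt N7581 (iv F24322)) (tt N4527 F19047) (tt N4518 F19048) (tt N6759 (iv F21597)) (tt N4517 (iv D6065)) (tt N4811 F19049))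
theorem Q5998 : ∀ i, i < 5998 → P i := stepQ 5997 Q5997 (allL N5997 (tt N6776 (iv F21644)) (tt N4519 (iv D6066)) (tt N7582 D7675) (tt N6762 F21606) (tt N4530 F19050) (tt N7432 (iv F23835)) (tt N6455 (iv F20551)) (tt N5997 F19051))
theorem Q5999 : ∀ i, i < 5999 → P i := stepQ 5998 Q5998 (allL N5998 (tt N4522 F19052) (tt N4665 F19053) (tt N7062 (iv F22689)) (tt N5644 F19054) (tt N5135 F19055) (tt N7583 D7676) (tt N4520 (iv D6067)) (tt N6395 (iv F20332)))
theorem Q6000 : ∀ i, i < 6000 → P i := stepQ 5999 Q5999 (allL N5999 (tt N5644 F19056) (tt N4523 F19057) (tt N5643 F19058) (tt N4522 F19059) (tt N6645 (iv F21200)) (tt N7584 D7677) (tt N4521 (iv D6068)) (tt N7585 D7678))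
theorem Q6001 : ∀ i, i < 6001 → P i := stepQ 6000 Q6000 (allL N6000 (tt N7583 (iv F24329)) (tt N7586 D7679) (tt N7299 (iv F23429)) (tt N7584 (iv F24334)) (tt N6448 (iv F20525)) (tt N4522 (iv D6069)) (tt N7438 (iv F23853)) (tt N6520 (iv F20772)))
theorem Q6002 : ∀ i, i < 6002 → P i := stepQ 6001 Q6001 (allL N6001 (tt N4667 F19060) (tt N7587 D7680) (tt N5012 F19061) (tt N4524 F19062) (tt N5011 F19063) (tt N4523 (iv D6070)) (tt N4528 F19064) (tt N5009 F19065))
theorem Q6003 : ∀ i, i < 6003 → P i := stepQ 6002 Q6002 (allL N6002 (tt N4668 F19066) (tt N7585 (iv F24336)) (tt N4703 F19067) (tt N6545 (iv F20847)) (tt N5010 F19068) (tt N5009 F19069) (tt N6002 F19070) (tt N4523 (iv D6071)))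
theorem Q6004 : ∀ i, i < 6004 → P i := stepQ 6003 Q6003 (allL N6003 (tt N7588 D7681) (tt N4524 (iv D6072)) (tt N7589 D7682) (tt N7587 (iv F24341)) (tt N6455 (iv F20550)) (tt N7586 (iv F24340)) (tt N4530 F19071) (tt N6546 (iv F20851)))
theorem Q6005 : ∀ i, i < 6005 → P i := stepQ 6004 Q6004 (allL N6004 (tt N5646 F19072) (tt N4526 F19073) (tt N7446 (iv F23876)) (tt N4540 F19074) (tt N6667 (iv F21277)) (tt N7590 D7683) (tt N4525 (iv D6073)) (tt N7591 D7684))
theorem Q6006 : ∀ i, i < 6006 → P i := stepQ 6005 Q6005 (allL N6005 (tt N4670 F19075) (tt N7592 D7685) (tt N4528 F19076) (tt N4541 F19077) (tt N5002 F19078) (tt N4526 (iv D6074)) (tt N5012 F19079) (tt N5000 F19080))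
theorem Q6007 : ∀ i, i < 6007 → P i := stepQ 6006 Q6006 (allL N6006 (tt N4671 F19081) (tt N7591 (iv F24353)) (tt N4529 F19082) (tt N6584 (iv F20969)) (tt N5001 F19083) (tt N5000 F19084) (tt N6006 F19085) (tt N4526 (iv D6075)))
theorem Q6008 : ∀ i, i < 6008 → P i := stepQ 6007 Q6007 (allL N6007 (tt N4672 F19086) (tt N7593 D7686) (tt N5002 F19087) (tt N6759 (iv F21595)) (tt N4528 F19088) (tt N4527 (iv D6076)) (tt N5011 F19089) (tt N4999 (iv F19090)))
theorem Q6009 : ∀ i, i < 6009 → P i := stepQ 6008 Q6008 (allL N6008 (tt N4673 F19091) (tt N7450 (iv F23892)) (tt N5001 F19092) (tt N4819 F19093) (tt N4529 F19094) (tt N4999 F19095) (tt N6008 F19096) (tt N4527 (iv D6077)))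
theorem Q6010 : ∀ i, i < 6010 → P i := stepQ 6009 Q6009 (allL N6009 (tt N7594 D7687) (tt N4528 (iv D6078)) (tt N7595 D7688) (tt N4530 F19097) (tt N7593 (iv F24360)) (tt N7451 (iv F23898)) (tt N7587 (iv F24343)) (tt N7596 D7689))
theorem Q6011 : ∀ i, i < 6011 → P i := stepQ 6010 Q6010 (allL N6010 (tt N4675 F19098) (tt N7596 (iv F24365)) (tt N5000 F19099) (tt N6010 F19100) (tt N4999 F19101) (tt N4529 F19102) (tt N4998 F19103) (tt N4528 (iv D6079)))
theorem Q6012 : ∀ i, i < 6012 → P i := stepQ 6011 Q6011 (allL N6011 (tt N4530 (iv D6080)) (tt N4676 F19104) (tt N7597 D7690) (tt N7594 (iv F24364)) (tt N6776 F21647) (tt N7453 (iv F23903)) (tt N7588 (iv F24346)) (tt N6011 F19105))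
theorem Q6013 : ∀ i, i < 6013 → P i := stepQ 6012 Q6012 (allL N6012 (tt N7597 (iv F24369)) (tt N4544 F19106) (tt N4530 (iv D6081)) (tt N7598 D7691) (tt N7582 (iv F24327)) (tt N7454 (iv F23906)) (tt N7589 (iv F24348)) (tt N6012 F19107))
theorem Q6014 : ∀ i, i < 6014 → P i := stepQ 6013 Q6013 (allL N6013 (tt N4531 (iv D6082)) (tt N4678 F19108) (tt N4548 F19109) (tt N6921 (iv F22224)) (tt N5631 F19110) (tt N6401 (iv F20347)) (tt N7599 D7692) (tt N4655 F19111))
theorem Q6015 : ∀ i, i < 6015 → P i := stepQ 6014 Q6014 (allL N6014 (tt N6401 F20349) (tt N6535 (iv F20810)) (tt N4549 F19112) (tt N5548 F19113) (tt N6740 (iv F21521)) (tt N4531 (iv D6083)) (tt N7600 D7693) (tt N4656 F19114))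
theorem Q6016 : ∀ i, i < 6016 → P i := stepQ 6015 Q6015 (allL N6015 (tt N7599 (iv F24372)) (tt N4532 F19115) (tt N4550 F19116) (tt N7580 (iv F24318)) (tt N6470 (iv F20601)) (tt N7601 D7694) (tt N4531 (iv D6084)) (tt N6467 (iv F20596)))
theorem Q6017 : ∀ i, i < 6017 → P i := stepQ 6016 Q6016 (allL N6016 (tt N4681 F19117) (tt N7602 D7695) (tt N4533 F19118) (tt N6754 F21579) (tt N6474 (iv F20613)) (tt N4532 (iv D6085)) (tt N6723 (iv F21472)) (tt N6472 (iv F20610)))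
theorem Q6018 : ∀ i, i < 6018 → P i := stepQ 6017 Q6017 (allL N6017 (tt N7171 (iv F22978)) (tt N4533 (iv D6086)) (tt N7603 D7696) (tt N4534 F19119) (tt N6477 (iv F20627)) (tt N4552 F19120) (tt N6725 (iv F21480)) (tt N6476 (iv F20623)))
theorem Q6019 : ∀ i, i < 6019 → P i := stepQ 6018 Q6018 (allL N6018 (tt N4534 (iv D6087)) (tt N4683 F19121) (tt N7604 D7697) (tt N7171 F22983) (tt N4543 F19122) (tt N4553 F19123) (tt N6726 (iv F21485)) (tt N6018 F19124))
theorem Q6020 : ∀ i, i < 6020 → P i := stepQ 6019 Q6019 (allL N6019 (tt N7604 (iv F24383)) (tt N7582 (iv F24326)) (tt N4534 (iv D6088)) (tt N7605 D7698) (tt N4544 F19125) (tt N4554 F19126) (tt N6727 (iv F21488)) (tt N6019 F19127))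
theorem Q6021 : ∀ i, i < 6021 → P i := stepQ 6020 Q6020 (allL N6020 (tt N4685 F19128) (tt N7606 D7699) (tt N4536 F19129) (tt N5012 F19130) (tt N6590 (iv F20990)) (tt N4535 (iv D6089)) (tt N4541 F19131) (tt N6020 F19132))
theorem Q6022 : ∀ i, i < 6022 → P i := stepQ 6021 Q6021 (allL N6021 (tt N5966 (iv F19136)) (tt N4536 (iv D6090)) (tt N7607 D7700) (tt N4537 F19133) (tt N6592 (iv F20997)) (tt N6134 (iv F19432)) (tt N4542 F19134) (tt N6021 F19135))
theorem Q6023 : ∀ i, i < 6023 → P i := stepQ 6022 Q6022 (allL N6022 (tt N4537 (iv D6091)) (tt N4687 F19137) (tt N7608 D7701) (tt N5966 F19138) (tt N6726 (iv F21484)) (tt N6167 (iv F19518)) (tt N4543 F19139) (tt N6809 (iv F21823)))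
theorem Q6024 : ∀ i, i < 6024 → P i := stepQ 6023 Q6023 (allL N6023 (tt N7608 (iv F24394)) (tt N7589 (iv F24347)) (tt N4537 (iv D6092)) (tt N7609 D7702) (tt N6727 (iv F21487)) (tt N7318 (iv F23484)) (tt N4544 F19140) (tt N6810 (iv F21826)))
theorem Q6025 : ∀ i, i < 6025 → P i := stepQ 6024 Q6024 (allL N6024 (tt N4540 F19141) (tt N4689 F19142) (tt N4556 F19143) (tt N5646 F19144) (tt N6572 (iv F20931)) (tt N7610 D7703) (tt N4538 (iv D6093)) (tt N6568 (iv F20918)))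
theorem Q6026 : ∀ i, i < 6026 → P i := stepQ 6025 Q6025 (allL N6025 (tt N5626 F19145) (tt N5625 F19146) (tt N4557 F19147) (tt N5624 F19148) (tt N6824 (iv F21868)) (tt N7611 D7704) (tt N4539 (iv D6094)) (tt N7612 D7705))
theorem Q6027 : ∀ i, i < 6027 → P i := stepQ 6026 Q6026 (allL N6026 (tt N7610 (iv F24397)) (tt N7613 D7706) (tt N4558 F19149) (tt N7590 (iv F24350)) (tt N6581 (iv F20955)) (tt N4540 (iv D6095)) (tt N7611 (iv F24404)) (tt N6577 (iv F20947)))
theorem Q6028 : ∀ i, i < 6028 → P i := stepQ 6027 Q6027 (allL N6027 (tt N7614 D7707) (tt N4541 (iv D6096)) (tt N7615 D7708) (tt N7592 (iv F24356)) (tt N6588 (iv F20981)) (tt N7613 (iv F24410)) (tt N7606 (iv F24389)) (tt N6585 (iv F20975)))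
theorem Q6029 : ∀ i, i < 6029 → P i := stepQ 6028 Q6028 (allL N6028 (tt N5963 F19150) (tt N7615 (iv F24412)) (tt N4542 (iv D6097)) (tt N7616 D7709) (tt N6591 (iv F20994)) (tt N4560 F19151) (tt N7607 (iv F24392)) (tt N5951 F19152))
theorem Q6030 : ∀ i, i < 6030 → P i := stepQ 6029 Q6029 (allL N6029 (tt N4544 F19153) (tt N7617 D7710) (tt N4543 (iv D6098)) (tt N7618 D7711) (tt N7604 (iv F24384)) (tt N4561 F19154) (tt N7608 (iv F24395)) (tt N6029 F19155))
theorem Q6031 : ∀ i, i < 6031 → P i := stepQ 6030 Q6030 (allL N6030 (tt N7618 (iv F24419)) (tt N7598 (iv F24371)) (tt N7616 (iv F24415)) (tt N4544 (iv D6099)) (tt N7619 D7712) (tt N4562 F19156) (tt N7609 (iv F24396)) (tt N7620 D7713))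
theorem Q6032 : ∀ i, i < 6032 → P i := stepQ 6031 Q6031 (allL N6031 (tt N5645 F19157) (tt N4547 F19158) (tt N5822 F19159) (tt N6031 F19160) (tt N6378 (iv F20267)) (tt N6031 F19161) (tt N4545 (iv D6100)) (tt N5831 (iv F19162)))
theorem Q6033 : ∀ i, i < 6033 → P i := stepQ 6032 Q6032 (allL N6032 (tt N4547 F19163) (tt N5647 F19164) (tt N4564 F19165) (tt N6032 F19166) (tt N6819 (iv F21855)) (tt N6818 (iv F21852)) (tt N4546 (iv D6101)) (tt N7621 D7714))
theorem Q6034 : ∀ i, i < 6034 → P i := stepQ 6033 Q6033 (allL N6033 (tt N7621 (iv F24425)) (tt N5831 F19167) (tt N4565 F19168) (tt N6150 (iv F19474)) (tt N6822 (iv F21864)) (tt N6821 (iv F21862)) (tt N7612 (iv F24409)) (tt N4547 (iv D6102)))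
theorem Q6035 : ∀ i, i < 6035 → P i := stepQ 6034 Q6034 (allL N6034 (tt N4550 F19169) (tt N4591 F19170) (tt N7599 (iv F24374)) (tt N5413 F19171) (tt N5632 F19172) (tt N7622 D7715) (tt N4548 (iv D6103)) (tt N7003 (iv F22476)))
theorem Q6036 : ∀ i, i < 6036 → P i := stepQ 6035 Q6035 (allL N6035 (tt N6410 (iv F20373)) (tt N6420 (iv F20408)) (tt N7600 (iv F24377)) (tt N6411 (iv F20379)) (tt N7240 (iv F23182)) (tt N7623 D7716) (tt N4549 (iv D6104)) (tt N7624 D7717))
theorem Q6037 : ∀ i, i < 6037 → P i := stepQ 6036 Q6036 (allL N6036 (tt N7622 (iv F24429)) (tt N7625 D7718) (tt N7601 (iv F24379)) (tt N7495 (iv F24037)) (tt N7014 (iv F22501)) (tt N4550 (iv D6105)) (tt N7623 (iv F24432)) (tt N7010 (iv F22496)))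
theorem Q6038 : ∀ i, i < 6038 → P i := stepQ 6037 Q6037 (allL N6037 (tt N7626 D7719) (tt N4551 (iv D6106)) (tt N7627 D7720) (tt N7497 (iv F24043)) (tt N7019 (iv F22521)) (tt N7625 (iv F24436)) (tt N7330 (iv F23522)) (tt N7017 (iv F22517)))
theorem Q6039 : ∀ i, i < 6039 → P i := stepQ 6038 Q6038 (allL N6038 (tt N4552 (iv D6107)) (tt N4593 F19173) (tt N7628 D7721) (tt N4553 F19174) (tt N5398 F19175) (tt N7171 (iv F22981)) (tt N6149 (iv F19472)) (tt N5396 F19176))
theorem Q6040 : ∀ i, i < 6040 → P i := stepQ 6039 Q6039 (allL N6039 (tt N7628 (iv F24439)) (tt N7627 (iv F24438)) (tt N4552 (iv D6108)) (tt N7629 D7722) (tt N7021 (iv F22528)) (tt N7603 (iv F24381)) (tt N7331 (iv F23524)) (tt N7020 (iv F22525)))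
theorem Q6041 : ∀ i, i < 6041 → P i := stepQ 6040 Q6040 (allL N6040 (tt N4554 F19177) (tt N7630 D7723) (tt N4553 (iv D6109)) (tt N7631 D7724) (tt N4561 F19178) (tt N7604 (iv F24385)) (tt N6169 (iv F19524)) (tt N6040 F19179))
theorem Q6042 : ∀ i, i < 6042 → P i := stepQ 6041 Q6041 (allL N6041 (tt N7631 (iv F24447)) (tt N7500 (iv F24056)) (tt N7629 (iv F24442)) (tt N4554 (iv D6110)) (tt N7632 D7725) (tt N7605 (iv F24387)) (tt N7332 (iv F23526)) (tt N7633 D7726))
theorem Q6043 : ∀ i, i < 6043 → P i := stepQ 6042 Q6042 (allL N6042 (tt N4557 F19180) (tt N5629 F19181) (tt N5626 F19182) (tt N7501 (iv F24060)) (tt N7352 (iv F23578)) (tt N7634 D7727) (tt N4555 (iv D6111)) (tt N7635 D7728))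
theorem Q6044 : ∀ i, i < 6044 → P i := stepQ 6043 Q6043 (allL N6043 (tt N4558 F19183) (tt N7141 (iv F22905)) (tt N7610 (iv F24398)) (tt N7502 (iv F24063)) (tt N7145 (iv F22916)) (tt N4556 (iv D6112)) (tt N7634 (iv F24452)) (tt N7149 (iv F22930)))
theorem Q6045 : ∀ i, i < 6045 → P i := stepQ 6044 Q6044 (allL N6044 (tt N7634 (iv F24450)) (tt N7636 D7729) (tt N7611 (iv F24402)) (tt N7505 (iv F24071)) (tt N7164 (iv F22961)) (tt N4557 (iv D6113)) (tt N4558 F19184) (tt N7637 D7730))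
theorem Q6046 : ∀ i, i < 6046 → P i := stepQ 6045 Q6045 (allL N6045 (tt N7635 (iv F24453)) (tt N7337 (iv F23539)) (tt N7612 (iv F24407)) (tt N7638 D7731) (tt N7355 (iv F23583)) (tt N7637 (iv F24458)) (tt N4565 F19185) (tt N4557 (iv D6114)))
theorem Q6047 : ∀ i, i < 6047 → P i := stepQ 6046 Q6046 (allL N6046 (tt N7639 D7732) (tt N4558 (iv D6115)) (tt N7640 D7733) (tt N7368 F23625) (tt N7163 (iv F22959)) (tt N4559 F19186) (tt N7636 (iv F24457)) (tt N5947 F19187))
theorem Q6048 : ∀ i, i < 6048 → P i := stepQ 6047 Q6047 (allL N6047 (tt N4559 (iv D6116)) (tt N4597 F19188) (tt N7641 D7734) (tt N4612 F19189) (tt N7147 (iv F22924)) (tt N7639 (iv F24462)) (tt N5801 F19190) (tt N5618 F19191))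
theorem Q6049 : ∀ i, i < 6049 → P i := stepQ 6048 Q6048 (allL N6048 (tt N7641 (iv F24466)) (tt N4560 F19192) (tt N4559 (iv D6117)) (tt N7642 D7735) (tt N7167 (iv F22971)) (tt N7640 (iv F24464)) (tt N6113 (iv F19361)) (tt N5946 F19193))
theorem Q6050 : ∀ i, i < 6050 → P i := stepQ 6049 Q6049 (allL N6049 (tt N5964 F19194) (tt N7642 (iv F24470)) (tt N4562 F19195) (tt N4560 (iv D6118)) (tt N7643 D7736) (tt N7616 (iv F24416)) (tt N6132 (iv F19423)) (tt N7644 D7737))
theorem Q6051 : ∀ i, i < 6051 → P i := stepQ 6050 Q6050 (allL N6050 (tt N7421 (iv F23789)) (tt N4561 (iv D6119)) (tt N4598 F19196) (tt N7645 D7738) (tt N7630 (iv F24444)) (tt N7646 D7739) (tt N6168 (iv F19520)) (tt N6050 F19197))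
theorem Q6052 : ∀ i, i < 6052 → P i := stepQ 6051 Q6051 (allL N6051 (tt N4562 F19198) (tt N7645 (iv F24476)) (tt N5964 F19199) (tt N4561 (iv D6120)) (tt N7647 D7740) (tt N7618 (iv F24421)) (tt N6163 (iv F19507)) (tt N7648 D7741))
theorem Q6053 : ∀ i, i < 6053 → P i := stepQ 6052 Q6052 (allL N6052 (tt N7647 (iv F24479)) (tt N7507 (iv F24074)) (tt N7643 (iv F24472)) (tt N7632 (iv F24448)) (tt N4562 (iv D6121)) (tt N7619 (iv F24422)) (tt N7338 (iv F23542)) (tt N7649 D7742))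
theorem Q6054 : ∀ i, i < 6054 → P i := stepQ 6053 Q6053 (allL N6053 (tt N7648 (iv F24481)) (tt N7508 (iv F24075)) (tt N7644 (iv F24474)) (tt N6053 F19200) (tt N7649 (iv F24484)) (tt N7620 (iv F24424)) (tt N7650 D7743) (tt N4562 (iv D6122)))
theorem Q6055 : ∀ i, i < 6055 → P i := stepQ 6054 Q6054 (allL N6054 (tt N6988 (iv F22421)) (tt N4564 F19201) (tt N5649 F19202) (tt N4572 F19203) (tt N7349 (iv F23568)) (tt N7651 D7744) (tt N4563 (iv D6123)) (tt N7652 D7745))
theorem Q6056 : ∀ i, i < 6056 → P i := stepQ 6055 Q6055 (allL N6055 (tt N4565 F19204) (tt N7652 (iv F24489)) (tt N7621 (iv F24427)) (tt N7653 D7746) (tt N7350 (iv F23571)) (tt N7346 (iv F23562)) (tt N7635 (iv F24456)) (tt N4564 (iv D6124)))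
theorem Q6057 : ∀ i, i < 6057 → P i := stepQ 6056 Q6056 (allL N6056 (tt N7653 (iv F24492)) (tt N7344 (iv F23554)) (tt N7654 D7747) (tt N4565 (iv D6125)) (tt N7655 D7748) (tt N7353 (iv F23580)) (tt N7638 (iv F24459)) (tt N4584 F19205))
theorem Q6058 : ∀ i, i < 6058 → P i := stepQ 6057 Q6057 (allL N6057 (tt N4576 F19206) (tt N7656 D7749) (tt N4567 F19207) (tt N6057 F19208) (tt N7326 (iv F23506)) (tt N4566 (iv D6126)) (tt N7657 D7750) (tt N7658 D7751))
theorem Q6059 : ∀ i, i < 6059 → P i := stepQ 6058 Q6058 (allL N6058 (tt N4577 F19209) (tt N6058 F19210) (tt N4568 F19211) (tt N7659 D7752) (tt N6104 (iv F19335)) (tt N7658 (iv F24508)) (tt N7660 D7753) (tt N4566 (iv D6127)))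
theorem Q6060 : ∀ i, i < 6060 → P i := stepQ 6059 Q6059 (allL N6059 (tt N4575 F19212) (tt N4567 (iv D6128)) (tt N7661 D7754) (tt N4569 F19213) (tt N6061 (iv F19221)) (tt N4603 F19214) (tt N7662 D7755) (tt N5778 (iv F19215)))
theorem Q6061 : ∀ i, i < 6061 → P i := stepQ 6060 Q6060 (allL N6060 (tt N4578 F19216) (tt N7662 (iv F24522)) (tt N7657 (iv F24502)) (tt N4570 F19217) (tt N7340 (iv F23545)) (tt N6087 (iv F19284)) (tt N4567 (iv D6129)) (tt N7663 D7756))
theorem Q6062 : ∀ i, i < 6062 → P i := stepQ 6061 Q6061 (allL N6061 (tt N4579 F19218) (tt N5778 F19219) (tt N7658 (iv F24507)) (tt N5787 F19220) (tt N6059 F19221) (tt N4568 F19222) (tt N7664 D7757) (tt N4567 (iv D6130)))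
theorem Q6063 : ∀ i, i < 6063 → P i := stepQ 6062 Q6062 (allL N6062 (tt N4580 F19223) (tt N4605 F19224) (tt N7660 (iv F24515)) (tt N5802 F19225) (tt N6105 (iv F19340)) (tt N7665 D7758) (tt N4568 (iv D6131)) (tt N5600 F19226))
theorem Q6064 : ∀ i, i < 6064 → P i := stepQ 6063 Q6063 (allL N6063 (tt N6975 (iv F22387)) (tt N6063 F19227) (tt N4569 (iv D6132)) (tt N7277 (iv F23353)) (tt N4571 F19228) (tt N4606 F19229) (tt N7666 D7759) (tt N5936 F19230))
theorem Q6065 : ∀ i, i < 6065 → P i := stepQ 6064 Q6064 (allL N6064 (tt N7345 (iv F23556)) (tt N4570 F19231) (tt N7666 (iv F24536)) (tt N7662 (iv F24523)) (tt N4572 F19232) (tt N7667 D7760) (tt N4569 (iv D6133)) (tt N7668 D7761))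
theorem Q6066 : ∀ i, i < 6066 → P i := stepQ 6065 Q6065 (allL N6065 (tt N4582 F19233) (tt N7668 (iv F24540)) (tt N6065 F19234) (tt N7669 D7762) (tt N4574 F19235) (tt N6083 (iv F19272)) (tt N5934 F19236) (tt N4570 (iv D6134)))
theorem Q6067 : ∀ i, i < 6067 → P i := stepQ 6066 Q6066 (allL N6066 (tt N6976 (iv F22391)) (tt N6066 F19237) (tt N4572 F19238) (tt N5658 F19239) (tt N7666 (iv F24537)) (tt N7670 D7763) (tt N4571 (iv D6135)) (tt N7671 D7764))
theorem Q6068 : ∀ i, i < 6068 → P i := stepQ 6067 Q6067 (allL N6067 (tt N7347 (iv F23563)) (tt N7672 D7765) (tt N7670 (iv F24545)) (tt N7651 (iv F24487)) (tt N7667 (iv F24538)) (tt N4572 (iv D6136)) (tt N4611 F19240) (tt N7673 D7766))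
theorem Q6069 : ∀ i, i < 6069 → P i := stepQ 6068 Q6068 (allL N6068 (tt N7348 (iv F23565)) (tt N4574 F19241) (tt N7671 (iv F24549)) (tt N7674 D7767) (tt N7668 (iv F24541)) (tt N7673 (iv F24552)) (tt N7516 (iv F24097)) (tt N4572 (iv D6137)))
theorem Q6070 : ∀ i, i < 6070 → P i := stepQ 6069 Q6069 (allL N6069 (tt N7662 (iv F24521)) (tt N4573 (iv D6138)) (tt N7675 D7768) (tt N7345 (iv F23558)) (tt N6078 (iv F19263)) (tt N7672 (iv F24550)) (tt N4575 F19242) (tt N7676 D7769))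
theorem Q6071 : ∀ i, i < 6071 → P i := stepQ 6070 Q6070 (allL N6070 (tt N4583 F19243) (tt N7676 (iv F24556)) (tt N6070 F19244) (tt N7677 D7770) (tt N6083 (iv F19271)) (tt N4574 F19245) (tt N6080 (iv F19267)) (tt N4573 (iv D6139)))
theorem Q6072 : ∀ i, i < 6072 → P i := stepQ 6071 Q6071 (allL N6071 (tt N4584 F19246) (tt N7674 (iv F24553)) (tt N7678 D7771) (tt N4574 (iv D6140)) (tt N7679 D7772) (tt N7677 (iv F24559)) (tt N7517 (iv F24099)) (tt N7653 (iv F24493)))
theorem Q6073 : ∀ i, i < 6073 → P i := stepQ 6072 Q6072 (allL N6072 (tt N7661 (iv F24517)) (tt N6072 F19247) (tt N4575 (iv D6141)) (tt N7680 D7773) (tt N6074 (iv F19255)) (tt N4614 F19248) (tt N7675 (iv F24555)) (tt N5766 F19249))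
theorem Q6074 : ∀ i, i < 6074 → P i := stepQ 6073 Q6073 (allL N6073 (tt N7657 (iv F24500)) (tt N6073 F19250) (tt N4578 F19251) (tt N6073 F19252) (tt N7328 (iv F23513)) (tt N7327 (iv F23510)) (tt N4576 (iv D6142)) (tt N7681 D7774))
theorem Q6075 : ∀ i, i < 6075 → P i := stepQ 6074 Q6074 (allL N6074 (tt N7658 (iv F24506)) (tt N6074 F19253) (tt N4579 F19254) (tt N7682 D7775) (tt N6072 F19255) (tt N4577 F19256) (tt N7683 D7776) (tt N4576 (iv D6143)))
theorem Q6076 : ∀ i, i < 6076 → P i := stepQ 6075 Q6075 (allL N6075 (tt N7659 (iv F24509)) (tt N4588 F19257) (tt N7518 (iv F24102)) (tt N4577 (iv D6144)) (tt N7684 D7777) (tt N7682 (iv F24574)) (tt N7685 D7778) (tt N6075 F19258))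
theorem Q6077 : ∀ i, i < 6077 → P i := stepQ 6076 Q6076 (allL N6076 (tt N7660 (iv F24513)) (tt N4589 F19259) (tt N4580 F19260) (tt N7685 (iv F24585)) (tt N6116 (iv F19368)) (tt N7686 D7779) (tt N4577 (iv D6145)) (tt N7320 (iv F23494)))
theorem Q6078 : ∀ i, i < 6078 → P i := stepQ 6077 Q6077 (allL N6077 (tt N7663 (iv F24524)) (tt N4583 F19261) (tt N7681 (iv F24568)) (tt N7687 D7780) (tt N7343 (iv F23552)) (tt N7342 (iv F23550)) (tt N7688 D7781) (tt N4578 (iv D6146)))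
theorem Q6079 : ∀ i, i < 6079 → P i := stepQ 6078 Q6078 (allL N6078 (tt N7664 (iv F24527)) (tt N4586 F19262) (tt N7683 (iv F24578)) (tt N7521 (iv F24118)) (tt N6069 F19263) (tt N7689 D7782) (tt N4579 (iv D6147)) (tt N7688 (iv F24591)))
theorem Q6080 : ∀ i, i < 6080 → P i := stepQ 6079 Q6079 (allL N6079 (tt N7665 (iv F24531)) (tt N6108 (iv F19346)) (tt N7686 (iv F24586)) (tt N7522 (iv F24121)) (tt N6114 (iv F19362)) (tt N4580 (iv D6148)) (tt N7689 (iv F24594)) (tt N7335 (iv F23537)))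
theorem Q6081 : ∀ i, i < 6081 → P i := stepQ 6080 Q6080 (allL N6080 (tt N6083 (iv F19269)) (tt N7343 (iv F23551)) (tt N6080 F19264) (tt N7690 D7783) (tt N4583 F19265) (tt N4582 F19266) (tt N6070 F19267) (tt N4581 (iv D6149)))
theorem Q6082 : ∀ i, i < 6082 → P i := stepQ 6081 Q6081 (allL N6081 (tt N7669 (iv F24543)) (tt N7353 (iv F23579)) (tt N7691 D7784) (tt N4582 (iv D6150)) (tt N7692 D7785) (tt N7690 (iv F24595)) (tt N7523 (iv F24125)) (tt N7687 (iv F24588)))
theorem Q6083 : ∀ i, i < 6083 → P i := stepQ 6082 Q6082 (allL N6082 (tt N7677 (iv F24558)) (tt N7687 (iv F24587)) (tt N7693 D7786) (tt N4583 (iv D6151)) (tt N7694 D7787) (tt N4584 F19268) (tt N7695 D7788) (tt N7353 (iv F23581)))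
theorem Q6084 : ∀ i, i < 6084 → P i := stepQ 6083 Q6083 (allL N6083 (tt N6080 F19269) (tt N7688 (iv F24589)) (tt N6083 F19270) (tt N7695 (iv F24603)) (tt N6070 F19271) (tt N6065 F19272) (tt N4583 (iv D6152)) (tt N4586 F19273))
theorem Q6085 : ∀ i, i < 6085 → P i := stepQ 6084 Q6084 (allL N6084 (tt N7678 (iv F24560)) (tt N7696 D7789) (tt N4584 (iv D6153)) (tt N6084 F19274) (tt N7697 D7790) (tt N7693 (iv F24600)) (tt N7527 (iv F24135)) (tt N7654 (iv F24494)))
theorem Q6086 : ∀ i, i < 6086 → P i := stepQ 6085 Q6085 (allL N6085 (tt N7679 (iv F24562)) (tt N7357 (iv F23585)) (tt N7697 (iv F24606)) (tt N7692 (iv F24598)) (tt N4584 (iv D6154)) (tt N7694 (iv F24601)) (tt N7528 (iv F24136)) (tt N7655 (iv F24495)))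
theorem Q6087 : ∀ i, i < 6087 → P i := stepQ 6086 Q6086 (allL N6086 (tt N5764 F19275) (tt N5443 F19276) (tt N4585 (iv D6155)) (tt N6086 F19277) (tt N5442 F19278) (tt N4587 F19279) (tt N7499 (iv F24055)) (tt N5446 F19280))
theorem Q6088 : ∀ i, i < 6088 → P i := stepQ 6087 Q6087 (allL N6087 (tt N5779 F19281) (tt N7521 (iv F24116)) (tt N7499 (iv F24052)) (tt N4586 F19282) (tt N5777 F19283) (tt N6060 F19284) (tt N4585 (iv D6156)) (tt N7498 F24049))
theorem Q6089 : ∀ i, i < 6089 → P i := stepQ 6088 Q6088 (allL N6088 (tt N6088 F19285) (tt N7684 (iv F24580)) (tt N6088 F19286) (tt N6136 (iv F19439)) (tt N4588 (iv D6157)) (tt N6088 F19287) (tt N7698 D7791) (tt N6088 F19288))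
theorem Q6090 : ∀ i, i < 6090 → P i := stepQ 6089 Q6089 (allL N6089 (tt N6089 F19289) (tt N7685 (iv F24584)) (tt N6089 F19290) (tt N4589 F19291) (tt N7698 (iv F24609)) (tt N7699 D7792) (tt N4588 (iv D6158)) (tt N7700 D7793))
theorem Q6091 : ∀ i, i < 6091 → P i := stepQ 6090 Q6090 (allL N6090 (tt N6090 F19292) (tt N7701 D7794) (tt N4590 F19293) (tt N7699 (iv F24612)) (tt N6133 (iv F19425)) (tt N4589 (iv D6159)) (tt N6090 F19294) (tt N7323 (iv F23501)))
theorem Q6092 : ∀ i, i < 6092 → P i := stepQ 6091 Q6091 (allL N6091 (tt N4592 (iv D6160)) (tt N7626 (iv F24437)) (tt N7702 D7795) (tt N7046 (iv F22631)) (tt N6933 F22268) (tt N7042 F22615) (tt N7043 (iv F22619)) (tt N6949 (iv F22311)))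
theorem Q6093 : ∀ i, i < 6093 → P i := stepQ 6092 Q6092 (allL N6092 (tt N7702 (iv F24618)) (tt N4594 F19295) (tt N4592 (iv D6161)) (tt N7703 D7796) (tt N5405 F19296) (tt N5474 F19297) (tt N6172 (iv F19538)) (tt N5403 F19298))
theorem Q6094 : ∀ i, i < 6094 → P i := stepQ 6093 Q6093 (allL N6093 (tt N4594 F19299) (tt N7704 D7797) (tt N4593 (iv D6162)) (tt N7705 D7798) (tt N5394 F19300) (tt N4733 F19301) (tt N6151 (iv F19479)) (tt N5392 F19302))
theorem Q6095 : ∀ i, i < 6095 → P i := stepQ 6094 Q6094 (allL N6094 (tt N7705 (iv F24628)) (tt N7703 (iv F24622)) (tt N4596 F19303) (tt N4594 (iv D6163)) (tt N7706 D7799) (tt N4734 F19304) (tt N6173 (iv F19542)) (tt N5670 F19305))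
theorem Q6096 : ∀ i, i < 6096 → P i := stepQ 6095 Q6095 (allL N6095 (tt N7423 (iv F23795)) (tt N4595 (iv D6164)) (tt N7630 (iv F24443)) (tt N7707 D7800) (tt N4598 F19306) (tt N7708 D7801) (tt N4790 F21777) (tt N6095 F19307))
theorem Q6097 : ∀ i, i < 6097 → P i := stepQ 6096 Q6096 (allL N6096 (tt N4596 F19308) (tt N7707 (iv F24638)) (tt N7705 (iv F24629)) (tt N4595 (iv D6165)) (tt N7709 D7802) (tt N4736 F19309) (tt N6170 (iv F19533)) (tt N7710 D7803))
theorem Q6098 : ∀ i, i < 6098 → P i := stepQ 6097 Q6097 (allL N6097 (tt N7709 (iv F24644)) (tt N4654 F19310) (tt N7706 (iv F24633)) (tt N4600 F19311) (tt N4596 (iv D6166)) (tt N4737 F19312) (tt N5849 F19313) (tt N7711 D7804))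
theorem Q6099 : ∀ i, i < 6099 → P i := stepQ 6098 Q6098 (allL N6098 (tt N7710 (iv F24648)) (tt N7426 (iv F23806)) (tt N5670 F19314) (tt N6098 F19315) (tt N7711 (iv F24656)) (tt N4738 F19316) (tt N5990 F19317) (tt N4596 (iv D6167)))
theorem Q6100 : ∀ i, i < 6100 → P i := stepQ 6099 Q6099 (allL N6099 (tt N4650 F19318) (tt N4599 F19319) (tt N7712 D7805) (tt N4598 (iv D6168)) (tt N6291 F21796) (tt N6288 F21782) (tt N5845 F19320) (tt N4804 (iv F19321)))
theorem Q6101 : ∀ i, i < 6101 → P i := stepQ 6100 Q6100 (allL N6100 (tt N6322 (iv F21785)) (tt N4744 F19322) (tt N7646 (iv F24477)) (tt N6288 F21786) (tt N7708 (iv F24641)) (tt N4598 (iv D6169)) (tt N7713 D7806) (tt N6100 F19323))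
theorem Q6102 : ∀ i, i < 6102 → P i := stepQ 6101 Q6101 (allL N6101 (tt N4600 F19324) (tt N6291 (iv F21795)) (tt N5616 F19325) (tt N7709 (iv F24645)) (tt N4599 (iv D6170)) (tt N4745 F19326) (tt N5846 F19327) (tt N4805 F19328))
theorem Q6103 : ∀ i, i < 6103 → P i := stepQ 6102 Q6102 (allL N6102 (tt N6986 (iv F22416)) (tt N4748 F19329) (tt N4602 F19330) (tt N5664 F19331) (tt N7369 (iv F23627)) (tt N7714 D7807) (tt N4601 (iv D6171)) (tt N7480 (iv F23992)))
theorem Q6104 : ∀ i, i < 6104 → P i := stepQ 6103 Q6103 (allL N6103 (tt N7360 (iv F23596)) (tt N7363 (iv F23606)) (tt N7714 (iv F24667)) (tt N4611 F19332) (tt N7367 (iv F23619)) (tt N4602 (iv D6172)) (tt N7651 (iv F24488)) (tt N7504 (iv F24070)))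
theorem Q6105 : ∀ i, i < 6105 → P i := stepQ 6104 Q6104 (allL N6104 (tt N4614 F19333) (tt N6104 F19334) (tt N4603 (iv D6173)) (tt N7715 D7808) (tt N6058 F19335) (tt N7661 (iv F24519)) (tt N7716 D7809) (tt N5763 F19336))
theorem Q6106 : ∀ i, i < 6106 → P i := stepQ 6105 Q6105 (allL N6105 (tt N4613 F19337) (tt N4604 F19338) (tt N7716 (iv F24675)) (tt N4607 F19339) (tt N6062 F19340) (tt N7717 D7810) (tt N4603 (iv D6174)) (tt N5771 F19341))
theorem Q6107 : ∀ i, i < 6107 → P i := stepQ 6106 Q6106 (allL N6106 (tt N7361 (iv F23598)) (tt N4615 F19342) (tt N7715 (iv F24672)) (tt N4606 (iv D6175)) (tt N7718 D7811) (tt N7277 (iv F23355)) (tt N7719 D7812) (tt N6766 (iv F21622)))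
theorem Q6108 : ∀ i, i < 6108 → P i := stepQ 6107 Q6107 (allL N6107 (tt N7362 (iv F23601)) (tt N4616 F19343) (tt N4607 F19344) (tt N7719 (iv F24687)) (tt N4610 F19345) (tt N7720 D7813) (tt N4606 (iv D6176)) (tt N7721 D7814))
theorem Q6109 : ∀ i, i < 6109 → P i := stepQ 6108 Q6108 (allL N6108 (tt N7363 (iv F23605)) (tt N6079 F19346) (tt N7720 (iv F24688)) (tt N7717 (iv F24680)) (tt N4611 F19347) (tt N4607 (iv D6177)) (tt N7667 (iv F24539)) (tt N7722 D7815))
theorem Q6110 : ∀ i, i < 6110 → P i := stepQ 6109 Q6109 (allL N6109 (tt N7364 (iv F23609)) (tt N4608 F19348) (tt N7721 (iv F24691)) (tt N7142 (iv F22909)) (tt N4612 F19349) (tt N7722 (iv F24696)) (tt N5609 F19350) (tt N4607 (iv D6178)))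
theorem Q6111 : ∀ i, i < 6111 → P i := stepQ 6110 Q6110 (allL N6110 (tt N6969 (iv F22367)) (tt N4620 F19351) (tt N5660 F19352) (tt N7718 (iv F24684)) (tt N4609 (iv D6179)) (tt N5656 F19353) (tt N7723 D7816) (tt N5655 F19354))
theorem Q6112 : ∀ i, i < 6112 → P i := stepQ 6111 Q6111 (allL N6111 (tt N6974 (iv F22383)) (tt N4621 F19355) (tt N5664 F19356) (tt N4610 F19357) (tt N7723 (iv F24699)) (tt N7724 D7817) (tt N4609 (iv D6180)) (tt N7725 D7818))
theorem Q6113 : ∀ i, i < 6113 → P i := stepQ 6112 Q6112 (allL N6112 (tt N7365 (iv F23614)) (tt N7726 D7819) (tt N4611 F19358) (tt N7724 (iv F24701)) (tt N7720 (iv F24689)) (tt N4610 (iv D6181)) (tt N7670 (iv F24547)) (tt N7727 D7820))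
theorem Q6114 : ∀ i, i < 6114 → P i := stepQ 6113 Q6113 (allL N6113 (tt N7366 (iv F23616)) (tt N4624 F19359) (tt N4612 F19360) (tt N7728 D7821) (tt N7721 (iv F24692)) (tt N7727 (iv F24708)) (tt N6048 F19361) (tt N4610 (iv D6182)))
theorem Q6115 : ∀ i, i < 6115 → P i := stepQ 6114 Q6114 (allL N6114 (tt N7717 (iv F24678)) (tt N4611 (iv D6183)) (tt N7729 D7822) (tt N7363 (iv F23607)) (tt N6079 F19362) (tt N4613 F19363) (tt N7672 (iv F24551)) (tt N5775 (iv F19364)))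
theorem Q6116 : ∀ i, i < 6116 → P i := stepQ 6115 Q6115 (allL N6115 (tt N7368 (iv F23622)) (tt N5775 F19365) (tt N7727 (iv F24707)) (tt N7639 (iv F24461)) (tt N7722 (iv F24695)) (tt N4612 F19366) (tt N7730 D7823) (tt N4611 (iv D6184)))
theorem Q6117 : ∀ i, i < 6117 → P i := stepQ 6116 Q6116 (allL N6116 (tt N7716 (iv F24673)) (tt N4627 F19367) (tt N4613 (iv D6185)) (tt N7731 D7824) (tt N6076 F19368) (tt N7729 (iv F24712)) (tt N4614 F19369) (tt N5757 F19370))
theorem Q6118 : ∀ i, i < 6118 → P i := stepQ 6117 Q6117 (allL N6117 (tt N7715 (iv F24670)) (tt N4628 F19371) (tt N7361 (iv F23600)) (tt N4614 (iv D6186)) (tt N7732 D7825) (tt N7680 (iv F24564)) (tt N7731 (iv F24717)) (tt N7733 D7826))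
theorem Q6119 : ∀ i, i < 6119 → P i := stepQ 6118 Q6118 (allL N6118 (tt N4629 F19372) (tt N7718 (iv F24683)) (tt N6118 F19373) (tt N4620 F19374) (tt N4615 (iv D6187)) (tt N6118 F19375) (tt N7734 D7827) (tt N7735 D7828))
theorem Q6120 : ∀ i, i < 6120 → P i := stepQ 6119 Q6119 (allL N6119 (tt N4630 F19376) (tt N7719 (iv F24686)) (tt N6119 F19377) (tt N4616 F19378) (tt N7734 (iv F24726)) (tt N7736 D7829) (tt N4615 (iv D6188)) (tt N7737 D7830))
theorem Q6121 : ∀ i, i < 6121 → P i := stepQ 6120 Q6120 (allL N6120 (tt N4631 F19379) (tt N6766 (iv F21620)) (tt N6120 F19380) (tt N5939 F19381) (tt N7735 (iv F24729)) (tt N6120 F19382) (tt N7738 D7831) (tt N4615 (iv D6189)))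
theorem Q6122 : ∀ i, i < 6122 → P i := stepQ 6121 Q6121 (allL N6121 (tt N4632 F19383) (tt N7739 D7832) (tt N4617 F19384) (tt N7736 (iv F24733)) (tt N4623 F19385) (tt N4616 (iv D6190)) (tt N6121 F19386) (tt N7740 D7833))
theorem Q6123 : ∀ i, i < 6123 → P i := stepQ 6122 Q6122 (allL N6122 (tt N4633 F19387) (tt N7721 (iv F24690)) (tt N4618 F19388) (tt N7741 D7834) (tt N4624 F19389) (tt N7740 (iv F24746)) (tt N5612 F19390) (tt N4616 (iv D6191)))
theorem Q6124 : ∀ i, i < 6124 → P i := stepQ 6123 Q6123 (allL N6123 (tt N4634 F19391) (tt N5761 F19392) (tt N7740 (iv F24744)) (tt N7742 D7835) (tt N4626 F19393) (tt N4618 F19394) (tt N7743 D7836) (tt N4617 (iv D6192)))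
theorem Q6125 : ∀ i, i < 6125 → P i := stepQ 6124 Q6124 (allL N6124 (tt N4635 F19395) (tt N4619 F19396) (tt N7744 D7837) (tt N4618 (iv D6193)) (tt N5769 F19397) (tt N7742 (iv F24752)) (tt N5466 F19398) (tt N6124 F19399))
theorem Q6126 : ∀ i, i < 6126 → P i := stepQ 6125 Q6125 (allL N6125 (tt N4638 F19400) (tt N7723 (iv F24697)) (tt N4763 F19401) (tt N7734 (iv F24725)) (tt N4621 F19402) (tt N6345 (iv F21801)) (tt N4620 (iv D6194)) (tt N7745 D7838))
theorem Q6127 : ∀ i, i < 6127 → P i := stepQ 6126 Q6126 (allL N6126 (tt N4639 F19403) (tt N5655 F19404) (tt N4764 F19405) (tt N7746 D7839) (tt N4622 F19406) (tt N6126 F19407) (tt N7747 D7840) (tt N4620 (iv D6195)))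
theorem Q6128 : ∀ i, i < 6128 → P i := stepQ 6127 Q6127 (allL N6127 (tt N4640 F19408) (tt N7748 D7841) (tt N4765 F19409) (tt N4623 F19410) (tt N6345 F21810) (tt N4621 (iv D6196)) (tt N6127 F19411) (tt N7749 D7842))
theorem Q6129 : ∀ i, i < 6129 → P i := stepQ 6128 Q6128 (allL N6128 (tt N4641 F19412) (tt N7725 (iv F24703)) (tt N4766 F19413) (tt N7750 D7843) (tt N7745 (iv F24765)) (tt N7749 (iv F24779)) (tt N7751 D7844) (tt N4621 (iv D6197)))
theorem Q6130 : ∀ i, i < 6130 → P i := stepQ 6129 Q6129 (allL N6129 (tt N4642 F19414) (tt N5657 F19415) (tt N4767 F19416) (tt N7539 (iv F24177)) (tt N7747 (iv F24773)) (tt N7752 D7845) (tt N4622 (iv D6198)) (tt N7751 (iv F24786)))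
theorem Q6131 : ∀ i, i < 6131 → P i := stepQ 6130 Q6130 (allL N6130 (tt N7753 D7846) (tt N4623 (iv D6199)) (tt N7754 D7847) (tt N7748 (iv F24774)) (tt N7739 (iv F24741)) (tt N7726 (iv F24706)) (tt N6130 F19417) (tt N7755 D7848))
theorem Q6132 : ∀ i, i < 6132 → P i := stepQ 6131 Q6131 (allL N6131 (tt N4644 F19418) (tt N7755 (iv F24796)) (tt N4626 F19419) (tt N7756 D7849) (tt N7740 (iv F24745)) (tt N4624 F19420) (tt N7757 D7850) (tt N4623 (iv D6200)))
theorem Q6133 : ∀ i, i < 6133 → P i := stepQ 6132 Q6132 (allL N6132 (tt N4645 F19421) (tt N7728 (iv F24709)) (tt N5776 F19422) (tt N4624 (iv D6201)) (tt N7758 D7851) (tt N7756 (iv F24800)) (tt N6049 F19423) (tt N7750 (iv F24781)))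
theorem Q6134 : ∀ i, i < 6134 → P i := stepQ 6133 Q6133 (allL N6133 (tt N6133 F19424) (tt N7754 (iv F24792)) (tt N4625 (iv D6202)) (tt N7759 D7852) (tt N6090 F19425) (tt N4627 F19426) (tt N6133 F19427) (tt N5760 F19428))
theorem Q6135 : ∀ i, i < 6135 → P i := stepQ 6134 Q6134 (allL N6134 (tt N4647 F19429) (tt N5754 F19430) (tt N7757 (iv F24802)) (tt N5755 F19431) (tt N7743 (iv F24756)) (tt N6021 F19432) (tt N4626 (iv D6203)) (tt N6134 F19433))
theorem Q6136 : ∀ i, i < 6136 → P i := stepQ 6135 Q6135 (allL N6135 (tt N6135 F19434) (tt N7731 (iv F24716)) (tt N4777 F19435) (tt N4627 (iv D6204)) (tt N7760 D7853) (tt N7759 (iv F24810)) (tt N4628 F19436) (tt N7761 D7854))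
theorem Q6137 : ∀ i, i < 6137 → P i := stepQ 6136 Q6136 (allL N6136 (tt N6136 F19437) (tt N7732 (iv F24718)) (tt N4781 F19438) (tt N6088 F19439) (tt N4628 (iv D6205)) (tt N6136 F19440) (tt N7760 (iv F24815)) (tt N7762 D7855))
theorem Q6138 : ∀ i, i < 6138 → P i := stepQ 6137 Q6137 (allL N6137 (tt N6137 F19441) (tt N7733 (iv F24720)) (tt N4782 F19442) (tt N5265 F19443) (tt N7762 (iv F24822)) (tt N6137 F19444) (tt N7763 D7856) (tt N4628 (iv D6206)))
theorem Q6139 : ∀ i, i < 6139 → P i := stepQ 6138 Q6138 (allL N6138 (tt N7734 (iv F24723)) (tt N7394 (iv F23717)) (tt N6138 F19445) (tt N4638 F19446) (tt N4630 F19447) (tt N6338 (iv F21803)) (tt N4629 (iv D6207)) (tt N7764 D7857))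
theorem Q6140 : ∀ i, i < 6140 → P i := stepQ 6139 Q6139 (allL N6139 (tt N7735 (iv F24727)) (tt N7395 (iv F23720)) (tt N6139 F19448) (tt N7765 D7858) (tt N4631 F19449) (tt N6139 F19450) (tt N7766 D7859) (tt N4629 (iv D6208)))
theorem Q6141 : ∀ i, i < 6141 → P i := stepQ 6140 Q6140 (allL N6140 (tt N7736 (iv F24731)) (tt N6339 (iv F21805)) (tt N6140 F19451) (tt N4632 F19452) (tt N6338 F21804) (tt N4630 (iv D6209)) (tt N6140 F19453) (tt N7767 D7860))
theorem Q6142 : ∀ i, i < 6142 → P i := stepQ 6141 Q6141 (allL N6141 (tt N7737 (iv F24735)) (tt N7397 (iv F23723)) (tt N6141 F19454) (tt N7768 D7861) (tt N7764 (iv F24828)) (tt N7767 (iv F24834)) (tt N7769 D7862) (tt N4630 (iv D6210)))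
theorem Q6143 : ∀ i, i < 6143 → P i := stepQ 6142 Q6142 (allL N6142 (tt N7738 (iv F24737)) (tt N7398 (iv F23726)) (tt N6142 F19455) (tt N7543 (iv F24191)) (tt N7766 (iv F24832)) (tt N7770 D7863) (tt N4631 (iv D6211)) (tt N7769 (iv F24839)))
theorem Q6144 : ∀ i, i < 6144 → P i := stepQ 6143 Q6143 (allL N6143 (tt N7771 D7864) (tt N4632 (iv D6212)) (tt N6143 F19456) (tt N6339 F21806) (tt N4643 F19457) (tt N7399 (iv F23729)) (tt N6143 F19458) (tt N7772 D7865))
theorem Q6145 : ∀ i, i < 6145 → P i := stepQ 6144 Q6144 (allL N6144 (tt N7740 (iv F24743)) (tt N7772 (iv F24845)) (tt N4634 F19459) (tt N7773 D7866) (tt N4644 F19460) (tt N4633 F19461) (tt N7774 D7867) (tt N4632 (iv D6213)))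
theorem Q6146 : ∀ i, i < 6146 → P i := stepQ 6145 Q6145 (allL N6145 (tt N7741 (iv F24747)) (tt N7401 (iv F23733)) (tt N7775 D7868) (tt N4633 (iv D6214)) (tt N7776 D7869) (tt N7773 (iv F24848)) (tt N7546 (iv F24201)) (tt N7768 (iv F24836)))
theorem Q6147 : ∀ i, i < 6147 → P i := stepQ 6146 Q6146 (allL N6146 (tt N7742 (iv F24749)) (tt N6146 F19462) (tt N7777 D7870) (tt N4634 (iv D6215)) (tt N7778 D7871) (tt N4635 F19463) (tt N7779 D7872) (tt N6146 F19464))
theorem Q6148 : ∀ i, i < 6148 → P i := stepQ 6147 Q6147 (allL N6147 (tt N7743 (iv F24754)) (tt N6147 F19465) (tt N7774 (iv F24849)) (tt N7779 (iv F24864)) (tt N4647 F19466) (tt N7547 (iv F24206)) (tt N4634 (iv D6216)) (tt N6147 F19467))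
theorem Q6149 : ∀ i, i < 6149 → P i := stepQ 6148 Q6148 (allL N6148 (tt N7744 (iv F24759)) (tt N7780 D7873) (tt N4635 (iv D6217)) (tt N7775 (iv F24853)) (tt N7781 D7874) (tt N7777 (iv F24856)) (tt N6951 F22315) (tt N6148 F19468))
theorem Q6150 : ∀ i, i < 6150 → P i := stepQ 6149 Q6149 (allL N6149 (tt N5769 F19469) (tt N4637 F19470) (tt N7781 (iv F24871)) (tt N4649 F19471) (tt N4635 (iv D6218)) (tt N7778 (iv F24861)) (tt N6038 F19472) (tt N6149 F19473))
theorem Q6151 : ∀ i, i < 6151 → P i := stepQ 6150 Q6150 (allL N6150 (tt N7782 D7875) (tt N4636 (iv D6219)) (tt N7780 (iv F24867)) (tt N6033 F19474) (tt N7783 D7876) (tt N7784 D7877) (tt N6947 F22303) (tt N6150 F19475))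
theorem Q6152 : ∀ i, i < 6152 → P i := stepQ 6151 Q6151 (allL N6151 (tt N4653 F19476) (tt N7783 (iv F24877)) (tt N4637 F19477) (tt N7785 D7878) (tt N4636 (iv D6220)) (tt N6151 F19478) (tt N6093 F19479) (tt N6151 F19480))
theorem Q6153 : ∀ i, i < 6153 → P i := stepQ 6152 Q6152 (allL N6152 (tt N7745 (iv F24763)) (tt N7406 (iv F23752)) (tt N4787 F19484) (tt N7786 D7879) (tt N4641 F19485) (tt N6168 (iv F21783)) (tt N7787 D7880) (tt N4638 (iv D6222)))
theorem Q6154 : ∀ i, i < 6154 → P i := stepQ 6153 Q6153 (allL N6153 (tt N7746 (iv F24767)) (tt N6387 F20306) (tt N7788 D7881) (tt N4639 (iv D6223)) (tt N6389 (iv F20312)) (tt N6153 F19486) (tt N7789 D7882) (tt N7765 (iv F24830)))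
theorem Q6155 : ∀ i, i < 6155 → P i := stepQ 6154 Q6154 (allL N6154 (tt N7747 (iv F24770)) (tt N7407 (iv F23755)) (tt N4789 F19487) (tt N7789 (iv F24897)) (tt N4642 F19488) (tt N7790 D7883) (tt N4639 (iv D6224)) (tt N7787 (iv F24889)))
theorem Q6156 : ∀ i, i < 6156 → P i := stepQ 6155 Q6155 (allL N6155 (tt N7749 (iv F24776)) (tt N6169 (iv F21800)) (tt N4790 F19491) (tt N7791 D7884) (tt N6168 F21799) (tt N4641 F19492) (tt N7630 (iv F24445)) (tt N4640 (iv D6226)))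
theorem Q6157 : ∀ i, i < 6157 → P i := stepQ 6156 Q6156 (allL N6156 (tt N7750 (iv F24780)) (tt N7409 (iv F23761)) (tt N7792 D7885) (tt N4641 (iv D6227)) (tt N7793 D7886) (tt N7791 (iv F24902)) (tt N7794 D7887) (tt N4645 F19493))
theorem Q6158 : ∀ i, i < 6158 → P i := stepQ 6157 Q6157 (allL N6157 (tt N7751 (iv F24783)) (tt N7410 (iv F23763)) (tt N4792 F19494) (tt N7794 (iv F24908)) (tt N7787 (iv F24888)) (tt N7795 D7888) (tt N4641 (iv D6228)) (tt N4642 F19495))
theorem Q6159 : ∀ i, i < 6159 → P i := stepQ 6158 Q6158 (allL N6158 (tt N7752 (iv F24787)) (tt N7796 D7889) (tt N4793 F19496) (tt N7554 (iv F24222)) (tt N7790 (iv F24900)) (tt N4642 (iv D6229)) (tt N6158 F19497) (tt N7795 (iv F24910)))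
theorem Q6160 : ∀ i, i < 6160 → P i := stepQ 6159 Q6159 (allL N6159 (tt N4643 (iv D6230)) (tt N7753 (iv F24790)) (tt N6159 F19498) (tt N6308 (iv F21811)) (tt N7771 (iv F24843)) (tt N7412 (iv F23770)) (tt N6159 F19499) (tt N7797 D7890))
theorem Q6161 : ∀ i, i < 6161 → P i := stepQ 6160 Q6160 (allL N6160 (tt N7797 (iv F24912)) (tt N4644 F19500) (tt N6160 F19501) (tt N7798 D7891) (tt N7772 (iv F24847)) (tt N7413 (iv F23773)) (tt N7799 D7892) (tt N4643 (iv D6231)))
theorem Q6162 : ∀ i, i < 6162 → P i := stepQ 6161 Q6161 (allL N6161 (tt N7756 (iv F24798)) (tt N7798 (iv F24914)) (tt N7800 D7893) (tt N4644 (iv D6232)) (tt N7801 D7894) (tt N4645 F19502) (tt N7802 D7895) (tt N7791 (iv F24903)))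
theorem Q6163 : ∀ i, i < 6163 → P i := stepQ 6162 Q6162 (allL N6162 (tt N7757 (iv F24801)) (tt N7799 (iv F24915)) (tt N4647 F19503) (tt N7802 (iv F24922)) (tt N7774 (iv F24850)) (tt N7559 (iv F24231)) (tt N4644 (iv D6233)) (tt N6162 F19504))
theorem Q6164 : ∀ i, i < 6164 → P i := stepQ 6163 Q6163 (allL N6163 (tt N5776 F19505) (tt N7803 D7896) (tt N4645 (iv D6234)) (tt N4648 F19506) (tt N7804 D7897) (tt N7800 (iv F24920)) (tt N6051 F19507) (tt N7792 (iv F24906)))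
theorem Q6165 : ∀ i, i < 6165 → P i := stepQ 6164 Q6164 (allL N6164 (tt N7758 (iv F24805)) (tt N7417 (iv F23778)) (tt N7804 (iv F24927)) (tt N7776 (iv F24855)) (tt N4645 (iv D6235)) (tt N7801 (iv F24921)) (tt N7560 (iv F24233)) (tt N7793 (iv F24907)))
theorem Q6166 : ∀ i, i < 6166 → P i := stepQ 6165 Q6165 (allL N6165 (tt N5762 F19508) (tt N7805 D7898) (tt N4646 (iv D6236)) (tt N7800 (iv F24919)) (tt N7806 D7899) (tt N4648 F19509) (tt N7807 D7900) (tt N4799 F19510))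
theorem Q6167 : ∀ i, i < 6167 → P i := stepQ 6166 Q6166 (allL N6166 (tt N5752 F19511) (tt N6166 F19512) (tt N7806 (iv F24935)) (tt N7778 (iv F24860)) (tt N4646 (iv D6237)) (tt N4649 F19513) (tt N7808 D7901) (tt N4800 F19514))
theorem Q6168 : ∀ i, i < 6168 → P i := stepQ 6167 Q6167 (allL N6167 (tt N5755 F19515) (tt N6167 F19516) (tt N7807 (iv F24939)) (tt N4647 F19517) (tt N7808 (iv F24943)) (tt N6022 F19518) (tt N4646 (iv D6238)) (tt N7809 D7902))
theorem Q6169 : ∀ i, i < 6169 → P i := stepQ 6168 Q6168 (allL N6168 (tt N7712 (iv F24659)) (tt N4648 (iv D6239)) (tt N4650 F19519) (tt N7803 (iv F24923)) (tt N6155 (iv F21799)) (tt N6152 F21783) (tt N6050 F19520) (tt N4802 F19521))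
theorem Q6170 : ∀ i, i < 6170 → P i := stepQ 6169 Q6169 (allL N6169 (tt N5770 F19522) (tt N6155 F21800) (tt N4649 F19523) (tt N7810 D7903) (tt N4648 (iv D6240)) (tt N7806 (iv F24936)) (tt N6040 F19524) (tt N4803 F19525))
theorem Q6171 : ∀ i, i < 6171 → P i := stepQ 6170 Q6170 (allL N6170 (tt N4654 F19531) (tt N6327 F21817) (tt N7785 (iv F24884)) (tt N4651 (iv D6243)) (tt N7424 (iv F23800)) (tt N6170 F19532) (tt N6096 F19533) (tt N6333 (iv F21816)))
theorem Q6172 : ∀ i, i < 6172 → P i := stepQ 6171 Q6171 (allL N6171 (tt N4652 (iv D6244)) (tt N7782 (iv F24874)) (tt N6934 F22273) (tt N7033 (iv F22575)) (tt N7811 D7904) (tt N7024 (iv F22538)) (tt N6954 F22325) (tt N6171 F19534))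
theorem Q6173 : ∀ i, i < 6173 → P i := stepQ 6172 Q6172 (allL N6172 (tt N7811 (iv F24956)) (tt N4653 F19535) (tt N5505 F19536) (tt N7812 D7905) (tt N4652 (iv D6245)) (tt N5503 F19537) (tt N6092 F19538) (tt N6172 F19539))
theorem Q6174 : ∀ i, i < 6174 → P i := stepQ 6173 Q6173 (allL N6173 (tt N7785 (iv F24883)) (tt N7812 (iv F24961)) (tt N4654 F19540) (tt N4653 (iv D6246)) (tt N7425 (iv F23803)) (tt N6173 F19541) (tt N6094 F19542) (tt N7579 (iv F24315)))
theorem Q6175 : ∀ i, i < 6175 → P i := stepQ 6174 Q6174 (allL N6174 (tt N6333 F21814) (tt N7711 (iv F24653)) (tt N7579 (iv F24311)) (tt N4807 F19543) (tt N7426 (iv F23809)) (tt N6174 F19544) (tt N7578 (iv F24308)) (tt N4654 (iv D6247)))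
theorem Q6176 : ∀ i, i < 6176 → P i := stepQ 6175 Q6175 (allL N6175 (tt N4656 F19545) (tt N6397 (iv F20335)) (tt N4657 F19546) (tt N6686 (iv F21345)) (tt N6736 (iv F21510)) (tt N4655 (iv D6248)) (tt N7813 D7906) (tt N6401 (iv F20348)))
theorem Q6177 : ∀ i, i < 6177 → P i := stepQ 6176 Q6176 (allL N6176 (tt N7813 (iv F24966)) (tt N6731 (iv F21499)) (tt N4658 F19547) (tt N6691 (iv F21364)) (tt N6738 (iv F21516)) (tt N6737 (iv F21514)) (tt N4656 (iv D6249)) (tt N7814 D7907))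
theorem Q6178 : ∀ i, i < 6178 → P i := stepQ 6177 Q6177 (allL N6177 (tt N4658 F19548) (tt N6407 (iv F20368)) (tt N7813 (iv F24967)) (tt N6177 F19549) (tt N7235 (iv F23169)) (tt N7234 (iv F23166)) (tt N4657 (iv D6250)) (tt N7815 D7908))
theorem Q6179 : ∀ i, i < 6179 → P i := stepQ 6178 Q6178 (allL N6178 (tt N7815 (iv F24969)) (tt N7428 (iv F23819)) (tt N7814 (iv F24968)) (tt N7816 D7909) (tt N7238 (iv F23176)) (tt N7237 (iv F23175)) (tt N7624 (iv F24435)) (tt N4658 (iv D6251)))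
theorem Q6180 : ∀ i, i < 6180 → P i := stepQ 6179 Q6179 (allL N6179 (tt N4896 F19550) (tt N4660 F19551) (tt N5311 F19552) (tt N6179 F19553) (tt N5102 F19554) (tt N5302 F19556) (tt N4659 (iv D6252)) (tt N5301 F19555))
theorem Q6181 : ∀ i, i < 6181 → P i := stepQ 6180 Q6180 (allL N6180 (tt N4661 (iv D6253)) (tt N6921 (iv F22222)) (tt N6180 F19557) (tt N4678 F19558) (tt N7817 D7910) (tt N6919 (iv F22214)) (tt N7818 D7911) (tt N6439 (iv F20492)))
theorem Q6182 : ∀ i, i < 6182 → P i := stepQ 6181 Q6181 (allL N6181 (tt N7817 (iv F24973)) (tt N4662 F19559) (tt N6181 F19560) (tt N4908 F19561) (tt N4661 (iv D6254)) (tt N4904 (iv F19562)) (tt N6488 (iv F20674)) (tt N6182 (iv F19567)))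
theorem Q6183 : ∀ i, i < 6183 → P i := stepQ 6182 Q6182 (allL N6182 (tt N6919 (iv F22209)) (tt N4905 F19563) (tt N6182 F19564) (tt N4679 F19565) (tt N4904 F19566) (tt N4661 (iv D6255)) (tt N5194 F19568) (tt N6181 F19567))
theorem Q6184 : ∀ i, i < 6184 → P i := stepQ 6183 Q6183 (allL N6183 (tt N7818 (iv F24979)) (tt N4663 F19569) (tt N6183 F19570) (tt N4680 F19571) (tt N6488 (iv F20673)) (tt N5195 F19572) (tt N4661 (iv D6256)) (tt N6749 (iv F21561)))
theorem Q6185 : ∀ i, i < 6185 → P i := stepQ 6184 Q6184 (allL N6184 (tt N7581 (iv F24320)) (tt N6488 F20675) (tt N4664 F19573) (tt N4955 F19574) (tt N4663 F19575) (tt N6756 (iv F21585)) (tt N4662 (iv D6257)) (tt N4809 F19576))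
theorem Q6186 : ∀ i, i < 6186 → P i := stepQ 6185 Q6185 (allL N6185 (tt N4666 F19577) (tt N7819 D7912) (tt N6185 F19578) (tt N5965 F19579) (tt N5136 F19580) (tt N4665 (iv D6258)) (tt N6185 F19581) (tt N6406 (iv F20366)))
theorem Q6187 : ∀ i, i < 6187 → P i := stepQ 6186 Q6186 (allL N6186 (tt N7820 D7913) (tt N4666 (iv D6259)) (tt N6216 (iv F19681)) (tt N6423 (iv F20421)) (tt N4897 F19582) (tt N4669 F19583) (tt N6186 F19584) (tt N5122 F19585))
theorem Q6188 : ∀ i, i < 6188 → P i := stepQ 6187 Q6187 (allL N6187 (tt N7821 D7914) (tt N4667 (iv D6260)) (tt N6621 (iv F21100)) (tt N4669 F19586) (tt N5045 F19587) (tt N6423 (iv F20422)) (tt N4674 F19588) (tt N5042 F19589))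
theorem Q6189 : ∀ i, i < 6189 → P i := stepQ 6188 Q6188 (allL N6188 (tt N4669 (iv D6261)) (tt N7588 (iv F24345)) (tt N7822 D7915) (tt N7821 (iv F24990)) (tt N6480 (iv F20637)) (tt N7820 (iv F24987)) (tt N4676 F19590) (tt N6594 (iv F21003)))
theorem Q6190 : ∀ i, i < 6190 → P i := stepQ 6189 Q6189 (allL N6189 (tt N7822 (iv F24994)) (tt N4688 F19591) (tt N4669 (iv D6262)) (tt N6211 (iv F19662)) (tt N6200 F19635) (tt N6216 (iv F19683)) (tt N4677 F19592) (tt N6595 (iv F21007)))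
theorem Q6191 : ∀ i, i < 6191 → P i := stepQ 6190 Q6190 (allL N6190 (tt N4674 (iv D6263)) (tt N7594 (iv F24363)) (tt N7823 D7916) (tt N4676 F19593) (tt N6770 (iv F21631)) (tt N6190 F19594) (tt N7821 (iv F24992)) (tt N7824 D7917))
theorem Q6192 : ∀ i, i < 6192 → P i := stepQ 6191 Q6191 (allL N6191 (tt N7823 (iv F24996)) (tt N6619 F21093) (tt N4674 (iv D6264)) (tt N7825 D7918) (tt N6622 (iv F21106)) (tt N6191 F19595) (tt N6621 (iv F21103)) (tt N4730 F19602))
theorem Q6193 : ∀ i, i < 6193 → P i := stepQ 6192 Q6192 (allL N6192 (tt N7824 (iv F25001)) (tt N4675 F19596) (tt N4730 (iv F19601)) (tt N6192 F19597) (tt N5035 F19598) (tt N6192 F19599) (tt N4728 F19600) (tt N4674 (iv D6265)))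
theorem Q6194 : ∀ i, i < 6194 → P i := stepQ 6193 Q6193 (allL N6193 (tt N4677 F19603) (tt N7826 D7919) (tt N4676 (iv D6266)) (tt N7827 D7920) (tt N6777 (iv F21650)) (tt N6193 F19604) (tt N7822 (iv F24995)) (tt N6193 F19605))
theorem Q6195 : ∀ i, i < 6195 → P i := stepQ 6194 Q6194 (allL N6194 (tt N7827 (iv F25012)) (tt N4694 F19606) (tt N7825 (iv F25007)) (tt N4677 (iv D6267)) (tt N6204 (iv F19647)) (tt N6194 F19607) (tt N6211 (iv F19664)) (tt N7828 D7921))
theorem Q6196 : ∀ i, i < 6196 → P i := stepQ 6195 Q6195 (allL N6195 (tt N4679 F19608) (tt N5558 (iv F19611)) (tt N4696 F19609) (tt N6919 (iv F22211)) (tt N6433 (iv F20468)) (tt N4678 (iv D6268)) (tt N5556 (iv F19612)) (tt N4808 F19610))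
theorem Q6197 : ∀ i, i < 6197 → P i := stepQ 6196 Q6196 (allL N6196 (tt N4680 F19613) (tt N7599 (iv F24373)) (tt N4697 F19614) (tt N7818 (iv F24981)) (tt N6459 (iv F20568)) (tt N6458 (iv F20564)) (tt N4678 (iv D6269)) (tt N6485 (iv F20663)))
theorem Q6198 : ∀ i, i < 6198 → P i := stepQ 6197 Q6197 (allL N6197 (tt N7829 D7922) (tt N4681 (iv D6270)) (tt N4942 F19615) (tt N5197 F19616) (tt N6482 (iv F20648)) (tt N4940 F19617) (tt N5215 F19618) (tt N4955 F19619))
theorem Q6199 : ∀ i, i < 6199 → P i := stepQ 6198 Q6198 (allL N6198 (tt N4682 (iv D6271)) (tt N7171 (iv F22979)) (tt N4967 F19620) (tt N4683 F19621) (tt N4870 F19622) (tt N4699 F19623) (tt N5163 F19624) (tt N4869 F19625))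
theorem Q6200 : ∀ i, i < 6200 → P i := stepQ 6199 Q6199 (allL N6199 (tt N4684 F19626) (tt N7830 D7923) (tt N4683 (iv D6272)) (tt N7831 D7924) (tt N4693 F19627) (tt N4700 F19628) (tt N6744 (iv F21537)) (tt N6199 F19629))
theorem Q6201 : ∀ i, i < 6201 → P i := stepQ 6200 Q6200 (allL N6200 (tt N7831 (iv F25026)) (tt N5200 F19630) (tt N4944 F19631) (tt N4684 (iv D6273)) (tt N6189 (iv F19635)) (tt N4701 F19632) (tt N5236 F19633) (tt N5037 F19634))
theorem Q6202 : ∀ i, i < 6202 → P i := stepQ 6201 Q6201 (allL N6201 (tt N4686 (iv D6274)) (tt N5966 F19636) (tt N7832 D7925) (tt N4687 F19637) (tt N6628 (iv F21129)) (tt N6201 F19638) (tt N4691 F19639) (tt N6201 F19640))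
theorem Q6203 : ∀ i, i < 6203 → P i := stepQ 6202 Q6202 (allL N6202 (tt N7832 (iv F25032)) (tt N6643 (iv F21193)) (tt N4686 (iv D6275)) (tt N7833 D7926) (tt N6629 (iv F21135)) (tt N6202 F19641) (tt N4692 F19642) (tt N6202 F19643))
theorem Q6204 : ∀ i, i < 6204 → P i := stepQ 6203 Q6203 (allL N6203 (tt N4688 F19644) (tt N7834 D7927) (tt N4687 (iv D6276)) (tt N7835 D7928) (tt N6744 (iv F21535)) (tt N6203 F19645) (tt N4693 F19646) (tt N6829 (iv F21888)))
theorem Q6205 : ∀ i, i < 6205 → P i := stepQ 6204 Q6204 (allL N6204 (tt N7835 (iv F25041)) (tt N6211 (iv F19661)) (tt N7833 (iv F25036)) (tt N4688 (iv D6277)) (tt N6194 F19647) (tt N6204 F19648) (tt N4694 F19649) (tt N7836 D7929))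
theorem Q6206 : ∀ i, i < 6206 → P i := stepQ 6205 Q6205 (allL N6205 (tt N4690 (iv D6278)) (tt N7614 (iv F24411)) (tt N7837 D7930) (tt N6635 (iv F21161)) (tt N6625 (iv F21119)) (tt N6631 F21146) (tt N6632 (iv F21149)) (tt N6624 (iv F21115)))
theorem Q6207 : ∀ i, i < 6207 → P i := stepQ 6206 Q6206 (allL N6206 (tt N7837 (iv F25047)) (tt N4692 F19650) (tt N4690 (iv D6279)) (tt N7838 D7931) (tt N5044 F19651) (tt N5042 F19652) (tt N6643 (iv F21191)) (tt N6423 (iv F20424)))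
theorem Q6208 : ∀ i, i < 6208 → P i := stepQ 6207 Q6207 (allL N6207 (tt N4692 F19653) (tt N7839 D7932) (tt N4691 (iv D6280)) (tt N7840 D7933) (tt N6627 (iv F21125)) (tt N4704 F19654) (tt N7832 (iv F25034)) (tt N5965 F19655))
theorem Q6209 : ∀ i, i < 6209 → P i := stepQ 6208 Q6208 (allL N6208 (tt N7840 (iv F25056)) (tt N7838 (iv F25050)) (tt N4694 F19656) (tt N4692 (iv D6281)) (tt N7841 D7934) (tt N4705 F19657) (tt N7833 (iv F25039)) (tt N6419 (iv F20406)))
theorem Q6210 : ∀ i, i < 6210 → P i := stepQ 6209 Q6209 (allL N6209 (tt N7826 (iv F25010)) (tt N4693 (iv D6282)) (tt N7617 (iv F24417)) (tt N7842 D7935) (tt N7830 (iv F25024)) (tt N7843 D7936) (tt N7834 (iv F25040)) (tt N6209 F19658))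
theorem Q6211 : ∀ i, i < 6211 → P i := stepQ 6210 Q6210 (allL N6210 (tt N4694 F19659) (tt N7842 (iv F25065)) (tt N7840 (iv F25057)) (tt N4693 (iv D6283)) (tt N7844 D7937) (tt N4707 F19660) (tt N7835 (iv F25044)) (tt N7845 D7938))
theorem Q6212 : ∀ i, i < 6212 → P i := stepQ 6211 Q6211 (allL N6211 (tt N7844 (iv F25068)) (tt N6204 F19661) (tt N7841 (iv F25060)) (tt N6189 F19662) (tt N4694 (iv D6284)) (tt N4708 F19663) (tt N6194 F19664) (tt N7846 D7939))
theorem Q6213 : ∀ i, i < 6213 → P i := stepQ 6212 Q6212 (allL N6212 (tt N7845 (iv F25072)) (tt N7828 (iv F25014)) (tt N6419 (iv F20404)) (tt N6212 F19665) (tt N7846 (iv F25077)) (tt N4709 F19666) (tt N7847 D7940) (tt N4694 (iv D6285)))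
theorem Q6214 : ∀ i, i < 6214 → P i := stepQ 6213 Q6213 (allL N6213 (tt N4698 (iv D6286)) (tt N4732 F19667) (tt N6427 (iv F20441)) (tt N6213 F19668) (tt N4889 F19669) (tt N5097 F19670) (tt N6213 F19671) (tt N4885 F19672))
theorem Q6215 : ∀ i, i < 6215 → P i := stepQ 6214 Q6214 (allL N6214 (tt N6214 F19673) (tt N4700 (iv D6287)) (tt N4735 F19674) (tt N7848 D7941) (tt N4706 F19675) (tt N7849 D7942) (tt N6214 F19676) (tt N6214 F19677))
theorem Q6216 : ∀ i, i < 6216 → P i := stepQ 6215 Q6215 (allL N6215 (tt N4701 F19678) (tt N7848 (iv F25087)) (tt N6432 (iv F20462)) (tt N4700 (iv D6288)) (tt N7850 D7943) (tt N7831 (iv F25028)) (tt N6215 F19679) (tt N6670 (iv F21290)))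
theorem Q6217 : ∀ i, i < 6217 → P i := stepQ 6216 Q6216 (allL N6216 (tt N7850 (iv F25093)) (tt N6216 F19680) (tt N6186 F19681) (tt N4708 F19682) (tt N4701 (iv D6289)) (tt N6189 F19683) (tt N6216 F19684) (tt N6674 (iv F21304)))
theorem Q6218 : ∀ i, i < 6218 → P i := stepQ 6217 Q6217 (allL N6217 (tt N7585 (iv F24335)) (tt N4704 (iv D6290)) (tt N4740 F19685) (tt N7851 D7944) (tt N6648 (iv F21209)) (tt N7852 D7945) (tt N6217 F19686) (tt N5644 F19687))
theorem Q6219 : ∀ i, i < 6219 → P i := stepQ 6218 Q6218 (allL N6218 (tt N4705 F19688) (tt N7851 (iv F25098)) (tt N4707 F19689) (tt N4704 (iv D6291)) (tt N7853 D7946) (tt N7840 (iv F25058)) (tt N6218 F19690) (tt N6405 F20362))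
theorem Q6220 : ∀ i, i < 6220 → P i := stepQ 6219 Q6219 (allL N6219 (tt N7853 (iv F25102)) (tt N5063 F19691) (tt N4708 F19692) (tt N5065 F19693) (tt N4705 (iv D6292)) (tt N7841 (iv F25062)) (tt N6219 F19694) (tt N6418 F20403))
theorem Q6221 : ∀ i, i < 6221 → P i := stepQ 6220 Q6220 (allL N6220 (tt N6220 F19695) (tt N4707 F19696) (tt N7854 D7947) (tt N4706 (iv D6293)) (tt N7855 D7948) (tt N7856 D7949) (tt N6220 F19697) (tt N7857 D7950))
theorem Q6222 : ∀ i, i < 6222 → P i := stepQ 6221 Q6221 (allL N6221 (tt N6221 F19698) (tt N7843 (iv F25066)) (tt N4744 F19699) (tt N7856 (iv F25113)) (tt N7849 (iv F25091)) (tt N4706 (iv D6294)) (tt N7858 D7951) (tt N6221 F19700))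
theorem Q6223 : ∀ i, i < 6223 → P i := stepQ 6222 Q6222 (allL N6222 (tt N4708 F19701) (tt N7855 (iv F25110)) (tt N7853 (iv F25103)) (tt N7850 (iv F25095)) (tt N4707 (iv D6295)) (tt N7844 (iv F25070)) (tt N6222 F19702) (tt N7859 D7952))
theorem Q6224 : ∀ i, i < 6224 → P i := stepQ 6223 Q6223 (allL N6223 (tt N4709 F19703) (tt N7857 (iv F25115)) (tt N6405 (iv F20360)) (tt N6223 F19704) (tt N7859 (iv F25121)) (tt N7845 (iv F25074)) (tt N6403 F20355) (tt N4707 (iv D6296)))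
theorem Q6225 : ∀ i, i < 6225 → P i := stepQ 6224 Q6224 (allL N6224 (tt N7859 (iv F25120)) (tt N6224 F19705) (tt N6418 (iv F20400)) (tt N5342 F19707) (tt N4709 F19706) (tt N7846 (iv F25078)) (tt N5341 F19708) (tt N4708 (iv D6297)))
theorem Q6226 : ∀ i, i < 6226 → P i := stepQ 6225 Q6225 (allL N6225 (tt N6225 F19709) (tt N6840 (iv F21925)) (tt N5970 F19710) (tt N4714 F19711) (tt N6846 (iv F21946)) (tt N4710 (iv D6298)) (tt N4749 F19712) (tt N7860 D7953))
theorem Q6227 : ∀ i, i < 6227 → P i := stepQ 6226 Q6226 (allL N6226 (tt N6226 F19713) (tt N4711 F19714) (tt N5700 F19715) (tt N7861 D7954) (tt N6352 (iv F20175)) (tt N7860 (iv F25126)) (tt N5701 F19716) (tt N4710 (iv D6299)))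
theorem Q6228 : ∀ i, i < 6228 → P i := stepQ 6227 Q6227 (allL N6227 (tt N4712 F19717) (tt N7861 (iv F25128)) (tt N6859 (iv F22000)) (tt N4711 (iv D6300)) (tt N7862 D7955) (tt N6842 (iv F21933)) (tt N6651 (iv F21227)) (tt N4718 F19718))
theorem Q6229 : ∀ i, i < 6229 → P i := stepQ 6228 Q6228 (allL N6228 (tt N7862 (iv F25132)) (tt N6228 F19719) (tt N6894 (iv F22127)) (tt N4846 F19720) (tt N4712 (iv D6301)) (tt N6851 (iv F21965)) (tt N4845 F19721) (tt N4727 F19722))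
theorem Q6230 : ∀ i, i < 6230 → P i := stepQ 6229 Q6229 (allL N6229 (tt N6229 F19723) (tt N7261 (iv F23269)) (tt N4714 F19724) (tt N5976 F19725) (tt N6229 F19726) (tt N4713 (iv D6302)) (tt N4752 F19727) (tt N7259 F23261))
theorem Q6231 : ∀ i, i < 6231 → P i := stepQ 6230 Q6230 (allL N6230 (tt N6230 F19728) (tt N6230 F19729) (tt N4715 F19730) (tt N6230 F19731) (tt N6230 F19732) (tt N7259 F23260) (tt N6230 F19733) (tt N4713 (iv D6303)))
theorem Q6232 : ∀ i, i < 6232 → P i := stepQ 6231 Q6231 (allL N6231 (tt N6864 (iv F22018)) (tt N4714 (iv D6304)) (tt N7269 (iv F23314)) (tt N6840 (iv F21926)) (tt N6231 F19734) (tt N4716 F19735) (tt N4754 F19736) (tt N7266 F23299))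
theorem Q6233 : ∀ i, i < 6233 → P i := stepQ 6232 Q6232 (allL N6232 (tt N6232 F19737) (tt N7266 (iv F23295)) (tt N7259 (iv F23257)) (tt N7863 D7956) (tt N6232 F19738) (tt N4715 F19739) (tt N7258 (iv F23253)) (tt N4714 (iv D6305)))
theorem Q6234 : ∀ i, i < 6234 → P i := stepQ 6233 Q6233 (allL N6233 (tt N6233 F19740) (tt N4718 F19741) (tt N6233 F19742) (tt N4715 (iv D6306)) (tt N7864 D7957) (tt N7863 (iv F25138)) (tt N6233 F19743) (tt N7861 (iv F25131)))
theorem Q6235 : ∀ i, i < 6235 → P i := stepQ 6234 Q6234 (allL N6234 (tt N6862 (iv F22010)) (tt N6234 F19744) (tt N4716 (iv D6307)) (tt N7865 D7958) (tt N6234 F19745) (tt N7269 (iv F23316)) (tt N4719 F19746) (tt N7268 F23311))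
theorem Q6236 : ∀ i, i < 6236 → P i := stepQ 6235 Q6235 (allL N6235 (tt N6865 (iv F22033)) (tt N4717 F19747) (tt N7268 (iv F23308)) (tt N7866 D7959) (tt N6235 F19748) (tt N7266 (iv F23298)) (tt N7867 D7960) (tt N4716 (iv D6308)))
theorem Q6237 : ∀ i, i < 6237 → P i := stepQ 6236 Q6236 (allL N6236 (tt N4724 F19749) (tt N7866 (iv F25146)) (tt N7868 D7961) (tt N4717 (iv D6309)) (tt N7869 D7962) (tt N4718 F19750) (tt N7870 D7963) (tt N6842 (iv F21934)))
theorem Q6238 : ∀ i, i < 6238 → P i := stepQ 6237 Q6237 (allL N6237 (tt N4725 F19751) (tt N7867 (iv F25147)) (tt N6237 F19752) (tt N7870 (iv F25158)) (tt N6237 F19753) (tt N6237 F19754) (tt N4717 (iv D6310)) (tt N4722 F19755))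
theorem Q6239 : ∀ i, i < 6239 → P i := stepQ 6238 Q6238 (allL N6238 (tt N4726 F19756) (tt N6238 F19757) (tt N4718 (iv D6311)) (tt N6238 F19758) (tt N7871 D7964) (tt N7868 (iv F25153)) (tt N6238 F19759) (tt N6859 F22002))
theorem Q6240 : ∀ i, i < 6240 → P i := stepQ 6239 Q6239 (allL N6239 (tt N4727 F19760) (tt N7864 (iv F25140)) (tt N7871 (iv F25162)) (tt N6239 F19761) (tt N4718 (iv D6312)) (tt N7869 (iv F25156)) (tt N6239 F19762) (tt N7862 (iv F25135)))
theorem Q6241 : ∀ i, i < 6241 → P i := stepQ 6240 Q6240 (allL N6240 (tt N6861 (iv F22007)) (tt N6240 F19763) (tt N6838 (iv F21919)) (tt N4719 (iv D6313)) (tt N7872 D7965) (tt N4761 F19764) (tt N7865 (iv F25145)) (tt N7873 D7966))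
theorem Q6242 : ∀ i, i < 6242 → P i := stepQ 6241 Q6241 (allL N6241 (tt N6863 (iv F22013)) (tt N6241 F19765) (tt N4720 F19766) (tt N7874 D7967) (tt N6241 F19767) (tt N4762 F19768) (tt N7875 D7968) (tt N4719 (iv D6314)))
theorem Q6243 : ∀ i, i < 6243 → P i := stepQ 6242 Q6242 (allL N6242 (tt N6866 (iv F22038)) (tt N4722 F19769) (tt N7875 (iv F25175)) (tt N5685 F19770) (tt N6242 F19771) (tt N5680 F19772) (tt N4720 (iv D6315)) (tt N7867 (iv F25150)))
theorem Q6244 : ∀ i, i < 6244 → P i := stepQ 6243 Q6243 (allL N6243 (tt N4728 F19773) (tt N7876 D7969) (tt N4721 (iv D6316)) (tt N6243 F19774) (tt N5034 F19775) (tt N4723 F19776) (tt N7824 (iv F25006)) (tt N5038 F19777))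
theorem Q6245 : ∀ i, i < 6245 → P i := stepQ 6244 Q6244 (allL N6244 (tt N4730 F19778) (tt N5685 F19779) (tt N7824 (iv F25002)) (tt N4722 F19780) (tt N5854 F19781) (tt N6244 F19782) (tt N4721 (iv D6317)) (tt N7823 F25000))
theorem Q6246 : ∀ i, i < 6246 → P i := stepQ 6245 Q6245 (allL N6245 (tt N7868 (iv F25151)) (tt N7847 (iv F25081)) (tt N4724 (iv D6318)) (tt N6245 F19783) (tt N7877 D7970) (tt N4726 F19784) (tt N7828 (iv F25018)) (tt N6850 (iv F21962)))
theorem Q6247 : ∀ i, i < 6247 → P i := stepQ 6246 Q6246 (allL N6246 (tt N7869 (iv F25154)) (tt N5349 F19785) (tt N7877 (iv F25185)) (tt N6246 F19786) (tt N4724 (iv D6319)) (tt N4727 F19787) (tt N7878 D7971) (tt N6851 (iv F21967)))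
theorem Q6248 : ∀ i, i < 6248 → P i := stepQ 6247 Q6247 (allL N6247 (tt N7870 (iv F25157)) (tt N6896 (iv F22135)) (tt N7828 (iv F25015)) (tt N4725 F19788) (tt N7878 (iv F25193)) (tt N6247 F19789) (tt N4724 (iv D6320)) (tt N7825 (iv F25009)))
theorem Q6249 : ∀ i, i < 6249 → P i := stepQ 6248 Q6248 (allL N6248 (tt N7871 (iv F25160)) (tt N5353 F19790) (tt N4727 F19791) (tt N5355 (iv F19793)) (tt N4726 (iv D6321)) (tt N7877 (iv F25186)) (tt N6248 F19792) (tt N6894 F22130))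
theorem Q6250 : ∀ i, i < 6250 → P i := stepQ 6249 Q6249 (allL N6249 (tt N5854 F19794) (tt N4875 F19795) (tt N5035 F19796) (tt N6249 F19797) (tt N4730 F19798) (tt N6249 F19799) (tt N4729 (iv D6322)) (tt N6622 (iv F21109)))
theorem Q6251 : ∀ i, i < 6251 → P i := stepQ 6250 Q6250 (allL N6250 (tt N7091 (iv F22759)) (tt N4733 (iv D6323)) (tt N6431 (iv F20458)) (tt N7879 D7972) (tt N5391 F19800) (tt N7880 D7973) (tt N6250 F19801) (tt N5388 F19802))
theorem Q6252 : ∀ i, i < 6252 → P i := stepQ 6251 Q6251 (allL N6251 (tt N4734 F19803) (tt N7879 (iv F25196)) (tt N4736 F19804) (tt N4733 (iv D6324)) (tt N7881 D7974) (tt N7705 (iv F24630)) (tt N6251 F19805) (tt N5667 F19806))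
theorem Q6253 : ∀ i, i < 6253 → P i := stepQ 6252 Q6252 (allL N6252 (tt N7881 (iv F25201)) (tt N5490 F19807) (tt N4737 F19808) (tt N5407 F19809) (tt N4734 (iv D6325)) (tt N7706 (iv F24635)) (tt N6252 F19810) (tt N5653 F19811))
theorem Q6254 : ∀ i, i < 6254 → P i := stepQ 6253 Q6253 (allL N6253 (tt N6253 F19812) (tt N4736 F19813) (tt N7882 D7975) (tt N4735 (iv D6326)) (tt N7883 D7976) (tt N7884 D7977) (tt N6253 F19814) (tt N7885 D7978))
theorem Q6255 : ∀ i, i < 6255 → P i := stepQ 6254 Q6254 (allL N6254 (tt N6254 F19815) (tt N7708 (iv F24640)) (tt N7849 (iv F25090)) (tt N7884 (iv F25213)) (tt N4744 F19816) (tt N4735 (iv D6327)) (tt N7886 D7979) (tt N6254 F19817))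
theorem Q6256 : ∀ i, i < 6256 → P i := stepQ 6255 Q6255 (allL N6255 (tt N4737 F19818) (tt N7883 (iv F25209)) (tt N7881 (iv F25202)) (tt N4745 F19819) (tt N4736 (iv D6328)) (tt N7709 (iv F24646)) (tt N6255 F19820) (tt N7887 D7980))
theorem Q6257 : ∀ i, i < 6257 → P i := stepQ 6256 Q6256 (allL N6256 (tt N4738 F19821) (tt N7885 (iv F25215)) (tt N5667 F19822) (tt N6256 F19823) (tt N7887 (iv F25226)) (tt N7710 (iv F24651)) (tt N5666 (iv F19824)) (tt N4736 (iv D6329)))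
theorem Q6258 : ∀ i, i < 6258 → P i := stepQ 6257 Q6257 (allL N6257 (tt N7887 (iv F25223)) (tt N6257 F19825) (tt N5653 F19826) (tt N5728 F19828) (tt N4738 F19827) (tt N7711 (iv F24657)) (tt N5652 F19829) (tt N4737 (iv D6330)))
theorem Q6259 : ∀ i, i < 6259 → P i := stepQ 6258 Q6258 (allL N6258 (tt N4740 F19830) (tt N4739 (iv D6331)) (tt N7585 (iv F24337)) (tt N5380 F19831) (tt N6932 (iv F22262)) (tt N7888 D7981) (tt N6258 F19832) (tt N5643 F19833))
theorem Q6260 : ∀ i, i < 6260 → P i := stepQ 6259 Q6259 (allL N6259 (tt N5380 F19834) (tt N4741 F19835) (tt N7889 D7982) (tt N4740 (iv D6332)) (tt N7890 D7983) (tt N7891 D7984) (tt N6259 F19836) (tt N7066 (iv F22701)))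
theorem Q6261 : ∀ i, i < 6261 → P i := stepQ 6260 Q6260 (allL N6260 (tt N7888 (iv F25228)) (tt N5642 F19837) (tt N7852 (iv F25100)) (tt N7891 (iv F25240)) (tt N7182 (iv F23012)) (tt N4740 (iv D6333)) (tt N7892 D7985) (tt N5641 F19838))
theorem Q6262 : ∀ i, i < 6262 → P i := stepQ 6261 Q6261 (allL N6261 (tt N4742 F19839) (tt N7890 (iv F25236)) (tt N4745 F19840) (tt N6953 (iv F22318)) (tt N4741 (iv D6334)) (tt N5616 F19841) (tt N6261 F19842) (tt N7067 (iv F22706)))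
theorem Q6263 : ∀ i, i < 6263 → P i := stepQ 6262 Q6262 (allL N6262 (tt N6262 F19843) (tt N7889 (iv F25233)) (tt N4743 (iv D6335)) (tt N7854 (iv F25107)) (tt N7571 (iv F24285)) (tt N7566 F24264) (tt N6262 F19844) (tt N7568 (iv F24273)))
theorem Q6264 : ∀ i, i < 6264 → P i := stepQ 6263 Q6263 (allL N6263 (tt N6263 F19845) (tt N4745 F19846) (tt N7571 (iv F24284)) (tt N7883 (iv F25210)) (tt N4743 (iv D6336)) (tt N6272 F21794) (tt N6263 F19847) (tt N6271 (iv F21793)))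
theorem Q6265 : ∀ i, i < 6265 → P i := stepQ 6264 Q6264 (allL N6264 (tt N6264 F19848) (tt N6288 (iv F21787)) (tt N7566 (iv F24261)) (tt N4744 F19849) (tt N6272 F21788) (tt N4743 (iv D6337)) (tt N7565 (iv F24258)) (tt N6270 F21789))
theorem Q6266 : ∀ i, i < 6266 → P i := stepQ 6265 Q6265 (allL N6265 (tt N6265 F19850) (tt N4746 F19851) (tt N7568 (iv F24270)) (tt N6265 F19852) (tt N6271 F21791) (tt N6270 (iv F21790)) (tt N7292 (iv F23393)) (tt N4743 (iv D6338)))
theorem Q6267 : ∀ i, i < 6267 → P i := stepQ 6266 Q6266 (allL N6266 (tt N6266 F19853) (tt N7713 (iv F24663)) (tt N7858 (iv F25118)) (tt N7565 F24259) (tt N7886 (iv F25220)) (tt N6266 F19854) (tt N4744 (iv D6339)) (tt N7893 D7986))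
theorem Q6268 : ∀ i, i < 6268 → P i := stepQ 6267 Q6267 (allL N6267 (tt N4747 F19855) (tt N6271 (iv F21792)) (tt N7067 (iv F22703)) (tt N6273 F21797) (tt N4746 F19856) (tt N4805 F19857) (tt N7293 (iv F23409)) (tt N4745 (iv D6340)))
theorem Q6269 : ∀ i, i < 6269 → P i := stepQ 6268 Q6268 (allL N6268 (tt N6273 (iv F21798)) (tt N6268 F19858) (tt N5732 F19863) (tt N4747 (iv D6341)) (tt N6268 F19859) (tt N4806 F19860) (tt N5727 F19861) (tt N5728 F19862))
theorem Q6270 : ∀ i, i < 6270 → P i := stepQ 6269 Q6269 (allL N6269 (tt N6269 F19864) (tt N7894 D7987) (tt N4749 F19865) (tt N5983 F19866) (tt N7384 (iv F23672)) (tt N4748 (iv D6342)) (tt N5970 F19867) (tt N7483 (iv F24004)))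
theorem Q6271 : ∀ i, i < 6271 → P i := stepQ 6270 Q6270 (allL N6270 (tt N6270 F19868) (tt N4763 F19869) (tt N5979 F19870) (tt N6270 F19871) (tt N4751 F19872) (tt N6265 F21790) (tt N4750 (iv D6343)) (tt N6264 (iv F21789)))
theorem Q6272 : ∀ i, i < 6272 → P i := stepQ 6271 Q6271 (allL N6271 (tt N6271 F19873) (tt N6267 F21792) (tt N5983 F19874) (tt N4752 F19875) (tt N6265 (iv F21791)) (tt N4751 (iv D6344)) (tt N5976 F19876) (tt N6263 F21793))
theorem Q6273 : ∀ i, i < 6273 → P i := stepQ 6272 Q6272 (allL N6272 (tt N6272 F19877) (tt N4766 F19878) (tt N5982 F19879) (tt N7895 D7988) (tt N6264 (iv F21788)) (tt N6263 (iv F21794)) (tt N5975 F19880) (tt N4751 (iv D6345)))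
theorem Q6274 : ∀ i, i < 6274 → P i := stepQ 6273 Q6273 (allL N6273 (tt N6268 F21798) (tt N4752 (iv D6346)) (tt N7272 (iv F23330)) (tt N6267 (iv F21797)) (tt N6273 F19881) (tt N4768 F19882) (tt N7261 (iv F23273)) (tt N7262 (iv F23278)))
theorem Q6275 : ∀ i, i < 6275 → P i := stepQ 6274 Q6274 (allL N6274 (tt N6274 F19883) (tt N7262 (iv F23275)) (tt N4755 F19884) (tt N7896 D7989) (tt N6274 F19885) (tt N4753 F19886) (tt N7260 (iv F23267)) (tt N4752 (iv D6347)))
theorem Q6276 : ∀ i, i < 6276 → P i := stepQ 6275 Q6275 (allL N6275 (tt N6275 F19887) (tt N4770 F19888) (tt N7897 D7990) (tt N4753 (iv D6348)) (tt N7898 D7991) (tt N7896 (iv F25260)) (tt N6275 F19889) (tt N7895 (iv F25257)))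
theorem Q6277 : ∀ i, i < 6277 → P i := stepQ 6276 Q6276 (allL N6276 (tt N7390 (iv F23693)) (tt N7272 (iv F23329)) (tt N4754 (iv D6349)) (tt N7899 D7992) (tt N6276 F19890) (tt N4757 F19891) (tt N7269 F23317) (tt N7270 (iv F23324)))
theorem Q6278 : ∀ i, i < 6278 → P i := stepQ 6277 Q6277 (allL N6277 (tt N7392 (iv F23703)) (tt N4755 F19892) (tt N7270 (iv F23320)) (tt N7900 D7993) (tt N6277 F19893) (tt N4758 F19894) (tt N7267 (iv F23305)) (tt N4754 (iv D6350)))
theorem Q6279 : ∀ i, i < 6279 → P i := stepQ 6278 Q6278 (allL N6278 (tt N6278 F19895) (tt N7900 (iv F25275)) (tt N7901 D7994) (tt N4755 (iv D6351)) (tt N7465 (iv F23944)) (tt N4756 F19896) (tt N7902 D7995) (tt N7463 (iv F23939)))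
theorem Q6280 : ∀ i, i < 6280 → P i := stepQ 6279 Q6279 (allL N6279 (tt N6279 F19897) (tt N7267 (iv F23301)) (tt N7260 (iv F23264)) (tt N7902 (iv F25285)) (tt N6279 F19898) (tt N6279 F19899) (tt N4755 (iv D6352)) (tt N7258 F23254))
theorem Q6281 : ∀ i, i < 6281 → P i := stepQ 6280 Q6280 (allL N6280 (tt N6280 F19900) (tt N7903 D7996) (tt N4756 (iv D6353)) (tt N7897 (iv F25264)) (tt N7462 (iv F23932)) (tt N7901 (iv F25281)) (tt N6280 F19901) (tt N5876 F19902))
theorem Q6282 : ∀ i, i < 6282 → P i := stepQ 6281 Q6281 (allL N6281 (tt N7388 (iv F23685)) (tt N4777 F19903) (tt N7372 (iv F23638)) (tt N4757 (iv D6354)) (tt N7904 D7997) (tt N7899 (iv F25273)) (tt N4761 F19904) (tt N7905 D7998))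
theorem Q6283 : ∀ i, i < 6283 → P i := stepQ 6282 Q6282 (allL N6282 (tt N5275 F19905) (tt N4778 F19906) (tt N4758 F19907) (tt N5278 (iv F19910)) (tt N6282 F19908) (tt N7270 (iv F23323)) (tt N5273 F19909) (tt N4757 (iv D6355)))
theorem Q6284 : ∀ i, i < 6284 → P i := stepQ 6283 Q6283 (allL N6283 (tt N5765 F19911) (tt N4759 F19912) (tt N5777 F19913) (tt N4758 (iv D6356)) (tt N7499 (iv F24054)) (tt N7900 (iv F25277)) (tt N5442 F19914) (tt N7377 (iv F23656)))
theorem Q6285 : ∀ i, i < 6285 → P i := stepQ 6284 Q6284 (allL N6284 (tt N5417 F19915) (tt N4760 (iv D6357)) (tt N7903 (iv F25288)) (tt N4779 F19916) (tt N7496 (iv F24041)) (tt N7906 D7999) (tt N6284 F19917) (tt N5410 F19918))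
theorem Q6286 : ∀ i, i < 6286 → P i := stepQ 6285 Q6285 (allL N6285 (tt N7387 (iv F23681)) (tt N4781 F19919) (tt N7371 (iv F23635)) (tt N6285 F19920) (tt N4761 (iv D6358)) (tt N7872 (iv F25167)) (tt N7904 (iv F25294)) (tt N7907 D8000))
theorem Q6287 : ∀ i, i < 6287 → P i := stepQ 6286 Q6286 (allL N6286 (tt N7389 (iv F23690)) (tt N4782 F19921) (tt N7373 (iv F23641)) (tt N7908 D8001) (tt N7907 (iv F25303)) (tt N7873 (iv F25169)) (tt N7909 D8002) (tt N4761 (iv D6359)))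
theorem Q6288 : ∀ i, i < 6288 → P i := stepQ 6287 Q6287 (allL N6287 (tt N7391 (iv F23699)) (tt N4783 F19922) (tt N5183 F19923) (tt N4762 (iv D6360)) (tt N7910 D8003) (tt N7874 (iv F25172)) (tt N5170 F19924) (tt N7908 (iv F25305)))
theorem Q6289 : ∀ i, i < 6289 → P i := stepQ 6288 Q6288 (allL N6288 (tt N4787 F19929) (tt N6264 F21787) (tt N7745 (iv F24764)) (tt N6100 (iv F21786)) (tt N4766 F19930) (tt N6099 (iv F21782)) (tt N7911 D8004) (tt N4763 (iv D6362)))
theorem Q6290 : ∀ i, i < 6290 → P i := stepQ 6289 Q6289 (allL N6289 (tt N4788 F19931) (tt N5972 F19932) (tt N7912 D8005) (tt N4764 (iv D6363)) (tt N6289 F19933) (tt N6289 F19934) (tt N7913 D8006) (tt N6289 F19935))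
theorem Q6291 : ∀ i, i < 6291 → P i := stepQ 6290 Q6290 (allL N6290 (tt N4789 F19936) (tt N5973 F19937) (tt N7747 (iv F24772)) (tt N7913 (iv F25324)) (tt N4767 F19938) (tt N7914 D8007) (tt N4764 (iv D6364)) (tt N7911 (iv F25316)))
theorem Q6292 : ∀ i, i < 6292 → P i := stepQ 6291 Q6291 (allL N6291 (tt N4790 F19941) (tt N6101 F21795) (tt N7749 (iv F24777)) (tt N7915 D8008) (tt N6099 (iv F21796)) (tt N4766 F19942) (tt N7423 (iv F23797)) (tt N4765 (iv D6366)))
theorem Q6293 : ∀ i, i < 6293 → P i := stepQ 6292 Q6292 (allL N6292 (tt N4791 F19943) (tt N7895 (iv F25252)) (tt N7916 D8009) (tt N4766 (iv D6367)) (tt N7917 D8010) (tt N7915 (iv F25333)) (tt N7918 D8011) (tt N4770 F19944))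
theorem Q6294 : ∀ i, i < 6294 → P i := stepQ 6293 Q6293 (allL N6293 (tt N4792 F19945) (tt N5975 F19946) (tt N7751 (iv F24785)) (tt N7918 (iv F25345)) (tt N7911 (iv F25315)) (tt N7919 D8012) (tt N4766 (iv D6368)) (tt N4767 F19947))
theorem Q6295 : ∀ i, i < 6295 → P i := stepQ 6294 Q6294 (allL N6294 (tt N4793 F19948) (tt N6294 F19949) (tt N7752 (iv F24788)) (tt N6294 F19950) (tt N7914 (iv F25328)) (tt N4767 (iv D6369)) (tt N6294 F19951) (tt N7919 (iv F25349)))
theorem Q6296 : ∀ i, i < 6296 → P i := stepQ 6295 Q6295 (allL N6295 (tt N6346 (iv F21812)) (tt N4771 F19955) (tt N4768 (iv D6371)) (tt N7920 D8013) (tt N6295 F19956) (tt N7272 F23333) (tt N6295 F19957) (tt N7273 (iv F23339)))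
theorem Q6297 : ∀ i, i < 6297 → P i := stepQ 6296 Q6296 (allL N6296 (tt N6347 (iv F21813)) (tt N4769 F19958) (tt N7273 (iv F23336)) (tt N7921 D8014) (tt N6296 F19959) (tt N7262 F23279) (tt N7264 (iv F23289)) (tt N4768 (iv D6372)))
theorem Q6298 : ∀ i, i < 6298 → P i := stepQ 6297 Q6297 (allL N6297 (tt N4795 F19960) (tt N7921 (iv F25353)) (tt N7922 D8015) (tt N4769 (iv D6373)) (tt N7923 D8016) (tt N4770 F19961) (tt N7924 D8017) (tt N7915 (iv F25334)))
theorem Q6299 : ∀ i, i < 6299 → P i := stepQ 6298 Q6298 (allL N6298 (tt N4796 F19962) (tt N7264 F23291) (tt N4774 F19963) (tt N7924 (iv F25366)) (tt N6298 F19964) (tt N6298 F19965) (tt N4769 (iv D6374)) (tt N6298 F19966))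
theorem Q6300 : ∀ i, i < 6300 → P i := stepQ 6299 Q6299 (allL N6299 (tt N4797 F19967) (tt N7925 D8018) (tt N4770 (iv D6375)) (tt N4775 F19968) (tt N7926 D8019) (tt N7922 (iv F25359)) (tt N6299 F19969) (tt N7916 (iv F25337)))
theorem Q6301 : ∀ i, i < 6301 → P i := stepQ 6300 Q6300 (allL N6300 (tt N4798 F19970) (tt N7898 (iv F25268)) (tt N7926 (iv F25371)) (tt N6300 F19971) (tt N4770 (iv D6376)) (tt N7923 (iv F25363)) (tt N6300 F19972) (tt N7917 (iv F25342)))
theorem Q6302 : ∀ i, i < 6302 → P i := stepQ 6301 Q6301 (allL N6301 (tt N6301 F19973) (tt N7920 (iv F25350)) (tt N7759 (iv F24809)) (tt N4771 (iv D6377)) (tt N7927 D8020) (tt N4777 F19974) (tt N6301 F19975) (tt N7928 D8021))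
theorem Q6303 : ∀ i, i < 6303 → P i := stepQ 6302 Q6302 (allL N6302 (tt N6302 F19976) (tt N7273 (iv F23335)) (tt N4772 F19977) (tt N7929 D8022) (tt N6302 F19978) (tt N4778 F19979) (tt N7274 (iv F23345)) (tt N4771 (iv D6378)))
theorem Q6304 : ∀ i, i < 6304 → P i := stepQ 6303 Q6303 (allL N6303 (tt N6303 F19980) (tt N4774 F19981) (tt N7274 (iv F23341)) (tt N5679 F19982) (tt N6303 F19983) (tt N5678 F19984) (tt N4772 (iv D6379)) (tt N6303 F19985))
theorem Q6305 : ∀ i, i < 6305 → P i := stepQ 6304 Q6304 (allL N6304 (tt N4799 F19986) (tt N7930 D8023) (tt N4773 (iv D6380)) (tt N7922 (iv F25358)) (tt N7931 D8024) (tt N4775 F19987) (tt N7932 D8025) (tt N5762 F19988))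
theorem Q6306 : ∀ i, i < 6306 → P i := stepQ 6305 Q6305 (allL N6305 (tt N4800 F19989) (tt N5677 F19990) (tt N7931 (iv F25387)) (tt N6305 F19991) (tt N4773 (iv D6381)) (tt N4776 F19992) (tt N7933 D8026) (tt N5752 F19993))
theorem Q6307 : ∀ i, i < 6307 → P i := stepQ 6306 Q6306 (allL N6306 (tt N4801 F19994) (tt N5679 F19995) (tt N7932 (iv F25392)) (tt N4774 F19996) (tt N7933 (iv F25397)) (tt N6306 F19997) (tt N4773 (iv D6382)) (tt N7934 D8027))
theorem Q6308 : ∀ i, i < 6308 → P i := stepQ 6307 Q6307 (allL N6307 (tt N7935 D8028) (tt N4775 (iv D6383)) (tt N4779 F19998) (tt N7925 (iv F25368)) (tt N7936 D8029) (tt N7937 D8030) (tt N6307 F19999) (tt N5581 F20000))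
theorem Q6309 : ∀ i, i < 6309 → P i := stepQ 6308 Q6308 (allL N6308 (tt N4803 F20001) (tt N7936 (iv F25412)) (tt N4776 F20002) (tt N6159 F21811) (tt N4775 (iv D6384)) (tt N7931 (iv F25388)) (tt N6308 F20003) (tt N5770 F20004))
theorem Q6310 : ∀ i, i < 6310 → P i := stepQ 6309 Q6309 (allL N6309 (tt N6309 F20005) (tt N7904 (iv F25292)) (tt N7760 (iv F24813)) (tt N6309 F20006) (tt N4777 (iv D6385)) (tt N7927 (iv F25376)) (tt N4781 F20007) (tt N7938 D8031))
theorem Q6311 : ∀ i, i < 6311 → P i := stepQ 6310 Q6310 (allL N6310 (tt N6310 F20008) (tt N7905 (iv F25296)) (tt N7761 (iv F24817)) (tt N7939 D8032) (tt N7938 (iv F25420)) (tt N7928 (iv F25379)) (tt N7940 D8033) (tt N4777 (iv D6386)))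
theorem Q6312 : ∀ i, i < 6312 → P i := stepQ 6311 Q6311 (allL N6311 (tt N6311 F20009) (tt N5278 F20010) (tt N5675 F20011) (tt N4778 (iv D6387)) (tt N7941 D8034) (tt N7929 (iv F25382)) (tt N5277 F20012) (tt N7939 (iv F25424)))
theorem Q6313 : ∀ i, i < 6313 → P i := stepQ 6312 Q6312 (allL N6312 (tt N4779 (iv D6388)) (tt N4784 F20013) (tt N7935 (iv F25407)) (tt N5417 F20014) (tt N7942 D8035) (tt N7943 D8036) (tt N6312 F20015) (tt N5580 F20016))
theorem Q6314 : ∀ i, i < 6314 → P i := stepQ 6313 Q6313 (allL N6313 (tt N7942 (iv F25432)) (tt N4780 F20017) (tt N7936 (iv F25413)) (tt N7944 D8037) (tt N4779 (iv D6389)) (tt N7945 D8038) (tt N6313 F20018) (tt N5573 F20019))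
theorem Q6315 : ∀ i, i < 6315 → P i := stepQ 6314 Q6314 (allL N6314 (tt N7943 (iv F25437)) (tt N5436 F20020) (tt N7937 (iv F25417)) (tt N7906 (iv F25300)) (tt N7945 (iv F25443)) (tt N4779 (iv D6390)) (tt N7946 D8039) (tt N5553 F20021))
theorem Q6316 : ∀ i, i < 6316 → P i := stepQ 6315 Q6315 (allL N6315 (tt N4786 F20022) (tt N7944 (iv F25440)) (tt N6315 F20023) (tt N4780 (iv D6391)) (tt N7016 (iv F22512)) (tt N5441 F20024) (tt N6315 F20025) (tt N7000 F22464))
theorem Q6317 : ∀ i, i < 6317 → P i := stepQ 6316 Q6316 (allL N6316 (tt N6316 F20026) (tt N7907 (iv F25302)) (tt N7762 (iv F24820)) (tt N7947 D8040) (tt N4782 F20027) (tt N6316 F20028) (tt N7948 D8041) (tt N4781 (iv D6392)))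
theorem Q6318 : ∀ i, i < 6318 → P i := stepQ 6317 Q6317 (allL N6317 (tt N6317 F20029) (tt N7908 (iv F25304)) (tt N5172 F20030) (tt N4782 (iv D6393)) (tt N7949 D8042) (tt N6317 F20031) (tt N7950 D8043) (tt N4783 F20032))
theorem Q6319 : ∀ i, i < 6319 → P i := stepQ 6318 Q6318 (allL N6318 (tt N6318 F20033) (tt N7909 (iv F25307)) (tt N7763 (iv F24825)) (tt N7950 (iv F25459)) (tt N7948 (iv F25452)) (tt N7951 D8044) (tt N4782 (iv D6394)) (tt N7940 (iv F25426)))
theorem Q6320 : ∀ i, i < 6320 → P i := stepQ 6319 Q6319 (allL N6319 (tt N6319 F20034) (tt N7910 (iv F25308)) (tt N5146 F20035) (tt N6319 F20036) (tt N4783 (iv D6395)) (tt N6319 F20037) (tt N5171 F20038) (tt N7949 (iv F25456)))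
theorem Q6321 : ∀ i, i < 6321 → P i := stepQ 6320 Q6320 (allL N6320 (tt N4785 F20039) (tt N7942 (iv F25433)) (tt N4805 F20040) (tt N7952 D8045) (tt N4784 (iv D6396)) (tt N7067 (iv F22704)) (tt N6320 F20041) (tt N5616 F20042))
theorem Q6322 : ∀ i, i < 6322 → P i := stepQ 6321 Q6321 (allL N6321 (tt N7952 (iv F25463)) (tt N4786 F20043) (tt N7953 D8046) (tt N4785 (iv D6397)) (tt N5418 F20044) (tt N7069 (iv F22712)) (tt N6321 F20045) (tt N7025 F22543))
theorem Q6323 : ∀ i, i < 6323 → P i := stepQ 6322 Q6322 (allL N6322 (tt N6100 F21785) (tt N6322 F20052) (tt N7954 D8047) (tt N4787 (iv D6400)) (tt N7955 D8048) (tt N5845 (iv F21784)) (tt N7956 D8049) (tt N6322 F20053))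
theorem Q6324 : ∀ i, i < 6324 → P i := stepQ 6323 Q6323 (allL N6323 (tt N7911 (iv F25312)) (tt N6323 F20054) (tt N7787 (iv F24887)) (tt N7956 (iv F25485)) (tt N4792 F20055) (tt N7713 (iv F24665)) (tt N4787 (iv D6401)) (tt N4789 F20056))
theorem Q6325 : ∀ i, i < 6325 → P i := stepQ 6324 Q6324 (allL N6324 (tt N7912 (iv F25317)) (tt N7957 D8050) (tt N4788 (iv D6402)) (tt N7788 (iv F24891)) (tt N6324 F20057) (tt N6324 F20058) (tt N7958 D8051) (tt N6324 F20059))
theorem Q6326 : ∀ i, i < 6326 → P i := stepQ 6325 Q6325 (allL N6325 (tt N7913 (iv F25322)) (tt N6325 F20060) (tt N7958 (iv F25496)) (tt N4789 F20061) (tt N6325 F20062) (tt N7959 D8052) (tt N4788 (iv D6403)) (tt N7960 D8053))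
theorem Q6327 : ∀ i, i < 6327 → P i := stepQ 6326 Q6326 (allL N6326 (tt N7914 (iv F25326)) (tt N7893 (iv F25244)) (tt N7790 (iv F24899)) (tt N7959 (iv F25499)) (tt N4793 F20063) (tt N4789 (iv D6404)) (tt N6326 F20064) (tt N7713 F24666))
theorem Q6328 : ∀ i, i < 6328 → P i := stepQ 6327 Q6327 (allL N6327 (tt N7915 (iv F25330)) (tt N6170 (iv F21817)) (tt N7961 D8054) (tt N4790 (iv D6408)) (tt N7962 D8055) (tt N4791 F20073) (tt N7707 (iv F24639)) (tt N4795 F20074))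
theorem Q6329 : ∀ i, i < 6329 → P i := stepQ 6328 Q6328 (allL N6328 (tt N7916 (iv F25335)) (tt N7963 D8056) (tt N4791 (iv D6410)) (tt N7792 (iv F24905)) (tt N7964 D8057) (tt N7961 (iv F25509)) (tt N7965 D8058) (tt N4797 F20076))
theorem Q6330 : ∀ i, i < 6330 → P i := stepQ 6329 Q6329 (allL N6329 (tt N7917 (iv F25338)) (tt N6329 F20077) (tt N7964 (iv F25522)) (tt N7955 (iv F25479)) (tt N4791 (iv D6411)) (tt N7962 (iv F25514)) (tt N7966 D8059) (tt N4798 F20078))
theorem Q6331 : ∀ i, i < 6331 → P i := stepQ 6330 Q6330 (allL N6330 (tt N7918 (iv F25343)) (tt N6330 F20079) (tt N7965 (iv F25524)) (tt N4792 F20080) (tt N7966 (iv F25528)) (tt N7967 D8060) (tt N4791 (iv D6412)) (tt N6330 F20081))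
theorem Q6332 : ∀ i, i < 6332 → P i := stepQ 6331 Q6331 (allL N6331 (tt N7919 (iv F25347)) (tt N7886 (iv F25219)) (tt N7795 (iv F24909)) (tt N7967 (iv F25532)) (tt N7713 (iv F24664)) (tt N4792 (iv D6413)) (tt N7708 (iv F24642)) (tt N4793 F20082))
theorem Q6333 : ∀ i, i < 6333 → P i := stepQ 6332 Q6332 (allL N6332 (tt N6332 F20083) (tt N4793 (iv D6414)) (tt N7968 D8061) (tt N6332 F20084) (tt N7893 (iv F25245)) (tt N6332 F20085) (tt N6332 F20086) (tt N7886 F25222))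
theorem Q6334 : ∀ i, i < 6334 → P i := stepQ 6333 Q6333 (allL N6333 (tt N6174 (iv F21814)) (tt N4795 F20091) (tt N7969 D8062) (tt N4794 (iv D6416)) (tt N7970 D8063) (tt N6333 F20092) (tt N7971 D8064) (tt N6170 F21816))
theorem Q6335 : ∀ i, i < 6335 → P i := stepQ 6334 Q6334 (allL N6334 (tt N6348 (iv F21815)) (tt N4796 F20093) (tt N6334 F20094) (tt N7971 (iv F25552)) (tt N6334 F20095) (tt N7427 (iv F23815)) (tt N4794 (iv D6417)) (tt N6334 F20096))
theorem Q6336 : ∀ i, i < 6336 → P i := stepQ 6335 Q6335 (allL N6335 (tt N7922 (iv F25357)) (tt N7972 D8065) (tt N4795 (iv D6418)) (tt N4799 F20097) (tt N7973 D8066) (tt N4797 F20098) (tt N7974 D8067) (tt N7961 (iv F25510)))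
theorem Q6337 : ∀ i, i < 6337 → P i := stepQ 6336 Q6336 (allL N6336 (tt N7923 (iv F25360)) (tt N7970 (iv F25545)) (tt N7973 (iv F25559)) (tt N6336 F20099) (tt N4795 (iv D6419)) (tt N4798 F20100) (tt N7975 D8068) (tt N7962 (iv F25516)))
theorem Q6338 : ∀ i, i < 6338 → P i := stepQ 6337 Q6337 (allL N6337 (tt N7924 (iv F25365)) (tt N7971 (iv F25550)) (tt N7974 (iv F25562)) (tt N4796 F20101) (tt N7975 (iv F25566)) (tt N6337 F20102) (tt N4795 (iv D6420)) (tt N7976 D8069))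
theorem Q6339 : ∀ i, i < 6339 → P i := stepQ 6338 Q6338 (allL N6338 (tt N7977 D8070) (tt N4797 (iv D6421)) (tt N6338 F20103) (tt N4802 F20104) (tt N6140 (iv F21804)) (tt N6138 F21803) (tt N6338 F20105) (tt N7963 (iv F25518)))
theorem Q6340 : ∀ i, i < 6340 → P i := stepQ 6339 Q6339 (allL N6339 (tt N7926 (iv F25370)) (tt N6140 F21805) (tt N4798 F20106) (tt N6143 (iv F21806)) (tt N4797 (iv D6422)) (tt N7973 (iv F25561)) (tt N6339 F20107) (tt N7964 (iv F25523)))
theorem Q6341 : ∀ i, i < 6341 → P i := stepQ 6340 Q6340 (allL N6340 (tt N7978 D8071) (tt N4799 (iv D6423)) (tt N6340 F20108) (tt N7972 (iv F25555)) (tt N5835 (iv F21807)) (tt N5833 F21802) (tt N7979 D8072) (tt N7805 (iv F24931)))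
theorem Q6342 : ∀ i, i < 6342 → P i := stepQ 6341 Q6341 (allL N6341 (tt N7931 (iv F25386)) (tt N5835 F21808) (tt N4800 F20109) (tt N5838 (iv F21809)) (tt N4799 (iv D6424)) (tt N4803 F20110) (tt N7980 D8073) (tt N7806 (iv F24937)))
theorem Q6343 : ∀ i, i < 6343 → P i := stepQ 6342 Q6342 (allL N6342 (tt N7932 (iv F25391)) (tt N7979 (iv F25583)) (tt N4801 F20111) (tt N7974 (iv F25563)) (tt N7980 (iv F25591)) (tt N6342 F20112) (tt N4799 (iv D6425)) (tt N7981 D8074))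
theorem Q6344 : ∀ i, i < 6344 → P i := stepQ 6343 Q6343 (allL N6343 (tt N7933 (iv F25394)) (tt N6343 F20113) (tt N7980 (iv F25589)) (tt N6343 F20114) (tt N4801 F20115) (tt N6343 F20116) (tt N4800 (iv D6426)) (tt N7982 D8075))
theorem Q6345 : ∀ i, i < 6345 → P i := stepQ 6344 Q6344 (allL N6344 (tt N7934 (iv F25400)) (tt N6344 F20117) (tt N7981 (iv F25594)) (tt N6344 F20118) (tt N7982 (iv F25599)) (tt N6344 F20119) (tt N7809 (iv F24951)) (tt N4801 (iv D6427)))
theorem Q6346 : ∀ i, i < 6346 → P i := stepQ 6345 Q6345 (allL N6345 (tt N4802 (iv D6428)) (tt N7935 (iv F25406)) (tt N4804 F20120) (tt N7977 (iv F25576)) (tt N6127 (iv F21810)) (tt N6125 F21801) (tt N6345 F20121) (tt N7712 (iv F24662)))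
theorem Q6347 : ∀ i, i < 6347 → P i := stepQ 6346 Q6346 (allL N6346 (tt N6295 F21812) (tt N6346 F20148) (tt N4806 (iv D6439)) (tt N7953 (iv F25469)) (tt N6346 F20149) (tt N5732 F20150) (tt N6346 F20151) (tt N5733 (iv F20152)))
theorem Q6348 : ∀ i, i < 6348 → P i := stepQ 6347 Q6347 (allL N6347 (tt N6296 F21813) (tt N4807 F20153) (tt N5733 F20154) (tt N7711 (iv F24655)) (tt N6347 F20155) (tt N5728 F20156) (tt N5730 F20157) (tt N4806 (iv D6440)))
theorem Q6349 : ∀ i, i < 6349 → P i := stepQ 6348 Q6348 (allL N6348 (tt N6334 F21815) (tt N5730 F20158) (tt N6348 F20159) (tt N7578 (iv F24309)) (tt N6348 F20160) (tt N5853 F20162) (tt N4807 (iv D6441)) (tt N6348 F20161))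
theorem Q6350 : ∀ i, i < 6350 → P i := stepQ 6349 Q6349 (allL N6349 (tt N6522 (iv F20775)) (tt N4808 (iv D6442)) (tt N5560 F20163) (tt N6699 (iv F21394)) (tt N6755 (iv F21580)) (tt N6397 (iv F20336)) (tt N7983 D8076) (tt N5558 F20164))
theorem Q6351 : ∀ i, i < 6351 → P i := stepQ 6350 Q6350 (allL N6350 (tt N4809 F20165) (tt N7983 (iv F25602)) (tt N4811 F20166) (tt N6700 (iv F21397)) (tt N6753 (iv F21573)) (tt N6751 (iv F21569)) (tt N4808 (iv D6443)) (tt N7581 (iv F24325)))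
theorem Q6352 : ∀ i, i < 6352 → P i := stepQ 6351 Q6351 (allL N6351 (tt N6351 F20167) (tt N4811 F20168) (tt N5890 F20169) (tt N4817 F20170) (tt N6763 (iv F21609)) (tt N7984 D8077) (tt N4810 (iv D6444)) (tt N5887 F20171))
theorem Q6353 : ∀ i, i < 6353 → P i := stepQ 6352 Q6352 (allL N6352 (tt N6352 F20172) (tt N5311 F20173) (tt N4813 F20174) (tt N6383 (iv F20286)) (tt N6226 F20175) (tt N7985 D8078) (tt N4812 (iv D6445)) (tt N5310 F20176))
theorem Q6354 : ∀ i, i < 6354 → P i := stepQ 6353 Q6353 (allL N6353 (tt N6353 F20177) (tt N7249 (iv F23218)) (tt N7985 (iv F25612)) (tt N4823 F20178) (tt N7254 (iv F23234)) (tt N4813 (iv D6446)) (tt N7984 (iv F25608)) (tt N7563 (iv F24248)))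
theorem Q6355 : ∀ i, i < 6355 → P i := stepQ 6354 Q6354 (allL N6354 (tt N6683 (iv F21330)) (tt N4816 F20179) (tt N4814 (iv D6447)) (tt N7986 D8079) (tt N6354 F20180) (tt N6354 F20181) (tt N7987 D8080) (tt N6354 F20182))
theorem Q6356 : ∀ i, i < 6356 → P i := stepQ 6355 Q6355 (allL N6355 (tt N6684 (iv F21335)) (tt N4815 F20183) (tt N7987 (iv F25620)) (tt N6705 (iv F21418)) (tt N6355 F20184) (tt N7988 D8081) (tt N4814 (iv D6448)) (tt N5270 (iv F20185)))
theorem Q6357 : ∀ i, i < 6357 → P i := stepQ 6356 Q6356 (allL N6356 (tt N6356 F20186) (tt N7986 (iv F25616)) (tt N5904 F20187) (tt N4816 (iv D6449)) (tt N7989 D8082) (tt N4821 F20188) (tt N7990 D8083) (tt N5902 (iv F20189)))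
theorem Q6358 : ∀ i, i < 6358 → P i := stepQ 6357 Q6357 (allL N6357 (tt N6357 F20190) (tt N7987 (iv F25619)) (tt N4817 F20191) (tt N7990 (iv F25634)) (tt N6357 F20192) (tt N7991 D8084) (tt N4816 (iv D6450)) (tt N7992 D8085))
theorem Q6359 : ∀ i, i < 6359 → P i := stepQ 6358 Q6358 (allL N6358 (tt N6358 F20193) (tt N7993 D8086) (tt N7991 (iv F25637)) (tt N7984 (iv F25607)) (tt N6358 F20194) (tt N4817 (iv D6451)) (tt N4823 F20195) (tt N7994 D8087))
theorem Q6360 : ∀ i, i < 6360 → P i := stepQ 6359 Q6359 (allL N6359 (tt N6359 F20196) (tt N4819 F20197) (tt N7992 (iv F25642)) (tt N7450 (iv F23894)) (tt N6359 F20198) (tt N7994 (iv F25652)) (tt N6359 F20199) (tt N4817 (iv D6452)))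
theorem Q6361 : ∀ i, i < 6361 → P i := stepQ 6360 Q6360 (allL N6360 (tt N6765 (iv F21616)) (tt N4818 (iv D6453)) (tt N7995 D8088) (tt N6758 (iv F21592)) (tt N6360 F20200) (tt N7993 (iv F25646)) (tt N4820 F20201) (tt N5269 F20202))
theorem Q6362 : ∀ i, i < 6362 → P i := stepQ 6361 Q6361 (allL N6361 (tt N6764 (iv F21612)) (tt N5265 F20203) (tt N4820 (iv D6454)) (tt N7733 (iv F24721)) (tt N6361 F20204) (tt N4828 F20205) (tt N7995 (iv F25656)) (tt N5264 F20206))
theorem Q6363 : ∀ i, i < 6363 → P i := stepQ 6362 Q6362 (allL N6362 (tt N6362 F20207) (tt N6362 F20208) (tt N6382 (iv F20281)) (tt N6362 F20209) (tt N4821 (iv D6455)) (tt N7989 (iv F25630)) (tt N7996 D8089) (tt N6381 (iv F20278)))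
theorem Q6364 : ∀ i, i < 6364 → P i := stepQ 6363 Q6363 (allL N6363 (tt N6363 F20210) (tt N6363 F20211) (tt N6383 (iv F20285)) (tt N4822 F20212) (tt N7996 (iv F25661)) (tt N7997 D8090) (tt N4821 (iv D6456)) (tt N6363 F20213))
theorem Q6365 : ∀ i, i < 6365 → P i := stepQ 6364 Q6364 (allL N6364 (tt N6364 F20214) (tt N6855 F22032) (tt N4823 F20215) (tt N7997 (iv F25664)) (tt N6364 F20216) (tt N4822 (iv D6457)) (tt N7991 (iv F25639)) (tt N6853 (iv F22031)))
theorem Q6366 : ∀ i, i < 6366 → P i := stepQ 6365 Q6365 (allL N6365 (tt N6365 F20217) (tt N6365 F20218) (tt N4824 F20219) (tt N6365 F20220) (tt N6365 F20221) (tt N6853 (iv F22030)) (tt N6365 F20222) (tt N4822 (iv D6458)))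
theorem Q6367 : ∀ i, i < 6367 → P i := stepQ 6366 Q6366 (allL N6366 (tt N7268 (iv F23306)) (tt N4823 (iv D6459)) (tt N6865 (iv F22035)) (tt N7249 (iv F23219)) (tt N6366 F20223) (tt N4825 F20224) (tt N7993 (iv F25647)) (tt N6862 (iv F22027)))
theorem Q6368 : ∀ i, i < 6368 → P i := stepQ 6367 Q6367 (allL N6367 (tt N6367 F20225) (tt N6862 (iv F22026)) (tt N6853 F22028) (tt N7998 D8091) (tt N6367 F20226) (tt N4824 F20227) (tt N6852 F22029) (tt N4823 (iv D6460)))
theorem Q6369 : ∀ i, i < 6369 → P i := stepQ 6368 Q6368 (allL N6368 (tt N6368 F20228) (tt N4827 F20229) (tt N6368 F20230) (tt N4824 (iv D6461)) (tt N7570 (iv F24281)) (tt N7998 (iv F25671)) (tt N6368 F20231) (tt N7562 F24243))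
theorem Q6370 : ∀ i, i < 6370 → P i := stepQ 6369 Q6369 (allL N6369 (tt N7266 (iv F23294)) (tt N6369 F20232) (tt N4825 (iv D6462)) (tt N7999 D8092) (tt N6369 F20233) (tt N6865 (iv F22037)) (tt N4828 F20234) (tt N6864 F22025))
theorem Q6371 : ∀ i, i < 6371 → P i := stepQ 6370 Q6370 (allL N6370 (tt N7269 (iv F23312)) (tt N4826 F20235) (tt N6864 (iv F22023)) (tt N8000 D8093) (tt N6370 F20236) (tt N6862 F22024) (tt N7390 (iv F23696)) (tt N4825 (iv D6463)))
theorem Q6372 : ∀ i, i < 6372 → P i := stepQ 6371 Q6371 (allL N6371 (tt N4833 F20237) (tt N8000 (iv F25674)) (tt N8001 D8094) (tt N4826 (iv D6464)) (tt N7576 (iv F24301)) (tt N4827 F20238) (tt N8002 D8095) (tt N7251 (iv F23227)))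
theorem Q6373 : ∀ i, i < 6373 → P i := stepQ 6372 Q6372 (allL N6372 (tt N4834 F20239) (tt N7390 F23698) (tt N6372 F20240) (tt N8002 (iv F25683)) (tt N6372 F20241) (tt N6372 F20242) (tt N4826 (iv D6465)) (tt N4831 F20243))
theorem Q6374 : ∀ i, i < 6374 → P i := stepQ 6373 Q6373 (allL N6373 (tt N4835 F20244) (tt N6373 F20245) (tt N4827 (iv D6466)) (tt N6373 F20246) (tt N7574 (iv F24295)) (tt N8001 (iv F25678)) (tt N6373 F20247) (tt N7263 F23285))
theorem Q6375 : ∀ i, i < 6375 → P i := stepQ 6374 Q6374 (allL N6374 (tt N7265 (iv F23292)) (tt N6374 F20248) (tt N7247 (iv F23213)) (tt N4828 (iv D6467)) (tt N8003 D8096) (tt N7733 (iv F24722)) (tt N7999 (iv F25673)) (tt N7680 (iv F24565)))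
theorem Q6376 : ∀ i, i < 6376 → P i := stepQ 6375 Q6375 (allL N6375 (tt N7267 (iv F23300)) (tt N6375 F20249) (tt N4829 F20250) (tt N5766 (iv F20253)) (tt N6375 F20251) (tt N5264 F20252) (tt N7392 (iv F23708)) (tt N4828 (iv D6468)))
theorem Q6377 : ∀ i, i < 6377 → P i := stepQ 6376 Q6376 (allL N6376 (tt N7270 (iv F23318)) (tt N4831 F20254) (tt N7392 (iv F23705)) (tt N5282 F20255) (tt N6376 F20256) (tt N5275 F20257) (tt N4829 (iv D6469)) (tt N7390 (iv F23697)))
theorem Q6378 : ∀ i, i < 6378 → P i := stepQ 6377 Q6377 (allL N6377 (tt N4836 F20258) (tt N5764 F20259) (tt N4830 (iv D6470)) (tt N6377 F20260) (tt N5469 F20261) (tt N4832 F20262) (tt N7393 (iv F23715)) (tt N5470 F20263))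
theorem Q6379 : ∀ i, i < 6379 → P i := stepQ 6378 Q6378 (allL N6378 (tt N4837 F20264) (tt N5282 F20265) (tt N7393 (iv F23712)) (tt N4831 F20266) (tt N6031 F20267) (tt N6378 F20268) (tt N4830 (iv D6471)) (tt N7405 (iv F23751)))
theorem Q6380 : ∀ i, i < 6380 → P i := stepQ 6379 Q6379 (allL N6379 (tt N8001 (iv F25675)) (tt N5990 F20269) (tt N4833 (iv D6472)) (tt N6379 F20270) (tt N7578 (iv F24306)) (tt N4835 F20271) (tt N7426 (iv F23811)) (tt N7257 (iv F23248)))
theorem Q6381 : ∀ i, i < 6381 → P i := stepQ 6380 Q6380 (allL N6380 (tt N8002 (iv F25681)) (tt N7294 (iv F23412)) (tt N7426 (iv F23807)) (tt N4834 F20272) (tt N7579 (iv F24313)) (tt N6380 F20273) (tt N4833 (iv D6473)) (tt N7425 (iv F23805)))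
theorem Q6382 : ∀ i, i < 6382 → P i := stepQ 6381 Q6381 (allL N6381 (tt N6381 F20274) (tt N6381 F20275) (tt N4840 F20276) (tt N8004 D8097) (tt N4839 (iv D6474)) (tt N7491 F24023) (tt N6381 F20277) (tt N6362 F20278))
theorem Q6383 : ∀ i, i < 6383 → P i := stepQ 6382 Q6382 (allL N6382 (tt N6382 F20279) (tt N4842 F20280) (tt N6362 F20281) (tt N8005 D8098) (tt N4841 F20282) (tt N7492 (iv F24027)) (tt N8006 D8099) (tt N4840 (iv D6475)))
theorem Q6384 : ∀ i, i < 6384 → P i := stepQ 6383 Q6383 (allL N6383 (tt N6383 F20283) (tt N4844 F20284) (tt N6363 F20285) (tt N6352 F20286) (tt N8006 (iv F25703)) (tt N8007 D8100) (tt N4841 (iv D6476)) (tt N6383 F20287))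
theorem Q6385 : ∀ i, i < 6385 → P i := stepQ 6384 Q6384 (allL N6384 (tt N4845 F20288) (tt N8005 (iv F25696)) (tt N6858 (iv F21994)) (tt N4842 (iv D6477)) (tt N6651 (iv F21225)) (tt N4857 F20289) (tt N7862 (iv F25134)) (tt N6384 F20290))
theorem Q6386 : ∀ i, i < 6386 → P i := stepQ 6385 Q6385 (allL N6385 (tt N4846 F20291) (tt N8006 (iv F25701)) (tt N6385 F20292) (tt N7862 (iv F25133)) (tt N4844 F20293) (tt N6849 (iv F21957)) (tt N4842 (iv D6478)) (tt N6385 F20294))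
theorem Q6387 : ∀ i, i < 6387 → P i := stepQ 6386 Q6386 (allL N6386 (tt N4968 F20295) (tt N6386 F20296) (tt N6386 F20297) (tt N4847 (iv D6479)) (tt N5333 F20298) (tt N5834 (iv F20300)) (tt N5242 F20299) (tt N5331 (iv F20301)))
theorem Q6388 : ∀ i, i < 6388 → P i := stepQ 6387 Q6387 (allL N6387 (tt N4969 F20302) (tt N6153 (iv F20306)) (tt N4850 F20303) (tt N5834 F20304) (tt N4848 F20305) (tt N4847 (iv D6480)) (tt N7113 (iv F22819)) (tt N8008 D8101))
theorem Q6389 : ∀ i, i < 6389 → P i := stepQ 6388 Q6388 (allL N6388 (tt N4970 F20307) (tt N6388 F20308) (tt N4851 F20309) (tt N8009 D8102) (tt N4849 F20310) (tt N8008 (iv F25714)) (tt N8010 D8103) (tt N4847 (iv D6481)))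
theorem Q6390 : ∀ i, i < 6390 → P i := stepQ 6389 Q6389 (allL N6389 (tt N8011 D8104) (tt N4848 (iv D6482)) (tt N7489 (iv F24013)) (tt N5357 F20311) (tt N6153 F20312) (tt N6389 F20313) (tt N7112 (iv F22815)) (tt N8012 D8105))
theorem Q6391 : ∀ i, i < 6391 → P i := stepQ 6390 Q6390 (allL N6390 (tt N4973 F20314) (tt N8012 (iv F25731)) (tt N4852 F20315) (tt N8013 D8106) (tt N8008 (iv F25713)) (tt N4849 F20316) (tt N8014 D8107) (tt N4848 (iv D6483)))
theorem Q6392 : ∀ i, i < 6392 → P i := stepQ 6391 Q6391 (allL N6391 (tt N4974 F20317) (tt N6391 F20318) (tt N8015 D8108) (tt N4849 (iv D6484)) (tt N8016 D8109) (tt N8013 (iv F25740)) (tt N8017 D8110) (tt N5360 F20319))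
theorem Q6393 : ∀ i, i < 6393 → P i := stepQ 6392 Q6392 (allL N6392 (tt N4975 F20320) (tt N6392 F20321) (tt N4854 F20322) (tt N8017 (iv F25756)) (tt N8010 (iv F25723)) (tt N8018 D8111) (tt N4849 (iv D6485)) (tt N6678 (iv F21319)))
theorem Q6394 : ∀ i, i < 6394 → P i := stepQ 6393 Q6393 (allL N6393 (tt N4977 F20323) (tt N7492 (iv F24025)) (tt N8008 (iv F25711)) (tt N8019 D8112) (tt N4852 F20324) (tt N4851 F20325) (tt N8020 D8113) (tt N4850 (iv D6486)))
theorem Q6395 : ∀ i, i < 6395 → P i := stepQ 6394 Q6394 (allL N6394 (tt N4978 F20326) (tt N4857 F20327) (tt N8021 D8114) (tt N4851 (iv D6487)) (tt N8022 D8115) (tt N8019 (iv F25760)) (tt N8023 D8116) (tt N6394 F20328))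
theorem Q6396 : ∀ i, i < 6396 → P i := stepQ 6395 Q6395 (allL N6395 (tt N4979 F20329) (tt N4858 F20330) (tt N8010 (iv F25722)) (tt N8023 (iv F25772)) (tt N4854 F20331) (tt N8024 D8117) (tt N4851 (iv D6488)) (tt N5998 F20332))
theorem Q6397 : ∀ i, i < 6397 → P i := stepQ 6396 Q6396 (allL N6396 (tt N4982 F20333) (tt N7472 (iv F23962)) (tt N8014 (iv F25743)) (tt N7100 (iv F22784)) (tt N8020 (iv F25763)) (tt N8025 D8118) (tt N4852 (iv D6489)) (tt N7095 (iv F22773)))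
theorem Q6398 : ∀ i, i < 6398 → P i := stepQ 6397 Q6397 (allL N6397 (tt N4983 F20334) (tt N6175 F20335) (tt N4853 (iv D6490)) (tt N8015 (iv F25745)) (tt N8026 D8119) (tt N6349 F20336) (tt N8027 D8120) (tt N4855 F20337))
theorem Q6399 : ∀ i, i < 6399 → P i := stepQ 6398 Q6398 (allL N6398 (tt N4984 F20338) (tt N4860 F20339) (tt N8026 (iv F25781)) (tt N8022 (iv F25768)) (tt N4853 (iv D6491)) (tt N7115 (iv F22831)) (tt N8028 D8121) (tt N4856 F20340))
theorem Q6400 : ∀ i, i < 6400 → P i := stepQ 6399 Q6399 (allL N6399 (tt N4985 F20341) (tt N4861 F20342) (tt N8027 (iv F25786)) (tt N4854 F20343) (tt N8028 (iv F25789)) (tt N8029 D8122) (tt N4853 (iv D6492)) (tt N6641 (iv F21185)))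
theorem Q6401 : ∀ i, i < 6401 → P i := stepQ 6400 Q6400 (allL N6400 (tt N4986 F20344) (tt N8030 D8123) (tt N8018 (iv F25758)) (tt N8029 (iv F25791)) (tt N8024 (iv F25775)) (tt N4854 (iv D6493)) (tt N8025 (iv F25778)) (tt N6681 (iv F21327)))
theorem Q6402 : ∀ i, i < 6402 → P i := stepQ 6401 Q6401 (allL N6401 (tt N6014 (iv F20349)) (tt N4855 (iv D6494)) (tt N4863 F20345) (tt N5373 F20346) (tt N6652 (iv F21230)) (tt N6013 F20347) (tt N7124 (iv F22858)) (tt N6175 F20348))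
theorem Q6403 : ∀ i, i < 6403 → P i := stepQ 6402 Q6402 (allL N6402 (tt N4990 F20350) (tt N6652 (iv F21229)) (tt N4856 F20351) (tt N8031 D8124) (tt N4855 (iv D6495)) (tt N7114 (iv F22825)) (tt N7122 (iv F22853)) (tt N8026 (iv F25783)))
theorem Q6404 : ∀ i, i < 6404 → P i := stepQ 6403 Q6403 (allL N6403 (tt N4871 F20352) (tt N8032 D8125) (tt N4857 (iv D6496)) (tt N6403 F20353) (tt N6856 F21988) (tt N6858 (iv F21996)) (tt N6223 (iv F20355)) (tt N6403 F20354))
theorem Q6405 : ∀ i, i < 6405 → P i := stepQ 6404 Q6404 (allL N6404 (tt N4872 F20356) (tt N8022 (iv F25767)) (tt N6856 (iv F21985)) (tt N4860 F20357) (tt N4857 (iv D6497)) (tt N6651 (iv F21226)) (tt N8033 D8126) (tt N6404 F20358))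
theorem Q6406 : ∀ i, i < 6406 → P i := stepQ 6405 Q6405 (allL N6405 (tt N4873 F20359) (tt N8023 (iv F25771)) (tt N6223 F20360) (tt N4858 F20361) (tt N8033 (iv F25805)) (tt N8034 D8127) (tt N4857 (iv D6498)) (tt N6218 (iv F20362)))
theorem Q6407 : ∀ i, i < 6407 → P i := stepQ 6406 Q6406 (allL N6406 (tt N4874 F20363) (tt N8035 D8128) (tt N6406 F20364) (tt N8034 (iv F25809)) (tt N4862 F20365) (tt N4858 (iv D6499)) (tt N6849 (iv F21958)) (tt N6185 F20366))
theorem Q6408 : ∀ i, i < 6408 → P i := stepQ 6407 Q6407 (allL N6407 (tt N4875 F20367) (tt N6177 F20368) (tt N4861 F20369) (tt N6407 F20370) (tt N6654 (iv F21238)) (tt N6613 (iv F21072)) (tt N4859 (iv D6500)) (tt N6612 F21068))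
theorem Q6409 : ∀ i, i < 6409 → P i := stepQ 6408 Q6408 (allL N6408 (tt N4876 F20371) (tt N8028 (iv F25788)) (tt N6654 (iv F21236)) (tt N8033 (iv F25804)) (tt N4861 F20372) (tt N6636 (iv F21167)) (tt N4860 (iv D6501)) (tt N6635 (iv F21164)))
theorem Q6410 : ∀ i, i < 6410 → P i := stepQ 6409 Q6409 (allL N6409 (tt N6666 (iv F21272)) (tt N4862 (iv D6502)) (tt N8036 D8129) (tt N6640 F21182) (tt N8035 (iv F25811)) (tt N8030 (iv F25792)) (tt N6848 (iv F21953)) (tt N6682 (iv F21329)))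
theorem Q6411 : ∀ i, i < 6411 → P i := stepQ 6410 Q6410 (allL N6410 (tt N6035 F20373) (tt N4864 F20374) (tt N7124 (iv F22856)) (tt N4866 F20375) (tt N6653 (iv F21234)) (tt N8037 D8130) (tt N4863 (iv D6503)) (tt N6614 (iv F21074)))
theorem Q6412 : ∀ i, i < 6412 → P i := stepQ 6411 Q6411 (allL N6411 (tt N4866 F20376) (tt N4879 F20377) (tt N5387 F20378) (tt N6035 F20379) (tt N6425 (iv F20433)) (tt N8038 D8131) (tt N4865 (iv D6504)) (tt N8039 D8132))
theorem Q6413 : ∀ i, i < 6413 → P i := stepQ 6412 Q6412 (allL N6412 (tt N8038 (iv F25817)) (tt N8040 D8133) (tt N5390 F20380) (tt N8037 (iv F25815)) (tt N6430 (iv F20455)) (tt N4866 (iv D6505)) (tt N6961 (iv F22346)) (tt N8041 D8134))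
theorem Q6414 : ∀ i, i < 6414 → P i := stepQ 6413 Q6413 (allL N6413 (tt N8039 (iv F25821)) (tt N4868 F20381) (tt N5391 F20382) (tt N8042 D8135) (tt N6431 (iv F20459)) (tt N8041 (iv F25830)) (tt N6413 F20383) (tt N4866 (iv D6506)))
theorem Q6415 : ∀ i, i < 6415 → P i := stepQ 6414 Q6414 (allL N6414 (tt N6582 (iv F20957)) (tt N4867 (iv D6507)) (tt N7166 (iv F22966)) (tt N6572 F20933) (tt N4966 F20384) (tt N8040 (iv F25827)) (tt N4964 F20385) (tt N8043 D8136))
theorem Q6416 : ∀ i, i < 6416 → P i := stepQ 6415 Q6415 (allL N6415 (tt N4882 F20386) (tt N8043 (iv F25834)) (tt N4870 F20387) (tt N6602 (iv F21029)) (tt N4967 F20388) (tt N4868 F20389) (tt N5229 F20390) (tt N4867 (iv D6508)))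
theorem Q6417 : ∀ i, i < 6417 → P i := stepQ 6416 Q6416 (allL N6416 (tt N4883 F20391) (tt N8042 (iv F25832)) (tt N5066 F20392) (tt N4868 (iv D6509)) (tt N8044 D8137) (tt N6602 (iv F21030)) (tt N6416 F20393) (tt N6601 F21027))
theorem Q6418 : ∀ i, i < 6418 → P i := stepQ 6417 Q6417 (allL N6417 (tt N4884 F20394) (tt N7172 (iv F22984)) (tt N5229 F20395) (tt N6628 (iv F21128)) (tt N5163 F20396) (tt N6417 F20397) (tt N4870 (iv D6510)) (tt N5160 F20398))
theorem Q6419 : ∀ i, i < 6419 → P i := stepQ 6418 Q6418 (allL N6418 (tt N8033 (iv F25802)) (tt N5030 F20399) (tt N6224 F20400) (tt N4876 F20401) (tt N4873 F20402) (tt N6644 (iv F21196)) (tt N4872 (iv D6511)) (tt N6219 (iv F20403)))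
theorem Q6420 : ∀ i, i < 6420 → P i := stepQ 6419 Q6419 (allL N6419 (tt N8034 (iv F25807)) (tt N6673 (iv F21296)) (tt N6212 F20404) (tt N4874 F20405) (tt N6644 (iv F21195)) (tt N4873 (iv D6512)) (tt N6851 (iv F21966)) (tt N6208 F20406))
theorem Q6421 : ∀ i, i < 6421 → P i := stepQ 6420 Q6420 (allL N6420 (tt N4878 F20407) (tt N6035 F20408) (tt N5040 F20409) (tt N4879 F20410) (tt N6631 (iv F21145)) (tt N6625 (iv F21120)) (tt N4877 (iv D6513)) (tt N6623 (iv F21112)))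
theorem Q6422 : ∀ i, i < 6422 → P i := stepQ 6421 Q6421 (allL N6421 (tt N4880 F20411) (tt N8045 D8138) (tt N4888 F20412) (tt N6625 (iv F21118)) (tt N6426 (iv F20437)) (tt N4879 (iv D6514)) (tt N6424 (iv F20427)) (tt N5094 F20413))
theorem Q6423 : ∀ i, i < 6423 → P i := stepQ 6422 Q6422 (allL N6422 (tt N4881 F20414) (tt N8039 (iv F25822)) (tt N4889 F20415) (tt N5071 (iv F20418)) (tt N6427 (iv F20443)) (tt N5094 F20416) (tt N6422 F20417) (tt N4879 (iv D6515)))
theorem Q6424 : ∀ i, i < 6424 → P i := stepQ 6423 Q6423 (allL N6423 (tt N8044 (iv F25837)) (tt N5070 F20419) (tt N5065 F20420) (tt N6186 F20421) (tt N4883 (iv D6516)) (tt N6187 F20422) (tt N6423 F20423) (tt N6206 F20424))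
theorem Q6425 : ∀ i, i < 6425 → P i := stepQ 6424 Q6424 (allL N6424 (tt N4891 F20425) (tt N8046 D8139) (tt N6426 (iv F20435)) (tt N7329 (iv F23516)) (tt N4888 F20426) (tt N4885 (iv D6517)) (tt N6421 F20427) (tt N5097 F20428))
theorem Q6426 : ∀ i, i < 6426 → P i := stepQ 6425 Q6425 (allL N6425 (tt N4894 F20429) (tt N4887 F20430) (tt N5539 F20431) (tt N5082 F20432) (tt N6411 F20433) (tt N8047 D8140) (tt N4886 (iv D6518)) (tt N8048 D8141))
theorem Q6427 : ∀ i, i < 6427 → P i := stepQ 6426 Q6426 (allL N6426 (tt N4892 F20434) (tt N8049 D8142) (tt N6424 F20435) (tt N5083 F20436) (tt N6421 F20437) (tt N4887 (iv D6519)) (tt N4888 F20438) (tt N5130 F20439))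
theorem Q6428 : ∀ i, i < 6428 → P i := stepQ 6427 Q6427 (allL N6427 (tt N4893 F20440) (tt N8048 (iv F25856)) (tt N6213 F20441) (tt N5136 F20442) (tt N6422 F20443) (tt N5130 F20444) (tt N6427 F20445) (tt N4887 (iv D6520)))
theorem Q6429 : ∀ i, i < 6429 → P i := stepQ 6428 Q6428 (allL N6428 (tt N6449 (iv F20527)) (tt N4888 (iv D6521)) (tt N8050 D8143) (tt N5085 F20446) (tt N8046 (iv F25845)) (tt N5412 F20447) (tt N8049 (iv F25863)) (tt N5096 F20448))
theorem Q6430 : ∀ i, i < 6430 → P i := stepQ 6429 Q6429 (allL N6429 (tt N7329 (iv F23515)) (tt N5069 F20449) (tt N6604 (iv F21035)) (tt N4891 F20450) (tt N5088 F20451) (tt N4890 (iv D6522)) (tt N5067 F20452) (tt N6429 F20453))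
theorem Q6431 : ∀ i, i < 6431 → P i := stepQ 6430 Q6430 (allL N6430 (tt N8047 (iv F25850)) (tt N6495 (iv F20699)) (tt N6938 (iv F22282)) (tt N5108 F20454) (tt N6412 F20455) (tt N4894 (iv D6523)) (tt N5416 F20456) (tt N8051 D8144))
theorem Q6432 : ∀ i, i < 6432 → P i := stepQ 6431 Q6431 (allL N6431 (tt N8048 (iv F25855)) (tt N4895 F20457) (tt N6250 F20458) (tt N8052 D8145) (tt N6413 F20459) (tt N8051 (iv F25871)) (tt N6431 F20460) (tt N4894 (iv D6524)))
theorem Q6433 : ∀ i, i < 6433 → P i := stepQ 6432 Q6432 (allL N6432 (tt N4897 F20461) (tt N8052 (iv F25873)) (tt N6215 F20462) (tt N4895 (iv D6525)) (tt N7820 (iv F24986)) (tt N6480 (iv F20638)) (tt N6432 F20463) (tt N5112 F20464))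
theorem Q6434 : ∀ i, i < 6434 → P i := stepQ 6433 Q6433 (allL N6433 (tt N4906 F20465) (tt N7114 (iv F22821)) (tt N4899 F20466) (tt N4902 F20467) (tt N6195 F20468) (tt N5212 (iv F20469)) (tt N4898 (iv D6526)) (tt N5211 (iv F20470)))
theorem Q6435 : ∀ i, i < 6435 → P i := stepQ 6434 Q6434 (allL N6434 (tt N4900 (iv D6527)) (tt N4907 F20471) (tt N6434 F20472) (tt N6920 F22220) (tt N6436 (iv F20481)) (tt N6923 (iv F22233)) (tt N6435 F20477) (tt N5139 F20473))
theorem Q6436 : ∀ i, i < 6436 → P i := stepQ 6435 Q6435 (allL N6435 (tt N6436 (iv F20478)) (tt N4901 F20474) (tt N6435 F20475) (tt N6534 (iv F20808)) (tt N4900 (iv D6528)) (tt N6539 (iv F20831)) (tt N6434 (iv F20477)) (tt N5140 F20476))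
theorem Q6437 : ∀ i, i < 6437 → P i := stepQ 6436 Q6436 (allL N6436 (tt N6435 F20478) (tt N4902 F20479) (tt N6436 F20480) (tt N7114 (iv F22823)) (tt N6434 F20481) (tt N8031 (iv F25796)) (tt N4900 (iv D6529)) (tt N6685 (iv F21342)))
theorem Q6438 : ∀ i, i < 6438 → P i := stepQ 6437 Q6437 (allL N6437 (tt N4909 F20482) (tt N6534 (iv F20806)) (tt N6437 F20483) (tt N4901 (iv D6530)) (tt N6533 (iv F20805)) (tt N4933 F20484) (tt N6439 (iv F20491)) (tt N6745 (iv F21543)))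
theorem Q6439 : ∀ i, i < 6439 → P i := stepQ 6438 Q6438 (allL N6438 (tt N4910 F20485) (tt N7183 (iv F23015)) (tt N4903 F20486) (tt N5212 F20487) (tt N6440 (iv F20495)) (tt N4902 (iv D6531)) (tt N4935 F20488) (tt N6698 (iv F21392)))
theorem Q6440 : ∀ i, i < 6440 → P i := stepQ 6439 Q6439 (allL N6439 (tt N4904 (iv D6532)) (tt N6920 (iv F22216)) (tt N6439 F20489) (tt N4907 F20490) (tt N6919 F22213) (tt N7817 (iv F24977)) (tt N6437 F20491) (tt N6180 F20492))
theorem Q6441 : ∀ i, i < 6441 → P i := stepQ 6440 Q6440 (allL N6440 (tt N4908 F20493) (tt N8053 D8146) (tt N4911 F20494) (tt N7817 (iv F24976)) (tt N6438 F20495) (tt N4907 (iv D6533)) (tt N6472 (iv F20609)) (tt N5149 F20496))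
theorem Q6442 : ∀ i, i < 6442 → P i := stepQ 6441 Q6441 (allL N6441 (tt N6677 (iv F21312)) (tt N5524 F20497) (tt N4914 F20498) (tt N5422 F20499) (tt N5528 F20500) (tt N4972 F20501) (tt N4912 (iv D6534)) (tt N8054 D8147))
theorem Q6443 : ∀ i, i < 6443 → P i := stepQ 6442 Q6442 (allL N6442 (tt N5945 F20502) (tt N5525 F20503) (tt N4915 F20504) (tt N5617 F20505) (tt N5529 F20506) (tt N4913 F20507) (tt N8055 D8148) (tt N4912 (iv D6535)))
theorem Q6444 : ∀ i, i < 6444 → P i := stepQ 6443 Q6443 (allL N6443 (tt N5925 F20508) (tt N5164 F20509) (tt N5595 F20510) (tt N4913 (iv D6536)) (tt N7358 (iv F23588)) (tt N5617 F20511) (tt N8056 D8149) (tt N5424 F20512))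
theorem Q6445 : ∀ i, i < 6445 → P i := stepQ 6444 Q6444 (allL N6444 (tt N6678 (iv F21316)) (tt N5165 F20513) (tt N4917 F20514) (tt N8056 (iv F25894)) (tt N5740 F20515) (tt N8057 D8150) (tt N4913 (iv D6537)) (tt N4975 F20516))
theorem Q6446 : ∀ i, i < 6446 → P i := stepQ 6445 Q6445 (allL N6445 (tt N6679 (iv F21320)) (tt N5855 F20517) (tt N8054 (iv F25883)) (tt N5663 F20518) (tt N5861 F20519) (tt N4980 F20520) (tt N8058 D8151) (tt N4914 (iv D6538)))
theorem Q6447 : ∀ i, i < 6447 → P i := stepQ 6446 Q6446 (allL N6446 (tt N6680 (iv F21324)) (tt N5856 F20521) (tt N8055 (iv F25888)) (tt N7480 (iv F23990)) (tt N5863 F20522) (tt N8059 D8152) (tt N4915 (iv D6539)) (tt N8058 (iv F25901)))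
theorem Q6448 : ∀ i, i < 6448 → P i := stepQ 6447 Q6447 (allL N6447 (tt N6676 (iv F21308)) (tt N4921 F20523) (tt N7503 (iv F24065)) (tt N4917 F20524) (tt N7481 (iv F23997)) (tt N8060 D8153) (tt N4916 (iv D6540)) (tt N8061 D8154))
theorem Q6449 : ∀ i, i < 6449 → P i := stepQ 6448 Q6448 (allL N6448 (tt N6681 (iv F21326)) (tt N8062 D8155) (tt N8057 (iv F25895)) (tt N8060 (iv F25904)) (tt N6000 F20525) (tt N4917 (iv D6541)) (tt N8059 (iv F25903)) (tt N4986 F20526))
theorem Q6450 : ∀ i, i < 6450 → P i := stepQ 6449 Q6449 (allL N6449 (tt N6428 F20527) (tt N4928 F20528) (tt N7511 (iv F24083)) (tt N4993 F20529) (tt N7494 (iv F24034)) (tt N5502 F20530) (tt N8061 (iv F25908)) (tt N4918 (iv D6542)))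
theorem Q6451 : ∀ i, i < 6451 → P i := stepQ 6450 Q6450 (allL N6450 (tt N5563 F20531) (tt N4919 (iv D6543)) (tt N5582 F20532) (tt N5173 F20533) (tt N6456 (iv F20556)) (tt N5561 F20534) (tt N8063 D8156) (tt N4923 F20535))
theorem Q6452 : ∀ i, i < 6452 → P i := stepQ 6451 Q6451 (allL N6451 (tt N4940 F20536) (tt N8063 (iv F25913)) (tt N4921 F20537) (tt N5175 F20538) (tt N6481 (iv F20644)) (tt N7829 (iv F25021)) (tt N4919 (iv D6544)) (tt N8064 D8157))
theorem Q6453 : ∀ i, i < 6453 → P i := stepQ 6452 Q6452 (allL N6452 (tt N4941 F20539) (tt N7481 (iv F23994)) (tt N6481 (iv F20642)) (tt N5092 F20540) (tt N4921 F20541) (tt N6565 (iv F20905)) (tt N4920 (iv D6545)) (tt N6589 (iv F20985)))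
theorem Q6454 : ∀ i, i < 6454 → P i := stepQ 6453 Q6453 (allL N6453 (tt N4942 F20542) (tt N8065 D8158) (tt N7829 (iv F25019)) (tt N4922 F20543) (tt N6565 (iv F20904)) (tt N4921 (iv D6546)) (tt N5221 F20544) (tt N4963 (iv F20545)))
theorem Q6455 : ∀ i, i < 6455 → P i := stepQ 6454 Q6454 (allL N6454 (tt N4943 F20546) (tt N8061 (iv F25906)) (tt N8064 (iv F25917)) (tt N5002 F20547) (tt N6589 (iv F20983)) (tt N4963 F20548) (tt N4928 F20549) (tt N4921 (iv D6547)))
theorem Q6456 : ∀ i, i < 6456 → P i := stepQ 6455 Q6455 (allL N6455 (tt N8066 D8159) (tt N4922 (iv D6548)) (tt N8067 D8160) (tt N8065 (iv F25921)) (tt N6003 F20550) (tt N8062 (iv F25910)) (tt N5997 F20551) (tt N5003 F20552))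
theorem Q6457 : ∀ i, i < 6457 → P i := stepQ 6456 Q6456 (allL N6456 (tt N4923 (iv D6549)) (tt N4945 F20553) (tt N5574 F20554) (tt N4929 F20555) (tt N6450 F20556) (tt N5547 F20557) (tt N8068 D8161) (tt N5563 F20558))
theorem Q6458 : ∀ i, i < 6458 → P i := stepQ 6457 Q6457 (allL N6457 (tt N8068 (iv F25933)) (tt N4925 F20559) (tt N7140 (iv F22901)) (tt N4932 F20560) (tt N7118 (iv F22843)) (tt N8069 D8162) (tt N4923 (iv D6550)) (tt N8070 D8163))
theorem Q6459 : ∀ i, i < 6459 → P i := stepQ 6458 Q6458 (allL N6458 (tt N4947 F20561) (tt N7118 (iv F22841)) (tt N4926 F20562) (tt N6742 (iv F21527)) (tt N4925 F20563) (tt N6196 F20564) (tt N4924 (iv D6551)) (tt N8071 D8164))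
theorem Q6460 : ∀ i, i < 6460 → P i := stepQ 6459 Q6459 (allL N6459 (tt N4948 F20565) (tt N7184 (iv F23019)) (tt N4927 F20566) (tt N4935 F20567) (tt N6196 F20568) (tt N4925 (iv D6552)) (tt N5212 F20569) (tt N4953 (iv F20570)))
theorem Q6461 : ∀ i, i < 6461 → P i := stepQ 6460 Q6460 (allL N6460 (tt N4949 F20571) (tt N8070 (iv F25939)) (tt N4928 F20572) (tt N8072 D8165) (tt N8071 (iv F25942)) (tt N4953 F20573) (tt N8064 (iv F25919)) (tt N4925 (iv D6553)))
theorem Q6462 : ∀ i, i < 6462 → P i := stepQ 6461 Q6461 (allL N6461 (tt N4950 F20574) (tt N7494 (iv F24032)) (tt N8071 (iv F25941)) (tt N6590 (iv F20989)) (tt N4928 F20575) (tt N4961 F20576) (tt N6589 F20986) (tt N4926 (iv D6554)))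
theorem Q6463 : ∀ i, i < 6463 → P i := stepQ 6462 Q6462 (allL N6462 (tt N4930 F20577) (tt N4951 F20578) (tt N5451 F20579) (tt N6720 (iv F21463)) (tt N4929 (iv D6555)) (tt N8073 D8166) (tt N8074 D8167) (tt N5185 F20580))
theorem Q6464 : ∀ i, i < 6464 → P i := stepQ 6463 Q6463 (allL N6463 (tt N4931 F20581) (tt N5533 (iv F20585)) (tt N5452 F20582) (tt N5547 F20583) (tt N8073 (iv F25952)) (tt N4929 (iv D6556)) (tt N8075 D8168) (tt N5186 F20584))
theorem Q6465 : ∀ i, i < 6465 → P i := stepQ 6464 Q6464 (allL N6464 (tt N4932 F20586) (tt N4953 F20587) (tt N5453 F20588) (tt N8068 (iv F25936)) (tt N8074 (iv F25957)) (tt N8076 D8169) (tt N4929 (iv D6557)) (tt N7184 (iv F23022)))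
theorem Q6466 : ∀ i, i < 6466 → P i := stepQ 6465 Q6465 (allL N6465 (tt N6720 (iv F21461)) (tt N4933 F20589) (tt N6558 (iv F20887)) (tt N4930 (iv D6558)) (tt N6537 (iv F20823)) (tt N6536 F20818) (tt N8077 D8170) (tt N6728 (iv F21493)))
theorem Q6467 : ∀ i, i < 6467 → P i := stepQ 6466 Q6466 (allL N6466 (tt N8073 (iv F25949)) (tt N6539 (iv F20828)) (tt N5455 F20590) (tt N6536 (iv F20817)) (tt N4931 F20591) (tt N4930 (iv D6559)) (tt N8078 D8171) (tt N5188 F20592))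
theorem Q6468 : ∀ i, i < 6468 → P i := stepQ 6467 Q6467 (allL N6467 (tt N8074 (iv F25954)) (tt N4934 F20593) (tt N5456 F20594) (tt N8077 (iv F25966)) (tt N4932 F20595) (tt N8079 D8172) (tt N4930 (iv D6560)) (tt N6015 F20596))
theorem Q6469 : ∀ i, i < 6469 → P i := stepQ 6468 Q6468 (allL N6468 (tt N8075 (iv F25959)) (tt N7121 (iv F22847)) (tt N5457 F20597) (tt N7117 (iv F22839)) (tt N8078 (iv F25968)) (tt N8080 D8173) (tt N4931 (iv D6561)) (tt N8081 D8174))
theorem Q6470 : ∀ i, i < 6470 → P i := stepQ 6469 Q6469 (allL N6469 (tt N8076 (iv F25963)) (tt N8082 D8175) (tt N5458 F20598) (tt N8069 (iv F25938)) (tt N8079 (iv F25970)) (tt N4932 (iv D6562)) (tt N8080 (iv F25973)) (tt N8083 D8176))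
theorem Q6471 : ∀ i, i < 6471 → P i := stepQ 6470 Q6470 (allL N6470 (tt N7184 (iv F23018)) (tt N4936 F20599) (tt N5459 F20600) (tt N8084 D8177) (tt N6015 F20601) (tt N8083 (iv F25979)) (tt N5191 F20602) (tt N4932 (iv D6563)))
theorem Q6472 : ∀ i, i < 6472 → P i := stepQ 6471 Q6471 (allL N6471 (tt N4956 F20603) (tt N8077 (iv F25965)) (tt N6471 F20604) (tt N4934 F20605) (tt N6742 (iv F21528)) (tt N8085 D8178) (tt N4933 (iv D6564)) (tt N8086 D8179))
theorem Q6473 : ∀ i, i < 6473 → P i := stepQ 6472 Q6472 (allL N6472 (tt N4957 F20606) (tt N8087 D8180) (tt N4937 F20607) (tt N8085 (iv F25985)) (tt N4935 F20608) (tt N4934 (iv D6565)) (tt N6440 F20609) (tt N6016 F20610))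
theorem Q6474 : ∀ i, i < 6474 → P i := stepQ 6473 Q6473 (allL N6473 (tt N8084 (iv F25980)) (tt N4935 (iv D6566)) (tt N7186 (iv F23028)) (tt N7184 (iv F23021)) (tt N8087 (iv F25994)) (tt N8082 (iv F25976)) (tt N7183 F23017) (tt N8088 D8181))
theorem Q6475 : ∀ i, i < 6475 → P i := stepQ 6474 Q6474 (allL N6474 (tt N4959 F20611) (tt N8088 (iv F25997)) (tt N4939 F20612) (tt N8089 D8182) (tt N6016 F20613) (tt N4936 F20614) (tt N8090 D8183) (tt N4935 (iv D6567)))
theorem Q6476 : ∀ i, i < 6476 → P i := stepQ 6475 Q6475 (allL N6475 (tt N4958 F20615) (tt N8084 (iv F25981)) (tt N5026 F20616) (tt N4936 (iv D6568)) (tt N6487 (iv F20670)) (tt N8089 (iv F26001)) (tt N5192 F20617) (tt N8072 (iv F25947)))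
theorem Q6477 : ∀ i, i < 6477 → P i := stepQ 6476 Q6476 (allL N6476 (tt N5613 F20618) (tt N4937 (iv D6569)) (tt N7541 (iv F24182)) (tt N6476 F20619) (tt N4938 F20620) (tt N5464 F20621) (tt N5940 F20622) (tt N6017 F20623))
theorem Q6478 : ∀ i, i < 6478 → P i := stepQ 6477 Q6477 (allL N6477 (tt N5614 F20624) (tt N4939 F20625) (tt N7542 (iv F24187)) (tt N5028 F20626) (tt N6017 F20627) (tt N5466 F20628) (tt N8091 D8184) (tt N4938 (iv D6570)))
theorem Q6479 : ∀ i, i < 6479 → P i := stepQ 6478 Q6478 (allL N6478 (tt N4960 F20629) (tt N8091 (iv F26011)) (tt N8090 (iv F26006)) (tt N5029 F20630) (tt N5177 F20631) (tt N5176 F20632) (tt N4939 (iv D6571)) (tt N6703 (iv F21411)))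
theorem Q6480 : ∀ i, i < 6480 → P i := stepQ 6479 Q6479 (allL N6479 (tt N8064 (iv F25916)) (tt N6484 (iv F20655)) (tt N4943 F20633) (tt N6756 (iv F21583)) (tt N6483 (iv F20653)) (tt N4955 F20634) (tt N4949 F20635) (tt N4940 (iv D6572)))
theorem Q6481 : ∀ i, i < 6481 → P i := stepQ 6480 Q6480 (allL N6480 (tt N4944 (iv D6573)) (tt N8066 (iv F25924)) (tt N7831 (iv F25027)) (tt N4967 F20636) (tt N6188 F20637) (tt N6432 F20638) (tt N5234 F20639) (tt N5036 F20640))
theorem Q6482 : ∀ i, i < 6482 → P i := stepQ 6481 Q6481 (allL N6481 (tt N4946 F20641) (tt N8068 (iv F25934)) (tt N6452 F20642) (tt N4953 F20643) (tt N6451 F20644) (tt N8072 (iv F25946)) (tt N4945 (iv D6574)) (tt N8089 (iv F26002)))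
theorem Q6483 : ∀ i, i < 6483 → P i := stepQ 6482 Q6482 (allL N6482 (tt N8072 (iv F25944)) (tt N4959 F20645) (tt N5047 F20646) (tt N4949 F20647) (tt N6197 F20648) (tt N4946 (iv D6575)) (tt N6756 (iv F21586)) (tt N4958 F20649))
theorem Q6484 : ∀ i, i < 6484 → P i := stepQ 6483 Q6483 (allL N6483 (tt N8089 (iv F25999)) (tt N4949 F20650) (tt N5068 F20651) (tt N4959 F20652) (tt N6479 F20653) (tt N4958 F20654) (tt N6484 (iv F20659)) (tt N4946 (iv D6576)))
theorem Q6485 : ∀ i, i < 6485 → P i := stepQ 6484 Q6484 (allL N6484 (tt N8071 (iv F25940)) (tt N6479 F20655) (tt N4950 F20656) (tt N6490 (iv F20682)) (tt N4949 F20657) (tt N4954 F20658) (tt N6483 F20659) (tt N4947 (iv D6577)))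
theorem Q6486 : ∀ i, i < 6486 → P i := stepQ 6485 Q6485 (allL N6485 (tt N4954 F20660) (tt N8074 (iv F25955)) (tt N4961 F20661) (tt N6722 (iv F21468)) (tt N4953 F20662) (tt N8071 (iv F25943)) (tt N4951 (iv D6578)) (tt N6196 F20663))
theorem Q6487 : ∀ i, i < 6487 → P i := stepQ 6486 Q6486 (allL N6486 (tt N8053 (iv F25876)) (tt N4952 (iv D6579)) (tt N5531 (iv F20667)) (tt N5543 F20664) (tt N6741 (iv F21524)) (tt N5533 F20665) (tt N8092 D8185) (tt N5209 F20666))
theorem Q6488 : ∀ i, i < 6488 → P i := stepQ 6487 Q6487 (allL N6487 (tt N4955 F20668) (tt N8092 (iv F26016)) (tt N4963 F20669) (tt N7581 (iv F24323)) (tt N6475 F20670) (tt N8064 (iv F25918)) (tt N4952 (iv D6580)) (tt N7829 (iv F25023)))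
theorem Q6489 : ∀ i, i < 6489 → P i := stepQ 6488 Q6488 (allL N6488 (tt N8085 (iv F25983)) (tt N6184 (iv F20675)) (tt N6488 F20671) (tt N4957 F20672) (tt N6183 F20673) (tt N4956 (iv D6581)) (tt N6181 F20674) (tt N5205 (iv F20676)))
theorem Q6490 : ∀ i, i < 6490 → P i := stepQ 6489 Q6489 (allL N6489 (tt N8086 (iv F25989)) (tt N6702 (iv F21402)) (tt N6489 F20677) (tt N5214 F20678) (tt N6743 (iv F21532)) (tt N5205 F20679) (tt N5206 F20680) (tt N4956 (iv D6582)))
theorem Q6491 : ∀ i, i < 6491 → P i := stepQ 6490 Q6490 (allL N6490 (tt N8090 (iv F26005)) (tt N6756 (iv F21581)) (tt N4960 F20681) (tt N6484 F20682) (tt N5197 F20683) (tt N5196 F20684) (tt N4959 (iv D6583)) (tt N6701 (iv F21401)))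
theorem Q6492 : ∀ i, i < 6492 → P i := stepQ 6491 Q6491 (allL N6491 (tt N4965 F20685) (tt N5531 F20686) (tt N4962 (iv D6584)) (tt N5529 F20687) (tt N6825 (iv F21871)) (tt N5498 F20688) (tt N8093 D8186) (tt N5218 F20689))
theorem Q6493 : ∀ i, i < 6493 → P i := stepQ 6492 Q6492 (allL N6492 (tt N4966 F20690) (tt N4963 F20691) (tt N8093 (iv F26022)) (tt N6667 (iv F21276)) (tt N6582 F20960) (tt N8094 D8187) (tt N4962 (iv D6585)) (tt N8065 (iv F25923)))
theorem Q6494 : ∀ i, i < 6494 → P i := stepQ 6493 Q6493 (allL N6493 (tt N5529 F20692) (tt N5948 F20693) (tt N5860 F20694) (tt N4965 (iv D6586)) (tt N5945 F20695) (tt N5515 F20696) (tt N8095 D8188) (tt N5527 (iv F20697)))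
theorem Q6495 : ∀ i, i < 6495 → P i := stepQ 6494 Q6494 (allL N6494 (tt N8093 (iv F26020)) (tt N7168 (iv F22972)) (tt N4966 F20698) (tt N8095 (iv F26029)) (tt N7166 F22968) (tt N8096 D8189) (tt N4965 (iv D6587)) (tt N8097 D8190))
theorem Q6496 : ∀ i, i < 6496 → P i := stepQ 6495 Q6495 (allL N6495 (tt N8094 (iv F26024)) (tt N6430 F20699) (tt N8096 (iv F26031)) (tt N6664 (iv F21268)) (tt N8040 (iv F25826)) (tt N4966 (iv D6588)) (tt N5517 F20700) (tt N8098 D8191))
theorem Q6497 : ∀ i, i < 6497 → P i := stepQ 6496 Q6496 (allL N6496 (tt N8065 (iv F25920)) (tt N4967 F20701) (tt N8097 (iv F26033)) (tt N8066 (iv F25925)) (tt N8043 (iv F25835)) (tt N8098 (iv F26036)) (tt N5233 F20702) (tt N4966 (iv D6589)))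
theorem Q6498 : ∀ i, i < 6498 → P i := stepQ 6497 Q6497 (allL N6497 (tt N5834 F20703) (tt N5419 F20704) (tt N6497 F20705) (tt N4969 F20706) (tt N5421 F20707) (tt N4968 (iv D6590)) (tt N8099 D8192) (tt N5809 (iv F20708)))
theorem Q6499 : ∀ i, i < 6499 → P i := stepQ 6498 Q6498 (allL N6498 (tt N5331 F20709) (tt N5237 F20710) (tt N6498 F20711) (tt N8100 D8193) (tt N5306 F20712) (tt N5809 F20713) (tt N8101 D8194) (tt N4968 (iv D6591)))
theorem Q6500 : ∀ i, i < 6500 → P i := stepQ 6499 Q6499 (allL N6499 (tt N7206 (iv F23078)) (tt N4969 (iv D6592)) (tt N6499 F20714) (tt N5419 F20715) (tt N4971 F20716) (tt N5238 F20717) (tt N8102 D8195) (tt N8103 D8196))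
theorem Q6501 : ∀ i, i < 6501 → P i := stepQ 6500 Q6500 (allL N6500 (tt N7113 (iv F22816)) (tt N8102 (iv F26055)) (tt N4976 F20718) (tt N8099 (iv F26040)) (tt N4972 F20719) (tt N5528 F20720) (tt N4969 (iv D6593)) (tt N8104 D8197))
theorem Q6502 : ∀ i, i < 6502 → P i := stepQ 6501 Q6501 (allL N6501 (tt N8008 (iv F25709)) (tt N8103 (iv F26061)) (tt N4977 F20721) (tt N8105 D8198) (tt N4973 F20722) (tt N4970 F20723) (tt N8106 D8199) (tt N4969 (iv D6594)))
theorem Q6503 : ∀ i, i < 6503 → P i := stepQ 6502 Q6502 (allL N6502 (tt N8009 (iv F25715)) (tt N5240 F20724) (tt N8107 D8200) (tt N4970 (iv D6595)) (tt N8108 D8201) (tt N8105 (iv F26069)) (tt N8109 D8202) (tt N8100 (iv F26047)))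
theorem Q6504 : ∀ i, i < 6504 → P i := stepQ 6503 Q6503 (allL N6503 (tt N8010 (iv F25720)) (tt N5241 F20725) (tt N4979 F20726) (tt N8109 (iv F26087)) (tt N4975 F20727) (tt N8110 D8203) (tt N4970 (iv D6596)) (tt N5740 F20728))
theorem Q6505 : ∀ i, i < 6505 → P i := stepQ 6504 Q6504 (allL N6504 (tt N4971 (iv D6597)) (tt N8011 (iv F25725)) (tt N6504 F20729) (tt N5527 F20730) (tt N7206 (iv F23081)) (tt N5242 F20731) (tt N8111 D8204) (tt N5230 (iv F20732)))
theorem Q6506 : ∀ i, i < 6506 → P i := stepQ 6505 Q6505 (allL N6505 (tt N8111 (iv F26091)) (tt N4972 F20733) (tt N6505 F20734) (tt N5528 F20735) (tt N8102 (iv F26058)) (tt N8099 (iv F26042)) (tt N4971 (iv D6598)) (tt N8112 D8205))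
theorem Q6507 : ∀ i, i < 6507 → P i := stepQ 6506 Q6506 (allL N6506 (tt N5230 F20736) (tt N4973 F20737) (tt N6506 F20738) (tt N5218 F20739) (tt N8103 (iv F26063)) (tt N5243 F20740) (tt N8113 D8206) (tt N4971 (iv D6599)))
theorem Q6508 : ∀ i, i < 6508 → P i := stepQ 6507 Q6507 (allL N6507 (tt N7093 (iv F22765)) (tt N8112 (iv F26096)) (tt N4980 F20741) (tt N8114 D8207) (tt N8104 (iv F26066)) (tt N8054 (iv F25885)) (tt N8115 D8208) (tt N4972 (iv D6600)))
theorem Q6509 : ∀ i, i < 6509 → P i := stepQ 6508 Q6508 (allL N6508 (tt N8013 (iv F25736)) (tt N5218 F20742) (tt N5209 (iv F20745)) (tt N4973 (iv D6601)) (tt N8116 D8209) (tt N4974 F20743) (tt N8117 D8210) (tt N5531 F20744))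
theorem Q6510 : ∀ i, i < 6510 → P i := stepQ 6509 Q6509 (allL N6509 (tt N8014 (iv F25742)) (tt N8113 (iv F26099)) (tt N4982 F20746) (tt N8117 (iv F26113)) (tt N8106 (iv F26074)) (tt N8118 D8211) (tt N4973 (iv D6602)) (tt N8115 (iv F26104)))
theorem Q6511 : ∀ i, i < 6511 → P i := stepQ 6510 Q6510 (allL N6510 (tt N8015 (iv F25744)) (tt N5186 F20747) (tt N4974 (iv D6603)) (tt N4983 F20748) (tt N8119 D8212) (tt N5209 F20749) (tt N8120 D8213) (tt N5533 F20750))
theorem Q6512 : ∀ i, i < 6512 → P i := stepQ 6511 Q6511 (allL N6511 (tt N8016 (iv F25749)) (tt N5247 F20751) (tt N8119 (iv F26117)) (tt N8108 (iv F26083)) (tt N4974 (iv D6604)) (tt N8116 (iv F26109)) (tt N8121 D8214) (tt N5534 F20752))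
theorem Q6513 : ∀ i, i < 6513 → P i := stepQ 6512 Q6512 (allL N6512 (tt N8017 (iv F25754)) (tt N5248 F20753) (tt N8120 (iv F26121)) (tt N4975 F20754) (tt N8121 (iv F26124)) (tt N8122 D8215) (tt N4974 (iv D6605)) (tt N8123 D8216))
theorem Q6514 : ∀ i, i < 6514 → P i := stepQ 6513 Q6513 (allL N6513 (tt N8018 (iv F25757)) (tt N8124 D8217) (tt N4986 F20755) (tt N8122 (iv F26125)) (tt N8110 (iv F26089)) (tt N4975 (iv D6606)) (tt N8118 (iv F26115)) (tt N8057 (iv F25897)))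
theorem Q6515 : ∀ i, i < 6515 → P i := stepQ 6514 Q6514 (allL N6514 (tt N7094 (iv F22767)) (tt N6514 F20756) (tt N8104 (iv F26065)) (tt N8125 D8218) (tt N4980 F20757) (tt N5861 F20758) (tt N8126 D8219) (tt N4976 (iv D6607)))
theorem Q6516 : ∀ i, i < 6516 → P i := stepQ 6515 Q6515 (allL N6515 (tt N8019 (iv F25759)) (tt N6515 F20759) (tt N8127 D8220) (tt N4977 (iv D6608)) (tt N8128 D8221) (tt N4978 F20760) (tt N8129 D8222) (tt N6515 F20761))
theorem Q6517 : ∀ i, i < 6517 → P i := stepQ 6516 Q6516 (allL N6516 (tt N8020 (iv F25762)) (tt N6516 F20762) (tt N8106 (iv F26073)) (tt N8129 (iv F26144)) (tt N4982 F20763) (tt N8130 D8223) (tt N4977 (iv D6609)) (tt N8126 (iv F26134)))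
theorem Q6518 : ∀ i, i < 6518 → P i := stepQ 6517 Q6517 (allL N6517 (tt N8021 (iv F25764)) (tt N6517 F20764) (tt N4978 (iv D6610)) (tt N8107 (iv F26076)) (tt N8131 D8224) (tt N8127 (iv F26136)) (tt N8132 D8225) (tt N6517 F20765))
theorem Q6519 : ∀ i, i < 6519 → P i := stepQ 6518 Q6518 (allL N6518 (tt N8022 (iv F25766)) (tt N4994 F20766) (tt N8131 (iv F26148)) (tt N4984 F20767) (tt N4978 (iv D6611)) (tt N8128 (iv F26141)) (tt N8133 D8226) (tt N6518 F20768))
theorem Q6520 : ∀ i, i < 6520 → P i := stepQ 6519 Q6519 (allL N6519 (tt N8023 (iv F25770)) (tt N4995 F20769) (tt N8132 (iv F26151)) (tt N4979 F20770) (tt N8133 (iv F26154)) (tt N8134 D8227) (tt N4978 (iv D6612)) (tt N8135 D8228))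
theorem Q6521 : ∀ i, i < 6521 → P i := stepQ 6520 Q6520 (allL N6520 (tt N8024 (iv F25774)) (tt N8136 D8229) (tt N8110 (iv F26088)) (tt N8134 (iv F26155)) (tt N4986 F20771) (tt N4979 (iv D6613)) (tt N8130 (iv F26146)) (tt N6000 F20772))
theorem Q6522 : ∀ i, i < 6522 → P i := stepQ 6521 Q6521 (allL N6521 (tt N7095 (iv F22770)) (tt N6521 F20773) (tt N8115 (iv F26103)) (tt N6911 (iv F22190)) (tt N8126 (iv F26133)) (tt N8137 D8230) (tt N4980 (iv D6614)) (tt N4982 F20774))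
theorem Q6523 : ∀ i, i < 6523 → P i := stepQ 6522 Q6522 (allL N6522 (tt N6349 F20775) (tt N5202 (iv F20779)) (tt N4981 (iv D6615)) (tt N5209 F20776) (tt N8138 D8231) (tt N4983 F20777) (tt N8139 D8232) (tt N4987 F20778))
theorem Q6524 : ∀ i, i < 6524 → P i := stepQ 6523 Q6523 (allL N6523 (tt N7115 (iv F22827)) (tt N6523 F20780) (tt N8138 (iv F26166)) (tt N8128 (iv F26140)) (tt N4981 (iv D6616)) (tt N4984 F20781) (tt N8140 D8233) (tt N4988 F20782))
theorem Q6525 : ∀ i, i < 6525 → P i := stepQ 6524 Q6524 (allL N6524 (tt N7100 (iv F22782)) (tt N6524 F20783) (tt N8139 (iv F26171)) (tt N4982 F20784) (tt N8140 (iv F26174)) (tt N8141 D8234) (tt N4981 (iv D6617)) (tt N6913 (iv F22198)))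
theorem Q6526 : ∀ i, i < 6526 → P i := stepQ 6525 Q6525 (allL N6525 (tt N8025 (iv F25777)) (tt N8142 D8235) (tt N8118 (iv F26114)) (tt N8141 (iv F26176)) (tt N8130 (iv F26145)) (tt N4982 (iv D6618)) (tt N4986 F20785) (tt N8137 (iv F26163)))
theorem Q6527 : ∀ i, i < 6527 → P i := stepQ 6526 Q6526 (allL N6526 (tt N5182 F20786) (tt N4983 (iv D6619)) (tt N4997 F20787) (tt N5186 F20788) (tt N8143 D8236) (tt N5180 F20789) (tt N8144 D8237) (tt N4989 F20790))
theorem Q6528 : ∀ i, i < 6528 → P i := stepQ 6527 Q6527 (allL N6527 (tt N8026 (iv F25779)) (tt N8143 (iv F26181)) (tt N4984 F20791) (tt N8145 D8238) (tt N4983 (iv D6620)) (tt N8138 (iv F26167)) (tt N8146 D8239) (tt N4990 F20792))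
theorem Q6529 : ∀ i, i < 6529 → P i := stepQ 6528 Q6528 (allL N6528 (tt N8027 (iv F25784)) (tt N8144 (iv F26186)) (tt N4985 F20793) (tt N8120 (iv F26122)) (tt N8146 (iv F26190)) (tt N8147 D8240) (tt N4983 (iv D6621)) (tt N8148 D8241))
theorem Q6530 : ∀ i, i < 6530 → P i := stepQ 6529 Q6529 (allL N6529 (tt N8028 (iv F25787)) (tt N5000 F20794) (tt N8146 (iv F26189)) (tt N8133 (iv F26153)) (tt N4985 F20795) (tt N8149 D8242) (tt N4984 (iv D6622)) (tt N7592 (iv F24359)))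
theorem Q6531 : ∀ i, i < 6531 → P i := stepQ 6530 Q6530 (allL N6530 (tt N8029 (iv F25790)) (tt N8150 D8243) (tt N8147 (iv F26191)) (tt N4986 F20796) (tt N8149 (iv F26194)) (tt N4985 (iv D6623)) (tt N8141 (iv F26177)) (tt N8151 D8244))
theorem Q6532 : ∀ i, i < 6532 → P i := stepQ 6531 Q6531 (allL N6531 (tt N6641 (iv F21183)) (tt N5002 F20797) (tt N8148 (iv F26192)) (tt N8061 (iv F25907)) (tt N7592 (iv F24357)) (tt N8151 (iv F26197)) (tt N4993 F20798) (tt N4985 (iv D6624)))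
theorem Q6533 : ∀ i, i < 6533 → P i := stepQ 6532 Q6532 (allL N6532 (tt N8152 D8245) (tt N4986 (iv D6625)) (tt N8153 D8246) (tt N8150 (iv F26195)) (tt N8136 (iv F26160)) (tt N5003 F20799) (tt N8142 (iv F26179)) (tt N8062 (iv F25911)))
theorem Q6534 : ∀ i, i < 6534 → P i := stepQ 6533 Q6533 (allL N6533 (tt N5194 F20800) (tt N4987 (iv D6626)) (tt N6533 F20801) (tt N5556 F20802) (tt N6437 F20805) (tt N5193 (iv F20804)) (tt N6919 (iv F22212)) (tt N5202 F20803))
theorem Q6535 : ∀ i, i < 6535 → P i := stepQ 6534 Q6534 (allL N6534 (tt N7114 (iv F22820)) (tt N6437 F20806) (tt N4988 F20807) (tt N6435 F20808) (tt N4987 (iv D6627)) (tt N4990 F20809) (tt N6920 (iv F22219)) (tt N8138 (iv F26168)))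
theorem Q6536 : ∀ i, i < 6536 → P i := stepQ 6535 Q6535 (allL N6535 (tt N4989 (iv D6628)) (tt N6014 F20810) (tt N5004 F20811) (tt N5561 F20812) (tt N8154 D8247) (tt N5173 (iv F20814)) (tt N8155 D8248) (tt N5182 F20813))
theorem Q6537 : ∀ i, i < 6537 → P i := stepQ 6536 Q6536 (allL N6536 (tt N8154 (iv F26200)) (tt N4990 F20815) (tt N5005 F20816) (tt N6466 F20817) (tt N4989 (iv D6629)) (tt N6465 (iv F20818)) (tt N8156 D8249) (tt N8143 (iv F26184)))
theorem Q6538 : ∀ i, i < 6538 → P i := stepQ 6537 Q6537 (allL N6537 (tt N5173 F20819) (tt N5193 F20820) (tt N5006 F20821) (tt N5563 F20822) (tt N6465 F20823) (tt N4989 (iv D6630)) (tt N8157 D8250) (tt N5180 F20824))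
theorem Q6539 : ∀ i, i < 6539 → P i := stepQ 6538 Q6538 (allL N6538 (tt N8155 (iv F26206)) (tt N4991 F20825) (tt N5007 F20826) (tt N5564 F20827) (tt N8156 (iv F26213)) (tt N8158 D8251) (tt N4989 (iv D6631)) (tt N8159 D8252))
theorem Q6540 : ∀ i, i < 6540 → P i := stepQ 6539 Q6539 (allL N6539 (tt N8031 (iv F25793)) (tt N6466 F20828) (tt N6539 F20829) (tt N4990 (iv D6632)) (tt N5565 F20830) (tt N6435 F20831) (tt N8160 D8253) (tt N6689 (iv F21356)))
theorem Q6541 : ∀ i, i < 6541 → P i := stepQ 6540 Q6540 (allL N6540 (tt N7122 (iv F22850)) (tt N8156 (iv F26210)) (tt N4992 F20832) (tt N8160 (iv F26225)) (tt N4991 F20833) (tt N6924 (iv F22239)) (tt N4990 (iv D6633)) (tt N8161 D8254))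
theorem Q6542 : ∀ i, i < 6542 → P i := stepQ 6541 Q6541 (allL N6541 (tt N6642 (iv F21186)) (tt N8159 (iv F26221)) (tt N4993 F20834) (tt N8162 D8255) (tt N8161 (iv F26228)) (tt N6925 (iv F22242)) (tt N8148 (iv F26193)) (tt N4991 (iv D6634)))
theorem Q6543 : ∀ i, i < 6543 → P i := stepQ 6542 Q6542 (allL N6542 (tt N6637 (iv F21169)) (tt N5012 F20835) (tt N8161 (iv F26227)) (tt N7606 (iv F24388)) (tt N4993 F20836) (tt N6926 (iv F22246)) (tt N7592 (iv F24358)) (tt N4992 (iv D6635)))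
theorem Q6544 : ∀ i, i < 6544 → P i := stepQ 6543 Q6543 (allL N6543 (tt N5030 F20837) (tt N8133 (iv F26152)) (tt N6543 F20838) (tt N5000 F20839) (tt N4995 F20840) (tt N6584 (iv F20971)) (tt N4994 (iv D6636)) (tt N6583 (iv F20966)))
theorem Q6545 : ∀ i, i < 6545 → P i := stepQ 6544 Q6544 (allL N6544 (tt N5031 F20841) (tt N8163 D8256) (tt N6544 F20842) (tt N4996 F20843) (tt N6584 (iv F20970)) (tt N4995 (iv D6637)) (tt N6544 F20844) (tt N6563 F20899))
theorem Q6546 : ∀ i, i < 6546 → P i := stepQ 6545 Q6545 (allL N6545 (tt N5032 F20845) (tt N8135 (iv F26157)) (tt N6545 F20846) (tt N6002 F20847) (tt N6583 (iv F20964)) (tt N6563 (iv F20900)) (tt N6545 F20848) (tt N4995 (iv D6638)))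
theorem Q6547 : ∀ i, i < 6547 → P i := stepQ 6546 Q6546 (allL N6546 (tt N8164 D8257) (tt N4996 (iv D6639)) (tt N8165 D8258) (tt N8163 (iv F26230)) (tt N5003 F20849) (tt N8136 (iv F26161)) (tt N6546 F20850) (tt N6003 F20851))
theorem Q6548 : ∀ i, i < 6548 → P i := stepQ 6547 Q6547 (allL N6547 (tt N4997 (iv D6640)) (tt N5034 F20852) (tt N5182 F20853) (tt N5267 F20854) (tt N7876 (iv F25181)) (tt N5170 (iv F20856)) (tt N8166 D8259) (tt N5004 F20855))
theorem Q6549 : ∀ i, i < 6549 → P i := stepQ 6548 Q6548 (allL N6548 (tt N7876 (iv F25178)) (tt N4998 F20857) (tt N8143 (iv F26182)) (tt N6548 F20858) (tt N4997 (iv D6641)) (tt N8167 D8260) (tt N7596 (iv F24368)) (tt N5005 F20859))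
theorem Q6550 : ∀ i, i < 6550 → P i := stepQ 6549 Q6549 (allL N6549 (tt N5170 F20860) (tt N6549 F20861) (tt N5180 F20862) (tt N5268 F20863) (tt N8167 (iv F26248)) (tt N4997 (iv D6642)) (tt N7391 (iv F23702)) (tt N5006 F20864))
theorem Q6551 : ∀ i, i < 6551 → P i := stepQ 6550 Q6550 (allL N6550 (tt N8166 (iv F26240)) (tt N4999 F20865) (tt N8144 (iv F26187)) (tt N5269 F20866) (tt N7596 (iv F24367)) (tt N8168 D8261) (tt N4997 (iv D6643)) (tt N7593 (iv F24362)))
theorem Q6552 : ∀ i, i < 6552 → P i := stepQ 6551 Q6551 (allL N6551 (tt N6669 (iv F21282)) (tt N5001 (iv D6644)) (tt N8169 D8262) (tt N5003 F20867) (tt N7591 (iv F24354)) (tt N8150 (iv F26196)) (tt N6551 F20868) (tt N6667 F21279))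
theorem Q6553 : ∀ i, i < 6553 → P i := stepQ 6552 Q6552 (allL N6552 (tt N5003 (iv D6645)) (tt N5036 F20869) (tt N8170 D8263) (tt N6669 F21285) (tt N8164 (iv F26233)) (tt N8152 (iv F26198)) (tt N6552 F20870) (tt N8066 (iv F25928)))
theorem Q6554 : ∀ i, i < 6554 → P i := stepQ 6553 Q6553 (allL N6553 (tt N8170 (iv F26254)) (tt N5272 F20871) (tt N5003 (iv D6646)) (tt N8171 D8264) (tt N8165 (iv F26237)) (tt N8153 (iv F26199)) (tt N6553 F20872) (tt N8067 (iv F25932)))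
theorem Q6555 : ∀ i, i < 6555 → P i := stepQ 6554 Q6554 (allL N6554 (tt N5005 F20873) (tt N5038 F20874) (tt N8154 (iv F26202)) (tt N8172 D8265) (tt N5004 (iv D6647)) (tt N8173 D8266) (tt N8174 D8267) (tt N7876 (iv F25183)))
theorem Q6556 : ∀ i, i < 6556 → P i := stepQ 6555 Q6555 (allL N6555 (tt N5006 F20875) (tt N5166 F20876) (tt N5173 F20877) (tt N5014 F20878) (tt N8173 (iv F26265)) (tt N5004 (iv D6648)) (tt N8175 D8268) (tt N5170 F20879))
theorem Q6557 : ∀ i, i < 6557 → P i := stepQ 6556 Q6556 (allL N6556 (tt N5007 F20880) (tt N5040 F20881) (tt N8155 (iv F26208)) (tt N5015 F20882) (tt N8174 (iv F26269)) (tt N8176 D8269) (tt N5004 (iv D6649)) (tt N8177 D8270))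
theorem Q6558 : ∀ i, i < 6558 → P i := stepQ 6557 Q6557 (allL N6557 (tt N8172 (iv F26258)) (tt N5008 F20883) (tt N7007 (iv F22487)) (tt N5005 (iv D6650)) (tt N5016 F20884) (tt N7006 F22485) (tt N8178 D8271) (tt N6557 F20885))
theorem Q6559 : ∀ i, i < 6559 → P i := stepQ 6558 Q6558 (allL N6558 (tt N8173 (iv F26262)) (tt N6558 F20886) (tt N6465 F20887) (tt N7006 (iv F22482)) (tt N5006 F20888) (tt N5005 (iv D6651)) (tt N8179 D8272) (tt N8167 (iv F26249)))
theorem Q6560 : ∀ i, i < 6560 → P i := stepQ 6559 Q6559 (allL N6559 (tt N8174 (iv F26267)) (tt N5009 F20889) (tt N8156 (iv F26211)) (tt N8178 (iv F26280)) (tt N5007 F20890) (tt N8180 D8273) (tt N5005 (iv D6652)) (tt N7587 (iv F24344)))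
theorem Q6561 : ∀ i, i < 6561 → P i := stepQ 6560 Q6560 (allL N6560 (tt N8175 (iv F26270)) (tt N6560 F20891) (tt N8157 (iv F26216)) (tt N5019 F20892) (tt N8179 (iv F26285)) (tt N8181 D8274) (tt N5006 (iv D6653)) (tt N8182 D8275))
theorem Q6562 : ∀ i, i < 6562 → P i := stepQ 6561 Q6561 (allL N6561 (tt N8176 (iv F26274)) (tt N8183 D8276) (tt N8158 (iv F26219)) (tt N5020 F20893) (tt N8180 (iv F26286)) (tt N5007 (iv D6654)) (tt N8181 (iv F26288)) (tt N8184 D8277))
theorem Q6563 : ∀ i, i < 6563 → P i := stepQ 6562 Q6562 (allL N6562 (tt N8177 (iv F26276)) (tt N5011 F20894) (tt N8159 (iv F26222)) (tt N8185 D8278) (tt N7587 (iv F24342)) (tt N8184 (iv F26292)) (tt N7593 (iv F24361)) (tt N5007 (iv D6655)))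
theorem Q6564 : ∀ i, i < 6564 → P i := stepQ 6563 Q6563 (allL N6563 (tt N5046 F20895) (tt N8178 (iv F26279)) (tt N6563 F20896) (tt N5009 F20897) (tt N5022 F20898) (tt N6545 F20900) (tt N5008 (iv D6656)) (tt N6544 (iv F20899)))
theorem Q6565 : ∀ i, i < 6565 → P i := stepQ 6564 Q6564 (allL N6564 (tt N6648 (iv F21206)) (tt N5010 (iv D6657)) (tt N6932 (iv F22260)) (tt N5024 F20901) (tt N7585 (iv F24338)) (tt N8183 (iv F26291)) (tt N6564 F20902) (tt N6645 (iv F21202)))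
theorem Q6566 : ∀ i, i < 6566 → P i := stepQ 6565 Q6565 (allL N6565 (tt N5047 F20903) (tt N8185 (iv F26294)) (tt N8072 (iv F25945)) (tt N5011 (iv D6658)) (tt N6453 F20904) (tt N6452 F20905) (tt N6759 (iv F21598)) (tt N5026 F20906))
theorem Q6567 : ∀ i, i < 6567 → P i := stepQ 6566 Q6566 (allL N6566 (tt N5016 F20907) (tt N5048 F20908) (tt N7319 (iv F23488)) (tt N5013 (iv D6659)) (tt N8172 (iv F26260)) (tt N8186 D8279) (tt N8187 D8280) (tt N6566 F20909))
theorem Q6568 : ∀ i, i < 6568 → P i := stepQ 6567 Q6567 (allL N6567 (tt N5017 F20910) (tt N8188 D8281) (tt N5593 F20911) (tt N8186 (iv F26298)) (tt N5014 F20912) (tt N5013 (iv D6660)) (tt N8189 D8282) (tt N5276 F20913))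
theorem Q6569 : ∀ i, i < 6569 → P i := stepQ 6568 Q6568 (allL N6568 (tt N5018 F20914) (tt N5050 F20915) (tt N5594 F20916) (tt N8187 (iv F26302)) (tt N5015 F20917) (tt N8190 D8283) (tt N5013 (iv D6661)) (tt N6024 F20918))
theorem Q6570 : ∀ i, i < 6570 → P i := stepQ 6569 Q6569 (allL N6569 (tt N6569 F20919) (tt N5014 (iv D6662)) (tt N5164 F20920) (tt N5166 F20921) (tt N8188 (iv F26305)) (tt N5051 F20922) (tt N8191 D8284) (tt N5277 F20923))
theorem Q6571 : ∀ i, i < 6571 → P i := stepQ 6570 Q6570 (allL N6570 (tt N5019 F20924) (tt N8191 (iv F26316)) (tt N5596 F20925) (tt N8175 (iv F26273)) (tt N8189 (iv F26310)) (tt N8192 D8285) (tt N5014 (iv D6663)) (tt N8193 D8286))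
theorem Q6572 : ∀ i, i < 6572 → P i := stepQ 6571 Q6571 (allL N6571 (tt N5020 F20926) (tt N8194 D8287) (tt N5597 F20927) (tt N8176 (iv F26275)) (tt N8190 (iv F26313)) (tt N5015 (iv D6664)) (tt N8192 (iv F26321)) (tt N8195 D8288))
theorem Q6573 : ∀ i, i < 6573 → P i := stepQ 6572 Q6572 (allL N6572 (tt N5021 F20928) (tt N5054 F20929) (tt N5590 F20930) (tt N6414 (iv F20933)) (tt N6024 F20931) (tt N8195 (iv F26331)) (tt N5280 F20932) (tt N5015 (iv D6665)))
theorem Q6574 : ∀ i, i < 6574 → P i := stepQ 6573 Q6573 (allL N6573 (tt N7319 (iv F23486)) (tt N6573 F20934) (tt N5016 (iv D6666)) (tt N5598 F20935) (tt N7007 (iv F22489)) (tt N6996 (iv F22451)) (tt N8196 D8289) (tt N6573 F20936))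
theorem Q6575 : ∀ i, i < 6575 → P i := stepQ 6574 Q6574 (allL N6574 (tt N8186 (iv F26297)) (tt N6574 F20937) (tt N6996 (iv F22449)) (tt N5017 F20938) (tt N7006 (iv F22483)) (tt N5016 (iv D6667)) (tt N8197 D8290) (tt N6574 F20939))
theorem Q6576 : ∀ i, i < 6576 → P i := stepQ 6575 Q6575 (allL N6575 (tt N8187 (iv F26300)) (tt N5022 F20940) (tt N8196 (iv F26334)) (tt N5018 F20941) (tt N8178 (iv F26281)) (tt N8198 D8291) (tt N5016 (iv D6668)) (tt N8199 D8292))
theorem Q6577 : ∀ i, i < 6577 → P i := stepQ 6576 Q6576 (allL N6576 (tt N8189 (iv F26308)) (tt N6576 F20942) (tt N5601 F20943) (tt N8197 (iv F26337)) (tt N5019 F20944) (tt N8200 D8293) (tt N5017 (iv D6669)) (tt N8201 D8294))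
theorem Q6578 : ∀ i, i < 6578 → P i := stepQ 6577 Q6577 (allL N6577 (tt N8190 (iv F26311)) (tt N8202 D8295) (tt N5602 F20945) (tt N8198 (iv F26338)) (tt N5020 F20946) (tt N5018 (iv D6670)) (tt N8200 (iv F26345)) (tt N6026 F20947))
theorem Q6579 : ∀ i, i < 6579 → P i := stepQ 6578 Q6578 (allL N6578 (tt N8192 (iv F26319)) (tt N8203 D8296) (tt N5603 F20948) (tt N8181 (iv F26287)) (tt N8200 (iv F26344)) (tt N5019 (iv D6671)) (tt N5020 F20949) (tt N8204 D8297))
theorem Q6580 : ∀ i, i < 6580 → P i := stepQ 6579 Q6579 (allL N6579 (tt N8193 (iv F26322)) (tt N6579 F20950) (tt N5604 F20951) (tt N8205 D8298) (tt N8201 (iv F26348)) (tt N8204 (iv F26356)) (tt N5283 F20952) (tt N5019 (iv D6672)))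
theorem Q6581 : ∀ i, i < 6581 → P i := stepQ 6580 Q6580 (allL N6580 (tt N8206 D8299) (tt N5020 (iv D6673)) (tt N8207 D8300) (tt N8183 (iv F26290)) (tt N8202 (iv F26350)) (tt N5024 F20953) (tt N8203 (iv F26354)) (tt N8208 D8301))
theorem Q6582 : ∀ i, i < 6582 → P i := stepQ 6581 Q6581 (allL N6581 (tt N8195 (iv F26327)) (tt N8208 (iv F26362)) (tt N5606 F20954) (tt N8209 D8302) (tt N6026 F20955) (tt N5021 F20956) (tt N8210 D8303) (tt N5020 (iv D6674)))
theorem Q6583 : ∀ i, i < 6583 → P i := stepQ 6582 Q6582 (allL N6582 (tt N6414 F20957) (tt N5026 F20958) (tt N8211 D8304) (tt N5021 (iv D6675)) (tt N6492 (iv F20960)) (tt N8209 (iv F26366)) (tt N5285 F20959) (tt N8185 (iv F26296)))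
theorem Q6584 : ∀ i, i < 6584 → P i := stepQ 6583 Q6583 (allL N6583 (tt N5063 F20961) (tt N8212 D8305) (tt N6583 F20962) (tt N5023 F20963) (tt N6545 F20964) (tt N5022 (iv D6676)) (tt N6583 F20965) (tt N6543 F20966))
theorem Q6585 : ∀ i, i < 6585 → P i := stepQ 6584 Q6584 (allL N6584 (tt N5064 F20967) (tt N8199 (iv F26339)) (tt N6584 F20968) (tt N6006 F20969) (tt N6544 F20970) (tt N6543 F20971) (tt N6584 F20972) (tt N5022 (iv D6677)))
theorem Q6586 : ∀ i, i < 6586 → P i := stepQ 6585 Q6585 (allL N6585 (tt N8213 D8306) (tt N5023 (iv D6678)) (tt N7540 (iv F24178)) (tt N8212 (iv F26375)) (tt N5024 F20973) (tt N8202 (iv F26351)) (tt N6585 F20974) (tt N6027 F20975))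
theorem Q6587 : ∀ i, i < 6587 → P i := stepQ 6586 Q6586 (allL N6586 (tt N5024 (iv D6679)) (tt N5066 F20976) (tt N8214 D8307) (tt N6648 F21211) (tt N8213 (iv F26380)) (tt N8206 (iv F26359)) (tt N6586 F20977) (tt N8215 D8308))
theorem Q6588 : ∀ i, i < 6588 → P i := stepQ 6587 Q6587 (allL N6587 (tt N8214 (iv F26383)) (tt N5027 F20978) (tt N5024 (iv D6680)) (tt N6946 (iv F22300)) (tt N7540 (iv F24179)) (tt N8207 (iv F26361)) (tt N6587 F20979) (tt N8216 D8309))
theorem Q6589 : ∀ i, i < 6589 → P i := stepQ 6588 Q6588 (allL N6588 (tt N8215 (iv F26385)) (tt N5025 F20980) (tt N8216 (iv F26390)) (tt N8217 D8310) (tt N6027 F20981) (tt N8208 (iv F26364)) (tt N8218 D8311) (tt N5024 (iv D6681)))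
theorem Q6590 : ∀ i, i < 6590 → P i := stepQ 6589 Q6589 (allL N6589 (tt N5068 F20982) (tt N8217 (iv F26393)) (tt N8089 (iv F26000)) (tt N5025 (iv D6682)) (tt N6454 F20983) (tt N5026 F20984) (tt N6461 (iv F20986)) (tt N6452 F20985))
theorem Q6591 : ∀ i, i < 6591 → P i := stepQ 6590 Q6590 (allL N6590 (tt N5069 F20987) (tt N8218 (iv F26398)) (tt N5029 F20988) (tt N6461 F20989) (tt N6020 F20990) (tt N5286 F20991) (tt N5025 (iv D6683)) (tt N6590 F20992))
theorem Q6592 : ∀ i, i < 6592 → P i := stepQ 6591 Q6591 (allL N6591 (tt N7545 (iv F24196)) (tt N8216 (iv F26389)) (tt N5028 F20993) (tt N8219 D8312) (tt N6028 F20994) (tt N5612 F20995) (tt N8220 D8313) (tt N5027 (iv D6684)))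
theorem Q6593 : ∀ i, i < 6593 → P i := stepQ 6592 Q6592 (allL N6592 (tt N7547 (iv F24202)) (tt N5029 F20996) (tt N8220 (iv F26403)) (tt N8091 (iv F26012)) (tt N6021 F20997) (tt N7743 (iv F24757)) (tt N5028 (iv D6685)) (tt N6592 F20998))
theorem Q6594 : ∀ i, i < 6594 → P i := stepQ 6593 Q6593 (allL N6593 (tt N8221 D8314) (tt N5031 (iv D6686)) (tt N8222 D8315) (tt N5033 F20999) (tt N6618 (iv F21086)) (tt N6673 (iv F21298)) (tt N6593 F21000) (tt N6603 F21034))
theorem Q6595 : ∀ i, i < 6595 → P i := stepQ 6594 Q6594 (allL N6594 (tt N5033 (iv D6687)) (tt N8164 (iv F26232)) (tt N8223 D8316) (tt N8221 (iv F26406)) (tt N5036 F21001) (tt N6671 (iv F21292)) (tt N6594 F21002) (tt N6188 F21003))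
theorem Q6596 : ∀ i, i < 6596 → P i := stepQ 6595 Q6595 (allL N6595 (tt N8223 (iv F26414)) (tt N5290 F21004) (tt N5033 (iv D6688)) (tt N8224 D8317) (tt N5037 F21005) (tt N6674 (iv F21302)) (tt N6595 F21006) (tt N6189 F21007))
theorem Q6597 : ∀ i, i < 6597 → P i := stepQ 6596 Q6596 (allL N6596 (tt N5035 F21008) (tt N8166 (iv F26241)) (tt N5854 F21009) (tt N5292 F21010) (tt N7824 (iv F25004)) (tt N6596 F21011) (tt N5034 (iv D6689)) (tt N6770 (iv F21634)))
theorem Q6598 : ∀ i, i < 6598 → P i := stepQ 6597 Q6597 (allL N6597 (tt N5037 F21012) (tt N8225 D8318) (tt N5036 (iv D6690)) (tt N6597 F21013) (tt N8223 (iv F26415)) (tt N6670 (iv F21288)) (tt N6597 F21014) (tt N7831 F25031))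
theorem Q6599 : ∀ i, i < 6599 → P i := stepQ 6598 Q6598 (allL N6598 (tt N5041 F21015) (tt N8172 (iv F26259)) (tt N6606 (iv F21044)) (tt N5038 (iv D6691)) (tt N5048 F21016) (tt N6605 F21042) (tt N8226 D8319) (tt N6598 F21017))
theorem Q6600 : ∀ i, i < 6600 → P i := stepQ 6599 Q6599 (allL N6599 (tt N5042 F21018) (tt N8174 (iv F26268)) (tt N6631 (iv F21143)) (tt N8226 (iv F26428)) (tt N5040 F21019) (tt N7837 (iv F25049)) (tt N5038 (iv D6692)) (tt N7821 (iv F24993)))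
theorem Q6601 : ∀ i, i < 6601 → P i := stepQ 6600 Q6600 (allL N6600 (tt N5043 F21020) (tt N5750 F21021) (tt N5767 F21022) (tt N5052 F21023) (tt N6630 (iv F21140)) (tt N8227 D8320) (tt N5039 (iv D6693)) (tt N6600 F21024))
theorem Q6602 : ∀ i, i < 6602 → P i := stepQ 6601 Q6601 (allL N6601 (tt N5044 F21025) (tt N8228 D8321) (tt N6625 (iv F21117)) (tt N5053 F21026) (tt N7837 (iv F25048)) (tt N5040 (iv D6694)) (tt N8227 (iv F26434)) (tt N6416 (iv F21027)))
theorem Q6603 : ∀ i, i < 6603 → P i := stepQ 6602 Q6602 (allL N6602 (tt N5045 F21028) (tt N8177 (iv F26277)) (tt N6623 (iv F21110)) (tt N6415 F21029) (tt N7821 (iv F24991)) (tt N6416 F21030) (tt N6770 (iv F21633)) (tt N5040 (iv D6695)))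
theorem Q6604 : ∀ i, i < 6604 → P i := stepQ 6603 Q6603 (allL N6603 (tt N8226 (iv F26427)) (tt N5046 F21031) (tt N6616 (iv F21079)) (tt N5042 F21032) (tt N5057 F21033) (tt N7838 (iv F25052)) (tt N5041 (iv D6696)) (tt N6593 (iv F21034)))
theorem Q6605 : ∀ i, i < 6605 → P i := stepQ 6604 Q6604 (allL N6604 (tt N8227 (iv F26431)) (tt N6629 (iv F21132)) (tt N6429 F21035) (tt N5060 F21036) (tt N6643 (iv F21190)) (tt N5043 (iv D6697)) (tt N5044 F21037) (tt N6604 F21038))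
theorem Q6606 : ∀ i, i < 6606 → P i := stepQ 6605 Q6605 (allL N6605 (tt N5055 F21039) (tt N7241 (iv F23184)) (tt N5048 (iv D6698)) (tt N5075 F21040) (tt N6606 (iv F21046)) (tt N6598 (iv F21042)) (tt N8229 D8322) (tt N6605 F21041))
theorem Q6607 : ∀ i, i < 6607 → P i := stepQ 6606 Q6606 (allL N6606 (tt N5056 F21043) (tt N8230 D8323) (tt N6598 F21044) (tt N5049 F21045) (tt N6605 F21046) (tt N5048 (iv D6699)) (tt N8231 D8324) (tt N6606 F21047))
theorem Q6608 : ∀ i, i < 6608 → P i := stepQ 6607 Q6607 (allL N6607 (tt N5057 F21048) (tt N8187 (iv F26301)) (tt N8229 (iv F26439)) (tt N5050 F21049) (tt N8226 (iv F26429)) (tt N8232 D8325) (tt N5048 (iv D6700)) (tt N7561 (iv F24237)))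
theorem Q6609 : ∀ i, i < 6609 → P i := stepQ 6608 Q6608 (allL N6608 (tt N6608 F21050) (tt N5049 (iv D6701)) (tt N5737 (iv F21053)) (tt N8230 (iv F26442)) (tt N5051 F21051) (tt N8188 (iv F26306)) (tt N8233 D8326) (tt N5297 F21052))
theorem Q6610 : ∀ i, i < 6610 → P i := stepQ 6609 Q6609 (allL N6609 (tt N5058 F21054) (tt N8233 (iv F26454)) (tt N5079 F21055) (tt N8231 (iv F26448)) (tt N5052 F21056) (tt N8234 D8327) (tt N5049 (iv D6702)) (tt N8235 D8328))
theorem Q6611 : ∀ i, i < 6611 → P i := stepQ 6610 Q6610 (allL N6610 (tt N5059 F21057) (tt N8236 D8329) (tt N5080 F21058) (tt N8232 (iv F26451)) (tt N5053 F21059) (tt N5050 (iv D6703)) (tt N8234 (iv F26460)) (tt N5100 F21060))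
theorem Q6612 : ∀ i, i < 6612 → P i := stepQ 6611 Q6611 (allL N6611 (tt N6611 F21061) (tt N5052 F21062) (tt N5738 F21063) (tt N5750 F21064) (tt N8233 (iv F26456)) (tt N8237 D8330) (tt N5051 (iv D6704)) (tt N8238 D8331))
theorem Q6613 : ∀ i, i < 6613 → P i := stepQ 6612 Q6612 (allL N6612 (tt N5060 F21065) (tt N7815 (iv F24970)) (tt N5083 F21066) (tt N8227 (iv F26433)) (tt N8234 (iv F26459)) (tt N5052 (iv D6705)) (tt N5053 F21067) (tt N6407 (iv F21068)))
theorem Q6614 : ∀ i, i < 6614 → P i := stepQ 6613 Q6613 (allL N6613 (tt N5061 F21069) (tt N8238 (iv F26474)) (tt N5084 F21070) (tt N6613 F21071) (tt N8235 (iv F26464)) (tt N6407 F21072) (tt N5302 F21073) (tt N5052 (iv D6706)))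
theorem Q6615 : ∀ i, i < 6615 → P i := stepQ 6614 Q6614 (allL N6614 (tt N7624 (iv F24433)) (tt N5053 (iv D6707)) (tt N8239 D8332) (tt N8228 (iv F26436)) (tt N8236 (iv F26468)) (tt N8194 (iv F26325)) (tt N7815 (iv F24971)) (tt N6410 F21074))
theorem Q6616 : ∀ i, i < 6616 → P i := stepQ 6615 Q6615 (allL N6615 (tt N8229 (iv F26438)) (tt N6615 F21075) (tt N5057 F21076) (tt N5086 F21077) (tt N6616 (iv F21081)) (tt N8240 D8333) (tt N5055 (iv D6708)) (tt N8241 D8334))
theorem Q6617 : ∀ i, i < 6617 → P i := stepQ 6616 Q6616 (allL N6616 (tt N8231 (iv F26446)) (tt N6616 F21078) (tt N6603 F21079) (tt N5058 F21080) (tt N6615 F21081) (tt N8242 D8335) (tt N5056 (iv D6709)) (tt N8222 (iv F26412)))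
theorem Q6618 : ∀ i, i < 6618 → P i := stepQ 6617 Q6617 (allL N6617 (tt N8232 (iv F26450)) (tt N7841 (iv F25059)) (tt N8240 (iv F26480)) (tt N5059 F21082) (tt N7838 (iv F25051)) (tt N5057 (iv D6710)) (tt N8242 (iv F26494)) (tt N5119 (iv F21083)))
theorem Q6619 : ∀ i, i < 6619 → P i := stepQ 6618 Q6618 (allL N6618 (tt N7561 (iv F24234)) (tt N5064 F21084) (tt N8241 (iv F26486)) (tt N5118 F21085) (tt N6593 F21086) (tt N5119 F21087) (tt N6618 F21088) (tt N5057 (iv D6711)))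
theorem Q6620 : ∀ i, i < 6620 → P i := stepQ 6619 Q6619 (allL N6619 (tt N8234 (iv F26457)) (tt N6191 (iv F21093)) (tt N5089 F21089) (tt N8242 (iv F26492)) (tt N5060 F21090) (tt N5058 (iv D6712)) (tt N5059 F21091) (tt N5116 F21092))
theorem Q6621 : ∀ i, i < 6621 → P i := stepQ 6620 Q6620 (allL N6620 (tt N8235 (iv F26462)) (tt N6620 F21094) (tt N5090 F21095) (tt N5348 (iv F21099)) (tt N5061 F21096) (tt N5116 F21097) (tt N5117 F21098) (tt N5058 (iv D6713)))
theorem Q6622 : ∀ i, i < 6622 → P i := stepQ 6621 Q6621 (allL N6621 (tt N8243 D8336) (tt N5059 (iv D6714)) (tt N6187 F21100) (tt N7841 (iv F25061)) (tt N5062 F21101) (tt N5065 F21102) (tt N6191 F21103) (tt N5087 F21104))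
theorem Q6623 : ∀ i, i < 6623 → P i := stepQ 6622 Q6622 (allL N6622 (tt N7428 (iv F23818)) (tt N5060 (iv D6715)) (tt N5235 F21105) (tt N6629 (iv F21134)) (tt N6191 F21106) (tt N6622 F21107) (tt N5062 F21108) (tt N6249 F21109))
theorem Q6624 : ∀ i, i < 6624 → P i := stepQ 6623 Q6623 (allL N6623 (tt N5062 (iv D6716)) (tt N7624 (iv F24434)) (tt N6602 F21110) (tt N6627 (iv F21124)) (tt N8243 (iv F26498)) (tt N5066 F21111) (tt N7428 (iv F23822)) (tt N6420 F21112))
theorem Q6625 : ∀ i, i < 6625 → P i := stepQ 6624 Q6624 (allL N6624 (tt N5065 (iv D6717)) (tt N8213 (iv F26379)) (tt N8044 (iv F25838)) (tt N7853 (iv F25104)) (tt N5066 F21113) (tt N8243 (iv F26499)) (tt N6624 F21114) (tt N6205 F21115))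
theorem Q6626 : ∀ i, i < 6626 → P i := stepQ 6625 Q6625 (allL N6625 (tt N5067 F21116) (tt N8215 (iv F26386)) (tt N6601 F21117) (tt N6421 F21118) (tt N6205 F21119) (tt N6420 F21120) (tt N7329 (iv F23518)) (tt N5066 (iv D6718)))
theorem Q6627 : ∀ i, i < 6627 → P i := stepQ 6626 Q6626 (allL N6626 (tt N8042 (iv F25831)) (tt N5071 (iv D6719)) (tt N7544 (iv F24192)) (tt N8039 F25825) (tt N7556 (iv F24226)) (tt N8244 D8337) (tt N6626 F21121) (tt N8245 D8338))
theorem Q6628 : ∀ i, i < 6628 → P i := stepQ 6627 Q6627 (allL N6627 (tt N5073 F21122) (tt N8245 (iv F26504)) (tt N5072 F21123) (tt N6623 F21124) (tt N6207 F21125) (tt N5095 F21126) (tt N8246 D8339) (tt N5071 (iv D6720)))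
theorem Q6629 : ∀ i, i < 6629 → P i := stepQ 6628 Q6628 (allL N6628 (tt N5074 F21127) (tt N7547 (iv F24203)) (tt N8246 (iv F26510)) (tt N6417 F21128) (tt N6201 F21129) (tt N6628 F21130) (tt N5072 (iv D6721)) (tt N6628 F21131))
theorem Q6630 : ∀ i, i < 6630 → P i := stepQ 6629 Q6629 (allL N6629 (tt N8246 (iv F26508)) (tt N6604 F21132) (tt N5074 F21133) (tt N6622 F21134) (tt N6202 F21135) (tt N6629 F21136) (tt N5073 (iv D6722)) (tt N6629 F21137))
theorem Q6631 : ∀ i, i < 6631 → P i := stepQ 6630 Q6630 (allL N6630 (tt N5086 F21138) (tt N7242 (iv F23188)) (tt N5077 F21139) (tt N8229 (iv F26440)) (tt N6600 F21140) (tt N8247 D8340) (tt N5075 (iv D6723)) (tt N6630 F21141))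
theorem Q6632 : ∀ i, i < 6632 → P i := stepQ 6631 Q6631 (allL N6631 (tt N5087 F21142) (tt N7240 (iv F23180)) (tt N6599 F21143) (tt N5079 F21144) (tt N6420 F21145) (tt N6205 (iv F21146)) (tt N5076 (iv D6724)) (tt N8243 (iv F26501)))
theorem Q6633 : ∀ i, i < 6633 → P i := stepQ 6632 Q6632 (allL N6632 (tt N5088 F21147) (tt N8248 D8341) (tt N8247 (iv F26516)) (tt N5080 F21148) (tt N7329 (iv F23517)) (tt N5077 (iv D6725)) (tt N6205 F21149) (tt N6632 F21150))
theorem Q6634 : ∀ i, i < 6634 → P i := stepQ 6633 Q6633 (allL N6633 (tt N5103 F21151) (tt N5737 F21152) (tt N5078 (iv D6726)) (tt N5534 (iv F21156)) (tt N5081 F21153) (tt N5619 F21154) (tt N8249 D8342) (tt N5303 F21155))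
theorem Q6635 : ∀ i, i < 6635 → P i := stepQ 6634 Q6634 (allL N6634 (tt N5104 F21157) (tt N5079 F21158) (tt N8249 (iv F26527)) (tt N7240 (iv F23181)) (tt N5082 F21159) (tt N8250 D8343) (tt N5078 (iv D6727)) (tt N8251 D8344))
theorem Q6636 : ∀ i, i < 6636 → P i := stepQ 6635 Q6635 (allL N6635 (tt N5089 F21160) (tt N8252 D8345) (tt N8234 (iv F26458)) (tt N6205 F21161) (tt N5083 F21162) (tt N5079 (iv D6728)) (tt N5080 F21163) (tt N6408 F21164))
theorem Q6637 : ∀ i, i < 6637 → P i := stepQ 6636 Q6636 (allL N6636 (tt N5090 F21165) (tt N8251 (iv F26534)) (tt N8235 (iv F26463)) (tt N8253 D8346) (tt N5084 F21166) (tt N6408 F21167) (tt N5305 F21168) (tt N5079 (iv D6729)))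
theorem Q6638 : ∀ i, i < 6638 → P i := stepQ 6637 Q6637 (allL N6637 (tt N6542 F21169) (tt N5080 (iv D6730)) (tt N8254 D8347) (tt N8248 (iv F26521)) (tt N5085 F21170) (tt N5570 F21171) (tt N8252 (iv F26540)) (tt N5569 F21172))
theorem Q6639 : ∀ i, i < 6639 → P i := stepQ 6638 Q6638 (allL N6638 (tt N5107 F21173) (tt N5738 F21174) (tt N5082 F21175) (tt N5526 F21176) (tt N8249 (iv F26529)) (tt N8255 D8348) (tt N5081 (iv D6731)) (tt N8256 D8349))
theorem Q6640 : ∀ i, i < 6640 → P i := stepQ 6639 Q6639 (allL N6639 (tt N5108 F21177) (tt N8257 D8350) (tt N8255 (iv F26551)) (tt N8047 (iv F25852)) (tt N8250 (iv F26531)) (tt N5082 (iv D6732)) (tt N5622 F21178) (tt N8258 D8351))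
theorem Q6641 : ∀ i, i < 6641 → P i := stepQ 6640 Q6640 (allL N6640 (tt N5109 F21179) (tt N5084 F21180) (tt N8256 (iv F26556)) (tt N6409 (iv F21182)) (tt N8251 (iv F26535)) (tt N8258 (iv F26564)) (tt N5309 F21181) (tt N5082 (iv D6733)))
theorem Q6642 : ∀ i, i < 6642 → P i := stepQ 6641 Q6641 (allL N6641 (tt N6531 F21183) (tt N5083 (iv D6734)) (tt N8259 D8352) (tt N8049 (iv F25861)) (tt N8252 (iv F26539)) (tt N8257 (iv F26558)) (tt N5085 F21184) (tt N6399 F21185))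
theorem Q6643 : ∀ i, i < 6643 → P i := stepQ 6642 Q6642 (allL N6642 (tt N6541 F21186) (tt N8239 (iv F26478)) (tt N5085 (iv D6735)) (tt N8260 D8353) (tt N8254 (iv F26547)) (tt N5568 F21187) (tt N8259 (iv F26567)) (tt N5567 F21188))
theorem Q6644 : ∀ i, i < 6644 → P i := stepQ 6643 Q6643 (allL N6643 (tt N8247 (iv F26515)) (tt N6202 F21193) (tt N5088 F21189) (tt N8240 (iv F26481)) (tt N6604 F21190) (tt N5086 (iv D6736)) (tt N6206 F21191) (tt N6643 F21192))
theorem Q6645 : ∀ i, i < 6645 → P i := stepQ 6644 Q6644 (allL N6644 (tt N8253 (iv F26542)) (tt N5119 F21194) (tt N7846 (iv F25076)) (tt N5090 (iv D6737)) (tt N6419 F21195) (tt N6418 F21196) (tt N5313 F21197) (tt N7841 (iv F25064)))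
theorem Q6646 : ∀ i, i < 6646 → P i := stepQ 6645 Q6645 (allL N6645 (tt N5093 F21198) (tt N5092 (iv D6738)) (tt N5624 F21199) (tt N7481 (iv F23996)) (tt N5999 F21200) (tt N8261 D8354) (tt N5123 F21201) (tt N6564 F21202))
theorem Q6647 : ∀ i, i < 6647 → P i := stepQ 6646 Q6646 (allL N6646 (tt N7481 (iv F23993)) (tt N5094 F21203) (tt N7501 (iv F24059)) (tt N5093 (iv D6739)) (tt N6676 (iv F21311)) (tt N8262 D8355) (tt N5124 F21204) (tt N8045 (iv F25843)))
theorem Q6648 : ∀ i, i < 6648 → P i := stepQ 6647 Q6647 (allL N6647 (tt N8261 (iv F26571)) (tt N8244 (iv F26502)) (tt N5627 F21205) (tt N8262 (iv F26576)) (tt N7198 (iv F23055)) (tt N5093 (iv D6740)) (tt N8263 D8356) (tt N8264 D8357))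
theorem Q6649 : ∀ i, i < 6649 → P i := stepQ 6648 Q6648 (allL N6648 (tt N6564 F21206) (tt N5095 F21207) (tt N5628 F21208) (tt N6586 (iv F21211)) (tt N6217 F21209) (tt N8264 (iv F26582)) (tt N6648 F21210) (tt N5093 (iv D6741)))
theorem Q6650 : ∀ i, i < 6650 → P i := stepQ 6649 Q6649 (allL N6649 (tt N5922 F21212) (tt N7501 (iv F24058)) (tt N5096 (iv D6742)) (tt N5629 F21213) (tt N5921 (iv F21216)) (tt N5438 F21214) (tt N5126 F21215) (tt N8050 (iv F25868)))
theorem Q6651 : ∀ i, i < 6651 → P i := stepQ 6650 Q6650 (allL N6650 (tt N5906 F21217) (tt N5097 F21218) (tt N5921 F21219) (tt N6650 F21220) (tt N5096 (iv D6743)) (tt N5439 F21221) (tt N5127 F21222) (tt N8046 (iv F25848)))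
theorem Q6652 : ∀ i, i < 6652 → P i := stepQ 6651 Q6651 (allL N6651 (tt N5115 F21223) (tt N7256 (iv F23242)) (tt N5318 F21224) (tt N5098 (iv D6744)) (tt N6384 F21225) (tt N6404 F21226) (tt N6227 F21227) (tt N6651 F21228))
theorem Q6653 : ∀ i, i < 6653 → P i := stepQ 6652 Q6652 (allL N6652 (tt N6740 (iv F21519)) (tt N6402 F21229) (tt N5099 (iv D6745)) (tt N8265 D8358) (tt N6401 F21230) (tt N5631 F21231) (tt N8266 D8359) (tt N6736 (iv F21511)))
theorem Q6654 : ∀ i, i < 6654 → P i := stepQ 6653 Q6653 (allL N6653 (tt N7240 (iv F23179)) (tt N5100 F21232) (tt N8266 (iv F26590)) (tt N5104 F21233) (tt N6410 F21234) (tt N8267 D8360) (tt N5099 (iv D6746)) (tt N8236 (iv F26469)))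
theorem Q6655 : ∀ i, i < 6655 → P i := stepQ 6654 Q6654 (allL N6654 (tt N5116 F21235) (tt N7235 F23171) (tt N6408 F21236) (tt N5324 F21237) (tt N6407 F21238) (tt N8235 (iv F26465)) (tt N5101 (iv D6747)) (tt N8234 (iv F26461)))
theorem Q6656 : ∀ i, i < 6656 → P i := stepQ 6655 Q6655 (allL N6655 (tt N5117 F21239) (tt N7245 (iv F23203)) (tt N5305 F21240) (tt N5325 F21241) (tt N5302 F21242) (tt N5102 (iv D6748)) (tt N8235 (iv F26466)) (tt N5298 F21243))
theorem Q6657 : ∀ i, i < 6657 → P i := stepQ 6656 Q6656 (allL N6656 (tt N5534 F21244) (tt N6656 F21245) (tt N8265 (iv F26586)) (tt N5103 (iv D6749)) (tt N5360 F21246) (tt N5633 F21247) (tt N8268 D8361) (tt N8016 (iv F25753)))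
theorem Q6658 : ∀ i, i < 6658 → P i := stepQ 6657 Q6657 (allL N6657 (tt N8249 (iv F26525)) (tt N6657 F21248) (tt N5104 F21249) (tt N8268 (iv F26598)) (tt N5107 F21250) (tt N8269 D8362) (tt N5103 (iv D6750)) (tt N8270 D8363))
theorem Q6659 : ∀ i, i < 6659 → P i := stepQ 6658 Q6658 (allL N6658 (tt N8250 (iv F26530)) (tt N7181 (iv F23009)) (tt N8269 (iv F26600)) (tt N8267 (iv F26593)) (tt N5108 F21251) (tt N5104 (iv D6751)) (tt N5635 F21252) (tt N8271 D8364))
theorem Q6660 : ∀ i, i < 6660 → P i := stepQ 6659 Q6659 (allL N6659 (tt N8251 (iv F26533)) (tt N5105 F21253) (tt N8270 (iv F26604)) (tt N8272 D8365) (tt N5109 F21254) (tt N8271 (iv F26608)) (tt N5329 F21255) (tt N5104 (iv D6752)))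
theorem Q6661 : ∀ i, i < 6661 → P i := stepQ 6660 Q6660 (allL N6660 (tt N5119 F21256) (tt N8272 (iv F26609)) (tt N8273 D8366) (tt N5105 (iv D6753)) (tt N8274 D8367) (tt N7561 (iv F24235)) (tt N5330 F21257) (tt N8232 (iv F26452)))
theorem Q6662 : ∀ i, i < 6662 → P i := stepQ 6661 Q6661 (allL N6661 (tt N5526 F21258) (tt N6661 F21259) (tt N5364 F21260) (tt N5107 F21261) (tt N5361 F21262) (tt N8275 D8368) (tt N5106 (iv D6754)) (tt N7209 (iv F23093)))
theorem Q6663 : ∀ i, i < 6663 → P i := stepQ 6662 Q6662 (allL N6662 (tt N8255 (iv F26550)) (tt N8276 D8369) (tt N5108 F21263) (tt N8275 (iv F26620)) (tt N8269 (iv F26601)) (tt N5107 (iv D6755)) (tt N5639 F21264) (tt N8277 D8370))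
theorem Q6664 : ∀ i, i < 6664 → P i := stepQ 6663 Q6663 (allL N6663 (tt N8256 (iv F26554)) (tt N6663 F21265) (tt N5109 F21266) (tt N8278 D8371) (tt N8270 (iv F26605)) (tt N8277 (iv F26626)) (tt N5335 F21267) (tt N5107 (iv D6756)))
theorem Q6665 : ∀ i, i < 6665 → P i := stepQ 6664 Q6664 (allL N6664 (tt N8279 D8372) (tt N5108 (iv D6757)) (tt N8280 D8373) (tt N6495 F21268) (tt N7181 (iv F23010)) (tt N5110 F21269) (tt N5641 F21270) (tt N8281 D8374))
theorem Q6666 : ∀ i, i < 6666 → P i := stepQ 6665 Q6665 (allL N6665 (tt N8258 (iv F26562)) (tt N8281 (iv F26639)) (tt N8277 (iv F26625)) (tt N8282 D8375) (tt N8271 (iv F26607)) (tt N5109 F21271) (tt N8283 D8376) (tt N5108 (iv D6758)))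
theorem Q6667 : ∀ i, i < 6667 → P i := stepQ 6666 Q6666 (allL N6666 (tt N6409 F21272) (tt N5112 F21273) (tt N8284 D8377) (tt N5109 (iv D6759)) (tt N8285 D8378) (tt N8282 (iv F26644)) (tt N5337 F21274) (tt N8052 (iv F25875)))
theorem Q6668 : ∀ i, i < 6668 → P i := stepQ 6667 Q6667 (allL N6667 (tt N5110 (iv D6760)) (tt N5120 F21275) (tt N7437 (iv F23851)) (tt N6492 F21276) (tt N6004 F21277) (tt N8279 (iv F26632)) (tt N5113 F21278) (tt N6551 (iv F21279)))
theorem Q6669 : ∀ i, i < 6669 → P i := stepQ 6668 Q6668 (allL N6668 (tt N7437 (iv F23849)) (tt N6668 F21280) (tt N5110 (iv D6761)) (tt N7434 (iv F23843)) (tt N6675 (iv F21307)) (tt N8280 (iv F26636)) (tt N5114 F21281) (tt N8286 D8379))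
theorem Q6670 : ∀ i, i < 6670 → P i := stepQ 6669 Q6669 (allL N6669 (tt N6551 F21282) (tt N5111 F21283) (tt N8286 (iv F26654)) (tt N6552 (iv F21285)) (tt N7200 (iv F23059)) (tt N8281 (iv F26640)) (tt N6669 F21284) (tt N5110 (iv D6762)))
theorem Q6671 : ∀ i, i < 6671 → P i := stepQ 6670 Q6670 (allL N6670 (tt N5121 F21286) (tt N8287 D8380) (tt N5112 (iv D6763)) (tt N6670 F21287) (tt N8288 D8381) (tt N6597 F21288) (tt N5338 F21289) (tt N6215 F21290))
theorem Q6672 : ∀ i, i < 6672 → P i := stepQ 6671 Q6671 (allL N6671 (tt N5122 F21291) (tt N8285 (iv F26650)) (tt N8288 (iv F26661)) (tt N8274 (iv F26615)) (tt N5112 (iv D6764)) (tt N6594 F21292) (tt N5339 F21293) (tt N7820 (iv F24989)))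
theorem Q6673 : ∀ i, i < 6673 → P i := stepQ 6672 Q6672 (allL N6672 (tt N8273 (iv F26611)) (tt N7878 (iv F25190)) (tt N5119 (iv D6765)) (tt N6672 F21294) (tt N6896 (iv F22138)) (tt N8241 (iv F26489)) (tt N5349 F21295) (tt N8240 (iv F26484)))
theorem Q6674 : ∀ i, i < 6674 → P i := stepQ 6673 Q6673 (allL N6673 (tt N8274 (iv F26614)) (tt N6419 F21296) (tt N6896 (iv F22136)) (tt N5122 F21297) (tt N5119 (iv D6766)) (tt N6593 F21298) (tt N5350 F21299) (tt N7838 (iv F25053)))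
theorem Q6675 : ∀ i, i < 6675 → P i := stepQ 6674 Q6674 (allL N6674 (tt N8288 (iv F26660)) (tt N6674 F21300) (tt N5122 F21301) (tt N6892 (iv F22120)) (tt N5121 (iv D6767)) (tt N6595 F21302) (tt N5351 F21303) (tt N6216 F21304))
theorem Q6676 : ∀ i, i < 6676 → P i := stepQ 6675 Q6675 (allL N6675 (tt N7446 (iv F23874)) (tt N6675 F21305) (tt N5646 F21306) (tt N7479 (iv F23987)) (tt N6668 F21307) (tt N8263 (iv F26578)) (tt N5125 (iv D6768)) (tt N8289 D8382))
theorem Q6677 : ∀ i, i < 6677 → P i := stepQ 6676 Q6676 (allL N6676 (tt N6447 F21308) (tt N5130 F21309) (tt N7509 (iv F24079)) (tt N5135 F21310) (tt N6646 F21311) (tt N8290 D8383) (tt N5129 (iv D6769)) (tt N8049 (iv F25864)))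
theorem Q6678 : ∀ i, i < 6678 → P i := stepQ 6677 Q6677 (allL N6677 (tt N6441 F21312) (tt N7539 (iv F24175)) (tt N5133 F21313) (tt N5657 F21314) (tt N7073 (iv F22724)) (tt N5554 F21315) (tt N5131 (iv D6770)) (tt N8291 D8384))
theorem Q6679 : ∀ i, i < 6679 → P i := stepQ 6678 Q6678 (allL N6678 (tt N6444 F21316) (tt N6678 F21317) (tt N5135 F21318) (tt N7514 (iv F24092)) (tt N7062 (iv F22691)) (tt N8292 D8385) (tt N5132 (iv D6771)) (tt N6392 F21319))
theorem Q6680 : ∀ i, i < 6680 → P i := stepQ 6679 Q6679 (allL N6679 (tt N6445 F21320) (tt N6679 F21321) (tt N8291 (iv F26673)) (tt N5430 F21322) (tt N7433 (iv F23839)) (tt N5541 F21323) (tt N8293 D8386) (tt N5133 (iv D6772)))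
theorem Q6681 : ∀ i, i < 6681 → P i := stepQ 6680 Q6680 (allL N6680 (tt N6446 F21324) (tt N6680 F21325) (tt N7534 (iv F24160)) (tt N7532 (iv F24151)) (tt N7434 (iv F23844)) (tt N8294 D8387) (tt N5134 (iv D6773)) (tt N8293 (iv F26681)))
theorem Q6682 : ∀ i, i < 6682 → P i := stepQ 6681 Q6681 (allL N6681 (tt N6448 F21326) (tt N8295 D8388) (tt N8292 (iv F26676)) (tt N8290 (iv F26670)) (tt N7583 (iv F24331)) (tt N5135 (iv D6774)) (tt N8294 (iv F26683)) (tt N6400 F21327))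
theorem Q6683 : ∀ i, i < 6683 → P i := stepQ 6682 Q6682 (allL N6682 (tt N8052 (iv F25872)) (tt N5136 (iv D6775)) (tt N8296 D8389) (tt N8048 (iv F25858)) (tt N7819 (iv F24984)) (tt N8295 (iv F26684)) (tt N6682 F21328) (tt N6409 F21329))
theorem Q6684 : ∀ i, i < 6684 → P i := stepQ 6683 Q6683 (allL N6683 (tt N6354 F21330) (tt N6683 F21331) (tt N5137 (iv D6776)) (tt N8297 D8390) (tt N6683 F21332) (tt N6683 F21333) (tt N8298 D8391) (tt N6683 F21334))
theorem Q6685 : ∀ i, i < 6685 → P i := stepQ 6684 Q6684 (allL N6684 (tt N6355 F21335) (tt N5138 F21336) (tt N8298 (iv F26695)) (tt N5162 F21337) (tt N6684 F21338) (tt N8299 D8392) (tt N5137 (iv D6777)) (tt N6813 (iv F21837)))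
theorem Q6686 : ∀ i, i < 6686 → P i := stepQ 6685 Q6685 (allL N6685 (tt N5140 F21339) (tt N5148 F21340) (tt N6685 F21341) (tt N8300 D8393) (tt N5139 (iv D6778)) (tt N8301 D8394) (tt N6693 (iv F21371)) (tt N6436 F21342))
theorem Q6687 : ∀ i, i < 6687 → P i := stepQ 6686 Q6686 (allL N6686 (tt N5141 F21343) (tt N8015 F25748) (tt N6686 F21344) (tt N6175 F21345) (tt N8301 (iv F26708)) (tt N5139 (iv D6779)) (tt N8302 D8395) (tt N6923 (iv F22234)))
theorem Q6688 : ∀ i, i < 6688 → P i := stepQ 6687 Q6687 (allL N6687 (tt N5142 F21346) (tt N5150 F21347) (tt N6687 F21348) (tt N5185 F21349) (tt N6693 (iv F21370)) (tt N8303 D8396) (tt N5139 (iv D6780)) (tt N6690 (iv F21361)))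
theorem Q6689 : ∀ i, i < 6689 → P i := stepQ 6688 Q6688 (allL N6688 (tt N8300 (iv F26702)) (tt N5143 F21350) (tt N7910 (iv F25309)) (tt N5140 (iv D6781)) (tt N5183 F21351) (tt N8304 D8397) (tt N5181 (iv F21352)) (tt N8305 D8398))
theorem Q6690 : ∀ i, i < 6690 → P i := stepQ 6689 Q6689 (allL N6689 (tt N8301 (iv F26706)) (tt N5188 F21353) (tt N6689 F21354) (tt N8304 (iv F26717)) (tt N5141 F21355) (tt N5140 (iv D6782)) (tt N8306 D8399) (tt N6539 F21356))
theorem Q6691 : ∀ i, i < 6691 → P i := stepQ 6690 Q6690 (allL N6690 (tt N6693 (iv F21367)) (tt N5144 F21357) (tt N6690 F21358) (tt N5181 F21359) (tt N5142 F21360) (tt N8307 D8400) (tt N5140 (iv D6783)) (tt N6687 F21361))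
theorem Q6692 : ∀ i, i < 6692 → P i := stepQ 6691 Q6691 (allL N6691 (tt N8302 (iv F26710)) (tt N5189 F21362) (tt N6691 F21363) (tt N6176 F21364) (tt N8306 (iv F26726)) (tt N8308 D8401) (tt N5141 (iv D6784)) (tt N8309 D8402))
theorem Q6693 : ∀ i, i < 6693 → P i := stepQ 6692 Q6692 (allL N6692 (tt N8303 (iv F26713)) (tt N8304 (iv F26716)) (tt N6692 F21365) (tt N5188 F21366) (tt N8307 (iv F26730)) (tt N5142 (iv D6785)) (tt N8308 (iv F26734)) (tt N8310 D8403))
theorem Q6694 : ∀ i, i < 6694 → P i := stepQ 6693 Q6693 (allL N6693 (tt N6690 F21367) (tt N5145 F21368) (tt N6693 F21369) (tt N6728 (iv F21492)) (tt N6687 F21370) (tt N8310 (iv F26742)) (tt N6685 F21371) (tt N5142 (iv D6786)))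
theorem Q6695 : ∀ i, i < 6695 → P i := stepQ 6694 Q6694 (allL N6694 (tt N5154 F21372) (tt N8305 (iv F26720)) (tt N5147 F21373) (tt N6745 (iv F21541)) (tt N5184 F21374) (tt N5145 F21375) (tt N8311 D8404) (tt N5143 (iv D6787)))
theorem Q6696 : ∀ i, i < 6696 → P i := stepQ 6695 Q6695 (allL N6695 (tt N6695 F21376) (tt N5147 F21377) (tt N7949 (iv F25454)) (tt N6695 F21378) (tt N5172 F21379) (tt N6695 F21380) (tt N8312 D8405) (tt N5146 (iv D6788)))
theorem Q6697 : ∀ i, i < 6697 → P i := stepQ 6696 Q6696 (allL N6696 (tt N5155 F21381) (tt N8312 (iv F26748)) (tt N8311 (iv F26744)) (tt N6696 F21382) (tt N5178 F21383) (tt N6703 (iv F21410)) (tt N5147 (iv D6789)) (tt N5176 F21384))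
theorem Q6698 : ∀ i, i < 6698 → P i := stepQ 6697 Q6697 (allL N6697 (tt N5151 F21385) (tt N8300 (iv F26703)) (tt N6697 F21386) (tt N5148 (iv D6790)) (tt N5203 F21387) (tt N6748 (iv F21555)) (tt N5201 F21388) (tt N6747 (iv F21550)))
theorem Q6699 : ∀ i, i < 6699 → P i := stepQ 6698 Q6698 (allL N6698 (tt N5152 F21389) (tt N8313 D8406) (tt N5156 F21390) (tt N6748 (iv F21553)) (tt N5149 F21391) (tt N5148 (iv D6791)) (tt N8314 D8407) (tt N6438 F21392))
theorem Q6700 : ∀ i, i < 6700 → P i := stepQ 6699 Q6699 (allL N6699 (tt N5209 F21393) (tt N5149 (iv D6792)) (tt N8013 (iv F25738)) (tt N6349 F21394) (tt N8313 (iv F26754)) (tt N8015 (iv F25746)) (tt N8315 D8408) (tt N8053 (iv F25881)))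
theorem Q6701 : ∀ i, i < 6701 → P i := stepQ 6700 Q6700 (allL N6700 (tt N5153 F21395) (tt N8315 (iv F26762)) (tt N5158 F21396) (tt N6350 F21397) (tt N8314 (iv F26758)) (tt N6724 (iv F21476)) (tt N5149 (iv D6793)) (tt N6723 F21473))
theorem Q6702 : ∀ i, i < 6702 → P i := stepQ 6701 Q6701 (allL N6701 (tt N8314 (iv F26756)) (tt N5213 F21398) (tt N5159 F21399) (tt N6743 (iv F21531)) (tt N5153 F21400) (tt N6702 (iv F21405)) (tt N5152 (iv D6794)) (tt N6490 F21401))
theorem Q6703 : ∀ i, i < 6703 → P i := stepQ 6702 Q6702 (allL N6702 (tt N8311 (iv F26743)) (tt N6489 F21402) (tt N5155 F21403) (tt N6749 (iv F21558)) (tt N5198 F21404) (tt N6701 F21405) (tt N5154 (iv D6795)) (tt N5196 F21406))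
theorem Q6704 : ∀ i, i < 6704 → P i := stepQ 6703 Q6703 (allL N6703 (tt N5159 F21407) (tt N7530 (iv F24141)) (tt N8314 (iv F26757)) (tt N6703 F21408) (tt N5158 F21409) (tt N6696 F21410) (tt N5156 (iv D6796)) (tt N6478 F21411))
theorem Q6705 : ∀ i, i < 6705 → P i := stepQ 6704 Q6704 (allL N6704 (tt N5161 F21412) (tt N8013 (iv F25737)) (tt N5157 (iv D6797)) (tt N8012 (iv F25733)) (tt N5954 F21413) (tt N6704 F21414) (tt N8316 D8409) (tt N5952 F21415))
theorem Q6706 : ∀ i, i < 6706 → P i := stepQ 6705 Q6705 (allL N6705 (tt N5162 F21416) (tt N5158 F21417) (tt N8316 (iv F26765)) (tt N6355 F21418) (tt N7530 (iv F24143)) (tt N8317 D8410) (tt N5157 (iv D6798)) (tt N6725 (iv F21481)))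
theorem Q6707 : ∀ i, i < 6707 → P i := stepQ 6706 Q6706 (allL N6706 (tt N8012 (iv F25730)) (tt N5230 F21419) (tt N8297 (iv F26691)) (tt N5161 (iv D6799)) (tt N8318 D8411) (tt N6706 F21420) (tt N8319 D8412) (tt N8011 F25729))
theorem Q6708 : ∀ i, i < 6708 → P i := stepQ 6707 Q6707 (allL N6707 (tt N8316 (iv F26764)) (tt N5231 F21421) (tt N5162 F21422) (tt N8319 (iv F26776)) (tt N7529 (iv F24139)) (tt N8320 D8413) (tt N5161 (iv D6800)) (tt N8321 D8414))
theorem Q6709 : ∀ i, i < 6709 → P i := stepQ 6708 Q6708 (allL N6708 (tt N8317 (iv F26767)) (tt N6708 F21423) (tt N8320 (iv F26777)) (tt N8299 (iv F26699)) (tt N7531 (iv F24146)) (tt N5162 (iv D6801)) (tt N6708 F21424) (tt N8322 D8415))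
theorem Q6710 : ∀ i, i < 6710 → P i := stepQ 6709 Q6709 (allL N6709 (tt N6725 (iv F21478)) (tt N5163 F21425) (tt N8321 (iv F26780)) (tt N6726 (iv F21483)) (tt N7172 (iv F22985)) (tt N8322 (iv F26783)) (tt N7171 (iv F22982)) (tt N5162 (iv D6802)))
theorem Q6711 : ∀ i, i < 6711 → P i := stepQ 6710 Q6710 (allL N6710 (tt N6710 F21426) (tt N7358 F23591) (tt N8188 (iv F26304)) (tt N5741 F21427) (tt N5164 (iv D6803)) (tt N5737 F21428) (tt N7311 (iv F23469)) (tt N5674 F21429))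
theorem Q6712 : ∀ i, i < 6712 → P i := stepQ 6711 Q6711 (allL N6711 (tt N6711 F21430) (tt N8056 (iv F25892)) (tt N8191 (iv F26317)) (tt N5165 F21431) (tt N7311 (iv F23467)) (tt N7309 (iv F23462)) (tt N5164 (iv D6804)) (tt N7308 F23458))
theorem Q6713 : ∀ i, i < 6713 → P i := stepQ 6712 Q6712 (allL N6712 (tt N6712 F21432) (tt N8323 D8416) (tt N5169 F21433) (tt N7309 (iv F23460)) (tt N5743 F21434) (tt N5165 (iv D6805)) (tt N5739 F21435) (tt N5249 F21436))
theorem Q6714 : ∀ i, i < 6714 → P i := stepQ 6713 Q6713 (allL N6713 (tt N6713 F21437) (tt N8173 (iv F26263)) (tt N5167 F21438) (tt N8324 D8417) (tt N5166 (iv D6806)) (tt N5688 F21439) (tt N8325 D8418) (tt N5171 F21440))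
theorem Q6715 : ∀ i, i < 6715 → P i := stepQ 6714 Q6714 (allL N6714 (tt N6714 F21441) (tt N8175 (iv F26271)) (tt N5168 F21442) (tt N8191 (iv F26318)) (tt N8325 (iv F26795)) (tt N8326 D8419) (tt N5166 (iv D6807)) (tt N7950 (iv F25460)))
theorem Q6716 : ∀ i, i < 6716 → P i := stepQ 6715 Q6715 (allL N6715 (tt N6715 F21443) (tt N5176 F21444) (tt N8325 (iv F26794)) (tt N5288 F21445) (tt N5168 F21446) (tt N8327 D8420) (tt N5167 (iv D6808)) (tt N8312 (iv F26751)))
theorem Q6717 : ∀ i, i < 6717 → P i := stepQ 6716 Q6716 (allL N6716 (tt N6716 F21447) (tt N8328 D8421) (tt N8326 (iv F26797)) (tt N5169 F21448) (tt N8327 (iv F26801)) (tt N5168 (iv D6809)) (tt N5751 F21449) (tt N8329 D8422))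
theorem Q6718 : ∀ i, i < 6718 → P i := stepQ 6717 Q6717 (allL N6717 (tt N6717 F21450) (tt N5178 F21451) (tt N7950 (iv F25458)) (tt N5259 F21452) (tt N8312 (iv F26750)) (tt N8329 (iv F26811)) (tt N5172 F21453) (tt N5168 (iv D6810)))
theorem Q6719 : ∀ i, i < 6719 → P i := stepQ 6718 Q6718 (allL N6718 (tt N7808 (iv F24941)) (tt N5169 (iv D6811)) (tt N8330 D8423) (tt N8328 (iv F26803)) (tt N5755 F21454) (tt N5179 F21455) (tt N5752 F21456) (tt N5260 F21457))
theorem Q6720 : ∀ i, i < 6720 → P i := stepQ 6719 Q6719 (allL N6719 (tt N8167 (iv F26244)) (tt N5171 F21458) (tt N5181 F21459) (tt N6719 F21460) (tt N5170 (iv D6812)) (tt N7876 (iv F25182)) (tt N7910 (iv F25311)) (tt N8173 (iv F26266)))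
theorem Q6721 : ∀ i, i < 6721 → P i := stepQ 6720 Q6720 (allL N6720 (tt N6465 F21461) (tt N5174 F21462) (tt N8173 (iv F26264)) (tt N6462 F21463) (tt N5173 (iv D6813)) (tt N8154 (iv F26204)) (tt N8331 D8424) (tt N5181 F21464))
theorem Q6722 : ∀ i, i < 6722 → P i := stepQ 6721 Q6721 (allL N6721 (tt N8157 (iv F26214)) (tt N5175 F21465) (tt N8175 (iv F26272)) (tt N8063 (iv F25915)) (tt N8331 (iv F26820)) (tt N8332 D8425) (tt N5173 (iv D6814)) (tt N8333 D8426))
theorem Q6723 : ∀ i, i < 6723 → P i := stepQ 6722 Q6722 (allL N6722 (tt N5196 F21466) (tt N8331 (iv F26818)) (tt N5176 F21467) (tt N6485 F21468) (tt N5175 F21469) (tt N8090 (iv F26009)) (tt N5174 (iv D6815)) (tt N8311 (iv F26746)))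
theorem Q6724 : ∀ i, i < 6724 → P i := stepQ 6723 Q6723 (allL N6723 (tt N5197 F21470) (tt N8334 D8427) (tt N5177 F21471) (tt N7829 (iv F25020)) (tt N8090 (iv F26008)) (tt N5175 (iv D6816)) (tt N6016 F21472) (tt N6700 (iv F21473)))
theorem Q6725 : ∀ i, i < 6725 → P i := stepQ 6724 Q6724 (allL N6724 (tt N5198 F21474) (tt N8333 (iv F26821)) (tt N5178 F21475) (tt N6751 (iv F21567)) (tt N8311 (iv F26745)) (tt N6700 F21476) (tt N5184 F21477) (tt N5175 (iv D6817)))
theorem Q6726 : ∀ i, i < 6726 → P i := stepQ 6725 Q6725 (allL N6725 (tt N6709 F21478) (tt N5177 (iv D6818)) (tt N8335 D8428) (tt N5179 F21479) (tt N8091 (iv F26013)) (tt N8328 (iv F26804)) (tt N6017 F21480) (tt N6705 F21481))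
theorem Q6727 : ∀ i, i < 6727 → P i := stepQ 6726 Q6726 (allL N6726 (tt N5179 (iv D6819)) (tt N5199 F21482) (tt N8336 D8429) (tt N6709 F21483) (tt N6022 F21484) (tt N7808 (iv F24944)) (tt N6018 F21485) (tt N5271 F21486))
theorem Q6728 : ∀ i, i < 6728 → P i := stepQ 6727 Q6727 (allL N6727 (tt N8336 (iv F26828)) (tt N8067 (iv F25929)) (tt N5179 (iv D6820)) (tt N8337 D8430) (tt N6023 F21487) (tt N8330 (iv F26814)) (tt N6019 F21488) (tt N5272 F21489))
theorem Q6729 : ∀ i, i < 6729 → P i := stepQ 6728 Q6728 (allL N6728 (tt N5181 F21490) (tt N5201 F21491) (tt N8167 (iv F26246)) (tt N6693 F21492) (tt N5180 (iv D6821)) (tt N8143 (iv F26183)) (tt N8300 (iv F26705)) (tt N6465 F21493))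
theorem Q6730 : ∀ i, i < 6730 → P i := stepQ 6729 Q6729 (allL N6729 (tt N5183 F21494) (tt N5203 F21495) (tt N7391 (iv F23701)) (tt N5187 F21496) (tt N8300 (iv F26704)) (tt N8338 D8431) (tt N5180 (iv D6822)) (tt N8339 D8432))
theorem Q6731 : ∀ i, i < 6731 → P i := stepQ 6730 Q6730 (allL N6730 (tt N8143 (iv F26180)) (tt N5190 F21497) (tt N7876 (iv F25179)) (tt N8307 (iv F26729)) (tt N5182 F21498) (tt N5181 (iv D6823)) (tt N8340 D8433) (tt N8154 (iv F26205)))
theorem Q6732 : ∀ i, i < 6732 → P i := stepQ 6731 Q6731 (allL N6731 (tt N8144 (iv F26185)) (tt N6176 F21499) (tt N8166 (iv F26242)) (tt N5189 F21500) (tt N8340 (iv F26839)) (tt N8341 D8434) (tt N5182 (iv D6824)) (tt N8342 D8435))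
theorem Q6733 : ∀ i, i < 6733 → P i := stepQ 6732 Q6732 (allL N6732 (tt N8338 (iv F26833)) (tt N8307 (iv F26727)) (tt N7874 (iv F25171)) (tt N5190 F21501) (tt N8304 (iv F26718)) (tt N5183 (iv D6825)) (tt N8341 (iv F26841)) (tt N8343 D8436))
theorem Q6734 : ∀ i, i < 6734 → P i := stepQ 6733 Q6733 (allL N6733 (tt N8339 (iv F26835)) (tt N5184 F21502) (tt N7908 F25306) (tt N6750 (iv F21562)) (tt N8305 (iv F26722)) (tt N8343 (iv F26846)) (tt N8333 (iv F26822)) (tt N5183 (iv D6826)))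
theorem Q6735 : ∀ i, i < 6735 → P i := stepQ 6734 Q6734 (allL N6734 (tt N5188 F21503) (tt N8119 (iv F26116)) (tt N5681 F21504) (tt N8303 (iv F26715)) (tt N5186 F21505) (tt N5185 (iv D6827)) (tt N8344 D8437) (tt N8073 (iv F25953)))
theorem Q6736 : ∀ i, i < 6736 → P i := stepQ 6735 Q6735 (allL N6735 (tt N5189 F21506) (tt N8120 (iv F26120)) (tt N5682 F21507) (tt N8144 (iv F26188)) (tt N8344 (iv F26849)) (tt N8345 D8438) (tt N5186 (iv D6828)) (tt N8346 D8439))
theorem Q6737 : ∀ i, i < 6737 → P i := stepQ 6736 Q6736 (allL N6736 (tt N5190 F21508) (tt N8026 (iv F25780)) (tt N5683 F21509) (tt N8338 (iv F26834)) (tt N6175 F21510) (tt N5187 (iv D6829)) (tt N8345 (iv F26854)) (tt N6652 F21511))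
theorem Q6738 : ∀ i, i < 6738 → P i := stepQ 6737 Q6737 (allL N6737 (tt N8344 (iv F26847)) (tt N8306 (iv F26724)) (tt N5684 F21512) (tt N8308 (iv F26733)) (tt N5189 F21513) (tt N6176 F21514) (tt N5188 (iv D6830)) (tt N8347 D8440))
theorem Q6739 : ∀ i, i < 6739 → P i := stepQ 6738 Q6738 (allL N6738 (tt N8345 (iv F26851)) (tt N8340 (iv F26838)) (tt N5685 F21515) (tt N8341 (iv F26840)) (tt N6176 F21516) (tt N5189 (iv D6831)) (tt N5190 F21517) (tt N8348 D8441))
theorem Q6740 : ∀ i, i < 6740 → P i := stepQ 6739 Q6739 (allL N6739 (tt N8346 (iv F26855)) (tt N8309 (iv F26735)) (tt N5686 F21518) (tt N8349 D8442) (tt N8347 (iv F26858)) (tt N8348 (iv F26862)) (tt N8081 (iv F25975)) (tt N5189 (iv D6832)))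
theorem Q6741 : ∀ i, i < 6741 → P i := stepQ 6740 Q6740 (allL N6740 (tt N6652 F21519) (tt N8154 (iv F26201)) (tt N5687 F21520) (tt N7081 (iv F22740)) (tt N6014 F21521) (tt N5191 F21522) (tt N8350 D8443) (tt N5190 (iv D6833)))
theorem Q6742 : ∀ i, i < 6742 → P i := stepQ 6741 Q6741 (allL N6741 (tt N7183 (iv F23014)) (tt N5192 F21523) (tt N7078 (iv F22733)) (tt N5191 (iv D6834)) (tt N6486 F21524) (tt N7081 (iv F22741)) (tt N8084 (iv F25982)) (tt N6750 (iv F21564)))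
theorem Q6743 : ∀ i, i < 6743 → P i := stepQ 6742 Q6742 (allL N6742 (tt N5195 F21525) (tt N8157 (iv F26215)) (tt N6742 F21526) (tt N6458 F21527) (tt N6471 F21528) (tt N7818 (iv F24982)) (tt N5193 (iv D6835)) (tt N8351 D8444))
theorem Q6744 : ∀ i, i < 6744 → P i := stepQ 6743 Q6743 (allL N6743 (tt N8351 (iv F26866)) (tt N5198 F21529) (tt N6743 F21530) (tt N6701 F21531) (tt N6489 F21532) (tt N6749 (iv F21560)) (tt N5207 F21533) (tt N5195 (iv D6836)))
theorem Q6745 : ∀ i, i < 6745 → P i := stepQ 6744 Q6744 (allL N6744 (tt N5200 F21534) (tt N8352 D8445) (tt N5199 (iv D6837)) (tt N6777 (iv F21649)) (tt N6203 F21535) (tt N6744 F21536) (tt N6199 F21537) (tt N5294 F21538))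
theorem Q6746 : ∀ i, i < 6746 → P i := stepQ 6745 Q6745 (allL N6745 (tt N5204 F21539) (tt N8138 (iv F26165)) (tt N6745 F21540) (tt N6694 F21541) (tt N5202 F21542) (tt N5201 (iv D6838)) (tt N8353 D8446) (tt N6437 F21543))
theorem Q6747 : ∀ i, i < 6747 → P i := stepQ 6746 Q6746 (allL N6746 (tt N5205 F21544) (tt N8139 (iv F26170)) (tt N6746 F21545) (tt N5210 F21546) (tt N8353 (iv F26877)) (tt N8086 (iv F25992)) (tt N5202 (iv D6839)) (tt N8085 F25988))
theorem Q6748 : ∀ i, i < 6748 → P i := stepQ 6747 Q6747 (allL N6747 (tt N5206 F21547) (tt N8354 D8447) (tt N6747 F21548) (tt N5211 F21549) (tt N6748 (iv F21554)) (tt N5203 (iv D6840)) (tt N8086 (iv F25993)) (tt N6697 F21550))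
theorem Q6749 : ∀ i, i < 6749 → P i := stepQ 6748 Q6748 (allL N6748 (tt N5207 F21551) (tt N8339 (iv F26836)) (tt N6748 F21552) (tt N6698 F21553) (tt N6747 F21554) (tt N6697 F21555) (tt N8351 (iv F26870)) (tt N5203 (iv D6841)))
theorem Q6750 : ∀ i, i < 6750 → P i := stepQ 6749 Q6749 (allL N6749 (tt N8353 (iv F26874)) (tt N5214 F21556) (tt N6749 F21557) (tt N6702 F21558) (tt N5205 F21559) (tt N6743 F21560) (tt N5204 (iv D6842)) (tt N6183 F21561))
theorem Q6751 : ∀ i, i < 6751 → P i := stepQ 6750 Q6750 (allL N6750 (tt N8313 (iv F26752)) (tt N5208 (iv D6843)) (tt N8116 (iv F26107)) (tt N6733 F21562) (tt N5209 F21563) (tt N8119 (iv F26118)) (tt N8355 D8448) (tt N6741 F21564))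
theorem Q6752 : ∀ i, i < 6752 → P i := stepQ 6751 Q6751 (allL N6751 (tt N5213 F21565) (tt N8355 (iv F26884)) (tt N5217 F21566) (tt N6724 F21567) (tt N5210 F21568) (tt N6350 F21569) (tt N5208 (iv D6844)) (tt N8356 D8449))
theorem Q6753 : ∀ i, i < 6753 → P i := stepQ 6752 Q6752 (allL N6752 (tt N8315 (iv F26761)) (tt N5210 F21570) (tt N8117 (iv F26112)) (tt N8139 (iv F26172)) (tt N8355 (iv F26886)) (tt N8357 D8450) (tt N5209 (iv D6845)) (tt N8358 D8451))
theorem Q6754 : ∀ i, i < 6754 → P i := stepQ 6753 Q6753 (allL N6753 (tt N5214 F21571) (tt N8359 D8452) (tt N5220 F21572) (tt N8086 (iv F25991)) (tt N6350 F21573) (tt N5210 (iv D6846)) (tt N5211 F21574) (tt N5995 (iv F21575)))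
theorem Q6755 : ∀ i, i < 6755 → P i := stepQ 6754 Q6754 (allL N6754 (tt N5215 F21576) (tt N8358 (iv F26894)) (tt N5221 F21577) (tt N6016 (iv F21579)) (tt N8356 (iv F26890)) (tt N5995 F21578) (tt N7829 (iv F25022)) (tt N5210 (iv D6847)))
theorem Q6756 : ∀ i, i < 6756 → P i := stepQ 6755 Q6755 (allL N6755 (tt N8138 (iv F26164)) (tt N5211 (iv D6848)) (tt N7115 (iv F22829)) (tt N8354 (iv F26881)) (tt N6349 F21580) (tt N8026 (iv F25782)) (tt N8359 (iv F26897)) (tt N7114 F22826))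
theorem Q6757 : ∀ i, i < 6757 → P i := stepQ 6756 Q6756 (allL N6756 (tt N8356 (iv F26887)) (tt N6490 F21581) (tt N5223 F21582) (tt N6479 F21583) (tt N5215 F21584) (tt N6184 F21585) (tt N6482 F21586) (tt N5213 (iv D6849)))
theorem Q6758 : ∀ i, i < 6758 → P i := stepQ 6757 Q6757 (allL N6757 (tt N5227 F21587) (tt N8116 (iv F26106)) (tt N5216 (iv D6850)) (tt N8360 D8453) (tt N5218 F21588) (tt N5694 F21589) (tt N8361 D8454) (tt N6825 (iv F21872)))
theorem Q6759 : ∀ i, i < 6759 → P i := stepQ 6758 Q6758 (allL N6758 (tt N5228 F21590) (tt N5217 F21591) (tt N8361 (iv F26905)) (tt N6360 F21592) (tt N5219 F21593) (tt N8362 D8455) (tt N5216 (iv D6851)) (tt N8363 D8456))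
theorem Q6760 : ∀ i, i < 6760 → P i := stepQ 6759 Q6759 (allL N6759 (tt N5223 F21594) (tt N8363 (iv F26913)) (tt N8356 (iv F26888)) (tt N6007 F21595) (tt N5221 F21596) (tt N5996 F21597) (tt N6565 F21598) (tt N5217 (iv D6852)))
theorem Q6761 : ∀ i, i < 6761 → P i := stepQ 6760 Q6760 (allL N6760 (tt N5231 F21599) (tt N8117 (iv F26111)) (tt N5219 F21600) (tt N8113 (iv F26101)) (tt N8361 (iv F26906)) (tt N8364 D8457) (tt N5218 (iv D6853)) (tt N8365 D8458))
theorem Q6762 : ∀ i, i < 6762 → P i := stepQ 6761 Q6761 (allL N6761 (tt N5232 F21601) (tt N8366 D8459) (tt N8364 (iv F26918)) (tt N6761 F21602) (tt N8362 (iv F26910)) (tt N5219 (iv D6854)) (tt N5698 F21603) (tt N8367 D8460))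
theorem Q6763 : ∀ i, i < 6763 → P i := stepQ 6762 Q6762 (allL N6762 (tt N5233 F21604) (tt N5221 F21605) (tt N8365 (iv F26921)) (tt N5997 (iv F21606)) (tt N8363 (iv F26915)) (tt N8367 (iv F26930)) (tt N8065 (iv F25922)) (tt N5219 (iv D6855)))
theorem Q6764 : ∀ i, i < 6764 → P i := stepQ 6763 Q6763 (allL N6763 (tt N6763 F21607) (tt N5220 (iv D6856)) (tt N7476 (iv F23978)) (tt N6763 F21608) (tt N6351 F21609) (tt N8366 (iv F26925)) (tt N5222 F21610) (tt N5857 F21611))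
theorem Q6765 : ∀ i, i < 6765 → P i := stepQ 6764 Q6764 (allL N6764 (tt N6361 F21612) (tt N6764 F21613) (tt N5224 (iv D6857)) (tt N8368 D8461) (tt N6764 F21614) (tt N5708 F21615) (tt N7233 (iv F23162)) (tt N6808 F21818))
theorem Q6766 : ∀ i, i < 6766 → P i := stepQ 6765 Q6765 (allL N6765 (tt N6360 F21616) (tt N5225 F21617) (tt N7233 (iv F23160)) (tt N5228 F21618) (tt N6765 F21619) (tt N8369 D8462) (tt N5224 (iv D6858)) (tt N6811 (iv F21831)))
theorem Q6767 : ∀ i, i < 6767 → P i := stepQ 6766 Q6766 (allL N6766 (tt N8360 (iv F26899)) (tt N6120 F21620) (tt N8368 (iv F26934)) (tt N5227 (iv D6859)) (tt N8370 D8463) (tt N5714 F21621) (tt N8371 D8464) (tt N6106 F21622))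
theorem Q6768 : ∀ i, i < 6768 → P i := stepQ 6767 Q6767 (allL N6767 (tt N8361 (iv F26904)) (tt N7529 (iv F24137)) (tt N5228 F21623) (tt N8371 (iv F26949)) (tt N5231 F21624) (tt N8372 D8465) (tt N5227 (iv D6860)) (tt N8373 D8466))
theorem Q6769 : ∀ i, i < 6769 → P i := stepQ 6768 Q6768 (allL N6768 (tt N8362 (iv F26907)) (tt N6768 F21625) (tt N8372 (iv F26950)) (tt N8369 (iv F26940)) (tt N5232 F21626) (tt N5228 (iv D6861)) (tt N5716 F21627) (tt N8374 D8467))
theorem Q6770 : ∀ i, i < 6770 → P i := stepQ 6769 Q6769 (allL N6769 (tt N8363 (iv F26912)) (tt N5229 F21628) (tt N8373 (iv F26953)) (tt N8375 D8468) (tt N5233 F21629) (tt N8374 (iv F26957)) (tt N8043 (iv F25836)) (tt N5228 (iv D6862)))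
theorem Q6771 : ∀ i, i < 6771 → P i := stepQ 6770 Q6770 (allL N6770 (tt N5235 F21630) (tt N8375 (iv F26959)) (tt N7428 (iv F23820)) (tt N5229 (iv D6863)) (tt N6190 F21631) (tt N6770 F21632) (tt N6602 F21633) (tt N6596 F21634))
theorem Q6772 : ∀ i, i < 6772 → P i := stepQ 6771 Q6771 (allL N6771 (tt N8103 (iv F26060)) (tt N8318 (iv F26771)) (tt N6771 F21635) (tt N8370 (iv F26945)) (tt N5230 (iv D6864)) (tt N5719 F21636) (tt N8376 D8469) (tt N7206 (iv F23082)))
theorem Q6773 : ∀ i, i < 6773 → P i := stepQ 6772 Q6772 (allL N6772 (tt N8113 (iv F26098)) (tt N8319 (iv F26775)) (tt N6772 F21637) (tt N5231 F21638) (tt N8376 (iv F26965)) (tt N8377 D8470) (tt N5230 (iv D6865)) (tt N8378 D8471))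
theorem Q6774 : ∀ i, i < 6774 → P i := stepQ 6773 Q6773 (allL N6773 (tt N8364 (iv F26917)) (tt N8379 D8472) (tt N5232 F21639) (tt N8377 (iv F26967)) (tt N8372 (iv F26951)) (tt N5231 (iv D6866)) (tt N5721 F21640) (tt N8380 D8473))
theorem Q6775 : ∀ i, i < 6775 → P i := stepQ 6774 Q6774 (allL N6774 (tt N8365 (iv F26920)) (tt N8321 (iv F26779)) (tt N5233 F21641) (tt N8381 D8474) (tt N8373 (iv F26954)) (tt N8380 (iv F26973)) (tt N8097 (iv F26034)) (tt N5231 (iv D6867)))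
theorem Q6776 : ∀ i, i < 6776 → P i := stepQ 6775 Q6775 (allL N6775 (tt N8367 (iv F26928)) (tt N6775 F21642) (tt N8380 (iv F26972)) (tt N8382 D8475) (tt N8374 (iv F26956)) (tt N5233 F21643) (tt N8383 D8476) (tt N5232 (iv D6868)))
theorem Q6777 : ∀ i, i < 6777 → P i := stepQ 6776 Q6776 (allL N6776 (tt N5997 F21644) (tt N5234 F21645) (tt N8384 D8477) (tt N5233 (iv D6869)) (tt N6011 (iv F21647)) (tt N8382 (iv F26976)) (tt N8066 (iv F25927)) (tt N6776 F21646))
theorem Q6778 : ∀ i, i < 6778 → P i := stepQ 6777 Q6777 (allL N6777 (tt N5236 F21648) (tt N8385 D8478) (tt N5234 (iv D6870)) (tt N6744 F21649) (tt N6193 F21650) (tt N6777 F21651) (tt N7831 (iv F25029)) (tt N6777 F21652))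
theorem Q6779 : ∀ i, i < 6779 → P i := stepQ 6778 Q6778 (allL N6778 (tt N6778 F21653) (tt N8100 (iv F26044)) (tt N6778 F21654) (tt N5237 (iv D6871)) (tt N8386 D8479) (tt N5671 F21655) (tt N8387 D8480) (tt N5240 F21656))
theorem Q6780 : ∀ i, i < 6780 → P i := stepQ 6779 Q6779 (allL N6779 (tt N6779 F21657) (tt N8101 (iv F26050)) (tt N5252 F21658) (tt N8387 (iv F26996)) (tt N5673 F21659) (tt N8388 D8481) (tt N5237 (iv D6872)) (tt N5245 F21660))
theorem Q6781 : ∀ i, i < 6781 → P i := stepQ 6780 Q6780 (allL N6780 (tt N5719 F21661) (tt N5239 F21662) (tt N6780 F21663) (tt N8389 D8482) (tt N5243 F21664) (tt N8103 (iv F26064)) (tt N8390 D8483) (tt N5238 (iv D6873)))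
theorem Q6782 : ∀ i, i < 6782 → P i := stepQ 6781 Q6781 (allL N6781 (tt N6781 F21665) (tt N8389 (iv F27003)) (tt N6781 F21666) (tt N5239 (iv D6874)) (tt N8391 D8484) (tt N5240 F21667) (tt N8392 D8485) (tt N5671 F21668))
theorem Q6783 : ∀ i, i < 6783 → P i := stepQ 6782 Q6782 (allL N6782 (tt N6782 F21669) (tt N8390 (iv F27008)) (tt N5250 F21670) (tt N8392 (iv F27020)) (tt N5245 F21671) (tt N8393 D8486) (tt N5239 (iv D6875)) (tt N5673 F21672))
theorem Q6784 : ∀ i, i < 6784 → P i := stepQ 6783 Q6783 (allL N6783 (tt N6783 F21673) (tt N8108 (iv F26081)) (tt N6783 F21674) (tt N5247 F21675) (tt N5240 (iv D6876)) (tt N8391 (iv F27016)) (tt N8394 D8487) (tt N8386 (iv F26993)))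
theorem Q6785 : ∀ i, i < 6785 → P i := stepQ 6784 Q6784 (allL N6784 (tt N6784 F21676) (tt N8109 (iv F26086)) (tt N6784 F21677) (tt N5241 F21678) (tt N8394 (iv F27029)) (tt N8395 D8488) (tt N5240 (iv D6877)) (tt N8396 D8489))
theorem Q6786 : ∀ i, i < 6786 → P i := stepQ 6785 Q6785 (allL N6785 (tt N6785 F21679) (tt N8397 D8490) (tt N5251 F21680) (tt N8395 (iv F27032)) (tt N5249 F21681) (tt N5241 (iv D6878)) (tt N8393 (iv F27024)) (tt N5743 F21682))
theorem Q6787 : ∀ i, i < 6787 → P i := stepQ 6786 Q6786 (allL N6786 (tt N5720 F21683) (tt N5245 F21684) (tt N6786 F21685) (tt N5697 F21686) (tt N8390 (iv F27010)) (tt N8398 D8491) (tt N5243 (iv D6879)) (tt N8101 (iv F26053)))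
theorem Q6788 : ∀ i, i < 6788 → P i := stepQ 6787 Q6787 (allL N6787 (tt N6787 F21687) (tt N5694 F21688) (tt N5690 F21689) (tt N8391 (iv F27015)) (tt N5244 (iv D6880)) (tt N5247 F21690) (tt N8399 D8492) (tt N5741 F21691))
theorem Q6789 : ∀ i, i < 6789 → P i := stepQ 6788 Q6788 (allL N6788 (tt N6788 F21692) (tt N5697 F21693) (tt N5692 F21694) (tt N5245 F21695) (tt N8399 (iv F27044)) (tt N8400 D8493) (tt N5244 (iv D6881)) (tt N8401 D8494))
theorem Q6790 : ∀ i, i < 6790 → P i := stepQ 6789 Q6789 (allL N6789 (tt N6789 F21696) (tt N8402 D8495) (tt N5255 F21697) (tt N8400 (iv F27047)) (tt N8393 (iv F27023)) (tt N5245 (iv D6882)) (tt N5249 F21698) (tt N8388 (iv F27001)))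
theorem Q6791 : ∀ i, i < 6791 → P i := stepQ 6790 Q6790 (allL N6790 (tt N6790 F21699) (tt N5681 F21700) (tt N5247 F21701) (tt N6790 F21702) (tt N5246 (iv D6883)) (tt N5690 F21703) (tt N8403 D8496) (tt N5744 F21704))
theorem Q6792 : ∀ i, i < 6792 → P i := stepQ 6791 Q6791 (allL N6791 (tt N6791 F21705) (tt N5682 F21706) (tt N5248 F21707) (tt N5257 F21708) (tt N8403 (iv F27058)) (tt N8404 D8497) (tt N5246 (iv D6884)) (tt N8405 D8498))
theorem Q6793 : ∀ i, i < 6793 → P i := stepQ 6792 Q6792 (allL N6792 (tt N6792 F21709) (tt N8121 (iv F26123)) (tt N8403 (iv F27056)) (tt N8394 (iv F27028)) (tt N5248 F21710) (tt N7297 (iv F23427)) (tt N5247 (iv D6885)) (tt N7296 (iv F23424)))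
theorem Q6794 : ∀ i, i < 6794 → P i := stepQ 6793 Q6793 (allL N6793 (tt N6793 F21711) (tt N8406 D8499) (tt N8404 (iv F27063)) (tt N5249 F21712) (tt N7297 (iv F23426)) (tt N5248 (iv D6886)) (tt N8400 (iv F27048)) (tt N7295 F23419))
theorem Q6795 : ∀ i, i < 6795 → P i := stepQ 6794 Q6794 (allL N6794 (tt N6794 F21713) (tt N8123 (iv F26126)) (tt N8405 (iv F27070)) (tt N7308 (iv F23455)) (tt N7296 (iv F23423)) (tt N7295 (iv F23420)) (tt N5748 F21714) (tt N5248 (iv D6887)))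
theorem Q6796 : ∀ i, i < 6796 → P i := stepQ 6795 Q6795 (allL N6795 (tt N8407 D8500) (tt N5249 (iv D6888)) (tt N8408 D8501) (tt N8406 (iv F27075)) (tt N8397 (iv F27036)) (tt N8124 (iv F26128)) (tt N8402 (iv F27053)) (tt N8323 (iv F26788)))
theorem Q6797 : ∀ i, i < 6797 → P i := stepQ 6796 Q6796 (allL N6796 (tt N6796 F21715) (tt N7934 (iv F25401)) (tt N8393 (iv F27022)) (tt N6796 F21716) (tt N5255 F21717) (tt N5250 (iv D6889)) (tt N5251 F21718) (tt N5679 F21719))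
theorem Q6798 : ∀ i, i < 6798 → P i := stepQ 6797 Q6797 (allL N6797 (tt N7809 (iv F24946)) (tt N5251 (iv D6890)) (tt N8409 D8502) (tt N6797 F21720) (tt N5260 F21721) (tt N5266 F21722) (tt N7934 (iv F25405)) (tt N5755 F21723))
theorem Q6799 : ∀ i, i < 6799 → P i := stepQ 6798 Q6798 (allL N6798 (tt N6798 F21724) (tt N7933 (iv F25395)) (tt N8388 (iv F26998)) (tt N6798 F21725) (tt N5679 F21726) (tt N5252 (iv D6891)) (tt N5677 F21727) (tt N5255 F21728))
theorem Q6800 : ∀ i, i < 6800 → P i := stepQ 6799 Q6799 (allL N6799 (tt N6799 F21729) (tt N8410 D8503) (tt N6870 F22058) (tt N5255 F21730) (tt N6799 F21731) (tt N5254 (iv D6892)) (tt N5258 F21732) (tt N6799 F21733))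
theorem Q6801 : ∀ i, i < 6801 → P i := stepQ 6800 Q6800 (allL N6800 (tt N7982 (iv F25597)) (tt N5255 (iv D6893)) (tt N8411 D8504) (tt N8410 (iv F27085)) (tt N7934 (iv F25403)) (tt N6800 F21734) (tt N5260 F21735) (tt N7933 (iv F25399)))
theorem Q6802 : ∀ i, i < 6802 → P i := stepQ 6801 Q6801 (allL N6801 (tt N5680 F21736) (tt N5257 F21737) (tt N5269 F21738) (tt N5682 F21739) (tt N6801 F21740) (tt N6866 (iv F22042)) (tt N5256 (iv D6894)) (tt N7995 (iv F25657)))
theorem Q6803 : ∀ i, i < 6803 → P i := stepQ 6802 Q6802 (allL N6802 (tt N6802 F21741) (tt N6869 (iv F22050)) (tt N5258 F21742) (tt N8404 (iv F27064)) (tt N6802 F21743) (tt N5257 (iv D6895)) (tt N6870 (iv F22056)) (tt N8412 D8505))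
theorem Q6804 : ∀ i, i < 6804 → P i := stepQ 6803 Q6803 (allL N6803 (tt N6803 F21744) (tt N7995 (iv F25654)) (tt N5259 F21745) (tt N7763 (iv F24826)) (tt N6803 F21746) (tt N8412 (iv F27095)) (tt N5265 F21747) (tt N5257 (iv D6896)))
theorem Q6805 : ∀ i, i < 6805 → P i := stepQ 6804 Q6804 (allL N6804 (tt N8413 D8506) (tt N5258 (iv D6897)) (tt N8414 D8507) (tt N5260 F21748) (tt N6804 F21749) (tt N5270 F21750) (tt N8410 (iv F27088)) (tt N7988 (iv F25626)))
theorem Q6806 : ∀ i, i < 6806 → P i := stepQ 6805 Q6805 (allL N6805 (tt N6805 F21751) (tt N7988 (iv F25623)) (tt N8412 (iv F27093)) (tt N8329 (iv F26810)) (tt N6805 F21752) (tt N5259 F21753) (tt N6805 F21754) (tt N5258 (iv D6898)))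
theorem Q6807 : ∀ i, i < 6807 → P i := stepQ 6806 Q6806 (allL N6806 (tt N5260 (iv D6899)) (tt N6806 F21755) (tt N8415 D8508) (tt N8413 (iv F27098)) (tt N7809 (iv F24949)) (tt N5271 F21756) (tt N7982 (iv F25601)) (tt N7808 F24945))
theorem Q6808 : ∀ i, i < 6808 → P i := stepQ 6807 Q6807 (allL N6807 (tt N8415 (iv F27104)) (tt N8408 (iv F27081)) (tt N5260 (iv D6900)) (tt N8416 D8509) (tt N8409 (iv F27082)) (tt N5272 F21757) (tt N8411 (iv F27091)) (tt N8330 (iv F26816)))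
theorem Q6809 : ∀ i, i < 6809 → P i := stepQ 6808 Q6808 (allL N6808 (tt N5264 F21758) (tt N6808 F21759) (tt N5274 F21760) (tt N5763 F21761) (tt N6808 F21762) (tt N7267 (iv F23304)) (tt N5262 (iv D6901)) (tt N6764 (iv F21818)))
theorem Q6810 : ∀ i, i < 6810 → P i := stepQ 6809 Q6809 (allL N6809 (tt N5266 (iv D6902)) (tt N5289 F21819) (tt N8417 D8510) (tt N6809 F21820) (tt N5271 F21821) (tt N7809 (iv F24950)) (tt N6809 F21822) (tt N6022 F21823))
theorem Q6811 : ∀ i, i < 6811 → P i := stepQ 6810 Q6810 (allL N6810 (tt N8417 (iv F27107)) (tt N8165 (iv F26236)) (tt N5266 (iv D6903)) (tt N8418 D8511) (tt N5272 F21824) (tt N8409 (iv F27083)) (tt N6810 F21825) (tt N6023 F21826))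
theorem Q6812 : ∀ i, i < 6812 → P i := stepQ 6811 Q6811 (allL N6811 (tt N5269 F21827) (tt N5292 F21828) (tt N5680 F21829) (tt N8166 (iv F26243)) (tt N6811 F21830) (tt N7875 (iv F25177)) (tt N5267 (iv D6904)) (tt N6765 F21831))
theorem Q6813 : ∀ i, i < 6813 → P i := stepQ 6812 Q6812 (allL N6812 (tt N7875 (iv F25173)) (tt N7994 (iv F25650)) (tt N6866 (iv F22040)) (tt N8168 (iv F26250)) (tt N6812 F21832) (tt N5269 (iv D6905)) (tt N6863 F22017) (tt N7993 F25648))
theorem Q6814 : ∀ i, i < 6814 → P i := stepQ 6813 Q6813 (allL N6813 (tt N5270 (iv D6906)) (tt N5293 F21833) (tt N8419 D8512) (tt N5271 F21834) (tt N6813 F21835) (tt N8413 (iv F27100)) (tt N6813 F21836) (tt N6684 F21837))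
theorem Q6815 : ∀ i, i < 6815 → P i := stepQ 6814 Q6814 (allL N6814 (tt N8419 (iv F27113)) (tt N7992 (iv F25641)) (tt N5270 (iv D6907)) (tt N8420 D8513) (tt N6814 F21838) (tt N8414 (iv F27103)) (tt N6814 F21839) (tt N7987 F25622))
theorem Q6816 : ∀ i, i < 6816 → P i := stepQ 6815 Q6815 (allL N6815 (tt N5272 F21840) (tt N8421 D8514) (tt N5271 (iv D6908)) (tt N8422 D8515) (tt N8417 (iv F27108)) (tt N8415 (iv F27105)) (tt N6815 F21841) (tt N8336 (iv F26831)))
theorem Q6817 : ∀ i, i < 6817 → P i := stepQ 6816 Q6816 (allL N6816 (tt N8422 (iv F27122)) (tt N8171 (iv F26256)) (tt N8420 (iv F27118)) (tt N5272 (iv D6909)) (tt N8423 D8516) (tt N8416 (iv F27106)) (tt N6816 F21842) (tt N8424 D8517))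
theorem Q6818 : ∀ i, i < 6818 → P i := stepQ 6817 Q6817 (allL N6817 (tt N6817 F21843) (tt N5276 (iv D6910)) (tt N5674 (iv F21847)) (tt N6817 F21844) (tt N5277 F21845) (tt N5297 F21846) (tt N7941 (iv F25431)) (tt N8188 (iv F26307)))
theorem Q6819 : ∀ i, i < 6819 → P i := stepQ 6818 Q6818 (allL N6818 (tt N5281 F21848) (tt N7941 (iv F25428)) (tt N5783 F21849) (tt N6818 F21850) (tt N5278 F21851) (tt N6032 F21852) (tt N5276 (iv D6911)) (tt N8425 D8518))
theorem Q6820 : ∀ i, i < 6820 → P i := stepQ 6819 Q6819 (allL N6819 (tt N5282 F21853) (tt N7056 (iv F22666)) (tt N5785 F21854) (tt N7270 (iv F23321)) (tt N6032 F21855) (tt N5278 (iv D6912)) (tt N5279 F21856) (tt N8426 D8519))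
theorem Q6821 : ∀ i, i < 6821 → P i := stepQ 6820 Q6820 (allL N6820 (tt N5283 F21857) (tt N7939 (iv F25422)) (tt N5786 F21858) (tt N7905 (iv F25297)) (tt N8425 (iv F27127)) (tt N8426 (iv F27132)) (tt N8193 (iv F26324)) (tt N5278 (iv D6913)))
theorem Q6822 : ∀ i, i < 6822 → P i := stepQ 6821 Q6821 (allL N6821 (tt N8425 (iv F27125)) (tt N6821 F21859) (tt N5789 F21860) (tt N7784 (iv F24881)) (tt N5283 F21861) (tt N6033 F21862) (tt N8201 (iv F26349)) (tt N5281 (iv D6914)))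
theorem Q6823 : ∀ i, i < 6823 → P i := stepQ 6822 Q6822 (allL N6822 (tt N8426 (iv F27129)) (tt N7405 (iv F23748)) (tt N5790 F21863) (tt N8427 D8520) (tt N6033 F21864) (tt N5283 F21865) (tt N8428 D8521) (tt N5282 (iv D6915)))
theorem Q6824 : ∀ i, i < 6824 → P i := stepQ 6823 Q6823 (allL N6823 (tt N7905 (iv F25295)) (tt N6823 F21866) (tt N7397 (iv F23724)) (tt N5283 (iv D6916)) (tt N8429 D8522) (tt N8427 (iv F27133)) (tt N8205 (iv F26358)) (tt N7388 F23689))
theorem Q6825 : ∀ i, i < 6825 → P i := stepQ 6824 Q6824 (allL N6824 (tt N7055 (iv F22661)) (tt N7042 (iv F22611)) (tt N5793 F21867) (tt N7045 (iv F22628)) (tt N6025 F21868) (tt N8210 (iv F26370)) (tt N5284 (iv D6917)) (tt N8428 (iv F27136)))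
theorem Q6826 : ∀ i, i < 6826 → P i := stepQ 6825 Q6825 (allL N6825 (tt N5937 F21869) (tt N7078 (iv F22732)) (tt N5285 (iv D6918)) (tt N5794 F21870) (tt N6491 F21871) (tt N7044 (iv F22624)) (tt N8211 (iv F26374)) (tt N6757 F21872))
theorem Q6827 : ∀ i, i < 6827 → P i := stepQ 6826 Q6826 (allL N6826 (tt N6826 F21873) (tt N7026 F22547) (tt N8324 (iv F26790)) (tt N5287 (iv D6919)) (tt N8430 D8523) (tt N5758 F21874) (tt N8431 D8524) (tt N6826 F21875))
theorem Q6828 : ∀ i, i < 6828 → P i := stepQ 6827 Q6827 (allL N6827 (tt N6827 F21876) (tt N7041 (iv F22606)) (tt N5288 F21877) (tt N8431 (iv F27144)) (tt N5753 F21878) (tt N8432 D8525) (tt N5287 (iv D6920)) (tt N6827 F21879))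
theorem Q6829 : ∀ i, i < 6829 → P i := stepQ 6828 Q6828 (allL N6828 (tt N6828 F21880) (tt N7743 (iv F24755)) (tt N8432 (iv F27150)) (tt N8327 (iv F26800)) (tt N5754 F21881) (tt N5288 (iv D6921)) (tt N5761 F21882) (tt N6828 F21883))
theorem Q6830 : ∀ i, i < 6830 → P i := stepQ 6829 Q6829 (allL N6829 (tt N5290 F21884) (tt N8433 D8526) (tt N5289 (iv D6922)) (tt N8434 D8527) (tt N5294 F21885) (tt N6829 F21886) (tt N6829 F21887) (tt N6203 F21888))
theorem Q6831 : ∀ i, i < 6831 → P i := stepQ 6830 Q6830 (allL N6830 (tt N8434 (iv F27158)) (tt N8224 (iv F26418)) (tt N6830 F21889) (tt N5290 (iv D6923)) (tt N6830 F21890) (tt N6830 F21891) (tt N6830 F21892) (tt N8435 D8528))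
theorem Q6832 : ∀ i, i < 6832 → P i := stepQ 6831 Q6831 (allL N6831 (tt N8225 (iv F26424)) (tt N5294 (iv D6924)) (tt N8421 (iv F27120)) (tt N6831 F21893) (tt N8433 (iv F27155)) (tt N8436 D8529) (tt N6831 F21894) (tt N8352 (iv F26873)))
theorem Q6833 : ∀ i, i < 6833 → P i := stepQ 6832 Q6832 (allL N6832 (tt N6832 F21895) (tt N5296 F21896) (tt N5678 F21897) (tt N5300 F21898) (tt N6832 F21899) (tt N7274 (iv F23344)) (tt N5295 (iv D6925)) (tt N6832 F21900))
theorem Q6834 : ∀ i, i < 6834 → P i := stepQ 6833 Q6833 (allL N6833 (tt N6833 F21901) (tt N5303 F21902) (tt N5297 (iv D6926)) (tt N8386 (iv F26991)) (tt N5299 F21903) (tt N5674 F21904) (tt N8437 D8530) (tt N5737 F21905))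
theorem Q6835 : ∀ i, i < 6835 → P i := stepQ 6834 Q6834 (allL N6834 (tt N6834 F21906) (tt N5298 F21907) (tt N8437 (iv F27173)) (tt N6834 F21908) (tt N5300 F21909) (tt N7246 (iv F23211)) (tt N5297 (iv D6927)) (tt N7245 (iv F23206)))
theorem Q6836 : ∀ i, i < 6836 → P i := stepQ 6835 Q6835 (allL N6835 (tt N6835 F21910) (tt N5307 F21911) (tt N5300 F21912) (tt N5673 F21913) (tt N8437 (iv F27174)) (tt N8438 D8531) (tt N5299 (iv D6928)) (tt N8439 D8532))
theorem Q6837 : ∀ i, i < 6837 → P i := stepQ 6836 Q6836 (allL N6836 (tt N6836 F21914) (tt N7057 (iv F22671)) (tt N8438 (iv F27178)) (tt N7274 (iv F23342)) (tt N7246 (iv F23210)) (tt N5300 (iv D6929)) (tt N7929 (iv F25383)) (tt N7244 F23200))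
theorem Q6838 : ∀ i, i < 6838 → P i := stepQ 6837 Q6837 (allL N6837 (tt N6837 F21915) (tt N5302 F21916) (tt N8439 (iv F27185)) (tt N6837 F21917) (tt N7245 (iv F23205)) (tt N7244 (iv F23201)) (tt N8238 (iv F26477)) (tt N5300 (iv D6930)))
theorem Q6839 : ∀ i, i < 6839 → P i := stepQ 6838 Q6838 (allL N6838 (tt N5326 F21918) (tt N8386 (iv F26989)) (tt N6240 F21919) (tt N5303 (iv D6931)) (tt N8100 (iv F26045)) (tt N5804 F21920) (tt N8440 D8533) (tt N8108 (iv F26085)))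
theorem Q6840 : ∀ i, i < 6840 → P i := stepQ 6839 Q6839 (allL N6839 (tt N5327 F21921) (tt N8437 (iv F27172)) (tt N5304 F21922) (tt N8440 (iv F27191)) (tt N5307 F21923) (tt N8441 D8534) (tt N5303 (iv D6932)) (tt N8442 D8535))
theorem Q6841 : ∀ i, i < 6841 → P i := stepQ 6840 Q6840 (allL N6840 (tt N5328 F21924) (tt N6225 F21925) (tt N8441 (iv F27193)) (tt N6231 F21926) (tt N5308 F21927) (tt N5304 (iv D6933)) (tt N5806 F21928) (tt N8443 D8536))
theorem Q6842 : ∀ i, i < 6842 → P i := stepQ 6841 Q6841 (allL N6841 (tt N5329 F21929) (tt N5305 F21930) (tt N8442 (iv F27198)) (tt N8444 D8537) (tt N5309 F21931) (tt N8443 (iv F27205)) (tt N8251 (iv F26536)) (tt N5304 (iv D6934)))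
theorem Q6843 : ∀ i, i < 6843 → P i := stepQ 6842 Q6842 (allL N6842 (tt N5313 F21932) (tt N8444 (iv F27207)) (tt N8445 D8538) (tt N5305 (iv D6935)) (tt N8446 D8539) (tt N6227 F21933) (tt N8253 (iv F26545)) (tt N6236 F21934))
theorem Q6844 : ∀ i, i < 6844 → P i := stepQ 6843 Q6843 (allL N6843 (tt N5332 F21935) (tt N5673 F21936) (tt N6843 F21937) (tt N5307 F21938) (tt N8101 (iv F26052)) (tt N8447 D8540) (tt N5306 (iv D6936)) (tt N8390 (iv F27011)))
theorem Q6845 : ∀ i, i < 6845 → P i := stepQ 6844 Q6844 (allL N6844 (tt N5334 F21939) (tt N8448 D8541) (tt N5308 F21940) (tt N8447 (iv F27220)) (tt N8441 (iv F27194)) (tt N5307 (iv D6937)) (tt N5811 F21941) (tt N8449 D8542))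
theorem Q6846 : ∀ i, i < 6846 → P i := stepQ 6845 Q6845 (allL N6845 (tt N5335 F21942) (tt N8439 (iv F27184)) (tt N5309 F21943) (tt N8450 D8543) (tt N8442 (iv F27199)) (tt N8449 (iv F27225)) (tt N8256 (iv F26557)) (tt N5307 (iv D6938)))
theorem Q6847 : ∀ i, i < 6847 → P i := stepQ 6846 Q6846 (allL N6846 (tt N6846 F21944) (tt N5308 (iv D6939)) (tt N7563 (iv F24245)) (tt N6846 F21945) (tt N6225 F21946) (tt N5310 F21947) (tt N5813 F21948) (tt N7985 (iv F25615)))
theorem Q6848 : ∀ i, i < 6848 → P i := stepQ 6847 Q6847 (allL N6847 (tt N5336 F21949) (tt N7985 (iv F25611)) (tt N8449 (iv F27224)) (tt N8451 D8544) (tt N8443 (iv F27204)) (tt N5309 F21950) (tt N8452 D8545) (tt N5308 (iv D6940)))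
theorem Q6849 : ∀ i, i < 6849 → P i := stepQ 6848 Q6848 (allL N6848 (tt N5337 F21951) (tt N5312 F21952) (tt N8453 D8546) (tt N5309 (iv D6941)) (tt N8454 D8547) (tt N8451 (iv F27229)) (tt N6409 F21953) (tt N6848 F21954))
theorem Q6850 : ∀ i, i < 6850 → P i := stepQ 6849 Q6849 (allL N6849 (tt N5314 F21955) (tt N8454 (iv F27243)) (tt N6849 F21956) (tt N8446 (iv F27214)) (tt N5312 (iv D6942)) (tt N6385 F21957) (tt N6406 F21958) (tt N6849 F21959))
theorem Q6851 : ∀ i, i < 6851 → P i := stepQ 6850 Q6850 (allL N6850 (tt N8445 (iv F27209)) (tt N7877 (iv F25184)) (tt N5313 (iv D6943)) (tt N5345 F21960) (tt N7847 (iv F25084)) (tt N5344 F21961) (tt N7846 (iv F25079)) (tt N6245 F21962))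
theorem Q6852 : ∀ i, i < 6852 → P i := stepQ 6851 Q6851 (allL N6851 (tt N8446 (iv F27213)) (tt N5350 F21963) (tt N7847 (iv F25082)) (tt N5314 F21964) (tt N5313 (iv D6944)) (tt N6228 F21965) (tt N6419 F21966) (tt N6246 F21967))
theorem Q6853 : ∀ i, i < 6853 → P i := stepQ 6852 Q6852 (allL N6852 (tt N6852 F21968) (tt N5320 F21969) (tt N5315 (iv D6945)) (tt N8455 D8548) (tt N6852 F21970) (tt N6852 F21971) (tt N6367 (iv F22029)) (tt N8456 D8549))
theorem Q6854 : ∀ i, i < 6854 → P i := stepQ 6853 Q6853 (allL N6853 (tt N6853 F21972) (tt N5316 F21973) (tt N6367 (iv F22028)) (tt N6853 F21974) (tt N6853 F21975) (tt N6365 F22030) (tt N5315 (iv D6946)) (tt N6364 F22031))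
theorem Q6855 : ∀ i, i < 6855 → P i := stepQ 6854 Q6854 (allL N6854 (tt N6854 F21976) (tt N5317 F21977) (tt N8456 (iv F27255)) (tt N8457 D8550) (tt N6854 F21978) (tt N6854 F21979) (tt N8458 D8551) (tt N5315 (iv D6947)))
theorem Q6856 : ∀ i, i < 6856 → P i := stepQ 6855 Q6855 (allL N6855 (tt N5340 F21980) (tt N6364 (iv F22032)) (tt N5323 F21981) (tt N6891 F22117) (tt N6855 F21982) (tt N6855 F21983) (tt N8459 D8552) (tt N5316 (iv D6948)))
theorem Q6857 : ∀ i, i < 6857 → P i := stepQ 6856 Q6856 (allL N6856 (tt N5341 F21984) (tt N8457 (iv F27260)) (tt N6404 F21985) (tt N5317 (iv D6949)) (tt N6403 (iv F21988)) (tt N5318 F21986) (tt N7859 F25122) (tt N6856 F21987))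
theorem Q6858 : ∀ i, i < 6858 → P i := stepQ 6857 Q6857 (allL N6857 (tt N5342 F21989) (tt N8458 (iv F27265)) (tt N5324 F21990) (tt N7859 (iv F25123)) (tt N6857 F21991) (tt N8460 D8553) (tt N5317 (iv D6950)) (tt N8459 (iv F27275)))
theorem Q6859 : ∀ i, i < 6859 → P i := stepQ 6858 Q6858 (allL N6858 (tt N5343 F21992) (tt N6858 F21993) (tt N6384 F21994) (tt N6858 F21995) (tt N5318 (iv D6951)) (tt N6403 F21996) (tt N8461 D8554) (tt N6858 F21997))
theorem Q6860 : ∀ i, i < 6860 → P i := stepQ 6859 Q6859 (allL N6859 (tt N5344 F21998) (tt N6859 F21999) (tt N6227 F22000) (tt N5319 F22001) (tt N8461 (iv F27285)) (tt N8445 (iv F27211)) (tt N5318 (iv D6952)) (tt N6238 (iv F22002)))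
theorem Q6861 : ∀ i, i < 6861 → P i := stepQ 6860 Q6860 (allL N6860 (tt N5345 F22003) (tt N8462 D8555) (tt N5325 F22004) (tt N8445 (iv F27210)) (tt N6860 F22005) (tt N5319 (iv D6953)) (tt N8460 (iv F27280)) (tt N6860 F22006))
theorem Q6862 : ∀ i, i < 6862 → P i := stepQ 6861 Q6861 (allL N6861 (tt N6240 F22007) (tt N8455 (iv F27249)) (tt N5326 F22008) (tt N5320 (iv D6954)) (tt N8463 D8556) (tt N5817 F22009) (tt N8464 D8557) (tt N8465 D8558))
theorem Q6863 : ∀ i, i < 6863 → P i := stepQ 6862 Q6862 (allL N6862 (tt N6234 F22010) (tt N6367 F22026) (tt N5321 F22011) (tt N8464 (iv F27299)) (tt N6862 F22012) (tt N6370 (iv F22024)) (tt N5320 (iv D6955)) (tt N6366 F22027))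
theorem Q6864 : ∀ i, i < 6864 → P i := stepQ 6863 Q6863 (allL N6863 (tt N6241 F22013) (tt N8456 (iv F27254)) (tt N5322 F22014) (tt N8466 D8559) (tt N6863 F22015) (tt N5819 F22016) (tt N6812 (iv F22017)) (tt N5320 (iv D6956)))
theorem Q6865 : ∀ i, i < 6865 → P i := stepQ 6864 Q6864 (allL N6864 (tt N6231 F22018) (tt N6864 F22019) (tt N6370 F22023) (tt N5328 F22020) (tt N6864 F22021) (tt N5321 (iv D6957)) (tt N5820 F22022) (tt N6369 (iv F22025)))
theorem Q6866 : ∀ i, i < 6866 → P i := stepQ 6865 Q6865 (allL N6865 (tt N6235 F22033) (tt N5323 F22034) (tt N6366 F22035) (tt N8467 D8560) (tt N6865 F22036) (tt N6369 F22037) (tt N8468 D8561) (tt N5321 (iv D6958)))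
theorem Q6867 : ∀ i, i < 6867 → P i := stepQ 6866 Q6866 (allL N6866 (tt N6242 F22038) (tt N5324 F22039) (tt N6812 F22040) (tt N7235 (iv F23168)) (tt N6866 F22041) (tt N6801 F22042) (tt N5322 (iv D6959)) (tt N8468 (iv F27317)))
theorem Q6868 : ∀ i, i < 6868 → P i := stepQ 6867 Q6867 (allL N6867 (tt N5346 F22043) (tt N8467 (iv F27309)) (tt N6879 (iv F22081)) (tt N5323 (iv D6960)) (tt N6878 F22079) (tt N6867 F22044) (tt N8469 D8562) (tt N5330 F22045))
theorem Q6869 : ∀ i, i < 6869 → P i := stepQ 6868 Q6868 (allL N6868 (tt N5347 F22046) (tt N8468 (iv F27313)) (tt N8459 (iv F27272)) (tt N8469 (iv F27320)) (tt N6868 F22047) (tt N8470 D8563) (tt N5323 (iv D6961)) (tt N5324 F22048))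
theorem Q6870 : ∀ i, i < 6870 → P i := stepQ 6869 Q6869 (allL N6869 (tt N5348 F22049) (tt N6802 F22050) (tt N8460 (iv F27278)) (tt N8235 F26467) (tt N6869 F22051) (tt N5324 (iv D6962)) (tt N5325 F22052) (tt N8470 (iv F27326)))
theorem Q6871 : ∀ i, i < 6871 → P i := stepQ 6870 Q6870 (allL N6870 (tt N6870 F22053) (tt N5325 (iv D6963)) (tt N6799 (iv F22058)) (tt N7245 (iv F23204)) (tt N6870 F22054) (tt N5823 F22055) (tt N6802 F22056) (tt N6870 F22057))
theorem Q6872 : ∀ i, i < 6872 → P i := stepQ 6871 Q6871 (allL N6871 (tt N8100 (iv F26043)) (tt N6871 F22059) (tt N8463 (iv F27293)) (tt N5331 F22060) (tt N5326 (iv D6964)) (tt N5824 F22061) (tt N8471 D8564) (tt N8009 (iv F25718)))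
theorem Q6873 : ∀ i, i < 6873 → P i := stepQ 6872 Q6872 (allL N6872 (tt N8440 (iv F27189)) (tt N6872 F22062) (tt N8464 (iv F27298)) (tt N5327 F22063) (tt N8471 (iv F27329)) (tt N8472 D8565) (tt N5326 (iv D6965)) (tt N8473 D8566))
theorem Q6874 : ∀ i, i < 6874 → P i := stepQ 6873 Q6873 (allL N6873 (tt N8108 (iv F26080)) (tt N6873 F22064) (tt N8465 (iv F27302)) (tt N8016 (iv F25751)) (tt N8009 F25719) (tt N5826 F22065) (tt N8474 D8567) (tt N5326 (iv D6966)))
theorem Q6875 : ∀ i, i < 6875 → P i := stepQ 6874 Q6874 (allL N6874 (tt N8441 (iv F27192)) (tt N8475 D8568) (tt N5328 F22066) (tt N8472 (iv F27332)) (tt N5334 F22067) (tt N5327 (iv D6967)) (tt N5827 F22068) (tt N8476 D8569))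
theorem Q6876 : ∀ i, i < 6876 → P i := stepQ 6875 Q6875 (allL N6875 (tt N8442 (iv F27196)) (tt N6875 F22069) (tt N5329 F22070) (tt N8477 D8570) (tt N5335 F22071) (tt N8476 (iv F27343)) (tt N8270 (iv F26606)) (tt N5327 (iv D6968)))
theorem Q6877 : ∀ i, i < 6877 → P i := stepQ 6876 Q6876 (allL N6876 (tt N8443 (iv F27202)) (tt N6876 F22072) (tt N8476 (iv F27341)) (tt N8478 D8571) (tt N5336 F22073) (tt N5329 F22074) (tt N8479 D8572) (tt N5328 (iv D6969)))
theorem Q6878 : ∀ i, i < 6878 → P i := stepQ 6877 Q6877 (allL N6877 (tt N8444 (iv F27206)) (tt N5330 F22075) (tt N8480 D8573) (tt N5329 (iv D6970)) (tt N8481 D8574) (tt N8478 (iv F27348)) (tt N8272 (iv F26610)) (tt N8467 (iv F27311)))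
theorem Q6879 : ∀ i, i < 6879 → P i := stepQ 6878 Q6878 (allL N6878 (tt N5349 F22076) (tt N8482 D8575) (tt N5330 (iv D6971)) (tt N6878 F22077) (tt N6867 (iv F22079)) (tt N6878 F22078) (tt N8273 (iv F26613)) (tt N6879 (iv F22084)))
theorem Q6880 : ∀ i, i < 6880 → P i := stepQ 6879 Q6879 (allL N6879 (tt N5350 F22080) (tt N8481 (iv F27353)) (tt N6867 F22081) (tt N5339 F22082) (tt N5330 (iv D6972)) (tt N6879 F22083) (tt N8274 (iv F26617)) (tt N6878 F22084))
theorem Q6881 : ∀ i, i < 6881 → P i := stepQ 6880 Q6880 (allL N6880 (tt N8101 (iv F26049)) (tt N6880 F22085) (tt N6880 F22086) (tt N8471 (iv F27328)) (tt N5332 F22087) (tt N7979 (iv F25586)) (tt N5331 (iv D6973)) (tt N5720 F22088))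
theorem Q6882 : ∀ i, i < 6882 → P i := stepQ 6881 Q6881 (allL N6881 (tt N8447 (iv F27218)) (tt N7980 (iv F25588)) (tt N6881 F22089) (tt N5334 F22090) (tt N7979 (iv F25585)) (tt N5332 (iv D6974)) (tt N5835 F22091) (tt N8483 D8576))
theorem Q6883 : ∀ i, i < 6883 → P i := stepQ 6882 Q6882 (allL N6882 (tt N8390 (iv F27007)) (tt N6882 F22092) (tt N6882 F22093) (tt N8484 D8577) (tt N5720 F22094) (tt N8483 (iv F27360)) (tt N5719 F22095) (tt N5332 (iv D6975)))
theorem Q6884 : ∀ i, i < 6884 → P i := stepQ 6883 Q6883 (allL N6883 (tt N8485 D8578) (tt N5334 (iv D6976)) (tt N6883 F22096) (tt N7980 (iv F25590)) (tt N8475 (iv F27338)) (tt N6883 F22097) (tt N5838 F22098) (tt N8486 D8579))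
theorem Q6885 : ∀ i, i < 6885 → P i := stepQ 6884 Q6884 (allL N6884 (tt N8449 (iv F27223)) (tt N8486 (iv F27368)) (tt N5336 F22099) (tt N8487 D8580) (tt N8476 (iv F27342)) (tt N5335 F22100) (tt N8488 D8581) (tt N5334 (iv D6977)))
theorem Q6886 : ∀ i, i < 6886 → P i := stepQ 6885 Q6885 (allL N6885 (tt N8450 (iv F27226)) (tt N6885 F22101) (tt N8489 D8582) (tt N5335 (iv D6978)) (tt N8490 D8583) (tt N8487 (iv F27371)) (tt N8278 (iv F26628)) (tt N8484 (iv F27364)))
theorem Q6887 : ∀ i, i < 6887 → P i := stepQ 6886 Q6886 (allL N6886 (tt N8451 (iv F27227)) (tt N6886 F22102) (tt N8454 (iv F27244)) (tt N5336 (iv D6979)) (tt N8453 F27241) (tt N5337 F22103) (tt N8491 D8584) (tt N6886 F22104))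
theorem Q6888 : ∀ i, i < 6888 → P i := stepQ 6887 Q6887 (allL N6887 (tt N8452 (iv F27233)) (tt N6887 F22105) (tt N8488 (iv F27372)) (tt N8491 (iv F27379)) (tt N8479 (iv F27351)) (tt N8283 (iv F26645)) (tt N5336 (iv D6980)) (tt N5842 F22106))
theorem Q6889 : ∀ i, i < 6889 → P i := stepQ 6888 Q6888 (allL N6888 (tt N8453 (iv F27236)) (tt N8492 D8585) (tt N5337 (iv D6981)) (tt N8489 (iv F27374)) (tt N8451 (iv F27232)) (tt N8454 (iv F27245)) (tt N8284 (iv F26648)) (tt N6888 F22107))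
theorem Q6890 : ∀ i, i < 6890 → P i := stepQ 6889 Q6889 (allL N6889 (tt N8454 (iv F27242)) (tt N5339 F22108) (tt N8451 F27231) (tt N8481 (iv F27354)) (tt N5337 (iv D6982)) (tt N8453 (iv F27238)) (tt N8285 (iv F26651)) (tt N6889 F22109))
theorem Q6891 : ∀ i, i < 6891 → P i := stepQ 6890 Q6890 (allL N6890 (tt N6890 F22110) (tt N5338 (iv D6983)) (tt N8492 (iv F27382)) (tt N6890 F22111) (tt N7997 (iv F25667)) (tt N7996 F25668) (tt N8287 (iv F26658)) (tt N6890 F22112))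
theorem Q6892 : ∀ i, i < 6892 → P i := stepQ 6891 Q6891 (allL N6891 (tt N5351 F22113) (tt N7997 F25666) (tt N5339 F22114) (tt N6855 (iv F22117)) (tt N5338 (iv D6984)) (tt N6891 F22115) (tt N8288 (iv F26663)) (tt N6891 F22116))
theorem Q6893 : ∀ i, i < 6893 → P i := stepQ 6892 Q6892 (allL N6892 (tt N8459 (iv F27270)) (tt N6892 F22118) (tt N5347 F22119) (tt N6674 F22120) (tt N6892 F22121) (tt N8224 (iv F26421)) (tt N5340 (iv D6985)) (tt N5342 F22122))
theorem Q6894 : ∀ i, i < 6894 → P i := stepQ 6893 Q6893 (allL N6893 (tt N8460 (iv F27276)) (tt N8435 (iv F27163)) (tt N5348 F22123) (tt N7846 (iv F25080)) (tt N6893 F22124) (tt N5342 (iv D6986)) (tt N5345 F22125) (tt N8224 (iv F26423)))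
theorem Q6895 : ∀ i, i < 6895 → P i := stepQ 6894 Q6894 (allL N6894 (tt N8461 (iv F27281)) (tt N5352 F22126) (tt N6228 F22127) (tt N6894 F22128) (tt N5344 F22129) (tt N7847 (iv F25085)) (tt N5343 (iv D6987)) (tt N6248 (iv F22130)))
theorem Q6896 : ∀ i, i < 6896 → P i := stepQ 6895 Q6895 (allL N6895 (tt N8493 D8586) (tt N5345 (iv D6988)) (tt N6895 F22131) (tt N7877 F25189) (tt N6895 F22132) (tt N5355 F22133) (tt N8435 (iv F27168)) (tt N6895 F22134))
theorem Q6897 : ∀ i, i < 6897 → P i := stepQ 6896 Q6896 (allL N6896 (tt N8469 (iv F27318)) (tt N6247 F22135) (tt N6673 F22136) (tt N5347 F22137) (tt N6672 F22138) (tt N8222 (iv F26410)) (tt N5346 (iv D6989)) (tt N8242 (iv F26495)))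
theorem Q6898 : ∀ i, i < 6898 → P i := stepQ 6897 Q6897 (allL N6897 (tt N8470 (iv F27322)) (tt N6897 F22139) (tt N8224 (iv F26419)) (tt N8222 (iv F26413)) (tt N6897 F22140) (tt N5347 (iv D6990)) (tt N6897 F22141) (tt N5348 F22142))
theorem Q6899 : ∀ i, i < 6899 → P i := stepQ 6898 Q6898 (allL N6898 (tt N5355 (iv D6991)) (tt N6898 F22143) (tt N6898 F22144) (tt N7871 F25164) (tt N6898 F22145) (tt N8493 (iv F27388)) (tt N6898 F22146) (tt N6898 F22147))
theorem Q6900 : ∀ i, i < 6900 → P i := stepQ 6899 Q6899 (allL N6899 (tt N5524 F22148) (tt N5961 F22149) (tt N5362 F22150) (tt N5837 F22151) (tt N5358 F22152) (tt N7207 (iv F23086)) (tt N5356 (iv D6992)) (tt N8494 D8587))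
theorem Q6901 : ∀ i, i < 6901 → P i := stepQ 6900 Q6900 (allL N6900 (tt N5357 (iv D6993)) (tt N5527 F22153) (tt N6900 F22154) (tt N8011 (iv F25726)) (tt N5950 F22155) (tt N6900 F22156) (tt N8495 D8588) (tt N5948 F22157))
theorem Q6902 : ∀ i, i < 6902 → P i := stepQ 6901 Q6901 (allL N6901 (tt N8495 (iv F27395)) (tt N5358 F22158) (tt N6901 F22159) (tt N7112 (iv F22814)) (tt N5961 F22160) (tt N8496 D8589) (tt N5357 (iv D6994)) (tt N8497 D8590))
theorem Q6903 : ∀ i, i < 6903 → P i := stepQ 6902 Q6902 (allL N6902 (tt N5530 F22161) (tt N8497 (iv F27403)) (tt N5365 F22162) (tt N8498 D8591) (tt N8494 (iv F27393)) (tt N7210 (iv F23096)) (tt N8499 D8592) (tt N5358 (iv D6995)))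
theorem Q6904 : ∀ i, i < 6904 → P i := stepQ 6903 Q6903 (allL N6903 (tt N5531 F22163) (tt N5952 F22164) (tt N8053 (iv F25877)) (tt N5359 (iv D6996)) (tt N5633 F22165) (tt N5360 F22166) (tt N8500 D8593) (tt N8013 (iv F25741)))
theorem Q6905 : ∀ i, i < 6905 → P i := stepQ 6904 Q6904 (allL N6904 (tt N5532 F22167) (tt N5958 F22168) (tt N5367 F22169) (tt N8500 (iv F27417)) (tt N5638 F22170) (tt N8501 D8594) (tt N5359 (iv D6997)) (tt N8499 (iv F27413)))
theorem Q6906 : ∀ i, i < 6906 → P i := stepQ 6905 Q6905 (allL N6905 (tt N5533 F22171) (tt N6923 (iv F22231)) (tt N5360 (iv D6998)) (tt N5368 F22172) (tt N8265 (iv F26587)) (tt N8053 (iv F25880)) (tt N8502 D8595) (tt N8015 (iv F25747)))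
theorem Q6907 : ∀ i, i < 6907 → P i := stepQ 6906 Q6906 (allL N6906 (tt N5535 F22173) (tt N6906 F22174) (tt N8502 (iv F27424)) (tt N5361 F22175) (tt N8268 (iv F26599)) (tt N8503 D8596) (tt N5360 (iv D6999)) (tt N8504 D8597))
theorem Q6908 : ∀ i, i < 6908 → P i := stepQ 6907 Q6907 (allL N6907 (tt N5536 F22176) (tt N8505 D8598) (tt N5370 F22177) (tt N8503 (iv F27427)) (tt N8275 (iv F26621)) (tt N5361 (iv D7000)) (tt N8501 (iv F27422)) (tt N7211 (iv F23099)))
theorem Q6909 : ∀ i, i < 6909 → P i := stepQ 6908 Q6908 (allL N6908 (tt N5537 F22178) (tt N6908 F22179) (tt N8494 (iv F27392)) (tt N8506 D8599) (tt N5365 F22180) (tt N7212 (iv F23103)) (tt N8507 D8600) (tt N5362 (iv D7001)))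
theorem Q6910 : ∀ i, i < 6910 → P i := stepQ 6909 Q6909 (allL N6909 (tt N5538 F22181) (tt N6909 F22182) (tt N5638 F22183) (tt N5415 F22184) (tt N5367 F22185) (tt N8508 D8601) (tt N5363 (iv D7002)) (tt N8507 (iv F27440)))
theorem Q6911 : ∀ i, i < 6911 → P i := stepQ 6910 Q6910 (allL N6910 (tt N5540 F22186) (tt N8509 D8602) (tt N8275 (iv F26619)) (tt N6938 (iv F22283)) (tt N5370 F22187) (tt N5364 (iv D7003)) (tt N8508 (iv F27445)) (tt N7217 (iv F23118)))
theorem Q6912 : ∀ i, i < 6912 → P i := stepQ 6911 Q6911 (allL N6911 (tt N5542 F22188) (tt N6911 F22189) (tt N8499 (iv F27411)) (tt N6521 F22190) (tt N8507 (iv F27439)) (tt N8510 D8603) (tt N5365 (iv D7004)) (tt N5367 F22191))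
theorem Q6913 : ∀ i, i < 6913 → P i := stepQ 6912 Q6912 (allL N6912 (tt N5543 F22192) (tt N7817 (iv F24974)) (tt N5366 (iv D7005)) (tt N8053 (iv F25878)) (tt N6921 (iv F22225)) (tt N5368 F22193) (tt N8511 D8604) (tt N5371 F22194))
theorem Q6914 : ∀ i, i < 6914 → P i := stepQ 6913 Q6913 (allL N6913 (tt N5545 F22195) (tt N6913 F22196) (tt N8511 (iv F27453)) (tt N5367 F22197) (tt N6929 (iv F22253)) (tt N8512 D8605) (tt N5366 (iv D7006)) (tt N6524 F22198))
theorem Q6915 : ∀ i, i < 6915 → P i := stepQ 6914 Q6914 (allL N6914 (tt N5546 F22199) (tt N8513 D8606) (tt N8501 (iv F27420)) (tt N8512 (iv F27457)) (tt N8508 (iv F27444)) (tt N5367 (iv D7007)) (tt N5370 F22200) (tt N8510 (iv F27450)))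
theorem Q6916 : ∀ i, i < 6916 → P i := stepQ 6915 Q6915 (allL N6915 (tt N5549 F22201) (tt N6924 (iv F22236)) (tt N5369 F22202) (tt N8502 (iv F27425)) (tt N6922 (iv F22229)) (tt N8514 D8607) (tt N5368 (iv D7008)) (tt N8515 D8608))
theorem Q6917 : ∀ i, i < 6917 → P i := stepQ 6916 Q6916 (allL N6916 (tt N5551 F22203) (tt N7888 (iv F25229)) (tt N8514 (iv F27463)) (tt N5370 F22204) (tt N6930 (iv F22255)) (tt N5369 (iv D7009)) (tt N8512 (iv F27458)) (tt N8516 D8609))
theorem Q6918 : ∀ i, i < 6918 → P i := stepQ 6917 Q6917 (allL N6917 (tt N5552 F22205) (tt N5379 F22206) (tt N8515 (iv F27465)) (tt N7052 (iv F22652)) (tt N6931 (iv F22257)) (tt N8516 (iv F27469)) (tt N5377 F22207) (tt N5369 (iv D7010)))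
theorem Q6919 : ∀ i, i < 6919 → P i := stepQ 6918 Q6918 (allL N6918 (tt N7891 (iv F25238)) (tt N5370 (iv D7011)) (tt N8517 D8610) (tt N7888 (iv F25230)) (tt N8509 (iv F27446)) (tt N5380 F22208) (tt N8513 (iv F27461)) (tt N7220 (iv F23125)))
theorem Q6920 : ∀ i, i < 6920 → P i := stepQ 6919 Q6919 (allL N6919 (tt N6182 F22209) (tt N5371 (iv D7012)) (tt N6919 F22210) (tt N6195 F22211) (tt N6439 (iv F22213)) (tt N6180 F22214) (tt N6533 F22212) (tt N7817 (iv F24978)))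
theorem Q6921 : ∀ i, i < 6921 → P i := stepQ 6920 Q6920 (allL N6920 (tt N5557 F22215) (tt N6439 F22216) (tt N5372 F22217) (tt N6434 (iv F22220)) (tt N5371 (iv D7013)) (tt N5374 F22218) (tt N6534 F22219) (tt N6921 (iv F22226)))
theorem Q6922 : ∀ i, i < 6922 → P i := stepQ 6921 Q6921 (allL N6921 (tt N5993 F22221) (tt N6180 F22222) (tt N5381 F22223) (tt N6013 F22224) (tt N6912 F22225) (tt N5373 (iv D7014)) (tt N8518 D8611) (tt N6920 F22226))
theorem Q6923 : ∀ i, i < 6923 → P i := stepQ 6922 Q6922 (allL N6922 (tt N7103 (iv F22790)) (tt N5375 F22227) (tt N5382 F22228) (tt N7124 (iv F22857)) (tt N6915 F22229) (tt N8519 D8612) (tt N5373 (iv D7015)) (tt N8520 D8613))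
theorem Q6924 : ∀ i, i < 6924 → P i := stepQ 6923 Q6923 (allL N6923 (tt N5565 F22230) (tt N6905 F22231) (tt N6923 F22232) (tt N5374 (iv D7016)) (tt N8031 (iv F25795)) (tt N6434 F22233) (tt N8521 D8614) (tt N6686 F22234))
theorem Q6925 : ∀ i, i < 6925 → P i := stepQ 6924 Q6924 (allL N6924 (tt N5566 F22235) (tt N6915 F22236) (tt N5376 F22237) (tt N8521 (iv F27486)) (tt N5375 F22238) (tt N6540 F22239) (tt N5374 (iv D7017)) (tt N8522 D8615))
theorem Q6926 : ∀ i, i < 6926 → P i := stepQ 6925 Q6925 (allL N6925 (tt N5568 F22240) (tt N8520 (iv F27480)) (tt N5377 F22241) (tt N8523 D8616) (tt N8522 (iv F27491)) (tt N6541 F22242) (tt N8515 (iv F27466)) (tt N5375 (iv D7018)))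
theorem Q6927 : ∀ i, i < 6927 → P i := stepQ 6926 Q6926 (allL N6926 (tt N5570 F22243) (tt N5385 F22244) (tt N8522 (iv F27490)) (tt N8524 D8617) (tt N5377 F22245) (tt N6542 F22246) (tt N6931 (iv F22258)) (tt N5376 (iv D7019)))
theorem Q6928 : ∀ i, i < 6928 → P i := stepQ 6927 Q6927 (allL N6927 (tt N7890 (iv F25235)) (tt N5378 (iv D7020)) (tt N8525 D8618) (tt N6944 (iv F22293)) (tt N5380 F22247) (tt N8509 (iv F27447)) (tt N6927 F22248) (tt N7223 (iv F23135)))
theorem Q6929 : ∀ i, i < 6929 → P i := stepQ 6928 Q6928 (allL N6928 (tt N7889 (iv F25232)) (tt N6928 F22249) (tt N5380 (iv D7021)) (tt N8526 D8619) (tt N8525 (iv F27502)) (tt N8517 (iv F27471)) (tt N6928 F22250) (tt N7224 (iv F23138)))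
theorem Q6930 : ∀ i, i < 6930 → P i := stepQ 6929 Q6929 (allL N6929 (tt N7098 (iv F22776)) (tt N6929 F22251) (tt N8518 (iv F27474)) (tt N5389 F22252) (tt N6913 F22253) (tt N8527 D8620) (tt N5381 (iv D7022)) (tt N8140 (iv F26175)))
theorem Q6931 : ∀ i, i < 6931 → P i := stepQ 6930 Q6930 (allL N6930 (tt N7106 (iv F22796)) (tt N8528 D8621) (tt N8519 (iv F27478)) (tt N5390 F22254) (tt N6916 F22255) (tt N5382 (iv D7023)) (tt N8527 (iv F27510)) (tt N8529 D8622))
theorem Q6932 : ∀ i, i < 6932 → P i := stepQ 6931 Q6931 (allL N6931 (tt N7107 (iv F22799)) (tt N5384 F22256) (tt N8520 (iv F27481)) (tt N8530 D8623) (tt N6917 F22257) (tt N8529 (iv F27519)) (tt N6926 F22258) (tt N5382 (iv D7024)))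
theorem Q6933 : ∀ i, i < 6933 → P i := stepQ 6932 Q6932 (allL N6932 (tt N5628 F22259) (tt N5383 (iv D7025)) (tt N6564 F22260) (tt N5393 F22261) (tt N6258 F22262) (tt N8528 (iv F27514)) (tt N6932 F22263) (tt N5624 F22264))
theorem Q6934 : ∀ i, i < 6934 → P i := stepQ 6933 Q6933 (allL N6933 (tt N5399 F22265) (tt N8530 (iv F27521)) (tt N6954 (iv F22322)) (tt N5384 (iv D7026)) (tt N6091 (iv F22268)) (tt N5625 F22266) (tt N6934 (iv F22271)) (tt N5395 F22267))
theorem Q6935 : ∀ i, i < 6935 → P i := stepQ 6934 Q6934 (allL N6934 (tt N5400 F22269) (tt N8524 (iv F27498)) (tt N6171 (iv F22273)) (tt N5385 (iv D7027)) (tt N7043 (iv F22618)) (tt N5623 F22270) (tt N6933 F22271) (tt N6934 F22272))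
theorem Q6936 : ∀ i, i < 6936 → P i := stepQ 6935 Q6935 (allL N6935 (tt N5389 F22274) (tt N5878 F22275) (tt N5907 F22276) (tt N7098 (iv F22778)) (tt N6957 (iv F22337)) (tt N8531 D8624) (tt N5386 (iv D7028)) (tt N8532 D8625))
theorem Q6937 : ∀ i, i < 6937 → P i := stepQ 6936 Q6936 (allL N6936 (tt N5390 F22277) (tt N8533 D8626) (tt N8038 (iv F25818)) (tt N7106 (iv F22797)) (tt N7090 (iv F22758)) (tt N5387 (iv D7029)) (tt N8531 (iv F27527)) (tt N8534 D8627))
theorem Q6938 : ∀ i, i < 6938 → P i := stepQ 6937 Q6937 (allL N6937 (tt N5391 F22278) (tt N5402 F22279) (tt N8039 (iv F25823)) (tt N5462 (iv F22281)) (tt N7091 (iv F22761)) (tt N8534 (iv F27537)) (tt N6937 F22280) (tt N5387 (iv D7030)))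
theorem Q6939 : ∀ i, i < 6939 → P i := stepQ 6938 Q6938 (allL N6938 (tt N7090 (iv F22756)) (tt N8535 D8628) (tt N6430 F22282) (tt N6910 F22283) (tt N5390 F22284) (tt N5388 (iv D7031)) (tt N6964 (iv F22355)) (tt N7880 (iv F25200)))
theorem Q6940 : ∀ i, i < 6940 → P i := stepQ 6939 Q6939 (allL N6939 (tt N8531 (iv F27525)) (tt N8536 D8629) (tt N6961 (iv F22344)) (tt N8527 (iv F27508)) (tt N6964 (iv F22354)) (tt N5389 (iv D7032)) (tt N5390 F22285) (tt N8537 D8630))
theorem Q6941 : ∀ i, i < 6941 → P i := stepQ 6940 Q6940 (allL N6940 (tt N8532 (iv F27528)) (tt N6940 F22286) (tt N6962 (iv F22348)) (tt N8538 D8631) (tt N6965 (iv F22358)) (tt N8537 (iv F27544)) (tt N6940 F22287) (tt N5389 (iv D7033)))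
theorem Q6942 : ∀ i, i < 6942 → P i := stepQ 6941 Q6941 (allL N6941 (tt N8539 D8632) (tt N5390 (iv D7034)) (tt N8540 D8633) (tt N8528 (iv F27512)) (tt N8535 (iv F27540)) (tt N5393 F22288) (tt N8536 (iv F27543)) (tt N8541 D8634))
theorem Q6943 : ∀ i, i < 6943 → P i := stepQ 6942 Q6942 (allL N6942 (tt N8534 (iv F27535)) (tt N8541 (iv F27551)) (tt N8041 (iv F25829)) (tt N8542 D8635) (tt N7880 (iv F25199)) (tt N5391 F22289) (tt N8543 D8636) (tt N5390 (iv D7035)))
theorem Q6944 : ∀ i, i < 6944 → P i := stepQ 6943 Q6943 (allL N6943 (tt N5462 F22290) (tt N5395 F22291) (tt N8544 D8637) (tt N5391 (iv D7036)) (tt N8545 D8638) (tt N8542 (iv F27554)) (tt N6943 F22292) (tt N8530 (iv F27523)))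
theorem Q6945 : ∀ i, i < 6945 → P i := stepQ 6944 Q6944 (allL N6944 (tt N8546 D8639) (tt N5392 (iv D7037)) (tt N8547 D8640) (tt N6927 F22293) (tt N5393 F22294) (tt N8535 (iv F27541)) (tt N6944 F22295) (tt N7704 (iv F24627)))
theorem Q6946 : ∀ i, i < 6946 → P i := stepQ 6945 Q6945 (allL N6945 (tt N5393 (iv D7038)) (tt N5404 F22296) (tt N8548 D8641) (tt N5628 F22297) (tt N8546 (iv F27564)) (tt N8539 (iv F27548)) (tt N6945 F22298) (tt N8549 D8642))
theorem Q6947 : ∀ i, i < 6947 → P i := stepQ 6946 Q6946 (allL N6946 (tt N8548 (iv F27569)) (tt N5397 F22299) (tt N5393 (iv D7039)) (tt N6587 F22300) (tt N8547 (iv F27567)) (tt N8540 (iv F27550)) (tt N6946 F22301) (tt N8550 D8643))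
theorem Q6948 : ∀ i, i < 6948 → P i := stepQ 6947 Q6947 (allL N6947 (tt N8549 (iv F27573)) (tt N5394 F22302) (tt N8550 (iv F27578)) (tt N7612 (iv F24408)) (tt N7704 (iv F24626)) (tt N8541 (iv F27552)) (tt N6150 (iv F22303)) (tt N5393 (iv D7040)))
theorem Q6949 : ∀ i, i < 6949 → P i := stepQ 6948 Q6948 (allL N6948 (tt N5406 F22304) (tt N7612 (iv F24406)) (tt N5637 F22305) (tt N5394 (iv D7041)) (tt N8551 D8644) (tt N5395 F22306) (tt N5831 F22307) (tt N5625 F22308))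
theorem Q6950 : ∀ i, i < 6950 → P i := stepQ 6949 Q6949 (allL N6949 (tt N5407 F22309) (tt N8545 (iv F27559)) (tt N6953 (iv F22317)) (tt N7881 (iv F25203)) (tt N5395 (iv D7042)) (tt N8551 (iv F27583)) (tt N6949 F22310) (tt N6091 F22311))
theorem Q6951 : ∀ i, i < 6951 → P i := stepQ 6950 Q6950 (allL N6950 (tt N7020 (iv F22522)) (tt N8547 (iv F27566)) (tt N5396 (iv D7043)) (tt N8552 D8645) (tt N5397 F22312) (tt N7168 (iv F22974)) (tt N6950 F22313) (tt N7628 (iv F24441)))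
theorem Q6952 : ∀ i, i < 6952 → P i := stepQ 6951 Q6951 (allL N6951 (tt N7021 (iv F22526)) (tt N8550 (iv F27577)) (tt N5398 F22314) (tt N8553 D8646) (tt N7628 (iv F24440)) (tt N7169 (iv F22977)) (tt N6148 (iv F22315)) (tt N5397 (iv D7044)))
theorem Q6953 : ∀ i, i < 6953 → P i := stepQ 6952 Q6952 (allL N6952 (tt N7191 (iv F23041)) (tt N5401 (iv D7045)) (tt N8554 D8647) (tt N7133 (iv F22878)) (tt N7127 (iv F22863)) (tt N8533 (iv F27533)) (tt N7377 (iv F23655)) (tt N5448 F22316))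
theorem Q6954 : ∀ i, i < 6954 → P i := stepQ 6953 Q6953 (allL N6953 (tt N5403 (iv D7046)) (tt N8546 (iv F27562)) (tt N6949 F22317) (tt N6261 F22318) (tt N5404 F22319) (tt N7173 (iv F22989)) (tt N6953 F22320) (tt N7702 (iv F24621)))
theorem Q6955 : ∀ i, i < 6955 → P i := stepQ 6954 Q6954 (allL N6954 (tt N5405 F22321) (tt N8549 (iv F27574)) (tt N6933 F22322) (tt N5482 F22323) (tt N7702 (iv F24619)) (tt N5472 F22324) (tt N6171 (iv F22325)) (tt N5404 (iv D7047)))
theorem Q6956 : ∀ i, i < 6956 → P i := stepQ 6955 Q6955 (allL N6955 (tt N8551 (iv F27580)) (tt N5487 F22326) (tt N5615 F22327) (tt N7706 (iv F24634)) (tt N5406 (iv D7048)) (tt N5407 F22328) (tt N5848 F22329) (tt N5504 F22330))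
theorem Q6957 : ∀ i, i < 6957 → P i := stepQ 6956 Q6956 (allL N6956 (tt N7048 (iv F22639)) (tt N5408 (iv D7049)) (tt N7520 (iv F24112)) (tt N7330 (iv F23520)) (tt N5412 F22331) (tt N8046 (iv F25846)) (tt N7497 (iv F24045)) (tt N5439 F22332))
theorem Q6958 : ∀ i, i < 6958 → P i := stepQ 6957 Q6957 (allL N6957 (tt N5415 F22333) (tt N5876 F22334) (tt N5410 F22335) (tt N5538 F22336) (tt N6935 F22337) (tt N8555 D8648) (tt N5409 (iv D7050)) (tt N7903 (iv F25290)))
theorem Q6959 : ∀ i, i < 6959 → P i := stepQ 6958 Q6958 (allL N6958 (tt N5416 F22338) (tt N8556 D8649) (tt N8555 (iv F27599)) (tt N5622 F22339) (tt N7495 (iv F24038)) (tt N5410 (iv D7051)) (tt N8047 (iv F25854)) (tt N7906 (iv F25301)))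
theorem Q6960 : ∀ i, i < 6960 → P i := stepQ 6959 Q6959 (allL N6959 (tt N7052 (iv F22651)) (tt N5411 (iv D7052)) (tt N8557 D8650) (tt N5552 F22340) (tt N7497 (iv F24044)) (tt N8556 (iv F27604)) (tt N5412 F22341) (tt N5435 F22342))
theorem Q6961 : ∀ i, i < 6961 → P i := stepQ 6960 Q6960 (allL N6960 (tt N7053 (iv F22655)) (tt N8554 (iv F27595)) (tt N5412 (iv D7053)) (tt N8558 D8651) (tt N7520 (iv F24113)) (tt N8050 (iv F25867)) (tt N8557 (iv F27608)) (tt N5438 F22343))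
theorem Q6962 : ∀ i, i < 6962 → P i := stepQ 6961 Q6961 (allL N6961 (tt N7495 (iv F24036)) (tt N7059 (iv F22679)) (tt N6939 F22344) (tt N7622 (iv F24430)) (tt N5416 F22345) (tt N5413 (iv D7054)) (tt N6412 F22346) (tt N8559 D8652))
theorem Q6963 : ∀ i, i < 6963 → P i := stepQ 6962 Q6962 (allL N6962 (tt N7496 (iv F24039)) (tt N5414 F22347) (tt N6940 F22348) (tt N8560 D8653) (tt N5417 F22349) (tt N8559 (iv F27613)) (tt N6962 F22350) (tt N5413 (iv D7055)))
theorem Q6964 : ∀ i, i < 6964 → P i := stepQ 6963 Q6963 (allL N6963 (tt N5418 F22351) (tt N8560 (iv F27614)) (tt N8561 D8654) (tt N5414 (iv D7056)) (tt N7952 (iv F25465)) (tt N7061 (iv F22685)) (tt N6963 F22352) (tt N7028 F22556))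
theorem Q6965 : ∀ i, i < 6965 → P i := stepQ 6964 Q6964 (allL N6964 (tt N8555 (iv F27598)) (tt N8562 D8655) (tt N5416 F22353) (tt N8508 (iv F27443)) (tt N6939 F22354) (tt N5415 (iv D7057)) (tt N6938 F22355) (tt N8563 D8656))
theorem Q6966 : ∀ i, i < 6966 → P i := stepQ 6965 Q6965 (allL N6965 (tt N7903 F25291) (tt N6965 F22356) (tt N5417 F22357) (tt N8564 D8657) (tt N6940 F22358) (tt N8563 (iv F27626)) (tt N6965 F22359) (tt N5415 (iv D7058)))
theorem Q6967 : ∀ i, i < 6967 → P i := stepQ 6966 Q6966 (allL N6966 (tt N7906 (iv F25298)) (tt N7065 (iv F22696)) (tt N8563 (iv F27624)) (tt N7943 (iv F25438)) (tt N8559 (iv F27612)) (tt N5417 F22360) (tt N8565 D8658) (tt N5416 (iv D7059)))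
theorem Q6968 : ∀ i, i < 6968 → P i := stepQ 6967 Q6967 (allL N6967 (tt N8561 (iv F27616)) (tt N6967 F22361) (tt N5418 (iv D7060)) (tt N6967 F22362) (tt N7953 (iv F25470)) (tt N7068 (iv F22708)) (tt N6967 F22363) (tt N7036 F22587))
theorem Q6969 : ∀ i, i < 6969 → P i := stepQ 6968 Q6968 (allL N6968 (tt N7207 (iv F23083)) (tt N8099 (iv F26038)) (tt N5426 F22364) (tt N8102 (iv F26057)) (tt N5422 F22365) (tt N5524 F22366) (tt N5419 (iv D7061)) (tt N8566 D8659))
theorem Q6970 : ∀ i, i < 6970 → P i := stepQ 6969 Q6969 (allL N6969 (tt N6110 F22367) (tt N5809 F22368) (tt N5427 F22369) (tt N8567 D8660) (tt N5423 F22370) (tt N5420 F22371) (tt N8568 D8661) (tt N5419 (iv D7062)))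
theorem Q6971 : ∀ i, i < 6971 → P i := stepQ 6970 Q6970 (allL N6970 (tt N7208 (iv F23087)) (tt N5671 F22372) (tt N8569 D8662) (tt N5420 (iv D7063)) (tt N8570 D8663) (tt N8567 (iv F27637)) (tt N8571 D8664) (tt N8389 (iv F27005)))
theorem Q6972 : ∀ i, i < 6972 → P i := stepQ 6971 Q6971 (allL N6971 (tt N7209 (iv F23089)) (tt N5672 F22373) (tt N5429 F22374) (tt N8571 (iv F27654)) (tt N5425 F22375) (tt N8572 D8665) (tt N5420 (iv D7064)) (tt N5526 F22376))
theorem Q6973 : ∀ i, i < 6973 → P i := stepQ 6972 Q6972 (allL N6972 (tt N5837 F22377) (tt N5422 F22378) (tt N6972 F22379) (tt N5524 F22380) (tt N8099 (iv F26041)) (tt N8102 (iv F26059)) (tt N5421 (iv D7065)) (tt N8573 D8666))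
theorem Q6974 : ∀ i, i < 6974 → P i := stepQ 6973 Q6973 (allL N6973 (tt N7210 (iv F23094)) (tt N8573 (iv F27659)) (tt N5430 F22381) (tt N8574 D8667) (tt N8566 (iv F27631)) (tt N5530 F22382) (tt N8575 D8668) (tt N5422 (iv D7066)))
theorem Q6975 : ∀ i, i < 6975 → P i := stepQ 6974 Q6974 (allL N6974 (tt N6111 F22383) (tt N5810 F22384) (tt N5432 F22385) (tt N5799 F22386) (tt N8568 (iv F27641)) (tt N8576 D8669) (tt N5423 (iv D7067)) (tt N8575 (iv F27666)))
theorem Q6976 : ∀ i, i < 6976 → P i := stepQ 6975 Q6975 (allL N6975 (tt N6063 F22387) (tt N5674 F22388) (tt N5782 F22389) (tt N8570 (iv F27650)) (tt N5424 (iv D7068)) (tt N5796 F22390) (tt N8577 D8670) (tt N7358 (iv F23590)))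
theorem Q6977 : ∀ i, i < 6977 → P i := stepQ 6976 Q6976 (allL N6976 (tt N6066 F22391) (tt N5675 F22392) (tt N5784 F22393) (tt N5425 F22394) (tt N8577 (iv F27674)) (tt N8578 D8671) (tt N5424 (iv D7069)) (tt N8579 D8672))
theorem Q6978 : ∀ i, i < 6978 → P i := stepQ 6977 Q6977 (allL N6977 (tt N7211 (iv F23097)) (tt N8580 D8673) (tt N5436 F22395) (tt N8578 (iv F27677)) (tt N8572 (iv F27656)) (tt N5425 (iv D7070)) (tt N8576 (iv F27670)) (tt N5536 F22396))
theorem Q6979 : ∀ i, i < 6979 → P i := stepQ 6978 Q6978 (allL N6978 (tt N7212 (iv F23100)) (tt N6978 F22397) (tt N8566 (iv F27630)) (tt N8581 D8674) (tt N5430 F22398) (tt N5537 F22399) (tt N8582 D8675) (tt N5426 (iv D7071)))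
theorem Q6980 : ∀ i, i < 6980 → P i := stepQ 6979 Q6979 (allL N6979 (tt N7213 (iv F23104)) (tt N6979 F22400) (tt N7684 (iv F24581)) (tt N5427 (iv D7072)) (tt N7518 (iv F24103)) (tt N5428 F22401) (tt N8583 D8676) (tt N6979 F22402))
theorem Q6981 : ∀ i, i < 6981 → P i := stepQ 6980 Q6980 (allL N6980 (tt N7214 (iv F23108)) (tt N6980 F22403) (tt N8568 (iv F27640)) (tt N8583 (iv F27692)) (tt N5432 F22404) (tt N8584 D8677) (tt N5427 (iv D7073)) (tt N8582 (iv F27690)))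
theorem Q6982 : ∀ i, i < 6982 → P i := stepQ 6981 Q6981 (allL N6981 (tt N7215 (iv F23111)) (tt N6981 F22405) (tt N5428 (iv D7074)) (tt N8569 (iv F27643)) (tt N7682 F24576) (tt N7684 (iv F24582)) (tt N8585 D8678) (tt N6981 F22406))
theorem Q6983 : ∀ i, i < 6983 → P i := stepQ 6982 Q6982 (allL N6982 (tt N7201 (iv F23061)) (tt N5440 F22407) (tt N7682 (iv F24573)) (tt N5434 F22408) (tt N5428 (iv D7075)) (tt N7518 (iv F24104)) (tt N8586 D8679) (tt N6982 F22409))
theorem Q6984 : ∀ i, i < 6984 → P i := stepQ 6983 Q6983 (allL N6983 (tt N7216 (iv F23113)) (tt N5441 F22410) (tt N8585 (iv F27696)) (tt N5429 F22411) (tt N8586 (iv F27699)) (tt N8587 D8680) (tt N5428 (iv D7076)) (tt N8588 D8681))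
theorem Q6985 : ∀ i, i < 6985 → P i := stepQ 6984 Q6984 (allL N6984 (tt N7217 (iv F23116)) (tt N7945 (iv F25442)) (tt N8572 (iv F27655)) (tt N8587 (iv F27700)) (tt N5436 F22412) (tt N5429 (iv D7077)) (tt N8584 (iv F27694)) (tt N5540 F22413))
theorem Q6986 : ∀ i, i < 6986 → P i := stepQ 6985 Q6985 (allL N6985 (tt N7218 (iv F23119)) (tt N6985 F22414) (tt N8575 (iv F27665)) (tt N8293 (iv F26680)) (tt N8582 (iv F27689)) (tt N8589 D8682) (tt N5430 (iv D7078)) (tt N5432 F22415))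
theorem Q6987 : ∀ i, i < 6987 → P i := stepQ 6986 Q6986 (allL N6986 (tt N6102 F22416) (tt N6986 F22417) (tt N5795 F22418) (tt N5432 F22419) (tt N7519 (iv F24109)) (tt N8590 D8683) (tt N5431 (iv D7079)) (tt N7532 (iv F24153)))
theorem Q6988 : ∀ i, i < 6988 → P i := stepQ 6987 Q6987 (allL N6987 (tt N7219 (iv F23122)) (tt N7946 (iv F25445)) (tt N8576 (iv F27668)) (tt N8590 (iv F27709)) (tt N8584 (iv F27693)) (tt N5432 (iv D7080)) (tt N5436 F22420) (tt N8589 (iv F27706)))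
theorem Q6989 : ∀ i, i < 6989 → P i := stepQ 6988 Q6988 (allL N6988 (tt N6054 F22421) (tt N5777 F22422) (tt N5435 F22423) (tt N5784 F22424) (tt N7521 (iv F24119)) (tt N8591 D8684) (tt N5433 (iv D7081)) (tt N8557 (iv F27609)))
theorem Q6990 : ∀ i, i < 6990 → P i := stepQ 6989 Q6989 (allL N6989 (tt N7202 (iv F23065)) (tt N5444 F22425) (tt N7521 (iv F24117)) (tt N8586 (iv F27698)) (tt N5435 F22426) (tt N8592 D8685) (tt N5434 (iv D7082)) (tt N7497 (iv F24046)))
theorem Q6991 : ∀ i, i < 6991 → P i := stepQ 6990 Q6990 (allL N6990 (tt N7203 (iv F23068)) (tt N7906 (iv F25299)) (tt N8591 (iv F27712)) (tt N5436 F22427) (tt N8592 (iv F27715)) (tt N5435 (iv D7083)) (tt N8590 (iv F27710)) (tt N8556 (iv F27605)))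
theorem Q6992 : ∀ i, i < 6992 → P i := stepQ 6991 Q6991 (allL N6991 (tt N5774 F22428) (tt N5438 F22429) (tt N5448 F22430) (tt N7140 (iv F22902)) (tt N7154 (iv F22943)) (tt N8593 D8686) (tt N5437 (iv D7084)) (tt N8554 (iv F27597)))
theorem Q6993 : ∀ i, i < 6993 → P i := stepQ 6992 Q6992 (allL N6992 (tt N5467 F22431) (tt N8586 (iv F27697)) (tt N6992 F22432) (tt N5444 F22433) (tt N5441 F22434) (tt N7016 (iv F22513)) (tt N5440 (iv D7085)) (tt N7015 (iv F22508)))
theorem Q6994 : ∀ i, i < 6994 → P i := stepQ 6993 Q6993 (allL N6993 (tt N5468 F22435) (tt N8588 (iv F27702)) (tt N6993 F22436) (tt N5572 F22437) (tt N7015 (iv F22506)) (tt N7000 (iv F22465)) (tt N6993 F22438) (tt N5441 (iv D7086)))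
theorem Q6995 : ∀ i, i < 6995 → P i := stepQ 6994 Q6994 (allL N6994 (tt N5446 F22439) (tt N5470 F22440) (tt N5772 F22441) (tt N8594 D8687) (tt N5445 (iv D7087)) (tt N5756 F22442) (tt N8595 D8688) (tt N5764 F22443))
theorem Q6996 : ∀ i, i < 6996 → P i := stepQ 6995 Q6995 (allL N6995 (tt N5448 F22444) (tt N5472 F22445) (tt N5774 F22446) (tt N5453 F22447) (tt N8595 (iv F27728)) (tt N8596 D8689) (tt N5445 (iv D7088)) (tt N7191 (iv F23044)))
theorem Q6997 : ∀ i, i < 6997 → P i := stepQ 6996 Q6996 (allL N6996 (tt N8594 (iv F27719)) (tt N5449 F22448) (tt N6574 F22449) (tt N5446 (iv D7089)) (tt N5454 F22450) (tt N6573 F22451) (tt N8597 D8690) (tt N6996 F22452))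
theorem Q6998 : ∀ i, i < 6998 → P i := stepQ 6997 Q6997 (allL N6997 (tt N8595 (iv F27725)) (tt N5450 F22453) (tt N7154 (iv F22941)) (tt N8597 (iv F27735)) (tt N5448 F22454) (tt N8598 D8691) (tt N5446 (iv D7090)) (tt N7127 (iv F22865)))
theorem Q6999 : ∀ i, i < 6999 → P i := stepQ 6998 Q6998 (allL N6998 (tt N5757 F22455) (tt N6998 F22456) (tt N5771 F22457) (tt N5457 F22458) (tt N7153 (iv F22939)) (tt N8599 D8692) (tt N5447 (iv D7091)) (tt N7716 (iv F24677)))
theorem Q7000 : ∀ i, i < 7000 → P i := stepQ 6999 Q6999 (allL N6999 (tt N8596 (iv F27729)) (tt N8534 (iv F27536)) (tt N8593 (iv F27717)) (tt N5458 F22459) (tt N8598 (iv F27738)) (tt N5448 (iv D7092)) (tt N8599 (iv F27742)) (tt N8533 F27534))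
theorem Q7001 : ∀ i, i < 7001 → P i := stepQ 7000 Q7000 (allL N7000 (tt N5476 F22460) (tt N8597 (iv F27733)) (tt N7000 F22461) (tt N5450 F22462) (tt N5460 F22463) (tt N6993 F22465) (tt N5449 (iv D7093)) (tt N6315 (iv F22464)))
theorem Q7002 : ∀ i, i < 7002 → P i := stepQ 7001 Q7001 (allL N7001 (tt N5454 F22466) (tt N5477 F22467) (tt N8600 D8693) (tt N5451 (iv D7094)) (tt N8594 (iv F27722)) (tt N8601 D8694) (tt N8602 D8695) (tt N7001 F22468))
theorem Q7003 : ∀ i, i < 7003 → P i := stepQ 7002 Q7002 (allL N7002 (tt N5455 F22469) (tt N5744 (iv F22472)) (tt N8073 (iv F25951)) (tt N8601 (iv F27752)) (tt N5452 F22470) (tt N5451 (iv D7095)) (tt N8603 D8696) (tt N5681 F22471))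
theorem Q7004 : ∀ i, i < 7004 → P i := stepQ 7003 Q7003 (allL N7003 (tt N5456 F22473) (tt N5479 F22474) (tt N8074 (iv F25956)) (tt N8602 (iv F27757)) (tt N5453 F22475) (tt N8604 D8697) (tt N5451 (iv D7096)) (tt N6034 F22476))
theorem Q7005 : ∀ i, i < 7005 → P i := stepQ 7004 Q7004 (allL N7004 (tt N5457 F22477) (tt N5745 F22478) (tt N8075 (iv F25961)) (tt N5757 F22479) (tt N8603 (iv F27761)) (tt N8605 D8698) (tt N5452 (iv D7097)) (tt N8606 D8699))
theorem Q7006 : ∀ i, i < 7006 → P i := stepQ 7005 Q7005 (allL N7005 (tt N5458 F22480) (tt N8607 D8700) (tt N8076 (iv F25964)) (tt N8596 (iv F27731)) (tt N8604 (iv F27763)) (tt N5453 (iv D7098)) (tt N8605 (iv F27767)) (tt N7185 (iv F23026)))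
theorem Q7007 : ∀ i, i < 7007 → P i := stepQ 7006 Q7006 (allL N7006 (tt N8600 (iv F27743)) (tt N7006 F22481) (tt N5454 (iv D7099)) (tt N6558 F22482) (tt N6574 F22483) (tt N6557 (iv F22485)) (tt N8608 D8701) (tt N7006 F22484))
theorem Q7008 : ∀ i, i < 7008 → P i := stepQ 7007 Q7007 (allL N7007 (tt N8601 (iv F27749)) (tt N7007 F22486) (tt N6557 F22487) (tt N5455 F22488) (tt N6573 F22489) (tt N5454 (iv D7100)) (tt N8609 D8702) (tt N7007 F22490))
theorem Q7009 : ∀ i, i < 7009 → P i := stepQ 7008 Q7008 (allL N7008 (tt N8602 (iv F27755)) (tt N5460 F22491) (tt N8608 (iv F27774)) (tt N5456 F22492) (tt N8597 (iv F27736)) (tt N8610 D8703) (tt N5454 (iv D7101)) (tt N8611 D8704))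
theorem Q7010 : ∀ i, i < 7010 → P i := stepQ 7009 Q7009 (allL N7009 (tt N8603 (iv F27759)) (tt N7009 F22493) (tt N8078 (iv F25967)) (tt N8609 (iv F27779)) (tt N5457 F22494) (tt N8612 D8705) (tt N5455 (iv D7102)) (tt N8613 D8706))
theorem Q7011 : ∀ i, i < 7011 → P i := stepQ 7010 Q7010 (allL N7010 (tt N8604 (iv F27762)) (tt N8614 D8707) (tt N8079 (iv F25969)) (tt N8610 (iv F27781)) (tt N5458 F22495) (tt N5456 (iv D7103)) (tt N8612 (iv F27788)) (tt N6036 F22496))
theorem Q7012 : ∀ i, i < 7012 → P i := stepQ 7011 Q7011 (allL N7011 (tt N8605 (iv F27765)) (tt N8615 D8708) (tt N8080 (iv F25972)) (tt N8599 (iv F27741)) (tt N8612 (iv F27787)) (tt N5457 (iv D7104)) (tt N5458 F22497) (tt N8616 D8709))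
theorem Q7013 : ∀ i, i < 7013 → P i := stepQ 7012 Q7012 (allL N7012 (tt N8606 (iv F27768)) (tt N7012 F22498) (tt N8081 (iv F25974)) (tt N8617 D8710) (tt N8613 (iv F27790)) (tt N8616 (iv F27797)) (tt N5686 F22499) (tt N5457 (iv D7105)))
theorem Q7014 : ∀ i, i < 7014 → P i := stepQ 7013 Q7013 (allL N7013 (tt N8542 (iv F27553)) (tt N5458 (iv D7106)) (tt N8618 D8711) (tt N8534 F27538) (tt N8614 (iv F27792)) (tt N5462 F22500) (tt N8615 (iv F27796)) (tt N8619 D8712))
theorem Q7015 : ∀ i, i < 7015 → P i := stepQ 7014 Q7014 (allL N7014 (tt N7185 (iv F23023)) (tt N8619 (iv F27801)) (tt N8083 (iv F25977)) (tt N7177 (iv F23003)) (tt N6036 F22501) (tt N5459 F22502) (tt N8620 D8713) (tt N5458 (iv D7107)))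
theorem Q7016 : ∀ i, i < 7016 → P i := stepQ 7015 Q7015 (allL N7015 (tt N5490 F22503) (tt N8621 D8714) (tt N7015 F22504) (tt N5461 F22505) (tt N6993 F22506) (tt N5460 (iv D7108)) (tt N7015 F22507) (tt N6992 F22508))
theorem Q7017 : ∀ i, i < 7017 → P i := stepQ 7016 Q7016 (allL N7016 (tt N5491 F22509) (tt N8611 (iv F27783)) (tt N7016 F22510) (tt N5909 F22511) (tt N6315 F22512) (tt N6992 F22513) (tt N7016 F22514) (tt N5460 (iv D7109)))
theorem Q7018 : ∀ i, i < 7018 → P i := stepQ 7017 Q7017 (allL N7017 (tt N8545 (iv F27558)) (tt N5461 (iv D7110)) (tt N8622 D8715) (tt N8621 (iv F27808)) (tt N5462 F22515) (tt N8614 (iv F27793)) (tt N7017 F22516) (tt N6037 F22517))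
theorem Q7019 : ∀ i, i < 7019 → P i := stepQ 7018 Q7018 (allL N7018 (tt N8544 (iv F27556)) (tt N5465 F22518) (tt N5462 (iv D7111)) (tt N7544 (iv F24193)) (tt N8622 (iv F27813)) (tt N8618 (iv F27800)) (tt N7018 F22519) (tt N8623 D8716))
theorem Q7020 : ∀ i, i < 7020 → P i := stepQ 7019 Q7019 (allL N7019 (tt N8530 (iv F27520)) (tt N5463 F22520) (tt N8623 (iv F27817)) (tt N7107 (iv F22801)) (tt N6037 F22521) (tt N8619 (iv F27803)) (tt N7126 (iv F22860)) (tt N5462 (iv D7112)))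
theorem Q7021 : ∀ i, i < 7021 → P i := stepQ 7020 Q7020 (allL N7020 (tt N6950 F22522) (tt N8622 (iv F27812)) (tt N5464 (iv D7113)) (tt N7548 (iv F24209)) (tt N5465 F22523) (tt N7541 F24185) (tt N7020 F22524) (tt N6039 F22525))
theorem Q7022 : ∀ i, i < 7022 → P i := stepQ 7021 Q7021 (allL N7021 (tt N6951 F22526) (tt N8623 (iv F27816)) (tt N5466 F22527) (tt N8624 D8717) (tt N6039 F22528) (tt N7542 (iv F24188)) (tt N7744 (iv F24761)) (tt N5465 (iv D7114)))
theorem Q7023 : ∀ i, i < 7023 → P i := stepQ 7022 Q7022 (allL N7022 (tt N5473 F22529) (tt N8594 (iv F27720)) (tt N7027 (iv F22550)) (tt N5470 (iv D7115)) (tt N5477 F22530) (tt N7026 F22548) (tt N8625 D8718) (tt N7022 F22531))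
theorem Q7024 : ∀ i, i < 7024 → P i := stepQ 7023 Q7023 (allL N7023 (tt N5474 F22532) (tt N8595 (iv F27726)) (tt N7042 (iv F22612)) (tt N8625 (iv F27822)) (tt N5472 F22533) (tt N7702 (iv F24620)) (tt N5470 (iv D7116)) (tt N7173 (iv F22991)))
theorem Q7025 : ∀ i, i < 7025 → P i := stepQ 7024 Q7024 (allL N7024 (tt N5475 F22534) (tt N5753 F22535) (tt N5623 F22536) (tt N5481 F22537) (tt N7041 (iv F22608)) (tt N6171 F22538) (tt N5471 (iv D7117)) (tt N7024 F22539))
theorem Q7026 : ∀ i, i < 7026 → P i := stepQ 7025 Q7025 (allL N7025 (tt N8625 (iv F27821)) (tt N5476 F22540) (tt N7037 (iv F22589)) (tt N5474 F22541) (tt N5485 F22542) (tt N7703 (iv F24624)) (tt N5473 (iv D7118)) (tt N6321 (iv F22543)))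
theorem Q7027 : ∀ i, i < 7027 → P i := stepQ 7026 Q7026 (allL N7026 (tt N5483 F22544) (tt N6826 (iv F22547)) (tt N5477 (iv D7119)) (tt N5492 F22545) (tt N7027 (iv F22552)) (tt N7022 (iv F22548)) (tt N8626 D8719) (tt N7026 F22546))
theorem Q7028 : ∀ i, i < 7028 → P i := stepQ 7027 Q7027 (allL N7027 (tt N5484 F22549) (tt N8430 (iv F27139)) (tt N7022 F22550) (tt N5478 F22551) (tt N7026 F22552) (tt N5477 (iv D7120)) (tt N8627 D8720) (tt N7027 F22553))
theorem Q7029 : ∀ i, i < 7029 → P i := stepQ 7028 Q7028 (allL N7028 (tt N5485 F22554) (tt N8602 (iv F27756)) (tt N8626 (iv F27827)) (tt N5479 F22555) (tt N8625 (iv F27823)) (tt N8628 D8721) (tt N5477 (iv D7121)) (tt N6963 (iv F22556)))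
theorem Q7030 : ∀ i, i < 7030 → P i := stepQ 7029 Q7029 (allL N7029 (tt N7029 F22557) (tt N5478 (iv D7122)) (tt N5741 (iv F22561)) (tt N8430 (iv F27140)) (tt N5480 F22558) (tt N5744 F22559) (tt N8629 D8722) (tt N5690 F22560))
theorem Q7031 : ∀ i, i < 7031 → P i := stepQ 7030 Q7030 (allL N7030 (tt N5486 F22562) (tt N8629 (iv F27840)) (tt N5496 F22563) (tt N8627 (iv F27833)) (tt N5481 F22564) (tt N8630 D8723) (tt N5478 (iv D7123)) (tt N8631 D8724))
theorem Q7032 : ∀ i, i < 7032 → P i := stepQ 7031 Q7031 (allL N7031 (tt N5487 F22565) (tt N8632 D8725) (tt N5497 F22566) (tt N8628 (iv F27837)) (tt N5482 F22567) (tt N5479 (iv D7124)) (tt N8630 (iv F27850)) (tt N5509 F22568))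
theorem Q7033 : ∀ i, i < 7033 → P i := stepQ 7032 Q7032 (allL N7032 (tt N7032 F22569) (tt N5481 F22570) (tt N5742 F22571) (tt N5753 F22572) (tt N8629 (iv F27843)) (tt N8633 D8726) (tt N5480 (iv D7125)) (tt N8634 D8727))
theorem Q7034 : ∀ i, i < 7034 → P i := stepQ 7033 Q7033 (allL N7033 (tt N5488 F22573) (tt N7621 (iv F24426)) (tt N5500 F22574) (tt N6171 F22575) (tt N8630 (iv F27849)) (tt N5481 (iv D7126)) (tt N5482 F22576) (tt N5647 (iv F22577)))
theorem Q7035 : ∀ i, i < 7035 → P i := stepQ 7034 Q7034 (allL N7034 (tt N5489 F22578) (tt N8634 (iv F27871)) (tt N5501 F22579) (tt N7034 F22580) (tt N8631 (iv F27856)) (tt N5647 F22581) (tt N5693 F22582) (tt N5481 (iv D7127)))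
theorem Q7036 : ∀ i, i < 7036 → P i := stepQ 7035 Q7035 (allL N7035 (tt N7612 (iv F24405)) (tt N5482 (iv D7128)) (tt N7635 (iv F24455)) (tt N8549 (iv F27575)) (tt N8632 (iv F27860)) (tt N8607 (iv F27771)) (tt N7621 (iv F24428)) (tt N5626 F22583))
theorem Q7037 : ∀ i, i < 7037 → P i := stepQ 7036 Q7036 (allL N7036 (tt N8626 (iv F27825)) (tt N7036 F22584) (tt N5485 F22585) (tt N5503 F22586) (tt N7037 (iv F22591)) (tt N7812 (iv F24963)) (tt N5483 (iv D7129)) (tt N6967 (iv F22587)))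
theorem Q7038 : ∀ i, i < 7038 → P i := stepQ 7037 Q7037 (allL N7037 (tt N8627 (iv F27830)) (tt N7037 F22588) (tt N7025 F22589) (tt N5486 F22590) (tt N7036 F22591) (tt N8635 D8728) (tt N5484 (iv D7130)) (tt N7953 (iv F25473)))
theorem Q7039 : ∀ i, i < 7039 → P i := stepQ 7038 Q7038 (allL N7038 (tt N8628 (iv F27836)) (tt N7706 (iv F24632)) (tt N7812 (iv F24962)) (tt N5487 F22592) (tt N7703 (iv F24623)) (tt N5485 (iv D7131)) (tt N8635 (iv F27880)) (tt N5522 F22593))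
theorem Q7040 : ∀ i, i < 7040 → P i := stepQ 7039 Q7039 (allL N7039 (tt N8630 (iv F27846)) (tt N5848 F22597) (tt N5506 F22594) (tt N8635 (iv F27878)) (tt N5488 F22595) (tt N5486 (iv D7132)) (tt N5487 F22596) (tt N5520 F22598))
theorem Q7041 : ∀ i, i < 7041 → P i := stepQ 7040 Q7040 (allL N7040 (tt N8631 (iv F27852)) (tt N7040 F22599) (tt N5507 F22600) (tt N5733 (iv F22604)) (tt N5489 F22601) (tt N5520 F22602) (tt N5521 F22603) (tt N5486 (iv D7133)))
theorem Q7042 : ∀ i, i < 7042 → P i := stepQ 7041 Q7041 (allL N7041 (tt N5503 F22605) (tt N6827 F22606) (tt N5494 F22607) (tt N8626 (iv F27828)) (tt N7024 F22608) (tt N7811 (iv F24958)) (tt N5492 (iv D7134)) (tt N7041 F22609))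
theorem Q7043 : ∀ i, i < 7043 → P i := stepQ 7042 Q7042 (allL N7042 (tt N5504 F22610) (tt N6824 F22611) (tt N7023 F22612) (tt N5496 F22613) (tt N5625 F22614) (tt N6091 (iv F22615)) (tt N5493 (iv D7135)) (tt N8551 (iv F27585)))
theorem Q7044 : ∀ i, i < 7044 → P i := stepQ 7043 Q7043 (allL N7043 (tt N5505 F22616) (tt N8636 D8729) (tt N7811 (iv F24957)) (tt N5497 F22617) (tt N6934 F22618) (tt N5494 (iv D7136)) (tt N6091 F22619) (tt N7043 F22620))
theorem Q7045 : ∀ i, i < 7045 → P i := stepQ 7044 Q7044 (allL N7044 (tt N5512 F22621) (tt N5741 F22622) (tt N5495 (iv D7137)) (tt N7358 (iv F23587)) (tt N5498 F22623) (tt N6825 F22624) (tt N8637 D8730) (tt N5694 F22625))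
theorem Q7046 : ∀ i, i < 7046 → P i := stepQ 7045 Q7045 (allL N7045 (tt N5513 F22626) (tt N5496 F22627) (tt N8637 (iv F27891)) (tt N6824 F22628) (tt N5499 F22629) (tt N8638 D8731) (tt N5495 (iv D7138)) (tt N8639 D8732))
theorem Q7047 : ∀ i, i < 7047 → P i := stepQ 7046 Q7046 (allL N7046 (tt N5506 F22630) (tt N8640 D8733) (tt N8630 (iv F27848)) (tt N6091 F22631) (tt N5500 F22632) (tt N5496 (iv D7139)) (tt N5497 F22633) (tt N5651 F22634))
theorem Q7048 : ∀ i, i < 7048 → P i := stepQ 7047 Q7047 (allL N7047 (tt N5507 F22635) (tt N8639 (iv F27898)) (tt N8631 (iv F27854)) (tt N8641 D8734) (tt N5501 F22636) (tt N5651 F22637) (tt N5696 F22638) (tt N5496 (iv D7140)))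
theorem Q7049 : ∀ i, i < 7049 → P i := stepQ 7048 Q7048 (allL N7048 (tt N6956 F22639) (tt N5497 (iv D7141)) (tt N7512 (iv F24086)) (tt N8636 (iv F27884)) (tt N5502 F22640) (tt N7494 (iv F24035)) (tt N8640 (iv F27904)) (tt N5630 F22641))
theorem Q7050 : ∀ i, i < 7050 → P i := stepQ 7049 Q7049 (allL N7049 (tt N5516 F22642) (tt N5742 F22643) (tt N5499 F22644) (tt N5740 F22645) (tt N8637 (iv F27892)) (tt N8642 D8735) (tt N5498 (iv D7142)) (tt N8643 D8736))
theorem Q7051 : ∀ i, i < 7051 → P i := stepQ 7050 Q7050 (allL N7050 (tt N5517 F22646) (tt N8644 D8737) (tt N8642 (iv F27912)) (tt N7197 (iv F23052)) (tt N8638 (iv F27895)) (tt N5499 (iv D7143)) (tt N8094 (iv F26025)) (tt N8645 D8738))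
theorem Q7052 : ∀ i, i < 7052 → P i := stepQ 7051 Q7051 (allL N7051 (tt N5518 F22647) (tt N5501 F22648) (tt N8643 (iv F27916)) (tt N5669 F22649) (tt N8639 (iv F27899)) (tt N8645 (iv F27925)) (tt N5699 F22650) (tt N5499 (iv D7144)))
theorem Q7053 : ∀ i, i < 7053 → P i := stepQ 7052 Q7052 (allL N7052 (tt N6959 F22651) (tt N5500 (iv D7145)) (tt N7652 (iv F24490)) (tt N6917 F22652) (tt N8640 (iv F27903)) (tt N8644 (iv F27920)) (tt N5502 F22653) (tt N5649 F22654))
theorem Q7054 : ∀ i, i < 7054 → P i := stepQ 7053 Q7053 (allL N7053 (tt N6960 F22655) (tt N7635 (iv F24454)) (tt N5502 (iv D7146)) (tt N8646 D8739) (tt N7512 (iv F24087)) (tt N7511 (iv F24085)) (tt N7652 (iv F24491)) (tt N5629 F22656))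
theorem Q7055 : ∀ i, i < 7055 → P i := stepQ 7054 Q7054 (allL N7054 (tt N8641 (iv F27906)) (tt N5522 F22657) (tt N7711 (iv F24654)) (tt N5507 (iv D7147)) (tt N5670 F22658) (tt N5653 F22659) (tt N5702 F22660) (tt N7706 (iv F24637)))
theorem Q7056 : ∀ i, i < 7056 → P i := stepQ 7055 Q7055 (allL N7055 (tt N6824 F22661) (tt N5509 F22662) (tt N7352 (iv F23576)) (tt N5513 F22663) (tt N5626 F22664) (tt N8647 D8740) (tt N5508 (iv D7148)) (tt N8632 (iv F27862)))
theorem Q7057 : ∀ i, i < 7057 → P i := stepQ 7056 Q7056 (allL N7056 (tt N5520 F22665) (tt N6819 F22666) (tt N5651 F22667) (tt N5712 F22668) (tt N5647 F22669) (tt N8631 (iv F27857)) (tt N5510 (iv D7149)) (tt N8630 (iv F27851)))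
theorem Q7058 : ∀ i, i < 7058 → P i := stepQ 7057 Q7057 (allL N7057 (tt N5521 F22670) (tt N6836 F22671) (tt N5696 F22672) (tt N5713 F22673) (tt N5693 F22674) (tt N5511 (iv D7150)) (tt N8631 (iv F27858)) (tt N5691 F22675))
theorem Q7059 : ∀ i, i < 7059 → P i := stepQ 7058 Q7058 (allL N7058 (tt N8637 (iv F27889)) (tt N7058 F22676) (tt N5513 F22677) (tt N7524 (iv F24127)) (tt N5516 F22678) (tt N8648 D8741) (tt N5512 (iv D7151)) (tt N8649 D8742))
theorem Q7060 : ∀ i, i < 7060 → P i := stepQ 7059 Q7059 (allL N7059 (tt N8638 (iv F27893)) (tt N6961 F22679) (tt N8648 (iv F27933)) (tt N8647 (iv F27930)) (tt N5517 F22680) (tt N5513 (iv D7152)) (tt N8040 (iv F25828)) (tt N8650 D8743))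
theorem Q7061 : ∀ i, i < 7061 → P i := stepQ 7060 Q7060 (allL N7060 (tt N8639 (iv F27897)) (tt N5514 F22681) (tt N8649 (iv F27936)) (tt N8651 D8744) (tt N5518 F22682) (tt N8650 (iv F27941)) (tt N5717 F22683) (tt N5513 (iv D7153)))
theorem Q7062 : ∀ i, i < 7062 → P i := stepQ 7061 Q7061 (allL N7061 (tt N5522 F22684) (tt N8651 (iv F27942)) (tt N8652 D8745) (tt N5514 (iv D7154)) (tt N8653 D8746) (tt N6963 F22685) (tt N5718 F22686) (tt N8628 (iv F27838)))
theorem Q7063 : ∀ i, i < 7063 → P i := stepQ 7062 Q7062 (allL N7062 (tt N5740 F22687) (tt N7062 F22688) (tt N5998 F22689) (tt N5516 F22690) (tt N6678 F22691) (tt N8654 D8747) (tt N5515 (iv D7155)) (tt N8010 (iv F25724)))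
theorem Q7064 : ∀ i, i < 7064 → P i := stepQ 7063 Q7063 (allL N7063 (tt N8642 (iv F27911)) (tt N8655 D8748) (tt N5517 F22692) (tt N8654 (iv F27954)) (tt N8648 (iv F27934)) (tt N5516 (iv D7156)) (tt N8096 (iv F26032)) (tt N8656 D8749))
theorem Q7065 : ∀ i, i < 7065 → P i := stepQ 7064 Q7064 (allL N7064 (tt N8643 (iv F27914)) (tt N7064 F22693) (tt N5518 F22694) (tt N8657 D8750) (tt N8649 (iv F27937)) (tt N8656 (iv F27959)) (tt N5722 F22695) (tt N5516 (iv D7157)))
theorem Q7066 : ∀ i, i < 7066 → P i := stepQ 7065 Q7065 (allL N7065 (tt N8645 (iv F27922)) (tt N6966 F22696) (tt N8656 (iv F27958)) (tt N8658 D8751) (tt N8650 (iv F27940)) (tt N5518 F22697) (tt N8659 D8752) (tt N5517 (iv D7158)))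
theorem Q7067 : ∀ i, i < 7067 → P i := stepQ 7066 Q7066 (allL N7066 (tt N5669 F22698) (tt N5519 F22699) (tt N8660 D8753) (tt N5518 (iv D7159)) (tt N8661 D8754) (tt N8658 (iv F27964)) (tt N5724 F22700) (tt N6259 F22701))
theorem Q7068 : ∀ i, i < 7068 → P i := stepQ 7067 Q7067 (allL N7067 (tt N5523 F22702) (tt N8661 (iv F27974)) (tt N6267 F22703) (tt N8653 (iv F27949)) (tt N5519 (iv D7160)) (tt N6320 F22704) (tt N5726 F22705) (tt N6261 F22706))
theorem Q7069 : ∀ i, i < 7069 → P i := stepQ 7068 Q7068 (allL N7068 (tt N8652 (iv F27944)) (tt N7579 (iv F24310)) (tt N5522 (iv D7161)) (tt N7068 F22707) (tt N7294 (iv F23415)) (tt N6967 F22708) (tt N5734 F22709) (tt N7812 (iv F24965)))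
theorem Q7070 : ∀ i, i < 7070 → P i := stepQ 7069 Q7069 (allL N7069 (tt N8653 (iv F27948)) (tt N5670 F22710) (tt N7294 (iv F23413)) (tt N5523 F22711) (tt N5522 (iv D7162)) (tt N6321 F22712) (tt N5735 F22713) (tt N7703 (iv F24625)))
theorem Q7071 : ∀ i, i < 7071 → P i := stepQ 7070 Q7070 (allL N7070 (tt N8494 (iv F27390)) (tt N8054 (iv F25882)) (tt N5537 F22714) (tt N8662 D8755) (tt N5530 F22715) (tt N8566 (iv F27632)) (tt N8663 D8756) (tt N5524 (iv D7163)))
theorem Q7072 : ∀ i, i < 7072 → P i := stepQ 7071 Q7071 (allL N7071 (tt N5638 F22716) (tt N8055 (iv F25887)) (tt N5538 F22717) (tt N5621 F22718) (tt N5532 F22719) (tt N8664 D8757) (tt N5525 (iv D7164)) (tt N8663 (iv F27981)))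
theorem Q7073 : ∀ i, i < 7073 → P i := stepQ 7072 Q7072 (allL N7072 (tt N8275 (iv F26618)) (tt N8665 D8758) (tt N5540 F22720) (tt N8255 (iv F26552)) (tt N5536 F22721) (tt N5526 (iv D7165)) (tt N8664 (iv F27986)) (tt N8572 (iv F27657)))
theorem Q7074 : ∀ i, i < 7074 → P i := stepQ 7073 Q7073 (allL N7073 (tt N5528 F22722) (tt N8495 (iv F27396)) (tt N5859 F22723) (tt N8111 (iv F26093)) (tt N6677 F22724) (tt N7113 (iv F22818)) (tt N5527 (iv D7166)) (tt N8666 D8759))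
theorem Q7075 : ∀ i, i < 7075 → P i := stepQ 7074 Q7074 (allL N7074 (tt N8666 (iv F27989)) (tt N5530 F22725) (tt N5861 F22726) (tt N8667 D8760) (tt N8054 (iv F25884)) (tt N8104 (iv F26067)) (tt N8668 D8761) (tt N5528 (iv D7167)))
theorem Q7076 : ∀ i, i < 7076 → P i := stepQ 7075 Q7075 (allL N7075 (tt N8095 (iv F26026)) (tt N5532 F22727) (tt N5863 F22728) (tt N8093 (iv F26023)) (tt N8055 (iv F25890)) (tt N8669 D8762) (tt N5529 (iv D7168)) (tt N8668 (iv F27995)))
theorem Q7077 : ∀ i, i < 7077 → P i := stepQ 7076 Q7076 (allL N7076 (tt N8498 (iv F27407)) (tt N8667 (iv F27992)) (tt N8670 D8763) (tt N5530 (iv D7169)) (tt N8671 D8764) (tt N8574 (iv F27662)) (tt N8672 D8765) (tt N8114 (iv F26102)))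
theorem Q7078 : ∀ i, i < 7078 → P i := stepQ 7077 Q7077 (allL N7077 (tt N8499 (iv F27409)) (tt N8668 (iv F27993)) (tt N5542 F22729) (tt N8672 (iv F28001)) (tt N8663 (iv F27980)) (tt N8673 D8766) (tt N5530 (iv D7170)) (tt N5532 F22730))
theorem Q7079 : ∀ i, i < 7079 → P i := stepQ 7078 Q7078 (allL N7078 (tt N5633 F22731) (tt N6825 F22732) (tt N6741 F22733) (tt N5619 F22734) (tt N5531 (iv D7171)) (tt N5534 F22735) (tt N8674 D8767) (tt N8116 (iv F26110)))
theorem Q7080 : ∀ i, i < 7080 → P i := stepQ 7079 Q7079 (allL N7079 (tt N8500 (iv F27414)) (tt N8093 (iv F26021)) (tt N8092 (iv F26017)) (tt N5532 F22736) (tt N8674 (iv F28008)) (tt N8675 D8768) (tt N5531 (iv D7172)) (tt N8676 D8769))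
theorem Q7081 : ∀ i, i < 7081 → P i := stepQ 7080 Q7080 (allL N7080 (tt N8501 (iv F27419)) (tt N8677 D8770) (tt N5546 F22737) (tt N8675 (iv F28009)) (tt N8664 (iv F27985)) (tt N5532 (iv D7173)) (tt N5536 F22738) (tt N8673 (iv F28003)))
theorem Q7082 : ∀ i, i < 7082 → P i := stepQ 7081 Q7081 (allL N7081 (tt N8265 (iv F26584)) (tt N8073 (iv F25950)) (tt N5534 F22739) (tt N6740 F22740) (tt N5533 (iv D7174)) (tt N6741 F22741) (tt N8678 D8771) (tt N8119 (iv F26119)))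
theorem Q7083 : ∀ i, i < 7083 → P i := stepQ 7082 Q7082 (allL N7082 (tt N8502 (iv F27423)) (tt N8075 (iv F25960)) (tt N5535 F22742) (tt N5549 F22743) (tt N8678 (iv F28014)) (tt N8679 D8772) (tt N5533 (iv D7175)) (tt N8680 D8773))
theorem Q7084 : ∀ i, i < 7084 → P i := stepQ 7083 Q7083 (allL N7083 (tt N8268 (iv F26596)) (tt N5746 F22744) (tt N8678 (iv F28012)) (tt N8249 (iv F26528)) (tt N5535 F22745) (tt N8681 D8774) (tt N5534 (iv D7176)) (tt N8682 D8775))
theorem Q7085 : ∀ i, i < 7085 → P i := stepQ 7084 Q7084 (allL N7084 (tt N8503 (iv F27426)) (tt N8683 D8776) (tt N8679 (iv F28015)) (tt N5536 F22746) (tt N8681 (iv F28018)) (tt N5535 (iv D7177)) (tt N8675 (iv F28010)) (tt N8684 D8777))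
theorem Q7086 : ∀ i, i < 7086 → P i := stepQ 7085 Q7085 (allL N7085 (tt N8504 (iv F27428)) (tt N5748 F22747) (tt N8680 (iv F28017)) (tt N8579 (iv F27682)) (tt N8682 (iv F28021)) (tt N8684 (iv F28024)) (tt N8123 (iv F26127)) (tt N5535 (iv D7178)))
theorem Q7087 : ∀ i, i < 7087 → P i := stepQ 7086 Q7086 (allL N7086 (tt N8685 D8778) (tt N5536 (iv D7179)) (tt N8686 D8779) (tt N8683 (iv F28022)) (tt N8665 (iv F27987)) (tt N5749 F22748) (tt N8677 (iv F28011)) (tt N8580 (iv F27684)))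
theorem Q7088 : ∀ i, i < 7088 → P i := stepQ 7087 Q7087 (allL N7087 (tt N8506 (iv F27432)) (tt N5874 F22749) (tt N8687 D8780) (tt N5537 (iv D7180)) (tt N8688 D8781) (tt N8581 (iv F27686)) (tt N8689 D8782) (tt N7087 F22750))
theorem Q7089 : ∀ i, i < 7089 → P i := stepQ 7088 Q7088 (allL N7088 (tt N8507 (iv F27436)) (tt N5875 F22751) (tt N8663 (iv F27979)) (tt N8689 (iv F28034)) (tt N5542 F22752) (tt N8690 D8783) (tt N5537 (iv D7181)) (tt N5538 F22753))
theorem Q7090 : ∀ i, i < 7090 → P i := stepQ 7089 Q7089 (allL N7089 (tt N8508 (iv F27441)) (tt N8691 D8784) (tt N8664 (iv F27983)) (tt N8555 (iv F27600)) (tt N5546 F22754) (tt N5538 (iv D7182)) (tt N5540 F22755) (tt N8690 (iv F28036)))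
theorem Q7091 : ∀ i, i < 7091 → P i := stepQ 7090 Q7090 (allL N7090 (tt N6938 F22756) (tt N8692 D8785) (tt N8047 (iv F25851)) (tt N5540 F22757) (tt N6936 F22758) (tt N5539 (iv D7183)) (tt N8555 (iv F27602)) (tt N8693 D8786))
theorem Q7092 : ∀ i, i < 7092 → P i := stepQ 7091 Q7091 (allL N7091 (tt N6250 F22759) (tt N5572 F22760) (tt N8048 (iv F25857)) (tt N8588 (iv F27703)) (tt N6937 F22761) (tt N8693 (iv F28047)) (tt N7091 F22762) (tt N5539 (iv D7184)))
theorem Q7093 : ∀ i, i < 7093 → P i := stepQ 7092 Q7092 (allL N7092 (tt N8694 D8787) (tt N5540 (iv D7185)) (tt N8695 D8788) (tt N8692 (iv F28040)) (tt N5553 F22763) (tt N5573 F22764) (tt N8691 (iv F28039)) (tt N7945 (iv F25444)))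
theorem Q7094 : ∀ i, i < 7094 → P i := stepQ 7093 Q7093 (allL N7093 (tt N6507 F22765) (tt N8696 D8789) (tt N5541 (iv D7186)) (tt N8670 (iv F27999)) (tt N8697 D8790) (tt N8291 (iv F26674)) (tt N8698 D8791) (tt N5554 F22766))
theorem Q7095 : ∀ i, i < 7095 → P i := stepQ 7094 Q7094 (allL N7094 (tt N6514 F22767) (tt N5884 F22768) (tt N8697 (iv F28055)) (tt N8688 (iv F28031)) (tt N5541 (iv D7187)) (tt N7433 (iv F23840)) (tt N8699 D8792) (tt N5555 F22769))
theorem Q7096 : ∀ i, i < 7096 → P i := stepQ 7095 Q7095 (allL N7095 (tt N6521 F22770) (tt N5885 F22771) (tt N8698 (iv F28059)) (tt N5542 F22772) (tt N8699 (iv F28063)) (tt N8700 D8793) (tt N5541 (iv D7188)) (tt N6396 F22773))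
theorem Q7097 : ∀ i, i < 7097 → P i := stepQ 7096 Q7096 (allL N7096 (tt N8510 (iv F27448)) (tt N8701 D8794) (tt N8673 (iv F28002)) (tt N8700 (iv F28066)) (tt N8690 (iv F28035)) (tt N5542 (iv D7189)) (tt N8589 (iv F27705)) (tt N5546 F22774))
theorem Q7098 : ∀ i, i < 7098 → P i := stepQ 7097 Q7097 (allL N7097 (tt N8511 (iv F27451)) (tt N7581 (iv F24321)) (tt N5545 F22775) (tt N8092 (iv F26018)) (tt N7580 (iv F24319)) (tt N8702 D8795) (tt N5543 (iv D7190)) (tt N7983 (iv F25604)))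
theorem Q7099 : ∀ i, i < 7099 → P i := stepQ 7098 Q7098 (allL N7098 (tt N6929 F22776) (tt N5888 F22777) (tt N7580 (iv F24317)) (tt N6935 F22778) (tt N5545 F22779) (tt N8703 D8796) (tt N5544 (iv D7191)) (tt N8704 D8797))
theorem Q7100 : ∀ i, i < 7100 → P i := stepQ 7099 Q7099 (allL N7099 (tt N8512 (iv F27456)) (tt N8705 D8798) (tt N8702 (iv F28070)) (tt N5546 F22780) (tt N8703 (iv F28074)) (tt N5545 (iv D7192)) (tt N5551 F22781) (tt N8706 D8799))
theorem Q7101 : ∀ i, i < 7101 → P i := stepQ 7100 Q7100 (allL N7100 (tt N6524 F22782) (tt N5890 F22783) (tt N7983 (iv F25603)) (tt N6396 F22784) (tt N8704 (iv F28079)) (tt N8706 (iv F28087)) (tt N5560 F22785) (tt N5545 (iv D7193)))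
theorem Q7102 : ∀ i, i < 7102 → P i := stepQ 7101 Q7101 (allL N7101 (tt N8707 D8800) (tt N5546 (iv D7194)) (tt N8708 D8801) (tt N8705 (iv F28081)) (tt N8691 (iv F28037)) (tt N5891 F22786) (tt N5553 F22787) (tt N8701 (iv F28069)))
theorem Q7103 : ∀ i, i < 7103 → P i := stepQ 7102 Q7102 (allL N7102 (tt N7117 (iv F22836)) (tt N5549 F22788) (tt N5575 F22789) (tt N8075 (iv F25962)) (tt N7116 (iv F22835)) (tt N8709 D8802) (tt N5547 (iv D7195)) (tt N8710 D8803))
theorem Q7104 : ∀ i, i < 7104 → P i := stepQ 7103 Q7103 (allL N7103 (tt N6922 F22790) (tt N7116 (iv F22833)) (tt N5550 F22791) (tt N7600 (iv F24378)) (tt N5549 F22792) (tt N8711 D8804) (tt N5548 (iv D7196)) (tt N8712 D8805))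
theorem Q7105 : ∀ i, i < 7105 → P i := stepQ 7104 Q7104 (allL N7104 (tt N8514 (iv F27462)) (tt N8713 D8806) (tt N5551 F22793) (tt N8679 (iv F28016)) (tt N8711 (iv F28100)) (tt N5549 (iv D7197)) (tt N8702 (iv F28071)) (tt N8714 D8807))
theorem Q7106 : ∀ i, i < 7106 → P i := stepQ 7105 Q7105 (allL N7105 (tt N8515 (iv F27464)) (tt N8710 (iv F28095)) (tt N5552 F22794) (tt N8715 D8808) (tt N8712 (iv F28103)) (tt N8714 (iv F28106)) (tt N5568 F22795) (tt N5549 (iv D7198)))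
theorem Q7107 : ∀ i, i < 7107 → P i := stepQ 7106 Q7106 (allL N7106 (tt N6930 F22796) (tt N8716 D8809) (tt N8711 (iv F28099)) (tt N6936 F22797) (tt N5551 F22798) (tt N5550 (iv D7199)) (tt N8703 (iv F28075)) (tt N8717 D8810))
theorem Q7108 : ∀ i, i < 7108 → P i := stepQ 7107 Q7107 (allL N7107 (tt N6931 F22799) (tt N5578 F22800) (tt N8712 (iv F28102)) (tt N7019 F22801) (tt N5552 F22802) (tt N8717 (iv F28117)) (tt N5570 F22803) (tt N5550 (iv D7200)))
theorem Q7109 : ∀ i, i < 7109 → P i := stepQ 7108 Q7108 (allL N7108 (tt N5642 (iv F22806)) (tt N5551 (iv D7201)) (tt N8718 D8811) (tt N5553 F22804) (tt N8716 (iv F28110)) (tt N5579 F22805) (tt N8705 (iv F28083)) (tt N5622 (iv F22807)))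
theorem Q7110 : ∀ i, i < 7110 → P i := stepQ 7109 Q7109 (allL N7109 (tt N8516 (iv F27467)) (tt N5622 F22808) (tt N8714 (iv F28105)) (tt N8556 (iv F27603)) (tt N8717 (iv F28116)) (tt N5552 F22809) (tt N8257 (iv F26559)) (tt N5551 (iv D7202)))
theorem Q7111 : ∀ i, i < 7111 → P i := stepQ 7110 Q7110 (allL N7110 (tt N5553 (iv D7203)) (tt N7891 (iv F25239)) (tt N8719 D8812) (tt N5642 F22810) (tt N8694 (iv F28048)) (tt N5580 F22811) (tt N8707 (iv F28091)) (tt N7943 (iv F25439)))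
theorem Q7112 : ∀ i, i < 7112 → P i := stepQ 7111 Q7111 (allL N7111 (tt N8719 (iv F28121)) (tt N8686 (iv F28026)) (tt N5553 (iv D7204)) (tt N8720 D8813) (tt N8695 (iv F28050)) (tt N5581 F22812) (tt N8708 (iv F28093)) (tt N7937 (iv F25418)))
theorem Q7113 : ∀ i, i < 7113 → P i := stepQ 7112 Q7112 (allL N7112 (tt N8721 D8814) (tt N5554 (iv D7205)) (tt N5900 F22813) (tt N6901 F22814) (tt N7789 (iv F24898)) (tt N8722 D8815) (tt N6389 F22815) (tt N8696 (iv F28053)))
theorem Q7114 : ∀ i, i < 7114 → P i := stepQ 7113 Q7113 (allL N7113 (tt N6500 F22816) (tt N7789 (iv F24895)) (tt N5555 F22817) (tt N7407 (iv F23757)) (tt N5554 (iv D7206)) (tt N7073 F22818) (tt N6387 F22819) (tt N8697 (iv F28057)))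
theorem Q7115 : ∀ i, i < 7115 → P i := stepQ 7114 Q7114 (allL N7114 (tt N6534 F22820) (tt N6433 F22821) (tt N5559 F22822) (tt N6436 F22823) (tt N5558 F22824) (tt N6402 F22825) (tt N5557 (iv D7207)) (tt N6755 (iv F22826)))
theorem Q7116 : ∀ i, i < 7116 → P i := stepQ 7115 Q7115 (allL N7115 (tt N6523 F22827) (tt N5905 F22828) (tt N6755 F22829) (tt N8723 D8816) (tt N5560 F22830) (tt N6398 F22831) (tt N8704 (iv F28080)) (tt N5559 (iv D7208)))
theorem Q7117 : ∀ i, i < 7117 → P i := stepQ 7116 Q7116 (allL N7116 (tt N5564 F22832) (tt N7103 F22833) (tt N5583 F22834) (tt N8155 (iv F26209)) (tt N7102 F22835) (tt N8724 D8817) (tt N5561 (iv D7209)) (tt N8725 D8818))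
theorem Q7118 : ∀ i, i < 7118 → P i := stepQ 7117 Q7117 (allL N7117 (tt N7102 F22836) (tt N5566 F22837) (tt N5585 F22838) (tt N6468 F22839) (tt N5564 F22840) (tt N8726 D8819) (tt N5562 (iv D7210)) (tt N8727 D8820))
theorem Q7119 : ∀ i, i < 7119 → P i := stepQ 7118 Q7118 (allL N7118 (tt N8063 (iv F25912)) (tt N6458 F22841) (tt N5586 F22842) (tt N8157 (iv F26217)) (tt N6457 F22843) (tt N8728 D8821) (tt N5563 (iv D7211)) (tt N8729 D8822))
theorem Q7120 : ∀ i, i < 7120 → P i := stepQ 7119 Q7119 (allL N7119 (tt N8724 (iv F28136)) (tt N8730 D8823) (tt N5587 F22844) (tt N8158 (iv F26220)) (tt N8726 (iv F28146)) (tt N5564 (iv D7212)) (tt N8728 (iv F28155)) (tt N8731 D8824))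
theorem Q7121 : ∀ i, i < 7121 → P i := stepQ 7120 Q7120 (allL N7120 (tt N8725 (iv F28139)) (tt N5568 F22845) (tt N5588 F22846) (tt N8732 D8825) (tt N8727 (iv F28151)) (tt N8731 (iv F28163)) (tt N8710 (iv F28097)) (tt N5564 (iv D7213)))
theorem Q7122 : ∀ i, i < 7122 → P i := stepQ 7121 Q7121 (allL N7121 (tt N8521 (iv F27483)) (tt N6468 F22847) (tt N7121 F22848) (tt N5566 F22849) (tt N8160 (iv F26226)) (tt N8733 D8826) (tt N5565 (iv D7214)) (tt N8734 D8827))
theorem Q7123 : ∀ i, i < 7123 → P i := stepQ 7122 Q7122 (allL N7122 (tt N6540 F22850) (tt N8266 (iv F26589)) (tt N5569 F22851) (tt N8733 (iv F28167)) (tt N5567 F22852) (tt N5566 (iv D7215)) (tt N6402 F22853) (tt N8254 (iv F26549)))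
theorem Q7124 : ∀ i, i < 7124 → P i := stepQ 7123 Q7123 (allL N7123 (tt N8522 (iv F27488)) (tt N8727 (iv F28149)) (tt N5570 F22854) (tt N8735 D8828) (tt N5568 F22855) (tt N8254 (iv F26548)) (tt N8712 (iv F28104)) (tt N5566 (iv D7216)))
theorem Q7125 : ∀ i, i < 7125 → P i := stepQ 7124 Q7124 (allL N7124 (tt N7600 (iv F24376)) (tt N5567 (iv D7217)) (tt N6410 F22856) (tt N6922 F22857) (tt N8266 (iv F26591)) (tt N8730 (iv F28161)) (tt N6401 F22858) (tt N8239 (iv F26479)))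
theorem Q7126 : ∀ i, i < 7126 → P i := stepQ 7125 Q7125 (allL N7125 (tt N8523 (iv F27494)) (tt N8732 (iv F28164)) (tt N8558 (iv F27610)) (tt N5568 (iv D7218)) (tt N8736 D8829) (tt N8260 (iv F26570)) (tt N8715 (iv F28107)) (tt N8162 (iv F26229)))
theorem Q7127 : ∀ i, i < 7127 → P i := stepQ 7126 Q7126 (allL N7126 (tt N8524 (iv F27497)) (tt N5592 F22859) (tt N8737 D8830) (tt N5570 (iv D7219)) (tt N7330 (iv F23521)) (tt N8248 (iv F26522)) (tt N7019 F22860) (tt N7126 F22861))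
theorem Q7128 : ∀ i, i < 7128 → P i := stepQ 7127 Q7127 (allL N7127 (tt N8738 D8831) (tt N5571 (iv D7220)) (tt N8739 D8832) (tt N5573 F22862) (tt N6952 F22863) (tt N8692 (iv F28042)) (tt N5910 F22864) (tt N6997 F22865))
theorem Q7129 : ∀ i, i < 7129 → P i := stepQ 7128 Q7128 (allL N7128 (tt N5573 (iv D7221)) (tt N5616 F22866) (tt N8740 D8833) (tt N8738 (iv F28177)) (tt N5580 F22867) (tt N8694 (iv F28049)) (tt N5844 F22868) (tt N7942 (iv F25436)))
theorem Q7130 : ∀ i, i < 7130 → P i := stepQ 7129 Q7129 (allL N7129 (tt N8740 (iv F28185)) (tt N5770 F22869) (tt N5573 (iv D7222)) (tt N8741 D8834) (tt N5581 F22870) (tt N8695 (iv F28051)) (tt N5912 F22871) (tt N7936 (iv F25415)))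
theorem Q7131 : ∀ i, i < 7131 → P i := stepQ 7130 Q7130 (allL N7130 (tt N7140 (iv F22899)) (tt N5917 F22872) (tt N8068 (iv F25935)) (tt N5774 F22873) (tt N7137 (iv F22891)) (tt N8742 D8835) (tt N5574 (iv D7223)) (tt N8743 D8836))
theorem Q7132 : ∀ i, i < 7132 → P i := stepQ 7131 Q7131 (allL N7131 (tt N7141 (iv F22904)) (tt N7639 (iv F24460)) (tt N8709 (iv F28094)) (tt N5775 F22874) (tt N7138 (iv F22894)) (tt N5575 (iv D7224)) (tt N8742 (iv F28193)) (tt N8744 D8837))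
theorem Q7133 : ∀ i, i < 7133 → P i := stepQ 7132 Q7132 (allL N7132 (tt N7142 (iv F22907)) (tt N5576 F22875) (tt N8710 (iv F28096)) (tt N7364 (iv F23611)) (tt N7139 (iv F22898)) (tt N8744 (iv F28197)) (tt N5588 F22876) (tt N5575 (iv D7225)))
theorem Q7134 : ∀ i, i < 7134 → P i := stepQ 7133 Q7133 (allL N7133 (tt N5636 F22877) (tt N5577 (iv D7226)) (tt N8745 D8838) (tt N6952 F22878) (tt N5579 F22879) (tt N8716 (iv F28111)) (tt N5807 F22880) (tt N5620 F22881))
theorem Q7135 : ∀ i, i < 7135 → P i := stepQ 7134 Q7134 (allL N7134 (tt N5640 F22882) (tt N7641 (iv F24467)) (tt N5579 (iv D7227)) (tt N8746 D8839) (tt N8745 (iv F28199)) (tt N8718 (iv F28119)) (tt N5812 F22883) (tt N5621 F22884))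
theorem Q7136 : ∀ i, i < 7136 → P i := stepQ 7135 Q7135 (allL N7135 (tt N5581 F22885) (tt N7712 (iv F24660)) (tt N5580 (iv D7228)) (tt N8747 D8840) (tt N8740 (iv F28187)) (tt N8719 (iv F28122)) (tt N5843 F22886) (tt N7935 (iv F25409)))
theorem Q7137 : ∀ i, i < 7137 → P i := stepQ 7136 Q7136 (allL N7136 (tt N8747 (iv F28205)) (tt N5776 F22887) (tt N8746 (iv F28203)) (tt N5581 (iv D7229)) (tt N8748 D8841) (tt N8720 (iv F28123)) (tt N5919 F22888) (tt N8749 D8842))
theorem Q7138 : ∀ i, i < 7138 → P i := stepQ 7137 Q7137 (allL N7137 (tt N5586 F22889) (tt N7503 (iv F24064)) (tt N8063 (iv F25914)) (tt N5596 F22890) (tt N7130 F22891) (tt N8750 D8843) (tt N5582 (iv D7230)) (tt N8751 D8844))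
theorem Q7139 : ∀ i, i < 7139 → P i := stepQ 7138 Q7138 (allL N7138 (tt N5587 F22892) (tt N8752 D8845) (tt N8724 (iv F28137)) (tt N5597 F22893) (tt N7131 F22894) (tt N5583 (iv D7231)) (tt N8750 (iv F28214)) (tt N8753 D8846))
theorem Q7140 : ∀ i, i < 7140 → P i := stepQ 7139 Q7139 (allL N7139 (tt N5588 F22895) (tt N5610 F22896) (tt N8725 (iv F28141)) (tt N5609 F22897) (tt N7132 F22898) (tt N8753 (iv F28226)) (tt N7142 (iv F22911)) (tt N5583 (iv D7232)))
theorem Q7141 : ∀ i, i < 7141 → P i := stepQ 7140 Q7140 (allL N7140 (tt N7130 F22899) (tt N5922 F22900) (tt N6457 F22901) (tt N6991 F22902) (tt N5586 F22903) (tt N8754 D8847) (tt N5584 (iv D7233)) (tt N8755 D8848))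
theorem Q7142 : ∀ i, i < 7142 → P i := stepQ 7141 Q7141 (allL N7141 (tt N7131 F22904) (tt N6043 F22905) (tt N8726 (iv F28144)) (tt N7333 (iv F23528)) (tt N5587 F22906) (tt N5585 (iv D7234)) (tt N8754 (iv F28232)) (tt N8756 D8849))
theorem Q7143 : ∀ i, i < 7143 → P i := stepQ 7142 Q7142 (allL N7142 (tt N7132 F22907) (tt N5589 F22908) (tt N8727 (iv F28150)) (tt N6109 F22909) (tt N5588 F22910) (tt N8756 (iv F28242)) (tt N7139 F22911) (tt N5585 (iv D7235)))
theorem Q7144 : ∀ i, i < 7144 → P i := stepQ 7143 Q7143 (allL N7143 (tt N8750 (iv F28211)) (tt N8757 D8850) (tt N8728 (iv F28153)) (tt N5603 F22912) (tt N8754 (iv F28231)) (tt N5586 (iv D7236)) (tt N5587 F22913) (tt N8758 D8851))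
theorem Q7145 : ∀ i, i < 7145 → P i := stepQ 7144 Q7144 (allL N7144 (tt N8751 (iv F28215)) (tt N5924 F22914) (tt N8729 (iv F28157)) (tt N8759 D8852) (tt N8755 (iv F28236)) (tt N8758 (iv F28249)) (tt N8743 (iv F28195)) (tt N5586 (iv D7237)))
theorem Q7146 : ∀ i, i < 7146 → P i := stepQ 7145 Q7145 (allL N7145 (tt N5606 (iv F22918)) (tt N5587 (iv D7238)) (tt N8195 (iv F26329)) (tt N5605 F22915) (tt N6043 F22916) (tt N5590 F22917) (tt N8757 (iv F28246)) (tt N5597 (iv F22919)))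
theorem Q7147 : ∀ i, i < 7147 → P i := stepQ 7146 Q7146 (allL N7146 (tt N8753 (iv F28222)) (tt N5597 F22920) (tt N8731 (iv F28162)) (tt N8752 (iv F28218)) (tt N8756 (iv F28241)) (tt N5588 F22921) (tt N8760 D8853) (tt N5587 (iv D7239)))
theorem Q7148 : ∀ i, i < 7148 → P i := stepQ 7147 Q7147 (allL N7147 (tt N5609 F22922) (tt N5591 F22923) (tt N8761 D8854) (tt N5588 (iv D7240)) (tt N6047 F22924) (tt N8752 (iv F28220)) (tt N7364 (iv F23613)) (tt N5607 F22925))
theorem Q7149 : ∀ i, i < 7149 → P i := stepQ 7148 Q7148 (allL N7148 (tt N5601 F22926) (tt N7359 (iv F23593)) (tt N8189 (iv F26309)) (tt N7334 (iv F23532)) (tt N5596 F22927) (tt N8762 D8855) (tt N5593 (iv D7241)) (tt N8763 D8856))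
theorem Q7150 : ∀ i, i < 7150 → P i := stepQ 7149 Q7149 (allL N7149 (tt N5602 F22928) (tt N8756 (iv F28239)) (tt N8190 (iv F26312)) (tt N7335 (iv F23535)) (tt N5597 F22929) (tt N5594 (iv D7242)) (tt N8762 (iv F28259)) (tt N6043 F22930))
theorem Q7151 : ∀ i, i < 7151 → P i := stepQ 7150 Q7150 (allL N7150 (tt N5926 F22931) (tt N5596 F22932) (tt N8056 (iv F25893)) (tt N7503 (iv F24066)) (tt N7359 (iv F23595)) (tt N8764 D8857) (tt N5595 (iv D7243)) (tt N8765 D8858))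
theorem Q7152 : ∀ i, i < 7152 → P i := stepQ 7151 Q7151 (allL N7151 (tt N5603 F22933) (tt N8760 (iv F28252)) (tt N8192 (iv F26320)) (tt N8750 (iv F28212)) (tt N8762 (iv F28258)) (tt N5596 (iv D7244)) (tt N5597 F22934) (tt N8766 D8859))
theorem Q7153 : ∀ i, i < 7153 → P i := stepQ 7152 Q7152 (allL N7152 (tt N5604 F22935) (tt N8765 (iv F28266)) (tt N8193 (iv F26323)) (tt N8767 D8860) (tt N8763 (iv F28261)) (tt N8766 (iv F28269)) (tt N5786 F22936) (tt N5596 (iv D7245)))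
theorem Q7154 : ∀ i, i < 7154 → P i := stepQ 7153 Q7153 (allL N7153 (tt N7320 (iv F23490)) (tt N7153 F22937) (tt N5600 F22938) (tt N8196 (iv F26335)) (tt N6998 F22939) (tt N8768 D8861) (tt N5598 (iv D7246)) (tt N7660 (iv F24516)))
theorem Q7155 : ∀ i, i < 7155 → P i := stepQ 7154 Q7154 (allL N7154 (tt N7334 (iv F23530)) (tt N5929 F22940) (tt N6997 F22941) (tt N5601 F22942) (tt N6991 F22943) (tt N8769 D8862) (tt N5599 (iv D7247)) (tt N8739 (iv F28184)))
theorem Q7156 : ∀ i, i < 7156 → P i := stepQ 7155 Q7155 (allL N7155 (tt N7335 (iv F23534)) (tt N7533 (iv F24155)) (tt N8768 (iv F28272)) (tt N5602 F22944) (tt N7333 (iv F23529)) (tt N5600 (iv D7248)) (tt N8769 (iv F28278)) (tt N7665 (iv F24534)))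
theorem Q7157 : ∀ i, i < 7157 → P i := stepQ 7156 Q7156 (allL N7156 (tt N8762 (iv F28257)) (tt N7515 (iv F24093)) (tt N8200 (iv F26343)) (tt N8769 (iv F28276)) (tt N5603 F22945) (tt N5601 (iv D7249)) (tt N5602 F22946) (tt N8770 D8863))
theorem Q7158 : ∀ i, i < 7158 → P i := stepQ 7157 Q7157 (allL N7157 (tt N8763 (iv F28260)) (tt N5932 F22947) (tt N8201 (iv F26347)) (tt N8771 D8864) (tt N5604 F22948) (tt N8770 (iv F28280)) (tt N5789 F22949) (tt N5601 (iv D7250)))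
theorem Q7159 : ∀ i, i < 7159 → P i := stepQ 7158 Q7158 (allL N7158 (tt N8772 D8865) (tt N5603 (iv D7251)) (tt N8773 D8866) (tt N8757 (iv F28243)) (tt N7515 (iv F24094)) (tt N5933 F22950) (tt N5605 F22951) (tt N8774 D8867))
theorem Q7160 : ∀ i, i < 7160 → P i := stepQ 7159 Q7159 (allL N7159 (tt N8766 (iv F28268)) (tt N8774 (iv F28291)) (tt N8204 (iv F26355)) (tt N8775 D8868) (tt N8770 (iv F28279)) (tt N5604 F22952) (tt N8776 D8869) (tt N5603 (iv D7252)))
theorem Q7161 : ∀ i, i < 7161 → P i := stepQ 7160 Q7160 (allL N7160 (tt N8767 (iv F28270)) (tt N5935 F22953) (tt N8777 D8870) (tt N5604 (iv D7253)) (tt N8778 D8871) (tt N8775 (iv F28293)) (tt N5791 F22954) (tt N8759 (iv F28251)))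
theorem Q7162 : ∀ i, i < 7162 → P i := stepQ 7161 Q7161 (allL N7161 (tt N5605 (iv D7254)) (tt N8753 (iv F28223)) (tt N8779 D8872) (tt N5606 F22955) (tt N7175 (iv F22997)) (tt N5607 F22956) (tt N8772 (iv F28287)) (tt N8752 F28221))
theorem Q7163 : ∀ i, i < 7163 → P i := stepQ 7162 Q7162 (allL N7162 (tt N8779 (iv F28300)) (tt N8207 (iv F26360)) (tt N5605 (iv D7255)) (tt N8780 D8873) (tt N7535 (iv F24163)) (tt N5608 F22957) (tt N8773 (iv F28290)) (tt N8781 D8874))
theorem Q7164 : ∀ i, i < 7164 → P i := stepQ 7163 Q7163 (allL N7163 (tt N8752 (iv F28217)) (tt N5606 F22958) (tt N8781 (iv F28307)) (tt N8753 (iv F28224)) (tt N6046 F22959) (tt N5609 F22960) (tt N8782 D8875) (tt N5605 (iv D7256)))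
theorem Q7165 : ∀ i, i < 7165 → P i := stepQ 7164 Q7164 (allL N7164 (tt N8757 (iv F28248)) (tt N8782 (iv F28310)) (tt N8210 (iv F26368)) (tt N8772 (iv F28284)) (tt N6044 F22961) (tt N5793 F22962) (tt N5606 (iv D7257)) (tt N8776 (iv F28296)))
theorem Q7166 : ∀ i, i < 7166 → P i := stepQ 7165 Q7165 (allL N7165 (tt N5608 F22963) (tt N7176 (iv F22999)) (tt N5607 (iv D7258)) (tt N8211 (iv F26372)) (tt N7174 (iv F22995)) (tt N8779 (iv F28301)) (tt N5794 F22964) (tt N8761 (iv F28256)))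
theorem Q7167 : ∀ i, i < 7167 → P i := stepQ 7166 Q7166 (allL N7166 (tt N8211 (iv F26371)) (tt N5611 F22965) (tt N6414 F22966) (tt N5608 (iv D7259)) (tt N6494 (iv F22968)) (tt N8780 (iv F28304)) (tt N5937 F22967) (tt N8783 D8876))
theorem Q7168 : ∀ i, i < 7168 → P i := stepQ 7167 Q7167 (allL N7167 (tt N8761 (iv F28253)) (tt N5612 F22969) (tt N5609 F22970) (tt N8784 D8877) (tt N6048 F22971) (tt N8781 (iv F28309)) (tt N7721 (iv F24693)) (tt N5608 (iv D7260)))
theorem Q7169 : ∀ i, i < 7169 → P i := stepQ 7168 Q7168 (allL N7168 (tt N7541 (iv F24181)) (tt N6494 F22972) (tt N5613 F22973) (tt N7536 (iv F24166)) (tt N5611 (iv D7261)) (tt N6950 F22974) (tt N5938 F22975) (tt N8785 D8878))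
theorem Q7170 : ∀ i, i < 7170 → P i := stepQ 7169 Q7169 (allL N7169 (tt N7542 (iv F24186)) (tt N8783 (iv F28312)) (tt N5614 F22976) (tt N8786 D8879) (tt N8785 (iv F28320)) (tt N6951 F22977) (tt N8787 D8880) (tt N5611 (iv D7262)))
theorem Q7171 : ∀ i, i < 7171 → P i := stepQ 7170 Q7170 (allL N7170 (tt N7546 (iv F24200)) (tt N8784 (iv F28316)) (tt N8624 (iv F27820)) (tt N5612 (iv D7263)) (tt N8788 D8881) (tt N8219 (iv F26402)) (tt N7741 (iv F24748)) (tt N8786 (iv F28324)))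
theorem Q7172 : ∀ i, i < 7172 → P i := stepQ 7171 Q7171 (allL N7171 (tt N6017 F22978) (tt N6198 F22979) (tt N8785 (iv F28319)) (tt N6018 (iv F22983)) (tt N5614 F22980) (tt N6038 F22981) (tt N6709 F22982) (tt N5613 (iv D7264)))
theorem Q7173 : ∀ i, i < 7173 → P i := stepQ 7172 Q7172 (allL N7172 (tt N8091 (iv F26010)) (tt N6417 F22984) (tt N8787 (iv F28326)) (tt N7547 (iv F24204)) (tt N6709 F22985) (tt N7779 (iv F24865)) (tt N5614 (iv D7265)) (tt N5942 F22986))
theorem Q7174 : ∀ i, i < 7174 → P i := stepQ 7173 Q7173 (allL N7173 (tt N5615 (iv D7266)) (tt N8738 (iv F28176)) (tt N8551 (iv F27582)) (tt N5616 F22987) (tt N5637 F22988) (tt N6953 F22989) (tt N5832 F22990) (tt N7023 F22991))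
theorem Q7175 : ∀ i, i < 7175 → P i := stepQ 7174 Q7174 (allL N7174 (tt N5946 F22992) (tt N5621 F22993) (tt N5618 F22994) (tt N8055 (iv F25889)) (tt N7165 F22995) (tt N8789 D8882) (tt N5617 (iv D7267)) (tt N7641 (iv F24469)))
theorem Q7176 : ∀ i, i < 7176 → P i := stepQ 7175 Q7175 (allL N7175 (tt N5947 F22996) (tt N8744 (iv F28196)) (tt N8789 (iv F28331)) (tt N7504 (iv F24068)) (tt N7161 F22997) (tt N5618 (iv D7268)) (tt N8764 (iv F28264)) (tt N7639 (iv F24463)))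
theorem Q7177 : ∀ i, i < 7177 → P i := stepQ 7176 Q7176 (allL N7176 (tt N5634 F22998) (tt N7165 F22999) (tt N5620 F23000) (tt N8674 (iv F28007)) (tt N5621 F23001) (tt N8790 D8883) (tt N5619 (iv D7269)) (tt N8745 (iv F28201)))
theorem Q7178 : ∀ i, i < 7178 → P i := stepQ 7177 Q7177 (allL N7177 (tt N5635 F23002) (tt N8717 (iv F28114)) (tt N8790 (iv F28334)) (tt N7014 F23003) (tt N5622 F23004) (tt N5620 (iv D7270)) (tt N8250 (iv F26532)) (tt N8716 F28112))
theorem Q7179 : ∀ i, i < 7179 → P i := stepQ 7178 Q7178 (allL N7178 (tt N5639 F23005) (tt N8791 D8884) (tt N5622 F23006) (tt N8664 (iv F27984)) (tt N8790 (iv F28335)) (tt N5621 (iv D7271)) (tt N8255 (iv F26553)) (tt N8718 (iv F28120)))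
theorem Q7180 : ∀ i, i < 7180 → P i := stepQ 7179 Q7179 (allL N7179 (tt N5627 F23007) (tt N8529 (iv F27517)) (tt N8261 (iv F26573)) (tt N7611 (iv F24403)) (tt N7197 (iv F23053)) (tt N5624 (iv D7272)) (tt N7590 (iv F24351)) (tt N8528 F27516))
theorem Q7181 : ∀ i, i < 7181 → P i := stepQ 7180 Q7180 (allL N7180 (tt N7611 (iv F24401)) (tt N7185 (iv F23024)) (tt N7634 (iv F24451)) (tt N5627 F23008) (tt N8647 (iv F27931)) (tt N5626 (iv D7273)) (tt N7610 (iv F24400)) (tt N8607 (iv F27772)))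
theorem Q7182 : ∀ i, i < 7182 → P i := stepQ 7181 Q7181 (allL N7181 (tt N7590 (iv F24349)) (tt N6658 F23009) (tt N8263 (iv F26577)) (tt N7610 (iv F24399)) (tt N6664 F23010) (tt N5646 F23011) (tt N5627 (iv D7274)) (tt N8792 D8885))
theorem Q7183 : ∀ i, i < 7183 → P i := stepQ 7182 Q7182 (allL N7182 (tt N8528 F27515) (tt N7190 (iv F23038)) (tt N8264 (iv F26580)) (tt N8539 (iv F27547)) (tt N6260 F23012) (tt N5628 F23013) (tt N8793 D8886) (tt N5627 (iv D7275)))
theorem Q7184 : ∀ i, i < 7184 → P i := stepQ 7183 Q7183 (allL N7183 (tt N6741 F23014) (tt N6438 F23015) (tt N5633 F23016) (tt N5631 (iv D7276)) (tt N8053 (iv F25879)) (tt N8265 (iv F26588)) (tt N6473 (iv F23017)) (tt N8313 (iv F26755)))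
theorem Q7185 : ∀ i, i < 7185 → P i := stepQ 7184 Q7184 (allL N7184 (tt N6470 F23018) (tt N6459 F23019) (tt N5632 F23020) (tt N6473 F23021) (tt N7599 (iv F24375)) (tt N8794 D8887) (tt N5631 (iv D7277)) (tt N6464 F23022))
theorem Q7186 : ∀ i, i < 7186 → P i := stepQ 7185 Q7185 (allL N7185 (tt N7014 F23023) (tt N7180 F23024) (tt N8794 (iv F28343)) (tt N5635 F23025) (tt N7622 (iv F24431)) (tt N5632 (iv D7278)) (tt N8267 (iv F26595)) (tt N7005 F23026))
theorem Q7187 : ∀ i, i < 7187 → P i := stepQ 7186 Q7186 (allL N7186 (tt N8674 (iv F28004)) (tt N5953 F23027) (tt N6473 F23028) (tt N5634 F23029) (tt N8500 (iv F27418)) (tt N8795 D8888) (tt N5633 (iv D7279)) (tt N8796 D8889))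
theorem Q7188 : ∀ i, i < 7188 → P i := stepQ 7187 Q7187 (allL N7187 (tt N8116 (iv F26105)) (tt N5954 F23030) (tt N8313 (iv F26753)) (tt N5826 F23031) (tt N8013 (iv F25739)) (tt N8016 (iv F25752)) (tt N8797 D8890) (tt N5633 (iv D7280)))
theorem Q7189 : ∀ i, i < 7189 → P i := stepQ 7188 Q7188 (allL N7188 (tt N8790 (iv F28333)) (tt N8798 D8891) (tt N5635 F23032) (tt N8795 (iv F28348)) (tt N5639 F23033) (tt N5634 (iv D7281)) (tt N8269 (iv F26602)) (tt N8799 D8892))
theorem Q7190 : ∀ i, i < 7190 → P i := stepQ 7189 Q7189 (allL N7189 (tt N8745 (iv F28198)) (tt N5956 F23034) (tt N5636 F23035) (tt N8800 D8893) (tt N5640 F23036) (tt N8799 (iv F28359)) (tt N5828 F23037) (tt N5634 (iv D7282)))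
theorem Q7191 : ∀ i, i < 7191 → P i := stepQ 7190 Q7190 (allL N7190 (tt N8716 (iv F28108)) (tt N7182 F23038) (tt N8799 (iv F28357)) (tt N8801 D8894) (tt N5642 F23039) (tt N5636 F23040) (tt N8802 D8895) (tt N5635 (iv D7283)))
theorem Q7192 : ∀ i, i < 7192 → P i := stepQ 7191 Q7191 (allL N7191 (tt N6952 F23041) (tt N5637 F23042) (tt N7337 (iv F23540)) (tt N5636 (iv D7284)) (tt N8738 (iv F28178)) (tt N8801 (iv F28364)) (tt N5830 F23043) (tt N6995 F23044))
theorem Q7193 : ∀ i, i < 7193 → P i := stepQ 7192 Q7192 (allL N7192 (tt N8664 (iv F27982)) (tt N8803 D8896) (tt N8508 (iv F27442)) (tt N5639 F23045) (tt N8501 (iv F27421)) (tt N5638 (iv D7285)) (tt N8275 (iv F26622)) (tt N8804 D8897))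
theorem Q7194 : ∀ i, i < 7194 → P i := stepQ 7193 Q7193 (allL N7193 (tt N8663 (iv F27978)) (tt N5960 F23046) (tt N8507 (iv F27438)) (tt N8805 D8898) (tt N8499 (iv F27412)) (tt N8804 (iv F28371)) (tt N8494 (iv F27394)) (tt N5638 (iv D7286)))
theorem Q7195 : ∀ i, i < 7195 → P i := stepQ 7194 Q7194 (allL N7194 (tt N8806 D8899) (tt N5639 (iv D7287)) (tt N8807 D8900) (tt N8803 (iv F28369)) (tt N8798 (iv F28355)) (tt N5962 F23047) (tt N8276 (iv F26624)) (tt N8808 D8901))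
theorem Q7196 : ∀ i, i < 7196 → P i := stepQ 7195 Q7195 (allL N7195 (tt N8718 (iv F28118)) (tt N8808 (iv F28378)) (tt N5642 F23048) (tt N8809 D8902) (tt N8799 (iv F28358)) (tt N5640 F23049) (tt N8810 D8903) (tt N5639 (iv D7288)))
theorem Q7197 : ∀ i, i < 7197 → P i := stepQ 7196 Q7196 (allL N7196 (tt N8746 (iv F28202)) (tt N5964 F23050) (tt N8747 (iv F28206)) (tt N5640 (iv D7289)) (tt N8811 D8904) (tt N8809 (iv F28380)) (tt N5840 F23051) (tt N8805 (iv F28373)))
theorem Q7198 : ∀ i, i < 7198 → P i := stepQ 7197 Q7197 (allL N7197 (tt N5641 (iv D7290)) (tt N8516 (iv F27468)) (tt N7584 (iv F24333)) (tt N7050 F23052) (tt N7179 F23053) (tt N5643 F23054) (tt N8279 (iv F26633)) (tt N7888 (iv F25231)))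
theorem Q7199 : ∀ i, i < 7199 → P i := stepQ 7198 Q7198 (allL N7198 (tt N7584 (iv F24332)) (tt N8807 (iv F28375)) (tt N5641 (iv D7291)) (tt N7583 (iv F24330)) (tt N6647 F23055) (tt N5644 F23056) (tt N8280 (iv F26637)) (tt N7852 (iv F25101)))
theorem Q7200 : ∀ i, i < 7200 → P i := stepQ 7199 Q7199 (allL N7199 (tt N8705 F28084) (tt N7892 (iv F25241)) (tt N8810 (iv F28381)) (tt N8707 (iv F28089)) (tt N8802 (iv F28367)) (tt N5842 F23057) (tt N5642 (iv D7292)) (tt N8283 (iv F26646)))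
theorem Q7201 : ∀ i, i < 7201 → P i := stepQ 7200 Q7200 (allL N7200 (tt N7591 (iv F24352)) (tt N5967 F23058) (tt N8289 (iv F26666)) (tt N8812 D8905) (tt N6669 F23059) (tt N8792 (iv F28338)) (tt N7200 F23060) (tt N5646 (iv D7293)))
theorem Q7202 : ∀ i, i < 7202 → P i := stepQ 7201 Q7201 (allL N7201 (tt N6982 F23061) (tt N5650 F23062) (tt N8813 D8906) (tt N5648 (iv D7294)) (tt N5661 F23063) (tt N7370 (iv F23632)) (tt N8814 D8907) (tt N7201 F23064))
theorem Q7203 : ∀ i, i < 7203 → P i := stepQ 7202 Q7202 (allL N7202 (tt N6989 F23065) (tt N5651 F23066) (tt N7349 (iv F23567)) (tt N8814 (iv F28396)) (tt N5649 F23067) (tt N8815 D8908) (tt N5648 (iv D7295)) (tt N8640 (iv F27905)))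
theorem Q7204 : ∀ i, i < 7204 → P i := stepQ 7203 Q7203 (allL N7203 (tt N6990 F23068) (tt N8645 (iv F27923)) (tt N7651 (iv F24486)) (tt N5665 F23069) (tt N8815 (iv F28399)) (tt N5649 (iv D7296)) (tt N7714 (iv F24669)) (tt N8644 F27921))
theorem Q7205 : ∀ i, i < 7205 → P i := stepQ 7204 Q7204 (allL N7204 (tt N5652 F23070) (tt N8816 D8909) (tt N5650 (iv D7297)) (tt N5705 F23071) (tt N5666 F23072) (tt N5706 F23073) (tt N7887 F25227) (tt N7204 F23074))
theorem Q7206 : ∀ i, i < 7206 → P i := stepQ 7205 Q7205 (allL N7205 (tt N5653 F23075) (tt N8814 (iv F28395)) (tt N7887 (iv F25224)) (tt N5651 F23076) (tt N5667 F23077) (tt N8641 (iv F27909)) (tt N5650 (iv D7298)) (tt N7881 (iv F25205)))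
theorem Q7207 : ∀ i, i < 7207 → P i := stepQ 7206 Q7206 (allL N7206 (tt N6499 F23078) (tt N7746 (iv F24768)) (tt N7206 F23079) (tt N5655 F23080) (tt N6504 F23081) (tt N5654 (iv D7299)) (tt N7411 (iv F23768)) (tt N6771 F23082))
theorem Q7208 : ∀ i, i < 7208 → P i := stepQ 7207 Q7207 (allL N7207 (tt N6968 F23083) (tt N7747 (iv F24771)) (tt N5659 F23084) (tt N7411 (iv F23767)) (tt N5657 F23085) (tt N6899 F23086) (tt N5655 (iv D7300)) (tt N8817 D8910))
theorem Q7209 : ∀ i, i < 7209 → P i := stepQ 7208 Q7208 (allL N7208 (tt N6970 F23087) (tt N7208 F23088) (tt N8818 D8911) (tt N5656 (iv D7301)) (tt N7277 (iv F23354)) (tt N7718 (iv F24685)) (tt N8819 D8912) (tt N7275 F23349))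
theorem Q7210 : ∀ i, i < 7210 → P i := stepQ 7209 Q7209 (allL N7209 (tt N6971 F23089) (tt N7209 F23090) (tt N5662 F23091) (tt N8819 (iv F28414)) (tt N5658 F23092) (tt N8820 D8913) (tt N5656 (iv D7302)) (tt N6661 F23093))
theorem Q7211 : ∀ i, i < 7211 → P i := stepQ 7210 Q7210 (allL N7210 (tt N6973 F23094) (tt N7751 (iv F24784)) (tt N5663 F23095) (tt N8821 D8914) (tt N8817 (iv F28408)) (tt N6902 F23096) (tt N7725 (iv F24705)) (tt N5657 (iv D7303)))
theorem Q7212 : ∀ i, i < 7212 → P i := stepQ 7211 Q7211 (allL N7211 (tt N6977 F23097) (tt N8822 D8915) (tt N5665 F23098) (tt N7670 (iv F24546)) (tt N8820 (iv F28418)) (tt N5658 (iv D7304)) (tt N7724 (iv F24702)) (tt N6907 F23099))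
theorem Q7213 : ∀ i, i < 7213 → P i := stepQ 7212 Q7212 (allL N7212 (tt N6978 F23100) (tt N5977 F23101) (tt N8817 (iv F28407)) (tt N8823 D8916) (tt N5663 F23102) (tt N6908 F23103) (tt N8824 D8917) (tt N5659 (iv D7305)))
theorem Q7214 : ∀ i, i < 7214 → P i := stepQ 7213 Q7213 (allL N7213 (tt N6979 F23104) (tt N5978 F23105) (tt N8825 D8918) (tt N5660 (iv D7306)) (tt N7370 (iv F23631)) (tt N5661 F23106) (tt N8826 D8919) (tt N7213 F23107))
theorem Q7215 : ∀ i, i < 7215 → P i := stepQ 7214 Q7214 (allL N7214 (tt N6980 F23108) (tt N5979 F23109) (tt N7723 (iv F24698)) (tt N8826 (iv F28440)) (tt N5664 F23110) (tt N8827 D8920) (tt N5660 (iv D7307)) (tt N8824 (iv F28432)))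
theorem Q7216 : ∀ i, i < 7216 → P i := stepQ 7215 Q7215 (allL N7215 (tt N6981 F23111) (tt N8828 D8921) (tt N5661 (iv D7308)) (tt N8818 (iv F28411)) (tt N8813 (iv F28391)) (tt N8825 (iv F28436)) (tt N8829 D8922) (tt N7215 F23112))
theorem Q7217 : ∀ i, i < 7217 → P i := stepQ 7216 Q7216 (allL N7216 (tt N6983 F23113) (tt N5667 F23114) (tt N8829 (iv F28449)) (tt N5662 F23115) (tt N8814 (iv F28397)) (tt N8830 D8923) (tt N5661 (iv D7309)) (tt N7879 (iv F25198)))
theorem Q7218 : ∀ i, i < 7218 → P i := stepQ 7217 Q7217 (allL N7217 (tt N6984 F23116) (tt N8831 D8924) (tt N8820 (iv F28417)) (tt N8830 (iv F28451)) (tt N5665 F23117) (tt N5662 (iv D7310)) (tt N8827 (iv F28443)) (tt N6910 F23118))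
theorem Q7219 : ∀ i, i < 7219 → P i := stepQ 7218 Q7218 (allL N7218 (tt N6985 F23119) (tt N5982 F23120) (tt N7725 (iv F24704)) (tt N8058 (iv F25899)) (tt N8824 (iv F28431)) (tt N8832 D8925) (tt N5663 (iv D7311)) (tt N5664 F23121))
theorem Q7220 : ∀ i, i < 7220 → P i := stepQ 7219 Q7219 (allL N7219 (tt N6987 F23122) (tt N8833 D8926) (tt N7724 (iv F24700)) (tt N7714 (iv F24668)) (tt N8827 (iv F28442)) (tt N5664 (iv D7312)) (tt N5665 F23123) (tt N8832 (iv F28457)))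
theorem Q7221 : ∀ i, i < 7221 → P i := stepQ 7220 Q7220 (allL N7220 (tt N8658 (iv F27962)) (tt N5665 (iv D7313)) (tt N8834 D8927) (tt N8645 (iv F27924)) (tt N8831 (iv F28452)) (tt N5669 F23124) (tt N8833 (iv F28459)) (tt N6918 F23125))
theorem Q7222 : ∀ i, i < 7222 → P i := stepQ 7221 Q7221 (allL N7221 (tt N7221 F23126) (tt N5666 (iv D7314)) (tt N8828 (iv F28445)) (tt N7221 F23127) (tt N8816 (iv F28402)) (tt N7221 F23128) (tt N7885 F25217) (tt N7221 F23129))
theorem Q7223 : ∀ i, i < 7223 → P i := stepQ 7222 Q7222 (allL N7222 (tt N5670 F23130) (tt N8835 D8928) (tt N7710 (iv F24649)) (tt N5668 F23131) (tt N8641 (iv F27908)) (tt N5667 (iv D7315)) (tt N5986 F23132) (tt N7705 (iv F24631)))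
theorem Q7224 : ∀ i, i < 7224 → P i := stepQ 7223 Q7223 (allL N7223 (tt N8661 (iv F27973)) (tt N5668 (iv D7316)) (tt N8836 D8929) (tt N8835 (iv F28462)) (tt N5669 F23133) (tt N8831 (iv F28453)) (tt N5988 F23134) (tt N6927 F23135))
theorem Q7225 : ∀ i, i < 7225 → P i := stepQ 7224 Q7224 (allL N7224 (tt N8660 (iv F27968)) (tt N7224 F23136) (tt N5669 (iv D7317)) (tt N8837 D8930) (tt N8836 (iv F28466)) (tt N8834 (iv F28460)) (tt N5989 F23137) (tt N6928 F23138))
theorem Q7226 : ∀ i, i < 7226 → P i := stepQ 7225 Q7225 (allL N7225 (tt N7225 F23139) (tt N8570 (iv F27648)) (tt N7225 F23140) (tt N5674 F23141) (tt N5671 (iv D7318)) (tt N8386 (iv F26992)) (tt N8838 D8931) (tt N8391 (iv F27017)))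
theorem Q7227 : ∀ i, i < 7227 → P i := stepQ 7226 Q7226 (allL N7226 (tt N7226 F23142) (tt N8571 (iv F27653)) (tt N7226 F23143) (tt N5672 F23144) (tt N8838 (iv F28475)) (tt N8839 D8932) (tt N5671 (iv D7319)) (tt N8840 D8933))
theorem Q7228 : ∀ i, i < 7228 → P i := stepQ 7227 Q7227 (allL N7227 (tt N7227 F23145) (tt N8841 D8934) (tt N5677 F23146) (tt N8839 (iv F28480)) (tt N5676 F23147) (tt N5672 (iv D7320)) (tt N8388 (iv F27000)) (tt N5739 F23148))
theorem Q7229 : ∀ i, i < 7229 → P i := stepQ 7228 Q7228 (allL N7228 (tt N7228 F23149) (tt N8842 D8935) (tt N5679 F23150) (tt N8438 (iv F27179)) (tt N8388 (iv F26999)) (tt N5673 (iv D7321)) (tt N5676 F23151) (tt N8393 (iv F27025)))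
theorem Q7230 : ∀ i, i < 7230 → P i := stepQ 7229 Q7229 (allL N7229 (tt N7229 F23152) (tt N8577 (iv F27672)) (tt N7941 (iv F25429)) (tt N8838 (iv F28474)) (tt N5675 F23153) (tt N7302 (iv F23441)) (tt N5674 (iv D7322)) (tt N7301 (iv F23438)))
theorem Q7231 : ∀ i, i < 7231 → P i := stepQ 7230 Q7230 (allL N7230 (tt N7230 F23154) (tt N8843 D8936) (tt N7929 (iv F25381)) (tt N5676 F23155) (tt N7302 (iv F23440)) (tt N5675 (iv D7323)) (tt N8438 (iv F27181)) (tt N7300 F23432))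
theorem Q7232 : ∀ i, i < 7232 → P i := stepQ 7231 Q7231 (allL N7231 (tt N7231 F23156) (tt N8579 (iv F27680)) (tt N7939 (iv F25423)) (tt N5748 F23157) (tt N7301 (iv F23436)) (tt N7300 (iv F23433)) (tt N7308 (iv F23457)) (tt N5675 (iv D7324)))
theorem Q7233 : ∀ i, i < 7233 → P i := stepQ 7232 Q7232 (allL N7232 (tt N8844 D8937) (tt N5676 (iv D7325)) (tt N7930 (iv F25384)) (tt N8843 (iv F28492)) (tt N8841 (iv F28488)) (tt N8580 (iv F27683)) (tt N8842 (iv F28490)) (tt N5749 F23158))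
theorem Q7234 : ∀ i, i < 7234 → P i := stepQ 7233 Q7233 (allL N7233 (tt N7995 (iv F25653)) (tt N7233 F23159) (tt N6765 F23160) (tt N8845 D8938) (tt N7233 F23161) (tt N7867 (iv F25149)) (tt N6764 F23162) (tt N5680 (iv D7326)))
theorem Q7235 : ∀ i, i < 7235 → P i := stepQ 7234 Q7234 (allL N7234 (tt N5684 F23163) (tt N8403 (iv F27055)) (tt N8344 (iv F26848)) (tt N7234 F23164) (tt N5682 F23165) (tt N6177 F23166) (tt N5681 (iv D7327)) (tt N8846 D8939))
theorem Q7236 : ∀ i, i < 7236 → P i := stepQ 7235 Q7235 (allL N7235 (tt N5685 F23167) (tt N6654 (iv F23171)) (tt N8345 (iv F26852)) (tt N6866 F23168) (tt N6177 F23169) (tt N5682 (iv D7328)) (tt N5683 F23170) (tt N8847 D8940))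
theorem Q7237 : ∀ i, i < 7237 → P i := stepQ 7236 Q7236 (allL N7236 (tt N5686 F23172) (tt N8405 (iv F27069)) (tt N8346 (iv F26856)) (tt N8848 D8941) (tt N8846 (iv F28505)) (tt N8847 (iv F28510)) (tt N8606 (iv F27770)) (tt N5682 (iv D7329)))
theorem Q7238 : ∀ i, i < 7238 → P i := stepQ 7237 Q7237 (allL N7237 (tt N8846 (iv F28503)) (tt N7237 F23173) (tt N8347 (iv F26857)) (tt N8849 D8942) (tt N5686 F23174) (tt N6178 F23175) (tt N8613 (iv F27791)) (tt N5684 (iv D7330)))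
theorem Q7239 : ∀ i, i < 7239 → P i := stepQ 7238 Q7238 (allL N7238 (tt N8847 (iv F28507)) (tt N7823 F24999) (tt N8348 (iv F26860)) (tt N8850 D8943) (tt N6178 F23176) (tt N5686 F23177) (tt N8851 D8944) (tt N5685 (iv D7331)))
theorem Q7240 : ∀ i, i < 7240 → P i := stepQ 7239 Q7239 (allL N7239 (tt N8848 (iv F28512)) (tt N7239 F23178) (tt N8852 D8945) (tt N5686 (iv D7332)) (tt N8853 D8946) (tt N8850 (iv F28516)) (tt N8617 (iv F27799)) (tt N8845 (iv F28502)))
theorem Q7241 : ∀ i, i < 7241 → P i := stepQ 7240 Q7240 (allL N7240 (tt N6653 F23179) (tt N6631 F23180) (tt N8350 (iv F26864)) (tt N6634 F23181) (tt N6035 F23182) (tt N8620 (iv F27807)) (tt N5687 (iv D7333)) (tt N8851 (iv F28520)))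
theorem Q7242 : ∀ i, i < 7242 → P i := stepQ 7241 Q7241 (allL N7241 (tt N7241 F23183) (tt N6605 F23184) (tt N5758 F23185) (tt N5688 (iv D7334)) (tt N8230 (iv F26443)) (tt N8324 (iv F26791)) (tt N8854 D8947) (tt N7241 F23186))
theorem Q7243 : ∀ i, i < 7243 → P i := stepQ 7242 Q7242 (allL N7242 (tt N7242 F23187) (tt N6630 F23188) (tt N5689 F23189) (tt N8854 (iv F28526)) (tt N5750 F23190) (tt N8855 D8948) (tt N5688 (iv D7335)) (tt N7242 F23191))
theorem Q7244 : ∀ i, i < 7244 → P i := stepQ 7243 Q7243 (allL N7243 (tt N7243 F23192) (tt N7742 (iv F24750)) (tt N8855 (iv F28528)) (tt N5761 F23193) (tt N5751 F23194) (tt N5689 (iv D7336)) (tt N8327 (iv F26802)) (tt N7243 F23195))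
theorem Q7245 : ∀ i, i < 7245 → P i := stepQ 7244 Q7244 (allL N7244 (tt N7244 F23196) (tt N5691 F23197) (tt N8399 (iv F27043)) (tt N7244 F23198) (tt N5692 F23199) (tt N6837 F23201) (tt N5690 (iv D7337)) (tt N6836 (iv F23200)))
theorem Q7246 : ∀ i, i < 7246 → P i := stepQ 7245 Q7245 (allL N7245 (tt N7245 F23202) (tt N6655 F23203) (tt N8400 (iv F27046)) (tt N6870 F23204) (tt N6837 F23205) (tt N5692 (iv D7338)) (tt N8404 (iv F27066)) (tt N6834 F23206))
theorem Q7247 : ∀ i, i < 7247 → P i := stepQ 7246 Q7246 (allL N7246 (tt N7246 F23207) (tt N5693 F23208) (tt N8401 (iv F27051)) (tt N7246 F23209) (tt N6836 F23210) (tt N6834 F23211) (tt N8634 (iv F27876)) (tt N5692 (iv D7339)))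
theorem Q7248 : ∀ i, i < 7248 → P i := stepQ 7247 Q7247 (allL N7247 (tt N5714 F23212) (tt N8391 (iv F27013)) (tt N6374 F23213) (tt N5694 (iv D7340)) (tt N8389 (iv F27004)) (tt N8360 (iv F26902)) (tt N8856 D8949) (tt N8570 (iv F27652)))
theorem Q7249 : ∀ i, i < 7249 → P i := stepQ 7248 Q7248 (allL N7248 (tt N5715 F23214) (tt N8399 (iv F27042)) (tt N5695 F23215) (tt N8856 (iv F28533)) (tt N5697 F23216) (tt N8857 D8950) (tt N5694 (iv D7341)) (tt N8858 D8951))
theorem Q7250 : ∀ i, i < 7250 → P i := stepQ 7249 Q7249 (allL N7249 (tt N5716 F23217) (tt N6353 F23218) (tt N8857 (iv F28536)) (tt N6366 F23219) (tt N5698 F23220) (tt N5695 (iv D7342)) (tt N8362 (iv F26911)) (tt N8859 D8952))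
theorem Q7251 : ∀ i, i < 7251 → P i := stepQ 7250 Q7250 (allL N7250 (tt N5717 F23221) (tt N5696 F23222) (tt N8858 (iv F28541)) (tt N8860 D8953) (tt N5699 F23223) (tt N8859 (iv F28550)) (tt N8639 (iv F27900)) (tt N5695 (iv D7343)))
theorem Q7252 : ∀ i, i < 7252 → P i := stepQ 7251 Q7251 (allL N7251 (tt N5702 F23224) (tt N8860 (iv F28552)) (tt N8861 D8954) (tt N5696 (iv D7344)) (tt N5986 F23225) (tt N5971 F23226) (tt N8641 (iv F27910)) (tt N6371 F23227))
theorem Q7253 : ∀ i, i < 7253 → P i := stepQ 7252 Q7252 (allL N7252 (tt N5721 F23228) (tt N8862 D8955) (tt N5698 F23229) (tt N8398 (iv F27040)) (tt N8857 (iv F28537)) (tt N5697 (iv D7345)) (tt N8364 (iv F26919)) (tt N8863 D8956))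
theorem Q7254 : ∀ i, i < 7254 → P i := stepQ 7253 Q7253 (allL N7253 (tt N5722 F23230) (tt N8401 (iv F27050)) (tt N5699 F23231) (tt N8864 D8957) (tt N8858 (iv F28542)) (tt N8863 (iv F28571)) (tt N8643 (iv F27917)) (tt N5697 (iv D7346)))
theorem Q7255 : ∀ i, i < 7255 → P i := stepQ 7254 Q7254 (allL N7254 (tt N7254 F23232) (tt N5698 (iv D7347)) (tt N7860 (iv F25125)) (tt N7254 F23233) (tt N6353 F23234) (tt N5700 F23235) (tt N8366 (iv F26926)) (tt N5970 (iv F23236)))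
theorem Q7256 : ∀ i, i < 7256 → P i := stepQ 7255 Q7255 (allL N7255 (tt N5723 F23237) (tt N5970 F23238) (tt N8863 (iv F28569)) (tt N5984 (iv F23240)) (tt N8859 (iv F28549)) (tt N5699 F23239) (tt N7894 (iv F25249)) (tt N5698 (iv D7348)))
theorem Q7257 : ∀ i, i < 7257 → P i := stepQ 7256 Q7256 (allL N7256 (tt N7256 F23241) (tt N6651 F23242) (tt N7256 F23243) (tt N5701 (iv D7349)) (tt N8005 (iv F25698)) (tt N7493 (iv F24030)) (tt N7861 (iv F25130)) (tt N7256 F23244))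
theorem Q7258 : ∀ i, i < 7258 → P i := stepQ 7257 Q7257 (allL N7257 (tt N8861 (iv F28555)) (tt N7578 (iv F24304)) (tt N5702 (iv D7350)) (tt N5730 F23245) (tt N5990 F23246) (tt N5729 F23247) (tt N7711 (iv F24658)) (tt N6379 F23248))
theorem Q7259 : ∀ i, i < 7259 → P i := stepQ 7258 Q7258 (allL N7258 (tt N7258 F23249) (tt N5708 F23250) (tt N5703 (iv D7351)) (tt N8865 D8958) (tt N7258 F23251) (tt N7258 F23252) (tt N6232 F23253) (tt N6279 (iv F23254)))
theorem Q7260 : ∀ i, i < 7260 → P i := stepQ 7259 Q7259 (allL N7259 (tt N7259 F23255) (tt N5704 F23256) (tt N6232 F23257) (tt N7259 F23258) (tt N7259 F23259) (tt N6230 (iv F23260)) (tt N5703 (iv D7352)) (tt N6229 (iv F23261)))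
theorem Q7261 : ∀ i, i < 7261 → P i := stepQ 7260 Q7260 (allL N7260 (tt N7260 F23262) (tt N5705 F23263) (tt N6279 F23264) (tt N8816 (iv F28401)) (tt N7260 F23265) (tt N7260 F23266) (tt N6274 F23267) (tt N5703 (iv D7353)))
theorem Q7262 : ∀ i, i < 7262 → P i := stepQ 7261 Q7261 (allL N7261 (tt N5727 F23268) (tt N6229 F23269) (tt N5711 F23270) (tt N7293 F23411) (tt N7261 F23271) (tt N7261 F23272) (tt N6273 F23273) (tt N5704 (iv D7354)))
theorem Q7263 : ∀ i, i < 7263 → P i := stepQ 7262 Q7262 (allL N7262 (tt N5728 F23274) (tt N6274 F23275) (tt N5712 F23276) (tt N7887 (iv F25225)) (tt N7262 F23277) (tt N6296 (iv F23279)) (tt N5705 (iv D7355)) (tt N6273 F23278))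
theorem Q7264 : ∀ i, i < 7264 → P i := stepQ 7263 Q7263 (allL N7263 (tt N5729 F23280) (tt N7263 F23281) (tt N5971 F23282) (tt N5707 F23283) (tt N5985 F23284) (tt N8861 (iv F28558)) (tt N5706 (iv D7356)) (tt N6373 (iv F23285)))
theorem Q7265 : ∀ i, i < 7265 → P i := stepQ 7264 Q7264 (allL N7264 (tt N5730 F23286) (tt N6298 (iv F23291)) (tt N5713 F23287) (tt N8861 (iv F28556)) (tt N7264 F23288) (tt N5707 (iv D7357)) (tt N6296 F23289) (tt N7264 F23290))
theorem Q7266 : ∀ i, i < 7266 → P i := stepQ 7265 Q7265 (allL N7265 (tt N6374 F23292) (tt N8865 (iv F28575)) (tt N5714 F23293) (tt N5708 (iv D7358)) (tt N8866 D8959) (tt N8368 (iv F26935)) (tt N8867 D8960) (tt N8868 D8961))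
theorem Q7267 : ∀ i, i < 7267 → P i := stepQ 7266 Q7266 (allL N7266 (tt N6369 F23294) (tt N6232 F23295) (tt N5709 F23296) (tt N8867 (iv F28586)) (tt N7266 F23297) (tt N6235 F23298) (tt N5708 (iv D7359)) (tt N6231 (iv F23299)))
theorem Q7268 : ∀ i, i < 7268 → P i := stepQ 7267 Q7267 (allL N7267 (tt N6375 F23300) (tt N6279 F23301) (tt N5710 F23302) (tt N7326 (iv F23505)) (tt N7267 F23303) (tt N6808 F23304) (tt N6277 F23305) (tt N5708 (iv D7360)))
theorem Q7269 : ∀ i, i < 7269 → P i := stepQ 7268 Q7268 (allL N7268 (tt N6366 F23306) (tt N7268 F23307) (tt N6235 F23308) (tt N5716 F23309) (tt N7268 F23310) (tt N5709 (iv D7361)) (tt N8369 (iv F26942)) (tt N6234 (iv F23311)))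
theorem Q7270 : ∀ i, i < 7270 → P i := stepQ 7269 Q7269 (allL N7269 (tt N6370 F23312) (tt N5711 F23313) (tt N6231 F23314) (tt N8869 D8962) (tt N7269 F23315) (tt N6234 F23316) (tt N6276 (iv F23317)) (tt N5709 (iv D7362)))
theorem Q7271 : ∀ i, i < 7271 → P i := stepQ 7270 Q7270 (allL N7270 (tt N6376 F23318) (tt N5712 F23319) (tt N6277 F23320) (tt N6819 F23321) (tt N7270 F23322) (tt N6282 F23323) (tt N5710 (iv D7363)) (tt N6276 F23324))
theorem Q7272 : ∀ i, i < 7272 → P i := stepQ 7271 Q7271 (allL N7271 (tt N5731 F23325) (tt N8869 (iv F28594)) (tt N7283 (iv F23370)) (tt N5711 (iv D7364)) (tt N7282 F23368) (tt N7271 F23326) (tt N8870 D8963) (tt N5718 F23327))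
theorem Q7273 : ∀ i, i < 7273 → P i := stepQ 7272 Q7272 (allL N7272 (tt N5732 F23328) (tt N6276 F23329) (tt N6273 F23330) (tt N8870 (iv F28601)) (tt N7272 F23331) (tt N6295 (iv F23333)) (tt N5711 (iv D7365)) (tt N5712 F23332))
theorem Q7274 : ∀ i, i < 7274 → P i := stepQ 7273 Q7273 (allL N7273 (tt N5733 F23334) (tt N6302 F23335) (tt N6296 F23336) (tt N8631 (iv F27855)) (tt N7273 F23337) (tt N5712 (iv D7366)) (tt N5713 F23338) (tt N6295 F23339))
theorem Q7275 : ∀ i, i < 7275 → P i := stepQ 7274 Q7274 (allL N7274 (tt N7274 F23340) (tt N5713 (iv D7367)) (tt N6303 F23341) (tt N6836 F23342) (tt N7274 F23343) (tt N6832 F23344) (tt N6302 F23345) (tt N7274 F23346))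
theorem Q7276 : ∀ i, i < 7276 → P i := stepQ 7275 Q7275 (allL N7275 (tt N8389 (iv F27002)) (tt N7275 F23347) (tt N8866 (iv F28580)) (tt N5719 F23348) (tt N5714 (iv D7368)) (tt N8370 (iv F26946)) (tt N8484 (iv F27363)) (tt N7208 (iv F23349)))
theorem Q7277 : ∀ i, i < 7277 → P i := stepQ 7276 Q7276 (allL N7276 (tt N8856 (iv F28531)) (tt N7276 F23350) (tt N8867 (iv F28585)) (tt N5715 F23351) (tt N8484 (iv F27362)) (tt N8871 D8964) (tt N5714 (iv D7369)) (tt N8490 (iv F27376)))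
theorem Q7278 : ∀ i, i < 7278 → P i := stepQ 7277 Q7277 (allL N7277 (tt N8570 (iv F27647)) (tt N7277 F23352) (tt N8868 (iv F28589)) (tt N6063 F23353) (tt N7208 F23354) (tt N6106 F23355) (tt N8872 D8965) (tt N5714 (iv D7370)))
theorem Q7279 : ∀ i, i < 7279 → P i := stepQ 7278 Q7278 (allL N7278 (tt N8857 (iv F28534)) (tt N8873 D8966) (tt N5716 F23356) (tt N8871 (iv F28605)) (tt N5721 F23357) (tt N5715 (iv D7371)) (tt N8372 (iv F26952)) (tt N8874 D8967))
theorem Q7280 : ∀ i, i < 7280 → P i := stepQ 7279 Q7279 (allL N7279 (tt N8858 (iv F28539)) (tt N7279 F23358) (tt N5717 F23359) (tt N8875 D8968) (tt N5722 F23360) (tt N8874 (iv F28618)) (tt N8649 (iv F27938)) (tt N5715 (iv D7372)))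
theorem Q7281 : ∀ i, i < 7281 → P i := stepQ 7280 Q7280 (allL N7280 (tt N8859 (iv F28546)) (tt N7280 F23361) (tt N8874 (iv F28616)) (tt N8876 D8969) (tt N5723 F23362) (tt N5717 F23363) (tt N8877 D8970) (tt N5716 (iv D7373)))
theorem Q7282 : ∀ i, i < 7282 → P i := stepQ 7281 Q7281 (allL N7281 (tt N8860 (iv F28551)) (tt N5718 F23364) (tt N8878 D8971) (tt N5717 (iv D7374)) (tt N8879 D8972) (tt N8876 (iv F28624)) (tt N8651 (iv F27943)) (tt N8869 (iv F28597)))
theorem Q7283 : ∀ i, i < 7283 → P i := stepQ 7282 Q7282 (allL N7282 (tt N5734 F23365) (tt N8880 D8973) (tt N5718 (iv D7375)) (tt N7282 F23366) (tt N7271 (iv F23368)) (tt N7282 F23367) (tt N8652 (iv F27947)) (tt N7283 (iv F23373)))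
theorem Q7284 : ∀ i, i < 7284 → P i := stepQ 7283 Q7283 (allL N7283 (tt N5735 F23369) (tt N8879 (iv F28629)) (tt N7271 F23370) (tt N5726 F23371) (tt N5718 (iv D7376)) (tt N7283 F23372) (tt N8653 (iv F27951)) (tt N7282 F23373))
theorem Q7285 : ∀ i, i < 7285 → P i := stepQ 7284 Q7284 (allL N7284 (tt N8398 (iv F27038)) (tt N7981 (iv F25593)) (tt N7284 F23374) (tt N5721 F23375) (tt N8483 (iv F27359)) (tt N5720 (iv D7377)) (tt N8377 (iv F26968)) (tt N7979 F25587))
theorem Q7286 : ∀ i, i < 7286 → P i := stepQ 7285 Q7285 (allL N7285 (tt N8881 D8974) (tt N5721 (iv D7378)) (tt N7285 F23376) (tt N7981 F25596) (tt N8873 (iv F28611)) (tt N7285 F23377) (tt N8379 (iv F26971)) (tt N8882 D8975))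
theorem Q7287 : ∀ i, i < 7287 → P i := stepQ 7286 Q7286 (allL N7286 (tt N8863 (iv F28567)) (tt N8882 (iv F28641)) (tt N5723 F23378) (tt N8883 D8976) (tt N8874 (iv F28617)) (tt N5722 F23379) (tt N8884 D8977) (tt N5721 (iv D7379)))
theorem Q7288 : ∀ i, i < 7288 → P i := stepQ 7287 Q7287 (allL N7287 (tt N8864 (iv F28572)) (tt N7287 F23380) (tt N8885 D8978) (tt N5722 (iv D7380)) (tt N8473 (iv F27335)) (tt N8883 (iv F28646)) (tt N8657 (iv F27961)) (tt N8471 F27330))
theorem Q7289 : ∀ i, i < 7289 → P i := stepQ 7288 Q7288 (allL N7288 (tt N5984 F23381) (tt N7288 F23382) (tt N5988 F23402) (tt N5723 (iv D7381)) (tt N5989 (iv F23404)) (tt N5724 F23383) (tt N8836 (iv F28467)) (tt N7288 F23384))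
theorem Q7290 : ∀ i, i < 7290 → P i := stepQ 7289 Q7289 (allL N7289 (tt N7894 F25250) (tt N7289 F23385) (tt N8884 (iv F28647)) (tt N8836 F28469) (tt N8877 (iv F28627)) (tt N8659 (iv F27967)) (tt N5723 (iv D7382)) (tt N8383 (iv F26980)))
theorem Q7291 : ∀ i, i < 7291 → P i := stepQ 7290 Q7290 (allL N7290 (tt N5989 F23386) (tt N5981 F23398) (tt N5724 (iv D7383)) (tt N8885 (iv F28649)) (tt N5984 (iv F23399)) (tt N5988 (iv F23400)) (tt N8660 (iv F27970)) (tt N7290 F23387))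
theorem Q7292 : ∀ i, i < 7292 → P i := stepQ 7291 Q7291 (allL N7291 (tt N5988 F23388) (tt N5726 F23389) (tt N5984 F23403) (tt N8879 (iv F28630)) (tt N5724 (iv D7384)) (tt N5989 (iv F23401)) (tt N8661 (iv F27976)) (tt N7291 F23390))
theorem Q7293 : ∀ i, i < 7293 → P i := stepQ 7292 Q7292 (allL N7292 (tt N7292 F23391) (tt N5725 (iv D7385)) (tt N5981 (iv F23396)) (tt N7292 F23392) (tt N5976 (iv F23397)) (tt N5974 F23395) (tt N6265 F23393) (tt N7292 F23394))
theorem Q7294 : ∀ i, i < 7294 → P i := stepQ 7293 Q7293 (allL N7293 (tt N5736 F23405) (tt N5976 F23406) (tt N5726 F23407) (tt N7261 (iv F23411)) (tt N5725 (iv D7386)) (tt N7293 F23408) (tt N6267 F23409) (tt N7293 F23410))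
theorem Q7295 : ∀ i, i < 7295 → P i := stepQ 7294 Q7294 (allL N7294 (tt N8870 (iv F28598)) (tt N6380 F23412) (tt N7069 F23413) (tt N5732 F23414) (tt N7068 F23415) (tt N7953 (iv F25471)) (tt N5731 (iv D7387)) (tt N8635 (iv F27881)))
theorem Q7296 : ∀ i, i < 7296 → P i := stepQ 7295 Q7295 (allL N7295 (tt N7295 F23416) (tt N8249 (iv F26526)) (tt N8233 (iv F26455)) (tt N5746 F23417) (tt N5738 F23418) (tt N6794 F23420) (tt N5737 (iv D7388)) (tt N6793 (iv F23419)))
theorem Q7297 : ∀ i, i < 7297 → P i := stepQ 7296 Q7296 (allL N7296 (tt N7296 F23421) (tt N8886 D8979) (tt N8237 (iv F26471)) (tt N5739 F23422) (tt N6794 F23423) (tt N5738 (iv D7389)) (tt N7309 (iv F23463)) (tt N6792 F23424))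
theorem Q7298 : ∀ i, i < 7298 → P i := stepQ 7297 Q7297 (allL N7297 (tt N7297 F23425) (tt N8256 (iv F26555)) (tt N8238 (iv F26475)) (tt N8840 (iv F28485)) (tt N6793 F23426) (tt N6792 F23427) (tt N8439 (iv F27188)) (tt N5738 (iv D7390)))
theorem Q7299 : ∀ i, i < 7299 → P i := stepQ 7298 Q7298 (allL N7298 (tt N8887 D8980) (tt N5739 (iv D7391)) (tt N8888 D8981) (tt N8886 (iv F28652)) (tt N5749 F23428) (tt N8665 (iv F27988)) (tt N8323 (iv F26787)) (tt N8841 (iv F28489)))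
theorem Q7300 : ∀ i, i < 7300 → P i := stepQ 7299 Q7299 (allL N7299 (tt N8654 (iv F27952)) (tt N8889 D8982) (tt N6000 F23429) (tt N8642 (iv F27913)) (tt N8057 (iv F25896)) (tt N5740 (iv D7392)) (tt N8669 (iv F27997)) (tt N8110 (iv F26090)))
theorem Q7301 : ∀ i, i < 7301 → P i := stepQ 7300 Q7300 (allL N7300 (tt N7300 F23430) (tt N8637 (iv F27890)) (tt N8629 (iv F27841)) (tt N7311 (iv F23466)) (tt N5742 F23431) (tt N7231 F23433) (tt N5741 (iv D7393)) (tt N7230 (iv F23432)))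
theorem Q7302 : ∀ i, i < 7302 → P i := stepQ 7301 Q7301 (allL N7301 (tt N7301 F23434) (tt N8890 D8983) (tt N8633 (iv F27865)) (tt N5743 F23435) (tt N7231 F23436) (tt N5742 (iv D7394)) (tt N5747 F23437) (tt N7229 F23438))
theorem Q7303 : ∀ i, i < 7303 → P i := stepQ 7302 Q7302 (allL N7302 (tt N7302 F23439) (tt N8643 (iv F27915)) (tt N8634 (iv F27872)) (tt N8396 (iv F27035)) (tt N7230 F23440) (tt N7229 F23441) (tt N8401 (iv F27052)) (tt N5742 (iv D7395)))
theorem Q7304 : ∀ i, i < 7304 → P i := stepQ 7303 Q7303 (allL N7303 (tt N8891 D8984) (tt N5743 (iv D7396)) (tt N8892 D8985) (tt N8890 (iv F28661)) (tt N8323 (iv F26786)) (tt N8889 (iv F28660)) (tt N5749 F23442) (tt N8397 (iv F27037)))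
theorem Q7305 : ∀ i, i < 7305 → P i := stepQ 7304 Q7304 (allL N7304 (tt N7304 F23443) (tt N8601 (iv F27750)) (tt N8230 F26445) (tt N5744 (iv D7397)) (tt N5758 F23444) (tt N8430 (iv F27141)) (tt N8893 D8986) (tt N7304 F23445))
theorem Q7306 : ∀ i, i < 7306 → P i := stepQ 7305 Q7305 (allL N7305 (tt N7305 F23446) (tt N8603 (iv F27760)) (tt N5746 F23447) (tt N8893 (iv F28670)) (tt N5745 F23448) (tt N8894 D8987) (tt N5744 (iv D7398)) (tt N8895 D8988))
theorem Q7307 : ∀ i, i < 7307 → P i := stepQ 7306 Q7306 (allL N7306 (tt N7306 F23449) (tt N8896 D8989) (tt N5747 F23450) (tt N5760 F23451) (tt N8894 (iv F28677)) (tt N5745 (iv D7399)) (tt N8633 (iv F27868)) (tt N8897 D8990))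
theorem Q7308 : ∀ i, i < 7308 → P i := stepQ 7307 Q7307 (allL N7307 (tt N7307 F23452) (tt N8606 (iv F27769)) (tt N5748 F23453) (tt N7761 (iv F24818)) (tt N8895 (iv F28683)) (tt N8897 (iv F28697)) (tt N8405 (iv F27073)) (tt N5745 (iv D7400)))
theorem Q7309 : ∀ i, i < 7309 → P i := stepQ 7308 Q7308 (allL N7308 (tt N7308 F23454) (tt N8898 D8991) (tt N8894 (iv F28675)) (tt N6794 F23455) (tt N5747 F23456) (tt N5746 (iv D7401)) (tt N7231 F23457) (tt N6711 (iv F23458)))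
theorem Q7310 : ∀ i, i < 7310 → P i := stepQ 7309 Q7309 (allL N7309 (tt N7309 F23459) (tt N8682 (iv F28019)) (tt N8895 (iv F28682)) (tt N6712 F23460) (tt N5748 F23461) (tt N6711 F23462) (tt N7296 F23463) (tt N5746 (iv D7402)))
theorem Q7311 : ∀ i, i < 7311 → P i := stepQ 7310 Q7310 (allL N7310 (tt N8899 D8992) (tt N5747 (iv D7403)) (tt N8900 D8993) (tt N5749 F23464) (tt N8898 (iv F28701)) (tt N8683 (iv F28023)) (tt N8890 (iv F28663)) (tt N8901 D8994))
theorem Q7312 : ∀ i, i < 7312 → P i := stepQ 7311 Q7311 (allL N7311 (tt N7311 F23465) (tt N8901 (iv F28713)) (tt N8897 (iv F28695)) (tt N7300 F23466) (tt N6711 F23467) (tt N5748 F23468) (tt N6710 F23469) (tt N5747 (iv D7404)))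
theorem Q7313 : ∀ i, i < 7313 → P i := stepQ 7312 Q7312 (allL N7312 (tt N5749 (iv D7405)) (tt N7312 F23470) (tt N8902 D8995) (tt N8899 (iv F28705)) (tt N8887 (iv F28657)) (tt N8685 (iv F28025)) (tt N8891 (iv F28666)) (tt N8844 (iv F28498)))
theorem Q7314 : ∀ i, i < 7314 → P i := stepQ 7313 Q7313 (allL N7313 (tt N8902 (iv F28718)) (tt N5762 F23471) (tt N5749 (iv D7406)) (tt N8903 D8996) (tt N8888 (iv F28659)) (tt N8686 (iv F28027)) (tt N8892 (iv F28668)) (tt N7930 (iv F25385)))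
theorem Q7315 : ∀ i, i < 7315 → P i := stepQ 7314 Q7314 (allL N7314 (tt N7314 F23472) (tt N8904 D8997) (tt N5751 F23473) (tt N8237 (iv F26472)) (tt N8855 (iv F28529)) (tt N5750 (iv D7407)) (tt N8326 (iv F26798)) (tt N7314 F23474))
theorem Q7316 : ∀ i, i < 7316 → P i := stepQ 7315 Q7315 (allL N7315 (tt N7778 (iv F24858)) (tt N5751 (iv D7408)) (tt N8905 D8998) (tt N5752 F23475) (tt N7742 (iv F24751)) (tt N5769 F23476) (tt N8328 (iv F26805)) (tt N7315 F23477))
theorem Q7317 : ∀ i, i < 7317 → P i := stepQ 7316 Q7316 (allL N7316 (tt N7806 (iv F24933)) (tt N8888 (iv F28658)) (tt N5752 (iv D7409)) (tt N8906 D8999) (tt N5762 F23478) (tt N5770 F23479) (tt N8330 (iv F26815)) (tt N7931 (iv F25389)))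
theorem Q7318 : ∀ i, i < 7318 → P i := stepQ 7317 Q7317 (allL N7317 (tt N7317 F23480) (tt N8907 D9000) (tt N5754 F23481) (tt N8633 (iv F27866)) (tt N8432 (iv F27152)) (tt N5753 (iv D7410)) (tt N5760 F23482) (tt N7317 F23483))
theorem Q7319 : ∀ i, i < 7319 → P i := stepQ 7318 Q7318 (allL N7318 (tt N7807 (iv F24938)) (tt N8892 (iv F28667)) (tt N5755 (iv D7411)) (tt N8908 D9001) (tt N8330 (iv F26813)) (tt N6023 F23484) (tt N5762 F23485) (tt N8409 (iv F27084)))
theorem Q7320 : ∀ i, i < 7320 → P i := stepQ 7319 Q7319 (allL N7319 (tt N6573 F23486) (tt N5758 F23487) (tt N6566 F23488) (tt N5756 (iv D7412)) (tt N8601 (iv F27753)) (tt N8594 (iv F27723)) (tt N8909 D9002) (tt N7319 F23489))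
theorem Q7321 : ∀ i, i < 7321 → P i := stepQ 7320 Q7320 (allL N7320 (tt N7153 F23490) (tt N5759 F23491) (tt N5773 F23492) (tt N8909 (iv F28736)) (tt N5757 F23493) (tt N8910 D9003) (tt N5756 (iv D7413)) (tt N6076 F23494))
theorem Q7322 : ∀ i, i < 7322 → P i := stepQ 7321 Q7321 (allL N7321 (tt N8599 (iv F27739)) (tt N8911 D9004) (tt N5775 F23495) (tt N8605 (iv F27766)) (tt N8910 (iv F28739)) (tt N5757 (iv D7414)) (tt N8596 (iv F27732)) (tt N7729 (iv F24713)))
theorem Q7323 : ∀ i, i < 7323 → P i := stepQ 7322 Q7322 (allL N7322 (tt N7322 F23496) (tt N8909 (iv F28734)) (tt N8854 (iv F28525)) (tt N5759 F23497) (tt N8893 (iv F28671)) (tt N8912 D9005) (tt N5758 (iv D7415)) (tt N8913 D9006))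
theorem Q7324 : ∀ i, i < 7324 → P i := stepQ 7323 Q7323 (allL N7323 (tt N7323 F23498) (tt N8914 D9007) (tt N5761 F23499) (tt N8912 (iv F28743)) (tt N5760 F23500) (tt N5759 (iv D7416)) (tt N8432 (iv F27153)) (tt N6090 F23501))
theorem Q7325 : ∀ i, i < 7325 → P i := stepQ 7324 Q7324 (allL N7324 (tt N8915 D9008) (tt N5760 (iv D7417)) (tt N7755 (iv F24797)) (tt N8896 (iv F28687)) (tt N8914 (iv F28752)) (tt N8911 (iv F28741)) (tt N8907 (iv F28728)) (tt N7754 F24795))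
theorem Q7326 : ∀ i, i < 7326 → P i := stepQ 7325 Q7325 (allL N7325 (tt N7800 (iv F24918)) (tt N8903 (iv F28719)) (tt N7756 (iv F24799)) (tt N5762 (iv D7418)) (tt N8916 D9009) (tt N5776 F23502) (tt N8908 (iv F28732)) (tt N8917 D9010))
theorem Q7327 : ∀ i, i < 7327 → P i := stepQ 7326 Q7326 (allL N7326 (tt N5766 F23503) (tt N7902 (iv F25284)) (tt N5778 F23504) (tt N7267 F23505) (tt N6057 F23506) (tt N5763 (iv D7419)) (tt N7900 (iv F25278)) (tt N7661 (iv F24520)))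
theorem Q7328 : ∀ i, i < 7328 → P i := stepQ 7327 Q7327 (allL N7327 (tt N7499 (iv F24050)) (tt N7393 (iv F23711)) (tt N5779 F23507) (tt N7327 F23508) (tt N5765 F23509) (tt N6073 F23510) (tt N5764 (iv D7420)) (tt N7404 (iv F23746)))
theorem Q7329 : ∀ i, i < 7329 → P i := stepQ 7328 Q7328 (allL N7328 (tt N7900 (iv F25274)) (tt N7328 F23511) (tt N5780 F23512) (tt N7392 F23709) (tt N6073 F23513) (tt N5765 (iv D7421)) (tt N5766 F23514) (tt N7402 (iv F23738)))

end Cfsg.Agent.Helper17.U6PTC
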