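import Cfsg.Agent.Helper17.U6PTC.Fin2

set_option autoImplicit false
set_option linter.all false
set_option maxRecDepth 100000

noncomputable section

namespace Cfsg.Agent.Helper17.U6PTC

theorem Q7330 : ∀ i, i < 7330 → P i := stepQ 7329 Q7329 (allL N7329 (tt N6429 F23515) (tt N8918 D9011) (tt N8227 (iv F26432)) (tt N6424 F23516) (tt N6632 F23517) (tt N5767 (iv D7422)) (tt N6625 F23518) (tt N7329 F23519))
theorem Q7331 : ∀ i, i < 7331 → P i := stepQ 7330 Q7330 (allL N7330 (tt N8636 (iv F27883)) (tt N5768 (iv D7423)) (tt N8919 D9012) (tt N6956 F23520) (tt N7126 F23521) (tt N8918 (iv F28762)) (tt N6037 F23522) (tt N7330 F23523))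
theorem Q7332 : ∀ i, i < 7332 → P i := stepQ 7331 Q7331 (allL N7331 (tt N7781 (iv F24870)) (tt N8919 (iv F28765)) (tt N5769 (iv D7424)) (tt N8920 D9013) (tt N7744 (iv F24760)) (tt N8905 (iv F28723)) (tt N6039 F23524) (tt N7331 F23525))
theorem Q7333 : ∀ i, i < 7333 → P i := stepQ 7332 Q7332 (allL N7332 (tt N7810 (iv F24952)) (tt N8741 (iv F28190)) (tt N8920 (iv F28769)) (tt N5770 (iv D7425)) (tt N8921 D9014) (tt N8906 (iv F28725)) (tt N6041 F23526) (tt N8922 D9015))
theorem Q7334 : ∀ i, i < 7334 → P i := stepQ 7333 Q7333 (allL N7333 (tt N5775 F23527) (tt N7502 (iv F24062)) (tt N8599 (iv F27740)) (tt N7141 F23528) (tt N7155 F23529) (tt N5771 (iv D7426)) (tt N8593 (iv F27718)) (tt N7717 (iv F24682)))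
theorem Q7335 : ∀ i, i < 7335 → P i := stepQ 7334 Q7334 (allL N7334 (tt N7154 F23530) (tt N5793 F23531) (tt N8595 (iv F27727)) (tt N7148 F23532) (tt N5774 F23533) (tt N8923 D9016) (tt N5772 (iv D7427)) (tt N8924 D9017))
theorem Q7336 : ∀ i, i < 7336 → P i := stepQ 7335 Q7335 (allL N7335 (tt N7155 F23534) (tt N7722 (iv F24694)) (tt N8910 (iv F28738)) (tt N7149 F23535) (tt N5775 F23536) (tt N5773 (iv D7428)) (tt N8923 (iv F28778)) (tt N6079 F23537))
theorem Q7337 : ∀ i, i < 7337 → P i := stepQ 7336 Q7336 (allL N7336 (tt N8593 (iv F27716)) (tt N7730 (iv F24714)) (tt N8596 (iv F27730)) (tt N8742 (iv F28192)) (tt N8923 (iv F28777)) (tt N5774 (iv D7429)) (tt N5775 F23538) (tt N8925 D9018))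
theorem Q7338 : ∀ i, i < 7338 → P i := stepQ 7337 Q7337 (allL N7337 (tt N8554 (iv F27594)) (tt N6045 F23539) (tt N7191 F23540) (tt N8926 D9019) (tt N8924 (iv F28782)) (tt N8925 (iv F28785)) (tt N5781 F23541) (tt N5774 (iv D7430)))
theorem Q7339 : ∀ i, i < 7339 → P i := stepQ 7338 Q7338 (allL N7338 (tt N7804 (iv F24926)) (tt N8748 (iv F28208)) (tt N7758 (iv F24806)) (tt N8921 (iv F28771)) (tt N5776 (iv D7431)) (tt N8916 (iv F28757)) (tt N6052 F23542) (tt N8927 D9020))
theorem Q7340 : ∀ i, i < 7340 → P i := stepQ 7339 Q7339 (allL N7339 (tt N7792 (iv F24904)) (tt N8749 (iv F28210)) (tt N7750 F24782) (tt N7916 (iv F25336)) (tt N8927 (iv F28789)) (tt N8917 (iv F28758)) (tt N8928 D9021) (tt N5776 (iv D7432)))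
theorem Q7341 : ∀ i, i < 7341 → P i := stepQ 7340 Q7340 (allL N7340 (tt N5780 F23543) (tt N7664 (iv F24528)) (tt N7900 (iv F25276)) (tt N5785 F23544) (tt N6060 F23545) (tt N5777 (iv D7433)) (tt N5778 F23546) (tt N8929 D9022))
theorem Q7342 : ∀ i, i < 7342 → P i := stepQ 7341 Q7341 (allL N7341 (tt N5781 F23547) (tt N8557 (iv F27607)) (tt N7377 F23657) (tt N8930 D9023) (tt N7498 (iv F24048)) (tt N8929 (iv F28793)) (tt N8554 (iv F27596)) (tt N5777 (iv D7434)))
theorem Q7343 : ∀ i, i < 7343 → P i := stepQ 7342 Q7342 (allL N7342 (tt N7498 (iv F24047)) (tt N5790 F23548) (tt N7404 (iv F23744)) (tt N8931 D9024) (tt N5781 F23549) (tt N6077 F23550) (tt N8924 (iv F28783)) (tt N5779 (iv D7435)))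
theorem Q7344 : ∀ i, i < 7344 → P i := stepQ 7343 Q7343 (allL N7343 (tt N8929 (iv F28791)) (tt N6080 F23551) (tt N7402 F23739) (tt N8932 D9025) (tt N6077 F23552) (tt N5781 F23553) (tt N7676 (iv F24557)) (tt N5780 (iv D7436)))
theorem Q7345 : ∀ i, i < 7345 → P i := stepQ 7344 Q7344 (allL N7344 (tt N8930 (iv F28794)) (tt N6056 F23554) (tt N7401 (iv F23734)) (tt N5781 (iv D7437)) (tt N8933 D9026) (tt N8932 (iv F28800)) (tt N8926 (iv F28788)) (tt N5791 F23555))
theorem Q7346 : ∀ i, i < 7346 → P i := stepQ 7345 Q7345 (allL N7345 (tt N6064 F23556) (tt N5783 F23557) (tt N8577 (iv F27673)) (tt N6069 F23558) (tt N5784 F23559) (tt N8934 D9027) (tt N5782 (iv D7438)) (tt N8935 D9028))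
theorem Q7347 : ∀ i, i < 7347 → P i := stepQ 7346 Q7346 (allL N7346 (tt N5789 F23560) (tt N8935 (iv F28810)) (tt N8425 (iv F27126)) (tt N8936 D9029) (tt N5786 F23561) (tt N6055 F23562) (tt N8763 (iv F28262)) (tt N5783 (iv D7439)))
theorem Q7348 : ∀ i, i < 7348 → P i := stepQ 7347 Q7347 (allL N7347 (tt N6067 F23563) (tt N8937 D9030) (tt N8578 (iv F27676)) (tt N8591 (iv F27713)) (tt N8934 (iv F28807)) (tt N5784 (iv D7440)) (tt N5800 F23564) (tt N8938 D9031))
theorem Q7349 : ∀ i, i < 7349 → P i := stepQ 7348 Q7348 (allL N7348 (tt N6068 F23565) (tt N5786 F23566) (tt N8579 (iv F27681)) (tt N8939 D9032) (tt N8935 (iv F28812)) (tt N8938 (iv F28822)) (tt N8765 (iv F28267)) (tt N5784 (iv D7441)))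
theorem Q7350 : ∀ i, i < 7350 → P i := stepQ 7349 Q7349 (allL N7349 (tt N7521 (iv F24115)) (tt N5785 (iv D7442)) (tt N7202 F23567) (tt N7664 (iv F24529)) (tt N6054 F23568) (tt N8937 (iv F28818)) (tt N5787 F23569) (tt N8940 D9033))
theorem Q7351 : ∀ i, i < 7351 → P i := stepQ 7350 Q7350 (allL N7350 (tt N5790 F23570) (tt N8940 (iv F28825)) (tt N8426 (iv F27130)) (tt N8941 D9034) (tt N6055 F23571) (tt N5786 F23572) (tt N8942 D9035) (tt N5785 (iv D7443)))
theorem Q7352 : ∀ i, i < 7352 → P i := stepQ 7351 Q7351 (allL N7351 (tt N5791 F23573) (tt N8939 (iv F28824)) (tt N8943 D9036) (tt N5786 (iv D7444)) (tt N8944 D9037) (tt N8941 (iv F28830)) (tt N8767 (iv F28271)) (tt N8930 (iv F28795)))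
theorem Q7353 : ∀ i, i < 7353 → P i := stepQ 7352 Q7352 (allL N7352 (tt N5793 F23574) (tt N5923 F23575) (tt N7055 F23576) (tt N5933 F23577) (tt N6042 F23578) (tt N8757 (iv F28245)) (tt N5788 (iv D7445)) (tt N8942 (iv F28835)))
theorem Q7354 : ∀ i, i < 7354 → P i := stepQ 7353 Q7353 (allL N7353 (tt N8936 (iv F28814)) (tt N6081 F23579) (tt N8945 D9038) (tt N5789 (iv D7446)) (tt N8946 D9039) (tt N6056 F23580) (tt N8771 (iv F28283)) (tt N6082 F23581))
theorem Q7355 : ∀ i, i < 7355 → P i := stepQ 7354 Q7354 (allL N7354 (tt N8941 (iv F28829)) (tt N8931 (iv F28796)) (tt N8947 D9040) (tt N5790 (iv D7447)) (tt N8948 D9041) (tt N5791 F23582) (tt N8949 D9042) (tt N8932 (iv F28801)))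
theorem Q7356 : ∀ i, i < 7356 → P i := stepQ 7355 Q7355 (allL N7355 (tt N8942 (iv F28831)) (tt N8924 (iv F28780)) (tt N8428 (iv F27134)) (tt N8949 (iv F28847)) (tt N6045 F23583) (tt N8776 (iv F28295)) (tt N5790 (iv D7448)) (tt N5793 F23584))
theorem Q7357 : ∀ i, i < 7357 → P i := stepQ 7356 Q7356 (allL N7356 (tt N8943 (iv F28836)) (tt N7768 (iv F24835)) (tt N5791 (iv D7449)) (tt N7397 F23725) (tt N8950 D9043) (tt N8947 (iv F28844)) (tt N8777 (iv F28297)) (tt N7401 (iv F23735)))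
theorem Q7358 : ∀ i, i < 7358 → P i := stepQ 7357 Q7357 (allL N7357 (tt N8944 (iv F28837)) (tt N6085 F23585) (tt N8950 (iv F28848)) (tt N8946 (iv F28841)) (tt N5791 (iv D7450)) (tt N8948 (iv F28846)) (tt N8778 (iv F28299)) (tt N8933 (iv F28803)))
theorem Q7359 : ∀ i, i < 7359 → P i := stepQ 7358 Q7358 (allL N7358 (tt N5936 F23586) (tt N6710 (iv F23591)) (tt N5792 (iv D7451)) (tt N7044 F23587) (tt N6443 F23588) (tt N5794 F23589) (tt N8901 (iv F28717)) (tt N6975 F23590))
theorem Q7360 : ∀ i, i < 7360 → P i := stepQ 7359 Q7359 (allL N7359 (tt N5933 F23592) (tt N7148 F23593) (tt N8901 (iv F28714)) (tt N5793 F23594) (tt N7150 F23595) (tt N8772 (iv F28286)) (tt N5792 (iv D7452)) (tt N8900 F28711))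
theorem Q7361 : ∀ i, i < 7361 → P i := stepQ 7360 Q7360 (allL N7360 (tt N6103 F23596) (tt N7665 (iv F24532)) (tt N8590 (iv F27708)) (tt N5800 F23597) (tt N7522 (iv F24122)) (tt N5795 (iv D7453)) (tt N8591 (iv F27714)) (tt N7533 (iv F24158)))
theorem Q7362 : ∀ i, i < 7362 → P i := stepQ 7361 Q7361 (allL N7361 (tt N6106 F23598) (tt N5804 F23599) (tt N6117 F23600) (tt N5796 (iv D7454)) (tt N8567 (iv F27636)) (tt N8570 (iv F27651)) (tt N8951 D9044) (tt N8360 (iv F26903)))
theorem Q7363 : ∀ i, i < 7363 → P i := stepQ 7362 Q7362 (allL N7362 (tt N6107 F23601) (tt N5805 F23602) (tt N5797 F23603) (tt N8951 (iv F28852)) (tt N5799 F23604) (tt N8952 D9045) (tt N5796 (iv D7455)) (tt N8953 D9046))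
theorem Q7364 : ∀ i, i < 7364 → P i := stepQ 7363 Q7363 (allL N7363 (tt N6108 F23605) (tt N6103 F23606) (tt N8952 (iv F28854)) (tt N6114 F23607) (tt N5800 F23608) (tt N5797 (iv D7456)) (tt N8934 (iv F28808)) (tt N8954 D9047))
theorem Q7365 : ∀ i, i < 7365 → P i := stepQ 7364 Q7364 (allL N7364 (tt N6109 F23609) (tt N5798 F23610) (tt N8953 (iv F28858)) (tt N7132 F23611) (tt N5801 F23612) (tt N8954 (iv F28865)) (tt N7147 F23613) (tt N5797 (iv D7457)))
theorem Q7366 : ∀ i, i < 7366 → P i := stepQ 7365 Q7365 (allL N7365 (tt N6112 F23614) (tt N8955 D9048) (tt N5800 F23615) (tt N8576 (iv F27669)) (tt N8952 (iv F28855)) (tt N5799 (iv D7458)) (tt N8578 (iv F27678)) (tt N8956 D9049))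
theorem Q7367 : ∀ i, i < 7367 → P i := stepQ 7366 Q7366 (allL N7366 (tt N6113 F23616) (tt N5812 F23617) (tt N5801 F23618) (tt N8957 D9050) (tt N8953 (iv F28859)) (tt N8956 (iv F28869)) (tt N7641 (iv F24468)) (tt N5799 (iv D7459)))
theorem Q7368 : ∀ i, i < 7368 → P i := stepQ 7367 Q7367 (allL N7367 (tt N7522 (iv F24120)) (tt N5800 (iv D7460)) (tt N8958 D9051) (tt N7665 (iv F24533)) (tt N6103 F23619) (tt N5802 F23620) (tt N8937 (iv F28819)) (tt N5918 (iv F23621)))
theorem Q7369 : ∀ i, i < 7369 → P i := stepQ 7368 Q7368 (allL N7368 (tt N6115 F23622) (tt N5918 F23623) (tt N8956 (iv F28868)) (tt N6046 (iv F23625)) (tt N8954 (iv F28864)) (tt N5801 F23624) (tt N8959 D9052) (tt N5800 (iv D7461)))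
theorem Q7370 : ∀ i, i < 7370 → P i := stepQ 7369 Q7369 (allL N7369 (tt N7519 (iv F24106)) (tt N5815 F23626) (tt N5802 (iv D7462)) (tt N8960 D9053) (tt N6102 F23627) (tt N8958 (iv F28874)) (tt N5803 F23628) (tt N5895 F23629))
theorem Q7371 : ∀ i, i < 7371 → P i := stepQ 7370 Q7370 (allL N7370 (tt N7518 (iv F24100)) (tt N5816 F23630) (tt N7659 (iv F24511)) (tt N5803 (iv D7463)) (tt N7213 F23631) (tt N7201 F23632) (tt N8960 (iv F28882)) (tt N7370 F23633))
theorem Q7372 : ∀ i, i < 7372 → P i := stepQ 7371 Q7371 (allL N7371 (tt N5824 F23634) (tt N8567 (iv F27634)) (tt N6285 F23635) (tt N5809 F23636) (tt N5804 (iv D7464)) (tt N8100 (iv F26046)) (tt N8961 D9054) (tt N8105 (iv F26070)))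
theorem Q7373 : ∀ i, i < 7373 → P i := stepQ 7372 Q7372 (allL N7372 (tt N5825 F23637) (tt N8951 (iv F28850)) (tt N6281 F23638) (tt N5805 F23639) (tt N8961 (iv F28886)) (tt N8962 D9055) (tt N5804 (iv D7465)) (tt N8963 D9056))
theorem Q7374 : ∀ i, i < 7374 → P i := stepQ 7373 Q7373 (allL N7373 (tt N5826 F23640) (tt N8360 (iv F26900)) (tt N6286 F23641) (tt N8116 (iv F26108)) (tt N8105 F26072) (tt N8108 (iv F26084)) (tt N8964 D9057) (tt N5804 (iv D7466)))
theorem Q7375 : ∀ i, i < 7375 → P i := stepQ 7374 Q7374 (allL N7374 (tt N5827 F23642) (tt N8965 D9058) (tt N5806 F23643) (tt N8962 (iv F28889)) (tt N5811 F23644) (tt N5805 (iv D7467)) (tt N8441 (iv F27195)) (tt N8966 D9059))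
theorem Q7376 : ∀ i, i < 7376 → P i := stepQ 7375 Q7375 (allL N7375 (tt N5828 F23645) (tt N8953 (iv F28857)) (tt N5807 F23646) (tt N8967 D9060) (tt N5812 F23647) (tt N8966 (iv F28902)) (tt N8745 (iv F28200)) (tt N5805 (iv D7468)))
theorem Q7377 : ∀ i, i < 7377 → P i := stepQ 7376 Q7376 (allL N7376 (tt N5829 F23648) (tt N5898 F23649) (tt N8966 (iv F28900)) (tt N8968 D9061) (tt N5814 F23650) (tt N5807 F23651) (tt N8969 D9062) (tt N5806 (iv D7469)))
theorem Q7378 : ∀ i, i < 7378 → P i := stepQ 7377 Q7377 (allL N7377 (tt N5830 F23652) (tt N5808 F23653) (tt N7341 (iv F23657)) (tt N5807 (iv D7470)) (tt N5910 F23654) (tt N8968 (iv F28909)) (tt N6952 F23655) (tt N6283 F23656))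
theorem Q7379 : ∀ i, i < 7379 → P i := stepQ 7378 Q7378 (allL N7378 (tt N5833 F23658) (tt N8568 (iv F27639)) (tt N7378 F23659) (tt N8961 (iv F28885)) (tt N5810 F23660) (tt N7978 (iv F25582)) (tt N5809 (iv D7471)) (tt N8970 D9063))
theorem Q7380 : ∀ i, i < 7380 → P i := stepQ 7379 Q7379 (allL N7379 (tt N5835 F23661) (tt N8971 D9064) (tt N7379 F23662) (tt N5811 F23663) (tt N7978 (iv F25581)) (tt N5810 (iv D7472)) (tt N8447 (iv F27221)) (tt N8972 D9065))
theorem Q7381 : ∀ i, i < 7381 → P i := stepQ 7380 Q7380 (allL N7380 (tt N5836 F23664) (tt N8575 (iv F27664)) (tt N7380 F23665) (tt N8973 D9066) (tt N8970 (iv F28917)) (tt N8972 (iv F28921)) (tt N8573 (iv F27661)) (tt N5810 (iv D7473)))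
theorem Q7382 : ∀ i, i < 7382 → P i := stepQ 7381 Q7381 (allL N7381 (tt N8974 D9067) (tt N5811 (iv D7474)) (tt N8975 D9068) (tt N8971 (iv F28918)) (tt N8965 (iv F28896)) (tt N8955 (iv F28866)) (tt N8448 (iv F27222)) (tt N8976 D9069))
theorem Q7383 : ∀ i, i < 7383 → P i := stepQ 7382 Q7382 (allL N7382 (tt N5839 F23666) (tt N8976 (iv F28934)) (tt N5814 F23667) (tt N8977 D9070) (tt N8966 (iv F28901)) (tt N5812 F23668) (tt N8978 D9071) (tt N5811 (iv D7475)))
theorem Q7384 : ∀ i, i < 7384 → P i := stepQ 7383 Q7383 (allL N7383 (tt N5840 F23669) (tt N8957 (iv F28871)) (tt N5919 F23670) (tt N5812 (iv D7476)) (tt N8979 D9072) (tt N8977 (iv F28938)) (tt N8746 (iv F28204)) (tt N8973 (iv F28923)))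
theorem Q7385 : ∀ i, i < 7385 → P i := stepQ 7384 Q7384 (allL N7384 (tt N7384 F23671) (tt N8975 (iv F28930)) (tt N5813 (iv D7477)) (tt N8980 D9073) (tt N6269 F23672) (tt N5815 F23673) (tt N7563 (iv F24247)) (tt N5897 F23674))
theorem Q7386 : ∀ i, i < 7386 → P i := stepQ 7385 Q7385 (allL N7385 (tt N5842 F23675) (tt N5889 F23676) (tt N8978 (iv F28940)) (tt N5891 F23677) (tt N8969 (iv F28914)) (tt N8705 (iv F28082)) (tt N5814 (iv D7478)) (tt N8452 (iv F27235)))
theorem Q7387 : ∀ i, i < 7387 → P i := stepQ 7386 Q7386 (allL N7386 (tt N7386 F23678) (tt N8960 (iv F28880)) (tt N7386 F23679) (tt N5815 (iv D7479)) (tt N7567 (iv F24268)) (tt N8980 (iv F28945)) (tt N5816 F23680) (tt N8981 D9074))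
theorem Q7388 : ∀ i, i < 7388 → P i := stepQ 7387 Q7387 (allL N7387 (tt N6285 F23681) (tt N7387 F23682) (tt N5824 F23683) (tt N7387 F23684) (tt N5817 (iv D7480)) (tt N8463 (iv F27295)) (tt N8982 D9075) (tt N8983 D9076))
theorem Q7389 : ∀ i, i < 7389 → P i := stepQ 7388 Q7388 (allL N7388 (tt N6281 F23685) (tt N7388 F23686) (tt N5825 F23687) (tt N5818 F23688) (tt N8982 (iv F28954)) (tt N8984 D9077) (tt N5817 (iv D7481)) (tt N6823 (iv F23689)))
theorem Q7390 : ∀ i, i < 7390 → P i := stepQ 7389 Q7389 (allL N7389 (tt N6286 F23690) (tt N7389 F23691) (tt N5826 F23692) (tt N8985 D9078) (tt N8983 (iv F28959)) (tt N8465 (iv F27303)) (tt N8986 D9079) (tt N5817 (iv D7482)))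
theorem Q7391 : ∀ i, i < 7391 → P i := stepQ 7390 Q7390 (allL N7390 (tt N6276 F23693) (tt N6372 (iv F23698)) (tt N5820 F23694) (tt N8984 (iv F28962)) (tt N7390 F23695) (tt N5818 (iv D7483)) (tt N6370 F23696) (tt N6376 F23697))
theorem Q7392 : ∀ i, i < 7392 → P i := stepQ 7391 Q7391 (allL N7391 (tt N6287 F23699) (tt N7391 F23700) (tt N6729 F23701) (tt N5819 (iv D7484)) (tt N8987 D9080) (tt N8466 (iv F27306)) (tt N6549 F23702) (tt N8985 (iv F28969)))
theorem Q7393 : ∀ i, i < 7393 → P i := stepQ 7392 Q7392 (allL N7392 (tt N6277 F23703) (tt N7392 F23704) (tt N6376 F23705) (tt N7328 (iv F23709)) (tt N7392 F23706) (tt N5821 F23707) (tt N6375 F23708) (tt N5820 (iv D7485)))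
theorem Q7394 : ∀ i, i < 7394 → P i := stepQ 7393 Q7393 (allL N7393 (tt N5847 F23710) (tt N7327 F23711) (tt N6378 F23712) (tt N7393 F23713) (tt N5822 (iv D7486)) (tt N7393 F23714) (tt N6377 F23715) (tt N5832 F23716))
theorem Q7395 : ∀ i, i < 7395 → P i := stepQ 7394 Q7394 (allL N7394 (tt N8961 (iv F28883)) (tt N6138 F23717) (tt N8982 (iv F28952)) (tt N5833 F23718) (tt N5825 F23719) (tt N7972 (iv F25556)) (tt N5824 (iv D7487)) (tt N8988 D9081))
theorem Q7396 : ∀ i, i < 7396 → P i := stepQ 7395 Q7395 (allL N7395 (tt N8105 (iv F26068)) (tt N6139 F23720) (tt N8983 (iv F28958)) (tt N8008 (iv F25712)) (tt N5826 F23721) (tt N8009 (iv F25717)) (tt N8989 D9082) (tt N5824 (iv D7488)))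
theorem Q7397 : ∀ i, i < 7397 → P i := stepQ 7396 Q7396 (allL N7396 (tt N8962 (iv F28887)) (tt N7973 (iv F25558)) (tt N8984 (iv F28961)) (tt N5827 F23722) (tt N7972 F25557) (tt N5825 (iv D7489)) (tt N8472 (iv F27333)) (tt N8990 D9083))
theorem Q7398 : ∀ i, i < 7398 → P i := stepQ 7397 Q7397 (allL N7397 (tt N8963 (iv F28890)) (tt N6141 F23723) (tt N6823 F23724) (tt N7356 (iv F23725)) (tt N8988 (iv F28983)) (tt N8990 (iv F28987)) (tt N8991 D9084) (tt N5825 (iv D7490)))
theorem Q7399 : ∀ i, i < 7399 → P i := stepQ 7398 Q7398 (allL N7398 (tt N8964 (iv F28893)) (tt N6142 F23726) (tt N8986 (iv F28973)) (tt N8797 (iv F28352)) (tt N8989 (iv F28985)) (tt N8992 D9085) (tt N5826 (iv D7491)) (tt N8991 (iv F28992)))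
theorem Q7400 : ∀ i, i < 7400 → P i := stepQ 7399 Q7399 (allL N7399 (tt N8993 D9086) (tt N5827 (iv D7492)) (tt N7399 F23727) (tt N7973 (iv F25560)) (tt N5838 F23728) (tt N6143 F23729) (tt N8475 (iv F27340)) (tt N8994 D9087))
theorem Q7401 : ∀ i, i < 7401 → P i := stepQ 7400 Q7400 (allL N7400 (tt N8966 (iv F28899)) (tt N8994 (iv F28998)) (tt N5829 F23730) (tt N8995 D9088) (tt N5839 F23731) (tt N5828 F23732) (tt N8996 D9089) (tt N5827 (iv D7493)))
theorem Q7402 : ∀ i, i < 7402 → P i := stepQ 7401 Q7401 (allL N7401 (tt N8967 (iv F28903)) (tt N6145 F23733) (tt N7344 F23734) (tt N5828 (iv D7494)) (tt N8997 D9090) (tt N8995 (iv F29003)) (tt N8800 (iv F28361)) (tt N7356 F23735))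
theorem Q7403 : ∀ i, i < 7403 → P i := stepQ 7402 Q7402 (allL N7402 (tt N8968 (iv F28906)) (tt N7402 F23736) (tt N7343 (iv F23739)) (tt N5829 (iv D7495)) (tt N7681 (iv F24569)) (tt N5830 F23737) (tt N8998 D9091) (tt N7328 F23738))
theorem Q7404 : ∀ i, i < 7404 → P i := stepQ 7403 Q7403 (allL N7403 (tt N8969 (iv F28912)) (tt N7403 F23740) (tt N8996 (iv F29005)) (tt N8998 (iv F29013)) (tt N5842 F23741) (tt N8802 (iv F28368)) (tt N5829 (iv D7496)) (tt N8479 (iv F27352)))
theorem Q7405 : ∀ i, i < 7405 → P i := stepQ 7404 Q7404 (allL N7404 (tt N5910 F23742) (tt N5832 F23743) (tt N7342 F23744) (tt N5844 F23745) (tt N5830 (iv D7497)) (tt N7681 (iv F24570)) (tt N8738 (iv F28179)) (tt N7327 F23746))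
theorem Q7406 : ∀ i, i < 7406 → P i := stepQ 7405 Q7405 (allL N7405 (tt N5848 F23747) (tt N6822 F23748) (tt N5832 F23749) (tt N8999 D9092) (tt N5831 (iv D7498)) (tt N7405 F23750) (tt N8551 (iv F27584)) (tt N6378 F23751))
theorem Q7407 : ∀ i, i < 7407 → P i := stepQ 7406 Q7406 (allL N7406 (tt N8970 (iv F28915)) (tt N6152 F23752) (tt N7406 F23753) (tt N9000 D9093) (tt N5836 F23754) (tt N7805 (iv F24930)) (tt N9001 D9094) (tt N5833 (iv D7499)))
theorem Q7408 : ∀ i, i < 7408 → P i := stepQ 7407 Q7407 (allL N7407 (tt N8099 (iv F26037)) (tt N6154 F23755) (tt N7407 F23756) (tt N7113 F23757) (tt N5837 F23758) (tt N8111 (iv F26095)) (tt N5834 (iv D7500)) (tt N9001 (iv F29025)))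
theorem Q7409 : ∀ i, i < 7409 → P i := stepQ 7408 Q7408 (allL N7408 (tt N8972 (iv F28919)) (tt N7806 (iv F24934)) (tt N7408 F23759) (tt N9002 D9095) (tt N7805 F24932) (tt N5836 F23760) (tt N9003 D9096) (tt N5835 (iv D7501)))
theorem Q7410 : ∀ i, i < 7410 → P i := stepQ 7409 Q7409 (allL N7409 (tt N8973 (iv F28922)) (tt N6156 F23761) (tt N9004 D9097) (tt N5836 (iv D7502)) (tt N9005 D9098) (tt N9002 (iv F29026)) (tt N9006 D9099) (tt N5840 F23762))
theorem Q7411 : ∀ i, i < 7411 → P i := stepQ 7410 Q7410 (allL N7410 (tt N8573 (iv F27658)) (tt N6157 F23763) (tt N7410 F23764) (tt N9006 (iv F29035)) (tt N9001 (iv F29024)) (tt N9007 D9100) (tt N5836 (iv D7503)) (tt N5837 F23765))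
theorem Q7412 : ∀ i, i < 7412 → P i := stepQ 7411 Q7411 (allL N7411 (tt N8102 (iv F26054)) (tt N9008 D9101) (tt N7411 F23766) (tt N7207 F23767) (tt N8111 (iv F26094)) (tt N5837 (iv D7504)) (tt N7206 F23768) (tt N9007 (iv F29037)))
theorem Q7413 : ∀ i, i < 7413 → P i := stepQ 7412 Q7412 (allL N7412 (tt N5838 (iv D7505)) (tt N8974 (iv F28925)) (tt N7412 F23769) (tt N7931 F25390) (tt N8993 (iv F28995)) (tt N6159 F23770) (tt N8485 (iv F27367)) (tt N9009 D9102))
theorem Q7414 : ∀ i, i < 7414 → P i := stepQ 7413 Q7413 (allL N7413 (tt N9009 (iv F29043)) (tt N5839 F23771) (tt N7413 F23772) (tt N9010 D9103) (tt N8994 (iv F29000)) (tt N6160 F23773) (tt N9011 D9104) (tt N5838 (iv D7506)))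
theorem Q7415 : ∀ i, i < 7415 → P i := stepQ 7414 Q7414 (allL N7414 (tt N8977 (iv F28936)) (tt N9010 (iv F29046)) (tt N9012 D9105) (tt N5839 (iv D7507)) (tt N9013 D9106) (tt N5840 F23774) (tt N9014 D9107) (tt N9002 (iv F29027)))
theorem Q7416 : ∀ i, i < 7416 → P i := stepQ 7415 Q7415 (allL N7415 (tt N8978 (iv F28939)) (tt N9011 (iv F29048)) (tt N5842 F23775) (tt N9014 (iv F29054)) (tt N8996 (iv F29006)) (tt N8810 (iv F28382)) (tt N5839 (iv D7508)) (tt N8488 (iv F27373)))
theorem Q7417 : ∀ i, i < 7417 → P i := stepQ 7416 Q7416 (allL N7416 (tt N5919 F23776) (tt N9015 D9108) (tt N5840 (iv D7509)) (tt N5843 F23777) (tt N9016 D9109) (tt N9012 (iv F29052)) (tt N8747 (iv F28207)) (tt N9004 (iv F29031)))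
theorem Q7418 : ∀ i, i < 7418 → P i := stepQ 7417 Q7417 (allL N7417 (tt N8979 (iv F28941)) (tt N6164 F23778) (tt N9016 (iv F29059)) (tt N8997 (iv F29009)) (tt N5840 (iv D7510)) (tt N9013 (iv F29053)) (tt N8811 (iv F28384)) (tt N9005 (iv F29033)))
theorem Q7419 : ∀ i, i < 7419 → P i := stepQ 7418 Q7418 (allL N7418 (tt N5899 F23779) (tt N9017 D9110) (tt N5841 (iv D7511)) (tt N9012 (iv F29051)) (tt N9018 D9111) (tt N5843 F23780) (tt N9019 D9112) (tt N7418 F23781))
theorem Q7420 : ∀ i, i < 7420 → P i := stepQ 7419 Q7419 (allL N7419 (tt N5882 F23782) (tt N7419 F23783) (tt N9018 (iv F29063)) (tt N7681 F24571) (tt N5841 (iv D7512)) (tt N5844 F23784) (tt N9020 D9113) (tt N7419 F23785))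
theorem Q7421 : ∀ i, i < 7421 → P i := stepQ 7420 Q7420 (allL N7420 (tt N5891 F23786) (tt N7420 F23787) (tt N9019 (iv F29067)) (tt N5842 F23788) (tt N9020 (iv F29070)) (tt N8707 (iv F28090)) (tt N5841 (iv D7513)) (tt N9021 D9114))
theorem Q7422 : ∀ i, i < 7422 → P i := stepQ 7421 Q7421 (allL N7421 (tt N6050 F23789) (tt N5843 (iv D7514)) (tt N5845 F23790) (tt N9015 (iv F29057)) (tt N9022 D9115) (tt N7954 (iv F25475)) (tt N7712 (iv F24661)) (tt N7421 F23791))
theorem Q7423 : ∀ i, i < 7423 → P i := stepQ 7422 Q7422 (allL N7422 (tt N5912 F23792) (tt N9022 (iv F29075)) (tt N5844 F23793) (tt N9023 D9116) (tt N5843 (iv D7515)) (tt N9018 (iv F29064)) (tt N8740 (iv F28188)) (tt N7422 F23794))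
theorem Q7424 : ∀ i, i < 7424 → P i := stepQ 7423 Q7423 (allL N7423 (tt N6095 F23795) (tt N5846 F23796) (tt N9022 (iv F29076)) (tt N7962 (iv F25513)) (tt N5845 (iv D7516)) (tt N7955 (iv F25480)) (tt N6291 F23797) (tt N7423 F23798))
theorem Q7425 : ∀ i, i < 7425 → P i := stepQ 7424 Q7424 (allL N7424 (tt N5849 F23799) (tt N7962 (iv F25512)) (tt N8999 (iv F29017)) (tt N5846 (iv D7517)) (tt N6170 F23800) (tt N7424 F23801) (tt N7709 (iv F24647)) (tt N7970 (iv F25548)))
theorem Q7426 : ∀ i, i < 7426 → P i := stepQ 7425 Q7425 (allL N7425 (tt N8999 (iv F29015)) (tt N8635 (iv F27882)) (tt N5849 F23802) (tt N5848 (iv D7518)) (tt N6173 F23803) (tt N7425 F23804) (tt N7706 (iv F24636)) (tt N6380 F23805))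
theorem Q7427 : ∀ i, i < 7427 → P i := stepQ 7426 Q7426 (allL N7426 (tt N7970 (iv F25544)) (tt N6098 F23806) (tt N6380 F23807) (tt N7426 F23808) (tt N6174 F23809) (tt N7426 F23810) (tt N6379 F23811) (tt N5849 (iv D7519)))
theorem Q7428 : ∀ i, i < 7428 → P i := stepQ 7427 Q7427 (allL N7427 (tt N5853 (iv D7520)) (tt N7427 F23812) (tt N7427 F23813) (tt N7574 F24297) (tt N7427 F23814) (tt N6334 F23815) (tt N7427 F23816) (tt N7427 F23817))
theorem Q7429 : ∀ i, i < 7429 → P i := stepQ 7428 Q7428 (allL N7428 (tt N6622 F23818) (tt N6178 F23819) (tt N6770 F23820) (tt N8246 (iv F26511)) (tt N7823 (iv F24997)) (tt N7428 F23821) (tt N6623 F23822) (tt N5854 (iv D7521)))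
theorem Q7430 : ∀ i, i < 7430 → P i := stepQ 7429 Q7429 (allL N7429 (tt N7429 F23823) (tt N8058 (iv F25898)) (tt N5875 F23824) (tt N5982 F23825) (tt N5865 F23826) (tt N9024 D9117) (tt N5855 (iv D7522)) (tt N5856 F23827))
theorem Q7431 : ∀ i, i < 7431 → P i := stepQ 7430 Q7430 (allL N7430 (tt N7430 F23828) (tt N9025 D9118) (tt N5877 F23829) (tt N7483 (iv F24001)) (tt N5867 F23830) (tt N5856 (iv D7523)) (tt N5858 F23831) (tt N9024 (iv F29086)))
theorem Q7432 : ∀ i, i < 7432 → P i := stepQ 7431 Q7431 (allL N7431 (tt N7431 F23832) (tt N8367 (iv F26929)) (tt N7475 (iv F23973)) (tt N5858 F23833) (tt N7474 (iv F23970)) (tt N5857 (iv D7524)) (tt N7483 (iv F24003)) (tt N8366 F26927))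
theorem Q7433 : ∀ i, i < 7433 → P i := stepQ 7432 Q7432 (allL N7432 (tt N8382 (iv F26974)) (tt N5858 (iv D7525)) (tt N9026 D9119) (tt N8367 F26931) (tt N5873 F23834) (tt N5997 F23835) (tt N9025 (iv F29088)) (tt N7432 F23836))
theorem Q7434 : ∀ i, i < 7434 → P i := stepQ 7433 Q7433 (allL N7433 (tt N5861 F23837) (tt N7433 F23838) (tt N8666 (iv F27990)) (tt N9027 D9120) (tt N6679 F23839) (tt N7094 F23840) (tt N9028 D9121) (tt N5859 (iv D7526)))
theorem Q7435 : ∀ i, i < 7435 → P i := stepQ 7434 Q7434 (allL N7434 (tt N5863 F23841) (tt N7434 F23842) (tt N8095 (iv F26028)) (tt N6668 F23843) (tt N6680 F23844) (tt N9029 D9122) (tt N5860 (iv D7527)) (tt N9028 (iv F29101)))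
theorem Q7436 : ∀ i, i < 7436 → P i := stepQ 7435 Q7435 (allL N7435 (tt N9027 (iv F29093)) (tt N5864 F23845) (tt N9030 D9123) (tt N5861 (iv D7528)) (tt N8823 (iv F28426)) (tt N8125 (iv F26130)) (tt N9031 D9124) (tt N7435 F23846))
theorem Q7437 : ∀ i, i < 7437 → P i := stepQ 7436 Q7436 (allL N7436 (tt N9028 (iv F29098)) (tt N5865 F23847) (tt N8668 (iv F27994)) (tt N9031 (iv F29108)) (tt N8058 (iv F25900)) (tt N9032 D9125) (tt N5861 (iv D7529)) (tt N5863 F23848))
theorem Q7438 : ∀ i, i < 7438 → P i := stepQ 7437 Q7437 (allL N7437 (tt N6668 F23849) (tt N5866 F23850) (tt N6667 F23851) (tt N5863 F23852) (tt N7446 (iv F23878)) (tt N9033 D9126) (tt N5862 (iv D7530)) (tt N8169 (iv F26253)))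
theorem Q7439 : ∀ i, i < 7439 → P i := stepQ 7438 Q7438 (allL N7438 (tt N9029 (iv F29102)) (tt N9034 D9127) (tt N8669 (iv F27996)) (tt N9033 (iv F29112)) (tt N8059 (iv F25902)) (tt N5863 (iv D7531)) (tt N6000 F23853) (tt N9032 (iv F29109)))
theorem Q7440 : ∀ i, i < 7440 → P i := stepQ 7439 Q7439 (allL N7439 (tt N7439 F23854) (tt N9035 D9128) (tt N5864 (iv D7532)) (tt N5883 F23855) (tt N9036 D9129) (tt N7439 F23856) (tt N9037 D9130) (tt N7439 F23857))
theorem Q7441 : ∀ i, i < 7441 → P i := stepQ 7440 Q7440 (allL N7440 (tt N7440 F23858) (tt N8823 (iv F28425)) (tt N9036 (iv F29119)) (tt N5977 F23859) (tt N5864 (iv D7533)) (tt N7440 F23860) (tt N9038 D9131) (tt N7440 F23861))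
theorem Q7442 : ∀ i, i < 7442 → P i := stepQ 7441 Q7441 (allL N7441 (tt N7441 F23862) (tt N9031 (iv F29107)) (tt N9037 (iv F29125)) (tt N5865 F23863) (tt N9038 (iv F29132)) (tt N9039 D9132) (tt N5864 (iv D7534)) (tt N9040 D9133))
theorem Q7443 : ∀ i, i < 7443 → P i := stepQ 7442 Q7442 (allL N7442 (tt N7442 F23864) (tt N9041 D9134) (tt N5886 F23865) (tt N9039 (iv F29136)) (tt N9024 (iv F29084)) (tt N5865 (iv D7535)) (tt N7442 F23866) (tt N5867 F23867))
theorem Q7444 : ∀ i, i < 7444 → P i := stepQ 7443 Q7443 (allL N7443 (tt N7443 F23868) (tt N9042 D9135) (tt N7449 (iv F23888)) (tt N5867 F23869) (tt N7447 (iv F23882)) (tt N5866 (iv D7536)) (tt N5871 F23870) (tt N9043 D9136))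
theorem Q7445 : ∀ i, i < 7445 → P i := stepQ 7444 Q7444 (allL N7444 (tt N7444 F23871) (tt N8169 (iv F26251)) (tt N7450 (iv F23893)) (tt N9040 (iv F29140)) (tt N7448 (iv F23885)) (tt N9043 (iv F29147)) (tt N7444 F23872) (tt N5866 (iv D7537)))
theorem Q7446 : ∀ i, i < 7446 → P i := stepQ 7445 Q7445 (allL N7445 (tt N9044 D9137) (tt N5867 (iv D7538)) (tt N9045 D9138) (tt N9042 (iv F29144)) (tt N9025 (iv F29087)) (tt N9034 (iv F29114)) (tt N5873 F23873) (tt N9041 (iv F29143)))
theorem Q7447 : ∀ i, i < 7447 → P i := stepQ 7446 Q7446 (allL N7446 (tt N6675 F23874) (tt N5869 F23875) (tt N6004 F23876) (tt N5895 F23877) (tt N7437 F23878) (tt N9046 D9139) (tt N5868 (iv D7539)) (tt N9047 D9140))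
theorem Q7448 : ∀ i, i < 7448 → P i := stepQ 7447 Q7447 (allL N7447 (tt N7447 F23879) (tt N9048 D9141) (tt N5871 F23880) (tt N5897 F23881) (tt N7443 F23882) (tt N5869 (iv D7540)) (tt N7449 (iv F23890)) (tt N9049 D9142))
theorem Q7449 : ∀ i, i < 7449 → P i := stepQ 7448 Q7448 (allL N7448 (tt N7448 F23883) (tt N9047 (iv F29158)) (tt N5872 F23884) (tt N8981 (iv F28948)) (tt N7444 F23885) (tt N9049 (iv F29167)) (tt N7448 F23886) (tt N5869 (iv D7541)))
theorem Q7450 : ∀ i, i < 7450 → P i := stepQ 7449 Q7449 (allL N7449 (tt N7449 F23887) (tt N9050 D9143) (tt N7443 F23888) (tt N7474 (iv F23969)) (tt N5871 F23889) (tt N5870 (iv D7542)) (tt N7447 F23890) (tt N9051 D9144))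
theorem Q7451 : ∀ i, i < 7451 → P i := stepQ 7450 Q7450 (allL N7450 (tt N7450 F23891) (tt N6008 F23892) (tt N7444 F23893) (tt N6359 F23894) (tt N5872 F23895) (tt N9051 (iv F29177)) (tt N7450 F23896) (tt N5870 (iv D7543)))
theorem Q7452 : ∀ i, i < 7452 → P i := stepQ 7451 Q7451 (allL N7451 (tt N9052 D9145) (tt N5871 (iv D7544)) (tt N9053 D9146) (tt N5873 F23897) (tt N9050 (iv F29168)) (tt N6009 F23898) (tt N9042 (iv F29145)) (tt N9054 D9147))
theorem Q7453 : ∀ i, i < 7453 → P i := stepQ 7452 Q7452 (allL N7452 (tt N7452 F23899) (tt N9054 (iv F29182)) (tt N9049 (iv F29165)) (tt N7452 F23900) (tt N9051 (iv F29176)) (tt N5872 F23901) (tt N9055 D9148) (tt N5871 (iv D7545)))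
theorem Q7454 : ∀ i, i < 7454 → P i := stepQ 7453 Q7453 (allL N7453 (tt N5873 (iv D7546)) (tt N7453 F23902) (tt N9056 D9149) (tt N9052 (iv F29179)) (tt N8382 F26978) (tt N6011 F23903) (tt N9044 (iv F29149)) (tt N7453 F23904))
theorem Q7455 : ∀ i, i < 7455 → P i := stepQ 7454 Q7454 (allL N7454 (tt N9056 (iv F29189)) (tt N5899 F23905) (tt N5873 (iv D7547)) (tt N9057 D9150) (tt N9026 (iv F29090)) (tt N6012 F23906) (tt N9045 (iv F29151)) (tt N7454 F23907))
theorem Q7456 : ∀ i, i < 7456 → P i := stepQ 7455 Q7455 (allL N7455 (tt N7455 F23908) (tt N7918 (iv F25344)) (tt N5874 (iv D7548)) (tt N5975 F23909) (tt N9058 D9151) (tt N7455 F23910) (tt N7895 (iv F25256)) (tt N7455 F23911))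
theorem Q7457 : ∀ i, i < 7457 → P i := stepQ 7456 Q7456 (allL N7456 (tt N7456 F23912) (tt N8688 (iv F28030)) (tt N9058 (iv F29196)) (tt N5884 F23913) (tt N5874 (iv D7549)) (tt N7456 F23914) (tt N9059 D9152) (tt N7456 F23915))
theorem Q7458 : ∀ i, i < 7458 → P i := stepQ 7457 Q7457 (allL N7457 (tt N7457 F23916) (tt N8689 (iv F28033)) (tt N7895 (iv F25253)) (tt N5875 F23917) (tt N9059 (iv F29204)) (tt N9060 D9153) (tt N5874 (iv D7550)) (tt N7897 (iv F25266)))
theorem Q7459 : ∀ i, i < 7459 → P i := stepQ 7458 Q7458 (allL N7458 (tt N7458 F23918) (tt N9061 D9154) (tt N9024 (iv F29082)) (tt N9060 (iv F29208)) (tt N5886 F23919) (tt N5875 (iv D7551)) (tt N7458 F23920) (tt N5877 F23921))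
theorem Q7460 : ∀ i, i < 7460 → P i := stepQ 7459 Q7459 (allL N7459 (tt N7459 F23922) (tt N9062 D9155) (tt N7463 (iv F23935)) (tt N5877 F23923) (tt N7461 (iv F23929)) (tt N5876 (iv D7552)) (tt N5880 F23924) (tt N7901 (iv F25282)))
theorem Q7461 : ∀ i, i < 7461 → P i := stepQ 7460 Q7460 (allL N7460 (tt N9020 (iv F29068)) (tt N5877 (iv D7553)) (tt N9063 D9156) (tt N9062 (iv F29214)) (tt N5891 F23925) (tt N8691 (iv F28038)) (tt N5882 F23926) (tt N9061 (iv F29213)))
theorem Q7462 : ∀ i, i < 7462 → P i := stepQ 7461 Q7461 (allL N7461 (tt N7461 F23927) (tt N9064 D9157) (tt N5880 F23928) (tt N7475 (iv F23974)) (tt N7459 F23929) (tt N5878 (iv D7554)) (tt N7463 (iv F23938)) (tt N9065 D9158))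
theorem Q7463 : ∀ i, i < 7463 → P i := stepQ 7462 Q7462 (allL N7462 (tt N7462 F23930) (tt N8532 (iv F27529)) (tt N5881 F23931) (tt N9066 D9159) (tt N6280 F23932) (tt N9065 (iv F29225)) (tt N7462 F23933) (tt N5878 (iv D7555)))
theorem Q7464 : ∀ i, i < 7464 → P i := stepQ 7463 Q7463 (allL N7463 (tt N7463 F23934) (tt N8968 (iv F28907)) (tt N7459 F23935) (tt N5898 F23936) (tt N5880 F23937) (tt N5879 (iv D7556)) (tt N7461 F23938) (tt N6278 F23939))
theorem Q7465 : ∀ i, i < 7465 → P i := stepQ 7464 Q7464 (allL N7464 (tt N7681 (iv F24566)) (tt N5880 (iv D7557)) (tt N7663 (iv F24525)) (tt N5882 F23940) (tt N8968 (iv F28908)) (tt N5910 F23941) (tt N9062 (iv F29215)) (tt N7657 F24505))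
theorem Q7466 : ∀ i, i < 7466 → P i := stepQ 7465 Q7465 (allL N7465 (tt N7465 F23942) (tt N7657 (iv F24501)) (tt N9065 (iv F29223)) (tt N7465 F23943) (tt N6278 F23944) (tt N5881 F23945) (tt N7656 (iv F24499)) (tt N5880 (iv D7558)))
theorem Q7467 : ∀ i, i < 7467 → P i := stepQ 7466 Q7466 (allL N7466 (tt N9018 (iv F29062)) (tt N9026 (iv F29089)) (tt N5882 (iv D7559)) (tt N9067 D9160) (tt N5899 F23946) (tt N5912 F23947) (tt N9063 (iv F29217)) (tt N7466 F23948))
theorem Q7468 : ∀ i, i < 7468 → P i := stepQ 7467 Q7467 (allL N7467 (tt N9068 D9161) (tt N5883 (iv D7560)) (tt N8696 (iv F28052)) (tt N9035 (iv F29116)) (tt N9069 D9162) (tt N9070 D9163) (tt N9071 D9164) (tt N5900 F23949))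
theorem Q7469 : ∀ i, i < 7469 → P i := stepQ 7468 Q7468 (allL N7468 (tt N7468 F23950) (tt N9069 (iv F29232)) (tt N5884 F23951) (tt N9072 D9165) (tt N5883 (iv D7561)) (tt N7468 F23952) (tt N9073 D9166) (tt N5901 F23953))
theorem Q7470 : ∀ i, i < 7470 → P i := stepQ 7469 Q7469 (allL N7469 (tt N7469 F23954) (tt N9071 (iv F29236)) (tt N5885 F23955) (tt N9037 (iv F29126)) (tt N9073 (iv F29246)) (tt N9074 D9167) (tt N5883 (iv D7562)) (tt N7990 (iv F25635)))
theorem Q7471 : ∀ i, i < 7471 → P i := stepQ 7470 Q7470 (allL N7470 (tt N7470 F23956) (tt N8699 (iv F28062)) (tt N9073 (iv F29244)) (tt N9059 (iv F29203)) (tt N5885 F23957) (tt N9075 D9168) (tt N5884 (iv D7563)) (tt N9076 D9169))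
theorem Q7472 : ∀ i, i < 7472 → P i := stepQ 7471 Q7471 (allL N7471 (tt N7471 F23958) (tt N9077 D9170) (tt N9074 (iv F29249)) (tt N5886 F23959) (tt N9075 (iv F29257)) (tt N5885 (iv D7564)) (tt N7471 F23960) (tt N9078 D9171))
theorem Q7473 : ∀ i, i < 7473 → P i := stepQ 7472 Q7472 (allL N7472 (tt N7472 F23961) (tt N6396 F23962) (tt N7990 (iv F25633)) (tt N5890 F23963) (tt N9076 (iv F29261)) (tt N9078 (iv F29267)) (tt N5904 F23964) (tt N5885 (iv D7565)))
theorem Q7474 : ∀ i, i < 7474 → P i := stepQ 7473 Q7473 (allL N7473 (tt N9021 (iv F29071)) (tt N5886 (iv D7566)) (tt N9079 D9172) (tt N9077 (iv F29263)) (tt N9061 (iv F29211)) (tt N8701 (iv F28068)) (tt N7473 F23965) (tt N5891 F23966))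
theorem Q7475 : ∀ i, i < 7475 → P i := stepQ 7474 Q7474 (allL N7474 (tt N7474 F23967) (tt N9080 D9173) (tt N5889 F23968) (tt N7449 F23969) (tt N7431 F23970) (tt N5887 (iv D7567)) (tt N5897 F23971) (tt N7984 (iv F25609)))
theorem Q7476 : ∀ i, i < 7476 → P i := stepQ 7475 Q7475 (allL N7475 (tt N7475 F23972) (tt N8969 (iv F28913)) (tt N7431 F23973) (tt N7461 F23974) (tt N5889 F23975) (tt N5888 (iv D7568)) (tt N5898 F23976) (tt N9081 D9174))
theorem Q7477 : ∀ i, i < 7477 → P i := stepQ 7476 Q7476 (allL N7476 (tt N7476 F23977) (tt N8704 (iv F28077)) (tt N6763 F23978) (tt N9082 D9175) (tt N5890 F23979) (tt N9081 (iv F29280)) (tt N5905 F23980) (tt N5888 (iv D7569)))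
theorem Q7478 : ∀ i, i < 7478 → P i := stepQ 7477 Q7477 (allL N7477 (tt N7477 F23981) (tt N8452 (iv F27234)) (tt N7984 (iv F25606)) (tt N9078 (iv F29266)) (tt N9081 (iv F29279)) (tt N5890 F23982) (tt N7985 (iv F25614)) (tt N5889 (iv D7570)))
theorem Q7479 : ∀ i, i < 7479 → P i := stepQ 7478 Q7478 (allL N7478 (tt N9019 (iv F29066)) (tt N9045 (iv F29150)) (tt N5891 (iv D7571)) (tt N9083 D9176) (tt N9063 (iv F29216)) (tt N8708 (iv F28092)) (tt N5899 F23983) (tt N9079 (iv F29270)))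
theorem Q7480 : ∀ i, i < 7480 → P i := stepQ 7479 Q7479 (allL N7479 (tt N5895 F23984) (tt N7479 F23985) (tt N5914 F23986) (tt N6675 F23987) (tt N7532 (iv F24152)) (tt N9084 D9177) (tt N5892 (iv D7572)) (tt N7519 (iv F24110)))
theorem Q7481 : ∀ i, i < 7481 → P i := stepQ 7480 Q7480 (allL N7480 (tt N7532 (iv F24148)) (tt N5896 F23988) (tt N5916 F23989) (tt N6446 F23990) (tt N5895 F23991) (tt N9085 D9178) (tt N5893 (iv D7573)) (tt N6102 F23992))
theorem Q7482 : ∀ i, i < 7482 → P i := stepQ 7481 Q7481 (allL N7481 (tt N6646 F23993) (tt N6452 F23994) (tt N5917 F23995) (tt N6645 F23996) (tt N6447 F23997) (tt N9086 D9179) (tt N5894 (iv D7574)) (tt N8217 (iv F26395)))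
theorem Q7483 : ∀ i, i < 7483 → P i := stepQ 7482 Q7482 (allL N7482 (tt N9084 (iv F29287)) (tt N9087 D9180) (tt N5918 F23998) (tt N9046 (iv F29154)) (tt N9085 (iv F29293)) (tt N5895 (iv D7575)) (tt N9086 (iv F29300)) (tt N8958 (iv F28876)))
theorem Q7484 : ∀ i, i < 7484 → P i := stepQ 7483 Q7483 (allL N7483 (tt N7483 F23999) (tt N9088 D9181) (tt N5898 F24000) (tt N7430 F24001) (tt N5897 F24002) (tt N5896 (iv D7576)) (tt N7431 F24003) (tt N6269 F24004))
theorem Q7485 : ∀ i, i < 7485 → P i := stepQ 7484 Q7484 (allL N7484 (tt N9089 D9182) (tt N5897 (iv D7577)) (tt N8976 (iv F28935)) (tt N9048 (iv F29162)) (tt N9088 (iv F29303)) (tt N9087 (iv F29301)) (tt N9080 (iv F29274)) (tt N8975 F28933))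
theorem Q7486 : ∀ i, i < 7486 → P i := stepQ 7485 Q7485 (allL N7485 (tt N9012 (iv F29050)) (tt N9057 (iv F29192)) (tt N8977 (iv F28937)) (tt N5899 (iv D7578)) (tt N9090 D9183) (tt N5919 F24005) (tt N9083 (iv F29286)) (tt N9091 D9184))
theorem Q7487 : ∀ i, i < 7487 → P i := stepQ 7486 Q7486 (allL N7486 (tt N5900 (iv D7579)) (tt N7486 F24006) (tt N8721 (iv F28125)) (tt N7486 F24007) (tt N9092 D9185) (tt N9093 D9186) (tt N9094 D9187) (tt N9068 (iv F29231)))
theorem Q7488 : ∀ i, i < 7488 → P i := stepQ 7487 Q7487 (allL N7487 (tt N9092 (iv F29314)) (tt N5901 F24008) (tt N7789 (iv F24896)) (tt N7958 (iv F25497)) (tt N5900 (iv D7580)) (tt N9095 D9188) (tt N7788 F24894) (tt N9069 (iv F29233)))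
theorem Q7489 : ∀ i, i < 7489 → P i := stepQ 7488 Q7488 (allL N7488 (tt N9093 (iv F29317)) (tt N7488 F24009) (tt N8722 (iv F28128)) (tt N7488 F24010) (tt N9095 (iv F29327)) (tt N5900 (iv D7581)) (tt N7488 F24011) (tt N9070 (iv F29235)))
theorem Q7490 : ∀ i, i < 7490 → P i := stepQ 7489 Q7489 (allL N7489 (tt N9094 (iv F29320)) (tt N5902 F24012) (tt N6389 F24013) (tt N7489 F24014) (tt N7788 (iv F24892)) (tt N7489 F24015) (tt N5900 (iv D7582)) (tt N7986 (iv F25618)))
theorem Q7491 : ∀ i, i < 7491 → P i := stepQ 7490 Q7490 (allL N7490 (tt N7490 F24016) (tt N7958 (iv F25495)) (tt N7490 F24017) (tt N5901 (iv D7583)) (tt N7490 F24018) (tt N7490 F24019) (tt N7957 F25494) (tt N9096 D9189))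
theorem Q7492 : ∀ i, i < 7492 → P i := stepQ 7491 Q7491 (allL N7491 (tt N7491 F24020) (tt N7788 (iv F24890)) (tt N5903 F24021) (tt N7957 (iv F25491)) (tt N5902 F24022) (tt N6381 (iv F24023)) (tt N5901 (iv D7584)) (tt N7989 (iv F25631)))
theorem Q7493 : ∀ i, i < 7493 → P i := stepQ 7492 Q7492 (allL N7492 (tt N7492 F24024) (tt N6393 F24025) (tt N7989 (iv F25628)) (tt N9097 D9190) (tt N5904 F24026) (tt N6382 F24027) (tt N9076 (iv F29262)) (tt N5903 (iv D7585)))
theorem Q7494 : ∀ i, i < 7494 → P i := stepQ 7493 Q7493 (allL N7493 (tt N7493 F24028) (tt N8723 (iv F28132)) (tt N7493 F24029) (tt N5905 (iv D7586)) (tt N9097 (iv F29338)) (tt N7256 F24030) (tt N9082 (iv F29284)) (tt N7493 F24031))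
theorem Q7495 : ∀ i, i < 7495 → P i := stepQ 7494 Q7494 (allL N7494 (tt N8046 (iv F25844)) (tt N6461 F24032) (tt N5924 F24033) (tt N8218 (iv F26399)) (tt N6449 F24034) (tt N7048 F24035) (tt N8217 F26397) (tt N5906 (iv D7587)))
theorem Q7496 : ∀ i, i < 7496 → P i := stepQ 7495 Q7495 (allL N7495 (tt N6961 F24036) (tt N9098 D9191) (tt N8531 (iv F27526)) (tt N6036 F24037) (tt N6958 F24038) (tt N5907 (iv D7588)) (tt N8038 (iv F25820)) (tt N9099 D9192))
theorem Q7497 : ∀ i, i < 7497 → P i := stepQ 7496 Q7496 (allL N7496 (tt N6962 F24039) (tt N5909 F24040) (tt N8532 (iv F27530)) (tt N8611 (iv F27784)) (tt N6284 F24041) (tt N9099 (iv F29348)) (tt N7496 F24042) (tt N5907 (iv D7589)))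
theorem Q7498 : ∀ i, i < 7498 → P i := stepQ 7497 Q7497 (allL N7497 (tt N8640 (iv F27901)) (tt N5908 (iv D7590)) (tt N9100 D9193) (tt N6037 F24043) (tt N6959 F24044) (tt N9098 (iv F29343)) (tt N6956 F24045) (tt N6989 F24046))
theorem Q7499 : ∀ i, i < 7499 → P i := stepQ 7498 Q7498 (allL N7498 (tt N7342 F24047) (tt N9100 (iv F29350)) (tt N5910 (iv D7591)) (tt N9101 D9194) (tt N7341 F24048) (tt N7663 (iv F24526)) (tt N8739 (iv F28183)) (tt N6087 (iv F24049)))
theorem Q7500 : ∀ i, i < 7500 → P i := stepQ 7499 Q7499 (allL N7499 (tt N7327 F24050) (tt N5911 F24051) (tt N6087 F24052) (tt N7499 F24053) (tt N6283 F24054) (tt N7657 (iv F24504)) (tt N6086 F24055) (tt N5910 (iv D7592)))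
theorem Q7501 : ∀ i, i < 7501 → P i := stepQ 7500 Q7500 (allL N7500 (tt N9023 (iv F29079)) (tt N6041 F24056) (tt N9101 (iv F29355)) (tt N5912 (iv D7593)) (tt N9102 D9195) (tt N9067 (iv F29229)) (tt N8741 (iv F28191)) (tt N9103 D9196))
theorem Q7502 : ∀ i, i < 7502 → P i := stepQ 7501 Q7501 (allL N7501 (tt N5917 F24057) (tt N6649 F24058) (tt N6646 F24059) (tt N6042 F24060) (tt N7509 (iv F24081)) (tt N9104 D9197) (tt N5913 (iv D7594)) (tt N9105 D9198))
theorem Q7503 : ∀ i, i < 7503 → P i := stepQ 7502 Q7502 (allL N7502 (tt N5918 F24061) (tt N7333 F24062) (tt N9084 (iv F29288)) (tt N6043 F24063) (tt N7533 (iv F24157)) (tt N5914 (iv D7595)) (tt N9104 (iv F29367)) (tt N7522 (iv F24123)))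
theorem Q7504 : ∀ i, i < 7504 → P i := stepQ 7503 Q7503 (allL N7503 (tt N7509 (iv F24077)) (tt N7137 F24064) (tt N6447 F24065) (tt N7150 F24066) (tt N5917 F24067) (tt N9106 D9199) (tt N5915 (iv D7596)) (tt N9107 D9200))
theorem Q7505 : ∀ i, i < 7505 → P i := stepQ 7504 Q7504 (allL N7504 (tt N7533 (iv F24154)) (tt N8954 (iv F28862)) (tt N9085 (iv F29291)) (tt N7175 F24068) (tt N5918 F24069) (tt N5916 (iv D7597)) (tt N9106 (iv F29375)) (tt N6103 F24070))
theorem Q7506 : ∀ i, i < 7506 → P i := stepQ 7505 Q7505 (allL N7505 (tt N9104 (iv F29363)) (tt N8959 (iv F28878)) (tt N9086 (iv F29297)) (tt N6044 F24071) (tt N9106 (iv F29374)) (tt N5917 (iv D7598)) (tt N5918 F24072) (tt N9108 D9201))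
theorem Q7507 : ∀ i, i < 7507 → P i := stepQ 7506 Q7506 (allL N7506 (tt N9105 (iv F29368)) (tt N8743 (iv F28194)) (tt N8217 F26396) (tt N9109 D9202) (tt N9107 (iv F29378)) (tt N9108 (iv F29380)) (tt N5924 F24073) (tt N5917 (iv D7599)))
theorem Q7508 : ∀ i, i < 7508 → P i := stepQ 7507 Q7507 (allL N7507 (tt N9016 (iv F29058)) (tt N6052 F24074) (tt N8979 (iv F28942)) (tt N9102 (iv F29358)) (tt N5919 (iv D7600)) (tt N9090 (iv F29311)) (tt N8748 (iv F28209)) (tt N9110 D9203))
theorem Q7509 : ∀ i, i < 7509 → P i := stepQ 7508 Q7508 (allL N7508 (tt N9004 (iv F29029)) (tt N6053 F24075) (tt N8973 F28924) (tt N7508 F24076) (tt N9110 (iv F29384)) (tt N9091 (iv F29313)) (tt N9111 D9204) (tt N5919 (iv D7601)))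
theorem Q7510 : ∀ i, i < 7510 → P i := stepQ 7509 Q7509 (allL N7509 (tt N7503 F24077) (tt N5921 F24078) (tt N6676 F24079) (tt N5926 F24080) (tt N7501 F24081) (tt N9112 D9205) (tt N5920 (iv D7602)) (tt N9113 D9206))
theorem Q7511 : ∀ i, i < 7511 → P i := stepQ 7510 Q7510 (allL N7510 (tt N5924 F24082) (tt N9113 (iv F29394)) (tt N8046 F25849) (tt N9114 D9207) (tt N8050 (iv F25866)) (tt N7520 (iv F24114)) (tt N9105 (iv F29371)) (tt N5921 (iv D7603)))
theorem Q7512 : ∀ i, i < 7512 → P i := stepQ 7511 Q7511 (allL N7511 (tt N8050 (iv F25865)) (tt N8755 (iv F28234)) (tt N6449 F24083) (tt N9115 D9208) (tt N5924 F24084) (tt N7053 F24085) (tt N9107 (iv F29379)) (tt N5922 (iv D7604)))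
theorem Q7513 : ∀ i, i < 7513 → P i := stepQ 7512 Q7512 (allL N7512 (tt N7520 (iv F24111)) (tt N8942 (iv F28832)) (tt N7048 F24086) (tt N9116 D9209) (tt N7053 F24087) (tt N5924 F24088) (tt N8940 (iv F28828)) (tt N5923 (iv D7605)))
theorem Q7514 : ∀ i, i < 7514 → P i := stepQ 7513 Q7513 (allL N7513 (tt N9114 (iv F29398)) (tt N8759 (iv F28250)) (tt N9117 D9210) (tt N5924 (iv D7606)) (tt N9118 D9211) (tt N9116 (iv F29403)) (tt N9109 (iv F29381)) (tt N5935 F24089))
theorem Q7515 : ∀ i, i < 7515 → P i := stepQ 7514 Q7514 (allL N7514 (tt N8056 (iv F25891)) (tt N7514 F24090) (tt N5926 F24091) (tt N6678 F24092) (tt N7524 (iv F24128)) (tt N9119 D9212) (tt N5925 (iv D7607)) (tt N9120 D9213))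
theorem Q7516 : ∀ i, i < 7516 → P i := stepQ 7515 Q7515 (allL N7515 (tt N8764 (iv F28263)) (tt N7156 F24093) (tt N9119 (iv F29407)) (tt N9112 (iv F29390)) (tt N7158 F24094) (tt N5926 (iv D7608)) (tt N5947 F24095) (tt N9121 D9214))
theorem Q7517 : ∀ i, i < 7517 → P i := stepQ 7516 Q7516 (allL N7516 (tt N8765 (iv F28265)) (tt N5927 F24096) (tt N9120 (iv F29413)) (tt N9122 D9215) (tt N7525 (iv F24131)) (tt N9121 (iv F29418)) (tt N6068 F24097) (tt N5926 (iv D7609)))
theorem Q7518 : ∀ i, i < 7518 → P i := stepQ 7517 Q7517 (allL N7517 (tt N5935 F24098) (tt N9122 (iv F29419)) (tt N9123 D9216) (tt N5927 (iv D7610)) (tt N9124 D9217) (tt N7523 (iv F24124)) (tt N6071 F24099) (tt N9114 (iv F29399)))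
theorem Q7519 : ∀ i, i < 7519 → P i := stepQ 7518 Q7518 (allL N7518 (tt N7370 F24100) (tt N7518 F24101) (tt N6075 F24102) (tt N5928 (iv D7611)) (tt N6979 F24103) (tt N6982 F24104) (tt N9125 D9218) (tt N7518 F24105))
theorem Q7520 : ∀ i, i < 7520 → P i := stepQ 7519 Q7519 (allL N7519 (tt N7369 F24106) (tt N7519 F24107) (tt N5931 F24108) (tt N9125 (iv F29429)) (tt N6986 F24109) (tt N9126 D9219) (tt N5928 (iv D7612)) (tt N7479 F24110))
theorem Q7521 : ∀ i, i < 7521 → P i := stepQ 7520 Q7520 (allL N7520 (tt N7512 F24111) (tt N8739 (iv F28181)) (tt N6956 F24112) (tt N9127 D9220) (tt N6960 F24113) (tt N7510 F24114) (tt N9100 (iv F29352)) (tt N5929 (iv D7613)))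
theorem Q7522 : ∀ i, i < 7522 → P i := stepQ 7521 Q7521 (allL N7521 (tt N7349 F24115) (tt N6087 F24116) (tt N6989 F24117) (tt N6078 F24118) (tt N6988 F24119) (tt N9128 D9221) (tt N5930 (iv D7614)) (tt N9100 (iv F29353)))
theorem Q7523 : ∀ i, i < 7523 → P i := stepQ 7522 Q7522 (allL N7522 (tt N7367 F24120) (tt N7717 (iv F24679)) (tt N9126 (iv F29432)) (tt N6079 F24121) (tt N7360 F24122) (tt N5931 (iv D7615)) (tt N9128 (iv F29443)) (tt N7502 F24123))
theorem Q7524 : ∀ i, i < 7524 → P i := stepQ 7523 Q7523 (allL N7523 (tt N7526 (iv F24132)) (tt N8771 (iv F28282)) (tt N9129 D9222) (tt N5932 (iv D7616)) (tt N9130 D9223) (tt N7517 F24124) (tt N6081 F24125) (tt N9127 (iv F29438)))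
theorem Q7525 : ∀ i, i < 7525 → P i := stepQ 7524 Q7524 (allL N7524 (tt N8901 (iv F28712)) (tt N7524 F24126) (tt N5933 (iv D7617)) (tt N7058 F24127) (tt N7514 F24128) (tt N8773 (iv F28289)) (tt N5936 F24129) (tt N8899 F28706))
theorem Q7526 : ∀ i, i < 7526 → P i := stepQ 7525 Q7525 (allL N7525 (tt N8900 (iv F28708)) (tt N5934 F24130) (tt N8899 (iv F28707)) (tt N9131 D9224) (tt N7516 F24131) (tt N8774 (iv F28292)) (tt N7668 (iv F24542)) (tt N5933 (iv D7618)))
theorem Q7527 : ∀ i, i < 7527 → P i := stepQ 7526 Q7526 (allL N7526 (tt N7523 F24132) (tt N9131 (iv F29450)) (tt N9132 D9225) (tt N5934 (iv D7619)) (tt N9133 D9226) (tt N5935 F24133) (tt N7669 (iv F24544)) (tt N9116 (iv F29404)))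
theorem Q7528 : ∀ i, i < 7528 → P i := stepQ 7527 Q7527 (allL N7527 (tt N9123 (iv F29421)) (tt N9134 D9227) (tt N5935 (iv D7620)) (tt N7527 F24134) (tt N9135 D9228) (tt N9132 (iv F29453)) (tt N6084 F24135) (tt N9117 (iv F29405)))
theorem Q7529 : ∀ i, i < 7529 → P i := stepQ 7528 Q7528 (allL N7528 (tt N9124 (iv F29424)) (tt N8778 (iv F28298)) (tt N9135 (iv F29459)) (tt N9130 (iv F29447)) (tt N5935 (iv D7621)) (tt N9133 (iv F29456)) (tt N6085 F24136) (tt N9118 (iv F29406)))
theorem Q7530 : ∀ i, i < 7530 → P i := stepQ 7529 Q7529 (allL N7529 (tt N7543 (iv F24189)) (tt N6767 F24137) (tt N5942 F24138) (tt N7738 (iv F24739)) (tt N6707 F24139) (tt N9136 D9229) (tt N5939 (iv D7622)) (tt N8787 (iv F28328)))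
theorem Q7531 : ∀ i, i < 7531 → P i := stepQ 7530 Q7530 (allL N7530 (tt N5942 F24140) (tt N6703 F24141) (tt N7543 (iv F24190)) (tt N7530 F24142) (tt N6705 F24143) (tt N9137 D9230) (tt N5941 (iv D7623)) (tt N8091 (iv F26014)))
theorem Q7532 : ∀ i, i < 7532 → P i := stepQ 7531 Q7531 (allL N7531 (tt N9137 (iv F29464)) (tt N7531 F24144) (tt N9136 (iv F29461)) (tt N7531 F24145) (tt N6708 F24146) (tt N5942 (iv D7624)) (tt N7531 F24147) (tt N7779 F24866))
theorem Q7533 : ∀ i, i < 7533 → P i := stepQ 7532 Q7532 (allL N7532 (tt N7480 F24148) (tt N7532 F24149) (tt N5944 F24150) (tt N6680 F24151) (tt N7479 F24152) (tt N9138 D9231) (tt N5943 (iv D7625)) (tt N6986 F24153))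
theorem Q7534 : ∀ i, i < 7534 → P i := stepQ 7533 Q7533 (allL N7533 (tt N7504 F24154) (tt N7155 F24155) (tt N9138 (iv F29469)) (tt N5947 F24156) (tt N7502 F24157) (tt N5944 (iv D7626)) (tt N9112 (iv F29392)) (tt N7360 F24158))
theorem Q7535 : ∀ i, i < 7535 → P i := stepQ 7534 Q7534 (allL N7534 (tt N8055 (iv F25886)) (tt N5949 F24159) (tt N6680 F24160) (tt N5946 F24161) (tt N8095 (iv F26030)) (tt N9139 D9232) (tt N5945 (iv D7627)) (tt N9140 D9233))
theorem Q7536 : ∀ i, i < 7536 → P i := stepQ 7535 Q7535 (allL N7535 (tt N8789 (iv F28330)) (tt N9141 D9234) (tt N5947 F24162) (tt N9139 (iv F29475)) (tt N7162 F24163) (tt N5946 (iv D7628)) (tt N9119 (iv F29410)) (tt N7640 (iv F24465)))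
theorem Q7537 : ∀ i, i < 7537 → P i := stepQ 7536 Q7536 (allL N7536 (tt N5958 F24164) (tt N8095 (iv F26027)) (tt N7536 F24165) (tt N7168 F24166) (tt N5949 F24167) (tt N8552 (iv F27589)) (tt N5948 (iv D7629)) (tt N9142 D9235))
theorem Q7538 : ∀ i, i < 7538 → P i := stepQ 7537 Q7537 (allL N7537 (tt N5959 F24168) (tt N9143 D9236) (tt N7537 F24169) (tt N5951 F24170) (tt N8552 (iv F27588)) (tt N5949 (iv D7630)) (tt N7537 F24171) (tt N9144 D9237))
theorem Q7539 : ∀ i, i < 7539 → P i := stepQ 7538 Q7538 (allL N7538 (tt N5960 F24172) (tt N9140 (iv F29477)) (tt N7538 F24173) (tt N7644 (iv F24475)) (tt N9142 (iv F29485)) (tt N9144 (iv F29490)) (tt N9145 D9238) (tt N5949 (iv D7631)))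
theorem Q7540 : ∀ i, i < 7540 → P i := stepQ 7539 Q7539 (allL N7539 (tt N5961 F24174) (tt N6677 F24175) (tt N7539 F24176) (tt N6129 F24177) (tt N8495 (iv F27398)) (tt N9146 D9239) (tt N5950 (iv D7632)) (tt N9145 (iv F29494)))
theorem Q7541 : ∀ i, i < 7541 → P i := stepQ 7540 Q7540 (allL N7540 (tt N9147 D9240) (tt N5951 (iv D7633)) (tt N6585 F24178) (tt N9143 (iv F29486)) (tt N6587 F24179) (tt N9141 (iv F29482)) (tt N7540 F24180) (tt N7615 (iv F24413)))
theorem Q7542 : ∀ i, i < 7542 → P i := stepQ 7541 Q7541 (allL N7541 (tt N7168 F24181) (tt N8500 (iv F27415)) (tt N6476 F24182) (tt N5958 F24183) (tt N5953 F24184) (tt N7020 (iv F24185)) (tt N5952 (iv D7634)) (tt N7603 (iv F24382)))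
theorem Q7543 : ∀ i, i < 7543 → P i := stepQ 7542 Q7542 (allL N7542 (tt N7169 F24186) (tt N8796 (iv F28349)) (tt N6477 F24187) (tt N9148 D9241) (tt N7603 (iv F24380)) (tt N7021 F24188) (tt N9149 D9242) (tt N5953 (iv D7635)))
theorem Q7544 : ∀ i, i < 7544 → P i := stepQ 7543 Q7543 (allL N7543 (tt N7529 F24189) (tt N8797 (iv F28351)) (tt N7530 F24190) (tt N6142 F24191) (tt N8316 (iv F26766)) (tt N9150 D9243) (tt N5954 (iv D7636)) (tt N9149 (iv F29511)))
theorem Q7545 : ∀ i, i < 7545 → P i := stepQ 7544 Q7544 (allL N7544 (tt N9151 D9244) (tt N5955 (iv D7637)) (tt N6626 F24192) (tt N7018 F24193) (tt N5962 F24194) (tt N8798 (iv F28356)) (tt N7544 F24195) (tt N9152 D9245))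
theorem Q7546 : ∀ i, i < 7546 → P i := stepQ 7545 Q7545 (allL N7545 (tt N6591 F24196) (tt N9152 (iv F29521)) (tt N5957 F24197) (tt N9153 D9246) (tt N5963 F24198) (tt N5956 F24199) (tt N9154 D9247) (tt N5955 (iv D7638)))
theorem Q7547 : ∀ i, i < 7547 → P i := stepQ 7546 Q7546 (allL N7546 (tt N7170 F24200) (tt N8800 (iv F28360)) (tt N8553 (iv F27591)) (tt N5956 (iv D7639)) (tt N9155 D9248) (tt N9153 (iv F29526)) (tt N6145 F24201) (tt N9148 (iv F29507)))
theorem Q7548 : ∀ i, i < 7548 → P i := stepQ 7547 Q7547 (allL N7547 (tt N6592 F24202) (tt N6628 F24203) (tt N9154 (iv F29529)) (tt N7172 F24204) (tt N5966 F24205) (tt N6147 F24206) (tt N5957 (iv D7640)) (tt N7547 F24207))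
theorem Q7549 : ∀ i, i < 7549 → P i := stepQ 7548 Q7548 (allL N7548 (tt N8552 (iv F27586)) (tt N9156 D9249) (tt N7548 F24208) (tt N7020 F24209) (tt N5959 F24210) (tt N5958 (iv D7641)) (tt N7548 F24211) (tt N9157 D9250))
theorem Q7550 : ∀ i, i < 7550 → P i := stepQ 7549 Q7549 (allL N7549 (tt N9142 (iv F29483)) (tt N8499 (iv F27410)) (tt N7549 F24212) (tt N9158 D9251) (tt N5960 F24213) (tt N9157 (iv F29541)) (tt N8497 (iv F27406)) (tt N5958 (iv D7642)))
theorem Q7551 : ∀ i, i < 7551 → P i := stepQ 7550 Q7550 (allL N7550 (tt N9079 (iv F29566)) (tt N5959 (iv D7643)) (tt N9021 (iv F29568)) (tt N5962 F24214) (tt N9156 (iv F29537)) (tt N8803 (iv F28370)) (tt N7550 F24215) (tt N9019 (iv F29570)))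
theorem Q7552 : ∀ i, i < 7552 → P i := stepQ 7551 Q7551 (allL N7551 (tt N9144 (iv F29488)) (tt N9019 (iv F29569)) (tt N7551 F24216) (tt N9159 D9255) (tt N9157 (iv F29540)) (tt N5960 F24217) (tt N9017 (iv F29571)) (tt N5959 (iv D7644)))
theorem Q7553 : ∀ i, i < 7553 → P i := stepQ 7552 Q7552 (allL N7552 (tt N7644 (iv F24473)) (tt N8805 (iv F28372)) (tt N7648 (iv F24482)) (tt N5960 (iv D7645)) (tt N9160 D9257) (tt N9159 (iv F29547)) (tt N9161 D9258) (tt N5964 F24218))
theorem Q7554 : ∀ i, i < 7554 → P i := stepQ 7553 Q7553 (allL N7553 (tt N9145 (iv F29491)) (tt N8494 (iv F27391)) (tt N7553 F24219) (tt N9161 (iv F29552)) (tt N8497 (iv F27405)) (tt N9162 D9259) (tt N5960 (iv D7646)) (tt N5961 F24220))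
theorem Q7555 : ∀ i, i < 7555 → P i := stepQ 7554 Q7554 (allL N7554 (tt N9146 (iv F29495)) (tt N9163 D9260) (tt N7554 F24221) (tt N6158 F24222) (tt N8496 (iv F27401)) (tt N5961 (iv D7647)) (tt N7554 F24223) (tt N9162 (iv F29555)))
theorem Q7556 : ∀ i, i < 7556 → P i := stepQ 7555 Q7555 (allL N7555 (tt N5962 (iv D7648)) (tt N9147 (iv F29500)) (tt N9164 D9261) (tt N9079 (iv F29567)) (tt N9151 (iv F29519)) (tt N8806 (iv F28374)) (tt N7555 F24224) (tt N9165 D9262))
theorem Q7557 : ∀ i, i < 7557 → P i := stepQ 7556 Q7556 (allL N7556 (tt N9164 (iv F29562)) (tt N5965 F24225) (tt N5962 (iv D7649)) (tt N7819 (iv F24983)) (tt N6626 F24226) (tt N8807 (iv F28377)) (tt N7556 F24227) (tt N7839 (iv F25055)))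
theorem Q7558 : ∀ i, i < 7558 → P i := stepQ 7557 Q7557 (allL N7557 (tt N9165 (iv F29572)) (tt N5963 F24228) (tt N7839 (iv F25054)) (tt N9166 D9263) (tt N9152 (iv F29523)) (tt N8808 (iv F28379)) (tt N9167 D9264) (tt N5962 (iv D7650)))
theorem Q7559 : ∀ i, i < 7559 → P i := stepQ 7558 Q7558 (allL N7558 (tt N7616 (iv F24414)) (tt N9166 (iv F29573)) (tt N7618 (iv F24420)) (tt N5963 (iv D7651)) (tt N9168 D9265) (tt N5964 F24229) (tt N9169 D9266) (tt N9159 (iv F29548)))
theorem Q7560 : ∀ i, i < 7560 → P i := stepQ 7559 Q7559 (allL N7559 (tt N7607 (iv F24391)) (tt N9167 (iv F29574)) (tt N5966 F24230) (tt N9169 (iv F29577)) (tt N9154 (iv F29530)) (tt N6162 F24231) (tt N5963 (iv D7652)) (tt N7559 F24232))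
theorem Q7561 : ∀ i, i < 7561 → P i := stepQ 7560 Q7560 (allL N7560 (tt N7643 (iv F24471)) (tt N8811 (iv F28383)) (tt N7647 (iv F24480)) (tt N9155 (iv F29534)) (tt N5964 (iv D7653)) (tt N9168 (iv F29576)) (tt N6164 F24233) (tt N9160 (iv F29551)))
theorem Q7562 : ∀ i, i < 7562 → P i := stepQ 7561 Q7561 (allL N7561 (tt N6618 F24234) (tt N8812 (iv F28386)) (tt N9170 D9267) (tt N5967 (iv D7654)) (tt N8221 (iv F26407)) (tt N6660 F24235) (tt N7561 F24236) (tt N6607 F24237))
theorem Q7563 : ∀ i, i < 7563 → P i := stepQ 7562 Q7562 (allL N7562 (tt N7562 F24238) (tt N5971 F24239) (tt N7562 F24240) (tt N5969 F24241) (tt N5980 F24242) (tt N9171 D9268) (tt N5968 (iv D7655)) (tt N6368 (iv F24243)))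
theorem Q7564 : ∀ i, i < 7564 → P i := stepQ 7563 Q7563 (allL N7563 (tt N7563 F24244) (tt N8859 (iv F28547)) (tt N6846 F24245) (tt N9171 (iv F29586)) (tt N5970 F24246) (tt N5969 (iv D7656)) (tt N7384 F24247) (tt N6353 F24248))
theorem Q7565 : ∀ i, i < 7565 → P i := stepQ 7564 Q7564 (allL N7564 (tt N7564 F24249) (tt N7913 (iv F25323)) (tt N7564 F24250) (tt N5973 F24251) (tt N7564 F24252) (tt N7564 F24253) (tt N5972 (iv D7657)) (tt N9172 D9269))
theorem Q7566 : ∀ i, i < 7566 → P i := stepQ 7565 Q7565 (allL N7565 (tt N7565 F24254) (tt N7911 (iv F25313)) (tt N5977 F24255) (tt N6266 (iv F24259)) (tt N5975 F24256) (tt N7565 F24257) (tt N6264 F24258) (tt N5973 (iv D7658)))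
theorem Q7567 : ∀ i, i < 7567 → P i := stepQ 7566 Q7566 (allL N7566 (tt N7566 F24260) (tt N8824 (iv F28430)) (tt N6264 F24261) (tt N9038 (iv F29131)) (tt N5982 F24262) (tt N6262 (iv F24264)) (tt N5977 (iv D7659)) (tt N5979 F24263))
theorem Q7568 : ∀ i, i < 7568 → P i := stepQ 7567 Q7567 (allL N7567 (tt N7567 F24265) (tt N8826 (iv F28439)) (tt N7567 F24266) (tt N5979 F24267) (tt N7386 F24268) (tt N9173 D9270) (tt N5978 (iv D7660)) (tt N9174 D9271))
theorem Q7569 : ∀ i, i < 7569 → P i := stepQ 7568 Q7568 (allL N7568 (tt N7568 F24269) (tt N8660 (iv F27969)) (tt N6265 F24270) (tt N9173 (iv F29599)) (tt N5983 F24271) (tt N5979 (iv D7661)) (tt N5981 F24272) (tt N6262 F24273))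
theorem Q7570 : ∀ i, i < 7570 → P i := stepQ 7569 Q7569 (allL N7569 (tt N7569 F24274) (tt N8885 F28651) (tt N7569 F24275) (tt N5981 F24276) (tt N9171 (iv F29587)) (tt N5980 (iv D7662)) (tt N9173 (iv F29601)) (tt N9175 D9272))
theorem Q7571 : ∀ i, i < 7571 → P i := stepQ 7570 Q7570 (allL N7570 (tt N7570 F24277) (tt N5987 F24278) (tt N7570 F24279) (tt N7570 F24280) (tt N6368 F24281) (tt N9175 (iv F29610)) (tt N7570 F24282) (tt N5980 (iv D7663)))
theorem Q7572 : ∀ i, i < 7572 → P i := stepQ 7571 Q7571 (allL N7571 (tt N7571 F24283) (tt N9176 D9273) (tt N6263 F24284) (tt N9024 (iv F29083)) (tt N6262 F24285) (tt N5982 (iv D7664)) (tt N7571 F24286) (tt N5983 F24287))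
theorem Q7573 : ∀ i, i < 7573 → P i := stepQ 7572 Q7572 (allL N7572 (tt N8836 (iv F28464)) (tt N5983 (iv D7665)) (tt N8661 (iv F27975)) (tt N7894 (iv F25248)) (tt N8660 F27972) (tt N8833 (iv F28458)) (tt N5984 F24288) (tt N9176 (iv F29614)))
theorem Q7574 : ∀ i, i < 7574 → P i := stepQ 7573 Q7573 (allL N7573 (tt N5990 F24289) (tt N7976 (iv F25570)) (tt N5986 F24290) (tt N7573 F24291) (tt N8861 (iv F28557)) (tt N5985 (iv D7666)) (tt N7710 F24652) (tt N7971 (iv F25553)))
theorem Q7575 : ∀ i, i < 7575 → P i := stepQ 7574 Q7574 (allL N7574 (tt N5991 F24292) (tt N7574 F24293) (tt N5987 F24294) (tt N7427 (iv F24297)) (tt N6373 F24295) (tt N7971 F25554) (tt N7574 F24296) (tt N5985 (iv D7667)))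
theorem Q7576 : ∀ i, i < 7576 → P i := stepQ 7575 Q7575 (allL N7575 (tt N8879 (iv F28628)) (tt N5986 (iv D7668)) (tt N8883 (iv F28645)) (tt N5988 F24298) (tt N8860 (iv F28553)) (tt N8885 (iv F28650)) (tt N8835 (iv F28463)) (tt N9177 D9274))
theorem Q7577 : ∀ i, i < 7577 → P i := stepQ 7576 Q7576 (allL N7576 (tt N5992 F24299) (tt N9177 (iv F29617)) (tt N7971 (iv F25551)) (tt N7576 F24300) (tt N6371 F24301) (tt N5987 F24302) (tt N7969 F25543) (tt N5986 (iv D7669)))
theorem Q7578 : ∀ i, i < 7578 → P i := stepQ 7577 Q7577 (allL N7577 (tt N8885 (iv F28648)) (tt N7577 F24303) (tt N8864 (iv F28573)) (tt N5989 (iv D7670)) (tt N8876 (iv F28623)) (tt N8879 (iv F28631)) (tt N8837 (iv F28471)) (tt N9178 D9275))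
theorem Q7579 : ∀ i, i < 7579 → P i := stepQ 7578 Q7578 (allL N7578 (tt N7971 (iv F25549)) (tt N7257 F24304) (tt N5992 F24305) (tt N6348 F24309) (tt N6379 F24306) (tt N5991 F24307) (tt N6174 F24308) (tt N5990 (iv D7671)))
theorem Q7580 : ∀ i, i < 7580 → P i := stepQ 7579 Q7579 (allL N7579 (tt N7969 (iv F25539)) (tt N7068 F24310) (tt N6174 F24311) (tt N7579 F24312) (tt N6380 F24313) (tt N7579 F24314) (tt N5992 (iv D7672)) (tt N6173 F24315))
theorem Q7581 : ∀ i, i < 7581 → P i := stepQ 7580 Q7580 (allL N7580 (tt N8518 (iv F27472)) (tt N5995 F24316) (tt N7098 F24317) (tt N6015 F24318) (tt N7097 F24319) (tt N9179 D9276) (tt N5993 (iv D7673)) (tt N8359 (iv F26898)))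
theorem Q7582 : ∀ i, i < 7582 → P i := stepQ 7581 Q7581 (allL N7581 (tt N6184 F24320) (tt N7097 F24321) (tt N5996 F24322) (tt N6487 F24323) (tt N5995 F24324) (tt N8356 (iv F26891)) (tt N5994 (iv D7674)) (tt N6350 F24325))
theorem Q7583 : ∀ i, i < 7583 → P i := stepQ 7582 Q7582 (allL N7582 (tt N8384 (iv F26981)) (tt N6019 F24326) (tt N5997 (iv D7675)) (tt N9180 D9277) (tt N6012 F24327) (tt N9026 (iv F29091)) (tt N8067 (iv F25931)) (tt N7582 F24328))
theorem Q7584 : ∀ i, i < 7584 → P i := stepQ 7583 Q7583 (allL N7583 (tt N6000 F24329) (tt N9181 D9278) (tt N8654 (iv F27953)) (tt N7198 F24330) (tt N6681 F24331) (tt N5998 (iv D7676)) (tt N9029 (iv F29105)) (tt N8024 (iv F25776)))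
theorem Q7585 : ∀ i, i < 7585 → P i := stepQ 7584 Q7584 (allL N7584 (tt N7198 F24332) (tt N9182 D9279) (tt N7197 F24333) (tt N6000 F24334) (tt N8261 (iv F26574)) (tt N5999 (iv D7677)) (tt N9033 (iv F29113)) (tt N9183 D9280))
theorem Q7586 : ∀ i, i < 7586 → P i := stepQ 7585 Q7585 (allL N7585 (tt N6217 F24335) (tt N6002 F24336) (tt N6258 F24337) (tt N8135 (iv F26158)) (tt N6564 F24338) (tt N9183 (iv F29641)) (tt N7585 F24339) (tt N5999 (iv D7678)))
theorem Q7587 : ∀ i, i < 7587 → P i := stepQ 7586 Q7586 (allL N7586 (tt N9184 D9281) (tt N6000 (iv D7679)) (tt N9185 D9282) (tt N9182 (iv F29633)) (tt N8062 (iv F25909)) (tt N6003 F24340) (tt N9034 (iv F29115)) (tt N8136 (iv F26162)))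
theorem Q7588 : ∀ i, i < 7588 → P i := stepQ 7587 Q7587 (allL N7587 (tt N9186 D9283) (tt N6001 (iv D7680)) (tt N9187 D9284) (tt N6003 F24341) (tt N6562 F24342) (tt N9182 (iv F29635)) (tt N6009 F24343) (tt N6559 F24344))
theorem Q7589 : ∀ i, i < 7589 → P i := stepQ 7588 Q7588 (allL N7588 (tt N6003 (iv D7681)) (tt N6188 F24345) (tt N9188 D9285) (tt N9186 (iv F29645)) (tt N8066 (iv F25926)) (tt N9184 (iv F29642)) (tt N6011 F24346) (tt N8164 (iv F26235)))
theorem Q7590 : ∀ i, i < 7590 → P i := stepQ 7589 Q7589 (allL N7589 (tt N9188 (iv F29653)) (tt N6023 F24347) (tt N6003 (iv D7682)) (tt N9189 D9286) (tt N8067 (iv F25930)) (tt N9185 (iv F29643)) (tt N6012 F24348) (tt N8165 (iv F26239)))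
theorem Q7591 : ∀ i, i < 7591 → P i := stepQ 7590 Q7590 (allL N7590 (tt N7181 F24349) (tt N9190 D9287) (tt N9046 (iv F29153)) (tt N6026 F24350) (tt N8279 (iv F26631)) (tt N6004 (iv D7683)) (tt N7179 F24351) (tt N9191 D9288))
theorem Q7592 : ∀ i, i < 7592 → P i := stepQ 7591 Q7591 (allL N7591 (tt N7200 F24352) (tt N6006 F24353) (tt N9047 (iv F29159)) (tt N8199 (iv F26340)) (tt N6551 F24354) (tt N9191 (iv F29665)) (tt N7591 F24355) (tt N6004 (iv D7684)))
theorem Q7593 : ∀ i, i < 7593 → P i := stepQ 7592 Q7592 (allL N7592 (tt N8252 (iv F26537)) (tt N6005 (iv D7685)) (tt N9192 D9289) (tt N6027 F24356) (tt N6531 F24357) (tt N9190 (iv F29659)) (tt N6542 F24358) (tt N6529 F24359))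
theorem Q7594 : ∀ i, i < 7594 → P i := stepQ 7593 Q7593 (allL N7593 (tt N8375 (iv F26958)) (tt N6007 (iv D7686)) (tt N9193 D9290) (tt N8363 (iv F26914)) (tt N6009 F24360) (tt N9050 (iv F29169)) (tt N6562 F24361) (tt N6550 F24362))
theorem Q7595 : ∀ i, i < 7595 → P i := stepQ 7594 Q7594 (allL N7594 (tt N6009 (iv D7687)) (tt N6190 F24363) (tt N9194 D9291) (tt N6011 F24364) (tt N8375 (iv F26960)) (tt N9052 (iv F29180)) (tt N9186 (iv F29647)) (tt N9195 D9292))
theorem Q7596 : ∀ i, i < 7596 → P i := stepQ 7595 Q7595 (allL N7595 (tt N9194 (iv F29675)) (tt N9192 (iv F29666)) (tt N6009 (iv D7688)) (tt N9196 D9293) (tt N9193 (iv F29672)) (tt N9053 (iv F29181)) (tt N9187 (iv F29651)) (tt N9197 D9294))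
theorem Q7597 : ∀ i, i < 7597 → P i := stepQ 7596 Q7596 (allL N7596 (tt N9195 (iv F29679)) (tt N6010 F24365) (tt N9197 (iv F29688)) (tt N7596 F24366) (tt N6550 F24367) (tt N9054 (iv F29185)) (tt N6548 F24368) (tt N6009 (iv D7689)))
theorem Q7598 : ∀ i, i < 7598 → P i := stepQ 7597 Q7597 (allL N7597 (tt N6012 F24369) (tt N9198 D9295) (tt N6011 (iv D7690)) (tt N9199 D9296) (tt N8384 (iv F26982)) (tt N9056 (iv F29190)) (tt N9188 (iv F29654)) (tt N7597 F24370))
theorem Q7599 : ∀ i, i < 7599 → P i := stepQ 7598 Q7598 (allL N7598 (tt N9199 (iv F29694)) (tt N6030 F24371) (tt N9196 (iv F29685)) (tt N6012 (iv D7691)) (tt N9200 D9297) (tt N9057 (iv F29193)) (tt N9189 (iv F29656)) (tt N9201 D9298))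
theorem Q7600 : ∀ i, i < 7600 → P i := stepQ 7599 Q7599 (allL N7599 (tt N6015 F24372) (tt N6196 F24373) (tt N6034 F24374) (tt N8518 (iv F27475)) (tt N7184 F24375) (tt N9202 D9299) (tt N6013 (iv D7692)) (tt N8074 (iv F25958)))
theorem Q7601 : ∀ i, i < 7601 → P i := stepQ 7600 Q7600 (allL N7600 (tt N7124 F24376) (tt N8155 (iv F26207)) (tt N6035 F24377) (tt N7103 F24378) (tt N8350 (iv F26865)) (tt N9203 D9300) (tt N6014 (iv D7693)) (tt N9204 D9301))
theorem Q7602 : ∀ i, i < 7602 → P i := stepQ 7601 Q7601 (allL N7601 (tt N9202 (iv F29698)) (tt N9205 D9302) (tt N6036 F24379) (tt N9179 (iv F29626)) (tt N8083 (iv F25978)) (tt N6015 (iv D7694)) (tt N9203 (iv F29706)) (tt N8079 (iv F25971)))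
theorem Q7603 : ∀ i, i < 7603 → P i := stepQ 7602 Q7602 (allL N7602 (tt N9206 D9303) (tt N6016 (iv D7695)) (tt N9207 D9304) (tt N8358 F26895) (tt N8088 (iv F25998)) (tt N9205 (iv F29710)) (tt N8334 (iv F26823)) (tt N8087 (iv F25996)))
theorem Q7604 : ∀ i, i < 7604 → P i := stepQ 7603 Q7603 (allL N7603 (tt N8785 (iv F28317)) (tt N9207 (iv F29717)) (tt N6017 (iv D7696)) (tt N9208 D9305) (tt N7542 F24380) (tt N6039 F24381) (tt N8335 (iv F26826)) (tt N7541 F24382))
theorem Q7605 : ∀ i, i < 7605 → P i := stepQ 7604 Q7604 (allL N7604 (tt N6019 F24383) (tt N9209 D9306) (tt N6018 (iv D7697)) (tt N9210 D9307) (tt N6029 F24384) (tt N6040 F24385) (tt N8336 (iv F26830)) (tt N7604 F24386))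
theorem Q7606 : ∀ i, i < 7606 → P i := stepQ 7605 Q7605 (allL N7605 (tt N9210 (iv F29726)) (tt N9180 (iv F29629)) (tt N9208 (iv F29720)) (tt N6019 (iv D7698)) (tt N9211 D9308) (tt N6041 F24387) (tt N8337 (iv F26832)) (tt N9212 D9309))
theorem Q7607 : ∀ i, i < 7607 → P i := stepQ 7606 Q7606 (allL N7606 (tt N8248 (iv F26520)) (tt N6020 (iv D7699)) (tt N9213 D9310) (tt N6542 F24388) (tt N8218 (iv F26400)) (tt N8524 (iv F27499)) (tt N6027 F24389) (tt N7606 F24390))
theorem Q7608 : ∀ i, i < 7608 → P i := stepQ 7607 Q7607 (allL N7607 (tt N7559 F24391) (tt N9213 (iv F29733)) (tt N6021 (iv D7700)) (tt N9214 D9311) (tt N8220 (iv F26404)) (tt N7757 (iv F24803)) (tt N6028 F24392) (tt N7607 F24393))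
theorem Q7609 : ∀ i, i < 7609 → P i := stepQ 7608 Q7608 (allL N7608 (tt N6023 F24394) (tt N9215 D9312) (tt N6022 (iv D7701)) (tt N9216 D9313) (tt N8336 (iv F26829)) (tt N7807 (iv F24940)) (tt N6029 F24395) (tt N8417 (iv F27110)))
theorem Q7610 : ∀ i, i < 7610 → P i := stepQ 7609 Q7609 (allL N7609 (tt N9216 (iv F29741)) (tt N9189 (iv F29655)) (tt N9214 (iv F29737)) (tt N6023 (iv D7702)) (tt N9217 D9314) (tt N8908 (iv F28731)) (tt N6030 F24396) (tt N9218 D9315))
theorem Q7611 : ∀ i, i < 7611 → P i := stepQ 7610 Q7610 (allL N7610 (tt N6026 F24397) (tt N8267 (iv F26592)) (tt N6043 F24398) (tt N7181 F24399) (tt N8195 (iv F26330)) (tt N6024 (iv D7703)) (tt N7180 F24400) (tt N8190 (iv F26314)))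
theorem Q7612 : ∀ i, i < 7612 → P i := stepQ 7611 Q7611 (allL N7611 (tt N7180 F24401) (tt N9219 D9316) (tt N6044 F24402) (tt N7179 F24403) (tt N8210 (iv F26369)) (tt N6025 (iv D7704)) (tt N6026 F24404) (tt N9220 D9317))
theorem Q7613 : ∀ i, i < 7613 → P i := stepQ 7612 Q7612 (allL N7612 (tt N7035 F24405) (tt N6948 F24406) (tt N6045 F24407) (tt N6947 F24408) (tt N8428 (iv F27135)) (tt N9220 (iv F29754)) (tt N6033 F24409) (tt N6025 (iv D7705)))
theorem Q7614 : ∀ i, i < 7614 → P i := stepQ 7613 Q7613 (allL N7613 (tt N9221 D9318) (tt N6026 (iv D7706)) (tt N9222 D9319) (tt N9190 (iv F29657)) (tt N8208 (iv F26363)) (tt N6027 F24410) (tt N9219 (iv F29748)) (tt N8202 (iv F26352)))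
theorem Q7615 : ∀ i, i < 7615 → P i := stepQ 7614 Q7614 (allL N7614 (tt N6027 (iv D7707)) (tt N6205 F24411) (tt N9223 D9320) (tt N8252 (iv F26538)) (tt N8215 (iv F26388)) (tt N9221 (iv F29756)) (tt N8248 (iv F26523)) (tt N8213 (iv F26382)))
theorem Q7616 : ∀ i, i < 7616 → P i := stepQ 7615 Q7615 (allL N7615 (tt N9223 (iv F29761)) (tt N6028 F24412) (tt N6027 (iv D7708)) (tt N9224 D9321) (tt N8216 (iv F26391)) (tt N9222 (iv F29759)) (tt N9213 (iv F29734)) (tt N7540 F24413))
theorem Q7617 : ∀ i, i < 7617 → P i := stepQ 7616 Q7616 (allL N7616 (tt N7558 F24414) (tt N9224 (iv F29764)) (tt N6030 F24415) (tt N6028 (iv D7709)) (tt N9225 D9322) (tt N6049 F24416) (tt N9214 (iv F29738)) (tt N9226 D9323))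
theorem Q7618 : ∀ i, i < 7618 → P i := stepQ 7617 Q7617 (allL N7617 (tt N9198 (iv F29691)) (tt N6029 (iv D7710)) (tt N6209 F24417) (tt N9227 D9324) (tt N9209 (iv F29724)) (tt N9228 D9325) (tt N9215 (iv F29740)) (tt N7617 F24418))
theorem Q7619 : ∀ i, i < 7619 → P i := stepQ 7618 Q7618 (allL N7618 (tt N6030 F24419) (tt N9227 (iv F29772)) (tt N7558 F24420) (tt N6029 (iv D7711)) (tt N9229 D9326) (tt N6051 F24421) (tt N9216 (iv F29743)) (tt N9230 D9327))
theorem Q7620 : ∀ i, i < 7620 → P i := stepQ 7619 Q7619 (allL N7619 (tt N9229 (iv F29776)) (tt N9200 (iv F29695)) (tt N9225 (iv F29766)) (tt N9211 (iv F29728)) (tt N6030 (iv D7712)) (tt N6052 F24422) (tt N9217 (iv F29744)) (tt N9231 D9328))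
theorem Q7621 : ∀ i, i < 7621 → P i := stepQ 7620 Q7620 (allL N7620 (tt N9230 (iv F29779)) (tt N9201 (iv F29696)) (tt N9226 (iv F29769)) (tt N7620 F24423) (tt N9231 (iv F29783)) (tt N6053 F24424) (tt N9232 D9329) (tt N6030 (iv D7713)))
theorem Q7622 : ∀ i, i < 7622 → P i := stepQ 7621 Q7621 (allL N7621 (tt N6033 F24425) (tt N7033 F24426) (tt N6055 F24427) (tt N7782 (iv F24875)) (tt N8426 (iv F27131)) (tt N8425 (iv F27128)) (tt N7035 F24428) (tt N6032 (iv D7714)))
theorem Q7623 : ∀ i, i < 7623 → P i := stepQ 7622 Q7622 (allL N7622 (tt N6036 F24429) (tt N8647 (iv F27929)) (tt N9202 (iv F29700)) (tt N6961 F24430) (tt N7185 F24431) (tt N6034 (iv D7715)) (tt N8037 (iv F25816)) (tt N8604 (iv F27764)))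
theorem Q7624 : ∀ i, i < 7624 → P i := stepQ 7623 Q7623 (allL N7623 (tt N8037 (iv F25814)) (tt N9233 D9330) (tt N9203 (iv F29704)) (tt N8038 (iv F25819)) (tt N8620 (iv F27806)) (tt N6035 (iv D7716)) (tt N6036 F24432) (tt N9234 D9331))
theorem Q7625 : ∀ i, i < 7625 → P i := stepQ 7624 Q7624 (allL N7624 (tt N6614 F24433) (tt N6623 F24434) (tt N9204 (iv F29708)) (tt N8245 (iv F26505)) (tt N8851 (iv F28519)) (tt N9234 (iv F29793)) (tt N6178 F24435) (tt N6035 (iv D7717)))
theorem Q7626 : ∀ i, i < 7626 → P i := stepQ 7625 Q7625 (allL N7625 (tt N9235 D9332) (tt N6036 (iv D7718)) (tt N9236 D9333) (tt N9098 (iv F29341)) (tt N8619 (iv F27802)) (tt N6037 F24436) (tt N9233 (iv F29789)) (tt N8614 (iv F27794)))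
theorem Q7627 : ∀ i, i < 7627 → P i := stepQ 7626 Q7626 (allL N7626 (tt N6037 (iv D7719)) (tt N6091 F24437) (tt N9237 D9334) (tt N8640 (iv F27902)) (tt N8530 F27524) (tt N9235 (iv F29796)) (tt N8636 (iv F27887)) (tt N8545 (iv F27561)))
theorem Q7628 : ∀ i, i < 7628 → P i := stepQ 7627 Q7627 (allL N7627 (tt N9237 (iv F29799)) (tt N6039 F24438) (tt N6037 (iv D7720)) (tt N9238 D9335) (tt N8623 (iv F27818)) (tt N9236 (iv F29798)) (tt N8919 (iv F28767)) (tt N8622 (iv F27815)))
theorem Q7629 : ∀ i, i < 7629 → P i := stepQ 7628 Q7628 (allL N7628 (tt N6039 F24439) (tt N9239 D9336) (tt N6038 (iv D7721)) (tt N9240 D9337) (tt N6951 F24440) (tt N8785 (iv F28321)) (tt N7781 (iv F24872)) (tt N6950 F24441))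
theorem Q7630 : ∀ i, i < 7630 → P i := stepQ 7629 Q7629 (allL N7629 (tt N9240 (iv F29804)) (tt N9238 (iv F29800)) (tt N6041 F24442) (tt N6039 (iv D7722)) (tt N9241 D9338) (tt N9208 (iv F29721)) (tt N8920 (iv F28770)) (tt N9242 D9339))
theorem Q7631 : ∀ i, i < 7631 → P i := stepQ 7630 Q7630 (allL N7630 (tt N9022 (iv F29074)) (tt N6040 (iv D7723)) (tt N6095 F24443) (tt N9243 D9340) (tt N6050 F24444) (tt N9244 D9341) (tt N6155 F24445) (tt N7630 F24446))
theorem Q7632 : ∀ i, i < 7632 → P i := stepQ 7631 Q7631 (allL N7631 (tt N6041 F24447) (tt N9243 (iv F29810)) (tt N9240 (iv F29805)) (tt N6040 (iv D7724)) (tt N9245 D9342) (tt N9210 (iv F29727)) (tt N7810 (iv F24954)) (tt N9246 D9343))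
theorem Q7633 : ∀ i, i < 7633 → P i := stepQ 7632 Q7632 (allL N7632 (tt N9245 (iv F29816)) (tt N9102 (iv F29357)) (tt N9241 (iv F29806)) (tt N6052 F24448) (tt N6041 (iv D7725)) (tt N9211 (iv F29729)) (tt N8921 (iv F28772)) (tt N9247 D9344))
theorem Q7634 : ∀ i, i < 7634 → P i := stepQ 7633 Q7633 (allL N7633 (tt N9246 (iv F29818)) (tt N9103 (iv F29359)) (tt N9242 (iv F29807)) (tt N7633 F24449) (tt N9247 (iv F29820)) (tt N9212 (iv F29732)) (tt N9248 D9345) (tt N6041 (iv D7726)))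
theorem Q7635 : ∀ i, i < 7635 → P i := stepQ 7634 Q7634 (allL N7634 (tt N6044 F24450) (tt N8754 (iv F28228)) (tt N7180 F24451) (tt N9104 (iv F29366)) (tt N8757 (iv F28244)) (tt N6042 (iv D7727)) (tt N6043 F24452) (tt N9249 D9346))
theorem Q7636 : ∀ i, i < 7636 → P i := stepQ 7635 Q7635 (allL N7635 (tt N6045 F24453) (tt N7053 F24454) (tt N7035 F24455) (tt N9250 D9347) (tt N8942 (iv F28834)) (tt N9249 (iv F29825)) (tt N6055 F24456) (tt N6042 (iv D7728)))
theorem Q7637 : ∀ i, i < 7637 → P i := stepQ 7636 Q7636 (allL N7636 (tt N9251 D9348) (tt N6044 (iv D7729)) (tt N9252 D9349) (tt N8959 (iv F28879)) (tt N8782 (iv F28311)) (tt N7730 (iv F24715)) (tt N6046 F24457) (tt N9253 D9350))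
theorem Q7638 : ∀ i, i < 7638 → P i := stepQ 7637 Q7637 (allL N7637 (tt N9249 (iv F29823)) (tt N9253 (iv F29834)) (tt N9220 (iv F29752)) (tt N9254 D9351) (tt N8776 (iv F28294)) (tt N6045 F24458) (tt N8770 (iv F28281)) (tt N6044 (iv D7730)))
theorem Q7639 : ∀ i, i < 7639 → P i := stepQ 7638 Q7638 (allL N7638 (tt N9250 (iv F29826)) (tt N8926 (iv F28786)) (tt N9255 D9352) (tt N6045 (iv D7731)) (tt N9256 D9353) (tt N9254 (iv F29836)) (tt N6056 F24459) (tt N9109 (iv F29382)))
theorem Q7640 : ∀ i, i < 7640 → P i := stepQ 7639 Q7639 (allL N7639 (tt N6046 (iv D7732)) (tt N7131 F24460) (tt N9257 D9354) (tt N6115 F24461) (tt N8752 (iv F28219)) (tt N6047 F24462) (tt N9251 (iv F29832)) (tt N7175 F24463))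
theorem Q7641 : ∀ i, i < 7641 → P i := stepQ 7640 Q7640 (allL N7640 (tt N9257 (iv F29841)) (tt N9222 (iv F29758)) (tt N6046 (iv D7733)) (tt N9258 D9355) (tt N8781 (iv F28308)) (tt N6048 F24464) (tt N9252 (iv F29833)) (tt N7535 F24465))
theorem Q7642 : ∀ i, i < 7642 → P i := stepQ 7641 Q7641 (allL N7641 (tt N6048 F24466) (tt N7134 F24467) (tt N6047 (iv D7734)) (tt N9259 D9356) (tt N8761 (iv F28255)) (tt N9257 (iv F29842)) (tt N7366 F24468) (tt N7174 F24469))
theorem Q7643 : ∀ i, i < 7643 → P i := stepQ 7642 Q7642 (allL N7642 (tt N9259 (iv F29845)) (tt N6049 F24470) (tt N8957 (iv F28872)) (tt N6048 (iv D7735)) (tt N9260 D9357) (tt N9258 (iv F29844)) (tt N7728 (iv F24710)) (tt N9261 D9358))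
theorem Q7644 : ∀ i, i < 7644 → P i := stepQ 7643 Q7643 (allL N7643 (tt N7560 F24471) (tt N9260 (iv F29849)) (tt N6052 F24472) (tt N8788 (iv F28329)) (tt N6049 (iv D7736)) (tt N9225 (iv F29767)) (tt N7758 (iv F24807)) (tt N9262 D9359))
theorem Q7645 : ∀ i, i < 7645 → P i := stepQ 7644 Q7644 (allL N7644 (tt N7552 F24473) (tt N9261 (iv F29850)) (tt N6053 F24474) (tt N7538 F24475) (tt N9262 (iv F29854)) (tt N9226 (iv F29771)) (tt N9263 D9360) (tt N6049 (iv D7737)))
theorem Q7646 : ∀ i, i < 7646 → P i := stepQ 7645 Q7645 (allL N7645 (tt N9015 (iv F29055)) (tt N6051 F24476) (tt N9264 D9361) (tt N6050 (iv D7738)) (tt N9265 D9362) (tt N9266 D9363) (tt N7803 (iv F24924)) (tt N9267 D9364))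
theorem Q7647 : ∀ i, i < 7647 → P i := stepQ 7646 Q7646 (allL N7646 (tt N7954 (iv F25474)) (tt N9228 (iv F29773)) (tt N6100 F24477) (tt N9266 (iv F29863)) (tt N9244 (iv F29813)) (tt N6050 (iv D7739)) (tt N9268 D9365) (tt N7646 F24478))
theorem Q7648 : ∀ i, i < 7648 → P i := stepQ 7647 Q7647 (allL N7647 (tt N6052 F24479) (tt N9265 (iv F29862)) (tt N7560 F24480) (tt N9245 (iv F29817)) (tt N6051 (iv D7740)) (tt N9229 (iv F29778)) (tt N7804 (iv F24928)) (tt N9269 D9366))
theorem Q7649 : ∀ i, i < 7649 → P i := stepQ 7648 Q7648 (allL N7648 (tt N6053 F24481) (tt N9267 (iv F29864)) (tt N7552 F24482) (tt N7648 F24483) (tt N9269 (iv F29872)) (tt N9230 (iv F29782)) (tt N9270 D9367) (tt N6051 (iv D7741)))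
theorem Q7650 : ∀ i, i < 7650 → P i := stepQ 7649 Q7649 (allL N7649 (tt N9269 (iv F29870)) (tt N9110 (iv F29383)) (tt N9262 (iv F29853)) (tt N9271 D9368) (tt N6053 F24484) (tt N9231 (iv F29784)) (tt N9272 D9369) (tt N6052 (iv D7742)))
theorem Q7651 : ∀ i, i < 7651 → P i := stepQ 7650 Q7650 (allL N7650 (tt N9270 (iv F29873)) (tt N9111 (iv F29385)) (tt N9263 (iv F29856)) (tt N7650 F24485) (tt N9272 (iv F29877)) (tt N9273 D9370) (tt N6053 (iv D7743)) (tt N8928 (iv F28790)))
theorem Q7652 : ∀ i, i < 7652 → P i := stepQ 7651 Q7651 (allL N7651 (tt N8591 (iv F27711)) (tt N8934 (iv F28805)) (tt N7203 F24486) (tt N6067 F24487) (tt N8937 (iv F28817)) (tt N6054 (iv D7744)) (tt N6103 F24488) (tt N9274 D9371))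
theorem Q7653 : ∀ i, i < 7653 → P i := stepQ 7652 Q7652 (allL N7652 (tt N8557 (iv F27606)) (tt N6055 F24489) (tt N7052 F24490) (tt N9275 D9372) (tt N8940 (iv F28827)) (tt N9274 (iv F29880)) (tt N7053 F24491) (tt N6054 (iv D7745)))
theorem Q7654 : ∀ i, i < 7654 → P i := stepQ 7653 Q7653 (allL N7653 (tt N6056 F24492) (tt N9275 (iv F29881)) (tt N9276 D9373) (tt N6055 (iv D7746)) (tt N9277 D9374) (tt N8936 (iv F28815)) (tt N9250 (iv F29828)) (tt N6071 F24493))
theorem Q7655 : ∀ i, i < 7655 → P i := stepQ 7654 Q7654 (allL N7654 (tt N9276 (iv F29884)) (tt N7775 (iv F24852)) (tt N6056 (iv D7747)) (tt N7780 (iv F24868)) (tt N9278 D9375) (tt N8945 (iv F28838)) (tt N9255 (iv F29839)) (tt N6084 F24494))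
theorem Q7656 : ∀ i, i < 7656 → P i := stepQ 7655 Q7655 (allL N7655 (tt N9277 (iv F29886)) (tt N8933 (iv F28802)) (tt N9278 (iv F29888)) (tt N8948 (iv F28845)) (tt N6056 (iv D7748)) (tt N8946 (iv F28842)) (tt N9256 (iv F29840)) (tt N6085 F24495))
theorem Q7657 : ∀ i, i < 7657 → P i := stepQ 7656 Q7656 (allL N7656 (tt N7656 F24496) (tt N6057 (iv D7749)) (tt N9279 D9376) (tt N7656 F24497) (tt N7902 (iv F25286)) (tt N7656 F24498) (tt N7465 F24499) (tt N9280 D9377))
theorem Q7658 : ∀ i, i < 7658 → P i := stepQ 7657 Q7657 (allL N7657 (tt N6073 F24500) (tt N7465 F24501) (tt N6060 F24502) (tt N7657 F24503) (tt N7900 F25279) (tt N7499 F24504) (tt N6057 (iv D7750)) (tt N7464 (iv F24505)))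
theorem Q7659 : ∀ i, i < 7659 → P i := stepQ 7658 Q7658 (allL N7658 (tt N6074 F24506) (tt N9280 (iv F29896)) (tt N6061 F24507) (tt N8813 (iv F28390)) (tt N7661 (iv F24518)) (tt N6058 F24508) (tt N9281 D9378) (tt N6057 (iv D7751)))
theorem Q7660 : ∀ i, i < 7660 → P i := stepQ 7659 Q7659 (allL N7659 (tt N6075 F24509) (tt N7659 F24510) (tt N7370 F24511) (tt N6058 (iv D7752)) (tt N8825 (iv F28435)) (tt N8813 (iv F28392)) (tt N9282 D9379) (tt N7659 F24512))
theorem Q7661 : ∀ i, i < 7661 → P i := stepQ 7660 Q7660 (allL N7660 (tt N6076 F24513) (tt N7660 F24514) (tt N6062 F24515) (tt N9282 (iv F29908)) (tt N7716 (iv F24676)) (tt N9283 D9380) (tt N6058 (iv D7753)) (tt N7153 F24516))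
theorem Q7662 : ∀ i, i < 7662 → P i := stepQ 7661 Q7661 (allL N7661 (tt N6072 F24517) (tt N9279 (iv F29891)) (tt N6059 (iv D7754)) (tt N8868 (iv F28590)) (tt N7658 F24518) (tt N6104 F24519) (tt N9284 D9381) (tt N7326 F24520))
theorem Q7663 : ∀ i, i < 7663 → P i := stepQ 7662 Q7662 (allL N7662 (tt N6069 F24521) (tt N6060 F24522) (tt N9284 (iv F29914)) (tt N6064 F24523) (tt N7664 (iv F24530)) (tt N9285 D9382) (tt N6059 (iv D7755)) (tt N9286 D9383))
theorem Q7664 : ∀ i, i < 7664 → P i := stepQ 7663 Q7663 (allL N7663 (tt N6077 F24524) (tt N9286 (iv F29922)) (tt N7464 F24525) (tt N9287 D9384) (tt N8929 (iv F28792)) (tt N7498 F24526) (tt N9288 D9385) (tt N6060 (iv D7756)))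
theorem Q7665 : ∀ i, i < 7665 → P i := stepQ 7664 Q7664 (allL N7664 (tt N6078 F24527) (tt N7340 F24528) (tt N9281 (iv F29903)) (tt N7349 F24529) (tt N7662 F24530) (tt N9289 D9386) (tt N6061 (iv D7757)) (tt N9288 (iv F29933)))
theorem Q7666 : ∀ i, i < 7666 → P i := stepQ 7665 Q7665 (allL N7665 (tt N6079 F24531) (tt N7360 F24532) (tt N9283 (iv F29910)) (tt N7367 F24533) (tt N7717 (iv F24681)) (tt N6062 (iv D7758)) (tt N9289 (iv F29938)) (tt N7155 F24534))
theorem Q7667 : ∀ i, i < 7667 → P i := stepQ 7666 Q7666 (allL N7666 (tt N8577 (iv F27671)) (tt N7666 F24535) (tt N6064 F24536) (tt N8872 (iv F28607)) (tt N6066 F24537) (tt N9290 D9387) (tt N6063 (iv D7759)) (tt N9291 D9388))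
theorem Q7668 : ∀ i, i < 7668 → P i := stepQ 7667 Q7667 (allL N7667 (tt N8934 (iv F28804)) (tt N7689 (iv F24592)) (tt N9290 (iv F29939)) (tt N9285 (iv F29919)) (tt N6067 F24538) (tt N6064 (iv D7760)) (tt N6108 F24539) (tt N9292 D9389))
theorem Q7669 : ∀ i, i < 7669 → P i := stepQ 7668 Q7668 (allL N7668 (tt N8935 (iv F28809)) (tt N6065 F24540) (tt N9291 (iv F29944)) (tt N9293 D9390) (tt N6068 F24541) (tt N9292 (iv F29949)) (tt N7525 F24542) (tt N6064 (iv D7761)))
theorem Q7670 : ∀ i, i < 7670 → P i := stepQ 7669 Q7669 (allL N7669 (tt N6081 F24543) (tt N9293 (iv F29950)) (tt N9294 D9391) (tt N6065 (iv D7762)) (tt N9295 D9392) (tt N7695 (iv F24604)) (tt N7526 F24544) (tt N9287 (iv F29928)))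
theorem Q7671 : ∀ i, i < 7671 → P i := stepQ 7670 Q7670 (allL N7670 (tt N8578 (iv F27675)) (tt N9296 D9393) (tt N6067 F24545) (tt N7211 F24546) (tt N9290 (iv F29940)) (tt N6066 (iv D7763)) (tt N6112 F24547) (tt N9297 D9394))
theorem Q7672 : ∀ i, i < 7672 → P i := stepQ 7671 Q7671 (allL N7671 (tt N8579 (iv F27679)) (tt N7671 F24548) (tt N6068 F24549) (tt N8504 (iv F27430)) (tt N9291 (iv F29945)) (tt N9297 (iv F29964)) (tt N9120 (iv F29415)) (tt N6066 (iv D7764)))
theorem Q7673 : ∀ i, i < 7673 → P i := stepQ 7672 Q7672 (allL N7672 (tt N9285 (iv F29917)) (tt N6067 (iv D7765)) (tt N9298 D9395) (tt N8934 (iv F28806)) (tt N7689 (iv F24593)) (tt N6069 F24550) (tt N6114 F24551) (tt N9299 D9396))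
theorem Q7674 : ∀ i, i < 7674 → P i := stepQ 7673 Q7673 (allL N7673 (tt N8938 (iv F28821)) (tt N9299 (iv F29967)) (tt N9297 (iv F29963)) (tt N9300 D9397) (tt N9292 (iv F29948)) (tt N6068 F24552) (tt N9301 D9398) (tt N6067 (iv D7766)))
theorem Q7675 : ∀ i, i < 7675 → P i := stepQ 7674 Q7674 (allL N7674 (tt N8939 (iv F28823)) (tt N6071 F24553) (tt N9302 D9399) (tt N6068 (iv D7767)) (tt N9303 D9400) (tt N9300 (iv F29970)) (tt N9122 (iv F29420)) (tt N9275 (iv F29883)))
theorem Q7676 : ∀ i, i < 7676 → P i := stepQ 7675 Q7675 (allL N7675 (tt N9284 (iv F29912)) (tt N7675 F24554) (tt N6069 (iv D7768)) (tt N9304 D9401) (tt N7683 (iv F24579)) (tt N9298 (iv F29965)) (tt N6072 F24555) (tt N8998 (iv F29014)))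
theorem Q7677 : ∀ i, i < 7677 → P i := stepQ 7676 Q7676 (allL N7676 (tt N9286 (iv F29921)) (tt N6070 F24556) (tt N8998 (iv F29012)) (tt N9305 D9402) (tt N7688 (iv F24590)) (tt N9299 (iv F29968)) (tt N7343 F24557) (tt N6069 (iv D7769)))
theorem Q7678 : ∀ i, i < 7678 → P i := stepQ 7677 Q7677 (allL N7677 (tt N6082 F24558) (tt N9305 (iv F29977)) (tt N9306 D9403) (tt N6070 (iv D7770)) (tt N9307 D9404) (tt N6071 F24559) (tt N7690 (iv F24596)) (tt N8936 (iv F28816)))
theorem Q7679 : ∀ i, i < 7679 → P i := stepQ 7678 Q7678 (allL N7678 (tt N6084 F24560) (tt N9308 D9405) (tt N6071 (iv D7771)) (tt N7678 F24561) (tt N9309 D9406) (tt N9306 (iv F29981)) (tt N9123 (iv F29423)) (tt N9276 (iv F29885)))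
theorem Q7680 : ∀ i, i < 7680 → P i := stepQ 7679 Q7679 (allL N7679 (tt N6085 F24562) (tt N9303 (iv F29974)) (tt N9309 (iv F29986)) (tt N9295 (iv F29958)) (tt N6071 (iv D7772)) (tt N9307 (iv F29983)) (tt N9124 (iv F29425)) (tt N9277 (iv F29887)))
theorem Q7681 : ∀ i, i < 7681 → P i := stepQ 7680 Q7680 (allL N7680 (tt N8868 (iv F28588)) (tt N7680 F24563) (tt N8570 (iv F27649)) (tt N6072 (iv D7773)) (tt N8569 F27646) (tt N6117 F24564) (tt N9304 (iv F29976)) (tt N6374 F24565))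
theorem Q7682 : ∀ i, i < 7682 → P i := stepQ 7681 Q7681 (allL N7681 (tt N7464 F24566) (tt N7681 F24567) (tt N6077 F24568) (tt N7419 (iv F24571)) (tt N7402 F24569) (tt N7404 F24570) (tt N9310 D9407) (tt N6073 (iv D7774)))
theorem Q7683 : ∀ i, i < 7683 → P i := stepQ 7682 Q7682 (allL N7682 (tt N8813 (iv F28389)) (tt N7682 F24572) (tt N6982 F24573) (tt N6074 (iv D7775)) (tt N6981 (iv F24576)) (tt N6075 F24574) (tt N9311 D9408) (tt N7682 F24575))
theorem Q7684 : ∀ i, i < 7684 → P i := stepQ 7683 Q7683 (allL N7683 (tt N9281 (iv F29901)) (tt N7683 F24577) (tt N6078 F24578) (tt N9311 (iv F29995)) (tt N7675 F24579) (tt N9312 D9409) (tt N6074 (iv D7776)) (tt N9310 (iv F29992)))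
theorem Q7685 : ∀ i, i < 7685 → P i := stepQ 7684 Q7684 (allL N7684 (tt N8825 (iv F28433)) (tt N6088 F24580) (tt N6979 F24581) (tt N7732 (iv F24719)) (tt N6075 (iv D7777)) (tt N6981 F24582) (tt N9313 D9410) (tt N7684 F24583))
theorem Q7686 : ∀ i, i < 7686 → P i := stepQ 7685 Q7685 (allL N7685 (tt N9282 (iv F29905)) (tt N6089 F24584) (tt N9125 (iv F29428)) (tt N6076 F24585) (tt N9313 (iv F30002)) (tt N9314 D9411) (tt N6075 (iv D7778)) (tt N9315 D9412))
theorem Q7687 : ∀ i, i < 7687 → P i := stepQ 7686 Q7686 (allL N7686 (tt N9283 (iv F29909)) (tt N9316 D9413) (tt N6079 F24586) (tt N9314 (iv F30003)) (tt N7729 (iv F24711)) (tt N6076 (iv D7779)) (tt N9312 (iv F29999)) (tt N8910 (iv F28740)))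
theorem Q7688 : ∀ i, i < 7688 → P i := stepQ 7687 Q7687 (allL N7687 (tt N9287 (iv F29925)) (tt N6082 F24587) (tt N9317 D9414) (tt N6077 (iv D7780)) (tt N9318 D9415) (tt N8931 (iv F28797)) (tt N9319 D9416) (tt N6081 F24588))
theorem Q7689 : ∀ i, i < 7689 → P i := stepQ 7688 Q7688 (allL N7688 (tt N9288 (iv F29929)) (tt N6083 F24589) (tt N9310 (iv F29989)) (tt N9319 (iv F30014)) (tt N7676 F24590) (tt N9320 D9417) (tt N6077 (iv D7781)) (tt N6078 F24591))
theorem Q7690 : ∀ i, i < 7690 → P i := stepQ 7689 Q7689 (allL N7689 (tt N9289 (iv F29934)) (tt N7667 F24592) (tt N9312 (iv F29997)) (tt N9128 (iv F29441)) (tt N7672 F24593) (tt N6078 (iv D7782)) (tt N6079 F24594) (tt N9320 (iv F30017)))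
theorem Q7691 : ∀ i, i < 7691 → P i := stepQ 7690 Q7690 (allL N7690 (tt N7695 (iv F24602)) (tt N8932 (iv F28799)) (tt N9321 D9418) (tt N6080 (iv D7783)) (tt N9322 D9419) (tt N6081 F24595) (tt N7677 F24596) (tt N8931 (iv F28798)))
theorem Q7692 : ∀ i, i < 7692 → P i := stepQ 7691 Q7691 (allL N7691 (tt N9294 (iv F29952)) (tt N9323 D9420) (tt N6081 (iv D7784)) (tt N7691 F24597) (tt N9324 D9421) (tt N9321 (iv F30020)) (tt N9129 (iv F29446)) (tt N9317 (iv F30010)))
theorem Q7693 : ∀ i, i < 7693 → P i := stepQ 7692 Q7692 (allL N7692 (tt N9295 (iv F29957)) (tt N8946 (iv F28840)) (tt N9324 (iv F30027)) (tt N6085 F24598) (tt N6081 (iv D7785)) (tt N9322 (iv F30024)) (tt N9130 (iv F29449)) (tt N9318 (iv F30012)))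
theorem Q7694 : ∀ i, i < 7694 → P i := stepQ 7693 Q7693 (allL N7693 (tt N9306 (iv F29979)) (tt N9248 (iv F29821)) (tt N6082 (iv D7786)) (tt N7693 F24599) (tt N9325 D9422) (tt N6084 F24600) (tt N9103 (iv F29362)) (tt N8945 (iv F28839)))
theorem Q7695 : ∀ i, i < 7695 → P i := stepQ 7694 Q7694 (allL N7694 (tt N9307 (iv F29982)) (tt N9318 (iv F30011)) (tt N9325 (iv F30028)) (tt N9322 (iv F30023)) (tt N6082 (iv D7787)) (tt N6085 F24601) (tt N9326 D9423) (tt N8946 (iv F28843)))
theorem Q7696 : ∀ i, i < 7696 → P i := stepQ 7695 Q7695 (allL N7695 (tt N7690 F24602) (tt N9319 (iv F30013)) (tt N9103 (iv F29360)) (tt N6083 F24603) (tt N9326 (iv F30032)) (tt N7669 F24604) (tt N6082 (iv D7788)) (tt N9101 (iv F29356)))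
theorem Q7697 : ∀ i, i < 7697 → P i := stepQ 7696 Q7696 (allL N7696 (tt N9327 D9424) (tt N6084 (iv D7789)) (tt N7768 F24837) (tt N7696 F24605) (tt N9328 D9425) (tt N9329 D9426) (tt N9134 (iv F29458)) (tt N7775 (iv F24854)))
theorem Q7698 : ∀ i, i < 7698 → P i := stepQ 7697 Q7697 (allL N7697 (tt N9309 (iv F29985)) (tt N9328 (iv F30035)) (tt N6085 F24606) (tt N9330 D9427) (tt N6084 (iv D7790)) (tt N9325 (iv F30029)) (tt N9135 (iv F29460)) (tt N9278 (iv F29889)))
theorem Q7699 : ∀ i, i < 7699 → P i := stepQ 7698 Q7698 (allL N7698 (tt N7698 F24607) (tt N9313 (iv F30000)) (tt N7698 F24608) (tt N7760 (iv F24814)) (tt N6089 F24609) (tt N9331 D9428) (tt N6088 (iv D7791)) (tt N9332 D9429))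
theorem Q7700 : ∀ i, i < 7700 → P i := stepQ 7699 Q7699 (allL N7699 (tt N7699 F24610) (tt N9333 D9430) (tt N7699 F24611) (tt N6090 F24612) (tt N9331 (iv F30040)) (tt N6089 (iv D7792)) (tt N7699 F24613) (tt N9334 D9431))
theorem Q7701 : ∀ i, i < 7701 → P i := stepQ 7700 Q7700 (allL N7700 (tt N7700 F24614) (tt N9315 (iv F30004)) (tt N7700 F24615) (tt N8913 (iv F28748)) (tt N9332 (iv F30044)) (tt N9334 (iv F30051)) (tt N7700 F24616) (tt N6089 (iv D7793)))
theorem Q7702 : ∀ i, i < 7702 → P i := stepQ 7701 Q7701 (allL N7701 (tt N9335 D9432) (tt N6090 (iv D7794)) (tt N7739 (iv F24740)) (tt N9333 (iv F30046)) (tt N7754 (iv F24793)) (tt N9316 (iv F30006)) (tt N7701 F24617) (tt N8914 (iv F28753)))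
theorem Q7703 : ∀ i, i < 7703 → P i := stepQ 7702 Q7702 (allL N7702 (tt N6092 F24618) (tt N9336 D9433) (tt N6091 (iv D7795)) (tt N9337 D9434) (tt N6954 F24619) (tt N7023 F24620) (tt N7811 (iv F24959)) (tt N6953 F24621))
theorem Q7704 : ∀ i, i < 7704 → P i := stepQ 7703 Q7703 (allL N7703 (tt N9337 (iv F30058)) (tt N6094 F24622) (tt N8635 (iv F27877)) (tt N6092 (iv D7796)) (tt N7038 F24623) (tt N7025 F24624) (tt N7812 (iv F24964)) (tt N7069 F24625))
theorem Q7705 : ∀ i, i < 7705 → P i := stepQ 7704 Q7704 (allL N7704 (tt N9336 (iv F30055)) (tt N6093 (iv D7797)) (tt N9239 (iv F29801)) (tt N9338 D9435) (tt N6947 F24626) (tt N9339 D9436) (tt N7783 (iv F24878)) (tt N6944 F24627))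
theorem Q7706 : ∀ i, i < 7706 → P i := stepQ 7705 Q7705 (allL N7705 (tt N6094 F24628) (tt N9338 (iv F30062)) (tt N6096 F24629) (tt N6093 (iv D7798)) (tt N9340 D9437) (tt N6251 F24630) (tt N7785 (iv F24886)) (tt N7222 F24631))
theorem Q7707 : ∀ i, i < 7707 → P i := stepQ 7706 Q7706 (allL N7706 (tt N9340 (iv F30067)) (tt N7038 F24632) (tt N6097 F24633) (tt N6955 F24634) (tt N6094 (iv D7799)) (tt N6252 F24635) (tt N7425 F24636) (tt N7054 F24637))
theorem Q7708 : ∀ i, i < 7708 → P i := stepQ 7707 Q7707 (allL N7707 (tt N7962 (iv F25511)) (tt N6096 F24638) (tt N9341 D9438) (tt N6095 (iv D7800)) (tt N7915 (iv F25332)) (tt N7917 (iv F25341)) (tt N6327 F24639) (tt N7923 (iv F25364)))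
theorem Q7709 : ∀ i, i < 7709 → P i := stepQ 7708 Q7708 (allL N7708 (tt N7955 (iv F25477)) (tt N6254 F24640) (tt N9244 (iv F29812)) (tt N7917 (iv F25340)) (tt N6100 F24641) (tt N6095 (iv D7801)) (tt N6331 F24642) (tt N7708 F24643))
theorem Q7710 : ∀ i, i < 7710 → P i := stepQ 7709 Q7709 (allL N7709 (tt N6097 F24644) (tt N7915 (iv F25331)) (tt N9340 (iv F30068)) (tt N6101 F24645) (tt N6096 (iv D7802)) (tt N6255 F24646) (tt N7424 F24647) (tt N7921 (iv F25355)))
theorem Q7711 : ∀ i, i < 7711 → P i := stepQ 7710 Q7710 (allL N7710 (tt N6098 F24648) (tt N7923 (iv F25361)) (tt N7222 F24649) (tt N7710 F24650) (tt N7921 F25356) (tt N6256 F24651) (tt N7573 (iv F24652)) (tt N6096 (iv D7803)))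
theorem Q7712 : ∀ i, i < 7712 → P i := stepQ 7711 Q7711 (allL N7711 (tt N7921 (iv F25352)) (tt N6174 F24653) (tt N7054 F24654) (tt N6347 F24655) (tt N6098 F24656) (tt N6257 F24657) (tt N7257 F24658) (tt N6097 (iv D7804)))
theorem Q7713 : ∀ i, i < 7713 → P i := stepQ 7712 Q7712 (allL N7712 (tt N6168 F24659) (tt N7135 F24660) (tt N6099 (iv D7805)) (tt N9264 (iv F29860)) (tt N7749 (iv F24778)) (tt N7745 (iv F24766)) (tt N7421 F24661) (tt N6345 F24662))
theorem Q7714 : ∀ i, i < 7714 → P i := stepQ 7713 Q7713 (allL N7713 (tt N7956 (iv F25483)) (tt N6266 F24663) (tt N9268 (iv F29866)) (tt N7911 (iv F25314)) (tt N6331 F24664) (tt N6323 F24665) (tt N6100 (iv D7806)) (tt N6326 (iv F24666)))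
theorem Q7715 : ∀ i, i < 7715 → P i := stepQ 7714 Q7714 (allL N7714 (tt N8590 (iv F27707)) (tt N9342 D9439) (tt N6103 F24667) (tt N7219 F24668) (tt N8958 (iv F28873)) (tt N6102 (iv D7807)) (tt N7203 F24669) (tt N9085 (iv F29295)))
theorem Q7716 : ∀ i, i < 7716 → P i := stepQ 7715 Q7715 (allL N7715 (tt N6117 F24670) (tt N7715 F24671) (tt N6106 F24672) (tt N6104 (iv D7808)) (tt N9343 D9440) (tt N8868 (iv F28592)) (tt N9344 D9441) (tt N8368 (iv F26936)))
theorem Q7717 : ∀ i, i < 7717 → P i := stepQ 7716 Q7716 (allL N7716 (tt N6116 F24673) (tt N7716 F24674) (tt N6105 F24675) (tt N9344 (iv F30086)) (tt N7660 F24676) (tt N9345 D9442) (tt N6104 (iv D7809)) (tt N6998 F24677))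
theorem Q7718 : ∀ i, i < 7718 → P i := stepQ 7717 Q7717 (allL N7717 (tt N6114 F24678) (tt N7522 F24679) (tt N9345 (iv F30089)) (tt N6108 F24680) (tt N7665 F24681) (tt N6105 (iv D7810)) (tt N9285 (iv F29920)) (tt N7333 F24682))
theorem Q7719 : ∀ i, i < 7719 → P i := stepQ 7718 Q7718 (allL N7718 (tt N8567 (iv F27633)) (tt N6118 F24683) (tt N9343 (iv F30080)) (tt N6110 F24684) (tt N6106 (iv D7811)) (tt N7208 F24685) (tt N9346 D9443) (tt N8370 (iv F26947)))
theorem Q7720 : ∀ i, i < 7720 → P i := stepQ 7719 Q7719 (allL N7719 (tt N8951 (iv F28849)) (tt N6119 F24686) (tt N9344 (iv F30085)) (tt N6107 F24687) (tt N9346 (iv F30094)) (tt N9347 D9444) (tt N6106 (iv D7812)) (tt N9348 D9445))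
theorem Q7721 : ∀ i, i < 7721 → P i := stepQ 7720 Q7720 (allL N7720 (tt N8952 (iv F28853)) (tt N9349 D9446) (tt N6108 F24688) (tt N9347 (iv F30095)) (tt N6112 F24689) (tt N6107 (iv D7813)) (tt N9290 (iv F29941)) (tt N9350 D9447))
theorem Q7722 : ∀ i, i < 7722 → P i := stepQ 7721 Q7721 (allL N7721 (tt N8953 (iv F28856)) (tt N6122 F24690) (tt N6109 F24691) (tt N9351 D9448) (tt N6113 F24692) (tt N9350 (iv F30104)) (tt N7167 F24693) (tt N6107 (iv D7814)))
theorem Q7723 : ∀ i, i < 7723 → P i := stepQ 7722 Q7722 (allL N7722 (tt N8954 (iv F28861)) (tt N7335 F24694) (tt N9350 (iv F30102)) (tt N8756 (iv F28240)) (tt N6115 F24695) (tt N6109 F24696) (tt N9352 D9449) (tt N6108 (iv D7815)))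
theorem Q7724 : ∀ i, i < 7724 → P i := stepQ 7723 Q7723 (allL N7723 (tt N8568 (iv F27638)) (tt N6125 F24697) (tt N7214 F24698) (tt N9346 (iv F30093)) (tt N6111 F24699) (tt N9353 D9450) (tt N6110 (iv D7816)) (tt N9354 D9451))
theorem Q7725 : ∀ i, i < 7725 → P i := stepQ 7724 Q7724 (allL N7724 (tt N8576 (iv F27667)) (tt N9355 D9452) (tt N7219 F24700) (tt N6112 F24701) (tt N9353 (iv F30111)) (tt N6111 (iv D7817)) (tt N7211 F24702) (tt N9356 D9453))
theorem Q7726 : ∀ i, i < 7726 → P i := stepQ 7725 Q7725 (allL N7725 (tt N8575 (iv F27663)) (tt N6128 F24703) (tt N7218 F24704) (tt N9357 D9454) (tt N9354 (iv F30115)) (tt N9356 (iv F30121)) (tt N7210 F24705) (tt N6111 (iv D7818)))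
theorem Q7727 : ∀ i, i < 7727 → P i := stepQ 7726 Q7726 (allL N7726 (tt N9358 D9455) (tt N6112 (iv D7819)) (tt N9359 D9456) (tt N9355 (iv F30117)) (tt N9349 (iv F30100)) (tt N6130 F24706) (tt N9296 (iv F29962)) (tt N9360 D9457))
theorem Q7728 : ∀ i, i < 7728 → P i := stepQ 7727 Q7727 (allL N7727 (tt N8956 (iv F28867)) (tt N9360 (iv F30130)) (tt N6115 F24707) (tt N9361 D9458) (tt N9350 (iv F30103)) (tt N6113 F24708) (tt N9362 D9459) (tt N6112 (iv D7820)))
theorem Q7729 : ∀ i, i < 7729 → P i := stepQ 7728 Q7728 (allL N7728 (tt N8957 (iv F28870)) (tt N6132 F24709) (tt N9259 (iv F29847)) (tt N6113 (iv D7821)) (tt N9363 D9460) (tt N9361 (iv F30133)) (tt N7642 F24710) (tt N9357 (iv F30124)))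
theorem Q7730 : ∀ i, i < 7730 → P i := stepQ 7729 Q7729 (allL N7729 (tt N9345 (iv F30088)) (tt N9359 (iv F30126)) (tt N6114 (iv D7822)) (tt N9364 D9461) (tt N7686 F24711) (tt N6116 F24712) (tt N9298 (iv F29966)) (tt N7321 F24713))
theorem Q7731 : ∀ i, i < 7731 → P i := stepQ 7730 Q7730 (allL N7730 (tt N8959 (iv F28877)) (tt N7336 F24714) (tt N9362 (iv F30134)) (tt N9251 (iv F29830)) (tt N9352 (iv F30108)) (tt N7636 F24715) (tt N6115 (iv D7823)) (tt N9301 (iv F29973)))
theorem Q7732 : ∀ i, i < 7732 → P i := stepQ 7731 Q7731 (allL N7731 (tt N9344 (iv F30083)) (tt N6135 F24716) (tt N8951 (iv F28851)) (tt N6116 (iv D7824)) (tt N9365 D9462) (tt N9364 (iv F30138)) (tt N6117 F24717) (tt N9366 D9463))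
theorem Q7733 : ∀ i, i < 7733 → P i := stepQ 7732 Q7732 (allL N7732 (tt N9343 (iv F30078)) (tt N6136 F24718) (tt N8567 (iv F27635)) (tt N7684 F24719) (tt N6117 (iv D7825)) (tt N8569 (iv F27644)) (tt N9365 (iv F30141)) (tt N9367 D9464))
theorem Q7734 : ∀ i, i < 7734 → P i := stepQ 7733 Q7733 (allL N7733 (tt N8368 (iv F26932)) (tt N6137 F24720) (tt N8360 (iv F26901)) (tt N6361 F24721) (tt N9367 (iv F30148)) (tt N6374 F24722) (tt N9368 D9465) (tt N6117 (iv D7826)))
theorem Q7735 : ∀ i, i < 7735 → P i := stepQ 7734 Q7734 (allL N7734 (tt N6138 F24723) (tt N9346 (iv F30092)) (tt N7734 F24724) (tt N6125 F24725) (tt N6119 F24726) (tt N7977 (iv F25578)) (tt N6118 (iv D7827)) (tt N9369 D9466))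
theorem Q7736 : ∀ i, i < 7736 → P i := stepQ 7735 Q7735 (allL N7735 (tt N6139 F24727) (tt N8370 (iv F26944)) (tt N7735 F24728) (tt N8318 (iv F26772)) (tt N6120 F24729) (tt N7735 F24730) (tt N9370 D9467) (tt N6118 (iv D7828)))
theorem Q7737 : ∀ i, i < 7737 → P i := stepQ 7736 Q7736 (allL N7736 (tt N6140 F24731) (tt N9371 D9468) (tt N7736 F24732) (tt N6121 F24733) (tt N7977 (iv F25577)) (tt N6119 (iv D7829)) (tt N7736 F24734) (tt N9372 D9469))
theorem Q7738 : ∀ i, i < 7738 → P i := stepQ 7737 Q7737 (allL N7737 (tt N6141 F24735) (tt N9348 (iv F30096)) (tt N7737 F24736) (tt N9373 D9470) (tt N9369 (iv F30156)) (tt N9372 (iv F30164)) (tt N9374 D9471) (tt N6119 (iv D7830)))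
theorem Q7739 : ∀ i, i < 7739 → P i := stepQ 7738 Q7738 (allL N7738 (tt N6142 F24737) (tt N8371 (iv F26948)) (tt N7738 F24738) (tt N7529 F24739) (tt N9370 (iv F30159)) (tt N9375 D9472) (tt N6120 (iv D7831)) (tt N9374 (iv F30171)))
theorem Q7740 : ∀ i, i < 7740 → P i := stepQ 7739 Q7739 (allL N7739 (tt N9376 D9473) (tt N6121 (iv D7832)) (tt N7701 F24740) (tt N9371 (iv F30160)) (tt N6130 F24741) (tt N9349 (iv F30101)) (tt N7739 F24742) (tt N9377 D9474))
theorem Q7741 : ∀ i, i < 7741 → P i := stepQ 7740 Q7740 (allL N7740 (tt N6144 F24743) (tt N9377 (iv F30180)) (tt N6123 F24744) (tt N9378 D9475) (tt N6131 F24745) (tt N6122 F24746) (tt N9379 D9476) (tt N6121 (iv D7833)))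
theorem Q7742 : ∀ i, i < 7742 → P i := stepQ 7741 Q7741 (allL N7741 (tt N6145 F24747) (tt N9351 (iv F30105)) (tt N9380 D9477) (tt N6122 (iv D7834)) (tt N9381 D9478) (tt N9378 (iv F30184)) (tt N7170 F24748) (tt N9373 (iv F30166)))
theorem Q7743 : ∀ i, i < 7743 → P i := stepQ 7742 Q7742 (allL N7742 (tt N6146 F24749) (tt N7243 F24750) (tt N9382 D9479) (tt N6123 (iv D7835)) (tt N7315 F24751) (tt N6124 F24752) (tt N9383 D9480) (tt N7742 F24753))
theorem Q7744 : ∀ i, i < 7744 → P i := stepQ 7743 Q7743 (allL N7743 (tt N6147 F24754) (tt N6828 F24755) (tt N9379 (iv F30186)) (tt N9383 (iv F30203)) (tt N6134 F24756) (tt N6592 F24757) (tt N6123 (iv D7836)) (tt N7743 F24758))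
theorem Q7745 : ∀ i, i < 7745 → P i := stepQ 7744 Q7744 (allL N7744 (tt N6148 F24759) (tt N8737 (iv F28173)) (tt N6124 (iv D7837)) (tt N9380 (iv F30191)) (tt N7331 F24760) (tt N9382 (iv F30199)) (tt N7021 F24761) (tt N7744 F24762))
theorem Q7746 : ∀ i, i < 7746 → P i := stepQ 7745 Q7745 (allL N7745 (tt N6152 F24763) (tt N9354 (iv F30113)) (tt N6288 F24764) (tt N9384 D9481) (tt N6128 F24765) (tt N7712 F24766) (tt N9385 D9482) (tt N6125 (iv D7838)))
theorem Q7747 : ∀ i, i < 7747 → P i := stepQ 7746 Q7746 (allL N7746 (tt N6153 F24767) (tt N7206 F24768) (tt N9386 D9483) (tt N6126 (iv D7839)) (tt N8011 (iv F25727)) (tt N7746 F24769) (tt N9008 (iv F29042)) (tt N8318 (iv F26774)))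
theorem Q7748 : ∀ i, i < 7748 → P i := stepQ 7747 Q7747 (allL N7747 (tt N6154 F24770) (tt N7207 F24771) (tt N6290 F24772) (tt N9008 (iv F29039)) (tt N6129 F24773) (tt N9163 (iv F29558)) (tt N6126 (iv D7840)) (tt N9385 (iv F30214)))
theorem Q7749 : ∀ i, i < 7749 → P i := stepQ 7748 Q7748 (allL N7748 (tt N7936 (iv F25411)) (tt N6127 (iv D7841)) (tt N7942 (iv F25434)) (tt N6130 F24774) (tt N7935 F25410) (tt N9355 (iv F30118)) (tt N7748 F24775) (tt N8740 (iv F28189)))
theorem Q7750 : ∀ i, i < 7750 → P i := stepQ 7749 Q7749 (allL N7749 (tt N6155 F24776) (tt N8740 (iv F28186)) (tt N6291 F24777) (tt N9387 D9484) (tt N7712 F24778) (tt N6128 F24779) (tt N9022 (iv F29077)) (tt N6127 (iv D7842)))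
theorem Q7751 : ∀ i, i < 7751 → P i := stepQ 7750 Q7750 (allL N7750 (tt N6156 F24780) (tt N9357 (iv F30122)) (tt N7339 (iv F24782)) (tt N6128 (iv D7843)) (tt N9388 D9485) (tt N9387 (iv F30222)) (tt N9389 D9486) (tt N6132 F24781))
theorem Q7752 : ∀ i, i < 7752 → P i := stepQ 7751 Q7751 (allL N7751 (tt N6157 F24783) (tt N7210 F24784) (tt N6293 F24785) (tt N9389 (iv F30231)) (tt N9385 (iv F30213)) (tt N9390 D9487) (tt N6128 (iv D7844)) (tt N6129 F24786))
theorem Q7753 : ∀ i, i < 7753 → P i := stepQ 7752 Q7752 (allL N7752 (tt N6158 F24787) (tt N8496 (iv F27399)) (tt N6294 F24788) (tt N9146 (iv F29498)) (tt N9163 (iv F29557)) (tt N6129 (iv D7845)) (tt N7752 F24789) (tt N9390 (iv F30235)))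
theorem Q7754 : ∀ i, i < 7754 → P i := stepQ 7753 Q7753 (allL N7753 (tt N6130 (iv D7846)) (tt N6159 F24790) (tt N9391 D9488) (tt N7936 F25416) (tt N9376 (iv F30178)) (tt N9358 (iv F30125)) (tt N7753 F24791) (tt N9392 D9489))
theorem Q7755 : ∀ i, i < 7755 → P i := stepQ 7754 Q7754 (allL N7754 (tt N9391 (iv F30236)) (tt N6133 F24792) (tt N6130 (iv D7847)) (tt N9393 D9490) (tt N7701 F24793) (tt N9359 (iv F30128)) (tt N7754 F24794) (tt N7324 (iv F24795)))
theorem Q7756 : ∀ i, i < 7756 → P i := stepQ 7755 Q7755 (allL N7755 (tt N9392 (iv F30241)) (tt N6131 F24796) (tt N7324 F24797) (tt N9394 D9491) (tt N9377 (iv F30182)) (tt N9360 (iv F30132)) (tt N9395 D9492) (tt N6130 (iv D7848)))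
theorem Q7757 : ∀ i, i < 7757 → P i := stepQ 7756 Q7756 (allL N7756 (tt N6161 F24798) (tt N9394 (iv F30246)) (tt N7325 F24799) (tt N6131 (iv D7849)) (tt N9396 D9493) (tt N6132 F24800) (tt N9397 D9494) (tt N9387 (iv F30223)))
theorem Q7758 : ∀ i, i < 7758 → P i := stepQ 7757 Q7757 (allL N7757 (tt N6162 F24801) (tt N9395 (iv F30247)) (tt N6134 F24802) (tt N9397 (iv F30255)) (tt N9379 (iv F30187)) (tt N7607 F24803) (tt N6131 (iv D7850)) (tt N7757 F24804))
theorem Q7759 : ∀ i, i < 7759 → P i := stepQ 7758 Q7758 (allL N7758 (tt N6164 F24805) (tt N9363 (iv F30136)) (tt N7338 F24806) (tt N9381 (iv F30195)) (tt N6132 (iv D7851)) (tt N9396 (iv F30252)) (tt N7643 F24807) (tt N9388 (iv F30227)))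
theorem Q7760 : ∀ i, i < 7760 → P i := stepQ 7759 Q7759 (allL N7759 (tt N7759 F24808) (tt N9393 (iv F30244)) (tt N6301 F24809) (tt N6133 (iv D7852)) (tt N9398 D9495) (tt N6135 F24810) (tt N7759 F24811) (tt N9399 D9496))
theorem Q7761 : ∀ i, i < 7761 → P i := stepQ 7760 Q7760 (allL N7760 (tt N7760 F24812) (tt N9365 (iv F30139)) (tt N6309 F24813) (tt N7698 F24814) (tt N6135 (iv D7853)) (tt N9398 (iv F30260)) (tt N6136 F24815) (tt N9400 D9497))
theorem Q7762 : ∀ i, i < 7762 → P i := stepQ 7761 Q7761 (allL N7761 (tt N7761 F24816) (tt N9366 (iv F30143)) (tt N6310 F24817) (tt N7307 F24818) (tt N9400 (iv F30268)) (tt N9399 (iv F30265)) (tt N9401 D9498) (tt N6135 (iv D7854)))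
theorem Q7763 : ∀ i, i < 7763 → P i := stepQ 7762 Q7762 (allL N7762 (tt N7762 F24819) (tt N9367 (iv F30146)) (tt N6316 F24820) (tt N7762 F24821) (tt N6137 F24822) (tt N7762 F24823) (tt N9402 D9499) (tt N6136 (iv D7855)))
theorem Q7764 : ∀ i, i < 7764 → P i := stepQ 7763 Q7763 (allL N7763 (tt N7763 F24824) (tt N9368 (iv F30151)) (tt N6318 F24825) (tt N6803 F24826) (tt N9402 (iv F30277)) (tt N9403 D9500) (tt N6137 (iv D7856)) (tt N9401 (iv F30273)))
theorem Q7765 : ∀ i, i < 7765 → P i := stepQ 7764 Q7764 (allL N7764 (tt N9369 (iv F30154)) (tt N8988 (iv F28981)) (tt N7764 F24827) (tt N9404 D9501) (tt N6141 F24828) (tt N7963 F25520) (tt N9405 D9502) (tt N6138 (iv D7857)))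
theorem Q7766 : ∀ i, i < 7766 → P i := stepQ 7765 Q7765 (allL N7765 (tt N8318 (iv F26770)) (tt N8008 (iv F25710)) (tt N9406 D9503) (tt N6139 (iv D7858)) (tt N8012 (iv F25734)) (tt N7765 F24829) (tt N9407 D9504) (tt N6153 F24830))
theorem Q7767 : ∀ i, i < 7767 → P i := stepQ 7766 Q7766 (allL N7766 (tt N9370 (iv F30157)) (tt N8989 (iv F28984)) (tt N7766 F24831) (tt N9407 (iv F30291)) (tt N6142 F24832) (tt N9408 D9505) (tt N6139 (iv D7859)) (tt N9405 (iv F30285)))
theorem Q7768 : ∀ i, i < 7768 → P i := stepQ 7767 Q7767 (allL N7767 (tt N9372 (iv F30162)) (tt N7964 (iv F25521)) (tt N7767 F24833) (tt N9409 D9506) (tt N7963 F25519) (tt N6141 F24834) (tt N9410 D9507) (tt N6140 (iv D7860)))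
theorem Q7769 : ∀ i, i < 7769 → P i := stepQ 7768 Q7768 (allL N7768 (tt N9373 (iv F30165)) (tt N7356 F24835) (tt N7696 (iv F24837)) (tt N6141 (iv D7861)) (tt N9411 D9508) (tt N9409 (iv F30295)) (tt N9412 D9509) (tt N6145 F24836))
theorem Q7770 : ∀ i, i < 7770 → P i := stepQ 7769 Q7769 (allL N7769 (tt N9374 (iv F30168)) (tt N8991 (iv F28989)) (tt N7769 F24838) (tt N9412 (iv F30305)) (tt N9405 (iv F30284)) (tt N9413 D9510) (tt N6141 (iv D7862)) (tt N6142 F24839))
theorem Q7771 : ∀ i, i < 7771 → P i := stepQ 7770 Q7770 (allL N7770 (tt N9375 (iv F30172)) (tt N9414 D9511) (tt N7770 F24840) (tt N9150 (iv F29514)) (tt N9408 (iv F30293)) (tt N6142 (iv D7863)) (tt N7770 F24841) (tt N9413 (iv F30307)))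
theorem Q7772 : ∀ i, i < 7772 → P i := stepQ 7771 Q7771 (allL N7771 (tt N6143 (iv D7864)) (tt N9376 (iv F30176)) (tt N7771 F24842) (tt N7926 (iv F25372)) (tt N6159 F24843) (tt N8993 (iv F28996)) (tt N7771 F24844) (tt N9415 D9512))
theorem Q7773 : ∀ i, i < 7773 → P i := stepQ 7772 Q7772 (allL N7772 (tt N9415 (iv F30309)) (tt N6144 F24845) (tt N7772 F24846) (tt N9416 D9513) (tt N6160 F24847) (tt N8994 (iv F29001)) (tt N9417 D9514) (tt N6143 (iv D7865)))
theorem Q7774 : ∀ i, i < 7774 → P i := stepQ 7773 Q7773 (allL N7773 (tt N9378 (iv F30183)) (tt N9416 (iv F30312)) (tt N9418 D9515) (tt N6144 (iv D7866)) (tt N9419 D9516) (tt N6145 F24848) (tt N9420 D9517) (tt N9409 (iv F30296)))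
theorem Q7775 : ∀ i, i < 7775 → P i := stepQ 7774 Q7774 (allL N7774 (tt N9379 (iv F30185)) (tt N9417 (iv F30313)) (tt N6147 F24849) (tt N9420 (iv F30322)) (tt N6162 F24850) (tt N9154 (iv F29531)) (tt N6144 (iv D7867)) (tt N7774 F24851))
theorem Q7776 : ∀ i, i < 7776 → P i := stepQ 7775 Q7775 (allL N7775 (tt N9380 (iv F30190)) (tt N7654 F24852) (tt N6145 (iv D7868)) (tt N6148 F24853) (tt N9421 D9518) (tt N9418 (iv F30318)) (tt N8553 (iv F27592)) (tt N7696 F24854))
theorem Q7777 : ∀ i, i < 7777 → P i := stepQ 7776 Q7776 (allL N7776 (tt N9381 (iv F30194)) (tt N8997 (iv F29007)) (tt N9421 (iv F30324)) (tt N6164 F24855) (tt N6145 (iv D7869)) (tt N9419 (iv F30321)) (tt N9155 (iv F29535)) (tt N9411 (iv F30302)))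
theorem Q7778 : ∀ i, i < 7778 → P i := stepQ 7777 Q7777 (allL N7777 (tt N9382 (iv F30197)) (tt N9422 D9519) (tt N6146 (iv D7870)) (tt N9418 (iv F30317)) (tt N9423 D9520) (tt N6148 F24856) (tt N9424 D9521) (tt N7777 F24857))
theorem Q7779 : ∀ i, i < 7779 → P i := stepQ 7778 Q7778 (allL N7778 (tt N7315 F24858) (tt N7778 F24859) (tt N9423 (iv F30329)) (tt N6166 F24860) (tt N6146 (iv D7871)) (tt N6149 F24861) (tt N8322 F26785) (tt N7778 F24862))
theorem Q7780 : ∀ i, i < 7780 → P i := stepQ 7779 Q7779 (allL N7779 (tt N9383 (iv F30201)) (tt N7779 F24863) (tt N9424 (iv F30332)) (tt N6147 F24864) (tt N8322 (iv F26782)) (tt N7172 F24865) (tt N6146 (iv D7872)) (tt N7531 (iv F24866)))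
theorem Q7781 : ∀ i, i < 7781 → P i := stepQ 7780 Q7780 (allL N7780 (tt N9425 D9522) (tt N6148 (iv D7873)) (tt N6150 F24867) (tt N7654 F24868) (tt N9426 D9523) (tt N9427 D9524) (tt N8550 F27579) (tt N7780 F24869))
theorem Q7782 : ∀ i, i < 7782 → P i := stepQ 7781 Q7781 (allL N7781 (tt N7331 F24870) (tt N9426 (iv F30339)) (tt N6149 F24871) (tt N9428 D9525) (tt N6148 (iv D7874)) (tt N9423 (iv F30330)) (tt N7628 F24872) (tt N7781 F24873))
theorem Q7783 : ∀ i, i < 7783 → P i := stepQ 7782 Q7782 (allL N7782 (tt N6150 (iv D7875)) (tt N6171 F24874) (tt N9425 (iv F30335)) (tt N7621 F24875) (tt N9429 D9526) (tt N8907 (iv F28727)) (tt N8549 F27576) (tt N7782 F24876))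
theorem Q7784 : ∀ i, i < 7784 → P i := stepQ 7783 Q7783 (allL N7783 (tt N9429 (iv F30351)) (tt N6151 F24877) (tt N9426 (iv F30340)) (tt N9430 D9527) (tt N6150 (iv D7876)) (tt N9431 D9528) (tt N7704 F24878) (tt N7783 F24879))
theorem Q7785 : ∀ i, i < 7785 → P i := stepQ 7784 Q7784 (allL N7784 (tt N8907 F28730) (tt N7784 F24880) (tt N9427 (iv F30344)) (tt N6821 F24881) (tt N9431 (iv F30361)) (tt N6150 (iv D7877)) (tt N8915 (iv F28756)) (tt N7784 F24882))
theorem Q7786 : ∀ i, i < 7786 → P i := stepQ 7785 Q7785 (allL N7785 (tt N6173 F24883) (tt N9430 (iv F30355)) (tt N6170 F24884) (tt N6151 (iv D7878)) (tt N8999 (iv F29018)) (tt N7785 F24885) (tt N7705 F24886) (tt N7969 (iv F25542)))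
theorem Q7787 : ∀ i, i < 7787 → P i := stepQ 7786 Q7786 (allL N7786 (tt N9384 (iv F30207)) (tt N9000 (iv F29021)) (tt N9432 D9529) (tt N6152 (iv D7879)) (tt N9433 D9530) (tt N7803 F24925) (tt N9434 D9531) (tt N9404 (iv F30282)))
theorem Q7788 : ∀ i, i < 7788 → P i := stepQ 7787 Q7787 (allL N7787 (tt N9385 (iv F30210)) (tt N9001 (iv F29022)) (tt N6323 F24887) (tt N9434 (iv F30367)) (tt N6157 F24888) (tt N9268 (iv F29868)) (tt N6152 (iv D7880)) (tt N6154 F24889))
theorem Q7789 : ∀ i, i < 7789 → P i := stepQ 7788 Q7788 (allL N7788 (tt N9386 (iv F30215)) (tt N7491 F24890) (tt N6153 (iv D7881)) (tt N6324 F24891) (tt N7489 F24892) (tt N7788 F24893) (tt N7487 (iv F24894)) (tt N9406 (iv F30290)))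
theorem Q7790 : ∀ i, i < 7790 → P i := stepQ 7789 Q7789 (allL N7789 (tt N9008 (iv F29038)) (tt N7113 F24895) (tt N7487 F24896) (tt N6154 F24897) (tt N7112 F24898) (tt N9435 D9532) (tt N6153 (iv D7882)) (tt N9436 D9533))
theorem Q7791 : ∀ i, i < 7791 → P i := stepQ 7790 Q7790 (allL N7790 (tt N9163 (iv F29560)) (tt N9437 D9534) (tt N6326 F24899) (tt N9435 (iv F30370)) (tt N6158 F24900) (tt N6154 (iv D7883)) (tt N7790 F24901) (tt N9268 F29869))
theorem Q7792 : ∀ i, i < 7792 → P i := stepQ 7791 Q7791 (allL N7791 (tt N9387 (iv F30221)) (tt N7810 (iv F24953)) (tt N9438 D9535) (tt N6155 (iv D7884)) (tt N9439 D9536) (tt N6156 F24902) (tt N9243 (iv F29811)) (tt N6161 F24903))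
theorem Q7793 : ∀ i, i < 7793 → P i := stepQ 7792 Q7792 (allL N7792 (tt N7339 F24904) (tt N9440 D9537) (tt N6156 (iv D7885)) (tt N6328 F24905) (tt N9441 D9538) (tt N9438 (iv F30383)) (tt N9442 D9539) (tt N6163 F24906))
theorem Q7794 : ∀ i, i < 7794 → P i := stepQ 7793 Q7793 (allL N7793 (tt N9388 (iv F30225)) (tt N9005 (iv F29032)) (tt N9441 (iv F30391)) (tt N9433 (iv F30366)) (tt N6156 (iv D7886)) (tt N9439 (iv F30385)) (tt N9443 D9540) (tt N6164 F24907))
theorem Q7795 : ∀ i, i < 7795 → P i := stepQ 7794 Q7794 (allL N7794 (tt N9389 (iv F30228)) (tt N9006 (iv F29034)) (tt N9442 (iv F30394)) (tt N6157 F24908) (tt N9443 (iv F30397)) (tt N9444 D9541) (tt N6156 (iv D7887)) (tt N9161 (iv F29553)))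
theorem Q7796 : ∀ i, i < 7796 → P i := stepQ 7795 Q7795 (allL N7795 (tt N9390 (iv F30233)) (tt N9445 D9542) (tt N6331 F24909) (tt N9444 (iv F30398)) (tt N9268 (iv F29867)) (tt N6157 (iv D7888)) (tt N9244 (iv F29814)) (tt N6158 F24910))
theorem Q7797 : ∀ i, i < 7797 → P i := stepQ 7796 Q7796 (allL N7796 (tt N9435 (iv F30368)) (tt N6158 (iv D7889)) (tt N9446 D9543) (tt N9163 (iv F29556)) (tt N9437 (iv F30377)) (tt N9008 (iv F29041)) (tt N7796 F24911) (tt N9445 (iv F30399)))
theorem Q7798 : ∀ i, i < 7798 → P i := stepQ 7797 Q7797 (allL N7797 (tt N6160 F24912) (tt N9392 (iv F30242)) (tt N7797 F24913) (tt N8922 (iv F28774)) (tt N9415 (iv F30311)) (tt N9009 (iv F29045)) (tt N9447 D9544) (tt N6159 (iv D7890)))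
theorem Q7799 : ∀ i, i < 7799 → P i := stepQ 7798 Q7798 (allL N7798 (tt N8922 (iv F28773)) (tt N6161 F24914) (tt N9448 D9545) (tt N6160 (iv D7891)) (tt N9449 D9546) (tt N9010 (iv F29047)) (tt N9450 D9547) (tt N7810 (iv F24955)))
theorem Q7800 : ∀ i, i < 7800 → P i := stepQ 7799 Q7799 (allL N7799 (tt N9447 (iv F30405)) (tt N6162 F24915) (tt N7799 F24916) (tt N9450 (iv F30414)) (tt N9417 (iv F30315)) (tt N9451 D9548) (tt N6160 (iv D7892)) (tt N7799 F24917))
theorem Q7801 : ∀ i, i < 7801 → P i := stepQ 7800 Q7800 (allL N7800 (tt N7325 F24918) (tt N9452 D9549) (tt N6161 (iv D7893)) (tt N6165 F24919) (tt N9453 D9550) (tt N6163 F24920) (tt N9454 D9551) (tt N9438 (iv F30384)))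
theorem Q7802 : ∀ i, i < 7802 → P i := stepQ 7801 Q7801 (allL N7801 (tt N9396 (iv F30250)) (tt N9449 (iv F30412)) (tt N9453 (iv F30421)) (tt N9419 (iv F30320)) (tt N6161 (iv D7894)) (tt N6164 F24921) (tt N9455 D9552) (tt N9439 (iv F30386)))
theorem Q7803 : ∀ i, i < 7803 → P i := stepQ 7802 Q7802 (allL N7802 (tt N9397 (iv F30253)) (tt N9450 (iv F30413)) (tt N9454 (iv F30424)) (tt N6162 F24922) (tt N9455 (iv F30427)) (tt N9169 (iv F29578)) (tt N6161 (iv D7895)) (tt N9456 D9553))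
theorem Q7804 : ∀ i, i < 7804 → P i := stepQ 7803 Q7803 (allL N7803 (tt N9264 (iv F29858)) (tt N6163 (iv D7896)) (tt N9015 (iv F29056)) (tt N6168 F24923) (tt N9457 D9554) (tt N7786 (iv F24925)) (tt N7645 F24924) (tt N9440 (iv F30388)))
theorem Q7805 : ∀ i, i < 7805 → P i := stepQ 7804 Q7804 (allL N7804 (tt N7338 F24926) (tt N9457 (iv F30429)) (tt N6164 F24927) (tt N9458 D9555) (tt N6163 (iv D7897)) (tt N9453 (iv F30422)) (tt N7647 F24928) (tt N9441 (iv F30392)))
theorem Q7806 : ∀ i, i < 7806 → P i := stepQ 7805 Q7805 (allL N7805 (tt N9459 D9556) (tt N6165 (iv D7898)) (tt N7805 F24929) (tt N9452 (iv F30418)) (tt N7408 (iv F24932)) (tt N7406 F24930) (tt N9460 D9557) (tt N6340 F24931))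
theorem Q7807 : ∀ i, i < 7807 → P i := stepQ 7806 Q7806 (allL N7806 (tt N7316 F24933) (tt N7408 F24934) (tt N6166 F24935) (tt N9461 D9558) (tt N6165 (iv D7899)) (tt N6169 F24936) (tt N9462 D9559) (tt N6341 F24937))
theorem Q7808 : ∀ i, i < 7808 → P i := stepQ 7807 Q7807 (allL N7807 (tt N7318 F24938) (tt N9460 (iv F30443)) (tt N6167 F24939) (tt N9454 (iv F30425)) (tt N9462 (iv F30455)) (tt N7608 F24940) (tt N6165 (iv D7900)) (tt N9463 D9560))
theorem Q7809 : ∀ i, i < 7809 → P i := stepQ 7808 Q7808 (allL N7808 (tt N6718 F24941) (tt N7808 F24942) (tt N9462 (iv F30454)) (tt N8322 F26784) (tt N6167 F24943) (tt N6726 F24944) (tt N6166 (iv D7901)) (tt N6806 (iv F24945)))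
theorem Q7810 : ∀ i, i < 7810 → P i := stepQ 7809 Q7809 (allL N7809 (tt N6797 F24946) (tt N7809 F24947) (tt N9463 (iv F30460)) (tt N7809 F24948) (tt N6806 F24949) (tt N6809 F24950) (tt N6344 F24951) (tt N6167 (iv D7902)))
theorem Q7811 : ∀ i, i < 7811 → P i := stepQ 7810 Q7810 (allL N7810 (tt N7332 F24952) (tt N7791 F24953) (tt N9428 (iv F30349)) (tt N6169 (iv D7903)) (tt N9458 (iv F30435)) (tt N9461 (iv F30450)) (tt N7631 F24954) (tt N7798 F24955))
theorem Q7812 : ∀ i, i < 7812 → P i := stepQ 7811 Q7811 (allL N7811 (tt N6172 F24956) (tt N9429 (iv F30352)) (tt N7043 F24957) (tt N9464 D9561) (tt N6171 (iv D7904)) (tt N7041 F24958) (tt N7702 F24959) (tt N7811 F24960))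
theorem Q7813 : ∀ i, i < 7813 → P i := stepQ 7812 Q7812 (allL N7812 (tt N9464 (iv F30465)) (tt N6173 F24961) (tt N7038 F24962) (tt N6172 (iv D7905)) (tt N8635 (iv F27879)) (tt N7036 F24963) (tt N7703 F24964) (tt N7068 F24965))
theorem Q7814 : ∀ i, i < 7814 → P i := stepQ 7813 Q7813 (allL N7813 (tt N6176 F24966) (tt N8027 (iv F25785)) (tt N6177 F24967) (tt N8302 (iv F26712)) (tt N8345 (iv F26853)) (tt N8344 (iv F26850)) (tt N6175 (iv D7906)) (tt N9465 D9562))
theorem Q7815 : ∀ i, i < 7815 → P i := stepQ 7814 Q7814 (allL N7814 (tt N9465 (iv F30470)) (tt N8342 (iv F26842)) (tt N6178 F24968) (tt N9466 D9563) (tt N8348 (iv F26861)) (tt N8347 (iv F26859)) (tt N9204 (iv F29709)) (tt N6176 (iv D7907)))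
theorem Q7816 : ∀ i, i < 7816 → P i := stepQ 7815 Q7815 (allL N7815 (tt N6178 F24969) (tt N6612 F24970) (tt N9465 (iv F30472)) (tt N9467 D9564) (tt N8847 (iv F28509)) (tt N8846 (iv F28506)) (tt N6614 F24971) (tt N6177 (iv D7908)))
theorem Q7817 : ∀ i, i < 7817 → P i := stepQ 7816 Q7816 (allL N7816 (tt N9467 (iv F30474)) (tt N8246 (iv F26509)) (tt N9468 D9565) (tt N6178 (iv D7909)) (tt N9469 D9566) (tt N8849 (iv F28514)) (tt N8245 F26507) (tt N7816 F24972))
theorem Q7818 : ∀ i, i < 7818 → P i := stepQ 7817 Q7817 (allL N7817 (tt N6181 F24973) (tt N6912 F24974) (tt N7817 F24975) (tt N6440 F24976) (tt N6180 (iv D7910)) (tt N6439 F24977) (tt N8085 (iv F25987)) (tt N6919 F24978))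
theorem Q7819 : ∀ i, i < 7819 → P i := stepQ 7818 Q7818 (allL N7818 (tt N6183 F24979) (tt N8518 (iv F27473)) (tt N7818 F24980) (tt N6196 F24981) (tt N8085 (iv F25986)) (tt N6742 F24982) (tt N6180 (iv D7911)) (tt N8353 (iv F26879)))
theorem Q7820 : ∀ i, i < 7820 → P i := stepQ 7819 Q7819 (allL N7819 (tt N9470 D9567) (tt N6185 (iv D7912)) (tt N9471 D9568) (tt N7556 F24983) (tt N6682 F24984) (tt N9181 (iv F29632)) (tt N7819 F24985) (tt N8035 (iv F25812)))
theorem Q7821 : ∀ i, i < 7821 → P i := stepQ 7820 Q7820 (allL N7820 (tt N6186 (iv D7913)) (tt N9470 (iv F30487)) (tt N7850 (iv F25094)) (tt N8044 (iv F25839)) (tt N6432 F24986) (tt N6188 F24987) (tt N7820 F24988) (tt N6671 F24989))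
theorem Q7822 : ∀ i, i < 7822 → P i := stepQ 7821 Q7821 (allL N7821 (tt N6187 (iv D7914)) (tt N9186 (iv F29644)) (tt N8243 (iv F26497)) (tt N6188 F24990) (tt N6602 F24991) (tt N8044 (iv F25840)) (tt N6190 F24992) (tt N6599 F24993))
theorem Q7823 : ∀ i, i < 7823 → P i := stepQ 7822 Q7822 (allL N7822 (tt N6189 F24994) (tt N9472 D9569) (tt N6188 (iv D7915)) (tt N7844 (iv F25069)) (tt N7831 F25030) (tt N7850 (iv F25096)) (tt N6193 F24995) (tt N8223 (iv F26417)))
theorem Q7824 : ∀ i, i < 7824 → P i := stepQ 7823 Q7823 (allL N7823 (tt N6191 F24996) (tt N7238 (iv F24999)) (tt N6190 (iv D7916)) (tt N9473 D9570) (tt N7428 F24997) (tt N7823 F24998) (tt N8243 (iv F26500)) (tt N6244 (iv F25000)))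
theorem Q7825 : ∀ i, i < 7825 → P i := stepQ 7824 Q7824 (allL N7824 (tt N6192 F25001) (tt N9195 (iv F29680)) (tt N6244 F25002) (tt N7824 F25003) (tt N6596 F25004) (tt N7824 F25005) (tt N6243 F25006) (tt N6190 (iv D7917)))
theorem Q7826 : ∀ i, i < 7826 → P i := stepQ 7825 Q7825 (allL N7825 (tt N9473 (iv F30502)) (tt N8242 (iv F26496)) (tt N6194 F25007) (tt N6191 (iv D7918)) (tt N7833 (iv F25037)) (tt N7825 F25008) (tt N7841 (iv F25063)) (tt N6247 F25009))
theorem Q7827 : ∀ i, i < 7827 → P i := stepQ 7826 Q7826 (allL N7826 (tt N6209 F25010) (tt N6193 (iv D7919)) (tt N9198 (iv F29692)) (tt N9474 D9571) (tt N8385 (iv F26986)) (tt N9475 D9572) (tt N9472 (iv F30501)) (tt N7826 F25011))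
theorem Q7828 : ∀ i, i < 7828 → P i := stepQ 7827 Q7827 (allL N7827 (tt N6194 F25012) (tt N9474 (iv F30508)) (tt N9473 (iv F30504)) (tt N6193 (iv D7920)) (tt N7835 (iv F25042)) (tt N7827 F25013) (tt N7844 (iv F25071)) (tt N9476 D9573))
theorem Q7829 : ∀ i, i < 7829 → P i := stepQ 7828 Q7828 (allL N7828 (tt N9476 (iv F30513)) (tt N6212 F25014) (tt N6247 F25015) (tt N7828 F25016) (tt N7836 (iv F25045)) (tt N7828 F25017) (tt N6245 F25018) (tt N6194 (iv D7921)))
theorem Q7830 : ∀ i, i < 7830 → P i := stepQ 7829 Q7829 (allL N7829 (tt N6197 (iv D7922)) (tt N9206 (iv F29711)) (tt N6453 F25019) (tt N6723 F25020) (tt N8072 F25948) (tt N6451 F25021) (tt N6754 F25022) (tt N6487 F25023))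
theorem Q7831 : ∀ i, i < 7831 → P i := stepQ 7830 Q7830 (allL N7830 (tt N8385 (iv F26984)) (tt N6199 (iv D7923)) (tt N9209 (iv F29723)) (tt N9477 D9574) (tt N6209 F25024) (tt N9478 D9575) (tt N8352 (iv F26872)) (tt N7830 F25025))
theorem Q7832 : ∀ i, i < 7832 → P i := stepQ 7831 Q7831 (allL N7831 (tt N6200 F25026) (tt N9477 (iv F30519)) (tt N6480 F25027) (tt N6199 (iv D7924)) (tt N7822 (iv F25030)) (tt N6215 F25028) (tt N6777 F25029) (tt N6597 (iv F25031)))
theorem Q7833 : ∀ i, i < 7833 → P i := stepQ 7832 Q7832 (allL N7832 (tt N6202 F25032) (tt N9469 (iv F30483)) (tt N6201 (iv D7925)) (tt N9479 D9576) (tt N8246 (iv F26512)) (tt N7832 F25033) (tt N6207 F25034) (tt N7832 F25035))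
theorem Q7834 : ∀ i, i < 7834 → P i := stepQ 7833 Q7833 (allL N7833 (tt N9479 (iv F30526)) (tt N8240 (iv F26483)) (tt N6204 F25036) (tt N6202 (iv D7926)) (tt N7825 F25037) (tt N7833 F25038) (tt N6208 F25039) (tt N7878 (iv F25195)))
theorem Q7835 : ∀ i, i < 7835 → P i := stepQ 7834 Q7834 (allL N7834 (tt N9472 (iv F30499)) (tt N6203 (iv D7927)) (tt N9215 (iv F29739)) (tt N9480 D9577) (tt N8352 (iv F26871)) (tt N9481 D9578) (tt N6209 F25040) (tt N8433 (iv F27157)))
theorem Q7836 : ∀ i, i < 7836 → P i := stepQ 7835 Q7835 (allL N7835 (tt N6204 F25041) (tt N9480 (iv F30531)) (tt N9479 (iv F30527)) (tt N6203 (iv D7928)) (tt N7827 F25042) (tt N7835 F25043) (tt N6210 F25044) (tt N9482 D9579))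
theorem Q7837 : ∀ i, i < 7837 → P i := stepQ 7836 Q7836 (allL N7836 (tt N9482 (iv F30537)) (tt N7846 (iv F25075)) (tt N7878 (iv F25191)) (tt N8435 (iv F27165)) (tt N7828 F25045) (tt N7836 F25046) (tt N7877 (iv F25187)) (tt N6204 (iv D7929)))
theorem Q7838 : ∀ i, i < 7838 → P i := stepQ 7837 Q7837 (allL N7837 (tt N6206 F25047) (tt N9483 D9580) (tt N6205 (iv D7930)) (tt N9484 D9581) (tt N6601 F25048) (tt N6599 F25049) (tt N8247 (iv F26518)) (tt N8044 (iv F25842)))
theorem Q7839 : ∀ i, i < 7839 → P i := stepQ 7838 Q7838 (allL N7838 (tt N9484 (iv F30544)) (tt N6208 F25050) (tt N8242 (iv F26491)) (tt N6206 (iv D7931)) (tt N6617 F25051) (tt N6603 F25052) (tt N8240 (iv F26482)) (tt N6673 F25053))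
theorem Q7840 : ∀ i, i < 7840 → P i := stepQ 7839 Q7839 (allL N7839 (tt N9483 (iv F30540)) (tt N6207 (iv D7932)) (tt N7557 F25054) (tt N9485 D9582) (tt N8245 (iv F26506)) (tt N9486 D9583) (tt N9469 (iv F30485)) (tt N7556 F25055))
theorem Q7841 : ∀ i, i < 7841 → P i := stepQ 7840 Q7840 (allL N7840 (tt N6208 F25056) (tt N9485 (iv F30548)) (tt N6210 F25057) (tt N6207 (iv D7933)) (tt N9487 D9584) (tt N6218 F25058) (tt N9479 (iv F30530)) (tt N8034 (iv F25810)))
theorem Q7842 : ∀ i, i < 7842 → P i := stepQ 7841 Q7841 (allL N7841 (tt N9487 (iv F30552)) (tt N6617 F25059) (tt N6211 F25060) (tt N6621 F25061) (tt N6208 (iv D7934)) (tt N6219 F25062) (tt N7825 F25063) (tt N6644 F25064))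
theorem Q7843 : ∀ i, i < 7843 → P i := stepQ 7842 Q7842 (allL N7842 (tt N9474 (iv F30507)) (tt N6210 F25065) (tt N9488 D9585) (tt N6209 (iv D7935)) (tt N9489 D9586) (tt N9490 D9587) (tt N9480 (iv F30533)) (tt N9491 D9588))
theorem Q7844 : ∀ i, i < 7844 → P i := stepQ 7843 Q7843 (allL N7843 (tt N9475 (iv F30509)) (tt N6221 F25066) (tt N9228 (iv F29774)) (tt N9490 (iv F30563)) (tt N9478 (iv F30524)) (tt N6209 (iv D7936)) (tt N9492 D9589) (tt N7843 F25067))
theorem Q7845 : ∀ i, i < 7845 → P i := stepQ 7844 Q7844 (allL N7844 (tt N6211 F25068) (tt N9489 (iv F30559)) (tt N9487 (iv F30553)) (tt N7822 F25069) (tt N6210 (iv D7937)) (tt N6222 F25070) (tt N7827 F25071) (tt N9493 D9590))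
theorem Q7846 : ∀ i, i < 7846 → P i := stepQ 7845 Q7845 (allL N7845 (tt N6212 F25072) (tt N9491 (iv F30564)) (tt N8034 (iv F25808)) (tt N7845 F25073) (tt N9493 (iv F30572)) (tt N6223 F25074) (tt N9494 D9591) (tt N6210 (iv D7938)))
theorem Q7847 : ∀ i, i < 7847 → P i := stepQ 7846 Q7846 (allL N7846 (tt N9493 (iv F30570)) (tt N7836 F25075) (tt N6644 F25076) (tt N6893 F25080) (tt N6212 F25077) (tt N6224 F25078) (tt N6850 F25079) (tt N6211 (iv D7939)))
theorem Q7848 : ∀ i, i < 7848 → P i := stepQ 7847 Q7847 (allL N7847 (tt N9494 (iv F30576)) (tt N6245 F25081) (tt N6851 F25082) (tt N7847 F25083) (tt N6850 F25084) (tt N6894 F25085) (tt N6212 (iv D7940)) (tt N7877 (iv F25188)))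
theorem Q7849 : ∀ i, i < 7849 → P i := stepQ 7848 Q7848 (allL N7848 (tt N7848 F25086) (tt N6215 F25087) (tt N9075 (iv F29255)) (tt N6214 (iv D7941)) (tt N9074 (iv F29251)) (tt N9073 F29247) (tt N7848 F25088) (tt N8287 (iv F26659)))
theorem Q7850 : ∀ i, i < 7850 → P i := stepQ 7849 Q7849 (allL N7849 (tt N7849 F25089) (tt N9478 (iv F30523)) (tt N6254 F25090) (tt N9073 (iv F29245)) (tt N6221 F25091) (tt N6214 (iv D7942)) (tt N9072 F29241) (tt N7849 F25092))
theorem Q7851 : ∀ i, i < 7851 → P i := stepQ 7850 Q7850 (allL N7850 (tt N6216 F25093) (tt N9074 (iv F29253)) (tt N7820 F25094) (tt N6222 F25095) (tt N6215 (iv D7943)) (tt N7822 F25096) (tt N7850 F25097) (tt N8288 (iv F26664)))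
theorem Q7852 : ∀ i, i < 7852 → P i := stepQ 7851 Q7851 (allL N7851 (tt N8135 (iv F26156)) (tt N6218 F25098) (tt N9495 D9592) (tt N6217 (iv D7944)) (tt N9496 D9593) (tt N9497 D9594) (tt N7851 F25099) (tt N8023 F25773))
theorem Q7853 : ∀ i, i < 7853 → P i := stepQ 7852 Q7852 (allL N7852 (tt N9183 (iv F29637)) (tt N9486 (iv F30549)) (tt N6260 F25100) (tt N9497 (iv F30589)) (tt N8264 (iv F26581)) (tt N6217 (iv D7945)) (tt N9498 D9595) (tt N7198 F25101))
theorem Q7854 : ∀ i, i < 7854 → P i := stepQ 7853 Q7853 (allL N7853 (tt N6219 F25102) (tt N9496 (iv F30586)) (tt N6222 F25103) (tt N6624 F25104) (tt N6218 (iv D7946)) (tt N9487 (iv F30555)) (tt N7853 F25105) (tt N8033 F25806))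
theorem Q7855 : ∀ i, i < 7855 → P i := stepQ 7854 Q7854 (allL N7854 (tt N7854 F25106) (tt N9495 (iv F30582)) (tt N6220 (iv D7947)) (tt N6262 F25107) (tt N9039 (iv F29137)) (tt N9038 F29133) (tt N7854 F25108) (tt N9499 D9596))
theorem Q7856 : ∀ i, i < 7856 → P i := stepQ 7855 Q7855 (allL N7855 (tt N7855 F25109) (tt N6222 F25110) (tt N9039 (iv F29135)) (tt N9074 (iv F29250)) (tt N6220 (iv D7948)) (tt N9037 (iv F29128)) (tt N7855 F25111) (tt N9500 D9597))
theorem Q7857 : ∀ i, i < 7857 → P i := stepQ 7856 Q7856 (allL N7856 (tt N7856 F25112) (tt N9490 (iv F30562)) (tt N9038 (iv F29130)) (tt N6221 F25113) (tt N9037 (iv F29127)) (tt N6220 (iv D7949)) (tt N9036 (iv F29123)) (tt N9501 D9598))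
theorem Q7858 : ∀ i, i < 7858 → P i := stepQ 7857 Q7857 (allL N7857 (tt N7857 F25114) (tt N6223 F25115) (tt N9499 (iv F30593)) (tt N7857 F25116) (tt N9500 (iv F30596)) (tt N9501 (iv F30601)) (tt N8032 (iv F25800)) (tt N6220 (iv D7950)))
theorem Q7859 : ∀ i, i < 7859 → P i := stepQ 7858 Q7858 (allL N7858 (tt N7858 F25117) (tt N9492 (iv F30567)) (tt N6266 F25118) (tt N9036 F29122) (tt N9072 (iv F29239)) (tt N7858 F25119) (tt N6221 (iv D7951)) (tt N9502 D9599))
theorem Q7860 : ∀ i, i < 7860 → P i := stepQ 7859 Q7859 (allL N7859 (tt N6224 F25120) (tt N9500 (iv F30595)) (tt N8033 (iv F25803)) (tt N6857 F25123) (tt N6223 F25121) (tt N9493 (iv F30573)) (tt N6856 (iv F25122)) (tt N6222 (iv D7952)))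
theorem Q7861 : ∀ i, i < 7861 → P i := stepQ 7860 Q7860 (allL N7860 (tt N7860 F25124) (tt N8443 (iv F27203)) (tt N7254 F25125) (tt N9503 D9600) (tt N7985 (iv F25613)) (tt N6226 F25126) (tt N9081 (iv F29281)) (tt N6225 (iv D7953)))
theorem Q7862 : ∀ i, i < 7862 → P i := stepQ 7861 Q7861 (allL N7861 (tt N7861 F25127) (tt N6227 F25128) (tt N7861 F25129) (tt N6226 (iv D7954)) (tt N9504 D9601) (tt N9503 (iv F30612)) (tt N7256 F25130) (tt N6233 F25131))
theorem Q7863 : ∀ i, i < 7863 → P i := stepQ 7862 Q7862 (allL N7862 (tt N6228 F25132) (tt N9504 (iv F30615)) (tt N8461 (iv F27283)) (tt N6385 F25133) (tt N6227 (iv D7955)) (tt N8446 (iv F27215)) (tt N6384 F25134) (tt N6239 F25135))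
theorem Q7864 : ∀ i, i < 7864 → P i := stepQ 7863 Q7863 (allL N7863 (tt N7863 F25136) (tt N8867 (iv F28584)) (tt N7863 F25137) (tt N6232 (iv D7956)) (tt N9505 D9602) (tt N6233 F25138) (tt N8865 (iv F28578)) (tt N9503 (iv F30613)))
theorem Q7865 : ∀ i, i < 7865 → P i := stepQ 7864 Q7864 (allL N7864 (tt N7864 F25139) (tt N6239 F25140) (tt N7864 F25141) (tt N7864 F25142) (tt N6233 (iv D7957)) (tt N9505 (iv F30623)) (tt N7864 F25143) (tt N9504 (iv F30619)))
theorem Q7866 : ∀ i, i < 7866 → P i := stepQ 7865 Q7865 (allL N7865 (tt N8464 (iv F27296)) (tt N7865 F25144) (tt N8440 (iv F27190)) (tt N6234 (iv D7958)) (tt N9178 (iv F29622)) (tt N8869 (iv F28595)) (tt N6240 F25145) (tt N8876 (iv F28625)))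
theorem Q7867 : ∀ i, i < 7867 → P i := stepQ 7866 Q7866 (allL N7866 (tt N8467 (iv F27308)) (tt N6236 F25146) (tt N8871 (iv F28604)) (tt N6235 (iv D7959)) (tt N9506 D9603) (tt N8867 (iv F28587)) (tt N9507 D9604) (tt N8444 (iv F27208)))
theorem Q7868 : ∀ i, i < 7868 → P i := stepQ 7867 Q7867 (allL N7867 (tt N8468 (iv F27312)) (tt N6237 F25147) (tt N8369 (iv F26939)) (tt N9507 (iv F30628)) (tt N7867 F25148) (tt N7233 F25149) (tt N6235 (iv D7960)) (tt N6242 F25150))
theorem Q7869 : ∀ i, i < 7869 → P i := stepQ 7868 Q7868 (allL N7868 (tt N6245 F25151) (tt N9508 D9605) (tt N6236 (iv D7961)) (tt N7868 F25152) (tt N9509 D9606) (tt N6238 F25153) (tt N9476 F30517) (tt N8445 (iv F27212)))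
theorem Q7870 : ∀ i, i < 7870 → P i := stepQ 7869 Q7869 (allL N7869 (tt N6246 F25154) (tt N9506 (iv F30625)) (tt N9509 (iv F30634)) (tt N7869 F25155) (tt N6236 (iv D7962)) (tt N6239 F25156) (tt N9510 D9607) (tt N8446 (iv F27217)))
theorem Q7871 : ∀ i, i < 7871 → P i := stepQ 7870 Q7870 (allL N7870 (tt N6247 F25157) (tt N9507 (iv F30627)) (tt N9476 (iv F30514)) (tt N6237 F25158) (tt N9510 (iv F30642)) (tt N7870 F25159) (tt N6236 (iv D7963)) (tt N9473 (iv F30506)))
theorem Q7872 : ∀ i, i < 7872 → P i := stepQ 7871 Q7871 (allL N7871 (tt N6248 F25160) (tt N7871 F25161) (tt N6239 F25162) (tt N6898 (iv F25164)) (tt N6238 (iv D7964)) (tt N9509 (iv F30635)) (tt N7871 F25163) (tt N8461 F27286))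
theorem Q7873 : ∀ i, i < 7873 → P i := stepQ 7872 Q7872 (allL N7872 (tt N8463 (iv F27292)) (tt N7872 F25165) (tt N8100 F26048) (tt N7872 F25166) (tt N6240 (iv D7965)) (tt N6285 F25167) (tt N9178 F29624) (tt N8107 (iv F26078)))
theorem Q7874 : ∀ i, i < 7874 → P i := stepQ 7873 Q7873 (allL N7873 (tt N8465 (iv F27301)) (tt N7873 F25168) (tt N8108 (iv F26082)) (tt N9511 D9608) (tt N8107 F26079) (tt N6286 F25169) (tt N9512 D9609) (tt N6240 (iv D7966)))
theorem Q7875 : ∀ i, i < 7875 → P i := stepQ 7874 Q7874 (allL N7874 (tt N8466 (iv F27304)) (tt N7874 F25170) (tt N6732 F25171) (tt N6241 (iv D7967)) (tt N9513 D9610) (tt N6287 F25172) (tt N9514 D9611) (tt N9511 (iv F30648)))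
theorem Q7876 : ∀ i, i < 7876 → P i := stepQ 7875 Q7875 (allL N7875 (tt N6812 F25173) (tt N7875 F25174) (tt N6242 F25175) (tt N9514 (iv F30657)) (tt N7875 F25176) (tt N6811 F25177) (tt N6241 (iv D7968)) (tt N8369 (iv F26943)))
theorem Q7877 : ∀ i, i < 7877 → P i := stepQ 7876 Q7876 (allL N7876 (tt N6548 F25178) (tt N6243 (iv D7969)) (tt N6730 F25179) (tt N7876 F25180) (tt N6547 F25181) (tt N6719 F25182) (tt N9195 (iv F29684)) (tt N6554 F25183))
theorem Q7878 : ∀ i, i < 7878 → P i := stepQ 7877 Q7877 (allL N7877 (tt N9509 (iv F30633)) (tt N6850 F25184) (tt N6246 F25185) (tt N6895 (iv F25189)) (tt N6245 (iv D7970)) (tt N6248 F25186) (tt N7836 F25187) (tt N7847 F25188))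
theorem Q7879 : ∀ i, i < 7879 → P i := stepQ 7878 Q7878 (allL N7878 (tt N9510 (iv F30639)) (tt N6672 F25190) (tt N7836 F25191) (tt N7878 F25192) (tt N6247 F25193) (tt N7878 F25194) (tt N6246 (iv D7971)) (tt N7833 F25195))
theorem Q7880 : ∀ i, i < 7880 → P i := stepQ 7879 Q7879 (allL N7879 (tt N8588 (iv F27701)) (tt N6251 F25196) (tt N9515 D9612) (tt N6250 (iv D7972)) (tt N9516 D9613) (tt N9517 D9614) (tt N7879 F25197) (tt N7216 F25198))
theorem Q7881 : ∀ i, i < 7881 → P i := stepQ 7880 Q7880 (allL N7880 (tt N8693 (iv F28044)) (tt N9339 (iv F30064)) (tt N8051 (iv F25869)) (tt N9517 (iv F30667)) (tt N6942 F25199) (tt N6250 (iv D7973)) (tt N9518 D9615) (tt N6938 F25200))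
theorem Q7882 : ∀ i, i < 7882 → P i := stepQ 7881 Q7881 (allL N7881 (tt N6252 F25201) (tt N9516 (iv F30663)) (tt N6255 F25202) (tt N6949 F25203) (tt N6251 (iv D7974)) (tt N9340 (iv F30070)) (tt N7881 F25204) (tt N7205 F25205))
theorem Q7883 : ∀ i, i < 7883 → P i := stepQ 7882 Q7882 (allL N7882 (tt N7882 F25206) (tt N9515 (iv F30659)) (tt N6253 (iv D7975)) (tt N9075 (iv F29256)) (tt N9060 (iv F29209)) (tt N9059 F29205) (tt N7882 F25207) (tt N9519 D9616))
theorem Q7884 : ∀ i, i < 7884 → P i := stepQ 7883 Q7883 (allL N7883 (tt N7883 F25208) (tt N6255 F25209) (tt N9060 (iv F29207)) (tt N6263 F25210) (tt N6253 (iv D7976)) (tt N7895 (iv F25255)) (tt N7883 F25211) (tt N7896 (iv F25261)))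
theorem Q7885 : ∀ i, i < 7885 → P i := stepQ 7884 Q7884 (allL N7884 (tt N7884 F25212) (tt N7917 (iv F25339)) (tt N9059 (iv F29202)) (tt N6254 F25213) (tt N7895 (iv F25254)) (tt N6253 (iv D7977)) (tt N9058 (iv F29199)) (tt N7898 (iv F25272)))
theorem Q7886 : ∀ i, i < 7886 → P i := stepQ 7885 Q7885 (allL N7885 (tt N7885 F25214) (tt N6256 F25215) (tt N9519 (iv F30673)) (tt N7885 F25216) (tt N7896 F25262) (tt N7898 (iv F25270)) (tt N7221 (iv F25217)) (tt N6253 (iv D7978)))
theorem Q7887 : ∀ i, i < 7887 → P i := stepQ 7886 Q7886 (allL N7886 (tt N7886 F25218) (tt N6331 F25219) (tt N9072 (iv F29238)) (tt N9058 (iv F29197)) (tt N6266 F25220) (tt N7886 F25221) (tt N6254 (iv D7979)) (tt N6332 (iv F25222)))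
theorem Q7888 : ∀ i, i < 7888 → P i := stepQ 7887 Q7887 (allL N7887 (tt N6257 F25223) (tt N7896 (iv F25259)) (tt N7205 F25224) (tt N7262 F25225) (tt N6256 F25226) (tt N7921 (iv F25354)) (tt N7204 (iv F25227)) (tt N6255 (iv D7980)))
theorem Q7889 : ∀ i, i < 7889 → P i := stepQ 7888 Q7888 (allL N7888 (tt N6260 F25228) (tt N6916 F25229) (tt N9183 (iv F29639)) (tt N6918 F25230) (tt N8528 (iv F27513)) (tt N6258 (iv D7981)) (tt N9520 D9617) (tt N7197 F25231))
theorem Q7890 : ∀ i, i < 7890 → P i := stepQ 7889 Q7889 (allL N7889 (tt N6928 F25232) (tt N6262 F25233) (tt N6259 (iv D7982)) (tt N9495 (iv F30583)) (tt N9176 (iv F29612)) (tt N9521 D9618) (tt N7889 F25234) (tt N8660 (iv F27971)))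
theorem Q7891 : ∀ i, i < 7891 → P i := stepQ 7890 Q7890 (allL N7890 (tt N6927 F25235) (tt N6261 F25236) (tt N9176 (iv F29611)) (tt N8546 (iv F27563)) (tt N6259 (iv D7983)) (tt N9522 D9619) (tt N7890 F25237) (tt N8661 (iv F27977)))
theorem Q7892 : ∀ i, i < 7892 → P i := stepQ 7891 Q7891 (allL N7891 (tt N6918 F25238) (tt N7110 F25239) (tt N9521 (iv F30680)) (tt N6260 F25240) (tt N9522 (iv F30683)) (tt N6259 (iv D7984)) (tt N9523 D9620) (tt N8658 (iv F27965)))
theorem Q7893 : ∀ i, i < 7893 → P i := stepQ 7892 Q7892 (allL N7892 (tt N9520 (iv F30675)) (tt N7199 F25241) (tt N9498 (iv F30590)) (tt N9523 (iv F30686)) (tt N8793 (iv F28339)) (tt N7892 F25242) (tt N6260 (iv D7985)) (tt N9524 D9621))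
theorem Q7894 : ∀ i, i < 7894 → P i := stepQ 7893 Q7893 (allL N7893 (tt N7893 F25243) (tt N6326 F25244) (tt N9502 (iv F30605)) (tt N9172 (iv F29593)) (tt N6332 F25245) (tt N7893 F25246) (tt N7893 F25247) (tt N6266 (iv D7986)))
theorem Q7895 : ∀ i, i < 7895 → P i := stepQ 7894 Q7894 (allL N7894 (tt N7289 (iv F25250)) (tt N6269 (iv D7987)) (tt N8965 (iv F28895)) (tt N7572 F25248) (tt N8975 (iv F28931)) (tt N9342 (iv F30075)) (tt N7255 F25249) (tt N9088 (iv F29305)))
theorem Q7896 : ∀ i, i < 7896 → P i := stepQ 7895 Q7895 (allL N7895 (tt N7895 F25251) (tt N6292 F25252) (tt N7457 F25253) (tt N6272 (iv D7988)) (tt N7884 F25254) (tt N7883 F25255) (tt N7455 F25256) (tt N6275 F25257))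
theorem Q7897 : ∀ i, i < 7897 → P i := stepQ 7896 Q7896 (allL N7896 (tt N7896 F25258) (tt N7887 F25259) (tt N9525 D9622) (tt N6274 (iv D7989)) (tt N7885 (iv F25262)) (tt N6275 F25260) (tt N8816 (iv F28404)) (tt N7883 F25261))
theorem Q7898 : ∀ i, i < 7898 → P i := stepQ 7897 Q7897 (allL N7897 (tt N7897 F25263) (tt N9526 D9623) (tt N6275 (iv D7990)) (tt N6280 F25264) (tt N9527 D9624) (tt N9525 (iv F30694)) (tt N7897 F25265) (tt N7457 F25266))
theorem Q7899 : ∀ i, i < 7899 → P i := stepQ 7898 Q7898 (allL N7898 (tt N7898 F25267) (tt N6300 F25268) (tt N9527 (iv F30702)) (tt N7898 F25269) (tt N6275 (iv D7991)) (tt N7885 F25270) (tt N7898 F25271) (tt N7884 F25272))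
theorem Q7900 : ∀ i, i < 7900 → P i := stepQ 7899 Q7899 (allL N7899 (tt N8984 (iv F28960)) (tt N8870 (iv F28599)) (tt N8962 (iv F28888)) (tt N6276 (iv D7992)) (tt N9528 D9625) (tt N6281 F25273) (tt N8869 (iv F28596)) (tt N9529 D9626))
theorem Q7901 : ∀ i, i < 7901 → P i := stepQ 7900 Q7900 (allL N7900 (tt N7328 F25274) (tt N6278 F25275) (tt N7340 F25276) (tt N6277 (iv D7993)) (tt N7657 (iv F25279)) (tt N6283 F25277) (tt N7326 F25278) (tt N8968 (iv F28910)))
theorem Q7902 : ∀ i, i < 7902 → P i := stepQ 7901 Q7901 (allL N7901 (tt N7901 F25280) (tt N9281 (iv F29902)) (tt N6278 (iv D7994)) (tt N9525 (iv F30692)) (tt N9065 (iv F29224)) (tt N6280 F25281) (tt N9280 (iv F29900)) (tt N7459 F25282))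
theorem Q7903 : ∀ i, i < 7903 → P i := stepQ 7902 Q7902 (allL N7902 (tt N7902 F25283) (tt N7326 F25284) (tt N9280 (iv F29897)) (tt N6279 F25285) (tt N7656 F25286) (tt N7902 F25287) (tt N6278 (iv D7995)) (tt N9279 F29894))
theorem Q7904 : ∀ i, i < 7904 → P i := stepQ 7903 Q7903 (allL N7903 (tt N6965 (iv F25291)) (tt N6280 (iv D7996)) (tt N6284 F25288) (tt N9526 (iv F30697)) (tt N8532 (iv F27531)) (tt N9530 D9627) (tt N7903 F25289) (tt N6957 F25290))
theorem Q7905 : ∀ i, i < 7905 → P i := stepQ 7904 Q7904 (allL N7904 (tt N8982 (iv F28950)) (tt N6309 F25292) (tt N8961 (iv F28884)) (tt N7904 F25293) (tt N6281 (iv D7997)) (tt N9528 (iv F30708)) (tt N6285 F25294) (tt N9531 D9628))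
theorem Q7906 : ∀ i, i < 7906 → P i := stepQ 7905 Q7905 (allL N7905 (tt N6823 F25295) (tt N6310 F25296) (tt N8963 (iv F28891)) (tt N6820 F25297) (tt N9531 (iv F30718)) (tt N9529 (iv F30712)) (tt N9532 D9629) (tt N6281 (iv D7998)))
theorem Q7907 : ∀ i, i < 7907 → P i := stepQ 7906 Q7906 (allL N7906 (tt N6966 F25298) (tt N6990 F25299) (tt N9530 (iv F30714)) (tt N6314 F25300) (tt N9099 (iv F29347)) (tt N6284 (iv D7999)) (tt N9533 D9630) (tt N6958 F25301))
theorem Q7908 : ∀ i, i < 7908 → P i := stepQ 7907 Q7907 (allL N7907 (tt N8983 (iv F28956)) (tt N6316 F25302) (tt N8105 F26071) (tt N8127 (iv F26135)) (tt N6286 F25303) (tt N8107 (iv F26077)) (tt N9534 D9631) (tt N6285 (iv D8000)))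
theorem Q7909 : ∀ i, i < 7909 → P i := stepQ 7908 Q7908 (allL N7908 (tt N8985 (iv F28966)) (tt N6317 F25304) (tt N6733 (iv F25306)) (tt N6286 (iv D8001)) (tt N9535 D9632) (tt N9511 (iv F30647)) (tt N9536 D9633) (tt N6287 F25305))
theorem Q7910 : ∀ i, i < 7910 → P i := stepQ 7909 Q7909 (allL N7909 (tt N8986 (iv F28971)) (tt N6318 F25307) (tt N8964 (iv F28894)) (tt N9536 (iv F30735)) (tt N9534 (iv F30728)) (tt N9537 D9634) (tt N6286 (iv D8002)) (tt N9532 (iv F30722)))
theorem Q7911 : ∀ i, i < 7911 → P i := stepQ 7910 Q7910 (allL N7910 (tt N8987 (iv F28976)) (tt N6319 F25308) (tt N6688 F25309) (tt N7910 F25310) (tt N6287 (iv D8003)) (tt N9513 (iv F30653)) (tt N6719 F25311) (tt N9535 (iv F30731)))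
theorem Q7912 : ∀ i, i < 7912 → P i := stepQ 7911 Q7911 (allL N7911 (tt N6323 F25312) (tt N7565 F25313) (tt N9385 (iv F30212)) (tt N7713 F25314) (tt N6293 F25315) (tt N7956 (iv F25487)) (tt N6288 (iv D8004)) (tt N6290 F25316))
theorem Q7913 : ∀ i, i < 7913 → P i := stepQ 7912 Q7912 (allL N7912 (tt N6324 F25317) (tt N7912 F25318) (tt N6289 (iv D8005)) (tt N9386 (iv F30217)) (tt N7912 F25319) (tt N7912 F25320) (tt N9538 D9635) (tt N7912 F25321))
theorem Q7914 : ∀ i, i < 7914 → P i := stepQ 7913 Q7913 (allL N7913 (tt N6325 F25322) (tt N7564 F25323) (tt N9538 (iv F30739)) (tt N6290 F25324) (tt N7913 F25325) (tt N7960 (iv F25507)) (tt N6289 (iv D8006)) (tt N7959 F25502))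
theorem Q7915 : ∀ i, i < 7915 → P i := stepQ 7914 Q7914 (allL N7914 (tt N6326 F25326) (tt N7914 F25327) (tt N9163 (iv F29561)) (tt N7960 (iv F25505)) (tt N6294 F25328) (tt N6290 (iv D8007)) (tt N7914 F25329) (tt N7956 F25488))
theorem Q7916 : ∀ i, i < 7916 → P i := stepQ 7915 Q7915 (allL N7915 (tt N6327 F25330) (tt N7709 F25331) (tt N9539 D9636) (tt N6291 (iv D8008)) (tt N7707 F25332) (tt N6292 F25333) (tt N7962 (iv F25515)) (tt N6297 F25334))
theorem Q7917 : ∀ i, i < 7917 → P i := stepQ 7916 Q7916 (allL N7916 (tt N6328 F25335) (tt N9540 D9637) (tt N6292 (iv D8009)) (tt N7339 F25336) (tt N9541 D9638) (tt N9539 (iv F30745)) (tt N9542 D9639) (tt N6299 F25337))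
theorem Q7918 : ∀ i, i < 7918 → P i := stepQ 7917 Q7917 (allL N7917 (tt N6329 F25338) (tt N7884 F25339) (tt N9541 (iv F30752)) (tt N7708 F25340) (tt N6292 (iv D8010)) (tt N7707 F25341) (tt N7967 (iv F25534)) (tt N6300 F25342))
theorem Q7919 : ∀ i, i < 7919 → P i := stepQ 7918 Q7918 (allL N7918 (tt N6330 F25343) (tt N7455 F25344) (tt N9542 (iv F30757)) (tt N6293 F25345) (tt N7967 (iv F25533)) (tt N7966 (iv F25529)) (tt N6292 (iv D8011)) (tt N7918 F25346))
theorem Q7920 : ∀ i, i < 7920 → P i := stepQ 7919 Q7919 (allL N7919 (tt N6331 F25347) (tt N7919 F25348) (tt N9390 (iv F30234)) (tt N7966 (iv F25527)) (tt N7956 (iv F25486)) (tt N6293 (iv D8012)) (tt N7955 F25482) (tt N6294 F25349))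
theorem Q7921 : ∀ i, i < 7921 → P i := stepQ 7920 Q7920 (allL N7920 (tt N7953 (iv F25467)) (tt N6301 F25350) (tt N7952 (iv F25464)) (tt N6295 (iv D8013)) (tt N8561 (iv F27618)) (tt N8870 F28603) (tt N7920 F25351) (tt N8627 F27835))
theorem Q7922 : ∀ i, i < 7922 → P i := stepQ 7921 Q7921 (allL N7921 (tt N7711 F25352) (tt N6297 F25353) (tt N8641 (iv F27907)) (tt N6296 (iv D8014)) (tt N7710 (iv F25356)) (tt N7887 F25354) (tt N8861 (iv F28559)) (tt N7709 F25355))
theorem Q7923 : ∀ i, i < 7923 → P i := stepQ 7922 Q7922 (allL N7922 (tt N6335 F25357) (tt N9543 D9640) (tt N6297 (iv D8015)) (tt N6304 F25358) (tt N9544 D9641) (tt N6299 F25359) (tt N9545 D9642) (tt N9539 (iv F30746)))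
theorem Q7924 : ∀ i, i < 7924 → P i := stepQ 7923 Q7923 (allL N7923 (tt N6336 F25360) (tt N7710 F25361) (tt N9544 (iv F30762)) (tt N7923 F25362) (tt N6297 (iv D8016)) (tt N6300 F25363) (tt N7976 (iv F25574)) (tt N7707 F25364))
theorem Q7925 : ∀ i, i < 7925 → P i := stepQ 7924 Q7924 (allL N7924 (tt N6337 F25365) (tt N8861 (iv F28561)) (tt N9545 (iv F30767)) (tt N6298 F25366) (tt N7976 (iv F25572)) (tt N7924 F25367) (tt N6297 (iv D8017)) (tt N7975 (iv F25568)))
theorem Q7926 : ∀ i, i < 7926 → P i := stepQ 7925 Q7925 (allL N7925 (tt N9546 D9643) (tt N6299 (iv D8018)) (tt N9526 (iv F30696)) (tt N6307 F25368) (tt N9547 D9644) (tt N9548 D9645) (tt N7925 F25369) (tt N9540 (iv F30749)))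
theorem Q7927 : ∀ i, i < 7927 → P i := stepQ 7926 Q7926 (allL N7926 (tt N6339 F25370) (tt N9547 (iv F30776)) (tt N6300 F25371) (tt N7771 F25372) (tt N6299 (iv D8019)) (tt N9544 (iv F30764)) (tt N7926 F25373) (tt N9541 (iv F30754)))
theorem Q7928 : ∀ i, i < 7928 → P i := stepQ 7927 Q7927 (allL N7927 (tt N7927 F25374) (tt N8561 (iv F27620)) (tt N9398 (iv F30258)) (tt N7927 F25375) (tt N6301 (iv D8020)) (tt N6309 F25376) (tt N7927 F25377) (tt N8431 F27147))
theorem Q7929 : ∀ i, i < 7929 → P i := stepQ 7928 Q7928 (allL N7928 (tt N7928 F25378) (tt N8627 (iv F27831)) (tt N9399 (iv F30263)) (tt N8629 (iv F27842)) (tt N8431 F27146) (tt N6310 F25379) (tt N8430 (iv F27148)) (tt N6301 (iv D8021)))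
theorem Q7930 : ∀ i, i < 7930 → P i := stepQ 7929 Q7929 (allL N7929 (tt N7929 F25380) (tt N8631 (iv F27853)) (tt N7230 F25381) (tt N6302 (iv D8022)) (tt N8634 (iv F27874)) (tt N6311 F25382) (tt N6836 F25383) (tt N8629 (iv F27844)))
theorem Q7931 : ∀ i, i < 7931 → P i := stepQ 7930 Q7930 (allL N7930 (tt N9549 D9646) (tt N6304 (iv D8023)) (tt N7232 F25384) (tt N9543 (iv F30760)) (tt N9550 D9647) (tt N9551 D9648) (tt N9552 D9649) (tt N7313 F25385))
theorem Q7932 : ∀ i, i < 7932 → P i := stepQ 7931 Q7931 (allL N7931 (tt N6341 F25386) (tt N9550 (iv F30785)) (tt N6305 F25387) (tt N7412 (iv F25390)) (tt N6304 (iv D8024)) (tt N6308 F25388) (tt N9553 D9650) (tt N7316 F25389))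
theorem Q7933 : ∀ i, i < 7933 → P i := stepQ 7932 Q7932 (allL N7932 (tt N6342 F25391) (tt N9552 (iv F30792)) (tt N6306 F25392) (tt N9545 (iv F30768)) (tt N9553 (iv F30797)) (tt N7932 F25393) (tt N6304 (iv D8025)) (tt N9554 D9651))
theorem Q7934 : ∀ i, i < 7934 → P i := stepQ 7933 Q7933 (allL N7933 (tt N6343 F25394) (tt N6798 F25395) (tt N9553 (iv F30795)) (tt N7933 F25396) (tt N6306 F25397) (tt N7933 F25398) (tt N6305 (iv D8026)) (tt N6800 F25399))
theorem Q7935 : ∀ i, i < 7935 → P i := stepQ 7934 Q7934 (allL N7934 (tt N6344 F25400) (tt N6796 F25401) (tt N9554 (iv F30801)) (tt N7934 F25402) (tt N6800 F25403) (tt N7934 F25404) (tt N6797 F25405) (tt N6306 (iv D8027)))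
theorem Q7936 : ∀ i, i < 7936 → P i := stepQ 7935 Q7935 (allL N7935 (tt N6307 (iv D8028)) (tt N6345 F25406) (tt N6312 F25407) (tt N9546 (iv F30772)) (tt N7748 (iv F25410)) (tt N9555 D9652) (tt N7935 F25408) (tt N7135 F25409))
theorem Q7937 : ∀ i, i < 7937 → P i := stepQ 7936 Q7936 (allL N7936 (tt N7748 F25411) (tt N6308 F25412) (tt N6313 F25413) (tt N7753 (iv F25416)) (tt N6307 (iv D8029)) (tt N9556 D9653) (tt N7936 F25414) (tt N7129 F25415))
theorem Q7938 : ∀ i, i < 7938 → P i := stepQ 7937 Q7937 (allL N7937 (tt N9555 (iv F30806)) (tt N9551 (iv F30789)) (tt N6314 F25417) (tt N9548 (iv F30779)) (tt N9556 (iv F30814)) (tt N6307 (iv D8030)) (tt N9557 D9654) (tt N7111 F25418))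
theorem Q7939 : ∀ i, i < 7939 → P i := stepQ 7938 Q7938 (allL N7938 (tt N7938 F25419) (tt N9531 (iv F30717)) (tt N9400 (iv F30267)) (tt N8432 (iv F27151)) (tt N6310 F25420) (tt N8431 (iv F27145)) (tt N8912 (iv F28745)) (tt N6309 (iv D8031)))
theorem Q7940 : ∀ i, i < 7940 → P i := stepQ 7939 Q7939 (allL N7939 (tt N7939 F25421) (tt N6820 F25422) (tt N7231 F25423) (tt N6310 (iv D8032)) (tt N8633 (iv F27867)) (tt N8629 F27845) (tt N8894 (iv F28678)) (tt N6311 F25424))
theorem Q7941 : ∀ i, i < 7941 → P i := stepQ 7940 Q7940 (allL N7940 (tt N7940 F25425) (tt N9532 (iv F30720)) (tt N9401 (iv F30271)) (tt N8894 (iv F28676)) (tt N8912 (iv F28744)) (tt N8893 (iv F28672)) (tt N6310 (iv D8033)) (tt N6318 F25426))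
theorem Q7942 : ∀ i, i < 7942 → P i := stepQ 7941 Q7941 (allL N7941 (tt N7941 F25427) (tt N6818 F25428) (tt N7229 F25429) (tt N7941 F25430) (tt N6311 (iv D8034)) (tt N8634 (iv F27875)) (tt N6817 F25431) (tt N8633 (iv F27869)))
theorem Q7943 : ∀ i, i < 7943 → P i := stepQ 7942 Q7942 (allL N7942 (tt N6313 F25432) (tt N6320 F25433) (tt N7748 F25434) (tt N9558 D9655) (tt N6312 (iv D8035)) (tt N9559 D9656) (tt N7942 F25435) (tt N7128 F25436))
theorem Q7944 : ∀ i, i < 7944 → P i := stepQ 7943 Q7943 (allL N7943 (tt N6314 F25437) (tt N8658 (iv F27963)) (tt N9555 (iv F30808)) (tt N6966 F25438) (tt N9559 (iv F30825)) (tt N6312 (iv D8036)) (tt N9560 D9657) (tt N7110 F25439))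
theorem Q7945 : ∀ i, i < 7945 → P i := stepQ 7944 Q7944 (allL N7944 (tt N9558 (iv F30818)) (tt N6315 F25440) (tt N9561 D9658) (tt N6313 (iv D8037)) (tt N8611 (iv F27785)) (tt N9562 D9659) (tt N7944 F25441) (tt N8597 F27737))
theorem Q7946 : ∀ i, i < 7946 → P i := stepQ 7945 Q7945 (allL N7945 (tt N9559 (iv F30823)) (tt N6984 F25442) (tt N9556 (iv F30812)) (tt N9562 (iv F30836)) (tt N6314 F25443) (tt N6313 (iv D8038)) (tt N9563 D9660) (tt N7092 F25444))
theorem Q7947 : ∀ i, i < 7947 → P i := stepQ 7946 Q7946 (allL N7946 (tt N9560 (iv F30827)) (tt N6987 F25445) (tt N9557 (iv F30816)) (tt N9533 (iv F30725)) (tt N9563 (iv F30838)) (tt N7946 F25446) (tt N6314 (iv D8039)) (tt N9564 D9661))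
theorem Q7948 : ∀ i, i < 7948 → P i := stepQ 7947 Q7947 (allL N7947 (tt N7947 F25447) (tt N8127 F26138) (tt N7947 F25448) (tt N6316 (iv D8040)) (tt N9565 D9662) (tt N7947 F25449) (tt N9334 (iv F30052)) (tt N7947 F25450))
theorem Q7949 : ∀ i, i < 7949 → P i := stepQ 7948 Q7948 (allL N7948 (tt N7948 F25451) (tt N9534 (iv F30727)) (tt N9402 (iv F30275)) (tt N9334 (iv F30050)) (tt N6318 F25452) (tt N8913 (iv F28750)) (tt N6316 (iv D8041)) (tt N8912 (iv F28746)))
theorem Q7950 : ∀ i, i < 7950 → P i := stepQ 7949 Q7949 (allL N7949 (tt N7949 F25453) (tt N9535 (iv F30729)) (tt N6695 F25454) (tt N9565 (iv F30845)) (tt N6317 (iv D8042)) (tt N7949 F25455) (tt N9566 D9663) (tt N6319 F25456))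
theorem Q7951 : ∀ i, i < 7951 → P i := stepQ 7950 Q7950 (allL N7950 (tt N7950 F25457) (tt N9536 (iv F30733)) (tt N6717 F25458) (tt N6318 F25459) (tt N9566 (iv F30850)) (tt N9567 D9664) (tt N6317 (iv D8043)) (tt N6714 F25460))
theorem Q7952 : ∀ i, i < 7952 → P i := stepQ 7951 Q7951 (allL N7951 (tt N7951 F25461) (tt N9568 D9665) (tt N9403 (iv F30279)) (tt N9567 (iv F30854)) (tt N8913 (iv F28749)) (tt N6318 (iv D8044)) (tt N7951 F25462) (tt N8893 F28673))
theorem Q7953 : ∀ i, i < 7953 → P i := stepQ 7952 Q7952 (allL N7952 (tt N6321 F25463) (tt N9558 (iv F30819)) (tt N7920 F25464) (tt N6320 (iv D8045)) (tt N6963 F25465) (tt N8653 (iv F27950)) (tt N7952 F25466) (tt N8625 F27824))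
theorem Q7954 : ∀ i, i < 7954 → P i := stepQ 7953 Q7953 (allL N7953 (tt N7920 F25467) (tt N7953 F25468) (tt N6321 (iv D8046)) (tt N6346 F25469) (tt N6967 F25470) (tt N7294 F25471) (tt N7953 F25472) (tt N7037 F25473))
theorem Q7955 : ∀ i, i < 7955 → P i := stepQ 7954 Q7954 (allL N7954 (tt N7646 F25474) (tt N9569 D9666) (tt N6322 (iv D8047)) (tt N9432 (iv F30364)) (tt N9570 D9667) (tt N7421 F25475) (tt N9571 D9668) (tt N7954 F25476))
theorem Q7956 : ∀ i, i < 7956 → P i := stepQ 7955 Q7955 (allL N7955 (tt N7708 F25477) (tt N7955 F25478) (tt N9570 (iv F30863)) (tt N6329 F25479) (tt N6322 (iv D8048)) (tt N7423 F25480) (tt N7919 (iv F25482)) (tt N7955 F25481))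
theorem Q7957 : ∀ i, i < 7957 → P i := stepQ 7956 Q7956 (allL N7956 (tt N7713 F25483) (tt N7956 F25484) (tt N9571 (iv F30869)) (tt N6323 F25485) (tt N7919 F25486) (tt N7911 F25487) (tt N6322 (iv D8049)) (tt N7914 (iv F25488)))
theorem Q7958 : ∀ i, i < 7958 → P i := stepQ 7957 Q7957 (allL N7957 (tt N7957 F25489) (tt N6324 (iv D8050)) (tt N7957 F25490) (tt N7491 F25491) (tt N7957 F25492) (tt N8004 (iv F25692)) (tt N7490 (iv F25494)) (tt N7957 F25493))
theorem Q7959 : ∀ i, i < 7959 → P i := stepQ 7958 Q7958 (allL N7958 (tt N9538 (iv F30737)) (tt N7490 F25495) (tt N6325 F25496) (tt N7487 F25497) (tt N7958 F25498) (tt N9572 D9669) (tt N6324 (iv D8051)) (tt N9573 D9670))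
theorem Q7960 : ∀ i, i < 7960 → P i := stepQ 7959 Q7959 (allL N7959 (tt N7960 (iv F25503)) (tt N9172 (iv F29591)) (tt N9572 (iv F30874)) (tt N6326 F25499) (tt N7959 F25500) (tt N6325 (iv D8052)) (tt N7959 F25501) (tt N7913 (iv F25502)))
theorem Q7961 : ∀ i, i < 7961 → P i := stepQ 7960 Q7960 (allL N7960 (tt N7959 F25503) (tt N7960 F25504) (tt N9573 (iv F30881)) (tt N7914 F25505) (tt N7960 F25506) (tt N7913 F25507) (tt N7960 F25508) (tt N6325 (iv D8053)))
theorem Q7962 : ∀ i, i < 7962 → P i := stepQ 7961 Q7961 (allL N7961 (tt N9539 (iv F30742)) (tt N9574 D9671) (tt N6327 (iv D8054)) (tt N9438 (iv F30382)) (tt N9575 D9672) (tt N6328 F25509) (tt N9341 (iv F30073)) (tt N6335 F25510))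
theorem Q7963 : ∀ i, i < 7963 → P i := stepQ 7962 Q7962 (allL N7962 (tt N7707 F25511) (tt N7424 F25512) (tt N9575 (iv F30892)) (tt N7423 F25513) (tt N6327 (iv D8055)) (tt N6329 F25514) (tt N7915 F25515) (tt N6336 F25516))
theorem Q7964 : ∀ i, i < 7964 → P i := stepQ 7963 Q7963 (allL N7963 (tt N9576 D9673) (tt N6328 (iv D8056)) (tt N7963 F25517) (tt N9440 (iv F30387)) (tt N7767 (iv F25519)) (tt N7764 (iv F25520)) (tt N9577 D9674) (tt N6338 F25518))
theorem Q7965 : ∀ i, i < 7965 → P i := stepQ 7964 Q7964 (allL N7964 (tt N9541 (iv F30751)) (tt N7767 F25521) (tt N6329 F25522) (tt N9578 D9675) (tt N6328 (iv D8057)) (tt N9575 (iv F30893)) (tt N9579 D9676) (tt N6339 F25523))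
theorem Q7966 : ∀ i, i < 7966 → P i := stepQ 7965 Q7965 (allL N7965 (tt N9542 (iv F30755)) (tt N9577 (iv F30900)) (tt N6330 F25524) (tt N9442 (iv F30395)) (tt N9579 (iv F30908)) (tt N9580 D9677) (tt N6328 (iv D8058)) (tt N7965 F25525))
theorem Q7967 : ∀ i, i < 7967 → P i := stepQ 7966 Q7966 (allL N7966 (tt N7967 (iv F25531)) (tt N7966 F25526) (tt N9579 (iv F30907)) (tt N7919 F25527) (tt N6330 F25528) (tt N7918 F25529) (tt N6329 (iv D8059)) (tt N7966 F25530))
theorem Q7968 : ∀ i, i < 7968 → P i := stepQ 7967 Q7967 (allL N7967 (tt N7966 F25531) (tt N9058 (iv F29195)) (tt N9580 (iv F30912)) (tt N6331 F25532) (tt N7918 F25533) (tt N6330 (iv D8060)) (tt N7917 F25534) (tt N7967 F25535))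
theorem Q7969 : ∀ i, i < 7969 → P i := stepQ 7968 Q7968 (allL N7968 (tt N7968 F25536) (tt N9446 (iv F30401)) (tt N6332 (iv D8061)) (tt N9096 (iv F29331)) (tt N9502 (iv F30607)) (tt N7968 F25537) (tt N7968 F25538) (tt N9072 F29242))
theorem Q7970 : ∀ i, i < 7970 → P i := stepQ 7969 Q7969 (allL N7969 (tt N7579 F25539) (tt N9581 D9678) (tt N6333 (iv D8062)) (tt N7969 F25540) (tt N8002 (iv F25684)) (tt N7969 F25541) (tt N7576 (iv F25543)) (tt N7785 F25542))
theorem Q7971 : ∀ i, i < 7971 → P i := stepQ 7970 Q7970 (allL N7970 (tt N7426 F25544) (tt N6336 F25545) (tt N8002 (iv F25682)) (tt N7970 F25546) (tt N6333 (iv D8063)) (tt N7970 F25547) (tt N8001 (iv F25679)) (tt N7424 F25548))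
theorem Q7972 : ∀ i, i < 7972 → P i := stepQ 7971 Q7971 (allL N7971 (tt N7578 F25549) (tt N6337 F25550) (tt N7576 F25551) (tt N6334 F25552) (tt N8001 (iv F25677)) (tt N7574 (iv F25554)) (tt N6333 (iv D8064)) (tt N7573 F25553))
theorem Q7973 : ∀ i, i < 7973 → P i := stepQ 7972 Q7972 (allL N7972 (tt N9582 D9679) (tt N6335 (iv D8065)) (tt N9581 (iv F30917)) (tt N6340 F25555) (tt N7396 (iv F25557)) (tt N7394 F25556) (tt N9583 D9680) (tt N9574 (iv F30888)))
theorem Q7974 : ∀ i, i < 7974 → P i := stepQ 7973 Q7973 (allL N7973 (tt N9544 (iv F30761)) (tt N7396 F25558) (tt N6336 F25559) (tt N7399 F25560) (tt N6335 (iv D8066)) (tt N6339 F25561) (tt N9584 D9681) (tt N9575 (iv F30895)))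
theorem Q7975 : ∀ i, i < 7975 → P i := stepQ 7974 Q7974 (allL N7974 (tt N9545 (iv F30766)) (tt N9583 (iv F30927)) (tt N6337 F25562) (tt N6342 F25563) (tt N9584 (iv F30936)) (tt N7974 F25564) (tt N6335 (iv D8067)) (tt N9585 D9682))
theorem Q7976 : ∀ i, i < 7976 → P i := stepQ 7975 Q7975 (allL N7975 (tt N7976 (iv F25569)) (tt N8001 F25680) (tt N9584 (iv F30934)) (tt N7975 F25565) (tt N6337 F25566) (tt N7975 F25567) (tt N6336 (iv D8068)) (tt N7924 F25568))
theorem Q7977 : ∀ i, i < 7977 → P i := stepQ 7976 Q7976 (allL N7976 (tt N7975 F25569) (tt N7573 F25570) (tt N9585 (iv F30941)) (tt N7976 F25571) (tt N7924 F25572) (tt N7976 F25573) (tt N7923 F25574) (tt N6337 (iv D8069)))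
theorem Q7978 : ∀ i, i < 7978 → P i := stepQ 7977 Q7977 (allL N7977 (tt N6338 (iv D8070)) (tt N9546 (iv F30770)) (tt N7977 F25575) (tt N6345 F25576) (tt N7736 F25577) (tt N7734 F25578) (tt N7977 F25579) (tt N9576 (iv F30899)))
theorem Q7979 : ∀ i, i < 7979 → P i := stepQ 7978 Q7978 (allL N7978 (tt N6340 (iv D8071)) (tt N9549 (iv F30780)) (tt N7978 F25580) (tt N9582 (iv F30924)) (tt N7379 F25581) (tt N7378 F25582) (tt N9586 D9683) (tt N9459 (iv F30442)))
theorem Q7980 : ∀ i, i < 7980 → P i := stepQ 7979 Q7979 (allL N7979 (tt N9586 (iv F30946)) (tt N6342 F25583) (tt N7979 F25584) (tt N9583 (iv F30929)) (tt N6881 F25585) (tt N6880 F25586) (tt N6340 (iv D8072)) (tt N7284 (iv F25587)))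
theorem Q7981 : ∀ i, i < 7981 → P i := stepQ 7980 Q7980 (allL N7980 (tt N9553 (iv F30794)) (tt N6881 F25588) (tt N6343 F25589) (tt N6883 F25590) (tt N6342 F25591) (tt N7980 F25592) (tt N6341 (iv D8073)) (tt N9587 D9684))
theorem Q7982 : ∀ i, i < 7982 → P i := stepQ 7981 Q7981 (allL N7981 (tt N9554 (iv F30800)) (tt N7284 F25593) (tt N6344 F25594) (tt N7285 (iv F25596)) (tt N9587 (iv F30954)) (tt N7981 F25595) (tt N9463 (iv F30463)) (tt N6342 (iv D8074)))
theorem Q7983 : ∀ i, i < 7983 → P i := stepQ 7982 Q7982 (allL N7982 (tt N6800 F25597) (tt N7982 F25598) (tt N9587 (iv F30953)) (tt N9588 D9685) (tt N6344 F25599) (tt N7982 F25600) (tt N6806 F25601) (tt N6343 (iv D8075)))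
theorem Q7984 : ∀ i, i < 7984 → P i := stepQ 7983 Q7983 (allL N7983 (tt N8139 (iv F26169)) (tt N6350 F25602) (tt N7100 F25603) (tt N8315 (iv F26763)) (tt N8359 (iv F26896)) (tt N9589 D9686) (tt N6349 (iv D8076)) (tt N7097 F25604))
theorem Q7985 : ∀ i, i < 7985 → P i := stepQ 7984 Q7984 (allL N7984 (tt N7984 F25605) (tt N8362 (iv F26908)) (tt N7477 F25606) (tt N6358 F25607) (tt N8366 (iv F26924)) (tt N6351 (iv D8077)) (tt N6353 F25608) (tt N7474 F25609))
theorem Q7986 : ∀ i, i < 7986 → P i := stepQ 7985 Q7985 (allL N7985 (tt N7985 F25610) (tt N6847 F25611) (tt N6353 F25612) (tt N8007 (iv F25707)) (tt N7860 F25613) (tt N6352 (iv D8078)) (tt N7477 F25614) (tt N6846 F25615))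
theorem Q7987 : ∀ i, i < 7987 → P i := stepQ 7986 Q7986 (allL N7986 (tt N8297 (iv F26689)) (tt N6356 F25616) (tt N8012 (iv F25732)) (tt N6354 (iv D8079)) (tt N9406 (iv F30288)) (tt N7986 F25617) (tt N9590 D9687) (tt N7489 F25618))
theorem Q7988 : ∀ i, i < 7988 → P i := stepQ 7987 Q7987 (allL N7987 (tt N8298 (iv F26693)) (tt N6357 F25619) (tt N6355 F25620) (tt N9590 (iv F30966)) (tt N7987 F25621) (tt N9591 D9688) (tt N6354 (iv D8080)) (tt N6814 (iv F25622)))
theorem Q7989 : ∀ i, i < 7989 → P i := stepQ 7988 Q7988 (allL N7988 (tt N8299 (iv F26697)) (tt N6805 F25623) (tt N9591 (iv F30968)) (tt N8317 (iv F26768)) (tt N7988 F25624) (tt N6355 (iv D8081)) (tt N7988 F25625) (tt N6804 F25626))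
theorem Q7990 : ∀ i, i < 7990 → P i := stepQ 7989 Q7989 (allL N7989 (tt N7989 F25627) (tt N9406 (iv F30286)) (tt N7492 F25628) (tt N7989 F25629) (tt N6356 (iv D8082)) (tt N6362 F25630) (tt N9592 D9689) (tt N7491 F25631))
theorem Q7991 : ∀ i, i < 7991 → P i := stepQ 7990 Q7990 (allL N7990 (tt N7990 F25632) (tt N9590 (iv F30965)) (tt N7472 F25633) (tt N6357 F25634) (tt N9592 (iv F30975)) (tt N9593 D9690) (tt N6356 (iv D8083)) (tt N7469 F25635))
theorem Q7992 : ∀ i, i < 7992 → P i := stepQ 7991 Q7991 (allL N7991 (tt N7991 F25636) (tt N8459 (iv F27271)) (tt N6358 F25637) (tt N9593 (iv F30980)) (tt N7991 F25638) (tt N6357 (iv D8084)) (tt N6364 F25639) (tt N8458 (iv F27268)))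
theorem Q7993 : ∀ i, i < 7993 → P i := stepQ 7992 Q7992 (allL N7992 (tt N7992 F25640) (tt N6814 F25641) (tt N6359 F25642) (tt N9594 D9691) (tt N7992 F25643) (tt N8458 (iv F27269)) (tt N7992 F25644) (tt N6357 (iv D8085)))
theorem Q7994 : ∀ i, i < 7994 → P i := stepQ 7993 Q7993 (allL N7993 (tt N8369 (iv F26937)) (tt N6358 (iv D8086)) (tt N8468 (iv F27314)) (tt N8362 (iv F26909)) (tt N7993 F25645) (tt N6360 F25646) (tt N6366 F25647) (tt N6812 (iv F25648)))
theorem Q7995 : ∀ i, i < 7995 → P i := stepQ 7994 Q7994 (allL N7994 (tt N7994 F25649) (tt N6812 F25650) (tt N8458 (iv F27266)) (tt N9051 (iv F29175)) (tt N7994 F25651) (tt N6359 F25652) (tt N8456 (iv F27258)) (tt N6358 (iv D8087)))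
theorem Q7996 : ∀ i, i < 7996 → P i := stepQ 7995 Q7995 (allL N7995 (tt N7233 F25653) (tt N6803 F25654) (tt N6360 (iv D8088)) (tt N9368 (iv F30152)) (tt N7995 F25655) (tt N8468 (iv F27316)) (tt N6361 F25656) (tt N6801 F25657))
theorem Q7997 : ∀ i, i < 7997 → P i := stepQ 7996 Q7996 (allL N7996 (tt N7996 F25658) (tt N7996 F25659) (tt N8006 (iv F25702)) (tt N7996 F25660) (tt N6363 F25661) (tt N6890 (iv F25668)) (tt N6362 (iv D8089)) (tt N7996 F25662))
theorem Q7998 : ∀ i, i < 7998 → P i := stepQ 7997 Q7997 (allL N7997 (tt N7997 F25663) (tt N6891 (iv F25666)) (tt N8007 (iv F25706)) (tt N6364 F25664) (tt N6890 F25667) (tt N6363 (iv D8090)) (tt N9593 (iv F30982)) (tt N7997 F25665))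
theorem Q7999 : ∀ i, i < 7999 → P i := stepQ 7998 Q7998 (allL N7998 (tt N7998 F25669) (tt N8464 (iv F27297)) (tt N7998 F25670) (tt N6367 (iv D8091)) (tt N9175 (iv F29609)) (tt N6368 F25671) (tt N8455 (iv F27252)) (tt N9171 (iv F29589)))
theorem Q8000 : ∀ i, i < 8000 → P i := stepQ 7999 Q7999 (allL N7999 (tt N8867 (iv F28583)) (tt N7999 F25672) (tt N8856 (iv F28532)) (tt N6369 (iv D8092)) (tt N9595 D9692) (tt N8467 (iv F27310)) (tt N6374 F25673) (tt N8478 (iv F27349)))
theorem Q8001 : ∀ i, i < 8001 → P i := stepQ 8000 Q8000 (allL N8000 (tt N8869 (iv F28593)) (tt N6371 F25674) (tt N8472 (iv F27331)) (tt N6370 (iv D8093)) (tt N9177 (iv F29619)) (tt N8464 F27300) (tt N8984 (iv F28963)) (tt N8860 (iv F28554)))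
theorem Q8002 : ∀ i, i < 8002 → P i := stepQ 8001 Q8001 (allL N8001 (tt N6379 F25675) (tt N7975 (iv F25680)) (tt N6371 (iv D8094)) (tt N8001 F25676) (tt N7971 F25677) (tt N6373 F25678) (tt N7970 F25679) (tt N8861 (iv F28560)))
theorem Q8003 : ∀ i, i < 8003 → P i := stepQ 8002 Q8002 (allL N8002 (tt N6380 F25681) (tt N8984 F28965) (tt N7970 F25682) (tt N6372 F25683) (tt N7969 F25684) (tt N8002 F25685) (tt N6371 (iv D8095)) (tt N8999 (iv F29020)))
theorem Q8004 : ∀ i, i < 8004 → P i := stepQ 8003 Q8003 (allL N8003 (tt N8866 (iv F28579)) (tt N8003 F25686) (tt N8389 F27006) (tt N8003 F25687) (tt N6374 (iv D8096)) (tt N9367 (iv F30149)) (tt N9595 (iv F30995)) (tt N8569 (iv F27645)))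
theorem Q8005 : ∀ i, i < 8005 → P i := stepQ 8004 Q8004 (allL N8004 (tt N8004 F25688) (tt N8004 F25689) (tt N8004 F25690) (tt N6381 (iv D8097)) (tt N8004 F25691) (tt N7957 F25692) (tt N8004 F25693) (tt N8004 F25694))
theorem Q8006 : ∀ i, i < 8006 → P i := stepQ 8005 Q8005 (allL N8005 (tt N8005 F25695) (tt N6384 F25696) (tt N8005 F25697) (tt N6382 (iv D8098)) (tt N7256 F25698) (tt N9097 (iv F29339)) (tt N9504 (iv F30618)) (tt N8005 F25699))
theorem Q8007 : ∀ i, i < 8007 → P i := stepQ 8006 Q8006 (allL N8006 (tt N8006 F25700) (tt N6385 F25701) (tt N7996 F25702) (tt N9504 (iv F30617)) (tt N6383 F25703) (tt N8492 (iv F27384)) (tt N6382 (iv D8099)) (tt N8006 F25704))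
theorem Q8008 : ∀ i, i < 8008 → P i := stepQ 8007 Q8007 (allL N8007 (tt N8007 F25705) (tt N8451 (iv F27228)) (tt N7997 F25706) (tt N7985 F25707) (tt N8492 (iv F27383)) (tt N6383 (iv D8100)) (tt N9078 F29268) (tt N8007 F25708))
theorem Q8009 : ∀ i, i < 8009 → P i := stepQ 8008 Q8008 (allL N8008 (tt N6501 F25709) (tt N7765 F25710) (tt N6393 F25711) (tt N7395 F25712) (tt N6390 F25713) (tt N6388 F25714) (tt N9596 D9693) (tt N6387 (iv D8101)))
theorem Q8010 : ∀ i, i < 8010 → P i := stepQ 8009 Q8009 (allL N8009 (tt N6502 F25715) (tt N8009 F25716) (tt N9597 D9694) (tt N6388 (iv D8102)) (tt N6873 (iv F25719)) (tt N7395 F25717) (tt N9598 D9695) (tt N6871 F25718))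
theorem Q8011 : ∀ i, i < 8011 → P i := stepQ 8010 Q8010 (allL N8010 (tt N6503 F25720) (tt N8010 F25721) (tt N6395 F25722) (tt N9598 (iv F31008)) (tt N6392 F25723) (tt N9599 D9696) (tt N6388 (iv D8103)) (tt N7062 F25724))
theorem Q8012 : ∀ i, i < 8012 → P i := stepQ 8011 Q8011 (allL N8011 (tt N6389 (iv D8104)) (tt N6504 F25725) (tt N9094 (iv F29322)) (tt N6900 F25726) (tt N7746 F25727) (tt N8011 F25728) (tt N8721 (iv F28127)) (tt N6706 (iv F25729)))
theorem Q8013 : ∀ i, i < 8013 → P i := stepQ 8012 Q8012 (allL N8012 (tt N6706 F25730) (tt N6390 F25731) (tt N7986 F25732) (tt N6704 F25733) (tt N7765 F25734) (tt N8012 F25735) (tt N9600 D9697) (tt N6389 (iv D8105)))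
theorem Q8014 : ∀ i, i < 8014 → P i := stepQ 8013 Q8013 (allL N8013 (tt N6508 F25736) (tt N6704 F25737) (tt N6699 F25738) (tt N6390 (iv D8106)) (tt N7187 F25739) (tt N6391 F25740) (tt N9601 D9698) (tt N6903 F25741))
theorem Q8015 : ∀ i, i < 8015 → P i := stepQ 8014 Q8014 (allL N8014 (tt N6509 F25742) (tt N9600 (iv F31016)) (tt N6396 F25743) (tt N9601 (iv F31023)) (tt N9596 (iv F31000)) (tt N9602 D9699) (tt N6390 (iv D8107)) (tt N8698 (iv F28060)))
theorem Q8016 : ∀ i, i < 8016 → P i := stepQ 8015 Q8015 (allL N8015 (tt N6510 F25744) (tt N6686 (iv F25748)) (tt N6391 (iv D8108)) (tt N6397 F25745) (tt N9603 D9700) (tt N6699 F25746) (tt N9604 D9701) (tt N6905 F25747))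
theorem Q8017 : ∀ i, i < 8017 → P i := stepQ 8016 Q8016 (allL N8016 (tt N6511 F25749) (tt N8016 F25750) (tt N9603 (iv F31030)) (tt N6873 F25751) (tt N6391 (iv D8109)) (tt N7187 F25752) (tt N9605 D9702) (tt N6656 F25753))
theorem Q8018 : ∀ i, i < 8018 → P i := stepQ 8017 Q8017 (allL N8017 (tt N6512 F25754) (tt N8017 F25755) (tt N9604 (iv F31035)) (tt N6392 F25756) (tt N9605 (iv F31040)) (tt N9606 D9703) (tt N6391 (iv D8110)) (tt N9607 D9704))
theorem Q8019 : ∀ i, i < 8019 → P i := stepQ 8018 Q8018 (allL N8018 (tt N6513 F25757) (tt N9608 D9705) (tt N6400 F25758) (tt N9606 (iv F31042)) (tt N9599 (iv F31013)) (tt N6392 (iv D8111)) (tt N9602 (iv F31027)) (tt N8292 (iv F26677)))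
theorem Q8020 : ∀ i, i < 8020 → P i := stepQ 8019 Q8019 (allL N8019 (tt N6515 F25759) (tt N9097 (iv F29336)) (tt N9609 D9706) (tt N6393 (iv D8112)) (tt N8723 (iv F28133)) (tt N6394 F25760) (tt N9610 D9707) (tt N8019 F25761))
theorem Q8021 : ∀ i, i < 8021 → P i := stepQ 8020 Q8020 (allL N8020 (tt N6516 F25762) (tt N9076 (iv F29260)) (tt N9596 (iv F30998)) (tt N9610 (iv F31054)) (tt N6396 F25763) (tt N9611 D9708) (tt N6393 (iv D8113)) (tt N8699 (iv F28064)))
theorem Q8022 : ∀ i, i < 8022 → P i := stepQ 8021 Q8021 (allL N8021 (tt N6517 F25764) (tt N9612 D9709) (tt N6394 (iv D8114)) (tt N9597 (iv F31002)) (tt N9613 D9710) (tt N9609 (iv F31051)) (tt N9614 D9711) (tt N8021 F25765))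
theorem Q8023 : ∀ i, i < 8023 → P i := stepQ 8022 Q8022 (allL N8022 (tt N6518 F25766) (tt N6404 F25767) (tt N9613 (iv F31064)) (tt N6398 F25768) (tt N6394 (iv D8115)) (tt N8723 (iv F28134)) (tt N9615 D9712) (tt N8022 F25769))
theorem Q8024 : ∀ i, i < 8024 → P i := stepQ 8023 Q8023 (allL N8023 (tt N6519 F25770) (tt N6405 F25771) (tt N9614 (iv F31068)) (tt N6395 F25772) (tt N9615 (iv F31073)) (tt N9616 D9713) (tt N6394 (iv D8116)) (tt N7851 (iv F25773)))
theorem Q8025 : ∀ i, i < 8025 → P i := stepQ 8024 Q8024 (allL N8024 (tt N6520 F25774) (tt N9617 D9714) (tt N9599 (iv F31012)) (tt N9616 (iv F31076)) (tt N6400 F25775) (tt N6395 (iv D8117)) (tt N9611 (iv F31057)) (tt N7583 F25776))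
theorem Q8026 : ∀ i, i < 8026 → P i := stepQ 8025 Q8025 (allL N8025 (tt N6525 F25777) (tt N9618 D9715) (tt N9602 (iv F31026)) (tt N8706 (iv F28086)) (tt N9611 (iv F31056)) (tt N6396 (iv D8118)) (tt N6400 F25778) (tt N8700 (iv F28067)))
theorem Q8027 : ∀ i, i < 8027 → P i := stepQ 8026 Q8026 (allL N8026 (tt N6527 F25779) (tt N6736 F25780) (tt N6398 F25781) (tt N9619 D9716) (tt N6397 (iv D8119)) (tt N6755 F25782) (tt N9620 D9717) (tt N6402 F25783))
theorem Q8028 : ∀ i, i < 8028 → P i := stepQ 8027 Q8027 (allL N8027 (tt N6528 F25784) (tt N7813 F25785) (tt N6399 F25786) (tt N9604 (iv F31036)) (tt N9620 (iv F31088)) (tt N9621 D9718) (tt N6397 (iv D8120)) (tt N8259 (iv F26568)))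
theorem Q8029 : ∀ i, i < 8029 → P i := stepQ 8028 Q8028 (allL N8028 (tt N6529 F25787) (tt N6408 F25788) (tt N9620 (iv F31087)) (tt N9615 (iv F31072)) (tt N6399 F25789) (tt N9622 D9719) (tt N6398 (iv D8121)) (tt N8252 (iv F26541)))
theorem Q8030 : ∀ i, i < 8030 → P i := stepQ 8029 Q8029 (allL N8029 (tt N6530 F25790) (tt N8258 (iv F26563)) (tt N9621 (iv F31090)) (tt N6400 F25791) (tt N9622 (iv F31093)) (tt N6399 (iv D8122)) (tt N8706 (iv F28088)) (tt N8257 F26561))
theorem Q8031 : ∀ i, i < 8031 → P i := stepQ 8030 Q8030 (allL N8030 (tt N8282 (iv F26642)) (tt N6400 (iv D8123)) (tt N9623 D9720) (tt N8258 F26565) (tt N9617 (iv F31078)) (tt N6409 F25792) (tt N9618 (iv F31081)) (tt N8295 (iv F26685)))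
theorem Q8032 : ∀ i, i < 8032 → P i := stepQ 8031 Q8031 (allL N8031 (tt N6539 F25793) (tt N8265 (iv F26585)) (tt N8031 F25794) (tt N6402 (iv D8124)) (tt N6923 F25795) (tt N6436 F25796) (tt N8733 (iv F28169)) (tt N8301 (iv F26709)))
theorem Q8033 : ∀ i, i < 8033 → P i := stepQ 8032 Q8032 (allL N8032 (tt N8032 F25797) (tt N6403 (iv D8125)) (tt N9612 (iv F31059)) (tt N8032 F25798) (tt N8457 F27263) (tt N8032 F25799) (tt N7857 F25800) (tt N8032 F25801))
theorem Q8034 : ∀ i, i < 8034 → P i := stepQ 8033 Q8033 (allL N8033 (tt N6418 F25802) (tt N9615 (iv F31071)) (tt N7859 F25803) (tt N6408 F25804) (tt N6405 F25805) (tt N8253 (iv F26544)) (tt N6404 (iv D8126)) (tt N7853 (iv F25806)))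
theorem Q8035 : ∀ i, i < 8035 → P i := stepQ 8034 Q8034 (allL N8034 (tt N6419 F25807) (tt N9624 D9721) (tt N7845 F25808) (tt N6406 F25809) (tt N8253 (iv F26543)) (tt N6405 (iv D8127)) (tt N8446 (iv F27216)) (tt N7840 F25810))
theorem Q8036 : ∀ i, i < 8036 → P i := stepQ 8035 Q8035 (allL N8035 (tt N8285 (iv F26649)) (tt N6406 (iv D8128)) (tt N8491 (iv F27378)) (tt N9624 (iv F31095)) (tt N6409 F25811) (tt N9617 (iv F31079)) (tt N8454 (iv F27246)) (tt N7819 F25812))
theorem Q8037 : ∀ i, i < 8037 → P i := stepQ 8036 Q8036 (allL N8036 (tt N8284 (iv F26647)) (tt N8036 F25813) (tt N6409 (iv D8129)) (tt N9625 D9722) (tt N8491 (iv F27380)) (tt N9623 (iv F31094)) (tt N8453 (iv F27239)) (tt N8296 (iv F26688)))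
theorem Q8038 : ∀ i, i < 8038 → P i := stepQ 8037 Q8037 (allL N8037 (tt N7623 F25814) (tt N8195 (iv F26328)) (tt N8730 (iv F28159)) (tt N6412 F25815) (tt N8267 (iv F26594)) (tt N6410 (iv D8130)) (tt N7622 F25816) (tt N8194 F26326))
theorem Q8039 : ∀ i, i < 8039 → P i := stepQ 8038 Q8038 (allL N8038 (tt N6412 F25817) (tt N9626 D9723) (tt N6936 F25818) (tt N7623 F25819) (tt N8047 (iv F25853)) (tt N6411 (iv D8131)) (tt N7495 F25820) (tt N9627 D9724))
theorem Q8040 : ∀ i, i < 8040 → P i := stepQ 8039 Q8039 (allL N8039 (tt N6413 F25821) (tt N6422 F25822) (tt N6937 F25823) (tt N6626 (iv F25825)) (tt N8048 (iv F25859)) (tt N9627 (iv F31105)) (tt N8039 F25824) (tt N6411 (iv D8132)))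
theorem Q8041 : ∀ i, i < 8041 → P i := stepQ 8040 Q8040 (allL N8040 (tt N8209 (iv F26365)) (tt N6412 (iv D8133)) (tt N8780 (iv F28303)) (tt N8195 F26332) (tt N6495 F25826) (tt N6414 F25827) (tt N7059 F25828) (tt N9628 D9725))
theorem Q8042 : ∀ i, i < 8042 → P i := stepQ 8041 Q8041 (allL N8041 (tt N9627 (iv F31102)) (tt N9628 (iv F31107)) (tt N6942 F25829) (tt N9629 D9726) (tt N8051 (iv F25870)) (tt N6413 F25830) (tt N9630 D9727) (tt N6412 (iv D8134)))
theorem Q8043 : ∀ i, i < 8043 → P i := stepQ 8042 Q8042 (allL N8042 (tt N6626 F25831) (tt N6416 F25832) (tt N9151 (iv F29517)) (tt N6413 (iv D8135)) (tt N9164 (iv F29564)) (tt N9629 (iv F31111)) (tt N8042 F25833) (tt N8228 (iv F26437)))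
theorem Q8044 : ∀ i, i < 8044 → P i := stepQ 8043 Q8043 (allL N8043 (tt N8185 (iv F26293)) (tt N6415 F25834) (tt N8783 (iv F28313)) (tt N8177 (iv F26278)) (tt N6496 F25835) (tt N9628 (iv F31109)) (tt N6769 F25836) (tt N6414 (iv D8136)))
theorem Q8045 : ∀ i, i < 8045 → P i := stepQ 8044 Q8044 (allL N8044 (tt N6423 F25837) (tt N9164 (iv F29563)) (tt N6624 F25838) (tt N7820 F25839) (tt N6416 (iv D8137)) (tt N7821 F25840) (tt N8044 F25841) (tt N7837 F25842))
theorem Q8046 : ∀ i, i < 8046 → P i := stepQ 8045 Q8045 (allL N8045 (tt N8217 (iv F26392)) (tt N6421 (iv D8138)) (tt N9105 (iv F29370)) (tt N8215 (iv F26387)) (tt N8049 (iv F25862)) (tt N9626 (iv F31099)) (tt N8046 (iv F25847)) (tt N6646 F25843))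
theorem Q8047 : ∀ i, i < 8047 → P i := stepQ 8046 Q8046 (allL N8046 (tt N7494 F25844) (tt N6424 (iv D8139)) (tt N7510 (iv F25849)) (tt N8918 (iv F28760)) (tt N6428 F25845) (tt N6956 F25846) (tt N8045 F25847) (tt N6650 F25848))
theorem Q8048 : ∀ i, i < 8048 → P i := stepQ 8047 Q8047 (allL N8047 (tt N6430 F25850) (tt N9631 D9728) (tt N7090 F25851) (tt N6639 F25852) (tt N8038 F25853) (tt N6425 (iv D8140)) (tt N6958 F25854) (tt N9632 D9729))
theorem Q8049 : ∀ i, i < 8049 → P i := stepQ 8048 Q8048 (allL N8048 (tt N6431 F25855) (tt N6427 F25856) (tt N7091 F25857) (tt N6682 F25858) (tt N8039 F25859) (tt N9632 (iv F31124)) (tt N8048 F25860) (tt N6425 (iv D8141)))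
theorem Q8050 : ∀ i, i < 8050 → P i := stepQ 8049 Q8049 (allL N8049 (tt N8061 (iv F25905)) (tt N6426 (iv D8142)) (tt N9113 (iv F29395)) (tt N6641 F25861) (tt N8045 F25862) (tt N9631 (iv F31116)) (tt N6428 F25863) (tt N6676 F25864))
theorem Q8051 : ∀ i, i < 8051 → P i := stepQ 8050 Q8050 (allL N8050 (tt N7511 F25865) (tt N9105 (iv F29369)) (tt N6428 (iv D8143)) (tt N9633 D9730) (tt N7510 F25866) (tt N6960 F25867) (tt N9113 (iv F29397)) (tt N6649 F25868))
theorem Q8052 : ∀ i, i < 8052 → P i := stepQ 8051 Q8051 (allL N8051 (tt N9632 (iv F31119)) (tt N8098 (iv F26035)) (tt N7880 F25869) (tt N9634 D9731) (tt N8041 F25870) (tt N6431 F25871) (tt N9635 D9732) (tt N6430 (iv D8144)))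
theorem Q8053 : ∀ i, i < 8053 → P i := stepQ 8052 Q8052 (allL N8052 (tt N6682 F25872) (tt N6432 F25873) (tt N9636 D9733) (tt N6431 (iv D8145)) (tt N9470 (iv F30489)) (tt N9634 (iv F31130)) (tt N8052 F25874) (tt N6666 F25875))
theorem Q8054 : ∀ i, i < 8054 → P i := stepQ 8053 Q8053 (allL N8053 (tt N6486 F25876) (tt N6440 (iv D8146)) (tt N6903 F25877) (tt N6912 F25878) (tt N7183 F25879) (tt N6905 F25880) (tt N8087 (iv F25995)) (tt N6699 F25881))
theorem Q8055 : ∀ i, i < 8055 → P i := stepQ 8054 Q8054 (allL N8054 (tt N8291 (iv F26672)) (tt N7070 F25882) (tt N6445 F25883) (tt N9637 D9734) (tt N7074 F25884) (tt N6507 F25885) (tt N9638 D9735) (tt N6441 (iv D8147)))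
theorem Q8056 : ∀ i, i < 8056 → P i := stepQ 8055 Q8055 (allL N8055 (tt N7534 F25886) (tt N7071 F25887) (tt N6446 F25888) (tt N7174 F25889) (tt N7075 F25890) (tt N9639 D9736) (tt N6442 (iv D8148)) (tt N9638 (iv F31150)))
theorem Q8057 : ∀ i, i < 8057 → P i := stepQ 8056 Q8056 (allL N8056 (tt N7514 F25891) (tt N6711 F25892) (tt N7150 F25893) (tt N6444 F25894) (tt N8901 (iv F28716)) (tt N9640 D9737) (tt N6443 (iv D8149)) (tt N8898 (iv F28703)))
theorem Q8058 : ∀ i, i < 8058 → P i := stepQ 8057 Q8057 (allL N8057 (tt N8292 (iv F26675)) (tt N9641 D9738) (tt N6448 F25895) (tt N9640 (iv F31158)) (tt N7299 F25896) (tt N6444 (iv D8150)) (tt N9639 (iv F31155)) (tt N6513 F25897))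
theorem Q8059 : ∀ i, i < 8059 → P i := stepQ 8058 Q8058 (allL N8058 (tt N8293 (iv F26678)) (tt N7429 F25898) (tt N9638 (iv F31148)) (tt N7218 F25899) (tt N7436 F25900) (tt N9642 D9739) (tt N6445 (iv D8151)) (tt N6446 F25901))
theorem Q8060 : ∀ i, i < 8060 → P i := stepQ 8059 Q8059 (allL N8059 (tt N8294 (iv F26682)) (tt N9643 D9740) (tt N9639 (iv F31152)) (tt N9085 (iv F29292)) (tt N7438 F25902) (tt N6446 (iv D8152)) (tt N6448 F25903) (tt N9642 (iv F31166)))
theorem Q8061 : ∀ i, i < 8061 → P i := stepQ 8060 Q8060 (allL N8060 (tt N8290 (iv F26669)) (tt N9644 D9741) (tt N9106 (iv F29372)) (tt N6448 F25904) (tt N9086 (iv F29299)) (tt N6447 (iv D8153)) (tt N9085 (iv F29294)) (tt N9645 D9742))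
theorem Q8062 : ∀ i, i < 8062 → P i := stepQ 8061 Q8061 (allL N8061 (tt N8049 F25905) (tt N6454 F25906) (tt N9107 (iv F29377)) (tt N6531 F25907) (tt N8217 (iv F26394)) (tt N9645 (iv F31177)) (tt N6449 F25908) (tt N6447 (iv D8154)))
theorem Q8063 : ∀ i, i < 8063 → P i := stepQ 8062 Q8062 (allL N8062 (tt N9646 D9743) (tt N6448 (iv D8155)) (tt N9647 D9744) (tt N9644 (iv F31171)) (tt N7586 F25909) (tt N6455 F25910) (tt N9643 (iv F31169)) (tt N6532 F25911))
theorem Q8064 : ∀ i, i < 8064 → P i := stepQ 8063 Q8063 (allL N8063 (tt N7118 F25912) (tt N6451 F25913) (tt N7137 F25914) (tt N6721 F25915) (tt N8068 (iv F25937)) (tt N9648 D9745) (tt N6450 (iv D8156)) (tt N9649 D9746))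
theorem Q8065 : ∀ i, i < 8065 → P i := stepQ 8064 Q8064 (allL N8064 (tt N6479 F25916) (tt N9649 (iv F31192)) (tt N6454 F25917) (tt N8356 (iv F26889)) (tt N8089 (iv F26004)) (tt N6487 F25918) (tt N6460 F25919) (tt N6451 (iv D8157)))
theorem Q8066 : ∀ i, i < 8066 → P i := stepQ 8065 Q8065 (allL N8065 (tt N6496 F25920) (tt N6453 (iv D8158)) (tt N9650 D9747) (tt N6455 F25921) (tt N8185 (iv F26295)) (tt N9644 (iv F31172)) (tt N6762 F25922) (tt N6492 F25923))
theorem Q8067 : ∀ i, i < 8067 → P i := stepQ 8066 Q8066 (allL N8066 (tt N6455 (iv D8159)) (tt N6480 F25924) (tt N9651 D9748) (tt N6496 F25925) (tt N7588 F25926) (tt N9646 (iv F31182)) (tt N6776 F25927) (tt N6552 F25928))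
theorem Q8068 : ∀ i, i < 8068 → P i := stepQ 8067 Q8067 (allL N8067 (tt N9651 (iv F31199)) (tt N6727 F25929) (tt N6455 (iv D8160)) (tt N9652 D9749) (tt N7589 F25930) (tt N9647 (iv F31185)) (tt N7582 F25931) (tt N6553 F25932))
theorem Q8069 : ∀ i, i < 8069 → P i := stepQ 8068 Q8068 (allL N8068 (tt N6457 F25933) (tt N6481 F25934) (tt N7130 F25935) (tt N6464 F25936) (tt N8063 F25937) (tt N9653 D9750) (tt N6456 (iv D8161)) (tt N9654 D9751))
theorem Q8070 : ∀ i, i < 8070 → P i := stepQ 8069 Q8069 (allL N8069 (tt N9653 (iv F31205)) (tt N8794 (iv F28342)) (tt N8754 (iv F28229)) (tt N6469 F25938) (tt N8728 (iv F28154)) (tt N6457 (iv D8162)) (tt N8726 (iv F28147)) (tt N9655 D9752))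
theorem Q8071 : ∀ i, i < 8071 → P i := stepQ 8070 Q8070 (allL N8070 (tt N9654 (iv F31210)) (tt N6460 F25939) (tt N8755 (iv F28235)) (tt N9656 D9753) (tt N8729 (iv F28158)) (tt N9655 (iv F31217)) (tt N9649 (iv F31194)) (tt N6457 (iv D8163)))
theorem Q8072 : ∀ i, i < 8072 → P i := stepQ 8071 Q8071 (allL N8071 (tt N6484 F25940) (tt N8729 (iv F28156)) (tt N6461 F25941) (tt N8090 (iv F26007)) (tt N6460 F25942) (tt N6485 F25943) (tt N8089 F26003) (tt N6458 (iv D8164)))
theorem Q8073 : ∀ i, i < 8073 → P i := stepQ 8072 Q8072 (allL N8072 (tt N6482 F25944) (tt N9656 (iv F31219)) (tt N6565 F25945) (tt N6460 (iv D8165)) (tt N7829 (iv F25948)) (tt N6481 F25946) (tt N8356 (iv F26892)) (tt N6475 F25947))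
theorem Q8074 : ∀ i, i < 8074 → P i := stepQ 8073 Q8073 (allL N8073 (tt N6466 F25949) (tt N7081 F25950) (tt N7002 F25951) (tt N8154 (iv F26203)) (tt N6463 F25952) (tt N6462 (iv D8166)) (tt N9657 D9754) (tt N6734 F25953))
theorem Q8075 : ∀ i, i < 8075 → P i := stepQ 8074 Q8074 (allL N8074 (tt N6467 F25954) (tt N6485 F25955) (tt N7003 F25956) (tt N8331 (iv F26819)) (tt N6464 F25957) (tt N9658 D9755) (tt N6462 (iv D8167)) (tt N7599 F25958))
theorem Q8076 : ∀ i, i < 8076 → P i := stepQ 8075 Q8075 (allL N8075 (tt N6468 F25959) (tt N7082 F25960) (tt N7004 F25961) (tt N7102 F25962) (tt N9657 (iv F31225)) (tt N9659 D9756) (tt N6463 (iv D8168)) (tt N9660 D9757))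
theorem Q8077 : ∀ i, i < 8077 → P i := stepQ 8076 Q8076 (allL N8076 (tt N6469 F25963) (tt N9655 (iv F31216)) (tt N7005 F25964) (tt N9653 (iv F31207)) (tt N9658 (iv F31228)) (tt N6464 (iv D8169)) (tt N9659 (iv F31233)) (tt N8794 (iv F28345)))
theorem Q8078 : ∀ i, i < 8078 → P i := stepQ 8077 Q8077 (allL N8077 (tt N8331 (iv F26817)) (tt N6471 F25965) (tt N8179 (iv F26284)) (tt N6467 F25966) (tt N8157 (iv F26218)) (tt N9661 D9758) (tt N6465 (iv D8170)) (tt N9662 D9759))
theorem Q8079 : ∀ i, i < 8079 → P i := stepQ 8078 Q8078 (allL N8078 (tt N9657 (iv F31222)) (tt N8160 (iv F26223)) (tt N7009 F25967) (tt N8156 (iv F26212)) (tt N6468 F25968) (tt N9663 D9760) (tt N6466 (iv D8171)) (tt N9664 D9761))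
theorem Q8080 : ∀ i, i < 8080 → P i := stepQ 8079 Q8079 (allL N8079 (tt N9658 (iv F31226)) (tt N9665 D9762) (tt N7010 F25969) (tt N9661 (iv F31238)) (tt N6469 F25970) (tt N6467 (iv D8172)) (tt N9663 (iv F31244)) (tt N7601 F25971))
theorem Q8081 : ∀ i, i < 8081 → P i := stepQ 8080 Q8080 (allL N8080 (tt N9659 (iv F31230)) (tt N9666 D9763) (tt N7011 F25972) (tt N8726 (iv F28145)) (tt N9663 (iv F31243)) (tt N6468 (iv D8173)) (tt N6469 F25973) (tt N9667 D9764))
theorem Q8082 : ∀ i, i < 8082 → P i := stepQ 8081 Q8081 (allL N8081 (tt N9660 (iv F31234)) (tt N8734 (iv F28170)) (tt N7012 F25974) (tt N9668 D9765) (tt N9664 (iv F31246)) (tt N9667 (iv F31253)) (tt N6739 F25975) (tt N6468 (iv D8174)))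
theorem Q8083 : ∀ i, i < 8083 → P i := stepQ 8082 Q8082 (allL N8082 (tt N9669 D9766) (tt N6469 (iv D8175)) (tt N8795 (iv F28347)) (tt N8794 (iv F28344)) (tt N9665 (iv F31248)) (tt N6473 F25976) (tt N9666 (iv F31251)) (tt N9670 D9767))
theorem Q8084 : ∀ i, i < 8084 → P i := stepQ 8083 Q8083 (allL N8083 (tt N8794 (iv F28341)) (tt N9670 (iv F31257)) (tt N7014 F25977) (tt N9669 (iv F31255)) (tt N7601 F25978) (tt N6470 F25979) (tt N9671 D9768) (tt N6469 (iv D8176)))
theorem Q8085 : ∀ i, i < 8085 → P i := stepQ 8084 Q8084 (allL N8084 (tt N6473 F25980) (tt N6475 F25981) (tt N8674 (iv F28006)) (tt N6470 (iv D8177)) (tt N8092 (iv F26019)) (tt N9669 (iv F31256)) (tt N6741 F25982) (tt N9656 (iv F31220)))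
theorem Q8086 : ∀ i, i < 8086 → P i := stepQ 8085 Q8085 (allL N8085 (tt N6488 F25983) (tt N8511 (iv F27452)) (tt N8085 F25984) (tt N6472 F25985) (tt N7818 F25986) (tt N6471 (iv D8178)) (tt N7817 F25987) (tt N6746 (iv F25988)))
theorem Q8087 : ∀ i, i < 8087 → P i := stepQ 8086 Q8086 (allL N8086 (tt N6489 F25989) (tt N9662 (iv F31239)) (tt N8086 F25990) (tt N6753 F25991) (tt N8351 (iv F26869)) (tt N6746 F25992) (tt N6747 F25993) (tt N6471 (iv D8179)))
theorem Q8088 : ∀ i, i < 8088 → P i := stepQ 8087 Q8087 (allL N8087 (tt N8092 (iv F26015)) (tt N6472 (iv D8180)) (tt N8500 (iv F27416)) (tt N8511 (iv F27454)) (tt N6473 F25994) (tt N9665 (iv F31249)) (tt N8053 F25995) (tt N7602 F25996))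
theorem Q8089 : ∀ i, i < 8089 → P i := stepQ 8088 Q8088 (allL N8088 (tt N9656 (iv F31218)) (tt N6474 F25997) (tt N8796 (iv F28350)) (tt N9654 (iv F31213)) (tt N7602 F25998) (tt N9670 (iv F31259)) (tt N9672 D9769) (tt N6473 (iv D8181)))
theorem Q8090 : ∀ i, i < 8090 → P i := stepQ 8089 Q8089 (allL N8089 (tt N6483 F25999) (tt N9654 (iv F31211)) (tt N6589 F26000) (tt N6474 (iv D8182)) (tt N8064 F26004) (tt N6475 F26001) (tt N8071 (iv F26003)) (tt N6481 F26002))
theorem Q8091 : ∀ i, i < 8091 → P i := stepQ 8090 Q8090 (allL N8090 (tt N6490 F26005) (tt N9672 (iv F31263)) (tt N6478 F26006) (tt N8071 F26007) (tt N6723 F26008) (tt N6722 F26009) (tt N6474 (iv D8183)) (tt N8314 (iv F26760)))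
theorem Q8092 : ∀ i, i < 8092 → P i := stepQ 8091 Q8091 (allL N8091 (tt N7172 F26010) (tt N6478 F26011) (tt N9149 (iv F29509)) (tt N6592 F26012) (tt N6725 F26013) (tt N9383 (iv F30205)) (tt N6477 (iv D8184)) (tt N7530 F26014))
theorem Q8093 : ∀ i, i < 8093 → P i := stepQ 8092 Q8092 (allL N8092 (tt N8087 F26015) (tt N6487 F26016) (tt N7079 F26017) (tt N7097 F26018) (tt N8084 F26019) (tt N9673 D9770) (tt N6486 (iv D8185)) (tt N9206 (iv F29714)))
theorem Q8094 : ∀ i, i < 8094 → P i := stepQ 8093 Q8093 (allL N8093 (tt N6494 F26020) (tt N7079 F26021) (tt N6492 F26022) (tt N7075 F26023) (tt N8211 (iv F26373)) (tt N9674 D9771) (tt N6491 (iv D8186)) (tt N9650 (iv F31198)))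
theorem Q8095 : ∀ i, i < 8095 → P i := stepQ 8094 Q8094 (allL N8094 (tt N6495 F26024) (tt N9645 (iv F31175)) (tt N9674 (iv F31272)) (tt N8279 (iv F26630)) (tt N8209 F26367) (tt N6492 (iv D8187)) (tt N7050 F26025) (tt N9644 F31173))
theorem Q8096 : ∀ i, i < 8096 → P i := stepQ 8095 Q8095 (allL N8095 (tt N7075 F26026) (tt N7536 F26027) (tt N7434 F26028) (tt N6494 F26029) (tt N7534 F26030) (tt N9675 D9772) (tt N6493 (iv D8188)) (tt N9676 D9773))
theorem Q8097 : ∀ i, i < 8097 → P i := stepQ 8096 Q8096 (allL N8096 (tt N9674 (iv F31271)) (tt N9677 D9774) (tt N6495 F26031) (tt N9675 (iv F31277)) (tt N8780 F28306) (tt N6494 (iv D8189)) (tt N7063 F26032) (tt N9678 D9775))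
theorem Q8098 : ∀ i, i < 8098 → P i := stepQ 8097 Q8097 (allL N8097 (tt N9650 (iv F31195)) (tt N8785 (iv F28318)) (tt N6496 F26033) (tt N9679 D9776) (tt N8783 (iv F28314)) (tt N9678 (iv F31290)) (tt N6774 F26034) (tt N6494 (iv D8190)))
theorem Q8099 : ∀ i, i < 8099 → P i := stepQ 8098 Q8098 (allL N8098 (tt N9644 (iv F31170)) (tt N8051 F26035) (tt N9678 (iv F31289)) (tt N9646 (iv F31180)) (tt N9628 (iv F31108)) (tt N6496 F26036) (tt N9680 D9777) (tt N6495 (iv D8191)))
theorem Q8100 : ∀ i, i < 8100 → P i := stepQ 8099 Q8099 (allL N8099 (tt N7407 F26037) (tt N6968 F26038) (tt N8099 F26039) (tt N6500 F26040) (tt N6972 F26041) (tt N6505 F26042) (tt N6497 (iv D8192)) (tt N9681 D9778))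
theorem Q8101 : ∀ i, i < 8101 → P i := stepQ 8100 Q8100 (allL N8100 (tt N6871 F26043) (tt N6778 F26044) (tt N7872 (iv F26048)) (tt N6498 (iv D8193)) (tt N6838 F26045) (tt N7371 F26046) (tt N9682 D9779) (tt N6502 F26047))
theorem Q8102 : ∀ i, i < 8102 → P i := stepQ 8101 Q8101 (allL N8101 (tt N6880 F26049) (tt N6779 F26050) (tt N8101 F26051) (tt N9682 (iv F31304)) (tt N6843 F26052) (tt N9586 (iv F30949)) (tt N6498 (iv D8194)) (tt N6786 F26053))
theorem Q8103 : ∀ i, i < 8103 → P i := stepQ 8102 Q8102 (allL N8102 (tt N7411 F26054) (tt N6500 F26055) (tt N8102 F26056) (tt N6968 F26057) (tt N6505 F26058) (tt N6972 F26059) (tt N6499 (iv D8195)) (tt N9683 D9780))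
theorem Q8104 : ∀ i, i < 8104 → P i := stepQ 8103 Q8103 (allL N8103 (tt N6771 F26060) (tt N6501 F26061) (tt N8103 F26062) (tt N9684 D9781) (tt N6506 F26063) (tt N6780 F26064) (tt N9685 D9782) (tt N6499 (iv D8196)))
theorem Q8105 : ∀ i, i < 8105 → P i := stepQ 8104 Q8104 (allL N8104 (tt N8697 (iv F28054)) (tt N9683 (iv F31308)) (tt N6514 F26065) (tt N9686 D9783) (tt N6507 F26066) (tt N7074 F26067) (tt N9687 D9784) (tt N6500 (iv D8197)))
theorem Q8106 : ∀ i, i < 8106 → P i := stepQ 8105 Q8105 (allL N8105 (tt N7395 F26068) (tt N9684 (iv F31313)) (tt N7907 (iv F26071)) (tt N6501 (iv D8198)) (tt N7373 (iv F26072)) (tt N6502 F26069) (tt N9688 D9785) (tt N7371 F26070))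
theorem Q8107 : ∀ i, i < 8107 → P i := stepQ 8106 Q8106 (allL N8106 (tt N9596 (iv F30996)) (tt N9685 (iv F31319)) (tt N6516 F26073) (tt N9688 (iv F31328)) (tt N6509 F26074) (tt N9689 D9786) (tt N6501 (iv D8199)) (tt N9687 (iv F31325)))
theorem Q8108 : ∀ i, i < 8108 → P i := stepQ 8107 Q8107 (allL N8107 (tt N9597 (iv F31001)) (tt N8107 F26075) (tt N6502 (iv D8200)) (tt N6517 F26076) (tt N7873 (iv F26079)) (tt N7907 F26077) (tt N9690 D9787) (tt N7872 F26078))
theorem Q8109 : ∀ i, i < 8109 → P i := stepQ 8108 Q8108 (allL N8108 (tt N6873 F26080) (tt N6783 F26081) (tt N7873 F26082) (tt N6511 F26083) (tt N6502 (iv D8201)) (tt N7373 F26084) (tt N9691 D9788) (tt N6838 F26085))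
theorem Q8110 : ∀ i, i < 8110 → P i := stepQ 8109 Q8109 (allL N8109 (tt N9598 (iv F31006)) (tt N6784 F26086) (tt N9690 (iv F31334)) (tt N6503 F26087) (tt N9691 (iv F31342)) (tt N9692 D9789) (tt N6502 (iv D8202)) (tt N9693 D9790))
theorem Q8111 : ∀ i, i < 8111 → P i := stepQ 8110 Q8110 (allL N8110 (tt N9599 (iv F31011)) (tt N9694 D9791) (tt N6520 F26088) (tt N9692 (iv F31343)) (tt N6513 F26089) (tt N6503 (iv D8203)) (tt N9689 (iv F31332)) (tt N7299 F26090))
theorem Q8112 : ∀ i, i < 8112 → P i := stepQ 8111 Q8111 (allL N8111 (tt N6505 F26091) (tt N8721 (iv F28124)) (tt N8111 F26092) (tt N7073 F26093) (tt N7411 F26094) (tt N7407 F26095) (tt N6504 (iv D8204)) (tt N9695 D9792))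
theorem Q8113 : ∀ i, i < 8113 → P i := stepQ 8112 Q8112 (allL N8112 (tt N9695 (iv F31352)) (tt N6507 F26096) (tt N8112 F26097) (tt N9696 D9793) (tt N9683 (iv F31310)) (tt N9681 (iv F31299)) (tt N9697 D9794) (tt N6505 (iv D8205)))
theorem Q8114 : ∀ i, i < 8114 → P i := stepQ 8113 Q8113 (allL N8113 (tt N6772 F26098) (tt N6509 F26099) (tt N8113 F26100) (tt N6760 F26101) (tt N9685 (iv F31321)) (tt N9698 D9795) (tt N6506 (iv D8206)) (tt N9697 (iv F31362)))
theorem Q8115 : ∀ i, i < 8115 → P i := stepQ 8114 Q8114 (allL N8114 (tt N8670 (iv F27998)) (tt N9696 (iv F31357)) (tt N8498 (iv F27408)) (tt N6507 (iv D8207)) (tt N9699 D9796) (tt N9637 (iv F31144)) (tt N9700 D9797) (tt N7076 F26102))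
theorem Q8116 : ∀ i, i < 8116 → P i := stepQ 8115 Q8115 (allL N8115 (tt N8698 (iv F28058)) (tt N9697 (iv F31360)) (tt N6521 F26103) (tt N9700 (iv F31368)) (tt N9687 (iv F31324)) (tt N9701 D9798) (tt N6507 (iv D8208)) (tt N6509 F26104))
theorem Q8117 : ∀ i, i < 8117 → P i := stepQ 8116 Q8116 (allL N8116 (tt N7187 F26105) (tt N6757 F26106) (tt N6750 F26107) (tt N7373 F26108) (tt N6508 (iv D8209)) (tt N6511 F26109) (tt N9702 D9799) (tt N7078 F26110))
theorem Q8118 : ∀ i, i < 8118 → P i := stepQ 8117 Q8117 (allL N8117 (tt N9601 (iv F31020)) (tt N6760 F26111) (tt N6752 F26112) (tt N6509 F26113) (tt N9702 (iv F31375)) (tt N9703 D9800) (tt N6508 (iv D8210)) (tt N9704 D9801))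
theorem Q8119 : ∀ i, i < 8119 → P i := stepQ 8118 Q8118 (allL N8118 (tt N9602 (iv F31025)) (tt N9705 D9802) (tt N6525 F26114) (tt N9703 (iv F31377)) (tt N9689 (iv F31331)) (tt N6509 (iv D8211)) (tt N6513 F26115) (tt N9701 (iv F31370)))
theorem Q8120 : ∀ i, i < 8120 → P i := stepQ 8119 Q8119 (allL N8119 (tt N9603 (iv F31028)) (tt N6734 F26116) (tt N6511 F26117) (tt N8343 (iv F26844)) (tt N6510 (iv D8212)) (tt N6750 F26118) (tt N9706 D9803) (tt N7081 F26119))
theorem Q8121 : ∀ i, i < 8121 → P i := stepQ 8120 Q8120 (allL N8120 (tt N9604 (iv F31033)) (tt N6735 F26120) (tt N6512 F26121) (tt N6528 F26122) (tt N9706 (iv F31385)) (tt N9707 D9804) (tt N6510 (iv D8213)) (tt N9708 D9805))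
theorem Q8122 : ∀ i, i < 8122 → P i := stepQ 8121 Q8121 (allL N8121 (tt N9605 (iv F31037)) (tt N6792 F26123) (tt N9706 (iv F31384)) (tt N9691 (iv F31341)) (tt N6512 F26124) (tt N9709 D9806) (tt N6511 (iv D8214)) (tt N8886 (iv F28655)))
theorem Q8123 : ∀ i, i < 8123 → P i := stepQ 8122 Q8122 (allL N8122 (tt N9606 (iv F31041)) (tt N9710 D9807) (tt N9707 (iv F31386)) (tt N6513 F26125) (tt N9709 (iv F31392)) (tt N6512 (iv D8215)) (tt N9703 (iv F31378)) (tt N9711 D9808))
theorem Q8124 : ∀ i, i < 8124 → P i := stepQ 8123 Q8123 (allL N8123 (tt N9607 (iv F31043)) (tt N6794 F26126) (tt N9708 (iv F31390)) (tt N8898 (iv F28700)) (tt N8886 (iv F28653)) (tt N9711 (iv F31395)) (tt N7085 F26127) (tt N6512 (iv D8216)))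
theorem Q8125 : ∀ i, i < 8125 → P i := stepQ 8124 Q8124 (allL N8124 (tt N9712 D9809) (tt N6513 (iv D8217)) (tt N9713 D9810) (tt N9710 (iv F31393)) (tt N9694 (iv F31349)) (tt N6795 F26128) (tt N9705 (iv F31382)) (tt N9641 (iv F31162)))
theorem Q8126 : ∀ i, i < 8126 → P i := stepQ 8125 Q8125 (allL N8125 (tt N8688 (iv F28029)) (tt N8125 F26129) (tt N9714 D9811) (tt N6514 (iv D8218)) (tt N8506 (iv F27434)) (tt N7435 F26130) (tt N9715 D9812) (tt N8125 F26131))
theorem Q8127 : ∀ i, i < 8127 → P i := stepQ 8126 Q8126 (allL N8126 (tt N8699 (iv F28061)) (tt N8126 F26132) (tt N9687 (iv F31323)) (tt N9715 (iv F31402)) (tt N6521 F26133) (tt N9716 D9813) (tt N6514 (iv D8219)) (tt N6516 F26134))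
theorem Q8128 : ∀ i, i < 8128 → P i := stepQ 8127 Q8127 (allL N8127 (tt N9609 (iv F31048)) (tt N7947 (iv F26138)) (tt N6515 (iv D8220)) (tt N7907 F26135) (tt N9717 D9814) (tt N6517 F26136) (tt N9718 D9815) (tt N8127 F26137))
theorem Q8129 : ∀ i, i < 8129 → P i := stepQ 8128 Q8128 (allL N8128 (tt N8723 (iv F28131)) (tt N8128 F26139) (tt N9717 (iv F31407)) (tt N6523 F26140) (tt N6515 (iv D8221)) (tt N6518 F26141) (tt N9719 D9816) (tt N8128 F26142))
theorem Q8130 : ∀ i, i < 8130 → P i := stepQ 8129 Q8129 (allL N8129 (tt N9610 (iv F31053)) (tt N8129 F26143) (tt N9718 (iv F31412)) (tt N6516 F26144) (tt N9719 (iv F31417)) (tt N9720 D9817) (tt N6515 (iv D8222)) (tt N9721 D9818))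
theorem Q8131 : ∀ i, i < 8131 → P i := stepQ 8130 Q8130 (allL N8130 (tt N9611 (iv F31055)) (tt N9722 D9819) (tt N9689 (iv F31330)) (tt N9720 (iv F31419)) (tt N6525 F26145) (tt N6516 (iv D8223)) (tt N6520 F26146) (tt N9716 (iv F31405)))
theorem Q8132 : ∀ i, i < 8132 → P i := stepQ 8131 Q8131 (allL N8131 (tt N9613 (iv F31063)) (tt N8131 F26147) (tt N6518 F26148) (tt N9723 D9820) (tt N6517 (iv D8224)) (tt N9717 (iv F31409)) (tt N9724 D9821) (tt N8131 F26149))
theorem Q8133 : ∀ i, i < 8133 → P i := stepQ 8132 Q8132 (allL N8132 (tt N9614 (iv F31066)) (tt N8132 F26150) (tt N6519 F26151) (tt N9690 (iv F31335)) (tt N9724 (iv F31435)) (tt N9725 D9822) (tt N6517 (iv D8225)) (tt N8526 F27507))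
theorem Q8134 : ∀ i, i < 8134 → P i := stepQ 8133 Q8133 (allL N8133 (tt N9615 (iv F31070)) (tt N6543 F26152) (tt N9724 (iv F31434)) (tt N6529 F26153) (tt N6519 F26154) (tt N9726 D9823) (tt N6518 (iv D8226)) (tt N8212 (iv F26378)))
theorem Q8135 : ∀ i, i < 8135 → P i := stepQ 8134 Q8134 (allL N8134 (tt N9616 (iv F31075)) (tt N9727 D9824) (tt N9725 (iv F31436)) (tt N6520 F26155) (tt N9726 (iv F31438)) (tt N6519 (iv D8227)) (tt N9720 (iv F31420)) (tt N9728 D9825))
theorem Q8136 : ∀ i, i < 8136 → P i := stepQ 8135 Q8135 (allL N8135 (tt N7851 F26156) (tt N6545 F26157) (tt N8526 (iv F27505)) (tt N7585 F26158) (tt N8212 (iv F26376)) (tt N9728 (iv F31443)) (tt N8135 F26159) (tt N6519 (iv D8228)))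
theorem Q8137 : ∀ i, i < 8137 → P i := stepQ 8136 Q8136 (allL N8136 (tt N9729 D9826) (tt N6520 (iv D8229)) (tt N9730 D9827) (tt N9727 (iv F31439)) (tt N6532 F26160) (tt N6546 F26161) (tt N9722 (iv F31427)) (tt N7586 F26162))
theorem Q8138 : ∀ i, i < 8138 → P i := stepQ 8137 Q8137 (allL N8137 (tt N8700 (iv F28065)) (tt N9731 D9828) (tt N9701 (iv F31369)) (tt N8510 (iv F27449)) (tt N9716 (iv F31403)) (tt N6521 (iv D8230)) (tt N9642 (iv F31165)) (tt N6525 F26163))
theorem Q8139 : ∀ i, i < 8139 → P i := stepQ 8138 Q8138 (allL N8138 (tt N6755 F26164) (tt N6745 F26165) (tt N6523 F26166) (tt N8305 (iv F26721)) (tt N6522 (iv D8231)) (tt N6527 F26167) (tt N9732 D9829) (tt N6534 F26168))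
theorem Q8140 : ∀ i, i < 8140 → P i := stepQ 8139 Q8139 (allL N8139 (tt N7983 F26169) (tt N6746 F26170) (tt N6524 F26171) (tt N6752 F26172) (tt N9732 (iv F31455)) (tt N9733 D9830) (tt N6522 (iv D8232)) (tt N8511 (iv F27455)))
theorem Q8141 : ∀ i, i < 8141 → P i := stepQ 8140 Q8140 (allL N8140 (tt N8704 (iv F28076)) (tt N8140 F26173) (tt N9732 (iv F31454)) (tt N9719 (iv F31416)) (tt N6524 F26174) (tt N9734 D9831) (tt N6523 (iv D8233)) (tt N6929 F26175))
theorem Q8142 : ∀ i, i < 8142 → P i := stepQ 8141 Q8141 (allL N8141 (tt N8706 (iv F28085)) (tt N9735 D9832) (tt N9733 (iv F31458)) (tt N6525 F26176) (tt N9734 (iv F31461)) (tt N6524 (iv D8234)) (tt N6530 F26177) (tt N8512 (iv F27459)))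
theorem Q8143 : ∀ i, i < 8143 → P i := stepQ 8142 Q8142 (allL N8142 (tt N9736 D9833) (tt N6525 (iv D8235)) (tt N9737 D9834) (tt N9735 (iv F31464)) (tt N9722 (iv F31425)) (tt N8142 F26178) (tt N6532 F26179) (tt N9731 (iv F31451)))
theorem Q8144 : ∀ i, i < 8144 → P i := stepQ 8143 Q8143 (allL N8143 (tt N6730 F26180) (tt N6527 F26181) (tt N6548 F26182) (tt N8310 (iv F26740)) (tt N6526 (iv D8236)) (tt N6728 F26183) (tt N9197 (iv F29690)) (tt N6536 F26184))
theorem Q8145 : ∀ i, i < 8145 → P i := stepQ 8144 Q8144 (allL N8144 (tt N6731 F26185) (tt N6528 F26186) (tt N6550 F26187) (tt N6735 F26188) (tt N9197 (iv F29689)) (tt N9738 D9835) (tt N6526 (iv D8237)) (tt N9193 (iv F29674)))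
theorem Q8146 : ∀ i, i < 8146 → P i := stepQ 8145 Q8145 (allL N8145 (tt N9619 (iv F31082)) (tt N8310 (iv F26738)) (tt N9723 (iv F31429)) (tt N6527 (iv D8238)) (tt N8343 (iv F26845)) (tt N8305 (iv F26723)) (tt N9739 D9836) (tt N8304 F26719))
theorem Q8147 : ∀ i, i < 8147 → P i := stepQ 8146 Q8146 (allL N8146 (tt N9620 (iv F31085)) (tt N9197 (iv F29687)) (tt N6529 F26189) (tt N9739 (iv F31478)) (tt N6528 F26190) (tt N9740 D9837) (tt N6527 (iv D8239)) (tt N9192 (iv F29669)))
theorem Q8148 : ∀ i, i < 8148 → P i := stepQ 8147 Q8147 (allL N8147 (tt N9621 (iv F31089)) (tt N9741 D9838) (tt N6530 F26191) (tt N9707 (iv F31387)) (tt N9740 (iv F31480)) (tt N6528 (iv D8240)) (tt N9733 (iv F31460)) (tt N9742 D9839))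
theorem Q8149 : ∀ i, i < 8149 → P i := stepQ 8148 Q8148 (allL N8148 (tt N8259 (iv F26566)) (tt N9193 (iv F29671)) (tt N6531 F26192) (tt N9743 D9840) (tt N9192 (iv F29667)) (tt N9742 (iv F31482)) (tt N6541 F26193) (tt N6528 (iv D8241)))
theorem Q8150 : ∀ i, i < 8150 → P i := stepQ 8149 Q8149 (allL N8149 (tt N9622 (iv F31092)) (tt N9191 (iv F29663)) (tt N9740 (iv F31479)) (tt N9726 (iv F31437)) (tt N6530 F26194) (tt N6529 (iv D8242)) (tt N9734 (iv F31462)) (tt N9190 F29661))
theorem Q8151 : ∀ i, i < 8151 → P i := stepQ 8150 Q8150 (allL N8150 (tt N8281 (iv F26638)) (tt N6530 (iv D8243)) (tt N9744 D9841) (tt N6532 F26195) (tt N9191 (iv F29664)) (tt N6551 F26196) (tt N9735 (iv F31466)) (tt N8279 F26634))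
theorem Q8152 : ∀ i, i < 8152 → P i := stepQ 8151 Q8151 (allL N8151 (tt N8257 F26560) (tt N8279 (iv F26629)) (tt N9742 (iv F31481)) (tt N9645 (iv F31176)) (tt N9190 (iv F29658)) (tt N6531 F26197) (tt N8516 (iv F27470)) (tt N6530 (iv D8244)))
theorem Q8153 : ∀ i, i < 8153 → P i := stepQ 8152 Q8152 (allL N8152 (tt N6532 (iv D8245)) (tt N8282 (iv F26643)) (tt N9745 D9842) (tt N8281 F26641) (tt N9729 (iv F31444)) (tt N6552 F26198) (tt N9736 (iv F31471)) (tt N9646 (iv F31183)))
theorem Q8154 : ∀ i, i < 8154 → P i := stepQ 8153 Q8153 (allL N8153 (tt N9745 (iv F31486)) (tt N9713 (iv F31397)) (tt N6532 (iv D8246)) (tt N9746 D9843) (tt N9730 (iv F31447)) (tt N6553 F26199) (tt N9737 (iv F31473)) (tt N9647 (iv F31186)))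
theorem Q8155 : ∀ i, i < 8155 → P i := stepQ 8154 Q8154 (allL N8154 (tt N6536 F26200) (tt N6740 F26201) (tt N6554 F26202) (tt N8073 F26203) (tt N6535 (iv D8247)) (tt N6720 F26204) (tt N9747 D9844) (tt N6730 F26205))
theorem Q8156 : ∀ i, i < 8156 → P i := stepQ 8155 Q8155 (allL N8155 (tt N6538 F26206) (tt N7600 F26207) (tt N6556 F26208) (tt N7116 F26209) (tt N9747 (iv F31493)) (tt N9748 D9845) (tt N6535 (iv D8248)) (tt N9749 D9846))
theorem Q8157 : ∀ i, i < 8157 → P i := stepQ 8156 Q8156 (allL N8156 (tt N9747 (iv F31489)) (tt N6540 F26210) (tt N6559 F26211) (tt N8078 F26212) (tt N6538 F26213) (tt N9750 D9847) (tt N6536 (iv D8249)) (tt N9187 (iv F29652)))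
theorem Q8158 : ∀ i, i < 8158 → P i := stepQ 8157 Q8157 (allL N8157 (tt N6721 F26214) (tt N6742 F26215) (tt N6560 F26216) (tt N7118 F26217) (tt N8077 F26218) (tt N9751 D9848) (tt N6537 (iv D8250)) (tt N9752 D9849))
theorem Q8159 : ∀ i, i < 8159 → P i := stepQ 8158 Q8158 (allL N8158 (tt N9748 (iv F31494)) (tt N8519 (iv F27477)) (tt N6561 F26219) (tt N7119 F26220) (tt N9750 (iv F31505)) (tt N6538 (iv D8251)) (tt N9751 (iv F31511)) (tt N9753 D9850))
theorem Q8160 : ∀ i, i < 8160 → P i := stepQ 8159 Q8159 (allL N8159 (tt N9749 (iv F31498)) (tt N6541 F26221) (tt N6562 F26222) (tt N9754 D9851) (tt N9187 (iv F29650)) (tt N9753 (iv F31518)) (tt N9193 (iv F29673)) (tt N6538 (iv D8252)))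
theorem Q8161 : ∀ i, i < 8161 → P i := stepQ 8160 Q8160 (allL N8160 (tt N8733 (iv F28165)) (tt N8078 F26223) (tt N8160 F26224) (tt N6540 F26225) (tt N7121 F26226) (tt N8521 (iv F27487)) (tt N6539 (iv D8253)) (tt N9755 D9852))
theorem Q8162 : ∀ i, i < 8162 → P i := stepQ 8161 Q8161 (allL N8161 (tt N8254 (iv F26546)) (tt N9187 (iv F29649)) (tt N6542 F26227) (tt N9756 D9853) (tt N6541 F26228) (tt N8522 (iv F27492)) (tt N9192 (iv F29668)) (tt N6540 (iv D8254)))
theorem Q8163 : ∀ i, i < 8163 → P i := stepQ 8162 Q8162 (allL N8162 (tt N8260 (iv F26569)) (tt N9754 (iv F31519)) (tt N9115 (iv F29400)) (tt N6541 (iv D8255)) (tt N9757 D9854) (tt N8523 (iv F27495)) (tt N9743 (iv F31483)) (tt N7125 F26229))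
theorem Q8164 : ∀ i, i < 8164 → P i := stepQ 8163 Q8163 (allL N8163 (tt N9758 D9855) (tt N6544 (iv D8256)) (tt N9759 D9856) (tt N6546 F26230) (tt N8199 (iv F26341)) (tt N9727 (iv F31440)) (tt N8163 F26231) (tt N8178 F26282))
theorem Q8165 : ∀ i, i < 8165 → P i := stepQ 8164 Q8164 (allL N8164 (tt N6546 (iv D8257)) (tt N6594 F26232) (tt N9760 D9857) (tt N9758 (iv F31526)) (tt N6552 F26233) (tt N9729 (iv F31445)) (tt N8164 F26234) (tt N7588 F26235))
theorem Q8166 : ∀ i, i < 8166 → P i := stepQ 8165 Q8165 (allL N8165 (tt N9760 (iv F31532)) (tt N6810 F26236) (tt N6546 (iv D8258)) (tt N9761 D9858) (tt N6553 F26237) (tt N9730 (iv F31448)) (tt N8165 F26238) (tt N7589 F26239))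
theorem Q8167 : ∀ i, i < 8167 → P i := stepQ 8166 Q8166 (allL N8166 (tt N6550 F26240) (tt N6596 F26241) (tt N6731 F26242) (tt N6811 F26243) (tt N9195 (iv F29683)) (tt N9514 (iv F30658)) (tt N6547 (iv D8259)) (tt N8375 (iv F26962)))
theorem Q8168 : ∀ i, i < 8168 → P i := stepQ 8167 Q8167 (allL N8167 (tt N6719 F26244) (tt N8167 F26245) (tt N6728 F26246) (tt N8167 F26247) (tt N6549 F26248) (tt N6548 (iv D8260)) (tt N8987 (iv F28980)) (tt N6558 F26249))
theorem Q8169 : ∀ i, i < 8169 → P i := stepQ 8168 Q8168 (allL N8168 (tt N9514 (iv F30654)) (tt N9051 (iv F29173)) (tt N9738 (iv F31475)) (tt N6812 F26250) (tt N9054 (iv F29184)) (tt N6550 (iv D8261)) (tt N8466 (iv F27307)) (tt N9050 F29171))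
theorem Q8170 : ∀ i, i < 8170 → P i := stepQ 8169 Q8169 (allL N8169 (tt N8286 (iv F26652)) (tt N7444 F26251) (tt N6551 (iv D8262)) (tt N9762 D9859) (tt N9047 (iv F29160)) (tt N9744 (iv F31484)) (tt N8169 F26252) (tt N7437 F26253))
theorem Q8171 : ∀ i, i < 8171 → P i := stepQ 8170 Q8170 (allL N8170 (tt N6553 F26254) (tt N9763 D9860) (tt N6552 (iv D8263)) (tt N9764 D9861) (tt N9760 (iv F31533)) (tt N9745 (iv F31487)) (tt N8170 F26255) (tt N9651 (iv F31202)))
theorem Q8172 : ∀ i, i < 8172 → P i := stepQ 8171 Q8171 (allL N8171 (tt N9764 (iv F31547)) (tt N6816 F26256) (tt N9762 (iv F31539)) (tt N6553 (iv D8264)) (tt N9765 D9862) (tt N9746 (iv F31488)) (tt N8171 F26257) (tt N9766 D9863))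
theorem Q8173 : ∀ i, i < 8173 → P i := stepQ 8172 Q8172 (allL N8172 (tt N6557 F26258) (tt N6598 F26259) (tt N8601 (iv F27751)) (tt N6554 (iv D8265)) (tt N6566 F26260) (tt N8600 F27748) (tt N9767 D9864) (tt N8172 F26261))
theorem Q8174 : ∀ i, i < 8174 → P i := stepQ 8173 Q8173 (allL N8173 (tt N6558 F26262) (tt N6713 F26263) (tt N6720 F26264) (tt N8600 (iv F27745)) (tt N6555 F26265) (tt N6554 (iv D8266)) (tt N9768 D9865) (tt N6719 F26266))
theorem Q8175 : ∀ i, i < 8175 → P i := stepQ 8174 Q8174 (allL N8174 (tt N6559 F26267) (tt N6599 F26268) (tt N9747 (iv F31491)) (tt N9767 (iv F31559)) (tt N6556 F26269) (tt N9769 D9866) (tt N6554 (iv D8267)) (tt N9186 (iv F29648)))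
theorem Q8176 : ∀ i, i < 8176 → P i := stepQ 8175 Q8175 (allL N8175 (tt N6560 F26270) (tt N6714 F26271) (tt N6721 F26272) (tt N6570 F26273) (tt N9768 (iv F31565)) (tt N9770 D9867) (tt N6555 (iv D8268)) (tt N9536 (iv F30736)))
theorem Q8177 : ∀ i, i < 8177 → P i := stepQ 8176 Q8176 (allL N8176 (tt N6561 F26274) (tt N9771 D9868) (tt N9748 (iv F31495)) (tt N6571 F26275) (tt N9769 (iv F31567)) (tt N6556 (iv D8269)) (tt N9770 (iv F31571)) (tt N9772 D9869))
theorem Q8178 : ∀ i, i < 8178 → P i := stepQ 8177 Q8177 (allL N8177 (tt N6562 F26276) (tt N6602 F26277) (tt N9749 (iv F31500)) (tt N8043 F26278) (tt N9186 (iv F29646)) (tt N9772 (iv F31578)) (tt N8375 (iv F26961)) (tt N6556 (iv D8270)))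
theorem Q8179 : ∀ i, i < 8179 → P i := stepQ 8178 Q8178 (allL N8178 (tt N9767 (iv F31557)) (tt N6563 F26279) (tt N8609 (iv F27778)) (tt N6559 F26280) (tt N6575 F26281) (tt N9773 D9870) (tt N6557 (iv D8271)) (tt N8163 (iv F26282)))
theorem Q8180 : ∀ i, i < 8180 → P i := stepQ 8179 Q8179 (allL N8179 (tt N9768 (iv F31562)) (tt N8179 F26283) (tt N8077 F26284) (tt N8608 (iv F27775)) (tt N6560 F26285) (tt N9774 D9871) (tt N6558 (iv D8272)) (tt N9775 D9872))
theorem Q8181 : ∀ i, i < 8181 → P i := stepQ 8180 Q8180 (allL N8180 (tt N9769 (iv F31566)) (tt N9183 (iv F29638)) (tt N9750 (iv F31503)) (tt N9773 (iv F31580)) (tt N6561 F26286) (tt N6559 (iv D8273)) (tt N9774 (iv F31585)) (tt N9182 F29636))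
theorem Q8182 : ∀ i, i < 8182 → P i := stepQ 8181 Q8181 (allL N8181 (tt N9770 (iv F31568)) (tt N9776 D9873) (tt N9751 (iv F31508)) (tt N6578 F26287) (tt N9774 (iv F31584)) (tt N6560 (iv D8274)) (tt N6561 F26288) (tt N9777 D9874))
theorem Q8183 : ∀ i, i < 8183 → P i := stepQ 8182 Q8182 (allL N8182 (tt N9536 (iv F30732)) (tt N8182 F26289) (tt N9752 (iv F31514)) (tt N8986 (iv F28974)) (tt N9775 (iv F31588)) (tt N9777 (iv F31592)) (tt N8985 F28970) (tt N6560 (iv D8275)))
theorem Q8184 : ∀ i, i < 8184 → P i := stepQ 8183 Q8183 (allL N8183 (tt N8264 (iv F26579)) (tt N6561 (iv D8276)) (tt N8528 (iv F27511)) (tt N6580 F26290) (tt N9183 (iv F29640)) (tt N6564 F26291) (tt N9776 (iv F31591)) (tt N8261 (iv F26575)))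
theorem Q8185 : ∀ i, i < 8185 → P i := stepQ 8184 Q8184 (allL N8184 (tt N9772 (iv F31575)) (tt N8261 (iv F26572)) (tt N9753 (iv F31517)) (tt N9778 D9875) (tt N9182 (iv F29634)) (tt N6562 F26292) (tt N9779 D9876) (tt N6561 (iv D8277)))
theorem Q8186 : ∀ i, i < 8186 → P i := stepQ 8185 Q8185 (allL N8185 (tt N8043 F26293) (tt N6565 F26294) (tt N9780 D9877) (tt N6562 (iv D8278)) (tt N8065 F26295) (tt N9778 (iv F31596)) (tt N8363 (iv F26916)) (tt N6582 F26296))
theorem Q8187 : ∀ i, i < 8187 → P i := stepQ 8186 Q8186 (allL N8186 (tt N6574 F26297) (tt N9781 D9878) (tt N8594 (iv F27721)) (tt N6567 F26298) (tt N8600 (iv F27746)) (tt N6566 (iv D8279)) (tt N9782 D9879) (tt N8186 F26299))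
theorem Q8188 : ∀ i, i < 8188 → P i := stepQ 8187 Q8187 (allL N8187 (tt N6575 F26300) (tt N6607 F26301) (tt N8909 (iv F28735)) (tt N6568 F26302) (tt N9767 (iv F31560)) (tt N9783 D9880) (tt N6566 (iv D8280)) (tt N8812 (iv F28388)))
theorem Q8189 : ∀ i, i < 8189 → P i := stepQ 8188 Q8188 (allL N8188 (tt N8188 F26303) (tt N6567 (iv D8281)) (tt N6710 F26304) (tt N9781 (iv F31607)) (tt N6569 F26305) (tt N6608 F26306) (tt N8897 (iv F28698)) (tt N6817 F26307))
theorem Q8190 : ∀ i, i < 8190 → P i := stepQ 8189 Q8189 (allL N8189 (tt N6576 F26308) (tt N8897 (iv F28694)) (tt N7148 F26309) (tt N9782 (iv F31614)) (tt N6570 F26310) (tt N9784 D9881) (tt N6567 (iv D8282)) (tt N8896 F28692))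
theorem Q8191 : ∀ i, i < 8191 → P i := stepQ 8190 Q8190 (allL N8190 (tt N6577 F26311) (tt N9785 D9882) (tt N7149 F26312) (tt N9783 (iv F31617)) (tt N6571 F26313) (tt N6568 (iv D8283)) (tt N9784 (iv F31621)) (tt N7610 F26314))
theorem Q8192 : ∀ i, i < 8192 → P i := stepQ 8191 Q8191 (allL N8191 (tt N8191 F26315) (tt N6570 F26316) (tt N6711 F26317) (tt N6714 F26318) (tt N8897 (iv F28696)) (tt N8895 (iv F28684)) (tt N6569 (iv D8284)) (tt N8894 F28680))
theorem Q8193 : ∀ i, i < 8193 → P i := stepQ 8192 Q8192 (allL N8192 (tt N6578 F26319) (tt N9786 D9883) (tt N7151 F26320) (tt N9770 (iv F31570)) (tt N9784 (iv F31620)) (tt N6570 (iv D8285)) (tt N6571 F26321) (tt N9787 D9884))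
theorem Q8194 : ∀ i, i < 8194 → P i := stepQ 8193 Q8193 (allL N8193 (tt N6579 F26322) (tt N8894 F28679) (tt N7152 F26323) (tt N9532 (iv F30721)) (tt N8896 (iv F28688)) (tt N9787 (iv F31628)) (tt N6820 F26324) (tt N6570 (iv D8286)))
theorem Q8195 : ∀ i, i < 8195 → P i := stepQ 8194 Q8194 (allL N8194 (tt N9234 (iv F29791)) (tt N6571 (iv D8287)) (tt N9788 D9885) (tt N9771 (iv F31572)) (tt N9785 (iv F31622)) (tt N6614 F26325) (tt N9786 (iv F31625)) (tt N8037 (iv F26326)))
theorem Q8196 : ∀ i, i < 8196 → P i := stepQ 8195 Q8195 (allL N8195 (tt N6581 F26327) (tt N8037 F26328) (tt N7145 F26329) (tt N8040 (iv F26332)) (tt N7610 F26330) (tt N6572 F26331) (tt N8647 (iv F27932)) (tt N6571 (iv D8288)))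
theorem Q8197 : ∀ i, i < 8197 → P i := stepQ 8196 Q8196 (allL N8196 (tt N8909 (iv F28733)) (tt N8196 F26333) (tt N6575 F26334) (tt N7153 F26335) (tt N8609 (iv F27780)) (tt N9789 D9886) (tt N6573 (iv D8289)) (tt N9790 D9887))
theorem Q8198 : ∀ i, i < 8198 → P i := stepQ 8197 Q8197 (allL N8197 (tt N9782 (iv F31612)) (tt N8197 F26336) (tt N8597 (iv F27734)) (tt N6576 F26337) (tt N8608 (iv F27776)) (tt N9791 D9888) (tt N6574 (iv D8290)) (tt N9561 (iv F30834)))
theorem Q8199 : ∀ i, i < 8199 → P i := stepQ 8198 Q8198 (allL N8198 (tt N9783 (iv F31616)) (tt N9792 D9889) (tt N9789 (iv F31632)) (tt N6577 F26338) (tt N9773 (iv F31581)) (tt N6575 (iv D8291)) (tt N9791 (iv F31639)) (tt N9793 D9890))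
theorem Q8200 : ∀ i, i < 8200 → P i := stepQ 8199 Q8199 (allL N8199 (tt N8812 (iv F28385)) (tt N6584 F26339) (tt N9790 (iv F31635)) (tt N7591 F26340) (tt N8163 F26341) (tt N9793 (iv F31647)) (tt N8199 F26342) (tt N6575 (iv D8292)))
theorem Q8201 : ∀ i, i < 8201 → P i := stepQ 8200 Q8200 (allL N8200 (tt N9784 (iv F31618)) (tt N9794 D9891) (tt N7156 F26343) (tt N9791 (iv F31638)) (tt N6578 F26344) (tt N6576 (iv D8293)) (tt N6577 F26345) (tt N9795 D9892))
theorem Q8202 : ∀ i, i < 8202 → P i := stepQ 8201 Q8201 (allL N8201 (tt N8896 F28690) (tt N8201 F26346) (tt N7157 F26347) (tt N8915 (iv F28755)) (tt N6579 F26348) (tt N9795 (iv F31653)) (tt N6821 F26349) (tt N6576 (iv D8294)))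
theorem Q8203 : ∀ i, i < 8203 → P i := stepQ 8202 Q8202 (allL N8202 (tt N9796 D9893) (tt N6577 (iv D8295)) (tt N9141 (iv F29480)) (tt N9792 (iv F31640)) (tt N6580 F26350) (tt N6585 F26351) (tt N9794 (iv F31650)) (tt N7613 F26352))
theorem Q8204 : ∀ i, i < 8204 → P i := stepQ 8203 Q8203 (allL N8203 (tt N9797 D9894) (tt N6578 (iv D8296)) (tt N9798 D9895) (tt N9776 (iv F31589)) (tt N9794 (iv F31648)) (tt N8203 F26353) (tt N6580 F26354) (tt N9799 D9896))
theorem Q8205 : ∀ i, i < 8205 → P i := stepQ 8204 Q8204 (allL N8204 (tt N9787 (iv F31626)) (tt N9799 (iv F31663)) (tt N7159 F26355) (tt N9800 D9897) (tt N9795 (iv F31652)) (tt N6579 F26356) (tt N9801 D9898) (tt N6578 (iv D8297)))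
theorem Q8206 : ∀ i, i < 8206 → P i := stepQ 8205 Q8205 (allL N8205 (tt N9532 (iv F30719)) (tt N8205 F26357) (tt N8991 (iv F28990)) (tt N6579 (iv D8298)) (tt N9802 D9899) (tt N9800 (iv F31665)) (tt N6823 F26358) (tt N8986 (iv F28975)))
theorem Q8207 : ∀ i, i < 8207 → P i := stepQ 8206 Q8206 (allL N8206 (tt N6580 (iv D8299)) (tt N9234 (iv F29792)) (tt N9803 D9900) (tt N8264 F26583) (tt N9796 (iv F31655)) (tt N6586 F26359) (tt N9797 (iv F31659)) (tt N9233 F29790))
theorem Q8208 : ∀ i, i < 8208 → P i := stepQ 8207 Q8207 (allL N8207 (tt N9803 (iv F31672)) (tt N7162 F26360) (tt N6580 (iv D8300)) (tt N8540 (iv F27549)) (tt N9141 (iv F29481)) (tt N6587 F26361) (tt N9798 (iv F31662)) (tt N9804 D9901))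
theorem Q8209 : ∀ i, i < 8209 → P i := stepQ 8208 Q8208 (allL N8208 (tt N9233 (iv F29786)) (tt N6581 F26362) (tt N9804 (iv F31675)) (tt N9805 D9902) (tt N7613 F26363) (tt N6588 F26364) (tt N9235 (iv F29797)) (tt N6580 (iv D8301)))
theorem Q8210 : ∀ i, i < 8210 → P i := stepQ 8209 Q8209 (allL N8209 (tt N8040 F26365) (tt N9805 (iv F31679)) (tt N9806 D9903) (tt N6581 (iv D8302)) (tt N8094 (iv F26367)) (tt N6582 F26366) (tt N8638 (iv F27896)) (tt N9778 (iv F31597)))
theorem Q8211 : ∀ i, i < 8211 → P i := stepQ 8210 Q8210 (allL N8210 (tt N8647 (iv F27928)) (tt N9235 (iv F29794)) (tt N7164 F26368) (tt N8638 (iv F27894)) (tt N7611 F26369) (tt N6824 F26370) (tt N6581 (iv D8303)) (tt N9801 (iv F31669)))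
theorem Q8212 : ∀ i, i < 8212 → P i := stepQ 8211 Q8211 (allL N8211 (tt N7166 F26371) (tt N8674 (iv F28005)) (tt N6582 (iv D8304)) (tt N7165 F26372) (tt N8093 F26373) (tt N9806 (iv F31687)) (tt N6825 F26374) (tt N9780 (iv F31604)))
theorem Q8213 : ∀ i, i < 8213 → P i := stepQ 8212 Q8212 (allL N8212 (tt N9496 (iv F30585)) (tt N6583 (iv D8305)) (tt N9807 D9904) (tt N6585 F26375) (tt N8135 F26376) (tt N9792 (iv F31642)) (tt N8212 F26377) (tt N8133 F26378))
theorem Q8214 : ∀ i, i < 8214 → P i := stepQ 8213 Q8213 (allL N8213 (tt N6585 (iv D8306)) (tt N6624 F26379) (tt N9147 (iv F29501)) (tt N9496 (iv F30587)) (tt N6586 F26380) (tt N9796 (iv F31656)) (tt N8213 F26381) (tt N7614 F26382))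
theorem Q8215 : ∀ i, i < 8215 → P i := stepQ 8214 Q8214 (allL N8214 (tt N6587 F26383) (tt N9151 (iv F29516)) (tt N6586 (iv D8307)) (tt N8548 (iv F27571)) (tt N9147 (iv F29502)) (tt N9803 (iv F31673)) (tt N8214 F26384) (tt N9808 D9905))
theorem Q8216 : ∀ i, i < 8216 → P i := stepQ 8215 Q8215 (allL N8215 (tt N6588 F26385) (tt N6625 F26386) (tt N9808 (iv F31693)) (tt N8045 F26387) (tt N7614 F26388) (tt N9233 (iv F29788)) (tt N8918 (iv F28763)) (tt N6586 (iv D8308)))
theorem Q8217 : ∀ i, i < 8217 → P i := stepQ 8216 Q8216 (allL N8216 (tt N9808 (iv F31692)) (tt N6591 F26389) (tt N6588 F26390) (tt N9809 D9906) (tt N7615 F26391) (tt N9804 (iv F31677)) (tt N9810 D9907) (tt N6587 (iv D8309)))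
theorem Q8218 : ∀ i, i < 8218 → P i := stepQ 8217 Q8217 (allL N8217 (tt N8045 F26392) (tt N6589 F26393) (tt N7506 (iv F26396)) (tt N6588 (iv D8310)) (tt N8061 F26394) (tt N9805 (iv F31681)) (tt N7494 (iv F26397)) (tt N7481 F26395))
theorem Q8219 : ∀ i, i < 8219 → P i := stepQ 8218 Q8218 (allL N8218 (tt N8918 (iv F28759)) (tt N6590 F26398) (tt N9810 (iv F31700)) (tt N7494 F26399) (tt N7606 F26400) (tt N8636 (iv F27886)) (tt N6588 (iv D8311)) (tt N8218 F26401))
theorem Q8220 : ∀ i, i < 8220 → P i := stepQ 8219 Q8219 (allL N8219 (tt N9153 (iv F29524)) (tt N9809 (iv F31695)) (tt N9148 (iv F29505)) (tt N6591 (iv D8312)) (tt N9811 D9908) (tt N7170 F26402) (tt N9812 D9909) (tt N8553 (iv F27593)))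
theorem Q8221 : ∀ i, i < 8221 → P i := stepQ 8220 Q8220 (allL N8220 (tt N9154 (iv F29528)) (tt N9810 (iv F31699)) (tt N6592 F26403) (tt N9812 (iv F31707)) (tt N7607 F26404) (tt N9379 (iv F30188)) (tt N6591 (iv D8313)) (tt N8220 F26405))
theorem Q8222 : ∀ i, i < 8222 → P i := stepQ 8221 Q8221 (allL N8221 (tt N6593 (iv D8314)) (tt N9758 (iv F31525)) (tt N9813 D9910) (tt N6594 F26406) (tt N7561 F26407) (tt N8274 (iv F26616)) (tt N8221 F26408) (tt N8226 F26430))
theorem Q8223 : ∀ i, i < 8223 → P i := stepQ 8222 Q8222 (allL N8222 (tt N9813 (iv F31709)) (tt N8222 F26409) (tt N6593 (iv D8315)) (tt N6897 F26413) (tt N8241 (iv F26488)) (tt N6896 F26410) (tt N8222 F26411) (tt N6616 F26412))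
theorem Q8224 : ∀ i, i < 8224 → P i := stepQ 8223 Q8223 (allL N8223 (tt N6595 F26414) (tt N9814 D9911) (tt N6594 (iv D8316)) (tt N9815 D9912) (tt N6597 F26415) (tt N8288 (iv F26662)) (tt N8223 F26416) (tt N7822 F26417))
theorem Q8225 : ∀ i, i < 8225 → P i := stepQ 8224 Q8224 (allL N8224 (tt N9815 (iv F31724)) (tt N6830 F26418) (tt N6897 F26419) (tt N6595 (iv D8317)) (tt N8224 F26420) (tt N6892 F26421) (tt N8224 F26422) (tt N6893 F26423))
theorem Q8226 : ∀ i, i < 8226 → P i := stepQ 8225 Q8225 (allL N8225 (tt N6831 F26424) (tt N6597 (iv D8318)) (tt N9763 (iv F31543)) (tt N8225 F26425) (tt N9814 (iv F31719)) (tt N9816 D9913) (tt N8225 F26426) (tt N9477 F30522))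
theorem Q8227 : ∀ i, i < 8227 → P i := stepQ 8226 Q8226 (allL N8226 (tt N6603 F26427) (tt N9767 (iv F31558)) (tt N8231 (iv F26447)) (tt N6599 F26428) (tt N6607 F26429) (tt N9484 (iv F30546)) (tt N6598 (iv D8319)) (tt N8221 (iv F26430)))
theorem Q8228 : ∀ i, i < 8228 → P i := stepQ 8227 Q8227 (allL N8227 (tt N6604 F26431) (tt N9467 (iv F30475)) (tt N7329 F26432) (tt N6612 F26433) (tt N8247 (iv F26517)) (tt N6600 (iv D8320)) (tt N6601 F26434) (tt N8227 F26435))
theorem Q8229 : ∀ i, i < 8229 → P i := stepQ 8228 Q8228 (allL N8228 (tt N8245 (iv F26503)) (tt N6601 (iv D8321)) (tt N9817 D9914) (tt N6614 F26436) (tt N9483 (iv F30542)) (tt N9771 (iv F31573)) (tt N9467 (iv F30477)) (tt N8042 F26437))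
theorem Q8230 : ∀ i, i < 8230 → P i := stepQ 8229 Q8229 (allL N8229 (tt N6615 F26438) (tt N8854 (iv F28524)) (tt N6607 F26439) (tt N6630 F26440) (tt N8231 (iv F26449)) (tt N9818 D9915) (tt N6605 (iv D8322)) (tt N9170 (iv F29583)))
theorem Q8231 : ∀ i, i < 8231 → P i := stepQ 8230 Q8230 (allL N8230 (tt N8230 F26441) (tt N6606 (iv D8323)) (tt N7304 (iv F26445)) (tt N6608 F26442) (tt N7241 F26443) (tt N9781 (iv F31609)) (tt N9819 D9916) (tt N8230 F26444))
theorem Q8232 : ∀ i, i < 8232 → P i := stepQ 8231 Q8231 (allL N8231 (tt N6616 F26446) (tt N9819 (iv F31747)) (tt N8226 F26447) (tt N6609 F26448) (tt N8229 F26449) (tt N9820 D9917) (tt N6606 (iv D8324)) (tt N9813 (iv F31713)))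
theorem Q8233 : ∀ i, i < 8233 → P i := stepQ 8232 Q8232 (allL N8232 (tt N6617 F26450) (tt N9821 D9918) (tt N9818 (iv F31742)) (tt N6610 F26451) (tt N9484 (iv F30545)) (tt N6607 (iv D8325)) (tt N9820 (iv F31757)) (tt N6660 F26452))
theorem Q8234 : ∀ i, i < 8234 → P i := stepQ 8233 Q8233 (allL N8233 (tt N8233 F26453) (tt N6609 F26454) (tt N7295 F26455) (tt N9819 (iv F31749)) (tt N6611 F26456) (tt N8405 (iv F27072)) (tt N6608 (iv D8326)) (tt N8404 (iv F27067)))
theorem Q8235 : ∀ i, i < 8235 → P i := stepQ 8234 Q8234 (allL N8234 (tt N6619 F26457) (tt N8847 (iv F28508)) (tt N6635 F26458) (tt N9820 (iv F31755)) (tt N6612 F26459) (tt N6609 (iv D8327)) (tt N6610 F26460) (tt N6654 F26461))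
theorem Q8236 : ∀ i, i < 8236 → P i := stepQ 8235 Q8235 (allL N8235 (tt N6620 F26462) (tt N8404 (iv F27062)) (tt N6636 F26463) (tt N6869 (iv F26467)) (tt N6613 F26464) (tt N6654 F26465) (tt N6655 F26466) (tt N6609 (iv D8328)))
theorem Q8237 : ∀ i, i < 8237 → P i := stepQ 8236 Q8236 (allL N8236 (tt N8851 (iv F28517)) (tt N6610 (iv D8329)) (tt N9822 D9919) (tt N9821 (iv F31759)) (tt N6614 F26468) (tt N9785 (iv F31623)) (tt N8847 (iv F28511)) (tt N6653 F26469))
theorem Q8238 : ∀ i, i < 8238 → P i := stepQ 8237 Q8237 (allL N8237 (tt N8237 F26470) (tt N8846 (iv F28504)) (tt N7296 F26471) (tt N7314 F26472) (tt N8405 (iv F27071)) (tt N6611 (iv D8330)) (tt N8895 (iv F28685)) (tt N8403 F27060))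
theorem Q8239 : ∀ i, i < 8239 → P i := stepQ 8238 Q8238 (allL N8238 (tt N8238 F26473) (tt N6613 F26474) (tt N7297 F26475) (tt N8238 F26476) (tt N8404 (iv F27065)) (tt N8403 (iv F27059)) (tt N6837 F26477) (tt N6611 (iv D8331)))
theorem Q8240 : ∀ i, i < 8240 → P i := stepQ 8239 Q8239 (allL N8239 (tt N9204 (iv F29707)) (tt N6642 F26478) (tt N6614 (iv D8332)) (tt N9823 D9920) (tt N9822 (iv F31762)) (tt N9788 (iv F31630)) (tt N9465 (iv F30473)) (tt N7124 F26479))
theorem Q8241 : ∀ i, i < 8241 → P i := stepQ 8240 Q8240 (allL N8240 (tt N9818 (iv F31741)) (tt N7833 F26483) (tt N6617 F26480) (tt N6643 F26481) (tt N8242 (iv F26493)) (tt N6615 (iv D8333)) (tt N7838 F26482) (tt N6672 F26484))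
theorem Q8242 : ∀ i, i < 8242 → P i := stepQ 8241 Q8241 (allL N8241 (tt N9170 (iv F29579)) (tt N8241 F26485) (tt N6618 F26486) (tt N8241 F26487) (tt N8222 F26488) (tt N6672 F26489) (tt N8241 F26490) (tt N6615 (iv D8334)))
theorem Q8243 : ∀ i, i < 8243 → P i := stepQ 8242 Q8242 (allL N8242 (tt N9820 (iv F31753)) (tt N7825 F26496) (tt N7838 F26491) (tt N6619 F26492) (tt N8240 F26493) (tt N6616 (iv D8335)) (tt N6617 F26494) (tt N6896 F26495))
theorem Q8244 : ∀ i, i < 8244 → P i := stepQ 8243 Q8243 (allL N8243 (tt N6621 (iv D8336)) (tt N8851 (iv F28518)) (tt N7821 F26497) (tt N9487 (iv F30554)) (tt N6623 F26498) (tt N6624 F26499) (tt N7823 F26500) (tt N6631 F26501))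
theorem Q8245 : ∀ i, i < 8245 → P i := stepQ 8244 Q8244 (allL N8244 (tt N9629 (iv F31110)) (tt N6647 F26502) (tt N8798 (iv F28353)) (tt N9627 F31106) (tt N8807 (iv F28376)) (tt N6626 (iv D8337)) (tt N9824 D9921) (tt N9825 D9922))
theorem Q8246 : ∀ i, i < 8246 → P i := stepQ 8245 Q8245 (allL N8245 (tt N8228 F26503) (tt N6627 F26504) (tt N9152 (iv F29522)) (tt N7624 F26505) (tt N7839 F26506) (tt N9825 (iv F31771)) (tt N7816 (iv F26507)) (tt N6626 (iv D8338)))
theorem Q8247 : ∀ i, i < 8247 → P i := stepQ 8246 Q8246 (allL N8246 (tt N6629 F26508) (tt N7816 F26509) (tt N6628 F26510) (tt N7428 F26511) (tt N7832 F26512) (tt N8246 F26513) (tt N6627 (iv D8339)) (tt N8246 F26514))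
theorem Q8248 : ∀ i, i < 8248 → P i := stepQ 8247 Q8247 (allL N8247 (tt N6643 F26515) (tt N9826 D9923) (tt N6632 F26516) (tt N9818 (iv F31743)) (tt N8227 F26517) (tt N6630 (iv D8340)) (tt N7837 F26518) (tt N8247 F26519))
theorem Q8249 : ∀ i, i < 8249 → P i := stepQ 8248 Q8248 (allL N8248 (tt N7606 F26520) (tt N6632 (iv D8341)) (tt N9827 D9924) (tt N6637 F26521) (tt N8918 (iv F28761)) (tt N7126 F26522) (tt N7614 F26523) (tt N8248 F26524))
theorem Q8250 : ∀ i, i < 8250 → P i := stepQ 8249 Q8249 (allL N8249 (tt N6657 F26525) (tt N7295 F26526) (tt N6634 F26527) (tt N7083 F26528) (tt N6638 F26529) (tt N9828 D9925) (tt N6633 (iv D8342)) (tt N8406 (iv F27077)))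
theorem Q8251 : ∀ i, i < 8251 → P i := stepQ 8250 Q8250 (allL N8250 (tt N6658 F26530) (tt N9829 D9926) (tt N9828 (iv F31782)) (tt N8620 (iv F27805)) (tt N6639 F26531) (tt N6634 (iv D8343)) (tt N7177 F26532) (tt N9830 D9927))
theorem Q8252 : ∀ i, i < 8252 → P i := stepQ 8251 Q8251 (allL N8251 (tt N6659 F26533) (tt N6636 F26534) (tt N8406 (iv F27074)) (tt N9831 D9928) (tt N6640 F26535) (tt N9830 (iv F31797)) (tt N6841 F26536) (tt N6634 (iv D8344)))
theorem Q8253 : ∀ i, i < 8253 → P i := stepQ 8252 Q8252 (allL N8252 (tt N7592 F26537) (tt N6635 (iv D8345)) (tt N9832 D9929) (tt N7614 F26538) (tt N6641 F26539) (tt N9829 (iv F31790)) (tt N6637 F26540) (tt N8028 F26541))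
theorem Q8254 : ∀ i, i < 8254 → P i := stepQ 8253 Q8253 (allL N8253 (tt N6644 F26542) (tt N9831 (iv F31799)) (tt N9493 (iv F30571)) (tt N6636 (iv D8346)) (tt N8034 F26543) (tt N8033 F26544) (tt N6842 F26545) (tt N9487 (iv F30557)))
theorem Q8255 : ∀ i, i < 8255 → P i := stepQ 8254 Q8254 (allL N8254 (tt N8161 F26546) (tt N9822 (iv F31761)) (tt N6637 (iv D8347)) (tt N9833 D9930) (tt N6642 F26547) (tt N7123 F26548) (tt N9832 (iv F31804)) (tt N7122 F26549))
theorem Q8256 : ∀ i, i < 8256 → P i := stepQ 8255 Q8255 (allL N8255 (tt N6662 F26550) (tt N9834 D9931) (tt N6639 F26551) (tt N7072 F26552) (tt N9828 (iv F31784)) (tt N6638 (iv D8348)) (tt N7178 F26553) (tt N9835 D9932))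
theorem Q8257 : ∀ i, i < 8257 → P i := stepQ 8256 Q8256 (allL N8256 (tt N6663 F26554) (tt N7297 F26555) (tt N6640 F26556) (tt N9836 D9933) (tt N8406 (iv F27076)) (tt N9835 (iv F31817)) (tt N6845 F26557) (tt N6638 (iv D8349)))
theorem Q8258 : ∀ i, i < 8258 → P i := stepQ 8257 Q8257 (allL N8257 (tt N8151 (iv F26560)) (tt N6639 (iv D8350)) (tt N9837 D9934) (tt N9631 (iv F31114)) (tt N9829 (iv F31789)) (tt N6641 F26558) (tt N7109 F26559) (tt N8029 (iv F26561)))
theorem Q8259 : ∀ i, i < 8259 → P i := stepQ 8258 Q8258 (allL N8258 (tt N6665 F26562) (tt N8029 F26563) (tt N9835 (iv F31815)) (tt N8030 (iv F26565)) (tt N9830 (iv F31796)) (tt N6640 F26564) (tt N9838 D9935) (tt N6639 (iv D8351)))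
theorem Q8260 : ∀ i, i < 8260 → P i := stepQ 8259 Q8259 (allL N8259 (tt N8148 F26566) (tt N9465 (iv F30471)) (tt N6641 (iv D8352)) (tt N9839 D9936) (tt N9832 (iv F31803)) (tt N9837 (iv F31824)) (tt N6642 F26567) (tt N8027 F26568))
theorem Q8261 : ∀ i, i < 8261 → P i := stepQ 8260 Q8260 (allL N8260 (tt N8162 F26569) (tt N9823 (iv F31764)) (tt N9633 (iv F31126)) (tt N6642 (iv D8353)) (tt N9840 D9937) (tt N7125 F26570) (tt N9839 (iv F31833)) (tt N8523 (iv F27496)))
theorem Q8262 : ∀ i, i < 8262 → P i := stepQ 8261 Q8261 (allL N8261 (tt N6647 F26571) (tt N8184 F26572) (tt N7179 F26573) (tt N9086 (iv F29298)) (tt N7584 F26574) (tt N6645 (iv D8354)) (tt N9046 (iv F29156)) (tt N8183 F26575))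
theorem Q8263 : ∀ i, i < 8263 → P i := stepQ 8262 Q8262 (allL N8262 (tt N9086 (iv F29296)) (tt N9627 (iv F31103)) (tt N9104 (iv F29365)) (tt N6647 F26576) (tt N8290 (iv F26671)) (tt N6646 (iv D8355)) (tt N9084 (iv F29290)) (tt N9626 F31101))
theorem Q8264 : ∀ i, i < 8264 → P i := stepQ 8263 Q8263 (allL N8263 (tt N9046 (iv F29152)) (tt N9824 (iv F31765)) (tt N7181 F26577) (tt N9084 (iv F29289)) (tt N8280 (iv F26635)) (tt N6675 F26578) (tt N6647 (iv D8356)) (tt N9841 D9938))
theorem Q8265 : ∀ i, i < 8265 → P i := stepQ 8264 Q8264 (allL N8264 (tt N8183 F26579) (tt N9825 (iv F31768)) (tt N7182 F26580) (tt N8206 (iv F26583)) (tt N7852 F26581) (tt N6648 F26582) (tt N9842 D9939) (tt N6647 (iv D8357)))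
theorem Q8266 : ∀ i, i < 8266 → P i := stepQ 8265 Q8265 (allL N8265 (tt N7081 F26584) (tt N8031 F26585) (tt N6656 F26586) (tt N6652 (iv D8358)) (tt N6905 F26587) (tt N7183 F26588) (tt N9843 D9940) (tt N9603 (iv F31032)))
theorem Q8267 : ∀ i, i < 8267 → P i := stepQ 8266 Q8266 (allL N8266 (tt N8350 (iv F26863)) (tt N7122 F26589) (tt N6653 F26590) (tt N9843 (iv F31846)) (tt N7124 F26591) (tt N9844 D9941) (tt N6652 (iv D8359)) (tt N9822 (iv F31763)))
theorem Q8268 : ∀ i, i < 8268 → P i := stepQ 8267 Q8267 (allL N8267 (tt N8620 (iv F27804)) (tt N7610 F26592) (tt N9844 (iv F31851)) (tt N6658 F26593) (tt N8037 F26594) (tt N6653 (iv D8360)) (tt N7185 F26595) (tt N9785 (iv F31624)))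
theorem Q8269 : ∀ i, i < 8269 → P i := stepQ 8268 Q8268 (allL N8268 (tt N7083 F26596) (tt N8268 F26597) (tt N9843 (iv F31845)) (tt N6657 F26598) (tt N6906 F26599) (tt N9845 D9942) (tt N6656 (iv D8361)) (tt N9846 D9943))
theorem Q8270 : ∀ i, i < 8270 → P i := stepQ 8269 Q8269 (allL N8269 (tt N9828 (iv F31780)) (tt N9847 D9944) (tt N6658 F26600) (tt N9845 (iv F31857)) (tt N6662 F26601) (tt N6657 (iv D8362)) (tt N7188 F26602) (tt N9848 D9945))
theorem Q8271 : ∀ i, i < 8271 → P i := stepQ 8270 Q8270 (allL N8270 (tt N8406 F27078) (tt N8270 F26603) (tt N6659 F26604) (tt N8407 (iv F27080)) (tt N6663 F26605) (tt N9848 (iv F31870)) (tt N6875 F26606) (tt N6657 (iv D8363)))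
theorem Q8272 : ∀ i, i < 8272 → P i := stepQ 8271 Q8271 (allL N8271 (tt N9830 (iv F31793)) (tt N8792 (iv F28336)) (tt N9848 (iv F31868)) (tt N9849 D9946) (tt N6665 F26607) (tt N6659 F26608) (tt N9850 D9947) (tt N6658 (iv D8364)))
theorem Q8273 : ∀ i, i < 8273 → P i := stepQ 8272 Q8272 (allL N8272 (tt N9831 (iv F31798)) (tt N6660 F26609) (tt N9851 D9948) (tt N6659 (iv D8365)) (tt N9852 D9949) (tt N9849 (iv F31872)) (tt N6877 F26610) (tt N9821 (iv F31760)))
theorem Q8274 : ∀ i, i < 8274 → P i := stepQ 8273 Q8273 (allL N8273 (tt N6672 F26611) (tt N9853 D9950) (tt N6660 (iv D8366)) (tt N8273 F26612) (tt N8469 (iv F27321)) (tt N9170 (iv F29581)) (tt N6878 F26613) (tt N9818 (iv F31745)))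
theorem Q8275 : ∀ i, i < 8275 → P i := stepQ 8274 Q8274 (allL N8274 (tt N6673 F26614) (tt N9852 (iv F31878)) (tt N8469 (iv F27319)) (tt N6671 F26615) (tt N6660 (iv D8367)) (tt N8221 F26616) (tt N6879 F26617) (tt N9484 (iv F30547)))
theorem Q8276 : ∀ i, i < 8276 → P i := stepQ 8275 Q8275 (allL N8275 (tt N7072 F26618) (tt N9854 D9951) (tt N6910 F26619) (tt N6662 F26620) (tt N6907 F26621) (tt N6661 (iv D8368)) (tt N7192 F26622) (tt N8820 (iv F28419)))
theorem Q8277 : ∀ i, i < 8277 → P i := stepQ 8276 Q8276 (allL N8276 (tt N9855 D9952) (tt N6662 (iv D8369)) (tt N9856 D9953) (tt N9854 (iv F31883)) (tt N9847 (iv F31864)) (tt N8276 F26623) (tt N7194 F26624) (tt N9857 D9954))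
theorem Q8278 : ∀ i, i < 8278 → P i := stepQ 8277 Q8277 (allL N8277 (tt N9835 (iv F31813)) (tt N9857 (iv F31893)) (tt N6665 F26625) (tt N9858 D9955) (tt N9848 (iv F31869)) (tt N6663 F26626) (tt N9859 D9956) (tt N6662 (iv D8370)))
theorem Q8279 : ∀ i, i < 8279 → P i := stepQ 8278 Q8278 (allL N8278 (tt N9836 (iv F31818)) (tt N8278 F26627) (tt N9860 D9957) (tt N6663 (iv D8371)) (tt N9861 D9958) (tt N9858 (iv F31895)) (tt N6885 F26628) (tt N8819 (iv F28415)))
theorem Q8280 : ∀ i, i < 8280 → P i := stepQ 8279 Q8279 (allL N8279 (tt N6664 (iv D8372)) (tt N8151 F26629) (tt N9033 (iv F29111)) (tt N8094 F26630) (tt N7590 F26631) (tt N6667 F26632) (tt N7197 F26633) (tt N8150 (iv F26634)))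
theorem Q8281 : ∀ i, i < 8281 → P i := stepQ 8280 Q8280 (allL N8280 (tt N9033 (iv F29110)) (tt N9856 (iv F31889)) (tt N6664 (iv D8373)) (tt N9029 (iv F29103)) (tt N8263 F26635) (tt N6668 F26636) (tt N7198 F26637) (tt N9862 D9959))
theorem Q8282 : ∀ i, i < 8282 → P i := stepQ 8281 Q8281 (allL N8281 (tt N8150 F26638) (tt N6665 F26639) (tt N9862 (iv F31906)) (tt N8152 (iv F26641)) (tt N8792 (iv F28337)) (tt N6669 F26640) (tt N9524 (iv F30690)) (tt N6664 (iv D8374)))
theorem Q8283 : ∀ i, i < 8283 → P i := stepQ 8282 Q8282 (allL N8282 (tt N8030 F26642) (tt N8152 F26643) (tt N9863 D9960) (tt N6665 (iv D8375)) (tt N9864 D9961) (tt N6666 F26644) (tt N9865 D9962) (tt N9634 (iv F31131)))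
theorem Q8284 : ∀ i, i < 8284 → P i := stepQ 8283 Q8283 (allL N8283 (tt N9838 (iv F31827)) (tt N9524 (iv F30688)) (tt N9859 (iv F31896)) (tt N9865 (iv F31922)) (tt N9850 (iv F31873)) (tt N6887 F26645) (tt N6665 (iv D8376)) (tt N7199 F26646))
theorem Q8285 : ∀ i, i < 8285 → P i := stepQ 8284 Q8284 (allL N8284 (tt N8036 F26647) (tt N9866 D9963) (tt N6666 (iv D8377)) (tt N9860 (iv F31900)) (tt N9867 D9964) (tt N9863 (iv F31910)) (tt N6888 F26648) (tt N9636 (iv F31141)))
theorem Q8286 : ∀ i, i < 8286 → P i := stepQ 8285 Q8285 (allL N8285 (tt N8035 F26649) (tt N6671 F26650) (tt N9867 (iv F31933)) (tt N9852 (iv F31879)) (tt N6666 (iv D8378)) (tt N9864 (iv F31917)) (tt N6889 F26651) (tt N9470 (iv F30491)))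
theorem Q8287 : ∀ i, i < 8287 → P i := stepQ 8286 Q8286 (allL N8286 (tt N8169 F26652) (tt N8286 F26653) (tt N6669 F26654) (tt N9868 D9965) (tt N8289 (iv F26667)) (tt N9862 (iv F31908)) (tt N8286 F26655) (tt N6668 (iv D8379)))
theorem Q8288 : ∀ i, i < 8288 → P i := stepQ 8287 Q8287 (allL N8287 (tt N8287 F26656) (tt N6670 (iv D8380)) (tt N9866 (iv F31926)) (tt N8287 F26657) (tt N9593 (iv F30981)) (tt N9592 (iv F30976)) (tt N6890 F26658) (tt N7848 F26659))
theorem Q8289 : ∀ i, i < 8289 → P i := stepQ 8288 Q8288 (allL N8288 (tt N6674 F26660) (tt N9593 (iv F30984)) (tt N6671 F26661) (tt N8459 (iv F27273)) (tt N6670 (iv D8381)) (tt N8223 F26662) (tt N6891 F26663) (tt N7850 F26664))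
theorem Q8290 : ∀ i, i < 8290 → P i := stepQ 8289 Q8289 (allL N8289 (tt N9047 (iv F29157)) (tt N8289 F26665) (tt N7200 F26666) (tt N9869 D9966) (tt N8286 F26667) (tt N9841 (iv F31837)) (tt N8289 F26668) (tt N6675 (iv D8382)))
theorem Q8291 : ∀ i, i < 8291 → P i := stepQ 8290 Q8290 (allL N8290 (tt N8060 F26669) (tt N9632 (iv F31120)) (tt N9112 (iv F29389)) (tt N6681 F26670) (tt N8262 F26671) (tt N6676 (iv D8383)) (tt N9138 (iv F29472)) (tt N9631 F31118))
theorem Q8292 : ∀ i, i < 8292 → P i := stepQ 8291 Q8291 (allL N8291 (tt N8054 F26672) (tt N9145 (iv F29492)) (tt N6679 F26673) (tt N9870 D9967) (tt N8666 (iv F27991)) (tt N7093 F26674) (tt N9140 (iv F29479)) (tt N6677 (iv D8384)))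
theorem Q8293 : ∀ i, i < 8293 → P i := stepQ 8292 Q8292 (allL N8292 (tt N8057 F26675) (tt N9871 D9968) (tt N6681 F26676) (tt N9119 (iv F29408)) (tt N8654 (iv F27955)) (tt N6678 (iv D8385)) (tt N9139 (iv F29476)) (tt N8018 F26677))
theorem Q8294 : ∀ i, i < 8294 → P i := stepQ 8293 Q8293 (allL N8293 (tt N8058 F26678) (tt N8293 F26679) (tt N9140 (iv F29478)) (tt N6985 F26680) (tt N9028 (iv F29100)) (tt N9872 D9969) (tt N6679 (iv D8386)) (tt N6680 F26681))
theorem Q8295 : ∀ i, i < 8295 → P i := stepQ 8294 Q8294 (allL N8294 (tt N8059 F26682) (tt N9873 D9970) (tt N9139 (iv F29474)) (tt N9138 (iv F29470)) (tt N9029 (iv F29104)) (tt N6680 (iv D8387)) (tt N6681 F26683) (tt N9872 (iv F31957)))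
theorem Q8296 : ∀ i, i < 8296 → P i := stepQ 8295 Q8295 (allL N8295 (tt N9634 (iv F31129)) (tt N6681 (iv D8388)) (tt N9874 D9971) (tt N9632 (iv F31122)) (tt N9181 (iv F29631)) (tt N6682 F26684) (tt N9873 (iv F31959)) (tt N8030 F26685))
theorem Q8297 : ∀ i, i < 8297 → P i := stepQ 8296 Q8296 (allL N8296 (tt N9636 (iv F31136)) (tt N8296 F26686) (tt N6682 (iv D8389)) (tt N9875 D9972) (tt N9471 (iv F30496)) (tt N9874 (iv F31960)) (tt N8296 F26687) (tt N8036 F26688))
theorem Q8298 : ∀ i, i < 8298 → P i := stepQ 8297 Q8297 (allL N8297 (tt N7986 F26689) (tt N8297 F26690) (tt N6706 F26691) (tt N6683 (iv D8390)) (tt N9876 D9973) (tt N8297 F26692) (tt N9877 D9974) (tt N9094 F29325))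
theorem Q8299 : ∀ i, i < 8299 → P i := stepQ 8298 Q8298 (allL N8298 (tt N7987 F26693) (tt N8298 F26694) (tt N6684 F26695) (tt N9877 (iv F31977)) (tt N8298 F26696) (tt N9878 D9975) (tt N6683 (iv D8391)) (tt N8419 (iv F27117)))
theorem Q8300 : ∀ i, i < 8300 → P i := stepQ 8299 Q8299 (allL N8299 (tt N7988 F26697) (tt N8299 F26698) (tt N9878 (iv F31982)) (tt N6708 F26699) (tt N8299 F26700) (tt N6684 (iv D8392)) (tt N8299 F26701) (tt N8413 (iv F27101)))
theorem Q8301 : ∀ i, i < 8301 → P i := stepQ 8300 Q8300 (allL N8300 (tt N6688 F26702) (tt N6697 F26703) (tt N8987 (iv F28978)) (tt N6685 (iv D8393)) (tt N6729 F26704) (tt N9879 D9976) (tt N6728 F26705) (tt N8354 (iv F26883)))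
theorem Q8302 : ∀ i, i < 8302 → P i := stepQ 8301 Q8301 (allL N8301 (tt N6689 F26706) (tt N9603 (iv F31029)) (tt N8301 F26707) (tt N9879 (iv F31988)) (tt N6686 F26708) (tt N6685 (iv D8394)) (tt N9880 D9977) (tt N8031 F26709))
theorem Q8303 : ∀ i, i < 8303 → P i := stepQ 8302 Q8302 (allL N8302 (tt N6691 F26710) (tt N9604 (iv F31034)) (tt N8302 F26711) (tt N7813 F26712) (tt N9880 (iv F31993)) (tt N9881 D9978) (tt N6686 (iv D8395)) (tt N9882 D9979))
theorem Q8304 : ∀ i, i < 8304 → P i := stepQ 8303 Q8303 (allL N8303 (tt N6692 F26713) (tt N8343 (iv F26843)) (tt N8303 F26714) (tt N6734 F26715) (tt N8310 (iv F26741)) (tt N6687 (iv D8396)) (tt N9881 (iv F31997)) (tt N8307 (iv F26731)))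
theorem Q8305 : ∀ i, i < 8305 → P i := stepQ 8304 Q8304 (allL N8304 (tt N9879 (iv F31987)) (tt N6692 F26716) (tt N9513 (iv F30651)) (tt N6689 F26717) (tt N6732 F26718) (tt N6688 (iv D8397)) (tt N9883 D9980) (tt N8145 (iv F26719)))
theorem Q8306 : ∀ i, i < 8306 → P i := stepQ 8305 Q8305 (allL N8305 (tt N8354 (iv F26880)) (tt N6694 F26720) (tt N9535 (iv F30730)) (tt N8138 F26721) (tt N6733 F26722) (tt N8145 F26723) (tt N9884 D9981) (tt N6688 (iv D8398)))
theorem Q8307 : ∀ i, i < 8307 → P i := stepQ 8306 Q8306 (allL N8306 (tt N9880 (iv F31991)) (tt N6737 F26724) (tt N8306 F26725) (tt N9883 (iv F32001)) (tt N6691 F26726) (tt N9885 D9982) (tt N6689 (iv D8399)) (tt N9886 D9983))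
theorem Q8308 : ∀ i, i < 8308 → P i := stepQ 8307 Q8307 (allL N8307 (tt N8310 (iv F26737)) (tt N6732 F26727) (tt N8307 F26728) (tt N6730 F26729) (tt N6692 F26730) (tt N6690 (iv D8400)) (tt N9885 (iv F32013)) (tt N8303 F26731))
theorem Q8309 : ∀ i, i < 8309 → P i := stepQ 8308 Q8308 (allL N8308 (tt N9881 (iv F31994)) (tt N9883 (iv F32000)) (tt N8308 F26732) (tt N6737 F26733) (tt N9885 (iv F32012)) (tt N6691 (iv D8401)) (tt N6692 F26734) (tt N9887 D9984))
theorem Q8310 : ∀ i, i < 8310 → P i := stepQ 8309 Q8309 (allL N8309 (tt N9882 (iv F31998)) (tt N6739 F26735) (tt N8309 F26736) (tt N9888 D9985) (tt N9886 (iv F32016)) (tt N9887 (iv F32019)) (tt N8734 (iv F28172)) (tt N6691 (iv D8402)))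
theorem Q8311 : ∀ i, i < 8311 → P i := stepQ 8310 Q8310 (allL N8310 (tt N8307 F26737) (tt N8145 F26738) (tt N8310 F26739) (tt N8143 F26740) (tt N8303 F26741) (tt N6693 F26742) (tt N9889 D9986) (tt N6692 (iv D8403)))
theorem Q8312 : ∀ i, i < 8312 → P i := stepQ 8311 Q8311 (allL N8311 (tt N6702 F26743) (tt N9884 (iv F32005)) (tt N6696 F26744) (tt N8353 (iv F26876)) (tt N6724 F26745) (tt N8314 (iv F26759)) (tt N6694 (iv D8404)) (tt N6722 F26746))
theorem Q8313 : ∀ i, i < 8313 → P i := stepQ 8312 Q8312 (allL N8312 (tt N8312 F26747) (tt N6696 F26748) (tt N9566 (iv F30849)) (tt N8312 F26749) (tt N6717 F26750) (tt N9890 D9987) (tt N6695 (iv D8405)) (tt N6715 F26751))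
theorem Q8314 : ∀ i, i < 8314 → P i := stepQ 8313 Q8313 (allL N8313 (tt N6750 F26752) (tt N6698 (iv D8406)) (tt N7187 F26753) (tt N8339 (iv F26837)) (tt N6699 F26754) (tt N9603 (iv F31031)) (tt N9891 D9988) (tt N7183 F26755))
theorem Q8315 : ∀ i, i < 8315 → P i := stepQ 8314 Q8314 (allL N8314 (tt N6701 F26756) (tt N9891 (iv F32035)) (tt N6703 F26757) (tt N8351 (iv F26868)) (tt N6700 F26758) (tt N8311 F26759) (tt N6698 (iv D8407)) (tt N8090 F26760))
theorem Q8316 : ∀ i, i < 8316 → P i := stepQ 8315 Q8315 (allL N8315 (tt N6752 F26761) (tt N6700 F26762) (tt N9601 (iv F31022)) (tt N7983 F26763) (tt N9891 (iv F32038)) (tt N9892 D9989) (tt N6699 (iv D8408)) (tt N8334 (iv F26824)))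
theorem Q8317 : ∀ i, i < 8317 → P i := stepQ 8316 Q8316 (allL N8316 (tt N6707 F26764) (tt N9601 (iv F31021)) (tt N6705 F26765) (tt N9600 (iv F31018)) (tt N7543 F26766) (tt N9893 D9990) (tt N6704 (iv D8409)) (tt N8335 (iv F26827)))
theorem Q8318 : ∀ i, i < 8318 → P i := stepQ 8317 Q8317 (allL N8317 (tt N6708 F26767) (tt N8329 (iv F26809)) (tt N9893 (iv F32043)) (tt N7988 F26768) (tt N9137 (iv F29466)) (tt N6705 (iv D8410)) (tt N8317 F26769) (tt N8328 (iv F26807)))
theorem Q8319 : ∀ i, i < 8319 → P i := stepQ 8318 Q8318 (allL N8318 (tt N7765 F26770) (tt N6771 F26771) (tt N9876 (iv F31969)) (tt N7735 F26772) (tt N6706 (iv D8411)) (tt N8318 F26773) (tt N9894 D9991) (tt N7746 F26774))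
theorem Q8320 : ∀ i, i < 8320 → P i := stepQ 8319 Q8319 (allL N8319 (tt N9600 (iv F31015)) (tt N6772 F26775) (tt N9877 (iv F31976)) (tt N6707 F26776) (tt N9894 (iv F32050)) (tt N9895 D9992) (tt N6706 (iv D8412)) (tt N9896 D9993))
theorem Q8321 : ∀ i, i < 8321 → P i := stepQ 8320 Q8320 (allL N8320 (tt N9893 (iv F32042)) (tt N9897 D9994) (tt N6708 F26777) (tt N9895 (iv F32054)) (tt N9136 (iv F29462)) (tt N6707 (iv D8413)) (tt N8320 F26778) (tt N9898 D9995))
theorem Q8322 : ∀ i, i < 8322 → P i := stepQ 8321 Q8321 (allL N8321 (tt N8335 (iv F26825)) (tt N6774 F26779) (tt N6709 F26780) (tt N9899 D9996) (tt N8787 (iv F28327)) (tt N9898 (iv F32068)) (tt N8785 (iv F28322)) (tt N6707 (iv D8414)))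
theorem Q8323 : ∀ i, i < 8323 → P i := stepQ 8322 Q8322 (allL N8322 (tt N8328 F26806) (tt N8322 F26781) (tt N9898 (iv F32066)) (tt N7808 (iv F26784)) (tt N7779 F26782) (tt N6709 F26783) (tt N7778 (iv F26785)) (tt N6708 (iv D8415)))
theorem Q8324 : ∀ i, i < 8324 → P i := stepQ 8323 Q8323 (allL N8323 (tt N9900 D9997) (tt N6712 (iv D8416)) (tt N9901 D9998) (tt N8682 (iv F28020)) (tt N7303 F26786) (tt N9641 (iv F31161)) (tt N7298 F26787) (tt N6795 F26788))
theorem Q8325 : ∀ i, i < 8325 → P i := stepQ 8324 Q8324 (allL N8324 (tt N8324 F26789) (tt N8600 (iv F27744)) (tt N6826 F26790) (tt N6713 (iv D8417)) (tt N9781 (iv F31608)) (tt N7241 F26791) (tt N9902 D9999) (tt N8324 F26792))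
theorem Q8326 : ∀ i, i < 8326 → P i := stepQ 8325 Q8325 (allL N8325 (tt N8325 F26793) (tt N9768 (iv F31563)) (tt N6715 F26794) (tt N9902 (iv F32082)) (tt N6714 F26795) (tt N9903 D10000) (tt N6713 (iv D8418)) (tt N9566 (iv F30851)))
theorem Q8327 : ∀ i, i < 8327 → P i := stepQ 8326 Q8326 (allL N8326 (tt N8326 F26796) (tt N9904 D10001) (tt N6716 F26797) (tt N8895 F28686) (tt N9903 (iv F32089)) (tt N6714 (iv D8419)) (tt N7314 F26798) (tt N9567 (iv F30856)))
theorem Q8328 : ∀ i, i < 8328 → P i := stepQ 8327 Q8327 (allL N8327 (tt N8327 F26799) (tt N9383 (iv F30202)) (tt N9903 (iv F32087)) (tt N6828 F26800) (tt N6716 F26801) (tt N6715 (iv D8420)) (tt N7243 F26802) (tt N9890 (iv F32033)))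
theorem Q8329 : ∀ i, i < 8329 → P i := stepQ 8328 Q8328 (allL N8328 (tt N8322 (iv F26806)) (tt N6716 (iv D8421)) (tt N9905 D10002) (tt N6718 F26803) (tt N9383 (iv F30204)) (tt N6725 F26804) (tt N7315 F26805) (tt N8317 F26807))
theorem Q8330 : ∀ i, i < 8330 → P i := stepQ 8329 Q8329 (allL N8329 (tt N8329 F26808) (tt N8317 F26809) (tt N9567 (iv F30853)) (tt N6805 F26810) (tt N9890 (iv F32031)) (tt N6717 F26811) (tt N8329 F26812) (tt N6716 (iv D8422)))
theorem Q8331 : ∀ i, i < 8331 → P i := stepQ 8330 Q8330 (allL N8330 (tt N9462 (iv F30452)) (tt N9901 (iv F32076)) (tt N6718 (iv D8423)) (tt N9906 D10003) (tt N7318 F26813) (tt N6727 F26814) (tt N7316 F26815) (tt N6807 F26816))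
theorem Q8332 : ∀ i, i < 8332 → P i := stepQ 8331 Q8331 (allL N8331 (tt N8077 F26817) (tt N6722 F26818) (tt N9768 (iv F31564)) (tt N8074 F26819) (tt N6721 F26820) (tt N9907 D10004) (tt N6720 (iv D8424)) (tt N9884 (iv F32008)))
theorem Q8333 : ∀ i, i < 8333 → P i := stepQ 8332 Q8332 (allL N8332 (tt N9751 (iv F31507)) (tt N9908 D10005) (tt N9770 (iv F31569)) (tt N9648 (iv F31189)) (tt N9907 (iv F32100)) (tt N6721 (iv D8425)) (tt N9748 (iv F31497)) (tt N9909 D10006))
theorem Q8334 : ∀ i, i < 8334 → P i := stepQ 8333 Q8333 (allL N8333 (tt N9752 (iv F31512)) (tt N6724 F26821) (tt N9536 (iv F30734)) (tt N8355 (iv F26885)) (tt N9884 (iv F32007)) (tt N9909 (iv F32104)) (tt N6733 F26822) (tt N6721 (iv D8426)))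
theorem Q8335 : ∀ i, i < 8335 → P i := stepQ 8334 Q8334 (allL N8334 (tt N8358 (iv F26893)) (tt N6723 (iv D8427)) (tt N9910 D10007) (tt N9206 (iv F29712)) (tt N9672 (iv F31265)) (tt N9908 (iv F32101)) (tt N7602 F26823) (tt N8315 F26824))
theorem Q8336 : ∀ i, i < 8336 → P i := stepQ 8335 Q8335 (allL N8335 (tt N8321 F26825) (tt N9910 (iv F32106)) (tt N6725 (iv D8428)) (tt N9911 D10008) (tt N9149 (iv F29510)) (tt N9905 (iv F32093)) (tt N7603 F26826) (tt N8316 F26827))
theorem Q8337 : ∀ i, i < 8337 → P i := stepQ 8336 Q8336 (allL N8336 (tt N6727 F26828) (tt N9912 D10009) (tt N6726 (iv D8429)) (tt N9913 D10010) (tt N7608 F26829) (tt N9462 (iv F30456)) (tt N7604 F26830) (tt N6815 F26831))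
theorem Q8338 : ∀ i, i < 8338 → P i := stepQ 8337 Q8337 (allL N8337 (tt N9913 (iv F32116)) (tt N9652 (iv F31203)) (tt N9911 (iv F32110)) (tt N6727 (iv D8430)) (tt N9914 D10011) (tt N9906 (iv F32096)) (tt N7605 F26832) (tt N9915 D10012))
theorem Q8339 : ∀ i, i < 8339 → P i := stepQ 8338 Q8338 (allL N8338 (tt N6732 F26833) (tt N9619 (iv F31083)) (tt N8466 (iv F27305)) (tt N6736 F26834) (tt N9879 (iv F31989)) (tt N6729 (iv D8431)) (tt N9738 (iv F31477)) (tt N9916 D10013))
theorem Q8340 : ∀ i, i < 8340 → P i := stepQ 8339 Q8339 (allL N8339 (tt N6733 F26835) (tt N6748 F26836) (tt N8985 (iv F28968)) (tt N8313 F26837) (tt N8354 (iv F26882)) (tt N9916 (iv F32126)) (tt N9752 (iv F31516)) (tt N6729 (iv D8432)))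
theorem Q8341 : ∀ i, i < 8341 → P i := stepQ 8340 Q8340 (allL N8340 (tt N9197 (iv F29686)) (tt N6738 F26838) (tt N9195 (iv F29681)) (tt N9885 (iv F32011)) (tt N6731 F26839) (tt N9883 (iv F32003)) (tt N6730 (iv D8433)) (tt N9194 F29678))
theorem Q8342 : ∀ i, i < 8342 → P i := stepQ 8341 Q8341 (allL N8341 (tt N9738 (iv F31474)) (tt N9885 (iv F32009)) (tt N9514 (iv F30656)) (tt N6738 F26840) (tt N9883 (iv F32002)) (tt N6731 (iv D8434)) (tt N6732 F26841) (tt N9917 D10014))
theorem Q8343 : ∀ i, i < 8343 → P i := stepQ 8342 Q8342 (allL N8342 (tt N9193 (iv F29670)) (tt N7814 F26842) (tt N8375 F26963) (tt N9918 D10015) (tt N9194 (iv F29677)) (tt N9917 (iv F32127)) (tt N9749 (iv F31501)) (tt N6731 (iv D8435)))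
theorem Q8344 : ∀ i, i < 8344 → P i := stepQ 8343 Q8343 (allL N8343 (tt N9916 (iv F32122)) (tt N8303 F26843) (tt N9511 (iv F30646)) (tt N8119 F26844) (tt N8145 F26845) (tt N6733 F26846) (tt N9919 D10016) (tt N6732 (iv D8436)))
theorem Q8345 : ∀ i, i < 8345 → P i := stepQ 8344 Q8344 (allL N8344 (tt N6737 F26847) (tt N9706 (iv F31383)) (tt N7234 F26848) (tt N9881 (iv F31996)) (tt N6735 F26849) (tt N7813 F26850) (tt N6734 (iv D8437)) (tt N9920 D10017))
theorem Q8346 : ∀ i, i < 8346 → P i := stepQ 8345 Q8345 (allL N8345 (tt N6738 F26851) (tt N9620 (iv F31086)) (tt N7235 F26852) (tt N9738 (iv F31476)) (tt N7813 F26853) (tt N6735 (iv D8438)) (tt N6736 F26854) (tt N9921 D10018))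
theorem Q8347 : ∀ i, i < 8347 → P i := stepQ 8346 Q8346 (allL N8346 (tt N6739 F26855) (tt N9708 (iv F31389)) (tt N7236 F26856) (tt N9922 D10019) (tt N9920 (iv F32135)) (tt N9921 (iv F32141)) (tt N9660 (iv F31237)) (tt N6735 (iv D8439)))
theorem Q8348 : ∀ i, i < 8348 → P i := stepQ 8347 Q8347 (allL N8347 (tt N9920 (iv F32133)) (tt N9886 (iv F32014)) (tt N7237 F26857) (tt N9923 D10020) (tt N6739 F26858) (tt N7814 F26859) (tt N9664 (iv F31247)) (tt N6737 (iv D8440)))
theorem Q8349 : ∀ i, i < 8349 → P i := stepQ 8348 Q8348 (allL N8348 (tt N9921 (iv F32137)) (tt N9194 (iv F29676)) (tt N7238 F26860) (tt N9924 D10021) (tt N7814 F26861) (tt N6739 F26862) (tt N9925 D10022) (tt N6738 (iv D8441)))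
theorem Q8350 : ∀ i, i < 8350 → P i := stepQ 8349 Q8349 (allL N8349 (tt N9922 (iv F32143)) (tt N9888 (iv F32020)) (tt N9926 D10023) (tt N6739 (iv D8442)) (tt N9927 D10024) (tt N9924 (iv F32145)) (tt N9668 (iv F31254)) (tt N9918 (iv F32129)))
theorem Q8351 : ∀ i, i < 8351 → P i := stepQ 8350 Q8350 (allL N8350 (tt N8266 F26863) (tt N9747 (iv F31490)) (tt N7240 F26864) (tt N8678 (iv F28013)) (tt N7600 F26865) (tt N9671 (iv F31262)) (tt N6740 (iv D8443)) (tt N9925 (iv F32149)))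
theorem Q8352 : ∀ i, i < 8352 → P i := stepQ 8351 Q8351 (allL N8351 (tt N6743 F26866) (tt N9752 (iv F31513)) (tt N8351 F26867) (tt N8314 F26868) (tt N8086 F26869) (tt N8353 (iv F26878)) (tt N6748 F26870) (tt N6742 (iv D8444)))
theorem Q8353 : ∀ i, i < 8353 → P i := stepQ 8352 Q8352 (allL N8352 (tt N9477 (iv F30518)) (tt N6744 (iv D8445)) (tt N9912 (iv F32112)) (tt N8385 (iv F26985)) (tt N7834 F26871) (tt N9928 D10025) (tt N7830 F26872) (tt N6831 F26873))
theorem Q8354 : ∀ i, i < 8354 → P i := stepQ 8353 Q8353 (allL N8353 (tt N6749 F26874) (tt N9732 (iv F31453)) (tt N8353 F26875) (tt N8311 F26876) (tt N6746 F26877) (tt N8351 F26878) (tt N6745 (iv D8446)) (tt N7818 F26879))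
theorem Q8355 : ∀ i, i < 8355 → P i := stepQ 8354 Q8354 (allL N8354 (tt N8305 F26880) (tt N6747 (iv D8447)) (tt N9929 D10026) (tt N6755 F26881) (tt N8339 F26882) (tt N9619 (iv F31084)) (tt N9662 (iv F31241)) (tt N8300 F26883))
theorem Q8356 : ∀ i, i < 8356 → P i := stepQ 8355 Q8355 (allL N8355 (tt N9891 (iv F32034)) (tt N6751 F26884) (tt N9702 (iv F31373)) (tt N8333 F26885) (tt N6752 F26886) (tt N9930 D10027) (tt N6750 (iv D8448)) (tt N9931 D10028))
theorem Q8357 : ∀ i, i < 8357 → P i := stepQ 8356 Q8356 (allL N8356 (tt N6756 F26887) (tt N9931 (iv F32163)) (tt N6759 F26888) (tt N8064 F26889) (tt N6754 F26890) (tt N7581 F26891) (tt N8072 F26892) (tt N6751 (iv D8449)))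
theorem Q8358 : ∀ i, i < 8358 → P i := stepQ 8357 Q8357 (allL N8357 (tt N9892 (iv F32040)) (tt N9932 D10029) (tt N9703 (iv F31376)) (tt N9733 (iv F31459)) (tt N9930 (iv F32161)) (tt N6752 (iv D8450)) (tt N9707 (iv F31388)) (tt N9933 D10030))
theorem Q8359 : ∀ i, i < 8359 → P i := stepQ 8358 Q8358 (allL N8358 (tt N8334 F26893) (tt N6754 F26894) (tt N9704 (iv F31380)) (tt N7602 (iv F26895)) (tt N9931 (iv F32165)) (tt N9933 (iv F32172)) (tt N9206 (iv F29713)) (tt N6752 (iv D8451)))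
theorem Q8360 : ∀ i, i < 8360 → P i := stepQ 8359 Q8359 (allL N8359 (tt N9732 (iv F31452)) (tt N6753 (iv D8452)) (tt N8704 (iv F28078)) (tt N9662 (iv F31240)) (tt N7983 F26896) (tt N9932 (iv F32168)) (tt N6755 F26897) (tt N7580 F26898))
theorem Q8361 : ∀ i, i < 8361 → P i := stepQ 8360 Q8360 (allL N8360 (tt N6766 F26899) (tt N7373 F26900) (tt N7733 F26901) (tt N6757 (iv D8453)) (tt N9684 (iv F31314)) (tt N7247 F26902) (tt N9934 D10031) (tt N7361 F26903))
theorem Q8362 : ∀ i, i < 8362 → P i := stepQ 8361 Q8361 (allL N8361 (tt N6767 F26904) (tt N9702 (iv F31372)) (tt N6758 F26905) (tt N9934 (iv F32177)) (tt N6760 F26906) (tt N9935 D10032) (tt N6757 (iv D8454)) (tt N9936 D10033))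
theorem Q8363 : ∀ i, i < 8363 → P i := stepQ 8362 Q8362 (allL N8362 (tt N6768 F26907) (tt N7984 F26908) (tt N9935 (iv F32179)) (tt N7993 F26909) (tt N6761 F26910) (tt N6758 (iv D8455)) (tt N7249 F26911) (tt N9080 (iv F29275)))
theorem Q8364 : ∀ i, i < 8364 → P i := stepQ 8363 Q8363 (allL N8363 (tt N6769 F26912) (tt N6759 F26913) (tt N9936 (iv F32183)) (tt N7593 F26914) (tt N6762 F26915) (tt N9080 (iv F29273)) (tt N8185 F26916) (tt N6758 (iv D8456)))
theorem Q8365 : ∀ i, i < 8365 → P i := stepQ 8364 Q8364 (allL N8364 (tt N6773 F26917) (tt N9937 D10034) (tt N6761 F26918) (tt N9698 (iv F31365)) (tt N9935 (iv F32180)) (tt N6760 (iv D8457)) (tt N7252 F26919) (tt N9938 D10035))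
theorem Q8366 : ∀ i, i < 8366 → P i := stepQ 8365 Q8365 (allL N8365 (tt N6774 F26920) (tt N9704 (iv F31379)) (tt N6762 F26921) (tt N9939 D10036) (tt N9936 (iv F32184)) (tt N9938 (iv F32189)) (tt N9650 (iv F31197)) (tt N6760 (iv D8458)))
theorem Q8367 : ∀ i, i < 8367 → P i := stepQ 8366 Q8366 (allL N8366 (tt N8366 F26922) (tt N6761 (iv D8459)) (tt N9081 (iv F29278)) (tt N8366 F26923) (tt N7984 F26924) (tt N6763 F26925) (tt N7254 F26926) (tt N7431 (iv F26927)))
theorem Q8368 : ∀ i, i < 8368 → P i := stepQ 8367 Q8367 (allL N8367 (tt N6775 F26928) (tt N7431 F26929) (tt N9938 (iv F32188)) (tt N7432 (iv F26931)) (tt N9080 (iv F29272)) (tt N6762 F26930) (tt N9088 (iv F29304)) (tt N6761 (iv D8460)))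
theorem Q8369 : ∀ i, i < 8369 → P i := stepQ 8368 Q8368 (allL N8368 (tt N7733 F26932) (tt N8368 F26933) (tt N6766 F26934) (tt N6764 (iv D8461)) (tt N9940 D10037) (tt N7265 F26935) (tt N8845 (iv F28501)) (tt N7715 F26936))
theorem Q8370 : ∀ i, i < 8370 → P i := stepQ 8369 Q8369 (allL N8369 (tt N7993 F26937) (tt N8369 F26938) (tt N7867 F26939) (tt N6768 F26940) (tt N8369 F26941) (tt N6765 (iv D8462)) (tt N7268 F26942) (tt N7875 F26943))
theorem Q8371 : ∀ i, i < 8371 → P i := stepQ 8370 Q8370 (allL N8370 (tt N9684 (iv F31312)) (tt N7735 F26944) (tt N9940 (iv F32194)) (tt N6771 F26945) (tt N6766 (iv D8463)) (tt N7275 F26946) (tt N9941 D10038) (tt N7718 F26947))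
theorem Q8372 : ∀ i, i < 8372 → P i := stepQ 8371 Q8371 (allL N8371 (tt N9934 (iv F32174)) (tt N7738 F26948) (tt N8845 (iv F28500)) (tt N6767 F26949) (tt N9941 (iv F32200)) (tt N9942 D10039) (tt N6766 (iv D8464)) (tt N8852 (iv F28521)))
theorem Q8373 : ∀ i, i < 8373 → P i := stepQ 8372 Q8372 (allL N8372 (tt N9935 (iv F32178)) (tt N9943 D10040) (tt N6768 F26950) (tt N9942 (iv F32202)) (tt N6773 F26951) (tt N6767 (iv D8465)) (tt N7278 F26952) (tt N9944 D10041))
theorem Q8374 : ∀ i, i < 8374 → P i := stepQ 8373 Q8373 (allL N8373 (tt N9936 (iv F32182)) (tt N8787 (iv F28325)) (tt N6769 F26953) (tt N9945 D10042) (tt N6774 F26954) (tt N9944 (iv F32209)) (tt N8783 (iv F28315)) (tt N6767 (iv D8466)))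
theorem Q8375 : ∀ i, i < 8375 → P i := stepQ 8374 Q8374 (allL N8374 (tt N9080 F29276) (tt N8374 F26955) (tt N9944 (iv F32207)) (tt N9946 D10043) (tt N6775 F26956) (tt N6769 F26957) (tt N9089 (iv F29309)) (tt N6768 (iv D8467)))
theorem Q8376 : ∀ i, i < 8376 → P i := stepQ 8375 Q8375 (allL N8375 (tt N7593 F26958) (tt N6770 F26959) (tt N8342 (iv F26963)) (tt N6769 (iv D8468)) (tt N7594 F26960) (tt N9946 (iv F32215)) (tt N8177 F26961) (tt N8166 F26962))
theorem Q8377 : ∀ i, i < 8377 → P i := stepQ 8376 Q8376 (allL N8376 (tt N9685 (iv F31318)) (tt N9894 (iv F32047)) (tt N8376 F26964) (tt N9941 (iv F32199)) (tt N6772 F26965) (tt N9947 D10044) (tt N6771 (iv D8469)) (tt N9948 D10045))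
theorem Q8378 : ∀ i, i < 8378 → P i := stepQ 8377 Q8377 (allL N8377 (tt N9698 (iv F31363)) (tt N9463 (iv F30459)) (tt N8377 F26966) (tt N6773 F26967) (tt N9947 (iv F32220)) (tt N6772 (iv D8470)) (tt N7284 F26968) (tt N9460 (iv F30446)))
theorem Q8379 : ∀ i, i < 8379 → P i := stepQ 8378 Q8378 (allL N8378 (tt N9697 (iv F31359)) (tt N9896 (iv F32058)) (tt N8378 F26969) (tt N9949 D10046) (tt N9948 (iv F32224)) (tt N9460 F30447) (tt N9695 (iv F31356)) (tt N6772 (iv D8471)))
theorem Q8380 : ∀ i, i < 8380 → P i := stepQ 8379 Q8379 (allL N8379 (tt N9950 D10047) (tt N6773 (iv D8472)) (tt N8379 F26970) (tt N9463 F30464) (tt N9943 (iv F32205)) (tt N9897 (iv F32063)) (tt N7285 F26971) (tt N9951 D10048))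
theorem Q8381 : ∀ i, i < 8381 → P i := stepQ 8380 Q8380 (allL N8380 (tt N9938 (iv F32187)) (tt N9951 (iv F32232)) (tt N6775 F26972) (tt N9952 D10049) (tt N9944 (iv F32208)) (tt N6774 F26973) (tt N9953 D10050) (tt N6773 (iv D8473)))
theorem Q8382 : ∀ i, i < 8382 → P i := stepQ 8381 Q8381 (allL N8381 (tt N9939 (iv F32190)) (tt N9899 (iv F32070)) (tt N9954 D10051) (tt N6774 (iv D8474)) (tt N9955 D10052) (tt N9952 (iv F32234)) (tt N9679 (iv F31291)) (tt N9949 (iv F32227)))
theorem Q8383 : ∀ i, i < 8383 → P i := stepQ 8382 Q8382 (allL N8382 (tt N7432 F26974) (tt N8382 F26975) (tt N9956 D10053) (tt N6775 (iv D8475)) (tt N7453 (iv F26978)) (tt N6776 F26976) (tt N9957 D10054) (tt N8382 F26977))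
theorem Q8384 : ∀ i, i < 8384 → P i := stepQ 8383 Q8383 (allL N8383 (tt N9088 F29306) (tt N8383 F26979) (tt N9953 (iv F32235)) (tt N9957 (iv F32245)) (tt N9089 (iv F29308)) (tt N9680 (iv F31293)) (tt N6775 (iv D8476)) (tt N7289 F26980))
theorem Q8385 : ∀ i, i < 8385 → P i := stepQ 8384 Q8384 (allL N8384 (tt N7582 F26981) (tt N9958 D10055) (tt N6776 (iv D8477)) (tt N9954 (iv F32238)) (tt N7597 F26982) (tt N9956 (iv F32241)) (tt N9651 (iv F31201)) (tt N8384 F26983))
theorem Q8386 : ∀ i, i < 8386 → P i := stepQ 8385 Q8385 (allL N8385 (tt N7830 F26984) (tt N6777 (iv D8478)) (tt N9958 (iv F32248)) (tt N8352 F26985) (tt N7826 F26986) (tt N9959 D10056) (tt N9477 (iv F30520)) (tt N8385 F26987))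
theorem Q8387 : ∀ i, i < 8387 → P i := stepQ 8386 Q8386 (allL N8386 (tt N8386 F26988) (tt N6838 F26989) (tt N8386 F26990) (tt N6833 F26991) (tt N6778 (iv D8479)) (tt N7225 F26992) (tt N9960 D10057) (tt N6783 F26993))
theorem Q8388 : ∀ i, i < 8388 → P i := stepQ 8387 Q8387 (allL N8387 (tt N8387 F26994) (tt N9682 (iv F31302)) (tt N8387 F26995) (tt N6779 F26996) (tt N9960 (iv F32260)) (tt N9961 D10058) (tt N6778 (iv D8480)) (tt N9962 D10059))
theorem Q8389 : ∀ i, i < 8389 → P i := stepQ 8388 Q8388 (allL N8388 (tt N8388 F26997) (tt N9963 D10060) (tt N6798 F26998) (tt N9961 (iv F32263)) (tt N7228 F26999) (tt N6779 (iv D8481)) (tt N7227 F27000) (tt N6789 F27001))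
theorem Q8390 : ∀ i, i < 8390 → P i := stepQ 8389 Q8389 (allL N8389 (tt N7275 F27002) (tt N6781 F27003) (tt N8003 (iv F27006)) (tt N6780 (iv D8482)) (tt N7247 F27004) (tt N9684 (iv F31315)) (tt N9964 D10061) (tt N6970 F27005))
theorem Q8391 : ∀ i, i < 8391 → P i := stepQ 8390 Q8390 (allL N8390 (tt N6882 F27007) (tt N6782 F27008) (tt N8390 F27009) (tt N9964 (iv F32279)) (tt N6786 F27010) (tt N9965 D10062) (tt N6780 (iv D8483)) (tt N6843 F27011))
theorem Q8392 : ∀ i, i < 8392 → P i := stepQ 8391 Q8391 (allL N8391 (tt N8391 F27012) (tt N7247 F27013) (tt N8391 F27014) (tt N6787 F27015) (tt N6781 (iv D8484)) (tt N6783 F27016) (tt N9966 D10063) (tt N7225 F27017))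
theorem Q8393 : ∀ i, i < 8393 → P i := stepQ 8392 Q8392 (allL N8392 (tt N8392 F27018) (tt N9964 (iv F32277)) (tt N8392 F27019) (tt N6782 F27020) (tt N9966 (iv F32290)) (tt N9967 D10064) (tt N6781 (iv D8485)) (tt N9968 D10065))
theorem Q8394 : ∀ i, i < 8394 → P i := stepQ 8393 Q8393 (allL N8393 (tt N8393 F27021) (tt N9969 D10066) (tt N6796 F27022) (tt N9967 (iv F32293)) (tt N6789 F27023) (tt N6782 (iv D8486)) (tt N6785 F27024) (tt N7228 F27025))
theorem Q8395 : ∀ i, i < 8395 → P i := stepQ 8394 Q8394 (allL N8394 (tt N8394 F27026) (tt N9691 (iv F31339)) (tt N8394 F27027) (tt N6792 F27028) (tt N6784 F27029) (tt N8840 (iv F28487)) (tt N6783 (iv D8487)) (tt N8839 (iv F28482)))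
theorem Q8396 : ∀ i, i < 8396 → P i := stepQ 8395 Q8395 (allL N8395 (tt N8395 F27030) (tt N9970 D10067) (tt N8395 F27031) (tt N6785 F27032) (tt N8840 (iv F28486)) (tt N6784 (iv D8488)) (tt N9967 (iv F32294)) (tt N8838 F28476))
theorem Q8397 : ∀ i, i < 8397 → P i := stepQ 8396 Q8396 (allL N8396 (tt N8396 F27033) (tt N9693 (iv F31345)) (tt N8396 F27034) (tt N7302 F27035) (tt N8839 (iv F28481)) (tt N8838 (iv F28477)) (tt N9962 (iv F32272)) (tt N6784 (iv D8489)))
theorem Q8398 : ∀ i, i < 8398 → P i := stepQ 8397 Q8397 (allL N8397 (tt N9971 D10068) (tt N6785 (iv D8490)) (tt N9972 D10069) (tt N9970 (iv F32306)) (tt N6795 F27036) (tt N9694 (iv F31350)) (tt N9969 (iv F32304)) (tt N7303 F27037))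
theorem Q8399 : ∀ i, i < 8399 → P i := stepQ 8398 Q8398 (allL N8398 (tt N7284 F27038) (tt N9973 D10070) (tt N8398 F27039) (tt N7252 F27040) (tt N9965 (iv F32284)) (tt N6786 (iv D8491)) (tt N9698 (iv F31366)) (tt N9586 F30950))
theorem Q8400 : ∀ i, i < 8400 → P i := stepQ 8399 Q8399 (allL N8399 (tt N8399 F27041) (tt N7248 F27042) (tt N7244 F27043) (tt N9966 (iv F32289)) (tt N6788 F27044) (tt N8439 (iv F27187)) (tt N6787 (iv D8492)) (tt N8438 (iv F27182)))
theorem Q8401 : ∀ i, i < 8401 → P i := stepQ 8400 Q8400 (allL N8400 (tt N8400 F27045) (tt N8442 (iv F27197)) (tt N7245 F27046) (tt N6789 F27047) (tt N8439 (iv F27186)) (tt N6788 (iv D8493)) (tt N6793 F27048) (tt N8437 (iv F27176)))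
theorem Q8402 : ∀ i, i < 8402 → P i := stepQ 8401 Q8401 (allL N8401 (tt N8401 F27049) (tt N7253 F27050) (tt N7246 F27051) (tt N9962 (iv F32269)) (tt N8438 (iv F27180)) (tt N8437 (iv F27175)) (tt N7302 F27052) (tt N6788 (iv D8494)))
theorem Q8403 : ∀ i, i < 8403 → P i := stepQ 8402 Q8402 (allL N8402 (tt N8477 (iv F27344)) (tt N6789 (iv D8495)) (tt N9974 D10071) (tt N8442 F27201) (tt N9969 (iv F32303)) (tt N9973 (iv F32317)) (tt N6795 F27053) (tt N9963 (iv F32275)))
theorem Q8404 : ∀ i, i < 8404 → P i := stepQ 8403 Q8403 (allL N8403 (tt N8403 F27054) (tt N7234 F27055) (tt N6792 F27056) (tt N8403 F27057) (tt N6791 F27058) (tt N8238 F27059) (tt N6790 (iv D8496)) (tt N8237 (iv F27060)))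
theorem Q8405 : ∀ i, i < 8405 → P i := stepQ 8404 Q8404 (allL N8404 (tt N8404 F27061) (tt N8235 F27062) (tt N6793 F27063) (tt N6802 F27064) (tt N8238 F27065) (tt N6791 (iv D8497)) (tt N7245 F27066) (tt N8233 F27067))
theorem Q8406 : ∀ i, i < 8406 → P i := stepQ 8405 Q8405 (allL N8405 (tt N8405 F27068) (tt N7236 F27069) (tt N6794 F27070) (tt N9401 (iv F30272)) (tt N8237 F27071) (tt N8233 F27072) (tt N7307 F27073) (tt N6791 (iv D8498)))
theorem Q8407 : ∀ i, i < 8407 → P i := stepQ 8406 Q8406 (allL N8406 (tt N8270 (iv F27078)) (tt N6793 (iv D8499)) (tt N8251 F27074) (tt N6795 F27075) (tt N8256 F27076) (tt N9710 (iv F31394)) (tt N8442 (iv F27200)) (tt N8249 F27077))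
theorem Q8408 : ∀ i, i < 8408 → P i := stepQ 8407 Q8407 (allL N8407 (tt N6795 (iv D8500)) (tt N8407 F27079) (tt N9975 D10072) (tt N8270 F27080) (tt N9971 (iv F32311)) (tt N9712 (iv F31396)) (tt N8477 (iv F27346)) (tt N9900 (iv F32075)))
theorem Q8409 : ∀ i, i < 8409 → P i := stepQ 8408 Q8408 (allL N8408 (tt N9975 (iv F32320)) (tt N6807 F27081) (tt N6795 (iv D8501)) (tt N9976 D10073) (tt N9972 (iv F32314)) (tt N9713 (iv F31398)) (tt N9974 (iv F32319)) (tt N9901 (iv F32079)))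
theorem Q8410 : ∀ i, i < 8410 → P i := stepQ 8409 Q8409 (allL N8409 (tt N9463 (iv F30458)) (tt N9972 (iv F32313)) (tt N6797 (iv D8502)) (tt N9950 (iv F32229)) (tt N6807 F27082) (tt N6810 F27083) (tt N9554 (iv F30804)) (tt N7318 F27084))
theorem Q8411 : ∀ i, i < 8411 → P i := stepQ 8410 Q8410 (allL N8410 (tt N9588 (iv F30957)) (tt N6799 (iv D8503)) (tt N8462 (iv F27287)) (tt N6800 F27085) (tt N8410 F27086) (tt N8410 F27087) (tt N6804 F27088) (tt N8410 F27089))
theorem Q8412 : ∀ i, i < 8412 → P i := stepQ 8411 Q8411 (allL N8411 (tt N9587 (iv F30951)) (tt N9974 (iv F32318)) (tt N6800 (iv D8504)) (tt N9977 D10074) (tt N9554 (iv F30802)) (tt N8411 F27090) (tt N6807 F27091) (tt N9553 (iv F30799)))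
theorem Q8413 : ∀ i, i < 8413 → P i := stepQ 8412 Q8412 (allL N8412 (tt N8412 F27092) (tt N8470 (iv F27323)) (tt N6805 F27093) (tt N9403 (iv F30280)) (tt N8412 F27094) (tt N6803 F27095) (tt N8412 F27096) (tt N6802 (iv D8505)))
theorem Q8414 : ∀ i, i < 8414 → P i := stepQ 8413 Q8413 (allL N8413 (tt N6804 (iv D8506)) (tt N8413 F27097) (tt N9978 D10075) (tt N6806 F27098) (tt N8413 F27099) (tt N6813 F27100) (tt N9588 (iv F30961)) (tt N8299 F27101))
theorem Q8415 : ∀ i, i < 8415 → P i := stepQ 8414 Q8414 (allL N8414 (tt N9978 (iv F32327)) (tt N8460 (iv F27277)) (tt N6804 (iv D8507)) (tt N9979 D10076) (tt N8414 F27102) (tt N6814 F27103) (tt N8462 (iv F27290)) (tt N9591 (iv F30971)))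
theorem Q8416 : ∀ i, i < 8416 → P i := stepQ 8415 Q8415 (allL N8415 (tt N6807 F27104) (tt N9947 (iv F32218)) (tt N6806 (iv D8508)) (tt N9980 D10077) (tt N9463 (iv F30461)) (tt N6815 F27105) (tt N9587 (iv F30956)) (tt N9462 F30457))
theorem Q8417 : ∀ i, i < 8417 → P i := stepQ 8416 Q8416 (allL N8416 (tt N9980 (iv F32336)) (tt N9976 (iv F32323)) (tt N9979 (iv F32332)) (tt N6807 (iv D8509)) (tt N9981 D10078) (tt N6816 F27106) (tt N9977 (iv F32326)) (tt N9982 D10079))
theorem Q8418 : ∀ i, i < 8418 → P i := stepQ 8417 Q8417 (allL N8417 (tt N6810 F27107) (tt N9895 (iv F32052)) (tt N6809 (iv D8510)) (tt N9897 (iv F32062)) (tt N6815 F27108) (tt N9463 (iv F30462)) (tt N8417 F27109) (tt N7608 F27110))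
theorem Q8419 : ∀ i, i < 8419 → P i := stepQ 8418 Q8418 (allL N8418 (tt N9897 F32065) (tt N9761 (iv F31536)) (tt N8418 F27111) (tt N6810 (iv D8511)) (tt N9983 D10080) (tt N9950 (iv F32230)) (tt N8418 F27112) (tt N9984 D10081))
theorem Q8420 : ∀ i, i < 8420 → P i := stepQ 8419 Q8419 (allL N8419 (tt N6814 F27113) (tt N8419 F27114) (tt N6813 (iv D8512)) (tt N9985 D10082) (tt N8419 F27115) (tt N9978 (iv F32329)) (tt N8419 F27116) (tt N8298 F27117))
theorem Q8421 : ∀ i, i < 8421 → P i := stepQ 8420 Q8420 (allL N8420 (tt N9985 (iv F32349)) (tt N9594 (iv F30986)) (tt N6816 F27118) (tt N6814 (iv D8513)) (tt N9986 D10083) (tt N9979 (iv F32333)) (tt N8420 F27119) (tt N9987 D10084))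
theorem Q8422 : ∀ i, i < 8422 → P i := stepQ 8421 Q8421 (allL N8421 (tt N9763 (iv F31542)) (tt N6815 (iv D8514)) (tt N6831 F27120) (tt N9988 D10085) (tt N9895 (iv F32055)) (tt N9894 (iv F32051)) (tt N8421 F27121) (tt N9912 (iv F32115)))
theorem Q8423 : ∀ i, i < 8423 → P i := stepQ 8422 Q8422 (allL N8422 (tt N6816 F27122) (tt N9988 (iv F32366)) (tt N9985 (iv F32351)) (tt N6815 (iv D8515)) (tt N9989 D10086) (tt N9980 (iv F32337)) (tt N8422 F27123) (tt N9990 D10087))
theorem Q8424 : ∀ i, i < 8424 → P i := stepQ 8423 Q8423 (allL N8423 (tt N9989 (iv F32371)) (tt N9765 (iv F31552)) (tt N9986 (iv F32354)) (tt N9983 (iv F32345)) (tt N6816 (iv D8516)) (tt N9981 (iv F32339)) (tt N8423 F27124) (tt N9991 D10088))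
theorem Q8425 : ∀ i, i < 8425 → P i := stepQ 8424 Q8424 (allL N8424 (tt N9990 (iv F32374)) (tt N9766 (iv F31554)) (tt N9987 (iv F32360)) (tt N9915 (iv F32121)) (tt N9991 (iv F32376)) (tt N9982 (iv F32343)) (tt N9992 D10089) (tt N6816 (iv D8517)))
theorem Q8426 : ∀ i, i < 8426 → P i := stepQ 8425 Q8425 (allL N8425 (tt N6821 F27125) (tt N8633 (iv F27864)) (tt N7346 F27126) (tt N8907 (iv F28726)) (tt N6820 F27127) (tt N7621 F27128) (tt N8896 (iv F28689)) (tt N6818 (iv D8518)))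
theorem Q8427 : ∀ i, i < 8427 → P i := stepQ 8426 Q8426 (allL N8426 (tt N6822 F27129) (tt N8630 (iv F27847)) (tt N7350 F27130) (tt N9529 (iv F30711)) (tt N7621 F27131) (tt N6820 F27132) (tt N8632 (iv F27861)) (tt N6819 (iv D8519)))
theorem Q8428 : ∀ i, i < 8428 → P i := stepQ 8427 Q8427 (allL N8427 (tt N9529 (iv F30710)) (tt N8999 (iv F29016)) (tt N8990 (iv F28986)) (tt N6822 (iv D8520)) (tt N9430 (iv F30356)) (tt N6823 F27133) (tt N9993 D10090) (tt N8984 (iv F28964)))
theorem Q8429 : ∀ i, i < 8429 → P i := stepQ 8428 Q8428 (allL N8428 (tt N8632 (iv F27859)) (tt N8551 (iv F27581)) (tt N7355 F27134) (tt N9993 (iv F32382)) (tt N7612 F27135) (tt N9801 (iv F31668)) (tt N6822 (iv D8521)) (tt N6824 F27136))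
theorem Q8430 : ∀ i, i < 8430 → P i := stepQ 8429 Q8429 (allL N8429 (tt N9531 (iv F30716)) (tt N8429 F27137) (tt N8988 (iv F28982)) (tt N9431 (iv F30360)) (tt N6823 (iv D8522)) (tt N9430 F30358) (tt N9802 (iv F31671)) (tt N8982 F28955))
theorem Q8431 : ∀ i, i < 8431 → P i := stepQ 8430 Q8430 (allL N8430 (tt N8430 F27138) (tt N7027 F27139) (tt N9781 (iv F31606)) (tt N7029 F27140) (tt N6826 (iv D8523)) (tt N7304 F27141) (tt N7928 F27148) (tt N8430 F27142))
theorem Q8432 : ∀ i, i < 8432 → P i := stepQ 8431 Q8431 (allL N8431 (tt N8431 F27143) (tt N8626 (iv F27826)) (tt N9902 (iv F32081)) (tt N6827 F27144) (tt N7928 (iv F27146)) (tt N7938 F27145) (tt N6826 (iv D8524)) (tt N7927 (iv F27147)))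
theorem Q8433 : ∀ i, i < 8433 → P i := stepQ 8432 Q8432 (allL N8432 (tt N8432 F27149) (tt N9994 D10091) (tt N6828 F27150) (tt N7938 F27151) (tt N7317 F27152) (tt N6827 (iv D8525)) (tt N7323 F27153) (tt N8432 F27154))
theorem Q8434 : ∀ i, i < 8434 → P i := stepQ 8433 Q8433 (allL N8433 (tt N9814 (iv F31718)) (tt N6829 (iv D8526)) (tt N9895 (iv F32053)) (tt N9878 (iv F31983)) (tt N6831 F27155) (tt N9877 F31980) (tt N8433 F27156) (tt N7834 F27157))
theorem Q8435 : ∀ i, i < 8435 → P i := stepQ 8434 Q8434 (allL N8434 (tt N6830 F27158) (tt N9878 F31986) (tt N8434 F27159) (tt N6829 (iv D8527)) (tt N8434 F27160) (tt N8434 F27161) (tt N8434 F27162) (tt N9995 D10092))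
theorem Q8436 : ∀ i, i < 8436 → P i := stepQ 8435 Q8435 (allL N8435 (tt N9995 (iv F32390)) (tt N6893 F27163) (tt N8435 F27164) (tt N7836 F27165) (tt N8435 F27166) (tt N8435 F27167) (tt N6895 F27168) (tt N6830 (iv D8528)))
theorem Q8437 : ∀ i, i < 8437 → P i := stepQ 8436 Q8436 (allL N8436 (tt N9816 (iv F31731)) (tt N8436 F27169) (tt N9894 (iv F32048)) (tt N8436 F27170) (tt N9877 (iv F31978)) (tt N6831 (iv D8529)) (tt N9876 (iv F31973)) (tt N9928 (iv F32153)))
theorem Q8438 : ∀ i, i < 8438 → P i := stepQ 8437 Q8437 (allL N8437 (tt N8437 F27171) (tt N6839 F27172) (tt N6834 F27173) (tt N9960 (iv F32259)) (tt N6835 F27174) (tt N8401 F27175) (tt N6833 (iv D8530)) (tt N8400 F27176))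
theorem Q8439 : ∀ i, i < 8439 → P i := stepQ 8438 Q8438 (allL N8438 (tt N8438 F27177) (tt N8858 (iv F28540)) (tt N6836 F27178) (tt N7228 F27179) (tt N8401 F27180) (tt N6835 (iv D8531)) (tt N7230 F27181) (tt N8399 F27182))
theorem Q8440 : ∀ i, i < 8440 → P i := stepQ 8439 Q8439 (allL N8439 (tt N8439 F27183) (tt N6845 F27184) (tt N6837 F27185) (tt N9968 (iv F32299)) (tt N8400 F27186) (tt N8399 F27187) (tt N7297 F27188) (tt N6835 (iv D8532)))
theorem Q8441 : ∀ i, i < 8441 → P i := stepQ 8440 Q8440 (allL N8440 (tt N6872 F27189) (tt N9960 (iv F32257)) (tt N7865 F27190) (tt N6839 F27191) (tt N9682 (iv F31305)) (tt N9996 D10093) (tt N6838 (iv D8533)) (tt N9997 D10094))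
theorem Q8442 : ∀ i, i < 8442 → P i := stepQ 8441 Q8441 (allL N8441 (tt N6874 F27192) (tt N8863 (iv F28568)) (tt N6840 F27193) (tt N9996 (iv F32399)) (tt N6844 F27194) (tt N6839 (iv D8534)) (tt N7374 F27195) (tt N8862 F28566))
theorem Q8443 : ∀ i, i < 8443 → P i := stepQ 8442 Q8442 (allL N8442 (tt N6875 F27196) (tt N8400 F27197) (tt N6841 F27198) (tt N8402 (iv F27201)) (tt N6845 F27199) (tt N8862 (iv F28564)) (tt N8406 F27200) (tt N6839 (iv D8535)))
theorem Q8444 : ∀ i, i < 8444 → P i := stepQ 8443 Q8443 (allL N8443 (tt N6876 F27202) (tt N7860 F27203) (tt N8862 (iv F28562)) (tt N9998 D10095) (tt N6847 F27204) (tt N6841 F27205) (tt N9999 D10096) (tt N6840 (iv D8536)))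
theorem Q8445 : ∀ i, i < 8445 → P i := stepQ 8444 Q8444 (allL N8444 (tt N6877 F27206) (tt N6842 F27207) (tt N10000 D10097) (tt N6841 (iv D8537)) (tt N10001 D10098) (tt N9998 (iv F32411)) (tt N9831 (iv F31801)) (tt N7866 F27208))
theorem Q8446 : ∀ i, i < 8446 → P i := stepQ 8445 Q8445 (allL N8445 (tt N6850 F27209) (tt N10002 D10099) (tt N6842 (iv D8538)) (tt N6860 F27210) (tt N9494 (iv F30579)) (tt N6859 F27211) (tt N9493 (iv F30574)) (tt N7868 F27212))
theorem Q8447 : ∀ i, i < 8447 → P i := stepQ 8446 Q8446 (allL N8446 (tt N6851 F27213) (tt N10001 (iv F32427)) (tt N9494 (iv F30577)) (tt N6849 F27214) (tt N6842 (iv D8539)) (tt N7862 F27215) (tt N8034 F27216) (tt N7869 F27217))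
theorem Q8448 : ∀ i, i < 8448 → P i := stepQ 8447 Q8447 (allL N8447 (tt N6881 F27218) (tt N10003 D10100) (tt N8447 F27219) (tt N6844 F27220) (tt N9586 (iv F30948)) (tt N6843 (iv D8540)) (tt N7379 F27221) (tt N9965 (iv F32285)))
theorem Q8449 : ∀ i, i < 8449 → P i := stepQ 8448 Q8448 (allL N8448 (tt N8874 (iv F28614)) (tt N6844 (iv D8541)) (tt N8859 (iv F28548)) (tt N10003 (iv F32438)) (tt N8863 (iv F28570)) (tt N8858 (iv F28543)) (tt N7381 F27222) (tt N8857 F28538))
theorem Q8450 : ∀ i, i < 8450 → P i := stepQ 8449 Q8449 (allL N8449 (tt N6884 F27223) (tt N8857 (iv F28535)) (tt N6847 F27224) (tt N10004 D10101) (tt N8862 (iv F28563)) (tt N6845 F27225) (tt N10005 D10102) (tt N6844 (iv D8542)))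
theorem Q8451 : ∀ i, i < 8451 → P i := stepQ 8450 Q8450 (allL N8450 (tt N6885 F27226) (tt N9968 (iv F32297)) (tt N10006 D10103) (tt N6845 (iv D8543)) (tt N10007 D10104) (tt N10004 (iv F32443)) (tt N9836 (iv F31821)) (tt N9964 (iv F32281)))
theorem Q8452 : ∀ i, i < 8452 → P i := stepQ 8451 Q8451 (allL N8451 (tt N6886 F27227) (tt N8007 F27228) (tt N6889 (iv F27231)) (tt N6847 (iv D8544)) (tt N6888 F27232) (tt N6848 F27229) (tt N9867 (iv F31935)) (tt N8451 F27230))
theorem Q8453 : ∀ i, i < 8453 → P i := stepQ 8452 Q8452 (allL N8452 (tt N6887 F27233) (tt N7477 F27234) (tt N10005 (iv F32447)) (tt N9867 F31937) (tt N9999 (iv F32417)) (tt N9838 (iv F31830)) (tt N6847 (iv D8545)) (tt N7385 F27235))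
theorem Q8454 : ∀ i, i < 8454 → P i := stepQ 8453 Q8453 (allL N8453 (tt N6888 F27236) (tt N8453 F27237) (tt N6848 (iv D8546)) (tt N10006 (iv F32452)) (tt N6886 (iv F27241)) (tt N6889 F27238) (tt N8036 F27239) (tt N8453 F27240))
theorem Q8455 : ∀ i, i < 8455 → P i := stepQ 8454 Q8454 (allL N8454 (tt N6889 F27242) (tt N6849 F27243) (tt N6886 F27244) (tt N10001 (iv F32429)) (tt N6848 (iv D8547)) (tt N6888 F27245) (tt N8035 F27246) (tt N8454 F27247))
theorem Q8456 : ∀ i, i < 8456 → P i := stepQ 8455 Q8455 (allL N8455 (tt N8455 F27248) (tt N6861 F27249) (tt N8455 F27250) (tt N6852 (iv D8548)) (tt N10008 D10105) (tt N8455 F27251) (tt N7998 F27252) (tt N10009 D10106))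
theorem Q8457 : ∀ i, i < 8457 → P i := stepQ 8456 Q8456 (allL N8456 (tt N8456 F27253) (tt N6863 F27254) (tt N6854 F27255) (tt N10010 D10107) (tt N8456 F27256) (tt N8456 F27257) (tt N7994 F27258) (tt N6852 (iv D8549)))
theorem Q8458 : ∀ i, i < 8458 → P i := stepQ 8457 Q8457 (allL N8457 (tt N8457 F27259) (tt N6856 F27260) (tt N10011 D10108) (tt N6854 (iv D8550)) (tt N8032 (iv F27263)) (tt N8457 F27261) (tt N9500 F30597) (tt N8457 F27262))
theorem Q8459 : ∀ i, i < 8459 → P i := stepQ 8458 Q8458 (allL N8458 (tt N8458 F27264) (tt N6857 F27265) (tt N7994 F27266) (tt N9500 (iv F30598)) (tt N8458 F27267) (tt N7992 F27269) (tt N6854 (iv D8551)) (tt N7991 F27268))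
theorem Q8460 : ∀ i, i < 8460 → P i := stepQ 8459 Q8459 (allL N8459 (tt N6892 F27270) (tt N7991 F27271) (tt N6868 F27272) (tt N8288 F27273) (tt N8459 F27274) (tt N9815 (iv F31728)) (tt N6855 (iv D8552)) (tt N6857 F27275))
theorem Q8461 : ∀ i, i < 8461 → P i := stepQ 8460 Q8460 (allL N8460 (tt N6893 F27276) (tt N8414 F27277) (tt N6869 F27278) (tt N9493 F30575) (tt N8460 F27279) (tt N6857 (iv D8553)) (tt N6860 F27280) (tt N9815 (iv F31730)))
theorem Q8462 : ∀ i, i < 8462 → P i := stepQ 8461 Q8461 (allL N8461 (tt N6894 F27281) (tt N8461 F27282) (tt N7862 F27283) (tt N8461 F27284) (tt N6859 F27285) (tt N9494 (iv F30580)) (tt N6858 (iv D8554)) (tt N7871 (iv F27286)))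
theorem Q8463 : ∀ i, i < 8463 → P i := stepQ 8462 Q8462 (allL N8462 (tt N10012 D10109) (tt N6860 (iv D8555)) (tt N8410 F27287) (tt N10002 (iv F32434)) (tt N8462 F27288) (tt N8462 F27289) (tt N8414 F27290) (tt N8462 F27291))
theorem Q8464 : ∀ i, i < 8464 → P i := stepQ 8463 Q8463 (allL N8463 (tt N7872 F27292) (tt N10008 (iv F32465)) (tt N6871 F27293) (tt N8463 F27294) (tt N6861 (iv D8556)) (tt N7387 F27295) (tt N10013 D10110) (tt N9597 (iv F31005)))
theorem Q8465 : ∀ i, i < 8465 → P i := stepQ 8464 Q8464 (allL N8464 (tt N7865 F27296) (tt N7998 F27297) (tt N6872 F27298) (tt N6862 F27299) (tt N10013 (iv F32494)) (tt N8000 (iv F27300)) (tt N6861 (iv D8557)) (tt N10014 D10111))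
theorem Q8466 : ∀ i, i < 8466 → P i := stepQ 8465 Q8465 (allL N8465 (tt N7873 F27301) (tt N10009 (iv F32471)) (tt N6873 F27302) (tt N10015 D10112) (tt N9597 (iv F31003)) (tt N7389 F27303) (tt N10016 D10113) (tt N6861 (iv D8558)))
theorem Q8467 : ∀ i, i < 8467 → P i := stepQ 8466 Q8466 (allL N8466 (tt N7874 F27304) (tt N10010 (iv F32475)) (tt N8338 F27305) (tt N6863 (iv D8559)) (tt N10017 D10114) (tt N7391 F27306) (tt N8168 F27307) (tt N10015 (iv F32506)))
theorem Q8468 : ∀ i, i < 8468 → P i := stepQ 8467 Q8467 (allL N8467 (tt N7866 F27308) (tt N6867 F27309) (tt N10018 D10115) (tt N6865 (iv D8560)) (tt N8482 (iv F27356)) (tt N7999 F27310) (tt N10019 D10116) (tt N6877 F27311))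
theorem Q8469 : ∀ i, i < 8469 → P i := stepQ 8468 Q8468 (allL N8468 (tt N7867 F27312) (tt N6868 F27313) (tt N7993 F27314) (tt N10019 (iv F32522)) (tt N8468 F27315) (tt N7995 F27316) (tt N6865 (iv D8561)) (tt N6866 F27317))
theorem Q8470 : ∀ i, i < 8470 → P i := stepQ 8469 Q8469 (allL N8469 (tt N6896 F27318) (tt N10019 (iv F32521)) (tt N8274 F27319) (tt N6868 F27320) (tt N8273 F27321) (tt N9813 (iv F31711)) (tt N6867 (iv D8562)) (tt N9820 (iv F31758)))
theorem Q8471 : ∀ i, i < 8471 → P i := stepQ 8470 Q8470 (allL N8470 (tt N6897 F27322) (tt N8412 F27323) (tt N9815 (iv F31726)) (tt N9813 (iv F31714)) (tt N8470 F27324) (tt N6868 (iv D8563)) (tt N8470 F27325) (tt N6869 F27326))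
theorem Q8472 : ∀ i, i < 8472 → P i := stepQ 8471 Q8471 (allL N8471 (tt N9682 (iv F31301)) (tt N8471 F27327) (tt N10013 (iv F32492)) (tt N6880 F27328) (tt N6872 F27329) (tt N9583 (iv F30931)) (tt N6871 (iv D8564)) (tt N7287 (iv F27330)))
theorem Q8473 : ∀ i, i < 8473 → P i := stepQ 8472 Q8472 (allL N8472 (tt N9996 (iv F32397)) (tt N9584 (iv F30933)) (tt N8000 F27331) (tt N6874 F27332) (tt N9583 (iv F30930)) (tt N6872 (iv D8565)) (tt N7396 F27333) (tt N10020 D10117))
theorem Q8474 : ∀ i, i < 8474 → P i := stepQ 8473 Q8473 (allL N8473 (tt N9997 (iv F32402)) (tt N8473 F27334) (tt N10014 (iv F32499)) (tt N10021 D10118) (tt N7287 F27335) (tt N10020 (iv F32529)) (tt N10022 D10119) (tt N6872 (iv D8566)))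
theorem Q8475 : ∀ i, i < 8475 → P i := stepQ 8474 Q8474 (allL N8474 (tt N9691 (iv F31338)) (tt N8474 F27336) (tt N10016 (iv F32508)) (tt N9605 (iv F31039)) (tt N9598 (iv F31009)) (tt N10023 D10120) (tt N6873 (iv D8567)) (tt N10022 (iv F32540)))
theorem Q8476 : ∀ i, i < 8476 → P i := stepQ 8475 Q8475 (allL N8475 (tt N8882 (iv F28640)) (tt N6874 (iv D8568)) (tt N8475 F27337) (tt N9584 (iv F30935)) (tt N6883 F27338) (tt N8475 F27339) (tt N7399 F27340) (tt N8881 F28639))
theorem Q8477 : ∀ i, i < 8477 → P i := stepQ 8476 Q8476 (allL N8476 (tt N8862 F28565) (tt N8881 (iv F28635)) (tt N6876 F27341) (tt N10024 D10121) (tt N6884 F27342) (tt N6875 F27343) (tt N10025 D10122) (tt N6874 (iv D8569)))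
theorem Q8478 : ∀ i, i < 8478 → P i := stepQ 8477 Q8477 (allL N8477 (tt N8402 F27344) (tt N8477 F27345) (tt N10026 D10123) (tt N6875 (iv D8570)) (tt N10027 D10124) (tt N10024 (iv F32546)) (tt N8407 F27346) (tt N10021 (iv F32537)))
theorem Q8479 : ∀ i, i < 8479 → P i := stepQ 8478 Q8478 (allL N8478 (tt N9998 (iv F32408)) (tt N8478 F27347) (tt N10007 (iv F32459)) (tt N6876 (iv D8571)) (tt N10006 F32456) (tt N6877 F27348) (tt N10028 D10125) (tt N7999 F27349))
theorem Q8480 : ∀ i, i < 8480 → P i := stepQ 8479 Q8479 (allL N8479 (tt N9999 (iv F32414)) (tt N8479 F27350) (tt N10025 (iv F32551)) (tt N10028 (iv F32571)) (tt N6887 F27351) (tt N9850 (iv F31874)) (tt N6876 (iv D8572)) (tt N7403 F27352))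
theorem Q8481 : ∀ i, i < 8481 → P i := stepQ 8480 Q8480 (allL N8480 (tt N10000 (iv F32419)) (tt N10029 D10126) (tt N6877 (iv D8573)) (tt N10026 (iv F32556)) (tt N10004 F32444) (tt N10007 (iv F32461)) (tt N9851 (iv F31876)) (tt N10018 (iv F32519)))
theorem Q8482 : ∀ i, i < 8482 → P i := stepQ 8481 Q8481 (allL N8481 (tt N10001 (iv F32426)) (tt N6879 F27353) (tt N10004 (iv F32442)) (tt N6889 F27354) (tt N6877 (iv D8574)) (tt N10006 (iv F32453)) (tt N9852 (iv F31880)) (tt N8482 (iv F27357)))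
theorem Q8483 : ∀ i, i < 8483 → P i := stepQ 8482 Q8482 (allL N8482 (tt N9506 (iv F30624)) (tt N6878 (iv D8575)) (tt N10029 (iv F32574)) (tt N8482 F27355) (tt N8467 F27356) (tt N9595 (iv F30994)) (tt N9853 (iv F31882)) (tt N8481 F27357))
theorem Q8484 : ∀ i, i < 8484 → P i := stepQ 8483 Q8483 (allL N8483 (tt N9965 (iv F32282)) (tt N9587 (iv F30952)) (tt N8483 F27358) (tt N10030 D10127) (tt N7284 F27359) (tt N6882 F27360) (tt N9947 (iv F32221)) (tt N6881 (iv D8576)))
theorem Q8485 : ∀ i, i < 8485 → P i := stepQ 8484 Q8484 (allL N8484 (tt N9964 (iv F32276)) (tt N8484 F27361) (tt N10031 D10128) (tt N6882 (iv D8577)) (tt N7276 F27362) (tt N10030 (iv F32581)) (tt N7275 F27363) (tt N6885 F27364))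
theorem Q8486 : ∀ i, i < 8486 → P i := stepQ 8485 Q8485 (allL N8485 (tt N6883 (iv D8578)) (tt N8874 (iv F28615)) (tt N8485 F27365) (tt N9553 (iv F30796)) (tt N8882 (iv F28643)) (tt N8485 F27366) (tt N7412 F27367) (tt N8873 F28613))
theorem Q8487 : ∀ i, i < 8487 → P i := stepQ 8486 Q8486 (allL N8486 (tt N8873 (iv F28609)) (tt N6884 F27368) (tt N8486 F27369) (tt N10032 D10129) (tt N8881 (iv F28637)) (tt N8486 F27370) (tt N10033 D10130) (tt N6883 (iv D8579)))
theorem Q8488 : ∀ i, i < 8488 → P i := stepQ 8487 Q8487 (allL N8487 (tt N10004 (iv F32441)) (tt N10032 (iv F32591)) (tt N10001 (iv F32428)) (tt N6884 (iv D8580)) (tt N10000 F32425) (tt N6885 F27371) (tt N10034 D10131) (tt N10030 (iv F32582)))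
theorem Q8489 : ∀ i, i < 8489 → P i := stepQ 8488 Q8488 (allL N8488 (tt N10005 (iv F32445)) (tt N10033 (iv F32596)) (tt N6887 F27372) (tt N10034 (iv F32604)) (tt N10025 (iv F32553)) (tt N9859 (iv F31897)) (tt N6884 (iv D8581)) (tt N7415 F27373))
theorem Q8490 : ∀ i, i < 8490 → P i := stepQ 8489 Q8489 (allL N8489 (tt N10006 (iv F32450)) (tt N10035 D10132) (tt N6885 (iv D8582)) (tt N6888 F27374) (tt N9998 (iv F32410)) (tt N10001 (iv F32430)) (tt N9860 (iv F31901)) (tt N10031 (iv F32589)))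
theorem Q8491 : ∀ i, i < 8491 → P i := stepQ 8490 Q8490 (allL N8490 (tt N10007 (iv F32457)) (tt N8490 F27375) (tt N9998 F32413) (tt N10027 (iv F32565)) (tt N6885 (iv D8583)) (tt N10000 (iv F32421)) (tt N9861 (iv F31903)) (tt N7276 F27376))
theorem Q8492 : ∀ i, i < 8492 → P i := stepQ 8491 Q8491 (allL N8491 (tt N9867 (iv F31931)) (tt N8491 F27377) (tt N8035 F27378) (tt N6887 F27379) (tt N8036 F27380) (tt N9865 (iv F31924)) (tt N6886 (iv D8584)) (tt N9471 (iv F30498)))
theorem Q8493 : ∀ i, i < 8493 → P i := stepQ 8492 Q8492 (allL N8492 (tt N8492 F27381) (tt N6888 (iv D8585)) (tt N6890 F27382) (tt N10035 (iv F32608)) (tt N8007 F27383) (tt N8006 F27384) (tt N9866 (iv F31928)) (tt N8492 F27385))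
theorem Q8494 : ∀ i, i < 8494 → P i := stepQ 8493 Q8493 (allL N8493 (tt N6895 (iv D8586)) (tt N10012 (iv F32484)) (tt N8493 F27386) (tt N9509 F30638) (tt N8493 F27387) (tt N6898 F27388) (tt N9995 (iv F32396)) (tt N8493 F27389))
theorem Q8495 : ∀ i, i < 8495 → P i := stepQ 8494 Q8494 (allL N8494 (tt N7070 F27390) (tt N7553 F27391) (tt N6908 F27392) (tt N10036 D10133) (tt N6902 F27393) (tt N8817 (iv F28409)) (tt N7193 F27394) (tt N6899 (iv D8587)))
theorem Q8496 : ∀ i, i < 8496 → P i := stepQ 8495 Q8495 (allL N8495 (tt N6901 F27395) (tt N7073 F27396) (tt N8495 F27397) (tt N8721 (iv F28126)) (tt N7539 F27398) (tt N10037 D10134) (tt N6900 (iv D8588)) (tt N10038 D10135))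
theorem Q8497 : ∀ i, i < 8497 → P i := stepQ 8496 Q8496 (allL N8496 (tt N10037 (iv F32616)) (tt N7752 F27399) (tt N8496 F27400) (tt N8722 (iv F28129)) (tt N7554 F27401) (tt N6901 (iv D8589)) (tt N8496 F27402) (tt N10039 D10136))
theorem Q8498 : ∀ i, i < 8498 → P i := stepQ 8497 Q8497 (allL N8497 (tt N10038 (iv F32622)) (tt N6902 F27403) (tt N8497 F27404) (tt N10040 D10137) (tt N7553 F27405) (tt N10039 (iv F32630)) (tt N7549 F27406) (tt N6901 (iv D8590)))
theorem Q8499 : ∀ i, i < 8499 → P i := stepQ 8498 Q8498 (allL N8498 (tt N7076 F27407) (tt N10040 (iv F32631)) (tt N8114 F27408) (tt N6902 (iv D8591)) (tt N10041 D10138) (tt N8821 (iv F28421)) (tt N10042 D10139) (tt N8670 (iv F28000)))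
theorem Q8500 : ∀ i, i < 8500 → P i := stepQ 8499 Q8499 (allL N8499 (tt N7077 F27409) (tt N7549 F27410) (tt N6911 F27411) (tt N10042 (iv F32638)) (tt N7193 F27412) (tt N10043 D10140) (tt N6902 (iv D8592)) (tt N6904 F27413))
theorem Q8501 : ∀ i, i < 8501 → P i := stepQ 8500 Q8500 (allL N8500 (tt N7079 F27414) (tt N7541 F27415) (tt N8087 F27416) (tt N6904 F27417) (tt N7186 F27418) (tt N10044 D10141) (tt N6903 (iv D8593)) (tt N9207 (iv F29719)))
theorem Q8502 : ∀ i, i < 8502 → P i := stepQ 8501 Q8501 (allL N8501 (tt N7080 F27419) (tt N10045 D10142) (tt N6914 F27420) (tt N10044 (iv F32646)) (tt N7192 F27421) (tt N6904 (iv D8594)) (tt N6907 F27422) (tt N10043 (iv F32643)))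
theorem Q8503 : ∀ i, i < 8503 → P i := stepQ 8502 Q8502 (allL N8502 (tt N7082 F27423) (tt N8521 (iv F27484)) (tt N6906 F27424) (tt N6915 F27425) (tt N9843 (iv F31847)) (tt N10046 D10143) (tt N6905 (iv D8595)) (tt N10047 D10144))
theorem Q8504 : ∀ i, i < 8504 → P i := stepQ 8503 Q8503 (allL N8503 (tt N7084 F27426) (tt N10048 D10145) (tt N10046 (iv F32654)) (tt N6907 F27427) (tt N9845 (iv F31858)) (tt N6906 (iv D8596)) (tt N10044 (iv F32648)) (tt N10049 D10146))
theorem Q8505 : ∀ i, i < 8505 → P i := stepQ 8504 Q8504 (allL N8504 (tt N7085 F27428) (tt N8504 F27429) (tt N10047 (iv F32659)) (tt N7671 F27430) (tt N9846 (iv F31862)) (tt N10049 (iv F32665)) (tt N9607 (iv F31046)) (tt N6906 (iv D8597)))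
theorem Q8506 : ∀ i, i < 8506 → P i := stepQ 8505 Q8505 (allL N8505 (tt N10050 D10147) (tt N6907 (iv D8598)) (tt N10051 D10148) (tt N10048 (iv F32661)) (tt N9854 (iv F31884)) (tt N8505 F27431) (tt N10045 (iv F32651)) (tt N8822 (iv F28423)))
theorem Q8507 : ∀ i, i < 8507 → P i := stepQ 8506 Q8506 (allL N8506 (tt N7087 F27432) (tt N8506 F27433) (tt N10052 D10149) (tt N6908 (iv D8599)) (tt N8125 F27434) (tt N8823 (iv F28427)) (tt N10053 D10150) (tt N8506 F27435))
theorem Q8508 : ∀ i, i < 8508 → P i := stepQ 8507 Q8507 (allL N8507 (tt N7088 F27436) (tt N8507 F27437) (tt N7193 F27438) (tt N10053 (iv F32675)) (tt N6911 F27439) (tt N10054 D10151) (tt N6908 (iv D8600)) (tt N6909 F27440))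
theorem Q8509 : ∀ i, i < 8509 → P i := stepQ 8508 Q8508 (allL N8508 (tt N7089 F27441) (tt N10055 D10152) (tt N7192 F27442) (tt N6964 F27443) (tt N6914 F27444) (tt N6909 (iv D8601)) (tt N6910 F27445) (tt N10054 (iv F32681)))
theorem Q8510 : ∀ i, i < 8510 → P i := stepQ 8509 Q8509 (allL N8509 (tt N9522 (iv F30681)) (tt N6910 (iv D8602)) (tt N10056 D10153) (tt N8535 (iv F27539)) (tt N6918 F27446) (tt N6927 F27447) (tt N10055 (iv F32685)) (tt N8831 (iv F28454)))
theorem Q8511 : ∀ i, i < 8511 → P i := stepQ 8510 Q8510 (allL N8510 (tt N7096 F27448) (tt N10057 D10154) (tt N10043 (iv F32640)) (tt N8137 F27449) (tt N10054 (iv F32680)) (tt N6911 (iv D8603)) (tt N8832 (iv F28456)) (tt N6914 F27450))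
theorem Q8512 : ∀ i, i < 8512 → P i := stepQ 8511 Q8511 (allL N8511 (tt N7097 F27451) (tt N8085 F27452) (tt N6913 F27453) (tt N8087 F27454) (tt N8518 (iv F27476)) (tt N10058 D10155) (tt N6912 (iv D8604)) (tt N8139 F27455))
theorem Q8513 : ∀ i, i < 8513 → P i := stepQ 8512 Q8512 (allL N8512 (tt N7099 F27456) (tt N9520 (iv F30676)) (tt N10058 (iv F32693)) (tt N6914 F27457) (tt N8527 (iv F27509)) (tt N6913 (iv D8605)) (tt N6916 F27458) (tt N8141 F27459))
theorem Q8514 : ∀ i, i < 8514 → P i := stepQ 8513 Q8513 (allL N8513 (tt N9523 (iv F30684)) (tt N6914 (iv D8606)) (tt N10059 D10156) (tt N9520 (iv F30677)) (tt N10055 (iv F32683)) (tt N8513 F27460) (tt N6918 F27461) (tt N10057 (iv F32690)))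
theorem Q8515 : ∀ i, i < 8515 → P i := stepQ 8514 Q8514 (allL N8514 (tt N7104 F27462) (tt N9750 (iv F31502)) (tt N6916 F27463) (tt N10046 (iv F32655)) (tt N8519 (iv F27479)) (tt N6915 (iv D8607)) (tt N10058 (iv F32695)) (tt N10060 D10157))
theorem Q8516 : ∀ i, i < 8516 → P i := stepQ 8515 Q8515 (allL N8515 (tt N7105 F27464) (tt N8522 (iv F27489)) (tt N6917 F27465) (tt N10061 D10158) (tt N8520 (iv F27482)) (tt N10060 (iv F32701)) (tt N6925 F27466) (tt N6915 (iv D8608)))
theorem Q8517 : ∀ i, i < 8517 → P i := stepQ 8516 Q8516 (allL N8516 (tt N7109 F27467) (tt N7197 F27468) (tt N10060 (iv F32700)) (tt N8644 (iv F27919)) (tt N8529 (iv F27518)) (tt N6917 F27469) (tt N8151 F27470) (tt N6916 (iv D8609)))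
theorem Q8518 : ∀ i, i < 8518 → P i := stepQ 8517 Q8517 (allL N8517 (tt N9521 (iv F30679)) (tt N10051 (iv F32668)) (tt N6918 (iv D8610)) (tt N10062 D10159) (tt N10056 (iv F32686)) (tt N6928 F27471) (tt N10059 (iv F32698)) (tt N8834 (iv F28461)))
theorem Q8519 : ∀ i, i < 8519 → P i := stepQ 8518 Q8518 (allL N8518 (tt N7580 F27472) (tt N7818 F27473) (tt N6929 F27474) (tt N7599 F27475) (tt N8511 F27476) (tt N10063 D10160) (tt N6921 (iv D8611)) (tt N9732 (iv F31456)))
theorem Q8520 : ∀ i, i < 8520 → P i := stepQ 8519 Q8519 (allL N8519 (tt N8711 (iv F28098)) (tt N8158 F27477) (tt N6930 F27478) (tt N8730 (iv F28160)) (tt N8514 F27479) (tt N6922 (iv D8612)) (tt N10063 (iv F32715)) (tt N10064 D10161))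
theorem Q8521 : ∀ i, i < 8521 → P i := stepQ 8520 Q8520 (allL N8520 (tt N8712 (iv F28101)) (tt N6925 F27480) (tt N6931 F27481) (tt N10065 D10162) (tt N8515 F27482) (tt N10064 (iv F32719)) (tt N8522 (iv F27493)) (tt N6922 (iv D8613)))
theorem Q8522 : ∀ i, i < 8522 → P i := stepQ 8521 Q8521 (allL N8521 (tt N7121 F27483) (tt N8502 F27484) (tt N8521 F27485) (tt N6924 F27486) (tt N8733 (iv F28168)) (tt N8160 F27487) (tt N6923 (iv D8614)) (tt N10066 D10163))
theorem Q8523 : ∀ i, i < 8523 → P i := stepQ 8522 Q8522 (allL N8522 (tt N7123 F27488) (tt N8515 F27489) (tt N6926 F27490) (tt N10067 D10164) (tt N6925 F27491) (tt N8161 F27492) (tt N8520 F27493) (tt N6924 (iv D8615)))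
theorem Q8524 : ∀ i, i < 8524 → P i := stepQ 8523 Q8523 (allL N8523 (tt N7125 F27494) (tt N10065 (iv F32720)) (tt N8646 (iv F27927)) (tt N6925 (iv D8616)) (tt N10068 D10165) (tt N8162 F27495) (tt N10061 (iv F32705)) (tt N8260 F27496))
theorem Q8525 : ∀ i, i < 8525 → P i := stepQ 8524 Q8524 (allL N8524 (tt N7126 F27497) (tt N6934 F27498) (tt N10069 D10166) (tt N6926 (iv D8617)) (tt N8636 (iv F27885)) (tt N7606 F27499) (tt N8530 (iv F27522)) (tt N8524 F27500))
theorem Q8526 : ∀ i, i < 8526 → P i := stepQ 8525 Q8525 (allL N8525 (tt N9176 F29615) (tt N8525 F27501) (tt N6927 (iv D8618)) (tt N10070 D10167) (tt N6928 F27502) (tt N10056 (iv F32687)) (tt N8525 F27503) (tt N8836 (iv F28468)))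
theorem Q8527 : ∀ i, i < 8527 → P i := stepQ 8526 Q8526 (allL N8526 (tt N9495 (iv F30581)) (tt N8526 F27504) (tt N8135 F27505) (tt N6928 (iv D8619)) (tt N9807 (iv F31689)) (tt N10062 (iv F32708)) (tt N8526 F27506) (tt N8132 (iv F27507)))
theorem Q8528 : ∀ i, i < 8528 → P i := stepQ 8527 Q8527 (allL N8527 (tt N8703 (iv F28072)) (tt N10071 D10168) (tt N10063 (iv F32712)) (tt N6939 F27508) (tt N8512 F27509) (tt N6929 (iv D8620)) (tt N6930 F27510) (tt N9734 (iv F31463)))
theorem Q8529 : ∀ i, i < 8529 → P i := stepQ 8528 Q8528 (allL N8528 (tt N7182 (iv F27515)) (tt N6930 (iv D8621)) (tt N8183 F27511) (tt N6941 F27512) (tt N7888 F27513) (tt N6932 F27514) (tt N10071 (iv F32745)) (tt N7179 (iv F27516)))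
theorem Q8530 : ∀ i, i < 8530 → P i := stepQ 8529 Q8529 (allL N8529 (tt N8717 (iv F28113)) (tt N7179 F27517) (tt N10064 (iv F32717)) (tt N9219 (iv F29746)) (tt N8516 F27518) (tt N6931 F27519) (tt N9190 (iv F29660)) (tt N6930 (iv D8622)))
theorem Q8531 : ∀ i, i < 8531 → P i := stepQ 8530 Q8530 (allL N8530 (tt N7019 F27520) (tt N6933 F27521) (tt N10072 D10169) (tt N6931 (iv D8623)) (tt N7626 (iv F27524)) (tt N9219 (iv F29747)) (tt N8524 F27522) (tt N6943 F27523))
theorem Q8532 : ∀ i, i < 8532 → P i := stepQ 8531 Q8531 (allL N8531 (tt N6939 F27525) (tt N10073 D10170) (tt N7495 F27526) (tt N8703 (iv F28073)) (tt N8555 (iv F27601)) (tt N6935 (iv D8624)) (tt N6936 F27527) (tt N10074 D10171))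
theorem Q8533 : ∀ i, i < 8533 → P i := stepQ 8532 Q8532 (allL N8532 (tt N6940 F27528) (tt N7462 F27529) (tt N7496 F27530) (tt N10075 D10172) (tt N7903 F27531) (tt N10074 (iv F32756)) (tt N8532 F27532) (tt N6935 (iv D8625)))
theorem Q8534 : ∀ i, i < 8534 → P i := stepQ 8533 Q8533 (allL N8533 (tt N8801 (iv F28362)) (tt N6936 (iv D8626)) (tt N10076 D10173) (tt N8716 (iv F28109)) (tt N8692 (iv F28041)) (tt N6952 F27533) (tt N10073 (iv F32752)) (tt N6999 (iv F27534)))
theorem Q8535 : ∀ i, i < 8535 → P i := stepQ 8534 Q8534 (allL N8534 (tt N6942 F27535) (tt N6999 F27536) (tt N9627 (iv F31104)) (tt N7013 (iv F27538)) (tt N8693 (iv F28046)) (tt N6937 F27537) (tt N10077 D10174) (tt N6936 (iv D8627)))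
theorem Q8536 : ∀ i, i < 8536 → P i := stepQ 8535 Q8535 (allL N8535 (tt N10078 D10175) (tt N6938 (iv D8628)) (tt N9677 (iv F31285)) (tt N8509 F27539) (tt N6941 F27540) (tt N6944 F27541) (tt N8562 (iv F27623)) (tt N9339 (iv F30066)))
theorem Q8537 : ∀ i, i < 8537 → P i := stepQ 8536 Q8536 (allL N8536 (tt N10079 D10176) (tt N6939 (iv D8629)) (tt N10080 D10177) (tt N10071 (iv F32742)) (tt N8562 (iv F27621)) (tt N8536 F27542) (tt N6941 F27543) (tt N10081 D10178))
theorem Q8538 : ∀ i, i < 8538 → P i := stepQ 8537 Q8537 (allL N8537 (tt N10074 (iv F32753)) (tt N10081 (iv F32778)) (tt N8559 (iv F27611)) (tt N10082 D10179) (tt N8563 (iv F27625)) (tt N6940 F27544) (tt N10083 D10180) (tt N6939 (iv D8630)))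
theorem Q8539 : ∀ i, i < 8539 → P i := stepQ 8538 Q8538 (allL N8538 (tt N10075 (iv F32757)) (tt N8538 F27545) (tt N10084 D10181) (tt N6940 (iv D8631)) (tt N9721 (iv F31423)) (tt N10082 (iv F32780)) (tt N8538 F27546) (tt N9719 F31418))
theorem Q8540 : ∀ i, i < 8540 → P i := stepQ 8539 Q8539 (allL N8539 (tt N6941 (iv D8632)) (tt N8801 (iv F28363)) (tt N10085 D10182) (tt N7182 F27547) (tt N10078 (iv F32768)) (tt N6945 F27548) (tt N10079 (iv F32772)) (tt N10086 D10183))
theorem Q8541 : ∀ i, i < 8541 → P i := stepQ 8540 Q8540 (allL N8540 (tt N10085 (iv F32786)) (tt N8780 (iv F28302)) (tt N6941 (iv D8633)) (tt N8207 F27549) (tt N9677 (iv F31286)) (tt N6946 F27550) (tt N10080 (iv F32777)) (tt N10087 D10184))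
theorem Q8542 : ∀ i, i < 8542 → P i := stepQ 8541 Q8541 (allL N8541 (tt N10086 (iv F32789)) (tt N6942 F27551) (tt N10087 (iv F32794)) (tt N9220 (iv F29753)) (tt N9339 (iv F30065)) (tt N6947 F27552) (tt N10088 D10185) (tt N6941 (iv D8634)))
theorem Q8543 : ∀ i, i < 8543 → P i := stepQ 8542 Q8542 (allL N8542 (tt N7013 F27553) (tt N9220 (iv F29751)) (tt N10089 D10186) (tt N6942 (iv D8635)) (tt N10090 D10187) (tt N6943 F27554) (tt N10091 D10188) (tt N9219 F29749))
theorem Q8544 : ∀ i, i < 8544 → P i := stepQ 8543 Q8543 (allL N8543 (tt N10077 (iv F32763)) (tt N10088 (iv F32797)) (tt N9630 (iv F31112)) (tt N10091 (iv F32809)) (tt N9518 (iv F30669)) (tt N8543 F27555) (tt N6942 (iv D8636)) (tt N10083 (iv F32782)))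
theorem Q8545 : ∀ i, i < 8545 → P i := stepQ 8544 Q8544 (allL N8544 (tt N7018 F27556) (tt N8548 (iv F27570)) (tt N6943 (iv D8637)) (tt N9151 (iv F29518)) (tt N10092 D10189) (tt N10089 (iv F32801)) (tt N8544 F27557) (tt N10072 (iv F32750)))
theorem Q8546 : ∀ i, i < 8546 → P i := stepQ 8545 Q8545 (allL N8545 (tt N7017 F27558) (tt N6949 F27559) (tt N10092 (iv F32814)) (tt N9516 (iv F30664)) (tt N6943 (iv D8638)) (tt N10090 (iv F32804)) (tt N8545 F27560) (tt N7626 F27561))
theorem Q8547 : ∀ i, i < 8547 → P i := stepQ 8546 Q8546 (allL N8546 (tt N6944 (iv D8639)) (tt N6953 F27562) (tt N10093 D10190) (tt N7890 F27563) (tt N6945 F27564) (tt N10078 (iv F32769)) (tt N8546 F27565) (tt N9336 (iv F30057)))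
theorem Q8548 : ∀ i, i < 8548 → P i := stepQ 8547 Q8547 (allL N8547 (tt N10093 (iv F32817)) (tt N6950 F27566) (tt N6944 (iv D8640)) (tt N10094 D10191) (tt N6946 F27567) (tt N9677 (iv F31287)) (tt N8547 F27568) (tt N9239 (iv F29803)))
theorem Q8549 : ∀ i, i < 8549 → P i := stepQ 8548 Q8548 (allL N8548 (tt N6946 F27569) (tt N8544 F27570) (tt N6945 (iv D8641)) (tt N8214 F27571) (tt N10093 (iv F32819)) (tt N10085 (iv F32788)) (tt N8548 F27572) (tt N10095 D10192))
theorem Q8550 : ∀ i, i < 8550 → P i := stepQ 8549 Q8549 (allL N8549 (tt N6947 F27573) (tt N6954 F27574) (tt N10095 (iv F32827)) (tt N7035 F27575) (tt N9336 (iv F30056)) (tt N10086 (iv F32792)) (tt N7782 (iv F27576)) (tt N6945 (iv D8642)))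
theorem Q8551 : ∀ i, i < 8551 → P i := stepQ 8550 Q8550 (allL N8550 (tt N10095 (iv F32825)) (tt N6951 F27577) (tt N6947 F27578) (tt N9255 (iv F29838)) (tt N9239 (iv F29802)) (tt N10087 (iv F32795)) (tt N7780 (iv F27579)) (tt N6946 (iv D8643)))
theorem Q8552 : ∀ i, i < 8552 → P i := stepQ 8551 Q8551 (allL N8551 (tt N6955 F27580) (tt N8428 F27581) (tt N7173 F27582) (tt N9340 (iv F30069)) (tt N6948 (iv D8644)) (tt N6949 F27583) (tt N7405 F27584) (tt N7042 F27585))
theorem Q8553 : ∀ i, i < 8553 → P i := stepQ 8552 Q8552 (allL N8552 (tt N7548 F27586) (tt N10094 (iv F32821)) (tt N8552 F27587) (tt N6950 (iv D8645)) (tt N7537 F27588) (tt N7536 F27589) (tt N8552 F27590) (tt N10096 D10193))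
theorem Q8554 : ∀ i, i < 8554 → P i := stepQ 8553 Q8553 (allL N8553 (tt N8624 (iv F27819)) (tt N9255 (iv F29837)) (tt N7546 F27591) (tt N6951 (iv D8646)) (tt N10097 D10194) (tt N8786 (iv F28323)) (tt N7775 F27592) (tt N8219 F27593))
theorem Q8555 : ∀ i, i < 8555 → P i := stepQ 8554 Q8554 (allL N8554 (tt N7337 F27594) (tt N6960 F27595) (tt N6952 (iv D8647)) (tt N10098 D10195) (tt N8739 (iv F28182)) (tt N10076 (iv F32761)) (tt N7341 F27596) (tt N6991 F27597))
theorem Q8556 : ∀ i, i < 8556 → P i := stepQ 8555 Q8555 (allL N8555 (tt N6964 F27598) (tt N10099 D10196) (tt N6958 F27599) (tt N7089 F27600) (tt N8531 F27601) (tt N6957 (iv D8648)) (tt N7090 F27602) (tt N9530 (iv F30715)))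
theorem Q8557 : ∀ i, i < 8557 → P i := stepQ 8556 Q8556 (allL N8556 (tt N8644 (iv F27918)) (tt N6958 (iv D8649)) (tt N10100 D10197) (tt N7109 F27603) (tt N9098 (iv F29342)) (tt N6959 F27604) (tt N9631 (iv F31117)) (tt N6990 F27605))
theorem Q8558 : ∀ i, i < 8558 → P i := stepQ 8557 Q8557 (allL N8557 (tt N7652 F27606) (tt N7341 F27607) (tt N6959 (iv D8650)) (tt N10101 D10198) (tt N9100 (iv F29351)) (tt N10100 (iv F32844)) (tt N6960 F27608) (tt N6988 F27609))
theorem Q8559 : ∀ i, i < 8559 → P i := stepQ 8558 Q8558 (allL N8558 (tt N8646 (iv F27926)) (tt N10098 (iv F32837)) (tt N7125 F27610) (tt N6960 (iv D8651)) (tt N10102 D10199) (tt N9633 (iv F31127)) (tt N10101 (iv F32849)) (tt N9115 (iv F29402)))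
theorem Q8560 : ∀ i, i < 8560 → P i := stepQ 8559 Q8559 (allL N8559 (tt N9099 (iv F29345)) (tt N8650 (iv F27939)) (tt N8537 F27611) (tt N10103 D10200) (tt N6966 F27612) (tt N6962 F27613) (tt N10104 D10201) (tt N6961 (iv D8652)))
theorem Q8561 : ∀ i, i < 8561 → P i := stepQ 8560 Q8560 (allL N8560 (tt N8611 (iv F27782)) (tt N6963 F27614) (tt N10105 D10202) (tt N6962 (iv D8653)) (tt N9558 (iv F30821)) (tt N10103 (iv F32852)) (tt N8560 F27615) (tt N8602 F27758))
theorem Q8562 : ∀ i, i < 8562 → P i := stepQ 8561 Q8561 (allL N8561 (tt N6967 F27616) (tt N7927 F27620) (tt N6963 (iv D8654)) (tt N8561 F27617) (tt N7920 F27618) (tt N8652 (iv F27946)) (tt N8561 F27619) (tt N8626 F27829))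
theorem Q8563 : ∀ i, i < 8563 → P i := stepQ 8562 Q8562 (allL N8562 (tt N10106 D10203) (tt N6964 (iv D8655)) (tt N8655 (iv F27956)) (tt N10055 (iv F32682)) (tt N8536 F27621) (tt N8562 F27622) (tt N8535 F27623) (tt N10107 D10204))
theorem Q8564 : ∀ i, i < 8564 → P i := stepQ 8563 Q8563 (allL N8563 (tt N9530 (iv F30713)) (tt N10107 (iv F32864)) (tt N6966 F27624) (tt N10108 D10205) (tt N8537 F27625) (tt N6965 F27626) (tt N10109 D10206) (tt N6964 (iv D8656)))
theorem Q8565 : ∀ i, i < 8565 → P i := stepQ 8564 Q8564 (allL N8564 (tt N9526 F30700) (tt N8564 F27627) (tt N9546 (iv F30771)) (tt N6965 (iv D8657)) (tt N10110 D10207) (tt N10108 (iv F32867)) (tt N8564 F27628) (tt N10053 F32677))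
theorem Q8566 : ∀ i, i < 8566 → P i := stepQ 8565 Q8565 (allL N8565 (tt N9533 (iv F30723)) (tt N8659 (iv F27966)) (tt N10109 (iv F32868)) (tt N9560 (iv F30828)) (tt N10104 (iv F32854)) (tt N8565 F27629) (tt N6966 (iv D8658)) (tt N9635 (iv F31135)))
theorem Q8567 : ∀ i, i < 8567 → P i := stepQ 8566 Q8566 (allL N8566 (tt N8817 (iv F28406)) (tt N9681 (iv F31296)) (tt N6978 F27630) (tt N10111 D10208) (tt N6973 F27631) (tt N7070 F27632) (tt N10112 D10209) (tt N6968 (iv D8659)))
theorem Q8568 : ∀ i, i < 8568 → P i := stepQ 8567 Q8567 (allL N8567 (tt N7718 F27633) (tt N7371 F27634) (tt N7732 F27635) (tt N6969 (iv D8660)) (tt N7361 F27636) (tt N6970 F27637) (tt N10113 D10210) (tt N9684 (iv F31316)))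
theorem Q8569 : ∀ i, i < 8569 → P i := stepQ 8568 Q8568 (allL N8568 (tt N7723 F27638) (tt N7378 F27639) (tt N6980 F27640) (tt N10113 (iv F32886)) (tt N6974 F27641) (tt N10114 D10211) (tt N6969 (iv D8661)) (tt N10112 (iv F32882)))
theorem Q8570 : ∀ i, i < 8570 → P i := stepQ 8569 Q8569 (allL N8569 (tt N8818 (iv F28410)) (tt N8569 F27642) (tt N6970 (iv D8662)) (tt N6981 F27643) (tt N7680 (iv F27646)) (tt N7732 F27644) (tt N10115 D10212) (tt N8003 F27645))
theorem Q8571 : ∀ i, i < 8571 → P i := stepQ 8570 Q8570 (allL N8570 (tt N7277 F27647) (tt N7225 F27648) (tt N7680 F27649) (tt N6975 F27650) (tt N6970 (iv D8663)) (tt N7361 F27651) (tt N10116 D10213) (tt N7247 F27652))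
theorem Q8572 : ∀ i, i < 8572 → P i := stepQ 8571 Q8571 (allL N8571 (tt N8819 (iv F28412)) (tt N7226 F27653) (tt N10115 (iv F32893)) (tt N6971 F27654) (tt N10116 (iv F32901)) (tt N10117 D10214) (tt N6970 (iv D8664)) (tt N9836 (iv F31822)))
theorem Q8573 : ∀ i, i < 8573 → P i := stepQ 8572 Q8572 (allL N8572 (tt N8820 (iv F28416)) (tt N10118 D10215) (tt N6984 F27655) (tt N10117 (iv F32903)) (tt N6977 F27656) (tt N6971 (iv D8665)) (tt N10114 (iv F32891)) (tt N7072 F27657))
theorem Q8574 : ∀ i, i < 8574 → P i := stepQ 8573 Q8573 (allL N8573 (tt N7410 F27658) (tt N6973 F27659) (tt N8573 F27660) (tt N10119 D10216) (tt N9681 (iv F31298)) (tt N9683 (iv F31311)) (tt N7380 F27661) (tt N6972 (iv D8666)))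
theorem Q8575 : ∀ i, i < 8575 → P i := stepQ 8574 Q8574 (allL N8574 (tt N8821 (iv F28420)) (tt N10119 (iv F32908)) (tt N9870 (iv F31948)) (tt N6973 (iv D8667)) (tt N10120 D10217) (tt N7076 F27662) (tt N10121 D10218) (tt N9637 (iv F31145)))
theorem Q8576 : ∀ i, i < 8576 → P i := stepQ 8575 Q8575 (allL N8575 (tt N7725 F27663) (tt N7380 F27664) (tt N6985 F27665) (tt N10121 (iv F32916)) (tt N10112 (iv F32881)) (tt N10122 D10219) (tt N6973 (iv D8668)) (tt N6974 F27666))
theorem Q8577 : ∀ i, i < 8577 → P i := stepQ 8576 Q8576 (allL N8576 (tt N7724 F27667) (tt N10123 D10220) (tt N6987 F27668) (tt N7365 F27669) (tt N10114 (iv F32890)) (tt N6974 (iv D8669)) (tt N6977 F27670) (tt N10122 (iv F32921)))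
theorem Q8578 : ∀ i, i < 8578 → P i := stepQ 8577 Q8577 (allL N8577 (tt N7666 F27671) (tt N7229 F27672) (tt N7345 F27673) (tt N10116 (iv F32900)) (tt N6976 F27674) (tt N10124 D10221) (tt N6975 (iv D8670)) (tt N8890 (iv F28664)))
theorem Q8579 : ∀ i, i < 8579 → P i := stepQ 8578 Q8578 (allL N8578 (tt N7670 F27675) (tt N10125 D10222) (tt N7347 F27676) (tt N6977 F27677) (tt N10124 (iv F32927)) (tt N6976 (iv D8671)) (tt N7365 F27678) (tt N10126 D10223))
theorem Q8580 : ∀ i, i < 8580 → P i := stepQ 8579 Q8579 (allL N8579 (tt N7671 F27679) (tt N7231 F27680) (tt N7348 F27681) (tt N7085 F27682) (tt N8890 (iv F28662)) (tt N10126 (iv F32935)) (tt N8898 (iv F28702)) (tt N6976 (iv D8672)))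
theorem Q8581 : ∀ i, i < 8581 → P i := stepQ 8580 Q8580 (allL N8580 (tt N10127 D10224) (tt N6977 (iv D8673)) (tt N9551 (iv F30790)) (tt N10125 (iv F32929)) (tt N10118 (iv F32904)) (tt N7232 F27683) (tt N10123 (iv F32924)) (tt N7086 F27684))
theorem Q8582 : ∀ i, i < 8582 → P i := stepQ 8581 Q8581 (allL N8581 (tt N8823 (iv F28424)) (tt N8581 F27685) (tt N10128 D10225) (tt N6978 (iv D8674)) (tt N9027 (iv F29095)) (tt N7087 F27686) (tt N10129 D10226) (tt N8581 F27687))
theorem Q8583 : ∀ i, i < 8583 → P i := stepQ 8582 Q8582 (allL N8582 (tt N8824 (iv F28429)) (tt N8582 F27688) (tt N10112 (iv F32880)) (tt N10129 (iv F32941)) (tt N6985 F27689) (tt N10130 D10227) (tt N6978 (iv D8675)) (tt N6980 F27690))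
theorem Q8584 : ∀ i, i < 8584 → P i := stepQ 8583 Q8583 (allL N8583 (tt N8826 (iv F28438)) (tt N8583 F27691) (tt N9313 (iv F30001)) (tt N6980 F27692) (tt N9125 (iv F29430)) (tt N10131 D10228) (tt N6979 (iv D8676)) (tt N10132 D10229))
theorem Q8585 : ∀ i, i < 8585 → P i := stepQ 8584 Q8584 (allL N8584 (tt N8827 (iv F28441)) (tt N9563 (iv F30837)) (tt N10114 (iv F32889)) (tt N10131 (iv F32945)) (tt N6987 F27693) (tt N6980 (iv D8677)) (tt N6984 F27694) (tt N10130 (iv F32944)))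
theorem Q8586 : ∀ i, i < 8586 → P i := stepQ 8585 Q8585 (allL N8585 (tt N8829 (iv F28448)) (tt N8585 F27695) (tt N6983 F27696) (tt N10115 (iv F32894)) (tt N9311 (iv F29996)) (tt N10133 D10230) (tt N6981 (iv D8678)) (tt N9875 F31966))
theorem Q8587 : ∀ i, i < 8587 → P i := stepQ 8586 Q8586 (allL N8586 (tt N8814 (iv F28394)) (tt N6992 F27697) (tt N9311 (iv F29994)) (tt N6989 F27698) (tt N6983 F27699) (tt N10134 D10231) (tt N6982 (iv D8679)) (tt N8621 (iv F27811)))
theorem Q8588 : ∀ i, i < 8588 → P i := stepQ 8587 Q8587 (allL N8587 (tt N8830 (iv F28450)) (tt N9562 (iv F30835)) (tt N10133 (iv F32950)) (tt N6984 F27700) (tt N10134 (iv F32952)) (tt N6983 (iv D8680)) (tt N10131 (iv F32946)) (tt N10135 D10232))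
theorem Q8589 : ∀ i, i < 8589 → P i := stepQ 8588 Q8588 (allL N8588 (tt N7879 F27701) (tt N6993 F27702) (tt N9875 (iv F31964)) (tt N7091 F27703) (tt N8621 (iv F27809)) (tt N10135 (iv F32955)) (tt N8588 F27704) (tt N6983 (iv D8681)))
theorem Q8590 : ∀ i, i < 8590 → P i := stepQ 8589 Q8589 (allL N8589 (tt N8832 (iv F28455)) (tt N9564 (iv F30840)) (tt N10122 (iv F32919)) (tt N9872 (iv F31955)) (tt N10130 (iv F32942)) (tt N6985 (iv D8682)) (tt N7096 F27705) (tt N6987 F27706))
theorem Q8591 : ∀ i, i < 8591 → P i := stepQ 8590 Q8590 (allL N8590 (tt N7714 F27707) (tt N9533 (iv F30724)) (tt N7360 F27708) (tt N6987 F27709) (tt N9126 (iv F29433)) (tt N6986 (iv D8683)) (tt N6990 F27710) (tt N9138 (iv F29473)))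
theorem Q8592 : ∀ i, i < 8592 → P i := stepQ 8591 Q8591 (allL N8591 (tt N7651 F27711) (tt N9289 (iv F29935)) (tt N6990 F27712) (tt N7347 F27713) (tt N9128 (iv F29442)) (tt N6988 (iv D8684)) (tt N7360 F27714) (tt N10100 (iv F32845)))
theorem Q8593 : ∀ i, i < 8593 → P i := stepQ 8592 Q8592 (allL N8592 (tt N8815 (iv F28398)) (tt N9099 (iv F29346)) (tt N9128 (iv F29440)) (tt N10134 (iv F32951)) (tt N6990 F27715) (tt N6989 (iv D8685)) (tt N9126 (iv F29434)) (tt N9098 F29344))
theorem Q8594 : ∀ i, i < 8594 → P i := stepQ 8593 Q8593 (allL N8593 (tt N7336 F27716) (tt N9104 (iv F29364)) (tt N6999 F27717) (tt N8754 (iv F28230)) (tt N8769 (iv F28277)) (tt N6991 (iv D8686)) (tt N7333 F27718) (tt N10076 (iv F32762)))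
theorem Q8595 : ∀ i, i < 8595 → P i := stepQ 8594 Q8594 (allL N8594 (tt N6996 F27719) (tt N7022 F27720) (tt N8186 F27721) (tt N6994 (iv D8687)) (tt N7001 F27722) (tt N7319 F27723) (tt N10136 D10233) (tt N8594 F27724))
theorem Q8596 : ∀ i, i < 8596 → P i := stepQ 8595 Q8595 (allL N8595 (tt N6997 F27725) (tt N7023 F27726) (tt N7334 F27727) (tt N10136 (iv F32959)) (tt N6995 F27728) (tt N10137 D10234) (tt N6994 (iv D8688)) (tt N8738 (iv F28180)))
theorem Q8597 : ∀ i, i < 8597 → P i := stepQ 8596 Q8596 (allL N8596 (tt N6999 F27729) (tt N10086 (iv F32790)) (tt N7336 F27730) (tt N7005 F27731) (tt N10137 (iv F32964)) (tt N6995 (iv D8689)) (tt N7321 F27732) (tt N8801 (iv F28365)))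
theorem Q8598 : ∀ i, i < 8598 → P i := stepQ 8597 Q8597 (allL N8597 (tt N10136 (iv F32956)) (tt N7000 F27733) (tt N8197 F27734) (tt N6997 F27735) (tt N7008 F27736) (tt N10138 D10235) (tt N6996 (iv D8690)) (tt N7944 (iv F27737)))
theorem Q8599 : ∀ i, i < 8599 → P i := stepQ 8598 Q8598 (allL N8598 (tt N10137 (iv F32962)) (tt N8693 (iv F28045)) (tt N8769 (iv F28275)) (tt N10138 (iv F32968)) (tt N6999 F27738) (tt N6997 (iv D8691)) (tt N8768 (iv F28274)) (tt N8692 F28043))
theorem Q8600 : ∀ i, i < 8600 → P i := stepQ 8599 Q8599 (allL N8599 (tt N7321 F27739) (tt N10077 (iv F32764)) (tt N7333 F27740) (tt N7011 F27741) (tt N8768 (iv F28273)) (tt N6998 (iv D8692)) (tt N6999 F27742) (tt N9345 (iv F30091)))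
theorem Q8601 : ∀ i, i < 8601 → P i := stepQ 8600 Q8600 (allL N8600 (tt N7006 F27743) (tt N8324 F27744) (tt N7001 (iv D8693)) (tt N8173 F27745) (tt N8186 F27746) (tt N8172 (iv F27748)) (tt N10139 D10236) (tt N8600 F27747))
theorem Q8602 : ∀ i, i < 8602 → P i := stepQ 8601 Q8601 (allL N8601 (tt N7007 F27749) (tt N7304 F27750) (tt N8172 F27751) (tt N7002 F27752) (tt N7319 F27753) (tt N7001 (iv D8694)) (tt N10140 D10237) (tt N8601 F27754))
theorem Q8603 : ∀ i, i < 8603 → P i := stepQ 8602 Q8602 (allL N8602 (tt N7008 F27755) (tt N7028 F27756) (tt N10139 (iv F32974)) (tt N7003 F27757) (tt N10136 (iv F32960)) (tt N10141 D10238) (tt N7001 (iv D8695)) (tt N8560 (iv F27758)))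
theorem Q8604 : ∀ i, i < 8604 → P i := stepQ 8603 Q8603 (allL N8603 (tt N7009 F27759) (tt N7305 F27760) (tt N9657 (iv F31224)) (tt N10140 (iv F32981)) (tt N7004 F27761) (tt N10142 D10239) (tt N7002 (iv D8696)) (tt N10143 D10240))
theorem Q8605 : ∀ i, i < 8605 → P i := stepQ 8604 Q8604 (allL N8604 (tt N7010 F27762) (tt N10144 D10241) (tt N9658 (iv F31227)) (tt N10141 (iv F32985)) (tt N7005 F27763) (tt N7003 (iv D8697)) (tt N10142 (iv F32990)) (tt N7622 F27764))
theorem Q8606 : ∀ i, i < 8606 → P i := stepQ 8605 Q8605 (allL N8605 (tt N7011 F27765) (tt N10145 D10242) (tt N9659 (iv F31231)) (tt N7321 F27766) (tt N10142 (iv F32989)) (tt N7004 (iv D8698)) (tt N7005 F27767) (tt N10146 D10243))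
theorem Q8607 : ∀ i, i < 8607 → P i := stepQ 8606 Q8606 (allL N8606 (tt N7012 F27768) (tt N7307 F27769) (tt N9660 (iv F31236)) (tt N9366 (iv F30144)) (tt N10143 (iv F32994)) (tt N10146 (iv F33012)) (tt N7236 F27770) (tt N7004 (iv D8699)))
theorem Q8608 : ∀ i, i < 8608 → P i := stepQ 8607 Q8607 (allL N8607 (tt N9220 (iv F29750)) (tt N7005 (iv D8700)) (tt N9249 (iv F29824)) (tt N10086 (iv F32791)) (tt N10144 (iv F32999)) (tt N7035 F27771) (tt N10145 (iv F33007)) (tt N7180 F27772))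
theorem Q8609 : ∀ i, i < 8609 → P i := stepQ 8608 Q8608 (allL N8608 (tt N10139 (iv F32972)) (tt N8608 F27773) (tt N7008 F27774) (tt N8179 F27775) (tt N8197 F27776) (tt N10147 D10244) (tt N7006 (iv D8701)) (tt N10148 D10245))
theorem Q8610 : ∀ i, i < 8610 → P i := stepQ 8609 Q8609 (allL N8609 (tt N10140 (iv F32978)) (tt N8609 F27777) (tt N8178 F27778) (tt N7009 F27779) (tt N8196 F27780) (tt N10149 D10246) (tt N7007 (iv D8702)) (tt N9759 (iv F31531)))
theorem Q8611 : ∀ i, i < 8611 → P i := stepQ 8610 Q8610 (allL N8610 (tt N10141 (iv F32984)) (tt N10150 D10247) (tt N10147 (iv F33014)) (tt N7010 F27781) (tt N10138 (iv F32969)) (tt N7008 (iv D8703)) (tt N10149 (iv F33026)) (tt N10151 D10248))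
theorem Q8612 : ∀ i, i < 8612 → P i := stepQ 8611 Q8611 (allL N8611 (tt N8560 F27782) (tt N7016 F27783) (tt N10148 (iv F33020)) (tt N7496 F27784) (tt N7944 F27785) (tt N10151 (iv F33035)) (tt N8611 F27786) (tt N7008 (iv D8704)))
theorem Q8613 : ∀ i, i < 8613 → P i := stepQ 8612 Q8612 (allL N8612 (tt N10142 (iv F32987)) (tt N10152 D10249) (tt N9663 (iv F31242)) (tt N10149 (iv F33024)) (tt N7011 F27787) (tt N7009 (iv D8705)) (tt N7010 F27788) (tt N10153 D10250))
theorem Q8614 : ∀ i, i < 8614 → P i := stepQ 8613 Q8613 (allL N8613 (tt N10143 (iv F32992)) (tt N8613 F27789) (tt N9664 (iv F31245)) (tt N10154 D10251) (tt N7012 F27790) (tt N10153 (iv F33045)) (tt N7237 F27791) (tt N7009 (iv D8706)))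
theorem Q8615 : ∀ i, i < 8615 → P i := stepQ 8614 Q8614 (allL N8614 (tt N10090 (iv F32802)) (tt N7010 (iv D8707)) (tt N10155 D10252) (tt N10150 (iv F33027)) (tt N7013 F27792) (tt N7017 F27793) (tt N10152 (iv F33040)) (tt N7625 F27794))
theorem Q8616 : ∀ i, i < 8616 → P i := stepQ 8615 Q8615 (allL N8615 (tt N10091 (iv F32807)) (tt N7011 (iv D8708)) (tt N10156 D10253) (tt N10077 (iv F32765)) (tt N10152 (iv F33038)) (tt N8615 F27795) (tt N7013 F27796) (tt N10157 D10254))
theorem Q8617 : ∀ i, i < 8617 → P i := stepQ 8616 Q8616 (allL N8616 (tt N10146 (iv F33009)) (tt N10157 (iv F33062)) (tt N9667 (iv F31252)) (tt N10158 D10255) (tt N10153 (iv F33044)) (tt N7012 F27797) (tt N10159 D10256) (tt N7011 (iv D8709)))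
theorem Q8618 : ∀ i, i < 8618 → P i := stepQ 8617 Q8617 (allL N8617 (tt N9366 (iv F30142)) (tt N8617 F27798) (tt N9348 (iv F30097)) (tt N7012 (iv D8710)) (tt N10160 D10257) (tt N10158 (iv F33066)) (tt N7239 F27799) (tt N9344 (iv F30087)))
theorem Q8619 : ∀ i, i < 8619 → P i := stepQ 8618 Q8618 (allL N8618 (tt N10089 (iv F32800)) (tt N8795 (iv F28346)) (tt N7013 (iv D8711)) (tt N8798 (iv F28354)) (tt N10155 (iv F33051)) (tt N7018 F27800) (tt N10156 (iv F33059)) (tt N10161 D10258))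
theorem Q8620 : ∀ i, i < 8620 → P i := stepQ 8619 Q8619 (allL N8619 (tt N9219 (iv F29745)) (tt N7014 F27801) (tt N10161 (iv F33074)) (tt N8717 (iv F28115)) (tt N7625 F27802) (tt N7019 F27803) (tt N9221 (iv F29757)) (tt N7013 (iv D8712)))
theorem Q8621 : ∀ i, i < 8621 → P i := stepQ 8620 Q8620 (allL N8620 (tt N8267 F27804) (tt N9221 (iv F29755)) (tt N9671 (iv F31260)) (tt N8250 F27805) (tt N7623 F27806) (tt N7240 F27807) (tt N7014 (iv D8713)) (tt N10159 (iv F33071)))
theorem Q8622 : ∀ i, i < 8622 → P i := stepQ 8621 Q8621 (allL N8621 (tt N9516 (iv F30662)) (tt N7015 (iv D8714)) (tt N10162 D10259) (tt N7017 F27808) (tt N8588 F27809) (tt N10150 (iv F33029)) (tt N8621 F27810) (tt N8586 F27811))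
theorem Q8623 : ∀ i, i < 8623 → P i := stepQ 8622 Q8622 (allL N8622 (tt N10092 (iv F32813)) (tt N7020 F27812) (tt N7017 (iv D8715)) (tt N9156 (iv F29536)) (tt N7018 F27813) (tt N10155 (iv F33052)) (tt N8622 F27814) (tt N7627 F27815))
theorem Q8624 : ∀ i, i < 8624 → P i := stepQ 8623 Q8623 (allL N8623 (tt N10072 (iv F32747)) (tt N7021 F27816) (tt N7019 F27817) (tt N10163 D10260) (tt N7627 F27818) (tt N10161 (iv F33076)) (tt N8737 (iv F28174)) (tt N7018 (iv D8716)))
theorem Q8625 : ∀ i, i < 8625 → P i := stepQ 8624 Q8624 (allL N8624 (tt N8553 F27819) (tt N10163 (iv F33081)) (tt N7170 F27820) (tt N7021 (iv D8717)) (tt N10164 D10261) (tt N9148 (iv F29506)) (tt N9380 (iv F30192)) (tt N9153 (iv F29527)))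
theorem Q8626 : ∀ i, i < 8626 → P i := stepQ 8625 Q8625 (allL N8625 (tt N7025 F27821) (tt N10136 (iv F32957)) (tt N8627 (iv F27832)) (tt N7023 F27822) (tt N7028 F27823) (tt N9337 (iv F30060)) (tt N7022 (iv D8718)) (tt N7952 (iv F27824)))
theorem Q8627 : ∀ i, i < 8627 → P i := stepQ 8626 Q8626 (allL N8626 (tt N7036 F27825) (tt N8431 F27826) (tt N7028 F27827) (tt N7041 F27828) (tt N8627 (iv F27834)) (tt N9464 (iv F30467)) (tt N7026 (iv D8719)) (tt N8561 (iv F27829)))
theorem Q8628 : ∀ i, i < 8628 → P i := stepQ 8627 Q8627 (allL N8627 (tt N7037 F27830) (tt N7928 F27831) (tt N8625 F27832) (tt N7030 F27833) (tt N8626 F27834) (tt N10165 D10262) (tt N7027 (iv D8720)) (tt N7920 (iv F27835)))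
theorem Q8629 : ∀ i, i < 8629 → P i := stepQ 8628 Q8628 (allL N8628 (tt N7038 F27836) (tt N10166 D10263) (tt N9464 (iv F30466)) (tt N7031 F27837) (tt N9337 (iv F30059)) (tt N7028 (iv D8721)) (tt N10165 (iv F33090)) (tt N7061 F27838))
theorem Q8630 : ∀ i, i < 8630 → P i := stepQ 8629 Q8629 (allL N8629 (tt N8629 F27839) (tt N7030 F27840) (tt N7300 F27841) (tt N7928 F27842) (tt N7032 F27843) (tt N7939 (iv F27845)) (tt N7029 (iv D8722)) (tt N7929 F27844))
theorem Q8631 : ∀ i, i < 8631 → P i := stepQ 8630 Q8630 (allL N8630 (tt N7039 F27846) (tt N8426 F27847) (tt N7046 F27848) (tt N10165 (iv F33088)) (tt N7033 F27849) (tt N7030 (iv D8723)) (tt N7031 F27850) (tt N7056 F27851))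
theorem Q8632 : ∀ i, i < 8632 → P i := stepQ 8631 Q8631 (allL N8631 (tt N7040 F27852) (tt N7929 F27853) (tt N7047 F27854) (tt N7273 F27855) (tt N7034 F27856) (tt N7056 F27857) (tt N7057 F27858) (tt N7030 (iv D8724)))
theorem Q8633 : ∀ i, i < 8633 → P i := stepQ 8632 Q8632 (allL N8632 (tt N8428 F27859) (tt N7031 (iv D8725)) (tt N8942 (iv F28833)) (tt N10166 (iv F33093)) (tt N7035 F27860) (tt N10144 (iv F33000)) (tt N8426 F27861) (tt N7055 F27862))
theorem Q8634 : ∀ i, i < 8634 → P i := stepQ 8633 Q8633 (allL N8633 (tt N8633 F27863) (tt N8425 F27864) (tt N7301 F27865) (tt N7317 F27866) (tt N7939 F27867) (tt N7032 (iv D8726)) (tt N7306 F27868) (tt N7941 F27869))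
theorem Q8635 : ∀ i, i < 8635 → P i := stepQ 8634 Q8634 (allL N8634 (tt N8634 F27870) (tt N7034 F27871) (tt N7302 F27872) (tt N8634 F27873) (tt N7929 F27874) (tt N7941 F27875) (tt N7246 F27876) (tt N7032 (iv D8727)))
theorem Q8636 : ∀ i, i < 8636 → P i := stepQ 8635 Q8635 (allL N8635 (tt N10165 (iv F33085)) (tt N7425 F27882) (tt N7703 F27877) (tt N7039 F27878) (tt N7812 F27879) (tt N7037 (iv D8728)) (tt N7038 F27880) (tt N7294 F27881))
theorem Q8637 : ∀ i, i < 8637 → P i := stepQ 8636 Q8636 (allL N8636 (tt N7330 F27883) (tt N7043 (iv D8729)) (tt N10167 D10264) (tt N7048 F27884) (tt N8524 F27885) (tt N8218 F27886) (tt N7626 F27887) (tt N8636 F27888))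
theorem Q8638 : ∀ i, i < 8638 → P i := stepQ 8637 Q8637 (allL N8637 (tt N7058 F27889) (tt N7300 F27890) (tt N7045 F27891) (tt N8901 (iv F28715)) (tt N7049 F27892) (tt N10168 D10265) (tt N7044 (iv D8730)) (tt N8843 (iv F28494)))
theorem Q8639 : ∀ i, i < 8639 → P i := stepQ 8638 Q8638 (allL N8638 (tt N7059 F27893) (tt N10169 D10266) (tt N10168 (iv F33103)) (tt N8210 F27894) (tt N7050 F27895) (tt N7045 (iv D8731)) (tt N8209 F27896) (tt N10170 D10267))
theorem Q8640 : ∀ i, i < 8640 → P i := stepQ 8639 Q8639 (allL N8639 (tt N7060 F27897) (tt N7047 F27898) (tt N8843 (iv F28491)) (tt N10171 D10268) (tt N7051 F27899) (tt N10170 (iv F33117)) (tt N7250 F27900) (tt N7045 (iv D8732)))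
theorem Q8641 : ∀ i, i < 8641 → P i := stepQ 8640 Q8640 (allL N8640 (tt N7497 F27901) (tt N7046 (iv D8733)) (tt N8940 (iv F28826)) (tt N7626 F27902) (tt N7052 F27903) (tt N10169 (iv F33110)) (tt N7048 F27904) (tt N7202 F27905))
theorem Q8642 : ∀ i, i < 8642 → P i := stepQ 8641 Q8641 (allL N8641 (tt N7054 F27906) (tt N10171 (iv F33119)) (tt N7921 F27907) (tt N7047 (iv D8734)) (tt N7222 F27908) (tt N7205 F27909) (tt N7251 F27910) (tt N9340 (iv F30072)))
theorem Q8643 : ∀ i, i < 8643 → P i := stepQ 8642 Q8642 (allL N8642 (tt N7063 F27911) (tt N10172 D10269) (tt N7050 F27912) (tt N7299 F27913) (tt N10168 (iv F33104)) (tt N7049 (iv D8735)) (tt N9674 (iv F31274)) (tt N10173 D10270))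
theorem Q8644 : ∀ i, i < 8644 → P i := stepQ 8643 Q8643 (allL N8643 (tt N7064 F27914) (tt N7302 F27915) (tt N7051 F27916) (tt N9693 (iv F31347)) (tt N8843 (iv F28493)) (tt N10173 (iv F33132)) (tt N7253 F27917) (tt N7049 (iv D8736)))
theorem Q8645 : ∀ i, i < 8645 → P i := stepQ 8644 Q8644 (allL N8644 (tt N8556 F27918) (tt N7050 (iv D8737)) (tt N9274 (iv F29879)) (tt N8516 F27919) (tt N10169 (iv F33109)) (tt N7052 F27920) (tt N9645 (iv F31178)) (tt N7203 (iv F27921)))
theorem Q8646 : ∀ i, i < 8646 → P i := stepQ 8645 Q8645 (allL N8645 (tt N7065 F27922) (tt N7203 F27923) (tt N10173 (iv F33130)) (tt N7220 F27924) (tt N10170 (iv F33116)) (tt N7051 F27925) (tt N9342 (iv F30076)) (tt N7050 (iv D8738)))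
theorem Q8647 : ∀ i, i < 8647 → P i := stepQ 8646 Q8646 (allL N8646 (tt N8558 F27926) (tt N9250 (iv F29827)) (tt N8523 F27927) (tt N7053 (iv D8739)) (tt N10174 D10271) (tt N9115 (iv F29401)) (tt N9275 (iv F29882)) (tt N9633 (iv F31128)))
theorem Q8648 : ∀ i, i < 8648 → P i := stepQ 8647 Q8647 (allL N8647 (tt N8210 F27928) (tt N7622 F27929) (tt N8757 F28247) (tt N7059 F27930) (tt N7180 F27931) (tt N7055 (iv D8740)) (tt N8195 F27932) (tt N10144 (iv F33002)))
theorem Q8649 : ∀ i, i < 8649 → P i := stepQ 8648 Q8648 (allL N8648 (tt N10168 (iv F33101)) (tt N10080 (iv F32773)) (tt N7059 F27933) (tt N8773 (iv F28288)) (tt N7063 F27934) (tt N7058 (iv D8741)) (tt N8780 (iv F28305)) (tt N10175 D10272))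
theorem Q8650 : ∀ i, i < 8650 → P i := stepQ 8649 Q8649 (allL N8649 (tt N8843 F28495) (tt N8649 F27935) (tt N7060 F27936) (tt N8844 (iv F28497)) (tt N7064 F27937) (tt N10175 (iv F33138)) (tt N7279 F27938) (tt N7058 (iv D8742)))
theorem Q8651 : ∀ i, i < 8651 → P i := stepQ 8650 Q8650 (allL N8650 (tt N10170 (iv F33113)) (tt N8559 F27939) (tt N10175 (iv F33136)) (tt N10176 D10273) (tt N7065 F27940) (tt N7060 F27941) (tt N10177 D10274) (tt N7059 (iv D8743)))
theorem Q8652 : ∀ i, i < 8652 → P i := stepQ 8651 Q8651 (allL N8651 (tt N10171 (iv F33118)) (tt N7061 F27942) (tt N10178 D10275) (tt N7060 (iv D8744)) (tt N10179 D10276) (tt N10176 (iv F33141)) (tt N7281 F27943) (tt N10166 (iv F33095)))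
theorem Q8653 : ∀ i, i < 8653 → P i := stepQ 8652 Q8652 (allL N8652 (tt N7068 F27944) (tt N9528 (iv F30706)) (tt N7061 (iv D8745)) (tt N8652 F27945) (tt N8870 (iv F28602)) (tt N8561 F27946) (tt N7282 F27947) (tt N9464 F30469))
theorem Q8654 : ∀ i, i < 8654 → P i := stepQ 8653 Q8653 (allL N8653 (tt N7069 F27948) (tt N10179 (iv F33150)) (tt N8870 (iv F28600)) (tt N7067 F27949) (tt N7061 (iv D8746)) (tt N7952 F27950) (tt N7283 F27951) (tt N9337 (iv F30061)))
theorem Q8655 : ∀ i, i < 8655 → P i := stepQ 8654 Q8654 (allL N8654 (tt N7299 F27952) (tt N10180 D10277) (tt N7583 F27953) (tt N7063 F27954) (tt N8292 F27955) (tt N7062 (iv D8747)) (tt N9675 (iv F31279)) (tt N9599 (iv F31014)))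
theorem Q8656 : ∀ i, i < 8656 → P i := stepQ 8655 Q8655 (allL N8655 (tt N10181 D10278) (tt N7063 (iv D8748)) (tt N8562 F27956) (tt N10180 (iv F33153)) (tt N10080 (iv F32775)) (tt N8655 F27957) (tt N9677 (iv F31288)) (tt N10182 D10279))
theorem Q8657 : ∀ i, i < 8657 → P i := stepQ 8656 Q8656 (allL N8656 (tt N10173 (iv F33128)) (tt N10182 (iv F33158)) (tt N7065 F27958) (tt N10183 D10280) (tt N10175 (iv F33137)) (tt N7064 F27959) (tt N10184 D10281) (tt N7063 (iv D8749)))
theorem Q8658 : ∀ i, i < 8658 → P i := stepQ 8657 Q8657 (allL N8657 (tt N9693 (iv F31344)) (tt N8657 F27960) (tt N10185 D10282) (tt N7064 (iv D8750)) (tt N10022 (iv F32539)) (tt N10183 (iv F33161)) (tt N7287 F27961) (tt N9598 (iv F31010)))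
theorem Q8659 : ∀ i, i < 8659 → P i := stepQ 8658 Q8658 (allL N8658 (tt N7220 F27962) (tt N7943 F27963) (tt N10186 D10283) (tt N7065 (iv D8751)) (tt N10187 D10284) (tt N7066 F27964) (tt N10188 D10285) (tt N7891 F27965))
theorem Q8660 : ∀ i, i < 8660 → P i := stepQ 8659 Q8659 (allL N8659 (tt N9342 F30077) (tt N8565 F27966) (tt N10184 (iv F33162)) (tt N10188 (iv F33183)) (tt N10177 (iv F33143)) (tt N7289 F27967) (tt N7065 (iv D8752)) (tt N9680 (iv F31294)))
theorem Q8661 : ∀ i, i < 8661 → P i := stepQ 8660 Q8660 (allL N8660 (tt N7224 F27968) (tt N7568 F27969) (tt N7066 (iv D8753)) (tt N10185 (iv F33165)) (tt N7572 (iv F27972)) (tt N10186 (iv F33170)) (tt N7290 F27970) (tt N7889 F27971))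
theorem Q8662 : ∀ i, i < 8662 → P i := stepQ 8661 Q8661 (allL N8661 (tt N7223 F27973) (tt N7067 F27974) (tt N7572 F27975) (tt N10179 (iv F33151)) (tt N7066 (iv D8754)) (tt N10187 (iv F33177)) (tt N7291 F27976) (tt N7890 F27977))
theorem Q8663 : ∀ i, i < 8663 → P i := stepQ 8662 Q8662 (allL N8662 (tt N10036 (iv F32612)) (tt N9637 (iv F31142)) (tt N10189 D10286) (tt N7070 (iv D8755)) (tt N10190 D10287) (tt N10111 (iv F32877)) (tt N10191 D10288) (tt N10119 (iv F32910)))
theorem Q8664 : ∀ i, i < 8664 → P i := stepQ 8663 Q8663 (allL N8663 (tt N7193 F27978) (tt N9638 (iv F31147)) (tt N7088 F27979) (tt N10191 (iv F33194)) (tt N7077 F27980) (tt N10192 D10289) (tt N7070 (iv D8756)) (tt N7071 F27981))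
theorem Q8665 : ∀ i, i < 8665 → P i := stepQ 8664 Q8664 (allL N8664 (tt N7192 F27982) (tt N10193 D10290) (tt N7089 F27983) (tt N7178 F27984) (tt N7080 F27985) (tt N7071 (iv D8757)) (tt N7072 F27986) (tt N10192 (iv F33199)))
theorem Q8666 : ∀ i, i < 8666 → P i := stepQ 8665 Q8665 (allL N8665 (tt N10194 D10291) (tt N7072 (iv D8758)) (tt N10195 D10292) (tt N9834 (iv F31808)) (tt N7086 F27987) (tt N7298 F27988) (tt N10193 (iv F33202)) (tt N10118 (iv F32906)))
theorem Q8667 : ∀ i, i < 8667 → P i := stepQ 8666 Q8666 (allL N8666 (tt N7074 F27989) (tt N10038 (iv F32623)) (tt N7433 F27990) (tt N10196 D10293) (tt N8291 F27991) (tt N8697 (iv F28056)) (tt N9676 (iv F31284)) (tt N7073 (iv D8759)))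
theorem Q8668 : ∀ i, i < 8668 → P i := stepQ 8667 Q8667 (allL N8667 (tt N10196 (iv F33208)) (tt N7076 F27992) (tt N10197 D10294) (tt N7074 (iv D8760)) (tt N10198 D10295) (tt N9686 (iv F31322)) (tt N10199 D10296) (tt N9696 (iv F31358)))
theorem Q8669 : ∀ i, i < 8669 → P i := stepQ 8668 Q8668 (allL N8668 (tt N9676 (iv F31280)) (tt N7077 F27993) (tt N7436 F27994) (tt N10199 (iv F33212)) (tt N9638 (iv F31149)) (tt N10200 D10297) (tt N7074 (iv D8761)) (tt N7075 F27995))
theorem Q8670 : ∀ i, i < 8670 → P i := stepQ 8669 Q8669 (allL N8669 (tt N9675 (iv F31275)) (tt N10201 D10298) (tt N7438 F27996) (tt N9674 (iv F31273)) (tt N9639 (iv F31154)) (tt N7075 (iv D8762)) (tt N7299 F27997) (tt N10200 (iv F33214)))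
theorem Q8671 : ∀ i, i < 8671 → P i := stepQ 8670 Q8670 (allL N8670 (tt N8114 F27998) (tt N10202 D10299) (tt N7076 (iv D8763)) (tt N7093 F27999) (tt N10203 D10300) (tt N9870 (iv F31949)) (tt N10204 D10301) (tt N8498 F28000))
theorem Q8672 : ∀ i, i < 8672 → P i := stepQ 8671 Q8671 (allL N8671 (tt N10041 (iv F32633)) (tt N10198 (iv F33210)) (tt N10203 (iv F33220)) (tt N10190 (iv F33191)) (tt N7076 (iv D8764)) (tt N10120 (iv F32912)) (tt N10205 D10302) (tt N9699 (iv F31367)))
theorem Q8673 : ∀ i, i < 8673 → P i := stepQ 8672 Q8672 (allL N8672 (tt N10042 (iv F32635)) (tt N10199 (iv F33211)) (tt N10204 (iv F33223)) (tt N7077 F28001) (tt N10205 (iv F33225)) (tt N10206 D10303) (tt N7076 (iv D8765)) (tt N10207 D10304))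
theorem Q8674 : ∀ i, i < 8674 → P i := stepQ 8673 Q8673 (allL N8673 (tt N10043 (iv F32639)) (tt N10208 D10305) (tt N7096 F28002) (tt N10206 (iv F33226)) (tt N10192 (iv F33198)) (tt N7077 (iv D8766)) (tt N10122 (iv F32920)) (tt N7080 F28003))
theorem Q8675 : ∀ i, i < 8675 → P i := stepQ 8674 Q8674 (allL N8674 (tt N7186 F28004) (tt N8211 F28005) (tt N8084 F28006) (tt N7176 F28007) (tt N7079 F28008) (tt N10209 D10306) (tt N7078 (iv D8767)) (tt N10210 D10307))
theorem Q8676 : ∀ i, i < 8676 → P i := stepQ 8675 Q8675 (allL N8675 (tt N10044 (iv F32644)) (tt N10211 D10308) (tt N9673 (iv F31267)) (tt N7080 F28009) (tt N10209 (iv F33232)) (tt N7079 (iv D8768)) (tt N7084 F28010) (tt N10212 D10309))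
theorem Q8677 : ∀ i, i < 8677 → P i := stepQ 8676 Q8676 (allL N8676 (tt N9207 (iv F29716)) (tt N9650 (iv F31196)) (tt N9206 F29715) (tt N10207 (iv F33227)) (tt N10210 (iv F33237)) (tt N10212 (iv F33240)) (tt N9704 (iv F31381)) (tt N7079 (iv D8769)))
theorem Q8678 : ∀ i, i < 8678 → P i := stepQ 8677 Q8677 (allL N8677 (tt N10213 D10310) (tt N7080 (iv D8770)) (tt N10214 D10311) (tt N10211 (iv F33238)) (tt N10193 (iv F33201)) (tt N10201 (iv F33215)) (tt N7086 F28011) (tt N10208 (iv F33228)))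
theorem Q8679 : ∀ i, i < 8679 → P i := stepQ 8678 Q8678 (allL N8678 (tt N9843 (iv F31843)) (tt N9657 (iv F31223)) (tt N7083 F28012) (tt N8350 F28013) (tt N7082 F28014) (tt N10215 D10312) (tt N7081 (iv D8771)) (tt N10216 D10313))
theorem Q8680 : ∀ i, i < 8680 → P i := stepQ 8679 Q8679 (allL N8679 (tt N10046 (iv F32652)) (tt N10217 D10314) (tt N7084 F28015) (tt N7104 F28016) (tt N10215 (iv F33247)) (tt N7082 (iv D8772)) (tt N9673 (iv F31270)) (tt N10218 D10315))
theorem Q8681 : ∀ i, i < 8681 → P i := stepQ 8680 Q8680 (allL N8680 (tt N10047 (iv F32658)) (tt N9660 (iv F31235)) (tt N7085 F28017) (tt N10219 D10316) (tt N10216 (iv F33250)) (tt N10218 (iv F33253)) (tt N9708 (iv F31391)) (tt N7082 (iv D8773)))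
theorem Q8682 : ∀ i, i < 8682 → P i := stepQ 8681 Q8681 (allL N8681 (tt N9845 (iv F31855)) (tt N10220 D10317) (tt N10215 (iv F33245)) (tt N9828 (iv F31783)) (tt N7084 F28018) (tt N7083 (iv D8774)) (tt N10209 (iv F33233)) (tt N10221 D10318))
theorem Q8683 : ∀ i, i < 8683 → P i := stepQ 8682 Q8682 (allL N8682 (tt N9846 (iv F31860)) (tt N7309 F28019) (tt N10216 (iv F33249)) (tt N8323 F28020) (tt N7085 F28021) (tt N10221 (iv F33264)) (tt N8886 (iv F28654)) (tt N7083 (iv D8775)))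
theorem Q8684 : ∀ i, i < 8684 → P i := stepQ 8683 Q8683 (allL N8683 (tt N10222 D10319) (tt N7084 (iv D8776)) (tt N10223 D10320) (tt N7086 F28022) (tt N10220 (iv F33258)) (tt N7310 F28023) (tt N10211 (iv F33239)) (tt N10224 D10321))
theorem Q8685 : ∀ i, i < 8685 → P i := stepQ 8684 Q8684 (allL N8684 (tt N10049 (iv F32663)) (tt N10224 (iv F33273)) (tt N10218 (iv F33252)) (tt N10126 (iv F32934)) (tt N10221 (iv F33263)) (tt N7085 F28024) (tt N10225 D10322) (tt N7084 (iv D8777)))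
theorem Q8686 : ∀ i, i < 8686 → P i := stepQ 8685 Q8685 (allL N8685 (tt N7086 (iv D8778)) (tt N10050 (iv F32666)) (tt N10226 D10323) (tt N10222 (iv F33265)) (tt N10194 (iv F33203)) (tt N7312 F28025) (tt N10213 (iv F33241)) (tt N10127 (iv F32937)))
theorem Q8687 : ∀ i, i < 8687 → P i := stepQ 8686 Q8686 (allL N8686 (tt N10226 (iv F33280)) (tt N7111 F28026) (tt N7086 (iv D8779)) (tt N10227 D10324) (tt N10195 (iv F33206)) (tt N7313 F28027) (tt N10214 (iv F33243)) (tt N9551 (iv F30791)))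
theorem Q8688 : ∀ i, i < 8688 → P i := stepQ 8687 Q8687 (allL N8687 (tt N10052 (iv F32670)) (tt N9542 (iv F30756)) (tt N7087 (iv D8780)) (tt N10189 (iv F33188)) (tt N10228 D10325) (tt N10128 (iv F32938)) (tt N9540 F30750) (tt N8687 F28028))
theorem Q8689 : ∀ i, i < 8689 → P i := stepQ 8688 Q8688 (allL N8688 (tt N8125 F28029) (tt N7456 F28030) (tt N10228 (iv F33286)) (tt N7094 F28031) (tt N7087 (iv D8781)) (tt N9027 (iv F29096)) (tt N10229 D10326) (tt N8688 F28032))
theorem Q8690 : ∀ i, i < 8690 → P i := stepQ 8689 Q8689 (allL N8689 (tt N10053 (iv F32673)) (tt N7457 F28033) (tt N9540 (iv F30747)) (tt N7088 F28034) (tt N10229 (iv F33291)) (tt N10230 D10327) (tt N7087 (iv D8782)) (tt N9526 (iv F30699)))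
theorem Q8691 : ∀ i, i < 8691 → P i := stepQ 8690 Q8690 (allL N8690 (tt N10054 (iv F32678)) (tt N10231 D10328) (tt N10192 (iv F33197)) (tt N10230 (iv F33292)) (tt N7096 F28035) (tt N7088 (iv D8783)) (tt N10130 (iv F32943)) (tt N7089 F28036))
theorem Q8692 : ∀ i, i < 8692 → P i := stepQ 8691 Q8691 (allL N8691 (tt N10232 D10329) (tt N7089 (iv D8784)) (tt N10233 D10330) (tt N10099 (iv F32839)) (tt N7101 F28037) (tt N7460 F28038) (tt N7092 F28039) (tt N10231 (iv F33295)))
theorem Q8693 : ∀ i, i < 8693 → P i := stepQ 8692 Q8692 (allL N8692 (tt N10234 D10331) (tt N7090 (iv D8785)) (tt N10235 D10332) (tt N7092 F28040) (tt N8533 F28041) (tt N7127 F28042) (tt N10099 (iv F32842)) (tt N8598 (iv F28043)))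
theorem Q8694 : ∀ i, i < 8694 → P i := stepQ 8693 Q8693 (allL N8693 (tt N7880 F28044) (tt N8598 F28045) (tt N9632 (iv F31121)) (tt N10135 (iv F32954)) (tt N8534 F28046) (tt N7091 F28047) (tt N10236 D10333) (tt N7090 (iv D8786)))
theorem Q8695 : ∀ i, i < 8695 → P i := stepQ 8694 Q8694 (allL N8694 (tt N7092 (iv D8787)) (tt N9522 (iv F30682)) (tt N10237 D10334) (tt N10234 (iv F33303)) (tt N7110 F28048) (tt N7128 F28049) (tt N10232 (iv F33298)) (tt N9559 (iv F30826)))
theorem Q8696 : ∀ i, i < 8696 → P i := stepQ 8695 Q8695 (allL N8695 (tt N10237 (iv F33314)) (tt N10195 (iv F33205)) (tt N7092 (iv D8788)) (tt N10238 D10335) (tt N7111 F28050) (tt N7129 F28051) (tt N10233 (iv F33301)) (tt N9556 (iv F30815)))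
theorem Q8697 : ∀ i, i < 8697 → P i := stepQ 8696 Q8696 (allL N8696 (tt N10239 D10336) (tt N7093 (iv D8789)) (tt N7467 F28052) (tt N10202 (iv F33217)) (tt N9436 (iv F30375)) (tt N10240 D10337) (tt N10241 D10338) (tt N7112 F28053))
theorem Q8698 : ∀ i, i < 8698 → P i := stepQ 8697 Q8697 (allL N8697 (tt N8104 F28054) (tt N9436 (iv F30373)) (tt N7094 F28055) (tt N10242 D10339) (tt N7093 (iv D8790)) (tt N8666 F28056) (tt N10243 D10340) (tt N7113 F28057))
theorem Q8699 : ∀ i, i < 8699 → P i := stepQ 8698 Q8698 (allL N8698 (tt N8115 F28058) (tt N10241 (iv F33327)) (tt N7095 F28059) (tt N10204 (iv F33224)) (tt N10243 (iv F33334)) (tt N10244 D10341) (tt N7093 (iv D8791)) (tt N8014 F28060))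
theorem Q8700 : ∀ i, i < 8700 → P i := stepQ 8699 Q8699 (allL N8699 (tt N8126 F28061) (tt N7470 F28062) (tt N10243 (iv F33333)) (tt N10229 (iv F33290)) (tt N7095 F28063) (tt N10245 D10342) (tt N7094 (iv D8792)) (tt N8020 F28064))
theorem Q8701 : ∀ i, i < 8701 → P i := stepQ 8700 Q8700 (allL N8700 (tt N8137 F28065) (tt N10246 D10343) (tt N10244 (iv F33337)) (tt N7096 F28066) (tt N10245 (iv F33340)) (tt N7095 (iv D8793)) (tt N9872 (iv F31956)) (tt N8025 F28067))
theorem Q8702 : ∀ i, i < 8702 → P i := stepQ 8701 Q8701 (allL N8701 (tt N10247 D10344) (tt N7096 (iv D8794)) (tt N10248 D10345) (tt N10246 (iv F33342)) (tt N10231 (iv F33293)) (tt N7473 F28068) (tt N9564 (iv F30842)) (tt N7101 F28069))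
theorem Q8703 : ∀ i, i < 8703 → P i := stepQ 8702 Q8702 (allL N8702 (tt N10058 (iv F32691)) (tt N10249 D10346) (tt N7099 F28070) (tt N9673 (iv F31268)) (tt N9179 (iv F29627)) (tt N7097 (iv D8795)) (tt N7104 F28071) (tt N9589 (iv F30964)))
theorem Q8704 : ∀ i, i < 8704 → P i := stepQ 8703 Q8703 (allL N8703 (tt N8527 F28072) (tt N10250 D10347) (tt N9179 (iv F29625)) (tt N8531 F28073) (tt N7099 F28074) (tt N7098 (iv D8796)) (tt N7106 F28075) (tt N10251 D10348))
theorem Q8705 : ∀ i, i < 8705 → P i := stepQ 8704 Q8704 (allL N8704 (tt N8140 F28076) (tt N7476 F28077) (tt N8359 F28078) (tt N10252 D10349) (tt N7100 F28079) (tt N10251 (iv F33364)) (tt N7115 F28080) (tt N7098 (iv D8797)))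
theorem Q8706 : ∀ i, i < 8706 → P i := stepQ 8705 Q8705 (allL N8705 (tt N7199 (iv F28084)) (tt N7099 (iv D8798)) (tt N10253 D10350) (tt N7101 F28081) (tt N10250 (iv F33358)) (tt N7385 F28082) (tt N7108 F28083) (tt N9838 (iv F31831)))
theorem Q8707 : ∀ i, i < 8707 → P i := stepQ 8706 Q8706 (allL N8706 (tt N8141 F28085) (tt N9838 (iv F31828)) (tt N9589 (iv F30963)) (tt N8025 F28086) (tt N10251 (iv F33363)) (tt N7100 F28087) (tt N8029 F28088) (tt N7099 (iv D8799)))
theorem Q8708 : ∀ i, i < 8708 → P i := stepQ 8707 Q8707 (allL N8707 (tt N7101 (iv D8800)) (tt N9523 (iv F30685)) (tt N10254 D10351) (tt N7199 F28089) (tt N10232 (iv F33296)) (tt N7420 F28090) (tt N7110 F28091) (tt N10247 (iv F33346)))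
theorem Q8709 : ∀ i, i < 8709 → P i := stepQ 8708 Q8708 (allL N8708 (tt N10254 (iv F33374)) (tt N10214 (iv F33242)) (tt N7101 (iv D8801)) (tt N10255 D10352) (tt N10233 (iv F33299)) (tt N7478 F28092) (tt N7111 F28093) (tt N10248 (iv F33350)))
theorem Q8710 : ∀ i, i < 8710 → P i := stepQ 8709 Q8709 (allL N8709 (tt N8726 (iv F28143)) (tt N10256 D10353) (tt N7131 F28094) (tt N9659 (iv F31232)) (tt N8724 (iv F28138)) (tt N7102 (iv D8802)) (tt N9653 (iv F31209)) (tt N10257 D10354))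
theorem Q8711 : ∀ i, i < 8711 → P i := stepQ 8710 Q8710 (allL N8710 (tt N8727 (iv F28148)) (tt N7105 F28095) (tt N7132 F28096) (tt N10258 D10355) (tt N8725 (iv F28142)) (tt N10257 (iv F33383)) (tt N7120 F28097) (tt N7102 (iv D8803)))
theorem Q8712 : ∀ i, i < 8712 → P i := stepQ 8711 Q8711 (allL N8711 (tt N8519 F28098) (tt N10259 D10356) (tt N7106 F28099) (tt N9203 (iv F29705)) (tt N7104 F28100) (tt N7103 (iv D8804)) (tt N9179 (iv F29628)) (tt N10260 D10357))
theorem Q8713 : ∀ i, i < 8713 → P i := stepQ 8712 Q8712 (allL N8712 (tt N8520 F28101) (tt N8725 (iv F28140)) (tt N7107 F28102) (tt N10261 D10358) (tt N7105 F28103) (tt N10260 (iv F33391)) (tt N7123 F28104) (tt N7103 (iv D8805)))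
theorem Q8714 : ∀ i, i < 8714 → P i := stepQ 8713 Q8713 (allL N8713 (tt N10262 D10359) (tt N7104 (iv D8806)) (tt N10263 D10360) (tt N10217 (iv F33251)) (tt N10259 (iv F33386)) (tt N10256 (iv F33381)) (tt N10249 (iv F33354)) (tt N10264 D10361))
theorem Q8715 : ∀ i, i < 8715 → P i := stepQ 8714 Q8714 (allL N8714 (tt N10060 (iv F32699)) (tt N10264 (iv F33397)) (tt N7109 F28105) (tt N10265 D10362) (tt N10260 (iv F33390)) (tt N7105 F28106) (tt N9837 (iv F31825)) (tt N7104 (iv D8807)))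
theorem Q8716 : ∀ i, i < 8716 → P i := stepQ 8715 Q8715 (allL N8715 (tt N10061 (iv F32703)) (tt N10258 (iv F33384)) (tt N10101 (iv F32848)) (tt N7105 (iv D8808)) (tt N10266 D10363) (tt N10265 (iv F33399)) (tt N7125 F28107) (tt N10219 (iv F33256)))
theorem Q8717 : ∀ i, i < 8717 → P i := stepQ 8716 Q8716 (allL N8716 (tt N7190 F28108) (tt N7106 (iv D8809)) (tt N10267 D10364) (tt N8533 F28109) (tt N7108 F28110) (tt N7133 F28111) (tt N10250 (iv F33360)) (tt N7177 (iv F28112)))
theorem Q8718 : ∀ i, i < 8718 → P i := stepQ 8717 Q8717 (allL N8717 (tt N8529 F28113) (tt N7177 F28114) (tt N10260 (iv F33389)) (tt N8619 F28115) (tt N7109 F28116) (tt N7107 F28117) (tt N9829 (iv F31791)) (tt N7106 (iv D8810)))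
theorem Q8719 : ∀ i, i < 8719 → P i := stepQ 8718 Q8718 (allL N8718 (tt N7195 F28118) (tt N10263 (iv F33395)) (tt N7108 (iv D8811)) (tt N10268 D10365) (tt N10267 (iv F33402)) (tt N7134 F28119) (tt N10253 (iv F33373)) (tt N7178 F28120))
theorem Q8720 : ∀ i, i < 8720 → P i := stepQ 8719 Q8719 (allL N8719 (tt N7111 F28121) (tt N10269 D10366) (tt N7110 (iv D8812)) (tt N10270 D10367) (tt N10237 (iv F33315)) (tt N7135 F28122) (tt N10254 (iv F33376)) (tt N9555 (iv F30810)))
theorem Q8721 : ∀ i, i < 8721 → P i := stepQ 8720 Q8720 (allL N8720 (tt N10270 (iv F33412)) (tt N10227 (iv F33282)) (tt N10268 (iv F33406)) (tt N7111 (iv D8813)) (tt N10271 D10368) (tt N7136 F28123) (tt N10255 (iv F33380)) (tt N10272 D10369))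
theorem Q8722 : ∀ i, i < 8722 → P i := stepQ 8721 Q8721 (allL N8721 (tt N7112 (iv D8814)) (tt N8111 F28124) (tt N7486 F28125) (tt N8495 F28126) (tt N9008 (iv F29040)) (tt N9437 (iv F30378)) (tt N8011 F28127) (tt N10239 (iv F33322)))
theorem Q8723 : ∀ i, i < 8723 → P i := stepQ 8722 Q8722 (allL N8722 (tt N9437 (iv F30376)) (tt N9146 (iv F29496)) (tt N7488 F28128) (tt N8496 F28129) (tt N9435 (iv F30371)) (tt N7112 (iv D8815)) (tt N8722 F28130) (tt N10240 (iv F33325)))
theorem Q8724 : ∀ i, i < 8724 → P i := stepQ 8723 Q8723 (allL N8723 (tt N8128 F28131) (tt N7493 F28132) (tt N10273 D10370) (tt N7115 (iv D8816)) (tt N8019 F28133) (tt N8022 F28134) (tt N10252 (iv F33369)) (tt N8723 F28135))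
theorem Q8725 : ∀ i, i < 8725 → P i := stepQ 8724 Q8724 (allL N8724 (tt N7119 F28136) (tt N10274 D10371) (tt N7138 F28137) (tt N9748 (iv F31496)) (tt N8709 F28138) (tt N7116 (iv D8817)) (tt N9648 (iv F31190)) (tt N10275 D10372))
theorem Q8726 : ∀ i, i < 8726 → P i := stepQ 8725 Q8725 (allL N8725 (tt N7120 F28139) (tt N8712 F28140) (tt N7139 F28141) (tt N10276 D10373) (tt N8710 F28142) (tt N10275 (iv F33428)) (tt N8727 (iv F28152)) (tt N7116 (iv D8818)))
theorem Q8727 : ∀ i, i < 8727 → P i := stepQ 8726 Q8726 (allL N8726 (tt N8709 F28143) (tt N9844 (iv F31850)) (tt N7141 F28144) (tt N8080 F28145) (tt N7119 F28146) (tt N7117 (iv D8819)) (tt N8069 F28147) (tt N10277 D10374))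
theorem Q8728 : ∀ i, i < 8728 → P i := stepQ 8727 Q8727 (allL N8727 (tt N8710 F28148) (tt N7123 F28149) (tt N7142 F28150) (tt N10278 D10375) (tt N7120 F28151) (tt N10277 (iv F33435)) (tt N8725 F28152) (tt N7117 (iv D8820)))
theorem Q8729 : ∀ i, i < 8729 → P i := stepQ 8728 Q8728 (allL N8728 (tt N9648 (iv F31187)) (tt N9202 (iv F29699)) (tt N7143 F28153) (tt N9751 (iv F31509)) (tt N8069 F28154) (tt N7118 (iv D8821)) (tt N7119 F28155) (tt N10279 D10376))
theorem Q8730 : ∀ i, i < 8730 → P i := stepQ 8729 Q8729 (allL N8729 (tt N9649 (iv F31191)) (tt N8071 F28156) (tt N7144 F28157) (tt N9672 (iv F31264)) (tt N8070 F28158) (tt N10279 (iv F33444)) (tt N9654 (iv F31215)) (tt N7118 (iv D8822)))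
theorem Q8731 : ∀ i, i < 8731 → P i := stepQ 8730 Q8730 (allL N8730 (tt N9203 (iv F29703)) (tt N7119 (iv D8823)) (tt N8037 F28159) (tt N8519 F28160) (tt N9844 (iv F31853)) (tt N7124 F28161) (tt N9202 (iv F29702)) (tt N9788 (iv F31631)))
theorem Q8732 : ∀ i, i < 8732 → P i := stepQ 8731 Q8731 (allL N8731 (tt N10275 (iv F33425)) (tt N9788 (iv F31629)) (tt N7146 F28162) (tt N10280 D10377) (tt N10277 (iv F33434)) (tt N7120 F28163) (tt N10281 D10378) (tt N7119 (iv D8824)))
theorem Q8733 : ∀ i, i < 8733 → P i := stepQ 8732 Q8732 (allL N8732 (tt N10276 (iv F33429)) (tt N7125 F28164) (tt N10282 D10379) (tt N7120 (iv D8825)) (tt N10283 D10380) (tt N10280 (iv F33445)) (tt N10258 (iv F33385)) (tt N9754 (iv F31520)))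
theorem Q8734 : ∀ i, i < 8734 → P i := stepQ 8733 Q8733 (allL N8733 (tt N8160 F28165) (tt N9843 (iv F31844)) (tt N8733 F28166) (tt N7122 F28167) (tt N8521 F28168) (tt N7121 (iv D8826)) (tt N8031 F28169) (tt N10284 D10381))
theorem Q8735 : ∀ i, i < 8735 → P i := stepQ 8734 Q8734 (allL N8734 (tt N10066 (iv F32722)) (tt N8081 F28170) (tt N8734 F28171) (tt N10285 D10382) (tt N9755 (iv F31523)) (tt N10284 (iv F33453)) (tt N8309 F28172) (tt N7121 (iv D8827)))
theorem Q8736 : ∀ i, i < 8736 → P i := stepQ 8735 Q8735 (allL N8735 (tt N10067 (iv F32727)) (tt N10278 (iv F33437)) (tt N10286 D10383) (tt N7123 (iv D8828)) (tt N10287 D10384) (tt N9833 (iv F31807)) (tt N10261 (iv F33394)) (tt N10285 (iv F33456)))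
theorem Q8737 : ∀ i, i < 8737 → P i := stepQ 8736 Q8736 (allL N8736 (tt N10068 (iv F32731)) (tt N10283 (iv F33449)) (tt N10102 (iv F32851)) (tt N10287 (iv F33460)) (tt N7125 (iv D8829)) (tt N9840 (iv F31835)) (tt N10266 (iv F33400)) (tt N9757 (iv F31524)))
theorem Q8738 : ∀ i, i < 8738 → P i := stepQ 8737 Q8737 (allL N8737 (tt N10069 (iv F32734)) (tt N7744 F28173) (tt N7126 (iv D8830)) (tt N10286 (iv F33458)) (tt N8919 (iv F28766)) (tt N9827 (iv F31777)) (tt N8623 F28174) (tt N8737 F28175))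
theorem Q8739 : ∀ i, i < 8739 → P i := stepQ 8738 Q8738 (allL N8738 (tt N7127 (iv D8831)) (tt N7173 F28176) (tt N8924 (iv F28781)) (tt N7128 F28177) (tt N7191 F28178) (tt N10234 (iv F33305)) (tt N7404 F28179) (tt N8595 F28180))
theorem Q8740 : ∀ i, i < 8740 → P i := stepQ 8739 Q8739 (allL N8739 (tt N8924 (iv F28779)) (tt N7520 F28181) (tt N7127 (iv D8832)) (tt N10288 D10385) (tt N8554 F28182) (tt N10235 (iv F33308)) (tt N7498 F28183) (tt N7154 F28184))
theorem Q8741 : ∀ i, i < 8741 → P i := stepQ 8740 Q8740 (allL N8740 (tt N7129 F28185) (tt N7749 F28186) (tt N7128 (iv D8833)) (tt N10289 D10386) (tt N7135 F28187) (tt N10237 (iv F33316)) (tt N7422 F28188) (tt N7748 F28189))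
theorem Q8742 : ∀ i, i < 8742 → P i := stepQ 8741 Q8741 (allL N8741 (tt N10289 (iv F33465)) (tt N7332 F28190) (tt N10288 (iv F33462)) (tt N7129 (iv D8834)) (tt N10290 D10387) (tt N10238 (iv F33319)) (tt N7500 F28191) (tt N10291 D10388))
theorem Q8743 : ∀ i, i < 8743 → P i := stepQ 8742 Q8742 (allL N8742 (tt N8754 (iv F28227)) (tt N9251 (iv F29829)) (tt N9653 (iv F31206)) (tt N7336 F28192) (tt N8750 (iv F28213)) (tt N7130 (iv D8835)) (tt N7131 F28193) (tt N10292 D10389))
theorem Q8744 : ∀ i, i < 8744 → P i := stepQ 8743 Q8743 (allL N8743 (tt N8755 (iv F28233)) (tt N7506 F28194) (tt N9654 (iv F31212)) (tt N10293 D10390) (tt N8751 (iv F28216)) (tt N10292 (iv F33477)) (tt N7144 F28195) (tt N7130 (iv D8836)))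
theorem Q8745 : ∀ i, i < 8745 → P i := stepQ 8744 Q8744 (allL N8744 (tt N8756 (iv F28238)) (tt N7175 F28196) (tt N10257 (iv F33382)) (tt N8954 (iv F28863)) (tt N8753 (iv F28225)) (tt N7132 F28197) (tt N10294 D10391) (tt N7131 (iv D8837)))
theorem Q8746 : ∀ i, i < 8746 → P i := stepQ 8745 Q8745 (allL N8745 (tt N7189 F28198) (tt N8761 (iv F28254)) (tt N7133 (iv D8838)) (tt N10295 D10392) (tt N7134 F28199) (tt N10267 (iv F33403)) (tt N7375 F28200) (tt N7176 F28201))
theorem Q8747 : ∀ i, i < 8747 → P i := stepQ 8746 Q8746 (allL N8746 (tt N7196 F28202) (tt N9259 (iv F29846)) (tt N7136 F28203) (tt N7134 (iv D8839)) (tt N10296 D10393) (tt N10268 (iv F33407)) (tt N7383 F28204) (tt N10191 (iv F33195)))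
theorem Q8748 : ∀ i, i < 8748 → P i := stepQ 8747 Q8747 (allL N8747 (tt N7136 F28205) (tt N9264 (iv F29859)) (tt N7196 F28206) (tt N7135 (iv D8840)) (tt N10297 D10394) (tt N10270 (iv F33414)) (tt N7416 F28207) (tt N10298 D10395))
theorem Q8749 : ∀ i, i < 8749 → P i := stepQ 8748 Q8748 (allL N8748 (tt N10297 (iv F33490)) (tt N7338 F28208) (tt N10296 (iv F33488)) (tt N10290 (iv F33470)) (tt N7136 (iv D8841)) (tt N10271 (iv F33415)) (tt N7507 F28209) (tt N10299 D10396))
theorem Q8750 : ∀ i, i < 8750 → P i := stepQ 8749 Q8749 (allL N8749 (tt N10298 (iv F33493)) (tt N7339 F28210) (tt N10191 (iv F33193)) (tt N9540 (iv F30748)) (tt N10299 (iv F33496)) (tt N10272 (iv F33416)) (tt N10189 F33190) (tt N7136 (iv D8842)))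
theorem Q8751 : ∀ i, i < 8751 → P i := stepQ 8750 Q8750 (allL N8750 (tt N7143 F28211) (tt N10300 D10397) (tt N9648 (iv F31188)) (tt N7151 F28212) (tt N8742 F28213) (tt N7137 (iv D8843)) (tt N7138 F28214) (tt N10301 D10398))
theorem Q8752 : ∀ i, i < 8752 → P i := stepQ 8751 Q8751 (allL N8751 (tt N7144 F28215) (tt N9107 (iv F29376)) (tt N9649 (iv F31193)) (tt N10302 D10399) (tt N8743 F28216) (tt N10301 (iv F33503)) (tt N8755 (iv F28237)) (tt N7137 (iv D8844)))
theorem Q8753 : ∀ i, i < 8753 → P i := stepQ 8752 Q8752 (allL N8752 (tt N7163 F28217) (tt N7138 (iv D8845)) (tt N10303 D10400) (tt N7146 F28218) (tt N7639 F28219) (tt N7147 F28220) (tt N10300 (iv F33500)) (tt N7161 (iv F28221)))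
theorem Q8754 : ∀ i, i < 8754 → P i := stepQ 8753 Q8753 (allL N8753 (tt N7146 F28222) (tt N7161 F28223) (tt N10275 (iv F33426)) (tt N7163 F28224) (tt N8744 F28225) (tt N7139 F28226) (tt N10304 D10401) (tt N7138 (iv D8846)))
theorem Q8755 : ∀ i, i < 8755 → P i := stepQ 8754 Q8754 (allL N8754 (tt N8742 F28227) (tt N7634 F28228) (tt N8069 F28229) (tt N8593 F28230) (tt N7143 F28231) (tt N7140 (iv D8847)) (tt N7141 F28232) (tt N10305 D10402))
theorem Q8756 : ∀ i, i < 8756 → P i := stepQ 8755 Q8755 (allL N8755 (tt N8743 F28233) (tt N7511 F28234) (tt N8070 F28235) (tt N10306 D10403) (tt N7144 F28236) (tt N10305 (iv F33518)) (tt N8751 F28237) (tt N7140 (iv D8848)))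
theorem Q8757 : ∀ i, i < 8757 → P i := stepQ 8756 Q8756 (allL N8756 (tt N8744 F28238) (tt N7149 F28239) (tt N10277 (iv F33433)) (tt N7722 F28240) (tt N7146 F28241) (tt N7142 F28242) (tt N10307 D10404) (tt N7141 (iv D8849)))
theorem Q8758 : ∀ i, i < 8758 → P i := stepQ 8757 Q8757 (allL N8757 (tt N7164 F28248) (tt N7143 (iv D8850)) (tt N8647 (iv F28247)) (tt N7158 F28243) (tt N7634 F28244) (tt N7352 F28245) (tt N7145 F28246) (tt N10308 D10405))
theorem Q8759 : ∀ i, i < 8759 → P i := stepQ 8758 Q8758 (allL N8758 (tt N10301 (iv F33501)) (tt N10308 (iv F33529)) (tt N10279 (iv F33442)) (tt N10309 D10406) (tt N10305 (iv F33517)) (tt N7144 F28249) (tt N10310 D10407) (tt N7143 (iv D8851)))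
theorem Q8760 : ∀ i, i < 8760 → P i := stepQ 8759 Q8759 (allL N8759 (tt N10302 (iv F33504)) (tt N7513 F28250) (tt N10311 D10408) (tt N7144 (iv D8852)) (tt N10312 D10409) (tt N10309 (iv F33534)) (tt N10293 (iv F33479)) (tt N7160 F28251))
theorem Q8761 : ∀ i, i < 8761 → P i := stepQ 8760 Q8760 (allL N8760 (tt N10304 (iv F33510)) (tt N7151 F28252) (tt N10281 (iv F33446)) (tt N10300 (iv F33498)) (tt N10307 (iv F33526)) (tt N10294 (iv F33482)) (tt N7146 (iv D8853)) (tt N10310 (iv F33537)))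
theorem Q8762 : ∀ i, i < 8762 → P i := stepQ 8761 Q8761 (allL N8761 (tt N7167 F28253) (tt N8745 F28254) (tt N7147 (iv D8854)) (tt N10282 (iv F33448)) (tt N7641 F28255) (tt N10303 (iv F33508)) (tt N8953 (iv F28860)) (tt N7165 F28256))
theorem Q8763 : ∀ i, i < 8763 → P i := stepQ 8762 Q8762 (allL N8762 (tt N7156 F28257) (tt N10307 (iv F33524)) (tt N9784 (iv F31619)) (tt N8923 (iv F28776)) (tt N7151 F28258) (tt N7148 (iv D8855)) (tt N7149 F28259) (tt N10313 D10410))
theorem Q8764 : ∀ i, i < 8764 → P i := stepQ 8763 Q8763 (allL N8763 (tt N7157 F28260) (tt N8900 (iv F28709)) (tt N8896 F28691) (tt N10314 D10411) (tt N7152 F28261) (tt N10313 (iv F33544)) (tt N7346 F28262) (tt N7148 (iv D8856)))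
theorem Q8765 : ∀ i, i < 8765 → P i := stepQ 8764 Q8764 (allL N8764 (tt N7515 F28263) (tt N10294 (iv F33481)) (tt N9640 (iv F31157)) (tt N9106 (iv F29373)) (tt N8772 (iv F28285)) (tt N7150 (iv D8857)) (tt N7175 F28264) (tt N10315 D10412))
theorem Q8766 : ∀ i, i < 8766 → P i := stepQ 8765 Q8765 (allL N8765 (tt N7516 F28265) (tt N7152 F28266) (tt N8898 (iv F28699)) (tt N10316 D10413) (tt N8900 (iv F28710)) (tt N10315 (iv F33552)) (tt N7348 F28267) (tt N7150 (iv D8858)))
theorem Q8767 : ∀ i, i < 8767 → P i := stepQ 8766 Q8766 (allL N8766 (tt N7159 F28268) (tt N10310 (iv F33536)) (tt N9787 (iv F31627)) (tt N10317 D10414) (tt N10313 (iv F33543)) (tt N7152 F28269) (tt N10308 (iv F33533)) (tt N7151 (iv D8859)))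
theorem Q8768 : ∀ i, i < 8768 → P i := stepQ 8767 Q8767 (allL N8767 (tt N7160 F28270) (tt N10316 (iv F33554)) (tt N10318 D10415) (tt N7152 (iv D8860)) (tt N10319 D10416) (tt N10317 (iv F33557)) (tt N7351 F28271) (tt N10302 (iv F33505)))
theorem Q8769 : ∀ i, i < 8769 → P i := stepQ 8768 Q8768 (allL N8768 (tt N8910 (iv F28737)) (tt N10236 (iv F33311)) (tt N7155 F28272) (tt N9789 (iv F31633)) (tt N8599 F28273) (tt N7153 (iv D8861)) (tt N8598 F28274) (tt N9283 (iv F29911)))
theorem Q8770 : ∀ i, i < 8770 → P i := stepQ 8769 Q8769 (allL N8769 (tt N8923 (iv F28775)) (tt N9112 (iv F29388)) (tt N8598 F28275) (tt N7156 F28276) (tt N8593 F28277) (tt N7154 (iv D8862)) (tt N7155 F28278) (tt N10235 (iv F33309)))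
theorem Q8771 : ∀ i, i < 8771 → P i := stepQ 8770 Q8770 (allL N8770 (tt N10313 (iv F33541)) (tt N9121 (iv F29416)) (tt N9795 (iv F31651)) (tt N10320 D10417) (tt N7159 F28279) (tt N7157 F28280) (tt N7637 F28281) (tt N7156 (iv D8863)))
theorem Q8772 : ∀ i, i < 8772 → P i := stepQ 8771 Q8771 (allL N8771 (tt N10314 (iv F33546)) (tt N7523 F28282) (tt N10291 (iv F33474)) (tt N7157 (iv D8864)) (tt N10321 D10418) (tt N10320 (iv F33562)) (tt N7353 F28283) (tt N10288 (iv F33464)))
theorem Q8773 : ∀ i, i < 8773 → P i := stepQ 8772 Q8772 (allL N8772 (tt N7158 (iv D8865)) (tt N10304 (iv F33511)) (tt N10224 (iv F33274)) (tt N7164 F28284) (tt N8764 F28285) (tt N7359 F28286) (tt N7161 F28287) (tt N10223 F33271))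
theorem Q8774 : ∀ i, i < 8774 → P i := stepQ 8773 Q8773 (allL N8773 (tt N10224 (iv F33272)) (tt N9798 (iv F31660)) (tt N7158 (iv D8866)) (tt N8648 F28288) (tt N9119 (iv F29409)) (tt N7524 F28289) (tt N7162 F28290) (tt N10222 F33268))
theorem Q8775 : ∀ i, i < 8775 → P i := stepQ 8774 Q8774 (allL N8774 (tt N10223 (iv F33269)) (tt N7159 F28291) (tt N10222 F33267) (tt N10322 D10419) (tt N9121 (iv F29417)) (tt N7525 F28292) (tt N10323 D10420) (tt N7158 (iv D8867)))
theorem Q8776 : ∀ i, i < 8776 → P i := stepQ 8775 Q8775 (allL N8775 (tt N10317 (iv F33556)) (tt N10322 (iv F33567)) (tt N10324 D10421) (tt N7159 (iv D8868)) (tt N10325 D10422) (tt N7160 F28293) (tt N10326 D10423) (tt N10309 (iv F33535)))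
theorem Q8777 : ∀ i, i < 8777 → P i := stepQ 8776 Q8776 (allL N8776 (tt N10308 (iv F33528)) (tt N10323 (iv F33569)) (tt N9801 (iv F31666)) (tt N10326 (iv F33574)) (tt N7637 F28294) (tt N7355 F28295) (tt N7159 (iv D8869)) (tt N7164 F28296))
theorem Q8778 : ∀ i, i < 8778 → P i := stepQ 8777 Q8777 (allL N8777 (tt N10318 (iv F33558)) (tt N9412 (iv F30303)) (tt N7160 (iv D8870)) (tt N8991 (iv F28991)) (tt N10327 D10424) (tt N10324 (iv F33572)) (tt N7356 F28297) (tt N10311 (iv F33538)))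
theorem Q8779 : ∀ i, i < 8779 → P i := stepQ 8778 Q8778 (allL N8778 (tt N10319 (iv F33560)) (tt N7528 F28298) (tt N10327 (iv F33576)) (tt N10321 (iv F33565)) (tt N7160 (iv D8871)) (tt N10325 (iv F33573)) (tt N7357 F28299) (tt N10312 (iv F33540)))
theorem Q8780 : ∀ i, i < 8780 → P i := stepQ 8779 Q8779 (allL N8779 (tt N7162 F28300) (tt N10225 (iv F33279)) (tt N7161 (iv D8872)) (tt N9806 (iv F31685)) (tt N8789 (iv F28332)) (tt N7165 F28301) (tt N10224 F33278) (tt N10303 (iv F33509)))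
theorem Q8781 : ∀ i, i < 8781 → P i := stepQ 8780 Q8780 (allL N8780 (tt N9806 (iv F31684)) (tt N8540 F28302) (tt N8040 F28303) (tt N7162 (iv D8873)) (tt N8096 (iv F28306)) (tt N7166 F28304) (tt N8648 F28305) (tt N10328 D10425))
theorem Q8782 : ∀ i, i < 8782 → P i := stepQ 8781 Q8781 (allL N8781 (tt N10303 (iv F33506)) (tt N9804 (iv F31674)) (tt N7163 F28307) (tt N10329 D10426) (tt N7640 F28308) (tt N7167 F28309) (tt N10330 D10427) (tt N7162 (iv D8874)))
theorem Q8783 : ∀ i, i < 8783 → P i := stepQ 8782 Q8782 (allL N8782 (tt N10300 (iv F33497)) (tt N7164 F28310) (tt N10330 (iv F33583)) (tt N10304 (iv F33512)) (tt N7636 F28311) (tt N9352 (iv F30109)) (tt N7163 (iv D8875)) (tt N10323 (iv F33571)))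
theorem Q8784 : ∀ i, i < 8784 → P i := stepQ 8783 Q8783 (allL N8783 (tt N9780 (iv F31602)) (tt N7169 F28312) (tt N8043 F28313) (tt N10331 D10428) (tt N8097 F28314) (tt N10328 (iv F33581)) (tt N8373 F28315) (tt N7166 (iv D8876)))
theorem Q8785 : ∀ i, i < 8785 → P i := stepQ 8784 Q8784 (allL N8784 (tt N10282 (iv F33447)) (tt N7170 F28316) (tt N10276 (iv F33431)) (tt N7167 (iv D8877)) (tt N10332 D10429) (tt N10329 (iv F33582)) (tt N9351 (iv F30106)) (tt N10331 (iv F33587)))
theorem Q8786 : ∀ i, i < 8786 → P i := stepQ 8785 Q8785 (allL N8785 (tt N7603 F28317) (tt N8097 F28318) (tt N7171 F28319) (tt N10333 D10430) (tt N7169 F28320) (tt N7628 F28321) (tt N8321 F28322) (tt N7168 (iv D8878)))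
theorem Q8787 : ∀ i, i < 8787 → P i := stepQ 8786 Q8786 (allL N8786 (tt N9148 (iv F29504)) (tt N10331 (iv F33585)) (tt N9153 (iv F29525)) (tt N7169 (iv D8879)) (tt N10334 D10431) (tt N8553 F28323) (tt N10335 D10432) (tt N7170 F28324))
theorem Q8788 : ∀ i, i < 8788 → P i := stepQ 8787 Q8787 (allL N8787 (tt N9149 (iv F29508)) (tt N8373 F28325) (tt N7172 F28326) (tt N10335 (iv F33598)) (tt N8321 F28327) (tt N9424 (iv F30333)) (tt N7169 (iv D8880)) (tt N7529 F28328))
theorem Q8789 : ∀ i, i < 8789 → P i := stepQ 8788 Q8788 (allL N8788 (tt N9155 (iv F29533)) (tt N10332 (iv F33588)) (tt N10164 (iv F33083)) (tt N7643 F28329) (tt N7170 (iv D8881)) (tt N9811 (iv F31705)) (tt N9381 (iv F30196)) (tt N10334 (iv F33596)))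
theorem Q8790 : ∀ i, i < 8790 → P i := stepQ 8789 Q8789 (allL N8789 (tt N7535 F28330) (tt N10336 D10433) (tt N7175 F28331) (tt N9639 (iv F31153)) (tt N8779 F28332) (tt N7174 (iv D8882)) (tt N9640 (iv F31159)) (tt N9257 (iv F29843)))
theorem Q8791 : ∀ i, i < 8791 → P i := stepQ 8790 Q8790 (allL N8790 (tt N7188 F28333) (tt N10337 D10434) (tt N7177 F28334) (tt N10209 (iv F33231)) (tt N7178 F28335) (tt N7176 (iv D8883)) (tt N9828 (iv F31785)) (tt N10267 (iv F33404)))
theorem Q8792 : ∀ i, i < 8792 → P i := stepQ 8791 Q8791 (allL N8791 (tt N10338 D10435) (tt N7178 (iv D8884)) (tt N10264 (iv F33398)) (tt N10193 (iv F33200)) (tt N10337 (iv F33602)) (tt N10336 (iv F33600)) (tt N9834 (iv F31811)) (tt N10263 F33396))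
theorem Q8793 : ∀ i, i < 8793 → P i := stepQ 8792 Q8792 (allL N8792 (tt N9191 (iv F29662)) (tt N8271 F28336) (tt N9841 (iv F31836)) (tt N10339 D10436) (tt N8281 F28337) (tt N7200 F28338) (tt N10340 D10437) (tt N7181 (iv D8885)))
theorem Q8794 : ∀ i, i < 8794 → P i := stepQ 8793 Q8793 (allL N8793 (tt N10071 F32746) (tt N8802 (iv F28366)) (tt N9842 (iv F31839)) (tt N10079 (iv F32770)) (tt N7892 F28339) (tt N8793 F28340) (tt N7182 (iv D8886)) (tt N10340 (iv F33613)))
theorem Q8795 : ∀ i, i < 8795 → P i := stepQ 8794 Q8794 (allL N8794 (tt N8083 F28341) (tt N8069 F28342) (tt N7185 F28343) (tt N8082 F28344) (tt N9202 (iv F29701)) (tt N7184 (iv D8887)) (tt N9844 (iv F31854)) (tt N8076 F28345))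
theorem Q8796 : ∀ i, i < 8796 → P i := stepQ 8795 Q8795 (allL N8795 (tt N10209 (iv F33229)) (tt N8618 F28346) (tt N8082 F28347) (tt N7188 F28348) (tt N10044 (iv F32647)) (tt N7186 (iv D8888)) (tt N9845 (iv F31859)) (tt N10341 D10438))
theorem Q8797 : ∀ i, i < 8797 → P i := stepQ 8796 Q8796 (allL N8796 (tt N10210 (iv F33234)) (tt N7542 F28349) (tt N8088 F28350) (tt N10342 D10439) (tt N9207 (iv F29718)) (tt N10341 (iv F33616)) (tt N10343 D10440) (tt N7186 (iv D8889)))
theorem Q8798 : ∀ i, i < 8798 → P i := stepQ 8797 Q8797 (allL N8797 (tt N9702 (iv F31371)) (tt N7543 F28351) (tt N9891 (iv F32036)) (tt N7398 F28352) (tt N9601 (iv F31024)) (tt N10344 D10441) (tt N7187 (iv D8890)) (tt N10343 (iv F33625)))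
theorem Q8799 : ∀ i, i < 8799 → P i := stepQ 8798 Q8798 (allL N8798 (tt N10345 D10442) (tt N7188 (iv D8891)) (tt N8244 F28353) (tt N8618 F28354) (tt N7194 F28355) (tt N7544 F28356) (tt N9847 (iv F31866)) (tt N10346 D10443))
theorem Q8800 : ∀ i, i < 8800 → P i := stepQ 8799 Q8799 (allL N8799 (tt N10267 (iv F33401)) (tt N10346 (iv F33631)) (tt N7190 F28357) (tt N10347 D10444) (tt N7195 F28358) (tt N7189 F28359) (tt N10348 D10445) (tt N7188 (iv D8892)))
theorem Q8801 : ∀ i, i < 8801 → P i := stepQ 8800 Q8800 (allL N8800 (tt N10295 (iv F33483)) (tt N7546 F28360) (tt N8926 (iv F28787)) (tt N7189 (iv D8893)) (tt N10349 D10446) (tt N10347 (iv F33635)) (tt N7401 F28361) (tt N10342 (iv F33619)))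
theorem Q8802 : ∀ i, i < 8802 → P i := stepQ 8801 Q8801 (allL N8801 (tt N8533 F28362) (tt N8539 F28363) (tt N8925 (iv F28784)) (tt N7190 (iv D8894)) (tt N10234 (iv F33304)) (tt N7191 F28364) (tt N10350 D10447) (tt N8596 F28365))
theorem Q8803 : ∀ i, i < 8803 → P i := stepQ 8802 Q8802 (allL N8802 (tt N10250 (iv F33356)) (tt N8793 F28366) (tt N10348 (iv F33636)) (tt N10350 (iv F33645)) (tt N7199 F28367) (tt N7403 F28368) (tt N7190 (iv D8895)) (tt N9850 (iv F31875)))
theorem Q8804 : ∀ i, i < 8804 → P i := stepQ 8803 Q8803 (allL N8803 (tt N10248 (iv F33348)) (tt N7192 (iv D8896)) (tt N10247 F33347) (tt N7194 F28369) (tt N10045 (iv F32649)) (tt N7550 F28370) (tt N9854 (iv F31886)) (tt N10254 (iv F33377)))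
theorem Q8805 : ∀ i, i < 8805 → P i := stepQ 8804 Q8804 (allL N8804 (tt N10192 (iv F33196)) (tt N10254 (iv F33378)) (tt N10054 (iv F32679)) (tt N10351 D10448) (tt N10043 (iv F32641)) (tt N7193 F28371) (tt N10269 (iv F33410)) (tt N7192 (iv D8897)))
theorem Q8806 : ∀ i, i < 8806 → P i := stepQ 8805 Q8805 (allL N8805 (tt N10191 (iv F33192)) (tt N7552 F28372) (tt N10298 (iv F33494)) (tt N7193 (iv D8898)) (tt N10352 D10449) (tt N10351 (iv F33648)) (tt N10036 (iv F32614)) (tt N7196 F28373))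
theorem Q8807 : ∀ i, i < 8807 → P i := stepQ 8806 Q8806 (allL N8806 (tt N7194 (iv D8899)) (tt N10338 (iv F33605)) (tt N10353 D10450) (tt N10248 F33351) (tt N10345 (iv F33629)) (tt N7555 F28374) (tt N9855 (iv F31888)) (tt N10354 D10451))
theorem Q8808 : ∀ i, i < 8808 → P i := stepQ 8807 Q8807 (allL N8807 (tt N10353 (iv F33652)) (tt N7198 F28375) (tt N7194 (iv D8900)) (tt N9181 (iv F29630)) (tt N8244 F28376) (tt N7556 F28377) (tt N9856 (iv F31892)) (tt N9486 (iv F30551)))
theorem Q8809 : ∀ i, i < 8809 → P i := stepQ 8808 Q8808 (allL N8808 (tt N10354 (iv F33655)) (tt N7195 F28378) (tt N9486 (iv F30550)) (tt N10355 D10452) (tt N10346 (iv F33633)) (tt N7557 F28379) (tt N10356 D10453) (tt N7194 (iv D8901)))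
theorem Q8810 : ∀ i, i < 8810 → P i := stepQ 8809 Q8809 (allL N8809 (tt N10268 (iv F33405)) (tt N10355 (iv F33657)) (tt N10270 (iv F33413)) (tt N7195 (iv D8902)) (tt N10357 D10454) (tt N7196 F28380) (tt N10358 D10455) (tt N10351 (iv F33649)))
theorem Q8811 : ∀ i, i < 8811 → P i := stepQ 8810 Q8810 (allL N8810 (tt N10253 (iv F33371)) (tt N10356 (iv F33659)) (tt N7199 F28381) (tt N10358 (iv F33661)) (tt N10348 (iv F33637)) (tt N7415 F28382) (tt N7195 (iv D8903)) (tt N9859 (iv F31898)))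
theorem Q8812 : ∀ i, i < 8812 → P i := stepQ 8811 Q8811 (allL N8811 (tt N10296 (iv F33487)) (tt N7560 F28383) (tt N10297 (iv F33491)) (tt N10349 (iv F33640)) (tt N7196 (iv D8904)) (tt N10357 (iv F33660)) (tt N7417 F28384) (tt N10352 (iv F33651)))
theorem Q8813 : ∀ i, i < 8813 → P i := stepQ 8812 Q8812 (allL N8812 (tt N8199 F28385) (tt N7561 F28386) (tt N10359 D10456) (tt N7200 (iv D8905)) (tt N9758 (iv F31527)) (tt N10339 (iv F33608)) (tt N8812 F28387) (tt N8187 F28388))
theorem Q8814 : ∀ i, i < 8814 → P i := stepQ 8813 Q8813 (allL N8813 (tt N7682 F28389) (tt N10360 D10457) (tt N7201 (iv D8906)) (tt N7658 F28390) (tt N7215 F28391) (tt N7659 F28392) (tt N10361 D10458) (tt N8813 F28393))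
theorem Q8815 : ∀ i, i < 8815 → P i := stepQ 8814 Q8814 (allL N8814 (tt N8586 F28394) (tt N7205 F28395) (tt N10361 (iv F33678)) (tt N7202 F28396) (tt N7216 F28397) (tt N10362 D10459) (tt N7201 (iv D8907)) (tt N9516 (iv F30666)))
theorem Q8816 : ∀ i, i < 8816 → P i := stepQ 8815 Q8815 (allL N8815 (tt N8592 F28398) (tt N10170 (iv F33114)) (tt N8937 F28820) (tt N10362 (iv F33682)) (tt N7203 F28399) (tt N7202 (iv D8908)) (tt N8958 (iv F28875)) (tt N10169 F33112))
theorem Q8817 : ∀ i, i < 8817 → P i := stepQ 8816 Q8816 (allL N8816 (tt N8816 F28400) (tt N7204 (iv D8909)) (tt N10360 (iv F33670)) (tt N7260 F28401) (tt N7221 F28402) (tt N8816 F28403) (tt N7896 F28404) (tt N8816 F28405))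
theorem Q8818 : ∀ i, i < 8818 → P i := stepQ 8817 Q8817 (allL N8817 (tt N8566 F28406) (tt N9385 (iv F30211)) (tt N7212 F28407) (tt N10363 D10460) (tt N7210 F28408) (tt N8494 F28409) (tt N9354 (iv F30116)) (tt N7207 (iv D8910)))
theorem Q8819 : ∀ i, i < 8819 → P i := stepQ 8818 Q8818 (allL N8818 (tt N8569 F28410) (tt N10364 D10461) (tt N7208 (iv D8911)) (tt N7215 F28411) (tt N8868 (iv F28591)) (tt N9343 (iv F30082)) (tt N10365 D10462) (tt N8866 F28582))
theorem Q8820 : ∀ i, i < 8820 → P i := stepQ 8819 Q8819 (allL N8819 (tt N8571 F28412) (tt N8819 F28413) (tt N10365 (iv F33691)) (tt N7209 F28414) (tt N8872 (iv F28608)) (tt N10366 D10463) (tt N7208 (iv D8912)) (tt N8278 F28415))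
theorem Q8821 : ∀ i, i < 8821 → P i := stepQ 8820 Q8820 (allL N8820 (tt N8572 F28416) (tt N10367 D10464) (tt N7217 F28417) (tt N10366 (iv F33695)) (tt N7211 F28418) (tt N7209 (iv D8913)) (tt N9353 (iv F30112)) (tt N8275 F28419))
theorem Q8822 : ∀ i, i < 8822 → P i := stepQ 8821 Q8821 (allL N8821 (tt N8574 F28420) (tt N9389 (iv F30229)) (tt N9637 (iv F31143)) (tt N7210 (iv D8914)) (tt N10368 D10465) (tt N8498 F28421) (tt N9357 (iv F30123)) (tt N9870 (iv F31951)))
theorem Q8823 : ∀ i, i < 8823 → P i := stepQ 8822 Q8822 (allL N8822 (tt N10369 D10466) (tt N7211 (iv D8915)) (tt N10370 D10467) (tt N9296 (iv F29960)) (tt N10367 (iv F33698)) (tt N8822 F28422) (tt N9355 (iv F30119)) (tt N8505 F28423))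
theorem Q8824 : ∀ i, i < 8824 → P i := stepQ 8823 Q8823 (allL N8823 (tt N8581 F28424) (tt N7440 F28425) (tt N10371 D10468) (tt N7212 (iv D8916)) (tt N7435 F28426) (tt N8506 F28427) (tt N10372 D10469) (tt N8823 F28428))
theorem Q8825 : ∀ i, i < 8825 → P i := stepQ 8824 Q8824 (allL N8824 (tt N8582 F28429) (tt N7566 F28430) (tt N9354 (iv F30114)) (tt N10372 (iv F33723)) (tt N7218 F28431) (tt N10373 D10470) (tt N7212 (iv D8917)) (tt N7214 F28432))
theorem Q8826 : ∀ i, i < 8826 → P i := stepQ 8825 Q8825 (allL N8825 (tt N7684 F28433) (tt N8825 F28434) (tt N7213 (iv D8918)) (tt N9343 (iv F30081)) (tt N7659 F28435) (tt N7215 F28436) (tt N10374 D10471) (tt N8825 F28437))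
theorem Q8827 : ∀ i, i < 8827 → P i := stepQ 8826 Q8826 (allL N8826 (tt N8583 F28438) (tt N7567 F28439) (tt N10374 (iv F33733)) (tt N7214 F28440) (tt N8960 (iv F28881)) (tt N10375 D10472) (tt N7213 (iv D8919)) (tt N10376 D10473))
theorem Q8828 : ∀ i, i < 8828 → P i := stepQ 8827 Q8827 (allL N8827 (tt N8584 F28441) (tt N10186 (iv F33169)) (tt N9353 (iv F30110)) (tt N10375 (iv F33736)) (tt N7219 F28442) (tt N7214 (iv D8920)) (tt N7217 F28443) (tt N10373 (iv F33730)))
theorem Q8829 : ∀ i, i < 8829 → P i := stepQ 8828 Q8828 (allL N8828 (tt N8828 F28444) (tt N7215 (iv D8921)) (tt N7221 F28445) (tt N10364 (iv F33688)) (tt N10360 (iv F33672)) (tt N8828 F28446) (tt N9519 (iv F30674)) (tt N8828 F28447))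
theorem Q8830 : ∀ i, i < 8830 → P i := stepQ 8829 Q8829 (allL N8829 (tt N8585 F28448) (tt N9519 (iv F30672)) (tt N7216 F28449) (tt N10365 (iv F33692)) (tt N10361 (iv F33680)) (tt N10377 D10474) (tt N7215 (iv D8922)) (tt N9515 (iv F30661)))
theorem Q8831 : ∀ i, i < 8831 → P i := stepQ 8830 Q8830 (allL N8830 (tt N8587 F28450) (tt N10378 D10475) (tt N10377 (iv F33742)) (tt N7217 F28451) (tt N10362 (iv F33683)) (tt N7216 (iv D8923)) (tt N10375 (iv F33737)) (tt N9517 (iv F30668)))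
theorem Q8832 : ∀ i, i < 8832 → P i := stepQ 8831 Q8831 (allL N8831 (tt N10187 (iv F33174)) (tt N7217 (iv D8924)) (tt N10188 (iv F33182)) (tt N10378 (iv F33743)) (tt N7220 F28452) (tt N7223 F28453) (tt N10186 F33173) (tt N8509 F28454))
theorem Q8833 : ∀ i, i < 8833 → P i := stepQ 8832 Q8832 (allL N8832 (tt N8589 F28455) (tt N10379 D10476) (tt N9356 (iv F30120)) (tt N9642 (iv F31163)) (tt N10373 (iv F33728)) (tt N7218 (iv D8925)) (tt N8510 F28456) (tt N7219 F28457))
theorem Q8834 : ∀ i, i < 8834 → P i := stepQ 8833 Q8833 (allL N8833 (tt N10188 (iv F33180)) (tt N7219 (iv D8926)) (tt N10187 (iv F33176)) (tt N9342 (iv F30074)) (tt N10186 F33172) (tt N7572 F28458) (tt N7220 F28459) (tt N10379 (iv F33749)))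
theorem Q8835 : ∀ i, i < 8835 → P i := stepQ 8834 Q8834 (allL N8834 (tt N10186 (iv F33168)) (tt N10370 (iv F33712)) (tt N7220 (iv D8927)) (tt N10380 D10477) (tt N10188 (iv F33184)) (tt N7224 F28460) (tt N10187 F33179) (tt N8517 F28461))
theorem Q8836 : ∀ i, i < 8836 → P i := stepQ 8835 Q8835 (allL N8835 (tt N10179 (iv F33149)) (tt N7222 (iv D8928)) (tt N10381 D10478) (tt N7223 F28462) (tt N10171 (iv F33121)) (tt N10378 (iv F33744)) (tt N7575 F28463) (tt N9338 (iv F30063)))
theorem Q8837 : ∀ i, i < 8837 → P i := stepQ 8836 Q8836 (allL N8836 (tt N7572 F28464) (tt N8836 F28465) (tt N7223 (iv D8929)) (tt N7289 (iv F28469)) (tt N7224 F28466) (tt N10188 (iv F33185)) (tt N7288 F28467) (tt N8525 F28468))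
theorem Q8838 : ∀ i, i < 8838 → P i := stepQ 8837 Q8837 (allL N8837 (tt N10185 (iv F33164)) (tt N8837 F28470) (tt N9693 (iv F31346)) (tt N7224 (iv D8930)) (tt N10382 D10479) (tt N10380 (iv F33751)) (tt N7577 F28471) (tt N9690 (iv F31337)))
theorem Q8839 : ∀ i, i < 8839 → P i := stepQ 8838 Q8838 (allL N8838 (tt N8838 F28472) (tt N10116 (iv F32898)) (tt N8838 F28473) (tt N7229 F28474) (tt N7226 F28475) (tt N8396 F28477) (tt N7225 (iv D8931)) (tt N8395 (iv F28476)))
theorem Q8840 : ∀ i, i < 8840 → P i := stepQ 8839 Q8839 (allL N8839 (tt N8839 F28478) (tt N10383 D10480) (tt N8839 F28479) (tt N7227 F28480) (tt N8396 F28481) (tt N7226 (iv D8932)) (tt N9961 (iv F32264)) (tt N8394 F28482))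
theorem Q8841 : ∀ i, i < 8841 → P i := stepQ 8840 Q8840 (allL N8840 (tt N8840 F28483) (tt N9836 (iv F31819)) (tt N8840 F28484) (tt N7297 F28485) (tt N8395 F28486) (tt N8394 F28487) (tt N9968 (iv F32302)) (tt N7226 (iv D8933)))
theorem Q8842 : ∀ i, i < 8842 → P i := stepQ 8841 Q8841 (allL N8841 (tt N10384 D10481) (tt N7227 (iv D8934)) (tt N9550 (iv F30786)) (tt N10383 (iv F33760)) (tt N7232 F28488) (tt N10118 (iv F32905)) (tt N9963 (iv F32274)) (tt N7298 F28489))
theorem Q8843 : ∀ i, i < 8843 → P i := stepQ 8842 Q8842 (allL N8842 (tt N8875 (iv F28619)) (tt N7228 (iv D8935)) (tt N9552 (iv F30793)) (tt N8858 F28545) (tt N9963 (iv F32273)) (tt N10003 (iv F32439)) (tt N7232 F28490) (tt N9969 (iv F32305)))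
theorem Q8844 : ∀ i, i < 8844 → P i := stepQ 8843 Q8843 (allL N8843 (tt N8649 (iv F28495)) (tt N7230 (iv D8936)) (tt N8639 F28491) (tt N7232 F28492) (tt N8643 F28493) (tt N10125 (iv F32930)) (tt N8858 (iv F28544)) (tt N8637 F28494))
theorem Q8845 : ∀ i, i < 8845 → P i := stepQ 8844 Q8844 (allL N8844 (tt N7232 (iv D8937)) (tt N8844 F28496) (tt N9549 (iv F30781)) (tt N8649 F28497) (tt N10384 (iv F33769)) (tt N10127 (iv F32936)) (tt N8875 (iv F28621)) (tt N7312 F28498))
theorem Q8846 : ∀ i, i < 8846 → P i := stepQ 8845 Q8845 (allL N8845 (tt N9368 (iv F30150)) (tt N8845 F28499) (tt N8371 F28500) (tt N7233 (iv D8938)) (tt N10385 D10482) (tt N9507 (iv F30629)) (tt N8368 F28501) (tt N7239 F28502))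
theorem Q8847 : ∀ i, i < 8847 → P i := stepQ 8846 Q8846 (allL N8846 (tt N7237 F28503) (tt N8237 F28504) (tt N9920 (iv F32134)) (tt N8904 (iv F28720)) (tt N7236 F28505) (tt N7815 F28506) (tt N10143 (iv F32996)) (tt N7234 (iv D8939)))
theorem Q8848 : ∀ i, i < 8848 → P i := stepQ 8847 Q8847 (allL N8847 (tt N7238 F28507) (tt N8234 F28508) (tt N9921 (iv F32139)) (tt N10386 D10483) (tt N7815 F28509) (tt N7236 F28510) (tt N8236 F28511) (tt N7235 (iv D8940)))
theorem Q8849 : ∀ i, i < 8849 → P i := stepQ 8848 Q8848 (allL N8848 (tt N7239 F28512) (tt N9401 (iv F30270)) (tt N10387 D10484) (tt N7236 (iv D8941)) (tt N10388 D10485) (tt N10386 (iv F33779)) (tt N9366 F30145) (tt N9368 (iv F30153)))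
theorem Q8850 : ∀ i, i < 8850 → P i := stepQ 8849 Q8849 (allL N8849 (tt N8904 F28722) (tt N8849 F28513) (tt N10389 D10486) (tt N7237 (iv D8942)) (tt N10390 D10487) (tt N7816 F28514) (tt N10154 (iv F33049)) (tt N8849 F28515))
theorem Q8851 : ∀ i, i < 8851 → P i := stepQ 8850 Q8850 (allL N8850 (tt N10386 (iv F33777)) (tt N9473 (iv F30503)) (tt N10391 D10488) (tt N7238 (iv D8943)) (tt N10392 D10489) (tt N7239 F28516) (tt N10393 D10490) (tt N9507 F30630))
theorem Q8852 : ∀ i, i < 8852 → P i := stepQ 8851 Q8851 (allL N8851 (tt N8236 F28517) (tt N8243 F28518) (tt N9925 (iv F32147)) (tt N10393 (iv F33799)) (tt N7624 F28519) (tt N10159 (iv F33070)) (tt N7238 (iv D8944)) (tt N7240 F28520))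
theorem Q8853 : ∀ i, i < 8853 → P i := stepQ 8852 Q8852 (allL N8852 (tt N10387 (iv F33782)) (tt N9374 (iv F30169)) (tt N7239 (iv D8945)) (tt N9926 (iv F32150)) (tt N10394 D10491) (tt N10391 (iv F33791)) (tt N9348 (iv F30098)) (tt N8371 F28521))
theorem Q8854 : ∀ i, i < 8854 → P i := stepQ 8853 Q8853 (allL N8853 (tt N10388 (iv F33784)) (tt N8853 F28522) (tt N10394 (iv F33802)) (tt N10390 (iv F33788)) (tt N7239 (iv D8946)) (tt N10392 (iv F33795)) (tt N10160 (iv F33073)) (tt N10385 (iv F33776)))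
theorem Q8855 : ∀ i, i < 8855 → P i := stepQ 8854 Q8854 (allL N8854 (tt N8854 F28523) (tt N8229 F28524) (tt N7322 F28525) (tt N7242 F28526) (tt N9819 (iv F31750)) (tt N10395 D10492) (tt N7241 (iv D8947)) (tt N10396 D10493))
theorem Q8856 : ∀ i, i < 8856 → P i := stepQ 8855 Q8855 (allL N8855 (tt N8855 F28527) (tt N10397 D10494) (tt N7243 F28528) (tt N10395 (iv F33806)) (tt N7314 F28529) (tt N7242 (iv D8948)) (tt N9903 (iv F32090)) (tt N8855 F28530))
theorem Q8857 : ∀ i, i < 8857 → P i := stepQ 8856 Q8856 (allL N8856 (tt N7276 F28531) (tt N9966 (iv F32287)) (tt N7999 F28532) (tt N7248 F28533) (tt N9964 (iv F32280)) (tt N10018 (iv F32518)) (tt N7247 (iv D8949)) (tt N10007 (iv F32463)))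
theorem Q8858 : ∀ i, i < 8858 → P i := stepQ 8857 Q8857 (allL N8857 (tt N7278 F28534) (tt N8449 F28535) (tt N7249 F28536) (tt N10018 (iv F32517)) (tt N7252 F28537) (tt N7248 (iv D8950)) (tt N9935 (iv F32181)) (tt N8448 (iv F28538)))
theorem Q8859 : ∀ i, i < 8859 → P i := stepQ 8858 Q8858 (allL N8858 (tt N7279 F28539) (tt N8438 F28540) (tt N7250 F28541) (tt N8842 (iv F28545)) (tt N7253 F28542) (tt N8448 F28543) (tt N8843 F28544) (tt N7248 (iv D8951)))
theorem Q8860 : ∀ i, i < 8860 → P i := stepQ 8859 Q8859 (allL N8859 (tt N7280 F28546) (tt N7563 F28547) (tt N8448 F28548) (tt N10014 (iv F32500)) (tt N7255 F28549) (tt N7250 F28550) (tt N8975 (iv F28932)) (tt N7249 (iv D8952)))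
theorem Q8861 : ∀ i, i < 8861 → P i := stepQ 8860 Q8860 (allL N8860 (tt N7281 F28551) (tt N7251 F28552) (tt N10020 (iv F32527)) (tt N7250 (iv D8953)) (tt N7575 F28553) (tt N10014 (iv F32502)) (tt N10171 (iv F33122)) (tt N8000 F28554))
theorem Q8862 : ∀ i, i < 8862 → P i := stepQ 8861 Q8861 (allL N8861 (tt N7257 F28555) (tt N7924 F28561) (tt N7251 (iv D8954)) (tt N7264 F28556) (tt N7573 F28557) (tt N7263 F28558) (tt N7921 F28559) (tt N8001 F28560))
theorem Q8863 : ∀ i, i < 8863 → P i := stepQ 8862 Q8862 (allL N8862 (tt N8476 (iv F28565)) (tt N7252 (iv D8955)) (tt N8443 F28562) (tt N9973 (iv F32316)) (tt N8449 F28563) (tt N8442 F28564) (tt N9937 (iv F32186)) (tt N8441 (iv F28566)))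
theorem Q8864 : ∀ i, i < 8864 → P i := stepQ 8863 Q8863 (allL N8863 (tt N7286 F28567) (tt N8441 F28568) (tt N7255 F28569) (tt N10398 D10495) (tt N8448 F28570) (tt N7253 F28571) (tt N8965 (iv F28897)) (tt N7252 (iv D8956)))
theorem Q8865 : ∀ i, i < 8865 → P i := stepQ 8864 Q8864 (allL N8864 (tt N7287 F28572) (tt N9962 (iv F32267)) (tt N7577 F28573) (tt N7253 (iv D8957)) (tt N9997 (iv F32406)) (tt N10398 (iv F33826)) (tt N9693 (iv F31348)) (tt N9682 F31306))
theorem Q8866 : ∀ i, i < 8866 → P i := stepQ 8865 Q8865 (allL N8865 (tt N8865 F28574) (tt N7265 F28575) (tt N8865 F28576) (tt N7258 (iv D8958)) (tt N10399 D10496) (tt N8865 F28577) (tt N7863 F28578) (tt N10400 D10497))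
theorem Q8867 : ∀ i, i < 8867 → P i := stepQ 8866 Q8866 (allL N8866 (tt N8003 F28579) (tt N10399 (iv F33829)) (tt N7275 F28580) (tt N8866 F28581) (tt N7265 (iv D8959)) (tt N9940 (iv F32196)) (tt N10031 (iv F32588)) (tt N8818 (iv F28582)))
theorem Q8868 : ∀ i, i < 8868 → P i := stepQ 8867 Q8867 (allL N8867 (tt N7999 F28583) (tt N7863 F28584) (tt N7276 F28585) (tt N7266 F28586) (tt N10031 (iv F32586)) (tt N7866 F28587) (tt N7265 (iv D8960)) (tt N9998 (iv F32412)))
theorem Q8869 : ∀ i, i < 8869 → P i := stepQ 8868 Q8868 (allL N8868 (tt N7680 F28588) (tt N10400 (iv F33836)) (tt N7277 F28589) (tt N7661 F28590) (tt N8818 F28591) (tt N7715 F28592) (tt N10401 D10498) (tt N7265 (iv D8961)))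
theorem Q8870 : ∀ i, i < 8870 → P i := stepQ 8869 Q8869 (allL N8869 (tt N8000 F28593) (tt N7271 F28594) (tt N9996 (iv F32398)) (tt N7269 (iv D8962)) (tt N8880 (iv F28633)) (tt N7865 F28595) (tt N7899 F28596) (tt N7281 F28597))
theorem Q8871 : ∀ i, i < 8871 → P i := stepQ 8870 Q8870 (allL N8870 (tt N7294 F28598) (tt N7899 F28599) (tt N8653 F28600) (tt N7272 F28601) (tt N8652 F28602) (tt N7920 (iv F28603)) (tt N7271 (iv D8963)) (tt N10165 (iv F33091)))
theorem Q8872 : ∀ i, i < 8872 → P i := stepQ 8871 Q8871 (allL N8871 (tt N10018 (iv F32515)) (tt N10402 D10499) (tt N7866 F28604) (tt N7278 F28605) (tt N10030 (iv F32580)) (tt N7276 (iv D8964)) (tt N9942 (iv F32203)) (tt N10000 (iv F32423)))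
theorem Q8873 : ∀ i, i < 8873 → P i := stepQ 8872 Q8872 (allL N8872 (tt N10116 (iv F32897)) (tt N8872 F28606) (tt N10401 (iv F33842)) (tt N7666 F28607) (tt N8819 F28608) (tt N10403 D10500) (tt N7277 (iv D8965)) (tt N9861 (iv F31904)))
theorem Q8874 : ∀ i, i < 8874 → P i := stepQ 8873 Q8873 (allL N8873 (tt N8486 F28609) (tt N7278 (iv D8966)) (tt N8873 F28610) (tt N10402 (iv F33847)) (tt N7285 F28611) (tt N8873 F28612) (tt N9943 (iv F32206)) (tt N8485 (iv F28613)))
theorem Q8875 : ∀ i, i < 8875 → P i := stepQ 8874 Q8874 (allL N8874 (tt N8448 F28614) (tt N8485 F28615) (tt N7280 F28616) (tt N10404 D10501) (tt N7286 F28617) (tt N7279 F28618) (tt N8974 (iv F28927)) (tt N7278 (iv D8967)))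
theorem Q8876 : ∀ i, i < 8876 → P i := stepQ 8875 Q8875 (allL N8875 (tt N8842 F28619) (tt N8875 F28620) (tt N10405 D10502) (tt N7279 (iv D8968)) (tt N10021 (iv F32535)) (tt N10404 (iv F33857)) (tt N8844 F28621) (tt N10027 (iv F32568)))
theorem Q8877 : ∀ i, i < 8877 → P i := stepQ 8876 Q8876 (allL N8876 (tt N10014 (iv F32497)) (tt N8876 F28622) (tt N9997 (iv F32404)) (tt N7280 (iv D8969)) (tt N7577 F28623) (tt N7281 F28624) (tt N10382 (iv F33758)) (tt N7865 F28625))
theorem Q8878 : ∀ i, i < 8878 → P i := stepQ 8877 Q8877 (allL N8877 (tt N8975 (iv F28929)) (tt N8877 F28626) (tt N8974 F28928) (tt N10382 (iv F33757)) (tt N7289 F28627) (tt N10177 (iv F33144)) (tt N7280 (iv D8970)) (tt N9089 (iv F29310)))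
theorem Q8879 : ∀ i, i < 8879 → P i := stepQ 8878 Q8878 (allL N8878 (tt N10020 (iv F32525)) (tt N10406 D10503) (tt N7281 (iv D8971)) (tt N10405 (iv F33861)) (tt N10398 F33827) (tt N9997 (iv F32407)) (tt N10178 (iv F33148)) (tt N9996 F32401))
theorem Q8880 : ∀ i, i < 8880 → P i := stepQ 8879 Q8879 (allL N8879 (tt N7575 F28628) (tt N7283 F28629) (tt N10398 (iv F33825)) (tt N7291 F28630) (tt N7281 (iv D8972)) (tt N7577 F28631) (tt N10179 (iv F33152)) (tt N8880 (iv F28634)))
theorem Q8881 : ∀ i, i < 8881 → P i := stepQ 8880 Q8880 (allL N8880 (tt N9177 (iv F29616)) (tt N7282 (iv D8973)) (tt N10406 (iv F33868)) (tt N8880 F28632) (tt N8869 F28633) (tt N9178 (iv F29623)) (tt N9528 (iv F30709)) (tt N8879 F28634))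
theorem Q8882 : ∀ i, i < 8882 → P i := stepQ 8881 Q8881 (allL N8881 (tt N7285 (iv D8974)) (tt N8476 F28635) (tt N8881 F28636) (tt N9554 (iv F30805)) (tt N8486 F28637) (tt N8881 F28638) (tt N9950 (iv F32231)) (tt N8475 (iv F28639)))
theorem Q8883 : ∀ i, i < 8883 → P i := stepQ 8882 Q8882 (allL N8882 (tt N8475 F28640) (tt N7286 F28641) (tt N8882 F28642) (tt N9585 (iv F30942)) (tt N8485 F28643) (tt N8882 F28644) (tt N8993 (iv F28997)) (tt N7285 (iv D8975)))
theorem Q8884 : ∀ i, i < 8884 → P i := stepQ 8883 Q8883 (allL N8883 (tt N10398 (iv F33823)) (tt N9585 (iv F30940)) (tt N7575 F28645) (tt N7286 (iv D8976)) (tt N10020 (iv F32528)) (tt N7287 F28646) (tt N10381 (iv F33755)) (tt N9583 F30932))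
theorem Q8885 : ∀ i, i < 8885 → P i := stepQ 8884 Q8884 (allL N8884 (tt N8965 F28898) (tt N8993 (iv F28993)) (tt N7289 F28647) (tt N10381 (iv F33753)) (tt N8974 (iv F28926)) (tt N10184 (iv F33163)) (tt N7286 (iv D8977)) (tt N9953 (iv F32236)))
theorem Q8886 : ∀ i, i < 8886 → P i := stepQ 8885 Q8885 (allL N8885 (tt N7577 F28648) (tt N7569 (iv F28651)) (tt N7287 (iv D8978)) (tt N7290 F28649) (tt N10014 (iv F32501)) (tt N7575 F28650) (tt N10185 (iv F33166)) (tt N10013 F32496))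
theorem Q8887 : ∀ i, i < 8887 → P i := stepQ 8886 Q8886 (allL N8886 (tt N10407 D10504) (tt N7296 (iv D8979)) (tt N10408 D10505) (tt N7298 F28652) (tt N8123 F28653) (tt N9834 (iv F31810)) (tt N8682 F28654) (tt N8121 F28655))
theorem Q8888 : ∀ i, i < 8888 → P i := stepQ 8887 Q8887 (allL N8887 (tt N7298 (iv D8980)) (tt N8887 F28656) (tt N10409 D10506) (tt N10407 (iv F33875)) (tt N7312 F28657) (tt N10194 (iv F33204)) (tt N9900 (iv F32074)) (tt N10384 (iv F33771)))
theorem Q8889 : ∀ i, i < 8889 → P i := stepQ 8888 Q8888 (allL N8888 (tt N10409 (iv F33883)) (tt N7316 F28658) (tt N7298 (iv D8981)) (tt N10410 D10507) (tt N7313 F28659) (tt N10195 (iv F33207)) (tt N9901 (iv F32078)) (tt N9550 (iv F30787)))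
theorem Q8890 : ∀ i, i < 8890 → P i := stepQ 8889 Q8889 (allL N8889 (tt N10411 D10508) (tt N7299 (iv D8982)) (tt N10412 D10509) (tt N10172 (iv F33124)) (tt N9641 (iv F31160)) (tt N7303 F28660) (tt N10201 (iv F33216)) (tt N9694 (iv F31351)))
theorem Q8891 : ∀ i, i < 8891 → P i := stepQ 8890 Q8890 (allL N8890 (tt N9291 (iv F29942)) (tt N7301 (iv D8983)) (tt N8935 (iv F28811)) (tt N7303 F28661) (tt N8579 F28662) (tt N10172 (iv F33126)) (tt N7310 F28663) (tt N8577 F28664))
theorem Q8892 : ∀ i, i < 8892 → P i := stepQ 8891 Q8891 (allL N8891 (tt N7303 (iv D8984)) (tt N8891 F28665) (tt N10413 D10510) (tt N9291 F29947) (tt N9900 (iv F32073)) (tt N10411 (iv F33888)) (tt N7312 F28666) (tt N9971 (iv F32312)))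
theorem Q8893 : ∀ i, i < 8893 → P i := stepQ 8892 Q8892 (allL N8892 (tt N10413 (iv F33891)) (tt N7318 F28667) (tt N7303 (iv D8985)) (tt N10414 D10511) (tt N9901 (iv F32077)) (tt N10412 (iv F33890)) (tt N7313 F28668) (tt N9972 (iv F32315)))
theorem Q8894 : ∀ i, i < 8894 → P i := stepQ 8893 Q8893 (allL N8893 (tt N8893 F28669) (tt N10140 (iv F32979)) (tt N9819 (iv F31748)) (tt N7305 F28670) (tt N7322 F28671) (tt N7940 F28672) (tt N7304 (iv D8986)) (tt N7951 (iv F28673)))
theorem Q8895 : ∀ i, i < 8895 → P i := stepQ 8894 Q8894 (allL N8894 (tt N8894 F28674) (tt N8193 (iv F28679)) (tt N7308 F28675) (tt N7940 F28676) (tt N7306 F28677) (tt N7305 (iv D8987)) (tt N7939 F28678) (tt N8191 (iv F28680)))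
theorem Q8896 : ∀ i, i < 8896 → P i := stepQ 8895 Q8895 (allL N8895 (tt N8895 F28681) (tt N10143 (iv F32993)) (tt N7309 F28682) (tt N8326 (iv F28686)) (tt N7307 F28683) (tt N8191 F28684) (tt N8237 F28685) (tt N7305 (iv D8988)))
theorem Q8897 : ∀ i, i < 8897 → P i := stepQ 8896 Q8896 (allL N8896 (tt N8201 (iv F28690)) (tt N7306 (iv D8989)) (tt N8763 (iv F28691)) (tt N7324 F28687) (tt N8193 F28688) (tt N10145 (iv F33006)) (tt N8425 F28689) (tt N8189 (iv F28692)))
theorem Q8898 : ∀ i, i < 8898 → P i := stepQ 8897 Q8897 (allL N8897 (tt N8897 F28693) (tt N8189 F28694) (tt N7311 F28695) (tt N9399 (iv F30264)) (tt N8191 F28696) (tt N7307 F28697) (tt N8188 F28698) (tt N7306 (iv D8990)))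
theorem Q8899 : ∀ i, i < 8899 → P i := stepQ 8898 Q8898 (allL N8898 (tt N9120 (iv F29411)) (tt N7308 (iv D8991)) (tt N8765 F28699) (tt N8123 F28700) (tt N7310 F28701) (tt N10220 (iv F33259)) (tt N8579 F28702) (tt N8056 F28703))
theorem Q8900 : ∀ i, i < 8900 → P i := stepQ 8899 Q8899 (allL N8899 (tt N7310 (iv D8992)) (tt N8899 F28704) (tt N7525 F28707) (tt N7312 F28705) (tt N9120 (iv F29414)) (tt N10222 (iv F33266)) (tt N9291 (iv F29946)) (tt N7524 (iv F28706)))
theorem Q8901 : ∀ i, i < 8901 → P i := stepQ 8900 Q8900 (allL N8900 (tt N7525 F28708) (tt N8763 F28709) (tt N7310 (iv D8993)) (tt N10415 D10512) (tt N8765 F28710) (tt N10223 (iv F33270)) (tt N8935 (iv F28813)) (tt N7359 (iv F28711)))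
theorem Q8902 : ∀ i, i < 8902 → P i := stepQ 8901 Q8901 (allL N8901 (tt N7524 F28712) (tt N7311 F28713) (tt N7359 F28714) (tt N8637 F28715) (tt N8056 F28716) (tt N10224 (iv F33277)) (tt N7358 F28717) (tt N7310 (iv D8994)))
theorem Q8903 : ∀ i, i < 8903 → P i := stepQ 8902 Q8902 (allL N8902 (tt N7313 F28718) (tt N9459 (iv F30438)) (tt N7312 (iv D8995)) (tt N10416 D10513) (tt N10409 (iv F33884)) (tt N10226 (iv F33281)) (tt N10413 (iv F33892)) (tt N9549 (iv F30782)))
theorem Q8904 : ∀ i, i < 8904 → P i := stepQ 8903 Q8903 (allL N8903 (tt N10416 (iv F33899)) (tt N7325 F28719) (tt N10415 (iv F33897)) (tt N7313 (iv D8996)) (tt N10417 D10514) (tt N10227 (iv F33283)) (tt N10414 (iv F33894)) (tt N10418 D10515))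
theorem Q8905 : ∀ i, i < 8905 → P i := stepQ 8904 Q8904 (allL N8904 (tt N8849 (iv F28722)) (tt N7314 (iv D8997)) (tt N10419 D10516) (tt N8846 F28720) (tt N10397 (iv F33819)) (tt N9467 (iv F30476)) (tt N9904 (iv F32091)) (tt N8904 F28721))
theorem Q8906 : ∀ i, i < 8906 → P i := stepQ 8905 Q8905 (allL N8905 (tt N9423 (iv F30328)) (tt N10419 (iv F33906)) (tt N7315 (iv D8998)) (tt N10420 D10517) (tt N9382 (iv F30198)) (tt N7331 F28723) (tt N9905 (iv F32094)) (tt N8905 F28724))
theorem Q8907 : ∀ i, i < 8907 → P i := stepQ 8906 Q8906 (allL N8906 (tt N9461 (iv F30448)) (tt N10410 (iv F33887)) (tt N10420 (iv F33908)) (tt N7316 (iv D8999)) (tt N10421 D10518) (tt N7332 F28725) (tt N9906 (iv F32097)) (tt N10422 D10519))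
theorem Q8908 : ∀ i, i < 8908 → P i := stepQ 8907 Q8907 (allL N8907 (tt N7784 (iv F28730)) (tt N7317 (iv D9000)) (tt N9395 (iv F30248)) (tt N8425 F28726) (tt N9994 (iv F32385)) (tt N7782 F28727) (tt N7324 F28728) (tt N8907 F28729))
theorem Q8909 : ∀ i, i < 8909 → P i := stepQ 8908 Q8908 (allL N8908 (tt N9454 (iv F30423)) (tt N10414 (iv F33893)) (tt N9397 (iv F30254)) (tt N7318 (iv D9001)) (tt N10423 D10520) (tt N7609 F28731) (tt N7325 F28732) (tt N10424 D10521))
theorem Q8910 : ∀ i, i < 8910 → P i := stepQ 8909 Q8909 (allL N8909 (tt N8196 F28733) (tt N7322 F28734) (tt N8187 F28735) (tt N7320 F28736) (tt N10140 (iv F32982)) (tt N10425 D10522) (tt N7319 (iv D9002)) (tt N10359 (iv F33667)))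
theorem Q8911 : ∀ i, i < 8911 → P i := stepQ 8910 Q8910 (allL N8910 (tt N8768 F28737) (tt N10426 D10523) (tt N7335 F28738) (tt N10425 (iv F33920)) (tt N7321 F28739) (tt N7320 (iv D9003)) (tt N10137 (iv F32965)) (tt N7686 F28740))
theorem Q8912 : ∀ i, i < 8912 → P i := stepQ 8911 Q8911 (allL N8911 (tt N10088 (iv F32796)) (tt N7321 (iv D9004)) (tt N9360 (iv F30131)) (tt N10145 (iv F33004)) (tt N10426 (iv F33921)) (tt N7324 F28741) (tt N10086 F32793) (tt N9359 F30129))
theorem Q8913 : ∀ i, i < 8913 → P i := stepQ 8912 Q8912 (allL N8912 (tt N8912 F28742) (tt N10427 D10524) (tt N10395 (iv F33805)) (tt N7323 F28743) (tt N7940 F28744) (tt N7322 (iv D9005)) (tt N7938 F28745) (tt N7948 F28746))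
theorem Q8914 : ∀ i, i < 8914 → P i := stepQ 8913 Q8913 (allL N8913 (tt N8913 F28747) (tt N10359 (iv F33668)) (tt N10396 (iv F33813)) (tt N7700 F28748) (tt N7951 F28749) (tt N7948 F28750) (tt N8913 F28751) (tt N7322 (iv D9006)))
theorem Q8915 : ∀ i, i < 8915 → P i := stepQ 8914 Q8914 (allL N8914 (tt N10428 D10525) (tt N7323 (iv D9007)) (tt N9377 (iv F30181)) (tt N10427 (iv F33924)) (tt N7324 F28752) (tt N10426 (iv F33922)) (tt N9994 (iv F32387)) (tt N7701 F28753))
theorem Q8916 : ∀ i, i < 8916 → P i := stepQ 8915 Q8915 (allL N8915 (tt N7324 (iv D9008)) (tt N8915 F28754) (tt N9392 (iv F30243)) (tt N8201 F28755) (tt N10428 (iv F33931)) (tt N10088 (iv F32799)) (tt N7784 F28756) (tt N9391 F30240))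
theorem Q8917 : ∀ i, i < 8917 → P i := stepQ 8916 Q8916 (allL N8916 (tt N9453 (iv F30420)) (tt N10417 (iv F33901)) (tt N9396 (iv F30251)) (tt N10421 (iv F33910)) (tt N7325 (iv D9009)) (tt N7338 F28757) (tt N10423 (iv F33916)) (tt N10429 D10526))
theorem Q8918 : ∀ i, i < 8918 → P i := stepQ 8917 Q8917 (allL N8917 (tt N9438 (iv F30381)) (tt N10418 (iv F33902)) (tt N9387 F30224) (tt N9539 (iv F30743)) (tt N10429 (iv F33934)) (tt N7339 F28758) (tt N10430 D10527) (tt N7325 (iv D9010)))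
theorem Q8919 : ∀ i, i < 8919 → P i := stepQ 8918 Q8918 (allL N8918 (tt N8218 F28759) (tt N7329 (iv D9011)) (tt N10431 D10528) (tt N8046 F28760) (tt N8248 F28761) (tt N7330 F28762) (tt N8215 F28763) (tt N8918 F28764))
theorem Q8920 : ∀ i, i < 8920 → P i := stepQ 8919 Q8919 (allL N8919 (tt N10167 (iv F33096)) (tt N7331 F28765) (tt N7330 (iv D9012)) (tt N10432 D10529) (tt N8737 F28766) (tt N10431 (iv F33941)) (tt N7627 F28767) (tt N8919 F28768))
theorem Q8921 : ∀ i, i < 8921 → P i := stepQ 8920 Q8920 (allL N8920 (tt N9428 (iv F30348)) (tt N10432 (iv F33944)) (tt N7332 F28769) (tt N7331 (iv D9013)) (tt N10433 D10530) (tt N10420 (iv F33909)) (tt N7629 F28770) (tt N10434 D10531))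
theorem Q8922 : ∀ i, i < 8922 → P i := stepQ 8921 Q8921 (allL N8921 (tt N9458 (iv F30433)) (tt N10290 (iv F33469)) (tt N10433 (iv F33948)) (tt N7338 F28771) (tt N7332 (iv D9014)) (tt N10421 (iv F33911)) (tt N7632 F28772) (tt N10435 D10532))
theorem Q8923 : ∀ i, i < 8923 → P i := stepQ 8922 Q8922 (allL N8922 (tt N7798 F28773) (tt N10291 (iv F33473)) (tt N10434 (iv F33952)) (tt N7797 F28774) (tt N10435 (iv F33956)) (tt N10422 (iv F33914)) (tt N10436 D10533) (tt N7332 (iv D9015)))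
theorem Q8924 : ∀ i, i < 8924 → P i := stepQ 8923 Q8923 (allL N8923 (tt N8769 F28775) (tt N9352 (iv F30107)) (tt N10137 (iv F32963)) (tt N8762 F28776) (tt N7336 F28777) (tt N7334 (iv D9016)) (tt N7335 F28778) (tt N10437 D10534))
theorem Q8925 : ∀ i, i < 8925 → P i := stepQ 8924 Q8924 (allL N8924 (tt N8739 F28779) (tt N7355 F28780) (tt N8738 F28781) (tt N10438 D10535) (tt N7337 F28782) (tt N10437 (iv F33965)) (tt N7342 F28783) (tt N7334 (iv D9017)))
theorem Q8926 : ∀ i, i < 8926 → P i := stepQ 8925 Q8925 (allL N8925 (tt N10076 (iv F32760)) (tt N9301 (iv F29971)) (tt N8801 F28784) (tt N10439 D10536) (tt N10437 (iv F33964)) (tt N7337 F28785) (tt N9299 (iv F29969)) (tt N7336 (iv D9018)))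
theorem Q8927 : ∀ i, i < 8927 → P i := stepQ 8926 Q8926 (allL N8926 (tt N10098 (iv F32836)) (tt N7638 F28786) (tt N8800 F28787) (tt N7337 (iv D9019)) (tt N10440 D10537) (tt N10439 (iv F33973)) (tt N7344 F28788) (tt N10293 (iv F33480)))
theorem Q8928 : ∀ i, i < 8928 → P i := stepQ 8927 Q8927 (allL N8927 (tt N9441 (iv F30390)) (tt N10299 (iv F33495)) (tt N9388 (iv F30226)) (tt N10441 D10538) (tt N7339 F28789) (tt N10429 (iv F33935)) (tt N10442 D10539) (tt N7338 (iv D9020)))
theorem Q8929 : ∀ i, i < 8929 → P i := stepQ 8928 Q8928 (allL N8928 (tt N9442 (iv F30393)) (tt N10189 (iv F33187)) (tt N9389 (iv F30230)) (tt N9542 (iv F30758)) (tt N10442 (iv F33977)) (tt N10443 D10540) (tt N7339 (iv D9021)) (tt N7650 F28790))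
theorem Q8930 : ∀ i, i < 8930 → P i := stepQ 8929 Q8929 (allL N8929 (tt N7343 F28791) (tt N9288 (iv F29930)) (tt N8968 F28911) (tt N10444 D10541) (tt N7663 F28792) (tt N7341 F28793) (tt N9286 (iv F29924)) (tt N7340 (iv D9022)))
theorem Q8931 : ∀ i, i < 8931 → P i := stepQ 8930 Q8930 (allL N8930 (tt N7344 F28794) (tt N10101 (iv F32847)) (tt N8967 (iv F28904)) (tt N7341 (iv D9023)) (tt N10445 D10542) (tt N10444 (iv F33983)) (tt N10098 (iv F32838)) (tt N7351 F28795))
theorem Q8932 : ∀ i, i < 8932 → P i := stepQ 8931 Q8931 (allL N8931 (tt N9101 (iv F29354)) (tt N7354 F28796) (tt N9023 (iv F29080)) (tt N7342 (iv D9024)) (tt N10446 D10543) (tt N7687 F28797) (tt N10438 (iv F33970)) (tt N7690 F28798))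
theorem Q8933 : ∀ i, i < 8933 → P i := stepQ 8932 Q8932 (allL N8932 (tt N10444 (iv F33982)) (tt N7690 F28799) (tt N8995 (iv F29002)) (tt N7343 (iv D9025)) (tt N10447 D10544) (tt N7344 F28800) (tt N9305 (iv F29978)) (tt N7354 F28801))
theorem Q8934 : ∀ i, i < 8934 → P i := stepQ 8933 Q8933 (allL N8933 (tt N10445 (iv F33985)) (tt N7655 F28802) (tt N8997 (iv F29008)) (tt N10446 (iv F33988)) (tt N7344 (iv D9026)) (tt N10447 (iv F33993)) (tt N10440 (iv F33976)) (tt N7357 F28803))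
theorem Q8935 : ∀ i, i < 8935 → P i := stepQ 8934 Q8934 (allL N8934 (tt N7667 F28804) (tt N7651 F28805) (tt N10124 (iv F32926)) (tt N7672 F28806) (tt N7347 F28807) (tt N7345 (iv D9027)) (tt N7363 F28808) (tt N10448 D10545))
theorem Q8936 : ∀ i, i < 8936 → P i := stepQ 8935 Q8935 (allL N8935 (tt N7668 F28809) (tt N7346 F28810) (tt N8890 F28811) (tt N10449 D10546) (tt N7348 F28812) (tt N10448 (iv F33999)) (tt N8900 F28813) (tt N7345 (iv D9028)))
theorem Q8937 : ∀ i, i < 8937 → P i := stepQ 8936 Q8936 (allL N8936 (tt N7353 F28814) (tt N10449 (iv F34001)) (tt N10450 D10547) (tt N7346 (iv D9029)) (tt N10451 D10548) (tt N7653 F28815) (tt N10314 (iv F33548)) (tt N7677 F28816))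
theorem Q8938 : ∀ i, i < 8938 → P i := stepQ 8937 Q8937 (allL N8937 (tt N9128 (iv F29439)) (tt N7347 (iv D9030)) (tt N8815 (iv F28820)) (tt N9289 (iv F29936)) (tt N7651 F28817) (tt N7349 F28818) (tt N7367 F28819) (tt N10452 D10549))
theorem Q8939 : ∀ i, i < 8939 → P i := stepQ 8938 Q8938 (allL N8938 (tt N7673 F28821) (tt N10452 (iv F34015)) (tt N10126 (iv F32933)) (tt N10453 D10550) (tt N10448 (iv F33998)) (tt N7348 F28822) (tt N10454 D10551) (tt N7347 (iv D9031)))
theorem Q8940 : ∀ i, i < 8940 → P i := stepQ 8939 Q8939 (allL N8939 (tt N7674 F28823) (tt N7351 F28824) (tt N10219 (iv F33255)) (tt N7348 (iv D9032)) (tt N10455 D10552) (tt N10453 (iv F34021)) (tt N10316 (iv F33555)) (tt N10101 (iv F32850)))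
theorem Q8941 : ∀ i, i < 8941 → P i := stepQ 8940 Q8940 (allL N8940 (tt N9100 (iv F29349)) (tt N7350 F28825) (tt N8640 F28826) (tt N10456 D10553) (tt N7652 F28827) (tt N10452 (iv F34018)) (tt N7512 F28828) (tt N7349 (iv D9033)))
theorem Q8942 : ∀ i, i < 8942 → P i := stepQ 8941 Q8941 (allL N8941 (tt N7354 F28829) (tt N10456 (iv F34027)) (tt N10457 D10554) (tt N7350 (iv D9034)) (tt N10458 D10555) (tt N7351 F28830) (tt N10459 D10556) (tt N10444 (iv F33984)))
theorem Q8943 : ∀ i, i < 8943 → P i := stepQ 8942 Q8942 (allL N8942 (tt N7355 F28831) (tt N7512 F28832) (tt N8632 F28833) (tt N10459 (iv F34036)) (tt N7635 F28834) (tt N10308 (iv F33532)) (tt N7350 (iv D9035)) (tt N7352 F28835))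
theorem Q8944 : ∀ i, i < 8944 → P i := stepQ 8943 Q8943 (allL N8943 (tt N7356 F28836) (tt N10460 D10557) (tt N7351 (iv D9036)) (tt N8963 F28892) (tt N10461 D10558) (tt N10457 (iv F34030)) (tt N10318 (iv F33559)) (tt N8967 (iv F28905)))
theorem Q8945 : ∀ i, i < 8945 → P i := stepQ 8944 Q8944 (allL N8944 (tt N7357 F28837) (tt N10455 (iv F34026)) (tt N10461 (iv F34039)) (tt N10451 (iv F34012)) (tt N7351 (iv D9037)) (tt N10458 (iv F34033)) (tt N10319 (iv F33561)) (tt N10445 (iv F33986)))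
theorem Q8946 : ∀ i, i < 8946 → P i := stepQ 8945 Q8945 (allL N8945 (tt N10450 (iv F34005)) (tt N10436 (iv F33958)) (tt N7353 (iv D9038)) (tt N9427 (iv F30345)) (tt N10462 D10559) (tt N7654 F28838) (tt N10291 (iv F33476)) (tt N7693 F28839))
theorem Q8947 : ∀ i, i < 8947 → P i := stepQ 8946 Q8946 (allL N8946 (tt N10451 (iv F34011)) (tt N7692 F28840) (tt N10462 (iv F34040)) (tt N7357 F28841) (tt N7353 (iv D9039)) (tt N7655 F28842) (tt N10321 (iv F33566)) (tt N7694 F28843))
theorem Q8948 : ∀ i, i < 8948 → P i := stepQ 8947 Q8947 (allL N8947 (tt N10457 (iv F34029)) (tt N10430 (iv F33936)) (tt N7354 (iv D9040)) (tt N8990 F28988) (tt N10463 D10560) (tt N7356 F28844) (tt N10418 F33904) (tt N8995 (iv F29004)))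
theorem Q8949 : ∀ i, i < 8949 → P i := stepQ 8948 Q8948 (allL N8948 (tt N10458 (iv F34031)) (tt N10446 (iv F33987)) (tt N10463 (iv F34043)) (tt N7655 F28845) (tt N7354 (iv D9041)) (tt N7357 F28846) (tt N10464 D10561) (tt N10447 (iv F33994)))
theorem Q8950 : ∀ i, i < 8950 → P i := stepQ 8949 Q8949 (allL N8949 (tt N10459 (iv F34034)) (tt N10438 (iv F33968)) (tt N10418 (iv F33903)) (tt N7355 F28847) (tt N10464 (iv F34046)) (tt N10326 (iv F33575)) (tt N7354 (iv D9042)) (tt N10415 (iv F33898)))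
theorem Q8951 : ∀ i, i < 8951 → P i := stepQ 8950 Q8950 (allL N8950 (tt N10461 (iv F34038)) (tt N9411 (iv F30300)) (tt N7357 F28848) (tt N10465 D10562) (tt N7356 (iv D9043)) (tt N10463 (iv F34044)) (tt N10327 (iv F33577)) (tt N8997 (iv F29010)))
theorem Q8952 : ∀ i, i < 8952 → P i := stepQ 8951 Q8951 (allL N8951 (tt N7719 F28849) (tt N7372 F28850) (tt N7731 F28851) (tt N7362 F28852) (tt N10113 (iv F32887)) (tt N10466 D10563) (tt N7361 (iv D9044)) (tt N10467 D10564))
theorem Q8953 : ∀ i, i < 8953 → P i := stepQ 8952 Q8952 (allL N8952 (tt N7720 F28853) (tt N10468 D10565) (tt N7363 F28854) (tt N10466 (iv F34049)) (tt N7365 F28855) (tt N7362 (iv D9045)) (tt N10124 (iv F32928)) (tt N10469 D10566))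
theorem Q8954 : ∀ i, i < 8954 → P i := stepQ 8953 Q8953 (allL N8953 (tt N7721 F28856) (tt N7375 F28857) (tt N7364 F28858) (tt N10470 D10567) (tt N7366 F28859) (tt N10469 (iv F34063)) (tt N8761 F28860) (tt N7362 (iv D9046)))
theorem Q8955 : ∀ i, i < 8955 → P i := stepQ 8954 Q8954 (allL N8954 (tt N7722 F28861) (tt N7504 F28862) (tt N10469 (iv F34061)) (tt N8744 F28863) (tt N7368 F28864) (tt N7364 F28865) (tt N10471 D10568) (tt N7363 (iv D9047)))
theorem Q8956 : ∀ i, i < 8956 → P i := stepQ 8955 Q8955 (allL N8955 (tt N10472 D10569) (tt N7365 (iv D9048)) (tt N10473 D10570) (tt N10123 (iv F32922)) (tt N10468 (iv F34056)) (tt N7381 F28866) (tt N10125 (iv F32931)) (tt N10474 D10571))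
theorem Q8957 : ∀ i, i < 8957 → P i := stepQ 8956 Q8956 (allL N8956 (tt N7727 F28867) (tt N10474 (iv F34085)) (tt N7368 F28868) (tt N10475 D10572) (tt N10469 (iv F34062)) (tt N7366 F28869) (tt N10476 D10573) (tt N7365 (iv D9049)))
theorem Q8958 : ∀ i, i < 8958 → P i := stepQ 8957 Q8957 (allL N8957 (tt N7728 F28870) (tt N7383 F28871) (tt N7642 F28872) (tt N7366 (iv D9050)) (tt N10477 D10574) (tt N10475 (iv F34090)) (tt N9259 (iv F29848)) (tt N10121 F32917))
theorem Q8959 : ∀ i, i < 8959 → P i := stepQ 8958 Q8958 (allL N8958 (tt N9126 (iv F29431)) (tt N10473 (iv F34080)) (tt N7367 (iv D9051)) (tt N10478 D10575) (tt N7714 F28873) (tt N7369 F28874) (tt N8815 F28875) (tt N7482 F28876))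
theorem Q8960 : ∀ i, i < 8960 → P i := stepQ 8959 Q8959 (allL N8959 (tt N7730 F28877) (tt N7505 F28878) (tt N10476 (iv F34092)) (tt N7636 F28879) (tt N10471 (iv F34072)) (tt N9251 (iv F29831)) (tt N7368 (iv D9052)) (tt N10454 (iv F34024)))
theorem Q8961 : ∀ i, i < 8961 → P i := stepQ 8960 Q8960 (allL N8960 (tt N9125 (iv F29426)) (tt N7386 F28880) (tt N9282 (iv F29907)) (tt N7369 (iv D9053)) (tt N8826 F28881) (tt N10478 (iv F34097)) (tt N7370 F28882) (tt N10479 D10576))
theorem Q8962 : ∀ i, i < 8962 → P i := stepQ 8961 Q8961 (allL N8961 (tt N7394 F28883) (tt N10113 (iv F32884)) (tt N7904 F28884) (tt N7378 F28885) (tt N7372 F28886) (tt N9582 (iv F30926)) (tt N7371 (iv D9054)) (tt N10480 D10577))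
theorem Q8963 : ∀ i, i < 8963 → P i := stepQ 8962 Q8962 (allL N8962 (tt N7396 F28887) (tt N10481 D10578) (tt N7899 F28888) (tt N7374 F28889) (tt N9582 (iv F30925)) (tt N7372 (iv D9055)) (tt N9996 (iv F32400)) (tt N10482 D10579))
theorem Q8964 : ∀ i, i < 8964 → P i := stepQ 8963 Q8963 (allL N8963 (tt N7397 F28890) (tt N10467 (iv F34051)) (tt N7905 F28891) (tt N8943 (iv F28892)) (tt N10480 (iv F34106)) (tt N10482 (iv F34114)) (tt N10483 D10580) (tt N7372 (iv D9056)))
theorem Q8965 : ∀ i, i < 8965 → P i := stepQ 8964 Q8964 (allL N8964 (tt N7398 F28893) (tt N9934 (iv F32175)) (tt N7909 F28894) (tt N9702 (iv F31374)) (tt N9688 (iv F31329)) (tt N10484 D10581) (tt N7373 (iv D9057)) (tt N10483 (iv F34120)))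
theorem Q8966 : ∀ i, i < 8966 → P i := stepQ 8965 Q8965 (allL N8965 (tt N8884 (iv F28898)) (tt N7374 (iv D9058)) (tt N7894 F28895) (tt N10481 (iv F34109)) (tt N7381 F28896) (tt N10468 (iv F34057)) (tt N8863 F28897) (tt N10485 D10582))
theorem Q8967 : ∀ i, i < 8967 → P i := stepQ 8966 Q8966 (allL N8966 (tt N7400 F28899) (tt N10485 (iv F34124)) (tt N7376 F28900) (tt N10486 D10583) (tt N7382 F28901) (tt N7375 F28902) (tt N10487 D10584) (tt N7374 (iv D9059)))
theorem Q8968 : ∀ i, i < 8968 → P i := stepQ 8967 Q8967 (allL N8967 (tt N7401 F28903) (tt N10470 (iv F34065)) (tt N8930 F28904) (tt N7375 (iv D9060)) (tt N10488 D10585) (tt N10486 (iv F34130)) (tt N10295 (iv F33486)) (tt N8943 F28905))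
theorem Q8969 : ∀ i, i < 8969 → P i := stepQ 8968 Q8968 (allL N8968 (tt N7402 F28906) (tt N7463 F28907) (tt N8929 (iv F28911)) (tt N7376 (iv D9061)) (tt N7464 F28908) (tt N7377 F28909) (tt N9064 (iv F29220)) (tt N7900 F28910))
theorem Q8970 : ∀ i, i < 8970 → P i := stepQ 8969 Q8969 (allL N8969 (tt N7403 F28912) (tt N7475 F28913) (tt N10487 (iv F34134)) (tt N9064 (iv F29218)) (tt N7385 F28914) (tt N10250 (iv F33359)) (tt N7376 (iv D9062)) (tt N9999 (iv F32418)))
theorem Q8971 : ∀ i, i < 8971 → P i := stepQ 8970 Q8970 (allL N8970 (tt N7406 F28915) (tt N10112 (iv F32879)) (tt N8970 F28916) (tt N10489 D10586) (tt N7380 F28917) (tt N9459 (iv F30441)) (tt N9681 (iv F31300)) (tt N7378 (iv D9063)))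
theorem Q8972 : ∀ i, i < 8972 → P i := stepQ 8971 Q8971 (allL N8971 (tt N9550 (iv F30784)) (tt N7379 (iv D9064)) (tt N10384 (iv F33767)) (tt N7381 F28918) (tt N9549 F30783) (tt N10123 (iv F32923)) (tt N10003 (iv F32440)) (tt N10409 (iv F33885)))
theorem Q8973 : ∀ i, i < 8973 → P i := stepQ 8972 Q8972 (allL N8972 (tt N7408 F28919) (tt N10409 F33886) (tt N8972 F28920) (tt N10490 D10587) (tt N9459 (iv F30440)) (tt N7380 F28921) (tt N10491 D10588) (tt N7379 (iv D9065)))
theorem Q8974 : ∀ i, i < 8974 → P i := stepQ 8973 Q8973 (allL N8973 (tt N7409 F28922) (tt N10121 (iv F32914)) (tt N7508 (iv F28924)) (tt N7380 (iv D9066)) (tt N10492 D10589) (tt N10490 (iv F34143)) (tt N10119 (iv F32909)) (tt N7383 F28923))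
theorem Q8975 : ∀ i, i < 8975 → P i := stepQ 8974 Q8974 (allL N8974 (tt N7381 (iv D9067)) (tt N7412 F28925) (tt N8877 (iv F28928)) (tt N9550 F30788) (tt N8884 F28926) (tt N10472 (iv F34076)) (tt N8874 F28927) (tt N10493 D10590))
theorem Q8976 : ∀ i, i < 8976 → P i := stepQ 8975 Q8975 (allL N8975 (tt N8877 F28929) (tt N7384 F28930) (tt N7381 (iv D9068)) (tt N10494 D10591) (tt N7894 F28931) (tt N10473 (iv F34082)) (tt N8859 F28932) (tt N7484 (iv F28933)))
theorem Q8977 : ∀ i, i < 8977 → P i := stepQ 8976 Q8976 (allL N8976 (tt N10493 (iv F34151)) (tt N7382 F28934) (tt N7484 F28935) (tt N10495 D10592) (tt N10485 (iv F34126)) (tt N10474 (iv F34087)) (tt N10496 D10593) (tt N7381 (iv D9069)))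
theorem Q8978 : ∀ i, i < 8978 → P i := stepQ 8977 Q8977 (allL N8977 (tt N7414 F28936) (tt N10495 (iv F34162)) (tt N7485 F28937) (tt N7382 (iv D9070)) (tt N10497 D10594) (tt N7383 F28938) (tt N10498 D10595) (tt N10490 (iv F34144)))
theorem Q8979 : ∀ i, i < 8979 → P i := stepQ 8978 Q8978 (allL N8978 (tt N7415 F28939) (tt N10496 (iv F34164)) (tt N7385 F28940) (tt N10498 (iv F34174)) (tt N10487 (iv F34135)) (tt N10253 (iv F33372)) (tt N7382 (iv D9071)) (tt N10005 (iv F32449)))
theorem Q8980 : ∀ i, i < 8980 → P i := stepQ 8979 Q8979 (allL N8979 (tt N7417 F28941) (tt N10477 (iv F34094)) (tt N7507 F28942) (tt N10488 (iv F34139)) (tt N7383 (iv D9072)) (tt N10497 (iv F34171)) (tt N10296 (iv F33489)) (tt N10492 (iv F34150)))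
theorem Q8981 : ∀ i, i < 8981 → P i := stepQ 8980 Q8980 (allL N8980 (tt N8980 F28943) (tt N10494 (iv F34157)) (tt N8980 F28944) (tt N7384 (iv D9073)) (tt N9173 (iv F29600)) (tt N7386 F28945) (tt N9171 (iv F29588)) (tt N10499 D10596))
theorem Q8982 : ∀ i, i < 8982 → P i := stepQ 8981 Q8981 (allL N8981 (tt N8981 F28946) (tt N10479 (iv F34100)) (tt N8981 F28947) (tt N7448 F28948) (tt N9174 (iv F29604)) (tt N10499 (iv F34179)) (tt N8981 F28949) (tt N7386 (iv D9074)))
theorem Q8983 : ∀ i, i < 8983 → P i := stepQ 8982 Q8982 (allL N8982 (tt N7904 F28950) (tt N8982 F28951) (tt N7394 F28952) (tt N8982 F28953) (tt N7388 F28954) (tt N9581 (iv F30922)) (tt N7387 (iv D9075)) (tt N8429 (iv F28955)))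
theorem Q8984 : ∀ i, i < 8984 → P i := stepQ 8983 Q8983 (allL N8983 (tt N7907 F28956) (tt N8983 F28957) (tt N7395 F28958) (tt N9609 (iv F31050)) (tt N7389 F28959) (tt N9597 (iv F31004)) (tt N10500 D10597) (tt N7387 (iv D9076)))
theorem Q8985 : ∀ i, i < 8985 → P i := stepQ 8984 Q8984 (allL N8984 (tt N7899 F28960) (tt N8002 (iv F28965)) (tt N7396 F28961) (tt N7390 F28962) (tt N9581 (iv F30919)) (tt N7388 (iv D9077)) (tt N8000 F28963) (tt N8427 F28964))
theorem Q8986 : ∀ i, i < 8986 → P i := stepQ 8985 Q8985 (allL N8985 (tt N7908 F28966) (tt N8985 F28967) (tt N8339 F28968) (tt N7389 (iv D9078)) (tt N9929 (iv F32156)) (tt N10015 (iv F32505)) (tt N8182 (iv F28970)) (tt N7391 F28969))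
theorem Q8987 : ∀ i, i < 8987 → P i := stepQ 8986 Q8986 (allL N8986 (tt N7909 F28971) (tt N8986 F28972) (tt N7398 F28973) (tt N8182 F28974) (tt N10500 (iv F34184)) (tt N10501 D10598) (tt N7389 (iv D9079)) (tt N8205 F28975))
theorem Q8988 : ∀ i, i < 8988 → P i := stepQ 8987 Q8987 (allL N8987 (tt N7910 F28976) (tt N8987 F28977) (tt N8300 F28978) (tt N8987 F28979) (tt N7391 (iv D9080)) (tt N10017 (iv F32513)) (tt N8167 F28980) (tt N9929 (iv F32158)))
theorem Q8989 : ∀ i, i < 8989 → P i := stepQ 8988 Q8988 (allL N8988 (tt N10480 (iv F34104)) (tt N7764 F28981) (tt N8429 F28982) (tt N10502 D10599) (tt N7397 F28983) (tt N9574 (iv F30887)) (tt N10503 D10600) (tt N7394 (iv D9081)))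
theorem Q8990 : ∀ i, i < 8990 → P i := stepQ 8989 Q8989 (allL N8989 (tt N9688 (iv F31326)) (tt N7766 F28984) (tt N10500 (iv F34183)) (tt N9596 (iv F30999)) (tt N7398 F28985) (tt N10504 D10601) (tt N7395 (iv D9082)) (tt N10503 (iv F34196)))
theorem Q8991 : ∀ i, i < 8991 → P i := stepQ 8990 Q8990 (allL N8990 (tt N10482 (iv F34112)) (tt N9575 (iv F30891)) (tt N8427 F28986) (tt N8947 (iv F28988)) (tt N9574 F30889) (tt N7397 F28987) (tt N10505 D10602) (tt N7396 (iv D9083)))
theorem Q8992 : ∀ i, i < 8992 → P i := stepQ 8991 Q8991 (allL N8991 (tt N10483 (iv F34116)) (tt N7769 F28989) (tt N8205 F28990) (tt N8777 F28991) (tt N10503 (iv F34195)) (tt N10506 D10603) (tt N7397 (iv D9084)) (tt N7398 F28992))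
theorem Q8993 : ∀ i, i < 8993 → P i := stepQ 8992 Q8992 (allL N8992 (tt N10484 (iv F34121)) (tt N10507 D10604) (tt N10501 (iv F34187)) (tt N10344 (iv F33626)) (tt N10504 (iv F34197)) (tt N7398 (iv D9085)) (tt N10023 (iv F32541)) (tt N10506 (iv F34204)))
theorem Q8994 : ∀ i, i < 8994 → P i := stepQ 8993 Q8993 (allL N8993 (tt N7399 (iv D9086)) (tt N8884 F28993) (tt N8993 F28994) (tt N9544 (iv F30763)) (tt N7412 F28995) (tt N7771 F28996) (tt N8882 F28997) (tt N10508 D10605))
theorem Q8995 : ∀ i, i < 8995 → P i := stepQ 8994 Q8994 (allL N8994 (tt N10508 (iv F34206)) (tt N7400 F28998) (tt N8994 F28999) (tt N10509 D10606) (tt N7413 F29000) (tt N7772 F29001) (tt N10510 D10607) (tt N7399 (iv D9087)))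
theorem Q8996 : ∀ i, i < 8996 → P i := stepQ 8995 Q8995 (allL N8995 (tt N10486 (iv F34128)) (tt N10509 (iv F34212)) (tt N8932 F29002) (tt N7400 (iv D9088)) (tt N10511 D10608) (tt N7401 F29003) (tt N10512 D10609) (tt N8947 F29004))
theorem Q8997 : ∀ i, i < 8997 → P i := stepQ 8996 Q8996 (allL N8996 (tt N10487 (iv F34132)) (tt N10510 (iv F34217)) (tt N7403 F29005) (tt N10512 (iv F34229)) (tt N7415 F29006) (tt N10348 (iv F33638)) (tt N7400 (iv D9089)) (tt N10025 (iv F32554)))
theorem Q8998 : ∀ i, i < 8998 → P i := stepQ 8997 Q8997 (allL N8997 (tt N10488 (iv F34137)) (tt N7776 F29007) (tt N8933 F29008) (tt N7417 F29009) (tt N7401 (iv D9090)) (tt N10511 (iv F34225)) (tt N10349 (iv F33641)) (tt N8950 F29010))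
theorem Q8999 : ∀ i, i < 8999 → P i := stepQ 8998 Q8998 (allL N8998 (tt N9064 F29221) (tt N8998 F29011) (tt N7676 F29012) (tt N7403 F29013) (tt N9310 (iv F29991)) (tt N10350 (iv F33646)) (tt N7402 (iv D9091)) (tt N7675 F29014))
theorem Q9000 : ∀ i, i < 9000 → P i := stepQ 8999 Q8999 (allL N8999 (tt N7425 F29015) (tt N8427 F29016) (tt N7424 F29017) (tt N7405 (iv D9092)) (tt N7785 F29018) (tt N8999 F29019) (tt N9340 (iv F30071)) (tt N8002 F29020))
theorem Q9001 : ∀ i, i < 9001 → P i := stepQ 9000 Q9000 (allL N9000 (tt N10489 (iv F34141)) (tt N7786 F29021) (tt N10513 D10610) (tt N7406 (iv D9093)) (tt N10514 D10611) (tt N9452 (iv F30419)) (tt N10515 D10612) (tt N10502 (iv F34192)))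
theorem Q9002 : ∀ i, i < 9002 → P i := stepQ 9001 Q9001 (allL N9001 (tt N9681 (iv F31295)) (tt N7787 F29022) (tt N9001 F29023) (tt N10515 (iv F34236)) (tt N7410 F29024) (tt N9695 (iv F31355)) (tt N7406 (iv D9094)) (tt N7407 F29025))
theorem Q9003 : ∀ i, i < 9003 → P i := stepQ 9002 Q9002 (allL N9002 (tt N10490 (iv F34142)) (tt N9461 (iv F30449)) (tt N10516 D10613) (tt N7408 (iv D9095)) (tt N10517 D10614) (tt N7409 F29026) (tt N10518 D10615) (tt N7414 F29027))
theorem Q9004 : ∀ i, i < 9004 → P i := stepQ 9003 Q9003 (allL N9003 (tt N10491 (iv F34146)) (tt N9462 (iv F30453)) (tt N9003 F29028) (tt N10518 (iv F34244)) (tt N9460 (iv F30445)) (tt N9948 (iv F32225)) (tt N7408 (iv D9096)) (tt N9947 F32222))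
theorem Q9005 : ∀ i, i < 9005 → P i := stepQ 9004 Q9004 (allL N9004 (tt N7508 F29029) (tt N10519 D10616) (tt N7409 (iv D9097)) (tt N9004 F29030) (tt N10520 D10617) (tt N10516 (iv F34240)) (tt N10521 D10618) (tt N7416 F29031))
theorem Q9006 : ∀ i, i < 9006 → P i := stepQ 9005 Q9005 (allL N9005 (tt N10492 (iv F34148)) (tt N7793 F29032) (tt N10520 (iv F34250)) (tt N10514 (iv F34233)) (tt N7409 (iv D9098)) (tt N10517 (iv F34242)) (tt N10522 D10619) (tt N7417 F29033))
theorem Q9007 : ∀ i, i < 9007 → P i := stepQ 9006 Q9006 (allL N9006 (tt N10119 (iv F32907)) (tt N7794 F29034) (tt N10521 (iv F34253)) (tt N7410 F29035) (tt N10522 (iv F34256)) (tt N10523 D10620) (tt N7409 (iv D9099)) (tt N10036 (iv F32615)))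
theorem Q9008 : ∀ i, i < 9008 → P i := stepQ 9007 Q9007 (allL N9007 (tt N9683 (iv F31307)) (tt N10524 D10621) (tt N9007 F29036) (tt N10523 (iv F34257)) (tt N9695 (iv F31354)) (tt N7410 (iv D9100)) (tt N9948 (iv F32226)) (tt N7411 F29037))
theorem Q9009 : ∀ i, i < 9009 → P i := stepQ 9008 Q9008 (allL N9008 (tt N7789 F29038) (tt N7411 (iv D9101)) (tt N9092 (iv F29316)) (tt N7747 F29039) (tt N8721 F29040) (tt N7796 F29041) (tt N7746 F29042) (tt N10524 (iv F34262)))
theorem Q9010 : ∀ i, i < 9010 → P i := stepQ 9009 Q9009 (allL N9009 (tt N7413 F29043) (tt N10493 (iv F34152)) (tt N9009 F29044) (tt N10422 (iv F33913)) (tt N10508 (iv F34209)) (tt N7797 F29045) (tt N10525 D10622) (tt N7412 (iv D9102)))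
theorem Q9011 : ∀ i, i < 9011 → P i := stepQ 9010 Q9010 (allL N9010 (tt N10422 (iv F33912)) (tt N7414 F29046) (tt N10526 D10623) (tt N7413 (iv D9103)) (tt N10527 D10624) (tt N7798 F29047) (tt N10528 D10625) (tt N9461 (iv F30451)))
theorem Q9012 : ∀ i, i < 9012 → P i := stepQ 9011 Q9011 (allL N9011 (tt N10525 (iv F34263)) (tt N7415 F29048) (tt N9011 F29049) (tt N10528 (iv F34273)) (tt N10510 (iv F34220)) (tt N10529 D10626) (tt N7413 (iv D9104)) (tt N10033 (iv F32600)))
theorem Q9013 : ∀ i, i < 9013 → P i := stepQ 9012 Q9012 (allL N9012 (tt N7485 F29050) (tt N10530 D10627) (tt N7414 (iv D9105)) (tt N7418 F29051) (tt N10531 D10628) (tt N7416 F29052) (tt N10532 D10629) (tt N10516 (iv F34241)))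
theorem Q9014 : ∀ i, i < 9014 → P i := stepQ 9013 Q9013 (allL N9013 (tt N10497 (iv F34169)) (tt N10527 (iv F34270)) (tt N10531 (iv F34281)) (tt N10511 (iv F34224)) (tt N7414 (iv D9106)) (tt N7417 F29053) (tt N10533 D10630) (tt N10517 (iv F34243)))
theorem Q9015 : ∀ i, i < 9015 → P i := stepQ 9014 Q9014 (allL N9014 (tt N10498 (iv F34172)) (tt N10528 (iv F34272)) (tt N10532 (iv F34285)) (tt N7415 F29054) (tt N10533 (iv F34288)) (tt N10358 (iv F33662)) (tt N7414 (iv D9107)) (tt N10534 D10631))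
theorem Q9016 : ∀ i, i < 9016 → P i := stepQ 9015 Q9015 (allL N9015 (tt N7645 F29055) (tt N7416 (iv D9108)) (tt N7803 F29056) (tt N7421 F29057) (tt N10535 D10632) (tt N9432 (iv F30365)) (tt N9264 (iv F29861)) (tt N10519 (iv F34248)))
theorem Q9017 : ∀ i, i < 9017 → P i := stepQ 9016 Q9016 (allL N9016 (tt N7507 F29058) (tt N10535 (iv F34291)) (tt N7417 F29059) (tt N10536 D10633) (tt N7416 (iv D9109)) (tt N10531 (iv F34282)) (tt N10297 (iv F33492)) (tt N10520 (iv F34251)))
theorem Q9018 : ∀ i, i < 9018 → P i := stepQ 9017 Q9017 (allL N9017 (tt N10537 D10634) (tt N7418 (iv D9110)) (tt N9017 F29060) (tt N10530 (iv F34278)) (tt N10538 D10635) (tt N9569 (iv F30859)) (tt N7551 F29571) (tt N9017 F29061))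
theorem Q9019 : ∀ i, i < 9019 → P i := stepQ 9018 Q9018 (allL N9018 (tt N7466 F29062) (tt N10538 (iv F34300)) (tt N7419 F29063) (tt N9317 (iv F30008)) (tt N7418 (iv D9111)) (tt N7422 F29064) (tt N10539 D10636) (tt N9018 F29065))
theorem Q9020 : ∀ i, i < 9020 → P i := stepQ 9019 Q9019 (allL N9019 (tt N7478 F29066) (tt N7551 F29569) (tt N7420 F29067) (tt N10532 (iv F34286)) (tt N10539 (iv F34307)) (tt N10254 (iv F33375)) (tt N7418 (iv D9112)) (tt N7550 F29570))
theorem Q9021 : ∀ i, i < 9021 → P i := stepQ 9020 Q9020 (allL N9020 (tt N7460 F29068) (tt N9020 F29069) (tt N10539 (iv F34306)) (tt N9310 (iv F29990)) (tt N7420 F29070) (tt N10232 (iv F33297)) (tt N7419 (iv D9113)) (tt N10540 D10637))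
theorem Q9022 : ∀ i, i < 9022 → P i := stepQ 9021 Q9021 (allL N9021 (tt N7473 F29071) (tt N9021 F29072) (tt N7550 F29568) (tt N9471 (iv F30495)) (tt N10540 (iv F34313)) (tt N10247 (iv F33345)) (tt N9021 F29073) (tt N7420 (iv D9114)))
theorem Q9023 : ∀ i, i < 9023 → P i := stepQ 9022 Q9022 (allL N9022 (tt N7630 F29074) (tt N7422 F29075) (tt N7423 F29076) (tt N10541 D10638) (tt N7421 (iv D9115)) (tt N9570 (iv F30864)) (tt N7749 F29077) (tt N9022 F29078))
theorem Q9024 : ∀ i, i < 9024 → P i := stepQ 9023 Q9023 (allL N9023 (tt N7500 F29079) (tt N10541 (iv F34316)) (tt N8931 F29080) (tt N7422 (iv D9116)) (tt N10536 (iv F34295)) (tt N9317 (iv F30009)) (tt N10289 (iv F33467)) (tt N9321 (iv F30022)))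
theorem Q9025 : ∀ i, i < 9025 → P i := stepQ 9024 Q9024 (allL N9024 (tt N9024 F29081) (tt N10542 D10639) (tt N7458 F29082) (tt N7571 F29083) (tt N7442 F29084) (tt N7429 (iv D9117)) (tt N9024 F29085) (tt N7430 F29086))
theorem Q9026 : ∀ i, i < 9026 → P i := stepQ 9025 Q9025 (allL N9025 (tt N9957 (iv F32243)) (tt N7430 (iv D9118)) (tt N10543 D10640) (tt N9088 (iv F29302)) (tt N7445 F29087) (tt N9643 (iv F31168)) (tt N7432 F29088) (tt N10542 (iv F34322)))
theorem Q9027 : ∀ i, i < 9027 → P i := stepQ 9026 Q9026 (allL N9026 (tt N9956 (iv F32239)) (tt N7466 F29089) (tt N7432 (iv D9119)) (tt N10544 D10641) (tt N7454 F29090) (tt N7582 F29091) (tt N10543 (iv F34326)) (tt N9026 F29092))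
theorem Q9028 : ∀ i, i < 9028 → P i := stepQ 9027 Q9027 (allL N9027 (tt N7435 F29093) (tt N9027 F29094) (tt N10545 D10642) (tt N7433 (iv D9120)) (tt N8581 F29095) (tt N8688 F29096) (tt N10546 D10643) (tt N9027 F29097))
theorem Q9029 : ∀ i, i < 9029 → P i := stepQ 9028 Q9028 (allL N9028 (tt N7436 F29098) (tt N9028 F29099) (tt N9676 (iv F31282)) (tt N10546 (iv F34335)) (tt N8293 F29100) (tt N10547 D10644) (tt N7433 (iv D9121)) (tt N7434 F29101))
theorem Q9030 : ∀ i, i < 9030 → P i := stepQ 9029 Q9029 (allL N9029 (tt N7438 F29102) (tt N10548 D10645) (tt N9675 (iv F31276)) (tt N8280 F29103) (tt N8294 F29104) (tt N7434 (iv D9122)) (tt N7583 F29105) (tt N10547 (iv F34341)))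
theorem Q9031 : ∀ i, i < 9031 → P i := stepQ 9030 Q9030 (allL N9030 (tt N10545 (iv F34329)) (tt N9992 (iv F32378)) (tt N7435 (iv D9123)) (tt N10197 (iv F33209)) (tt N10371 (iv F33718)) (tt N9714 (iv F31399)) (tt N9766 F31556) (tt N9030 F29106))
theorem Q9032 : ∀ i, i < 9032 → P i := stepQ 9031 Q9031 (allL N9031 (tt N10546 (iv F34333)) (tt N7441 F29107) (tt N9766 (iv F31555)) (tt N7436 F29108) (tt N10372 (iv F33724)) (tt N10549 D10646) (tt N7435 (iv D9124)) (tt N9762 (iv F31541)))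
theorem Q9033 : ∀ i, i < 9033 → P i := stepQ 9032 Q9032 (allL N9032 (tt N10547 (iv F34338)) (tt N10550 D10647) (tt N10200 (iv F33213)) (tt N10549 (iv F34346)) (tt N9642 (iv F31164)) (tt N7436 (iv D9125)) (tt N9716 (iv F31404)) (tt N7438 F29109))
theorem Q9034 : ∀ i, i < 9034 → P i := stepQ 9033 Q9033 (allL N9033 (tt N8280 F29110) (tt N10551 D10648) (tt N8279 F29111) (tt N7438 F29112) (tt N9046 (iv F29155)) (tt N7437 (iv D9126)) (tt N7584 F29113) (tt N9744 (iv F31485)))
theorem Q9035 : ∀ i, i < 9035 → P i := stepQ 9034 Q9034 (allL N9034 (tt N10552 D10649) (tt N7438 (iv D9127)) (tt N10553 D10650) (tt N10551 (iv F34349)) (tt N9643 (iv F31167)) (tt N7445 F29114) (tt N7586 F29115) (tt N10550 (iv F34348)))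
theorem Q9036 : ∀ i, i < 9036 → P i := stepQ 9035 Q9035 (allL N9035 (tt N10554 D10651) (tt N7439 (iv D9128)) (tt N9992 (iv F32379)) (tt N7467 F29116) (tt N10555 D10652) (tt N10556 D10653) (tt N9987 F32364) (tt N9035 F29117))
theorem Q9037 : ∀ i, i < 9037 → P i := stepQ 9036 Q9036 (allL N9036 (tt N9036 F29118) (tt N10555 (iv F34360)) (tt N7440 F29119) (tt N7858 (iv F29122)) (tt N7439 (iv D9129)) (tt N9036 F29120) (tt N7856 F29123) (tt N9036 F29121))
theorem Q9038 : ∀ i, i < 9038 → P i := stepQ 9037 Q9037 (allL N9037 (tt N9037 F29124) (tt N9987 (iv F32359)) (tt N7441 F29125) (tt N7469 F29126) (tt N7856 F29127) (tt N7855 F29128) (tt N7439 (iv D9130)) (tt N9594 (iv F30990)))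
theorem Q9039 : ∀ i, i < 9039 → P i := stepQ 9038 Q9038 (allL N9038 (tt N9038 F29129) (tt N10372 (iv F33722)) (tt N7856 F29130) (tt N7566 F29131) (tt N7441 F29132) (tt N7854 (iv F29133)) (tt N7440 (iv D9131)) (tt N10557 D10654))
theorem Q9040 : ∀ i, i < 9040 → P i := stepQ 9039 Q9039 (allL N9039 (tt N9039 F29134) (tt N10558 D10655) (tt N7855 F29135) (tt N7442 F29136) (tt N7854 F29137) (tt N7441 (iv D9132)) (tt N9039 F29138) (tt N10559 D10656))
theorem Q9041 : ∀ i, i < 9041 → P i := stepQ 9040 Q9040 (allL N9040 (tt N9040 F29139) (tt N9762 (iv F31538)) (tt N9594 (iv F30987)) (tt N7444 F29140) (tt N10557 (iv F34373)) (tt N10559 (iv F34385)) (tt N9040 F29141) (tt N7441 (iv D9133)))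
theorem Q9042 : ∀ i, i < 9042 → P i := stepQ 9041 Q9041 (allL N9041 (tt N10560 D10657) (tt N7442 (iv D9134)) (tt N10561 D10658) (tt N10558 (iv F34377)) (tt N10542 (iv F34320)) (tt N10550 (iv F34347)) (tt N9041 F29142) (tt N7445 F29143))
theorem Q9043 : ∀ i, i < 9043 → P i := stepQ 9042 Q9042 (allL N9042 (tt N10562 D10659) (tt N7443 (iv D9135)) (tt N10563 D10660) (tt N7445 F29144) (tt N9048 (iv F29163)) (tt N10551 (iv F34351)) (tt N7451 F29145) (tt N10564 D10661))
theorem Q9044 : ∀ i, i < 9044 → P i := stepQ 9043 Q9043 (allL N9043 (tt N9043 F29146) (tt N10564 (iv F34402)) (tt N9051 (iv F29174)) (tt N10559 (iv F34383)) (tt N9049 (iv F29166)) (tt N7444 F29147) (tt N10565 D10662) (tt N7443 (iv D9136)))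
theorem Q9045 : ∀ i, i < 9045 → P i := stepQ 9044 Q9044 (allL N9044 (tt N7445 (iv D9137)) (tt N9044 F29148) (tt N10566 D10663) (tt N10562 (iv F34399)) (tt N9957 (iv F32246)) (tt N10552 (iv F34353)) (tt N7453 F29149) (tt N10560 (iv F34391)))
theorem Q9046 : ∀ i, i < 9046 → P i := stepQ 9045 Q9045 (allL N9045 (tt N10566 (iv F34408)) (tt N7478 F29150) (tt N7445 (iv D9138)) (tt N10567 D10664) (tt N10543 (iv F34325)) (tt N10553 (iv F34355)) (tt N7454 F29151) (tt N10561 (iv F34397)))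
theorem Q9047 : ∀ i, i < 9047 → P i := stepQ 9046 Q9046 (allL N9046 (tt N8263 F29152) (tt N9779 (iv F31599)) (tt N7590 F29153) (tt N7482 F29154) (tt N9033 F29155) (tt N7446 (iv D9139)) (tt N8261 F29156) (tt N10568 D10665))
theorem Q9048 : ∀ i, i < 9048 → P i := stepQ 9047 Q9047 (allL N9047 (tt N8289 F29157) (tt N7448 F29158) (tt N7591 F29159) (tt N10479 (iv F34101)) (tt N8169 F29160) (tt N10568 (iv F34417)) (tt N9047 F29161) (tt N7446 (iv D9140)))
theorem Q9049 : ∀ i, i < 9049 → P i := stepQ 9048 Q9048 (allL N9048 (tt N10569 D10666) (tt N7447 (iv D9141)) (tt N10570 D10667) (tt N7484 F29162) (tt N9042 F29163) (tt N9779 (iv F31601)) (tt N9050 (iv F29170)) (tt N10571 D10668))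
theorem Q9050 : ∀ i, i < 9050 → P i := stepQ 9049 Q9049 (allL N9049 (tt N9049 F29164) (tt N10571 (iv F34424)) (tt N7452 F29165) (tt N10499 (iv F34178)) (tt N9043 F29166) (tt N7448 F29167) (tt N10572 D10669) (tt N7447 (iv D9142)))
theorem Q9051 : ∀ i, i < 9051 → P i := stepQ 9050 Q9050 (allL N9050 (tt N9946 (iv F32212)) (tt N7449 (iv D9143)) (tt N10573 D10670) (tt N9080 (iv F29271)) (tt N7451 F29168) (tt N7593 F29169) (tt N9048 F29170) (tt N8168 (iv F29171)))
theorem Q9052 : ∀ i, i < 9052 → P i := stepQ 9051 Q9051 (allL N9051 (tt N9051 F29172) (tt N8168 F29173) (tt N9043 F29174) (tt N7994 F29175) (tt N7452 F29176) (tt N7450 F29177) (tt N10010 (iv F32477)) (tt N7449 (iv D9144)))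
theorem Q9053 : ∀ i, i < 9053 → P i := stepQ 9052 Q9052 (allL N9052 (tt N7451 (iv D9145)) (tt N9052 F29178) (tt N10574 D10671) (tt N7453 F29179) (tt N9946 (iv F32214)) (tt N7594 F29180) (tt N10562 (iv F34400)) (tt N10575 D10672))
theorem Q9054 : ∀ i, i < 9054 → P i := stepQ 9053 Q9053 (allL N9053 (tt N10574 (iv F34441)) (tt N10570 (iv F34422)) (tt N7451 (iv D9146)) (tt N10576 D10673) (tt N10573 (iv F34437)) (tt N7595 F29181) (tt N10563 (iv F34401)) (tt N10577 D10674))
theorem Q9055 : ∀ i, i < 9055 → P i := stepQ 9054 Q9054 (allL N9054 (tt N10575 (iv F34446)) (tt N7452 F29182) (tt N10577 (iv F34456)) (tt N9054 F29183) (tt N8168 F29184) (tt N7596 F29185) (tt N10017 (iv F32514)) (tt N7451 (iv D9147)))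
theorem Q9056 : ∀ i, i < 9056 → P i := stepQ 9055 Q9055 (allL N9055 (tt N9055 F29186) (tt N10017 (iv F32510)) (tt N10572 (iv F34430)) (tt N9055 F29187) (tt N10010 F32478) (tt N9055 F29188) (tt N7452 (iv D9148)) (tt N10565 (iv F34407)))
theorem Q9057 : ∀ i, i < 9057 → P i := stepQ 9056 Q9056 (allL N9056 (tt N7454 F29189) (tt N10537 (iv F34296)) (tt N7453 (iv D9149)) (tt N10578 D10675) (tt N9956 (iv F32240)) (tt N7597 F29190) (tt N10566 (iv F34409)) (tt N9056 F29191))
theorem Q9058 : ∀ i, i < 9058 → P i := stepQ 9057 Q9057 (allL N9057 (tt N10578 (iv F34461)) (tt N7485 F29192) (tt N10576 (iv F34453)) (tt N7454 (iv D9150)) (tt N10579 D10676) (tt N7598 F29193) (tt N10567 (iv F34413)) (tt N10580 D10677))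
theorem Q9059 : ∀ i, i < 9059 → P i := stepQ 9058 Q9058 (allL N9058 (tt N9058 F29194) (tt N7967 F29195) (tt N7456 F29196) (tt N7886 F29197) (tt N7455 (iv D9151)) (tt N9058 F29198) (tt N7884 F29199) (tt N9058 F29200))
theorem Q9060 : ∀ i, i < 9060 → P i := stepQ 9059 Q9059 (allL N9059 (tt N9059 F29201) (tt N10229 (iv F33289)) (tt N7884 F29202) (tt N7470 F29203) (tt N7457 F29204) (tt N7882 (iv F29205)) (tt N7456 (iv D9152)) (tt N9527 (iv F30705)))
theorem Q9061 : ∀ i, i < 9061 → P i := stepQ 9060 Q9060 (allL N9060 (tt N9060 F29206) (tt N10581 D10678) (tt N7883 F29207) (tt N7458 F29208) (tt N7882 F29209) (tt N7457 (iv D9153)) (tt N9060 F29210) (tt N9525 (iv F30695)))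
theorem Q9062 : ∀ i, i < 9062 → P i := stepQ 9061 Q9061 (allL N9061 (tt N10540 (iv F34309)) (tt N7458 (iv D9154)) (tt N10582 D10679) (tt N10581 (iv F34469)) (tt N7473 F29211) (tt N10231 (iv F33294)) (tt N9061 F29212) (tt N7460 F29213))
theorem Q9063 : ∀ i, i < 9063 → P i := stepQ 9062 Q9062 (allL N9062 (tt N9310 (iv F29987)) (tt N7459 (iv D9155)) (tt N9288 (iv F29931)) (tt N7460 F29214) (tt N9064 (iv F29219)) (tt N10099 (iv F32841)) (tt N7464 F29215) (tt N9281 (iv F29904)))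
theorem Q9064 : ∀ i, i < 9064 → P i := stepQ 9063 Q9063 (allL N9063 (tt N10539 (iv F34304)) (tt N10543 (iv F34324)) (tt N7460 (iv D9156)) (tt N10583 D10680) (tt N7478 F29216) (tt N10233 (iv F33300)) (tt N7466 F29217) (tt N10582 (iv F34478)))
theorem Q9065 : ∀ i, i < 9065 → P i := stepQ 9064 Q9064 (allL N9064 (tt N8998 (iv F29221)) (tt N7461 (iv D9157)) (tt N9286 (iv F29923)) (tt N8969 F29218) (tt N9062 F29219) (tt N10073 (iv F32751)) (tt N8968 F29220) (tt N9284 (iv F29916)))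
theorem Q9066 : ∀ i, i < 9066 → P i := stepQ 9065 Q9065 (allL N9065 (tt N9065 F29222) (tt N9284 (iv F29913)) (tt N7465 F29223) (tt N10584 D10681) (tt N7901 F29224) (tt N7462 F29225) (tt N9279 (iv F29893)) (tt N7461 (iv D9158)))
theorem Q9067 : ∀ i, i < 9067 → P i := stepQ 9066 Q9066 (allL N9066 (tt N9066 F29226) (tt N10075 (iv F32758)) (tt N9066 F29227) (tt N7462 (iv D9159)) (tt N10585 D10682) (tt N10584 (iv F34483)) (tt N9066 F29228) (tt N9082 (iv F29285)))
theorem Q9068 : ∀ i, i < 9068 → P i := stepQ 9067 Q9067 (allL N9067 (tt N9317 (iv F30007)) (tt N10544 (iv F34327)) (tt N9287 (iv F29926)) (tt N7466 (iv D9160)) (tt N10586 D10683) (tt N7500 F29229) (tt N10583 (iv F34479)) (tt N9294 (iv F29956)))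
theorem Q9069 : ∀ i, i < 9069 → P i := stepQ 9068 Q9068 (allL N9068 (tt N7467 (iv D9161)) (tt N9068 F29230) (tt N10239 (iv F33321)) (tt N10554 (iv F34358)) (tt N10587 D10684) (tt N9492 (iv F30568)) (tt N9481 F30536) (tt N7486 F29231))
theorem Q9070 : ∀ i, i < 9070 → P i := stepQ 9069 Q9069 (allL N9069 (tt N10587 (iv F34491)) (tt N7468 F29232) (tt N9436 (iv F30374)) (tt N10588 D10685) (tt N7467 (iv D9162)) (tt N10589 D10686) (tt N10590 D10687) (tt N7487 F29233))
theorem Q9071 : ∀ i, i < 9071 → P i := stepQ 9070 Q9070 (allL N9070 (tt N9492 (iv F30566)) (tt N9070 F29234) (tt N10240 (iv F33324)) (tt N10556 (iv F34367)) (tt N10589 (iv F34505)) (tt N7467 (iv D9163)) (tt N9475 (iv F30511)) (tt N7488 F29235))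
theorem Q9072 : ∀ i, i < 9072 → P i := stepQ 9071 Q9071 (allL N9071 (tt N9481 (iv F30534)) (tt N7469 F29236) (tt N10241 (iv F33328)) (tt N9987 (iv F32361)) (tt N10590 (iv F34511)) (tt N9472 (iv F30500)) (tt N7467 (iv D9164)) (tt N9590 (iv F30967)))
theorem Q9073 : ∀ i, i < 9073 → P i := stepQ 9072 Q9072 (allL N9072 (tt N9072 F29237) (tt N10588 (iv F34496)) (tt N7886 F29238) (tt N7468 (iv D9165)) (tt N7858 F29239) (tt N9072 F29240) (tt N7849 (iv F29241)) (tt N7968 (iv F29242)))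
theorem Q9074 : ∀ i, i < 9074 → P i := stepQ 9073 Q9073 (allL N9073 (tt N9073 F29243) (tt N10590 (iv F34509)) (tt N7470 F29244) (tt N7849 F29245) (tt N7469 F29246) (tt N7848 (iv F29247)) (tt N7468 (iv D9166)) (tt N9592 (iv F30977)))
theorem Q9075 : ∀ i, i < 9075 → P i := stepQ 9074 Q9074 (allL N9074 (tt N9074 F29248) (tt N7850 F29253) (tt N7471 F29249) (tt N7855 F29250) (tt N7848 F29251) (tt N7469 (iv D9167)) (tt N9074 F29252) (tt N9593 (iv F30983)))
theorem Q9076 : ∀ i, i < 9076 → P i := stepQ 9075 Q9075 (allL N9075 (tt N9075 F29254) (tt N9636 (iv F31137)) (tt N7848 F29255) (tt N7882 F29256) (tt N7471 F29257) (tt N7470 (iv D9168)) (tt N9075 F29258) (tt N9866 (iv F31929)))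
theorem Q9077 : ∀ i, i < 9077 → P i := stepQ 9076 Q9076 (allL N9076 (tt N9076 F29259) (tt N8020 F29260) (tt N9592 (iv F30973)) (tt N10591 D10688) (tt N7472 F29261) (tt N9866 (iv F31927)) (tt N7492 F29262) (tt N7470 (iv D9169)))
theorem Q9078 : ∀ i, i < 9078 → P i := stepQ 9077 Q9077 (allL N9077 (tt N9471 (iv F30493)) (tt N7471 (iv D9170)) (tt N9470 F30492) (tt N7473 F29263) (tt N9636 (iv F31139)) (tt N10246 (iv F33343)) (tt N9077 F29264) (tt N9867 (iv F31936)))
theorem Q9079 : ∀ i, i < 9079 → P i := stepQ 9078 Q9078 (allL N9078 (tt N9078 F29265) (tt N9867 (iv F31932)) (tt N9593 (iv F30979)) (tt N7477 F29266) (tt N9866 F31930) (tt N7472 F29267) (tt N8007 (iv F29268)) (tt N7471 (iv D9171)))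
theorem Q9080 : ∀ i, i < 9080 → P i := stepQ 9079 Q9079 (allL N9079 (tt N7550 F29566) (tt N10561 (iv F34394)) (tt N7473 (iv D9172)) (tt N7555 F29567) (tt N10582 (iv F34476)) (tt N10248 (iv F33349)) (tt N9079 F29269) (tt N7478 F29270))
theorem Q9081 : ∀ i, i < 9081 → P i := stepQ 9080 Q9080 (allL N9080 (tt N8374 (iv F29276)) (tt N7474 (iv D9173)) (tt N10496 (iv F34165)) (tt N9050 F29271) (tt N8367 F29272) (tt N8363 F29273) (tt N7484 F29274) (tt N8362 F29275))
theorem Q9082 : ∀ i, i < 9082 → P i := stepQ 9081 Q9081 (allL N9081 (tt N9081 F29277) (tt N9999 (iv F32415)) (tt N8366 F29278) (tt N10592 D10689) (tt N7477 F29279) (tt N7476 F29280) (tt N7860 F29281) (tt N7475 (iv D9174)))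
theorem Q9083 : ∀ i, i < 9083 → P i := stepQ 9082 Q9082 (allL N9082 (tt N9082 F29282) (tt N10252 (iv F33367)) (tt N9082 F29283) (tt N7476 (iv D9175)) (tt N10591 (iv F34517)) (tt N10592 (iv F34522)) (tt N7493 F29284) (tt N9066 F29285))
theorem Q9084 : ∀ i, i < 9084 → P i := stepQ 9083 Q9083 (allL N9083 (tt N10532 (iv F34283)) (tt N10567 (iv F34412)) (tt N10498 (iv F34173)) (tt N7478 (iv D9176)) (tt N10593 D10690) (tt N10255 (iv F33379)) (tt N7485 F29286) (tt N10594 D10691))
theorem Q9085 : ∀ i, i < 9085 → P i := stepQ 9084 Q9084 (allL N9084 (tt N7482 F29287) (tt N10595 D10692) (tt N7502 F29288) (tt N8263 F29289) (tt N9138 (iv F29471)) (tt N7479 (iv D9177)) (tt N8262 F29290) (tt N9126 (iv F29435)))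
theorem Q9086 : ∀ i, i < 9086 → P i := stepQ 9085 Q9085 (allL N9085 (tt N9138 (iv F29468)) (tt N10596 D10693) (tt N7504 F29291) (tt N8059 F29292) (tt N7482 F29293) (tt N7480 (iv D9178)) (tt N8060 F29294) (tt N7714 F29295))
theorem Q9087 : ∀ i, i < 9087 → P i := stepQ 9086 Q9086 (allL N9086 (tt N8262 F29296) (tt N9778 (iv F31594)) (tt N7505 F29297) (tt N8261 F29298) (tt N8060 F29299) (tt N7481 (iv D9179)) (tt N7482 F29300) (tt N9805 (iv F31682)))
theorem Q9088 : ∀ i, i < 9088 → P i := stepQ 9087 Q9087 (allL N9087 (tt N10597 D10694) (tt N7482 (iv D9180)) (tt N10474 (iv F34086)) (tt N9779 (iv F31600)) (tt N10596 (iv F34534)) (tt N7484 F29301) (tt N9778 F31598) (tt N10473 F34084))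
theorem Q9089 : ∀ i, i < 9089 → P i := stepQ 9088 Q9088 (allL N9088 (tt N8383 (iv F29306)) (tt N7483 (iv D9181)) (tt N10485 (iv F34125)) (tt N9025 F29302) (tt N7484 F29303) (tt N10596 (iv F34535)) (tt N8367 F29304) (tt N7894 F29305))
theorem Q9090 : ∀ i, i < 9090 → P i := stepQ 9089 Q9089 (allL N9089 (tt N7484 (iv D9182)) (tt N9089 F29307) (tt N10493 (iv F34153)) (tt N10569 (iv F34419)) (tt N8383 F29308) (tt N10597 (iv F34541)) (tt N8374 F29309) (tt N8877 F29310))
theorem Q9091 : ∀ i, i < 9091 → P i := stepQ 9090 Q9090 (allL N9090 (tt N10531 (iv F34280)) (tt N10579 (iv F34463)) (tt N10497 (iv F34170)) (tt N10586 (iv F34489)) (tt N7485 (iv D9183)) (tt N7507 F29311) (tt N10593 (iv F34525)) (tt N10598 D10695))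
theorem Q9092 : ∀ i, i < 9092 → P i := stepQ 9091 Q9091 (allL N9091 (tt N10516 (iv F34238)) (tt N10580 (iv F34465)) (tt N10490 F34145) (tt N9091 F29312) (tt N10598 (iv F34544)) (tt N7508 F29313) (tt N10599 D10696) (tt N7485 (iv D9184)))
theorem Q9093 : ∀ i, i < 9093 → P i := stepQ 9092 Q9092 (allL N9092 (tt N7487 F29314) (tt N9092 F29315) (tt N9008 F29316) (tt N9538 (iv F30740)) (tt N7486 (iv D9185)) (tt N9446 (iv F30403)) (tt N9386 (iv F30220)) (tt N10587 (iv F34495)))
theorem Q9094 : ∀ i, i < 9094 → P i := stepQ 9093 Q9093 (allL N9093 (tt N7488 F29317) (tt N9502 (iv F30604)) (tt N9437 F30380) (tt N9093 F29318) (tt N9446 (iv F30402)) (tt N7486 (iv D9186)) (tt N9093 F29319) (tt N9492 F30569))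
theorem Q9095 : ∀ i, i < 9095 → P i := stepQ 9094 Q9094 (allL N9094 (tt N7489 F29320) (tt N9094 F29321) (tt N8011 F29322) (tt N9094 F29323) (tt N9386 (iv F30218)) (tt N9094 F29324) (tt N7486 (iv D9187)) (tt N8297 (iv F29325)))
theorem Q9096 : ∀ i, i < 9096 → P i := stepQ 9095 Q9095 (allL N9095 (tt N9446 (iv F30400)) (tt N9095 F29326) (tt N9435 (iv F30369)) (tt N9572 (iv F30875)) (tt N7488 F29327) (tt N7487 (iv D9188)) (tt N9095 F29328) (tt N10589 (iv F34506)))
theorem Q9097 : ∀ i, i < 9097 → P i := stepQ 9096 Q9096 (allL N9096 (tt N9096 F29329) (tt N9573 (iv F30880)) (tt N9096 F29330) (tt N7968 F29331) (tt N9096 F29332) (tt N9096 F29333) (tt N9096 F29334) (tt N7490 (iv D9189)))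
theorem Q9098 : ∀ i, i < 9098 → P i := stepQ 9097 Q9097 (allL N9097 (tt N9097 F29335) (tt N8019 F29336) (tt N9097 F29337) (tt N7492 (iv D9190)) (tt N7493 F29338) (tt N8005 F29339) (tt N10591 (iv F34518)) (tt N9097 F29340))
theorem Q9099 : ∀ i, i < 9099 → P i := stepQ 9098 Q9098 (allL N9098 (tt N10169 (iv F33107)) (tt N7495 (iv D9191)) (tt N10600 D10697) (tt N7625 F29341) (tt N8556 F29342) (tt N7497 F29343) (tt N9626 (iv F31100)) (tt N8592 (iv F29344)))
theorem Q9100 : ∀ i, i < 9100 → P i := stepQ 9099 Q9099 (allL N9099 (tt N8559 F29345) (tt N8592 F29346) (tt N10074 (iv F32754)) (tt N10151 (iv F33033)) (tt N7906 F29347) (tt N7496 F29348) (tt N10601 D10698) (tt N7495 (iv D9192)))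
theorem Q9101 : ∀ i, i < 9101 → P i := stepQ 9100 Q9100 (allL N9100 (tt N8940 F29349) (tt N7498 F29350) (tt N7497 (iv D9193)) (tt N10602 D10699) (tt N8557 F29351) (tt N10600 (iv F34549)) (tt N7520 F29352) (tt N7521 F29353))
theorem Q9102 : ∀ i, i < 9102 → P i := stepQ 9101 Q9101 (allL N9101 (tt N8931 F29354) (tt N10602 (iv F34557)) (tt N7500 F29355) (tt N7498 (iv D9194)) (tt N10603 D10700) (tt N9287 (iv F29927)) (tt N10288 (iv F33463)) (tt N7695 F29356))
theorem Q9103 : ∀ i, i < 9103 → P i := stepQ 9102 Q9102 (allL N9102 (tt N10536 (iv F34293)) (tt N7632 F29357) (tt N10603 (iv F34562)) (tt N7507 F29358) (tt N7500 (iv D9195)) (tt N10586 (iv F34490)) (tt N10290 (iv F33471)) (tt N10604 D10701))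
theorem Q9104 : ∀ i, i < 9104 → P i := stepQ 9103 Q9103 (allL N9103 (tt N9321 (iv F30018)) (tt N7633 F29359) (tt N7695 F29360) (tt N9103 F29361) (tt N10604 (iv F34567)) (tt N9294 (iv F29954)) (tt N7693 F29362) (tt N7500 (iv D9196)))
theorem Q9105 : ∀ i, i < 9105 → P i := stepQ 9104 Q9104 (allL N9104 (tt N7505 F29363) (tt N8593 F29364) (tt N8262 F29365) (tt N7634 F29366) (tt N9112 (iv F29391)) (tt N7501 (iv D9197)) (tt N7502 F29367) (tt N10605 D10702))
theorem Q9106 : ∀ i, i < 9106 → P i := stepQ 9105 Q9105 (allL N9105 (tt N7506 F29368) (tt N8050 F29369) (tt N8045 F29370) (tt N10606 D10703) (tt N9113 (iv F29396)) (tt N10605 (iv F34572)) (tt N7510 F29371) (tt N7501 (iv D9198)))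
theorem Q9107 : ∀ i, i < 9107 → P i := stepQ 9106 Q9106 (allL N9106 (tt N9112 (iv F29387)) (tt N10471 (iv F34070)) (tt N8060 F29372) (tt N8764 F29373) (tt N7505 F29374) (tt N7503 (iv D9199)) (tt N7504 F29375) (tt N10607 D10704))
theorem Q9108 : ∀ i, i < 9108 → P i := stepQ 9107 Q9107 (allL N9107 (tt N9113 (iv F29393)) (tt N8751 F29376) (tt N8061 F29377) (tt N10608 D10705) (tt N7506 F29378) (tt N10607 (iv F34580)) (tt N7511 F29379) (tt N7503 (iv D9200)))
theorem Q9109 : ∀ i, i < 9109 → P i := stepQ 9108 Q9108 (allL N9108 (tt N10605 (iv F34569)) (tt N10454 (iv F34023)) (tt N9805 F31683) (tt N10609 D10706) (tt N10607 (iv F34579)) (tt N7506 F29380) (tt N10452 (iv F34019)) (tt N7505 (iv D9201)))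
theorem Q9110 : ∀ i, i < 9110 → P i := stepQ 9109 Q9109 (allL N9109 (tt N10606 (iv F34574)) (tt N10293 (iv F33478)) (tt N9809 (iv F31696)) (tt N7506 (iv D9202)) (tt N10610 D10707) (tt N10609 (iv F34586)) (tt N7513 F29381) (tt N7638 F29382))
theorem Q9111 : ∀ i, i < 9111 → P i := stepQ 9110 Q9110 (allL N9110 (tt N10520 (iv F34249)) (tt N7649 F29383) (tt N10492 (iv F34149)) (tt N10611 D10708) (tt N7508 F29384) (tt N10598 (iv F34545)) (tt N10612 D10709) (tt N7507 (iv D9203)))
theorem Q9112 : ∀ i, i < 9112 → P i := stepQ 9111 Q9111 (allL N9111 (tt N10521 (iv F34252)) (tt N7650 F29385) (tt N10119 F32911) (tt N9111 F29386) (tt N10612 (iv F34593)) (tt N10613 D10710) (tt N7508 (iv D9204)) (tt N10189 (iv F33189)))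
theorem Q9113 : ∀ i, i < 9113 → P i := stepQ 9112 Q9112 (allL N9112 (tt N9106 F29387) (tt N8769 F29388) (tt N8290 F29389) (tt N7515 F29390) (tt N9104 F29391) (tt N7509 (iv D9205)) (tt N7533 F29392) (tt N10614 D10711))
theorem Q9114 : ∀ i, i < 9114 → P i := stepQ 9113 Q9113 (allL N9113 (tt N9107 F29393) (tt N7510 F29394) (tt N8049 F29395) (tt N10615 D10712) (tt N9105 F29396) (tt N10614 (iv F34599)) (tt N8050 F29397) (tt N7509 (iv D9206)))
theorem Q9115 : ∀ i, i < 9115 → P i := stepQ 9114 Q9114 (allL N9114 (tt N7513 F29398) (tt N10615 (iv F34602)) (tt N10616 D10713) (tt N7510 (iv D9207)) (tt N10617 D10714) (tt N9127 (iv F29437)) (tt N10606 (iv F34576)) (tt N7517 F29399))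
theorem Q9116 : ∀ i, i < 9116 → P i := stepQ 9115 Q9115 (allL N9115 (tt N9633 (iv F31125)) (tt N10306 (iv F33520)) (tt N8162 F29400) (tt N7511 (iv D9208)) (tt N10618 D10715) (tt N8646 F29401) (tt N10608 (iv F34584)) (tt N8558 F29402))
theorem Q9117 : ∀ i, i < 9117 → P i := stepQ 9116 Q9116 (allL N9116 (tt N9127 (iv F29436)) (tt N10459 (iv F34035)) (tt N10619 D10716) (tt N7512 (iv D9209)) (tt N10620 D10717) (tt N7513 F29403) (tt N10456 (iv F34028)) (tt N7526 F29404))
theorem Q9118 : ∀ i, i < 9118 → P i := stepQ 9117 Q9117 (allL N9117 (tt N10616 (iv F34606)) (tt N9812 (iv F31706)) (tt N7513 (iv D9210)) (tt N9810 (iv F31701)) (tt N10621 D10718) (tt N10619 (iv F34618)) (tt N9809 F31698) (tt N7527 F29405))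
theorem Q9119 : ∀ i, i < 9119 → P i := stepQ 9118 Q9118 (allL N9118 (tt N10617 (iv F34610)) (tt N10312 (iv F33539)) (tt N10621 (iv F34623)) (tt N10618 (iv F34613)) (tt N7513 (iv D9211)) (tt N10620 (iv F34621)) (tt N10610 (iv F34588)) (tt N7528 F29406))
theorem Q9120 : ∀ i, i < 9120 → P i := stepQ 9119 Q9119 (allL N9119 (tt N9640 (iv F31156)) (tt N10622 D10719) (tt N7515 F29407) (tt N8292 F29408) (tt N8773 F29409) (tt N7514 (iv D9212)) (tt N7535 F29410) (tt N10623 D10720))
theorem Q9121 : ∀ i, i < 9121 → P i := stepQ 9120 Q9120 (allL N9120 (tt N8898 F29411) (tt N9120 F29412) (tt N7516 F29413) (tt N9607 (iv F31045)) (tt N8899 F29414) (tt N10623 (iv F34633)) (tt N7671 F29415) (tt N7514 (iv D9213)))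
theorem Q9122 : ∀ i, i < 9122 → P i := stepQ 9121 Q9121 (allL N9121 (tt N10315 (iv F33549)) (tt N8770 F29416) (tt N10623 (iv F34631)) (tt N10624 D10721) (tt N8774 F29417) (tt N7516 F29418) (tt N9253 (iv F29835)) (tt N7515 (iv D9214)))
theorem Q9123 : ∀ i, i < 9123 → P i := stepQ 9122 Q9122 (allL N9122 (tt N10316 (iv F33553)) (tt N7517 F29419) (tt N10625 D10722) (tt N7516 (iv D9215)) (tt N10626 D10723) (tt N10624 (iv F34635)) (tt N7674 F29420) (tt N10615 (iv F34605)))
theorem Q9124 : ∀ i, i < 9124 → P i := stepQ 9123 Q9123 (allL N9123 (tt N7527 F29421) (tt N10627 D10724) (tt N7517 (iv D9216)) (tt N9123 F29422) (tt N10628 D10725) (tt N9129 (iv F29445)) (tt N7678 F29423) (tt N10616 (iv F34609)))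
theorem Q9125 : ∀ i, i < 9125 → P i := stepQ 9124 Q9124 (allL N9124 (tt N7528 F29424) (tt N10626 (iv F34638)) (tt N10628 (iv F34643)) (tt N9133 (iv F29455)) (tt N7517 (iv D9217)) (tt N9130 (iv F29448)) (tt N7679 F29425) (tt N10617 (iv F34611)))
theorem Q9126 : ∀ i, i < 9126 → P i := stepQ 9125 Q9125 (allL N9125 (tt N8960 F29426) (tt N9125 F29427) (tt N7685 F29428) (tt N7519 F29429) (tt N8583 F29430) (tt N10629 D10726) (tt N7518 (iv D9218)) (tt N9869 (iv F31944)))
theorem Q9127 : ∀ i, i < 9127 → P i := stepQ 9126 Q9126 (allL N9126 (tt N8958 F29431) (tt N10601 (iv F34552)) (tt N7522 F29432) (tt N10629 (iv F34647)) (tt N8590 F29433) (tt N7519 (iv D9219)) (tt N8592 F29434) (tt N9084 F29435))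
theorem Q9128 : ∀ i, i < 9128 → P i := stepQ 9127 Q9127 (allL N9127 (tt N9116 F29436) (tt N10288 (iv F33461)) (tt N10432 (iv F33945)) (tt N7520 (iv D9220)) (tt N10630 D10727) (tt N9114 F29437) (tt N10602 (iv F34559)) (tt N7523 F29438))
theorem Q9129 : ∀ i, i < 9129 → P i := stepQ 9128 Q9128 (allL N9128 (tt N8937 F29439) (tt N9285 (iv F29918)) (tt N8592 F29440) (tt N7689 F29441) (tt N8591 F29442) (tt N7521 (iv D9221)) (tt N7522 F29443) (tt N10600 (iv F34550)))
theorem Q9130 : ∀ i, i < 9130 → P i := stepQ 9129 Q9129 (allL N9129 (tt N9132 (iv F29451)) (tt N10434 (iv F33951)) (tt N7523 (iv D9222)) (tt N9129 F29444) (tt N10631 D10728) (tt N9123 F29445) (tt N7691 F29446) (tt N10432 (iv F33947)))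
theorem Q9131 : ∀ i, i < 9131 → P i := stepQ 9130 Q9130 (allL N9130 (tt N9133 (iv F29454)) (tt N10321 (iv F33564)) (tt N10631 (iv F34654)) (tt N7528 F29447) (tt N7523 (iv D9223)) (tt N9124 F29448) (tt N7692 F29449) (tt N10630 (iv F34653)))
theorem Q9132 : ∀ i, i < 9132 → P i := stepQ 9131 Q9131 (allL N9131 (tt N10415 (iv F33895)) (tt N7526 F29450) (tt N10416 (iv F33900)) (tt N7525 (iv D9224)) (tt N10632 D10729) (tt N10322 (iv F33568)) (tt N9293 (iv F29951)) (tt N10459 F34037))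
theorem Q9133 : ∀ i, i < 9133 → P i := stepQ 9132 Q9132 (allL N9132 (tt N9129 F29451) (tt N10633 D10730) (tt N7526 (iv D9225)) (tt N9132 F29452) (tt N10634 D10731) (tt N7527 F29453) (tt N9294 (iv F29955)) (tt N10619 (iv F34619)))
theorem Q9134 : ∀ i, i < 9134 → P i := stepQ 9133 Q9133 (allL N9133 (tt N9130 F29454) (tt N10632 (iv F34657)) (tt N10634 (iv F34661)) (tt N9124 F29455) (tt N7526 (iv D9226)) (tt N7528 F29456) (tt N9295 (iv F29959)) (tt N10620 (iv F34622)))
theorem Q9135 : ∀ i, i < 9135 → P i := stepQ 9134 Q9134 (allL N9134 (tt N10635 D10732) (tt N7527 (iv D9227)) (tt N9412 (iv F30304)) (tt N9134 F29457) (tt N10636 D10733) (tt N10637 D10734) (tt N7696 F29458) (tt N9812 (iv F31708)))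
theorem Q9136 : ∀ i, i < 9136 → P i := stepQ 9135 Q9135 (allL N9135 (tt N10628 (iv F34642)) (tt N10636 (iv F34665)) (tt N7528 F29459) (tt N10638 D10735) (tt N7527 (iv D9228)) (tt N10634 (iv F34662)) (tt N7697 F29460) (tt N10621 (iv F34624)))
theorem Q9137 : ∀ i, i < 9137 → P i := stepQ 9136 Q9136 (allL N9136 (tt N9150 (iv F29512)) (tt N10639 D10736) (tt N7531 F29461) (tt N9375 (iv F30174)) (tt N8320 F29462) (tt N7529 (iv D9229)) (tt N9136 F29463) (tt N9424 F30334))
theorem Q9138 : ∀ i, i < 9138 → P i := stepQ 9137 Q9137 (allL N9137 (tt N7531 F29464) (tt N9890 (iv F32029)) (tt N9150 (iv F29513)) (tt N9137 F29465) (tt N8317 F29466) (tt N7530 (iv D9230)) (tt N9137 F29467) (tt N9383 F30206))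
theorem Q9139 : ∀ i, i < 9139 → P i := stepQ 9138 Q9138 (allL N9138 (tt N9085 F29468) (tt N10640 D10737) (tt N7533 F29469) (tt N8294 F29470) (tt N9084 F29471) (tt N7532 (iv D9231)) (tt N8290 F29472) (tt N8590 F29473))
theorem Q9140 : ∀ i, i < 9140 → P i := stepQ 9139 Q9139 (allL N9139 (tt N9639 (iv F31151)) (tt N10641 D10738) (tt N8294 F29474) (tt N7535 F29475) (tt N9675 (iv F31278)) (tt N7534 (iv D9232)) (tt N8292 F29476) (tt N10642 D10739))
theorem Q9141 : ∀ i, i < 9141 → P i := stepQ 9140 Q9140 (allL N9140 (tt N9638 (iv F31146)) (tt N7538 F29477) (tt N8293 F29478) (tt N9261 (iv F29851)) (tt N9676 (iv F31283)) (tt N10642 (iv F34687)) (tt N8291 F29479) (tt N7534 (iv D9233)))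
theorem Q9142 : ∀ i, i < 9142 → P i := stepQ 9141 Q9141 (allL N9141 (tt N10643 D10740) (tt N7535 (iv D9234)) (tt N8202 F29480) (tt N10641 (iv F34683)) (tt N8207 F29481) (tt N7540 F29482) (tt N10622 (iv F34629)) (tt N9222 (iv F29760)))
theorem Q9143 : ∀ i, i < 9143 → P i := stepQ 9142 Q9142 (allL N9142 (tt N7549 F29483) (tt N9676 (iv F31281)) (tt N9142 F29484) (tt N10644 D10741) (tt N7538 F29485) (tt N10096 (iv F32832)) (tt N10038 (iv F32626)) (tt N7536 (iv D9235)))
theorem Q9144 : ∀ i, i < 9144 → P i := stepQ 9143 Q9143 (allL N9143 (tt N10561 (iv F34393)) (tt N7537 (iv D9236)) (tt N10560 F34392) (tt N7540 F29486) (tt N10094 (iv F32823)) (tt N10641 (iv F34684)) (tt N9143 F29487) (tt N10566 (iv F34410)))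
theorem Q9145 : ∀ i, i < 9145 → P i := stepQ 9144 Q9144 (allL N9144 (tt N7551 F29488) (tt N10566 F34411) (tt N9144 F29489) (tt N9226 (iv F29770)) (tt N10096 (iv F32831)) (tt N7538 F29490) (tt N10537 (iv F34298)) (tt N7537 (iv D9237)))
theorem Q9146 : ∀ i, i < 9146 → P i := stepQ 9145 Q9145 (allL N9145 (tt N7553 F29491) (tt N8291 F29492) (tt N9145 F29493) (tt N9263 (iv F29857)) (tt N10038 (iv F32625)) (tt N10645 D10742) (tt N7538 (iv D9238)) (tt N7539 F29494))
theorem Q9147 : ∀ i, i < 9147 → P i := stepQ 9146 Q9146 (allL N9146 (tt N7554 F29495) (tt N8722 F29496) (tt N9146 F29497) (tt N7752 F29498) (tt N10037 (iv F32620)) (tt N7539 (iv D9239)) (tt N9146 F29499) (tt N10645 (iv F34697)))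
theorem Q9148 : ∀ i, i < 9148 → P i := stepQ 9147 Q9147 (allL N9147 (tt N7540 (iv D9240)) (tt N7555 F29500) (tt N8213 F29501) (tt N10561 (iv F34395)) (tt N8214 F29502) (tt N10643 (iv F34691)) (tt N9147 F29503) (tt N9223 (iv F29762)))
theorem Q9149 : ∀ i, i < 9149 → P i := stepQ 9148 Q9148 (allL N9148 (tt N8786 F29504) (tt N10342 (iv F33617)) (tt N8219 F29505) (tt N7542 (iv D9241)) (tt N10646 D10743) (tt N8624 F29506) (tt N10647 D10744) (tt N7546 F29507))
theorem Q9150 : ∀ i, i < 9150 → P i := stepQ 9149 Q9149 (allL N9149 (tt N8787 F29508) (tt N10343 (iv F33621)) (tt N8091 F29509) (tt N10647 (iv F34705)) (tt N8335 F29510) (tt N10648 D10745) (tt N7542 (iv D9242)) (tt N7543 F29511))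
theorem Q9151 : ∀ i, i < 9151 → P i := stepQ 9150 Q9150 (allL N9150 (tt N9136 F29512) (tt N10649 D10746) (tt N9137 F29513) (tt N7770 F29514) (tt N9893 (iv F32044)) (tt N7543 (iv D9243)) (tt N9150 F29515) (tt N10648 (iv F34711)))
theorem Q9152 : ∀ i, i < 9152 → P i := stepQ 9151 Q9151 (allL N9151 (tt N7544 (iv D9244)) (tt N8214 F29516) (tt N8042 F29517) (tt N8544 F29518) (tt N7555 F29519) (tt N10345 (iv F33630)) (tt N9151 F29520) (tt N9817 (iv F31740)))
theorem Q9153 : ∀ i, i < 9153 → P i := stepQ 9152 Q9152 (allL N9152 (tt N9817 (iv F31737)) (tt N7545 F29521) (tt N8245 F29522) (tt N10650 D10747) (tt N7557 F29523) (tt N10346 (iv F33634)) (tt N9468 (iv F30480)) (tt N7544 (iv D9245)))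
theorem Q9154 : ∀ i, i < 9154 → P i := stepQ 9153 Q9153 (allL N9153 (tt N8219 F29524) (tt N10650 (iv F34714)) (tt N8786 F29525) (tt N7545 (iv D9246)) (tt N10651 D10748) (tt N7546 F29526) (tt N10652 D10749) (tt N8624 F29527))
theorem Q9155 : ∀ i, i < 9155 → P i := stepQ 9154 Q9154 (allL N9154 (tt N8220 F29528) (tt N9468 (iv F30479)) (tt N7547 F29529) (tt N10652 (iv F34723)) (tt N7559 F29530) (tt N7774 F29531) (tt N7545 (iv D9247)) (tt N9154 F29532))
theorem Q9156 : ∀ i, i < 9156 → P i := stepQ 9155 Q9155 (allL N9155 (tt N8788 F29533) (tt N10349 (iv F33639)) (tt N10097 (iv F32833)) (tt N7560 F29534) (tt N7546 (iv D9248)) (tt N10651 (iv F34719)) (tt N7776 F29535) (tt N10646 (iv F34701)))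
theorem Q9157 : ∀ i, i < 9157 → P i := stepQ 9156 Q9156 (allL N9156 (tt N10582 (iv F34474)) (tt N7548 (iv D9249)) (tt N10540 (iv F34311)) (tt N8622 F29536) (tt N7550 F29537) (tt N10045 (iv F32650)) (tt N9156 F29538) (tt N10539 F34308))
theorem Q9158 : ∀ i, i < 9158 → P i := stepQ 9157 Q9157 (allL N9157 (tt N10096 (iv F32829)) (tt N10539 (iv F34305)) (tt N9157 F29539) (tt N9242 (iv F29808)) (tt N7551 F29540) (tt N7549 F29541) (tt N10538 (iv F34302)) (tt N7548 (iv D9250)))
theorem Q9159 : ∀ i, i < 9159 → P i := stepQ 9158 Q9158 (allL N9158 (tt N10644 (iv F34692)) (tt N10042 (iv F32636)) (tt N9212 (iv F29730)) (tt N7549 (iv D9251)) (tt N10653 D10750) (tt N9242 (iv F29809)) (tt N10040 (iv F32632)) (tt N9208 (iv F29722)))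
theorem Q9160 : ∀ i, i < 9160 → P i := stepQ 9159 Q9159 (allL N9159 (tt N9226 (iv F29768)) (tt N10532 (iv F34284)) (tt N9230 (iv F29780)) (tt N7551 (iv D9255)) (tt N10654 D10751) (tt N7552 F29547) (tt N10530 F34279) (tt N7558 F29548))
theorem Q9161 : ∀ i, i < 9161 → P i := stepQ 9160 Q9160 (allL N9160 (tt N9262 (iv F29852)) (tt N10352 (iv F33650)) (tt N9269 (iv F29871)) (tt N10653 (iv F34726)) (tt N7552 (iv D9257)) (tt N10654 (iv F34727)) (tt N10655 D10752) (tt N7560 F29551))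
theorem Q9162 : ∀ i, i < 9162 → P i := stepQ 9161 Q9161 (allL N9161 (tt N9263 (iv F29855)) (tt N10036 (iv F32613)) (tt N9270 (iv F29874)) (tt N7553 F29552) (tt N10655 (iv F34729)) (tt N10656 D10753) (tt N7552 (iv D9258)) (tt N7794 F29553))
theorem Q9163 : ∀ i, i < 9163 → P i := stepQ 9162 Q9162 (allL N9162 (tt N10645 (iv F34694)) (tt N9571 (iv F30868)) (tt N9162 F29554) (tt N10656 (iv F34731)) (tt N10039 (iv F32629)) (tt N7553 (iv D9259)) (tt N9569 F30861) (tt N7554 F29555))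
theorem Q9164 : ∀ i, i < 9164 → P i := stepQ 9163 Q9163 (allL N9163 (tt N7790 F29560) (tt N7554 (iv D9260)) (tt N7914 F29561) (tt N7796 F29556) (tt N7752 F29557) (tt N7747 F29558) (tt N9163 F29559) (tt N9571 F30872))
theorem Q9165 : ∀ i, i < 9165 → P i := stepQ 9164 Q9164 (allL N9164 (tt N7556 F29562) (tt N8044 F29563) (tt N7555 (iv D9261)) (tt N9470 (iv F30488)) (tt N8042 F29564) (tt N10353 (iv F33654)) (tt N9164 F29565) (tt N9483 (iv F30543)))
theorem Q9166 : ∀ i, i < 9166 → P i := stepQ 9165 Q9165 (allL N9165 (tt N7557 F29572) (tt N9223 F29763) (tt N9483 (iv F30541)) (tt N10594 (iv F34527)) (tt N9817 (iv F31739)) (tt N10354 (iv F33656)) (tt N10657 D10754) (tt N7555 (iv D9262)))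
theorem Q9167 : ∀ i, i < 9167 → P i := stepQ 9166 Q9166 (allL N9166 (tt N10594 (iv F34526)) (tt N7558 F29573) (tt N10534 (iv F34289)) (tt N7557 (iv D9263)) (tt N10658 D10755) (tt N10355 (iv F33658)) (tt N10659 D10756) (tt N10532 F34287))
theorem Q9168 : ∀ i, i < 9168 → P i := stepQ 9167 Q9167 (allL N9167 (tt N10657 (iv F34733)) (tt N7559 F29574) (tt N9469 (iv F30484)) (tt N10659 (iv F34739)) (tt N9468 F30482) (tt N10660 D10757) (tt N7557 (iv D9264)) (tt N9167 F29575))
theorem Q9169 : ∀ i, i < 9169 → P i := stepQ 9168 Q9168 (allL N9168 (tt N9225 (iv F29765)) (tt N10658 (iv F34737)) (tt N9229 (iv F29777)) (tt N10651 (iv F34718)) (tt N7558 (iv D9265)) (tt N7560 F29576) (tt N10661 D10758) (tt N10654 (iv F34728)))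
theorem Q9170 : ∀ i, i < 9170 → P i := stepQ 9169 Q9169 (allL N9169 (tt N9214 (iv F29736)) (tt N10659 (iv F34738)) (tt N9216 (iv F29742)) (tt N7559 F29577) (tt N10661 (iv F34744)) (tt N7802 F29578) (tt N7558 (iv D9266)) (tt N10662 D10759))
theorem Q9171 : ∀ i, i < 9171 → P i := stepQ 9170 Q9170 (allL N9170 (tt N8241 F29579) (tt N10396 (iv F33812)) (tt N7561 (iv D9267)) (tt N9170 F29580) (tt N9813 (iv F31710)) (tt N8273 F29581) (tt N9170 F29582) (tt N8229 F29583))
theorem Q9172 : ∀ i, i < 9172 → P i := stepQ 9171 Q9171 (allL N9171 (tt N9171 F29584) (tt N10014 (iv F32498)) (tt N9171 F29585) (tt N7563 F29586) (tt N7569 F29587) (tt N7562 (iv D9268)) (tt N8980 F29588) (tt N7998 F29589))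
theorem Q9173 : ∀ i, i < 9173 → P i := stepQ 9172 Q9172 (allL N9172 (tt N9172 F29590) (tt N7959 F29591) (tt N9172 F29592) (tt N7893 F29593) (tt N9172 F29594) (tt N9172 F29595) (tt N9172 F29596) (tt N7564 (iv D9269)))
theorem Q9174 : ∀ i, i < 9174 → P i := stepQ 9173 Q9173 (allL N9173 (tt N9173 F29597) (tt N10185 (iv F33167)) (tt N9173 F29598) (tt N7568 F29599) (tt N8980 F29600) (tt N7567 (iv D9270)) (tt N7569 F29601) (tt N10663 D10760))
theorem Q9175 : ∀ i, i < 9175 → P i := stepQ 9174 Q9174 (allL N9174 (tt N9174 F29602) (tt N10376 (iv F33739)) (tt N9174 F29603) (tt N10557 (iv F34372)) (tt N8981 F29604) (tt N10663 (iv F34752)) (tt N9174 F29605) (tt N7567 (iv D9271)))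
theorem Q9176 : ∀ i, i < 9176 → P i := stepQ 9175 Q9175 (allL N9175 (tt N9175 F29606) (tt N10013 (iv F32491)) (tt N9175 F29607) (tt N9175 F29608) (tt N7998 F29609) (tt N7570 F29610) (tt N10008 (iv F32469)) (tt N7569 (iv D9272)))
theorem Q9177 : ∀ i, i < 9177 → P i := stepQ 9176 Q9176 (allL N9176 (tt N8525 (iv F29615)) (tt N7571 (iv D9273)) (tt N7890 F29611) (tt N10542 (iv F34319)) (tt N7889 F29612) (tt N10379 (iv F33747)) (tt N9176 F29613) (tt N7572 F29614))
theorem Q9178 : ∀ i, i < 9178 → P i := stepQ 9177 Q9177 (allL N9177 (tt N8880 F29616) (tt N7576 F29617) (tt N9583 (iv F30928)) (tt N9177 F29618) (tt N8000 F29619) (tt N10013 (iv F32495)) (tt N9581 (iv F30920)) (tt N7575 (iv D9274)))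
theorem Q9179 : ∀ i, i < 9179 → P i := stepQ 9178 Q9178 (allL N9178 (tt N10013 (iv F32490)) (tt N9178 F29620) (tt N9682 (iv F31303)) (tt N9178 F29621) (tt N7865 F29622) (tt N8880 F29623) (tt N7872 (iv F29624)) (tt N7577 (iv D9275)))
theorem Q9180 : ∀ i, i < 9180 → P i := stepQ 9179 Q9179 (allL N9179 (tt N10063 (iv F32710)) (tt N9933 (iv F32171)) (tt N8703 F29625) (tt N7601 F29626) (tt N8702 F29627) (tt N7580 (iv D9276)) (tt N8711 F29628) (tt N9932 F32169))
theorem Q9181 : ∀ i, i < 9181 → P i := stepQ 9180 Q9180 (allL N9180 (tt N9954 (iv F32237)) (tt N7605 F29629) (tt N9939 (iv F32191)) (tt N7582 (iv D9277)) (tt N10664 D10761) (tt N10544 (iv F34328)) (tt N9652 (iv F31204)) (tt N10665 D10762))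
theorem Q9182 : ∀ i, i < 9182 → P i := stepQ 9181 Q9181 (allL N9181 (tt N10666 D10763) (tt N7583 (iv D9278)) (tt N10667 D10764) (tt N8807 F29630) (tt N8295 F29631) (tt N7819 F29632) (tt N10548 (iv F34345)) (tt N9617 (iv F31080)))
theorem Q9183 : ∀ i, i < 9183 → P i := stepQ 9182 Q9182 (allL N9182 (tt N10668 D10765) (tt N7584 (iv D9279)) (tt N10669 D10766) (tt N7586 F29633) (tt N8184 F29634) (tt N7587 F29635) (tt N10551 (iv F34352)) (tt N8180 (iv F29636)))
theorem Q9184 : ∀ i, i < 9184 → P i := stepQ 9183 Q9183 (allL N9183 (tt N7852 F29637) (tt N8180 F29638) (tt N7888 F29639) (tt N9728 (iv F31442)) (tt N8183 F29640) (tt N7585 F29641) (tt N10670 D10767) (tt N7584 (iv D9280)))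
theorem Q9185 : ∀ i, i < 9185 → P i := stepQ 9184 Q9184 (allL N9184 (tt N7586 (iv D9281)) (tt N10666 (iv F34757)) (tt N10671 D10768) (tt N10668 (iv F34769)) (tt N9646 (iv F31181)) (tt N7588 F29642) (tt N10552 (iv F34354)) (tt N9729 (iv F31446)))
theorem Q9186 : ∀ i, i < 9186 → P i := stepQ 9185 Q9185 (allL N9185 (tt N10671 (iv F34782)) (tt N10412 (iv F33889)) (tt N7586 (iv D9282)) (tt N10672 D10769) (tt N9647 (iv F31184)) (tt N7589 F29643) (tt N10553 (iv F34356)) (tt N9730 (iv F31449)))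
theorem Q9187 : ∀ i, i < 9187 → P i := stepQ 9186 Q9186 (allL N9186 (tt N7587 (iv D9283)) (tt N7821 F29644) (tt N10673 D10770) (tt N7588 F29645) (tt N8177 F29646) (tt N10668 (iv F34771)) (tt N7594 F29647) (tt N8174 F29648))
theorem Q9188 : ∀ i, i < 9188 → P i := stepQ 9187 Q9187 (allL N9187 (tt N10673 (iv F34786)) (tt N8161 F29649) (tt N7587 (iv D9284)) (tt N10674 D10771) (tt N8159 F29650) (tt N10669 (iv F34775)) (tt N7595 F29651) (tt N8156 F29652))
theorem Q9189 : ∀ i, i < 9189 → P i := stepQ 9188 Q9188 (allL N9188 (tt N7589 F29653) (tt N10675 D10772) (tt N7588 (iv D9285)) (tt N10676 D10773) (tt N9651 (iv F31200)) (tt N10671 (iv F34784)) (tt N7597 F29654) (tt N9760 (iv F31535)))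
theorem Q9190 : ∀ i, i < 9190 → P i := stepQ 9189 Q9189 (allL N9189 (tt N10676 (iv F34798)) (tt N7609 F29655) (tt N10674 (iv F34792)) (tt N7589 (iv D9286)) (tt N10677 D10774) (tt N10672 (iv F34785)) (tt N7598 F29656) (tt N10678 D10775))
theorem Q9191 : ∀ i, i < 9191 → P i := stepQ 9190 Q9190 (allL N9190 (tt N9829 (iv F31787)) (tt N7590 (iv D9287)) (tt N10679 D10776) (tt N7613 F29657) (tt N8151 F29658) (tt N7592 F29659) (tt N8529 F29660) (tt N8149 (iv F29661)))
theorem Q9192 : ∀ i, i < 9192 → P i := stepQ 9191 Q9191 (allL N9191 (tt N8792 F29662) (tt N8149 F29663) (tt N10568 (iv F34415)) (tt N9793 (iv F31645)) (tt N8150 F29664) (tt N7591 F29665) (tt N10680 D10777) (tt N7590 (iv D9288)))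
theorem Q9193 : ∀ i, i < 9193 → P i := stepQ 9192 Q9192 (allL N9192 (tt N9832 (iv F31802)) (tt N7595 F29666) (tt N7592 (iv D9289)) (tt N10681 D10778) (tt N8148 F29667) (tt N10679 (iv F34804)) (tt N8161 F29668) (tt N8146 F29669))
theorem Q9194 : ∀ i, i < 9194 → P i := stepQ 9193 Q9193 (allL N9193 (tt N8342 F29670) (tt N8148 F29671) (tt N7593 (iv D9290)) (tt N10682 D10779) (tt N7595 F29672) (tt N10573 (iv F34438)) (tt N8159 F29673) (tt N8144 F29674))
theorem Q9195 : ∀ i, i < 9195 → P i := stepQ 9194 Q9194 (allL N9194 (tt N7595 F29675) (tt N8348 F29676) (tt N7594 (iv D9291)) (tt N10683 D10780) (tt N8342 F29677) (tt N10574 (iv F34443)) (tt N10673 (iv F34789)) (tt N8340 (iv F29678)))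
theorem Q9196 : ∀ i, i < 9196 → P i := stepQ 9195 Q9195 (allL N9195 (tt N7596 F29679) (tt N7824 F29680) (tt N8340 F29681) (tt N9195 F29682) (tt N8166 F29683) (tt N10575 (iv F34451)) (tt N7876 F29684) (tt N7594 (iv D9292)))
theorem Q9197 : ∀ i, i < 9197 → P i := stepQ 9196 Q9196 (allL N9196 (tt N10683 (iv F34819)) (tt N10681 (iv F34812)) (tt N7598 F29685) (tt N7595 (iv D9293)) (tt N10684 D10781) (tt N10576 (iv F34454)) (tt N10674 (iv F34793)) (tt N10685 D10782))
theorem Q9198 : ∀ i, i < 9198 → P i := stepQ 9197 Q9197 (allL N9197 (tt N8340 F29686) (tt N8146 F29687) (tt N7596 F29688) (tt N9889 (iv F32025)) (tt N8144 F29689) (tt N10577 (iv F34458)) (tt N8143 F29690) (tt N7595 (iv D9294)))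
theorem Q9199 : ∀ i, i < 9199 → P i := stepQ 9198 Q9198 (allL N9198 (tt N7617 F29691) (tt N7597 (iv D9295)) (tt N7826 F29692) (tt N10686 D10783) (tt N9958 (iv F32249)) (tt N10687 D10784) (tt N10675 (iv F34797)) (tt N9198 F29693))
theorem Q9200 : ∀ i, i < 9200 → P i := stepQ 9199 Q9199 (allL N9199 (tt N7598 F29694) (tt N10686 (iv F34825)) (tt N10683 (iv F34821)) (tt N7597 (iv D9296)) (tt N10688 D10785) (tt N10578 (iv F34462)) (tt N10676 (iv F34799)) (tt N10689 D10786))
theorem Q9201 : ∀ i, i < 9201 → P i := stepQ 9200 Q9200 (allL N9200 (tt N10688 (iv F34830)) (tt N7619 F29695) (tt N10684 (iv F34822)) (tt N10664 (iv F34754)) (tt N7598 (iv D9297)) (tt N10579 (iv F34464)) (tt N10677 (iv F34801)) (tt N10690 D10787))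
theorem Q9202 : ∀ i, i < 9202 → P i := stepQ 9201 Q9201 (allL N9201 (tt N10689 (iv F34831)) (tt N7620 F29696) (tt N10685 (iv F34823)) (tt N9201 F29697) (tt N10690 (iv F34834)) (tt N10580 (iv F34467)) (tt N10691 D10788) (tt N7598 (iv D9298)))
theorem Q9203 : ∀ i, i < 9203 → P i := stepQ 9202 Q9202 (allL N9202 (tt N7601 F29698) (tt N8728 F29699) (tt N7622 F29700) (tt N10063 (iv F32713)) (tt N8794 F29701) (tt N7599 (iv D9299)) (tt N8730 F29702) (tt N9658 (iv F31229)))
theorem Q9204 : ∀ i, i < 9204 → P i := stepQ 9203 Q9203 (allL N9203 (tt N8730 F29703) (tt N10692 D10789) (tt N7623 F29704) (tt N8711 F29705) (tt N9671 (iv F31261)) (tt N7600 (iv D9300)) (tt N7601 F29706) (tt N10693 D10790))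
theorem Q9205 : ∀ i, i < 9205 → P i := stepQ 9204 Q9204 (allL N9204 (tt N8239 F29707) (tt N9749 (iv F31499)) (tt N7624 F29708) (tt N10694 D10791) (tt N9925 (iv F32148)) (tt N10693 (iv F34842)) (tt N7814 F29709) (tt N7600 (iv D9301)))
theorem Q9206 : ∀ i, i < 9206 → P i := stepQ 9205 Q9205 (allL N9205 (tt N10695 D10792) (tt N7601 (iv D9302)) (tt N10696 D10793) (tt N9933 F32173) (tt N9670 (iv F31258)) (tt N7602 F29710) (tt N10692 (iv F34839)) (tt N9665 (iv F31250)))
theorem Q9207 : ∀ i, i < 9207 → P i := stepQ 9206 Q9206 (allL N9206 (tt N7602 (iv D9303)) (tt N7829 F29711) (tt N8676 (iv F29715)) (tt N8334 F29712) (tt N9656 F31221) (tt N10695 (iv F34849)) (tt N8358 F29713) (tt N8092 F29714))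
theorem Q9208 : ∀ i, i < 9208 → P i := stepQ 9207 Q9207 (allL N9207 (tt N8676 F29716) (tt N7603 F29717) (tt N7602 (iv D9304)) (tt N10697 D10794) (tt N8796 F29718) (tt N10696 (iv F34856)) (tt N9910 (iv F32107)) (tt N8500 F29719))
theorem Q9209 : ∀ i, i < 9209 → P i := stepQ 9208 Q9208 (allL N9208 (tt N10333 (iv F33590)) (tt N10697 (iv F34859)) (tt N7605 F29720) (tt N7603 (iv D9305)) (tt N10698 D10795) (tt N7629 F29721) (tt N9911 (iv F32111)) (tt N9158 F29722))
theorem Q9210 : ∀ i, i < 9210 → P i := stepQ 9209 Q9209 (allL N9209 (tt N9958 (iv F32247)) (tt N7604 (iv D9306)) (tt N7830 F29723) (tt N10699 D10796) (tt N7617 F29724) (tt N10700 D10797) (tt N9912 (iv F32114)) (tt N9209 F29725))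
theorem Q9211 : ∀ i, i < 9211 → P i := stepQ 9210 Q9210 (allL N9210 (tt N7605 F29726) (tt N10699 (iv F34865)) (tt N10333 (iv F33592)) (tt N7604 (iv D9307)) (tt N10701 D10798) (tt N7631 F29727) (tt N9913 (iv F32118)) (tt N10702 D10799))
theorem Q9212 : ∀ i, i < 9212 → P i := stepQ 9211 Q9211 (allL N9211 (tt N10701 (iv F34871)) (tt N10664 (iv F34753)) (tt N10698 (iv F34861)) (tt N7619 F29728) (tt N7605 (iv D9308)) (tt N7632 F29729) (tt N9914 (iv F32120)) (tt N10703 D10800))
theorem Q9213 : ∀ i, i < 9213 → P i := stepQ 9212 Q9212 (allL N9212 (tt N10702 (iv F34874)) (tt N10665 (iv F34755)) (tt N9158 F29730) (tt N9212 F29731) (tt N10703 (iv F34879)) (tt N7633 F29732) (tt N10704 D10801) (tt N7605 (iv D9309)))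
theorem Q9214 : ∀ i, i < 9214 → P i := stepQ 9213 Q9213 (allL N9213 (tt N9827 (iv F31776)) (tt N7607 F29733) (tt N7606 (iv D9310)) (tt N10705 D10802) (tt N9810 (iv F31702)) (tt N10069 (iv F32736)) (tt N7615 F29734) (tt N9213 F29735))
theorem Q9215 : ∀ i, i < 9215 → P i := stepQ 9214 Q9214 (allL N9214 (tt N9169 F29736) (tt N10705 (iv F34883)) (tt N7609 F29737) (tt N7607 (iv D9311)) (tt N10706 D10803) (tt N9397 (iv F30256)) (tt N7616 F29738) (tt N10707 D10804))
theorem Q9216 : ∀ i, i < 9216 → P i := stepQ 9215 Q9215 (allL N9215 (tt N10675 (iv F34794)) (tt N7608 (iv D9312)) (tt N7834 F29739) (tt N10708 D10805) (tt N9912 (iv F32113)) (tt N9896 (iv F32060)) (tt N7617 F29740) (tt N9895 F32057))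
theorem Q9217 : ∀ i, i < 9217 → P i := stepQ 9216 Q9216 (allL N9216 (tt N7609 F29741) (tt N10708 (iv F34892)) (tt N9169 F29742) (tt N7608 (iv D9313)) (tt N10709 D10806) (tt N9454 (iv F30426)) (tt N7618 F29743) (tt N10710 D10807))
theorem Q9218 : ∀ i, i < 9218 → P i := stepQ 9217 Q9217 (allL N9217 (tt N10709 (iv F34894)) (tt N10677 (iv F34800)) (tt N10706 (iv F34887)) (tt N9914 (iv F32119)) (tt N7609 (iv D9314)) (tt N10423 (iv F33915)) (tt N7619 F29744) (tt N10711 D10808))
theorem Q9219 : ∀ i, i < 9219 → P i := stepQ 9218 Q9218 (allL N9218 (tt N10710 (iv F34897)) (tt N10678 (iv F34802)) (tt N10707 (iv F34890)) (tt N9984 (iv F32348)) (tt N10711 (iv F34899)) (tt N10424 (iv F33917)) (tt N10712 D10809) (tt N7609 (iv D9315)))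
theorem Q9220 : ∀ i, i < 9220 → P i := stepQ 9219 Q9219 (allL N9219 (tt N8619 F29745) (tt N7611 (iv D9316)) (tt N10713 D10810) (tt N8529 F29746) (tt N9235 (iv F29795)) (tt N8530 F29747) (tt N7613 F29748) (tt N8542 (iv F29749)))
theorem Q9221 : ∀ i, i < 9221 → P i := stepQ 9220 Q9220 (allL N9220 (tt N8607 F29750) (tt N8542 F29751) (tt N7637 F29752) (tt N8541 F29753) (tt N9801 (iv F31667)) (tt N7612 F29754) (tt N9795 (iv F31654)) (tt N7611 (iv D9317)))
theorem Q9222 : ∀ i, i < 9222 → P i := stepQ 9221 Q9221 (allL N9221 (tt N7613 (iv D9318)) (tt N8620 F29755) (tt N10714 D10811) (tt N9829 (iv F31788)) (tt N9233 (iv F29787)) (tt N7614 F29756) (tt N8619 F29757) (tt N9796 (iv F31657)))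
theorem Q9223 : ∀ i, i < 9223 → P i := stepQ 9222 Q9222 (allL N9222 (tt N10714 (iv F34906)) (tt N7640 F29758) (tt N7613 (iv D9319)) (tt N10715 D10812) (tt N9804 (iv F31676)) (tt N7615 F29759) (tt N10713 (iv F34904)) (tt N9141 F29760))
theorem Q9224 : ∀ i, i < 9224 → P i := stepQ 9223 Q9223 (allL N9223 (tt N7615 F29761) (tt N9165 (iv F29763)) (tt N7614 (iv D9320)) (tt N10716 D10813) (tt N9808 (iv F31694)) (tt N10714 (iv F34907)) (tt N9827 (iv F31778)) (tt N9147 F29762))
theorem Q9225 : ∀ i, i < 9225 → P i := stepQ 9224 Q9224 (allL N9224 (tt N10716 (iv F34912)) (tt N7616 F29764) (tt N10681 (iv F34813)) (tt N7615 (iv D9321)) (tt N10717 D10814) (tt N10715 (iv F34911)) (tt N10705 (iv F34885)) (tt N10718 D10815))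
theorem Q9226 : ∀ i, i < 9226 → P i := stepQ 9225 Q9225 (allL N9225 (tt N9168 F29765) (tt N10717 (iv F34915)) (tt N7619 F29766) (tt N9811 (iv F31704)) (tt N7616 (iv D9322)) (tt N7643 F29767) (tt N10706 (iv F34888)) (tt N10719 D10816))
theorem Q9227 : ∀ i, i < 9227 → P i := stepQ 9226 Q9226 (allL N9226 (tt N9159 F29768) (tt N10718 (iv F34917)) (tt N7620 F29769) (tt N9144 F29770) (tt N10719 (iv F34922)) (tt N7644 F29771) (tt N10720 D10817) (tt N7616 (iv D9323)))
theorem Q9228 : ∀ i, i < 9228 → P i := stepQ 9227 Q9227 (allL N9227 (tt N10686 (iv F34824)) (tt N7618 F29772) (tt N10721 D10818) (tt N7617 (iv D9324)) (tt N10722 D10819) (tt N10723 D10820) (tt N10708 (iv F34893)) (tt N10724 D10821))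
theorem Q9229 : ∀ i, i < 9229 → P i := stepQ 9228 Q9228 (allL N9228 (tt N10687 (iv F34826)) (tt N7646 F29773) (tt N7843 F29774) (tt N10723 (iv F34933)) (tt N10700 (iv F34868)) (tt N7617 (iv D9325)) (tt N10725 D10822) (tt N9228 F29775))
theorem Q9230 : ∀ i, i < 9230 → P i := stepQ 9229 Q9229 (allL N9229 (tt N7619 F29776) (tt N10722 (iv F34931)) (tt N9168 F29777) (tt N10701 (iv F34872)) (tt N7618 (iv D9326)) (tt N7647 F29778) (tt N10709 (iv F34896)) (tt N10726 D10823))
theorem Q9231 : ∀ i, i < 9231 → P i := stepQ 9230 Q9230 (allL N9230 (tt N7620 F29779) (tt N10724 (iv F34934)) (tt N9159 F29780) (tt N9230 F29781) (tt N10726 (iv F34946)) (tt N7648 F29782) (tt N10727 D10824) (tt N7618 (iv D9327)))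
theorem Q9232 : ∀ i, i < 9232 → P i := stepQ 9231 Q9231 (allL N9231 (tt N10726 (iv F34944)) (tt N10690 (iv F34833)) (tt N10719 (iv F34921)) (tt N10728 D10825) (tt N7620 F29783) (tt N7649 F29784) (tt N10729 D10826) (tt N7619 (iv D9328)))
theorem Q9233 : ∀ i, i < 9233 → P i := stepQ 9232 Q9232 (allL N9232 (tt N10727 (iv F34948)) (tt N10691 (iv F34835)) (tt N10720 (iv F34926)) (tt N9232 F29785) (tt N10729 (iv F34954)) (tt N10730 D10827) (tt N7620 (iv D9329)) (tt N10712 (iv F34900)))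
theorem Q9234 : ∀ i, i < 9234 → P i := stepQ 9233 Q9233 (allL N9233 (tt N8208 F29786) (tt N7623 (iv D9330)) (tt N10731 D10828) (tt N9626 (iv F31098)) (tt N9221 F29787) (tt N8215 F29788) (tt N7625 F29789) (tt N8206 (iv F29790)))
theorem Q9235 : ∀ i, i < 9235 → P i := stepQ 9234 Q9234 (allL N9234 (tt N8194 F29791) (tt N8206 F29792) (tt N10693 (iv F34841)) (tt N9825 (iv F31769)) (tt N10159 (iv F33069)) (tt N7624 F29793) (tt N10153 (iv F33046)) (tt N7623 (iv D9331)))
theorem Q9236 : ∀ i, i < 9236 → P i := stepQ 9235 Q9235 (allL N9235 (tt N7625 (iv D9332)) (tt N8210 F29794) (tt N10732 D10829) (tt N10169 (iv F33108)) (tt N9219 F29795) (tt N7626 F29796) (tt N8208 F29797) (tt N10090 (iv F32805)))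
theorem Q9237 : ∀ i, i < 9237 → P i := stepQ 9236 Q9236 (allL N9236 (tt N10732 (iv F34962)) (tt N10696 (iv F34854)) (tt N7625 (iv D9333)) (tt N10733 D10830) (tt N10161 (iv F33075)) (tt N7627 F29798) (tt N10731 (iv F34960)) (tt N10155 (iv F33054)))
theorem Q9238 : ∀ i, i < 9238 → P i := stepQ 9237 Q9237 (allL N9237 (tt N7627 F29799) (tt N10734 D10831) (tt N7626 (iv D9334)) (tt N10735 D10832) (tt N10072 (iv F32748)) (tt N10732 (iv F34965)) (tt N10167 (iv F33099)) (tt N10092 (iv F32816)))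
theorem Q9239 : ∀ i, i < 9239 → P i := stepQ 9238 Q9238 (allL N9238 (tt N10735 (iv F34972)) (tt N7629 F29800) (tt N10602 (iv F34558)) (tt N7627 (iv D9335)) (tt N10736 D10833) (tt N10733 (iv F34967)) (tt N10432 (iv F33946)) (tt N10737 D10834))
theorem Q9240 : ∀ i, i < 9240 → P i := stepQ 9239 Q9239 (allL N9239 (tt N10734 (iv F34968)) (tt N7628 (iv D9336)) (tt N7704 F29801) (tt N10738 D10835) (tt N8550 F29802) (tt N10739 D10836) (tt N9426 (iv F30341)) (tt N8547 F29803))
theorem Q9241 : ∀ i, i < 9241 → P i := stepQ 9240 Q9240 (allL N9240 (tt N7629 F29804) (tt N10738 (iv F34982)) (tt N7631 F29805) (tt N7628 (iv D9337)) (tt N10740 D10837) (tt N10333 (iv F33593)) (tt N9428 (iv F30350)) (tt N10741 D10838))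
theorem Q9242 : ∀ i, i < 9242 → P i := stepQ 9241 Q9241 (allL N9241 (tt N10740 (iv F34987)) (tt N10736 (iv F34976)) (tt N7632 F29806) (tt N10164 (iv F33084)) (tt N7629 (iv D9338)) (tt N10698 (iv F34863)) (tt N10433 (iv F33949)) (tt N10742 D10839))
theorem Q9243 : ∀ i, i < 9243 → P i := stepQ 9242 Q9242 (allL N9242 (tt N10741 (iv F34990)) (tt N10737 (iv F34978)) (tt N7633 F29807) (tt N9157 F29808) (tt N10742 (iv F34996)) (tt N9158 F29809) (tt N10743 D10840) (tt N7629 (iv D9339)))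
theorem Q9244 : ∀ i, i < 9244 → P i := stepQ 9243 Q9243 (allL N9243 (tt N10541 (iv F34315)) (tt N7631 F29810) (tt N10744 D10841) (tt N7630 (iv D9340)) (tt N10745 D10842) (tt N10746 D10843) (tt N7791 F29811) (tt N10747 D10844))
theorem Q9245 : ∀ i, i < 9245 → P i := stepQ 9244 Q9244 (allL N9244 (tt N9570 (iv F30862)) (tt N10700 (iv F34866)) (tt N7708 F29812) (tt N10746 (iv F35008)) (tt N7646 F29813) (tt N7630 (iv D9341)) (tt N7795 F29814) (tt N9244 F29815))
theorem Q9246 : ∀ i, i < 9246 → P i := stepQ 9245 Q9245 (allL N9245 (tt N7632 F29816) (tt N10745 (iv F35005)) (tt N10740 (iv F34988)) (tt N7647 F29817) (tt N7631 (iv D9342)) (tt N10701 (iv F34873)) (tt N9458 (iv F30436)) (tt N10748 D10845))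
theorem Q9247 : ∀ i, i < 9247 → P i := stepQ 9246 Q9246 (allL N9246 (tt N7633 F29818) (tt N10747 (iv F35010)) (tt N10741 (iv F34991)) (tt N9246 F29819) (tt N10748 (iv F35014)) (tt N10702 (iv F34877)) (tt N10749 D10846) (tt N7631 (iv D9343)))
theorem Q9248 : ∀ i, i < 9248 → P i := stepQ 9247 Q9247 (allL N9247 (tt N10748 (iv F35013)) (tt N10604 (iv F34565)) (tt N10742 (iv F34994)) (tt N10750 D10847) (tt N7633 F29820) (tt N10703 (iv F34880)) (tt N10751 D10848) (tt N7632 (iv D9344)))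
theorem Q9249 : ∀ i, i < 9249 → P i := stepQ 9248 Q9248 (allL N9248 (tt N10749 (iv F35015)) (tt N7693 F29821) (tt N10743 (iv F34999)) (tt N9248 F29822) (tt N10751 (iv F35022)) (tt N10752 D10849) (tt N7633 (iv D9345)) (tt N10436 (iv F33961)))
theorem Q9250 : ∀ i, i < 9250 → P i := stepQ 9249 Q9249 (allL N9249 (tt N7637 F29823) (tt N10305 (iv F33515)) (tt N8607 F29824) (tt N10753 D10850) (tt N10308 (iv F33531)) (tt N7635 F29825) (tt N10313 (iv F33545)) (tt N7634 (iv D9346)))
theorem Q9251 : ∀ i, i < 9251 → P i := stepQ 9250 Q9250 (allL N9250 (tt N7638 F29826) (tt N8646 F29827) (tt N10754 D10851) (tt N7635 (iv D9347)) (tt N10755 D10852) (tt N10753 (iv F35026)) (tt N7653 F29828) (tt N10606 (iv F34577)))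
theorem Q9252 : ∀ i, i < 9252 → P i := stepQ 9251 Q9251 (allL N9251 (tt N7636 (iv D9348)) (tt N8742 F29829) (tt N10756 D10853) (tt N7730 F29830) (tt N10300 (iv F33499)) (tt N8959 F29831) (tt N7639 F29832) (tt N10757 D10854))
theorem Q9253 : ∀ i, i < 9253 → P i := stepQ 9252 Q9252 (allL N9252 (tt N10756 (iv F35033)) (tt N10713 (iv F34902)) (tt N7636 (iv D9349)) (tt N10758 D10855) (tt N10330 (iv F33584)) (tt N9362 (iv F30135)) (tt N7640 F29833) (tt N10759 D10856))
theorem Q9254 : ∀ i, i < 9254 → P i := stepQ 9253 Q9253 (allL N9253 (tt N10757 (iv F35036)) (tt N7637 F29834) (tt N10759 (iv F35042)) (tt N10760 D10857) (tt N10323 (iv F33570)) (tt N9301 (iv F29972)) (tt N9121 F29835) (tt N7636 (iv D9350)))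
theorem Q9255 : ∀ i, i < 9255 → P i := stepQ 9254 Q9254 (allL N9254 (tt N10753 (iv F35025)) (tt N10760 (iv F35044)) (tt N10761 D10858) (tt N7637 (iv D9351)) (tt N10762 D10859) (tt N7638 F29836) (tt N10320 (iv F33563)) (tt N10609 (iv F34587)))
theorem Q9256 : ∀ i, i < 9256 → P i := stepQ 9255 Q9255 (allL N9255 (tt N10754 (iv F35027)) (tt N8553 F29837) (tt N7638 (iv D9352)) (tt N8550 F29838) (tt N10763 D10860) (tt N10761 (iv F35047)) (tt N7654 F29839) (tt N9809 (iv F31697)))
theorem Q9257 : ∀ i, i < 9257 → P i := stepQ 9256 Q9256 (allL N9256 (tt N10755 (iv F35030)) (tt N10440 (iv F33974)) (tt N10763 (iv F35050)) (tt N10464 (iv F34045)) (tt N7638 (iv D9353)) (tt N10762 (iv F35048)) (tt N7655 F29840) (tt N10610 (iv F34589)))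
theorem Q9258 : ∀ i, i < 9258 → P i := stepQ 9257 Q9257 (allL N9257 (tt N7640 F29841) (tt N10764 D10861) (tt N7639 (iv D9354)) (tt N10765 D10862) (tt N10303 (iv F33507)) (tt N7641 F29842) (tt N10756 (iv F35035)) (tt N8789 F29843))
theorem Q9259 : ∀ i, i < 9259 → P i := stepQ 9258 Q9258 (allL N9258 (tt N10765 (iv F35055)) (tt N10715 (iv F34910)) (tt N10475 (iv F34089)) (tt N7640 (iv D9355)) (tt N10766 D10863) (tt N7642 F29844) (tt N10758 (iv F35040)) (tt N10767 D10864))
theorem Q9260 : ∀ i, i < 9260 → P i := stepQ 9259 Q9259 (allL N9259 (tt N7642 F29845) (tt N8746 F29846) (tt N7728 F29847) (tt N7641 (iv D9356)) (tt N10768 D10865) (tt N10765 (iv F35057)) (tt N8957 F29848) (tt N10769 D10866))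
theorem Q9261 : ∀ i, i < 9261 → P i := stepQ 9260 Q9260 (allL N9260 (tt N10768 (iv F35061)) (tt N7643 F29849) (tt N10477 (iv F34095)) (tt N10332 (iv F33589)) (tt N7642 (iv D9357)) (tt N10766 (iv F35058)) (tt N9363 (iv F30137)) (tt N10770 D10867))
theorem Q9262 : ∀ i, i < 9262 → P i := stepQ 9261 Q9261 (allL N9261 (tt N10769 (iv F35065)) (tt N7644 F29850) (tt N10121 (iv F32915)) (tt N9140 F29851) (tt N10770 (iv F35071)) (tt N10767 (iv F35060)) (tt N9870 (iv F31950)) (tt N7642 (iv D9358)))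
theorem Q9263 : ∀ i, i < 9263 → P i := stepQ 9262 Q9262 (allL N9262 (tt N9160 F29852) (tt N10770 (iv F35070)) (tt N7649 F29853) (tt N10771 D10868) (tt N7644 F29854) (tt N10719 (iv F34923)) (tt N10772 D10869) (tt N7643 (iv D9359)))
theorem Q9264 : ∀ i, i < 9264 → P i := stepQ 9263 Q9263 (allL N9263 (tt N9161 F29855) (tt N9870 (iv F31947)) (tt N7650 F29856) (tt N9145 F29857) (tt N10772 (iv F35076)) (tt N10773 D10870) (tt N7644 (iv D9360)) (tt N9389 (iv F30232)))
theorem Q9265 : ∀ i, i < 9265 → P i := stepQ 9264 Q9264 (allL N9264 (tt N7803 F29858) (tt N8747 F29859) (tt N7645 (iv D9361)) (tt N7712 F29860) (tt N10774 D10871) (tt N9384 (iv F30209)) (tt N9015 F29861) (tt N10775 D10872))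
theorem Q9266 : ∀ i, i < 9266 → P i := stepQ 9265 Q9265 (allL N9265 (tt N10535 (iv F34290)) (tt N7647 F29862) (tt N10774 (iv F35082)) (tt N10745 (iv F35006)) (tt N7645 (iv D9362)) (tt N10776 D10873) (tt N9457 (iv F30432)) (tt N10777 D10874))
theorem Q9267 : ∀ i, i < 9267 → P i := stepQ 9266 Q9266 (allL N9266 (tt N9432 (iv F30363)) (tt N10723 (iv F34932)) (tt N9384 (iv F30208)) (tt N7646 F29863) (tt N10776 (iv F35088)) (tt N7645 (iv D9363)) (tt N10778 D10875) (tt N10779 D10876))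
theorem Q9268 : ∀ i, i < 9268 → P i := stepQ 9267 Q9267 (allL N9267 (tt N10519 (iv F34245)) (tt N7648 F29864) (tt N10775 (iv F35086)) (tt N9267 F29865) (tt N10777 (iv F35090)) (tt N10779 (iv F35094)) (tt N10780 D10877) (tt N7645 (iv D9364)))
theorem Q9269 : ∀ i, i < 9269 → P i := stepQ 9268 Q9268 (allL N9268 (tt N9571 (iv F30867)) (tt N10725 (iv F34939)) (tt N7713 F29866) (tt N10778 (iv F35091)) (tt N7795 F29867) (tt N7787 F29868) (tt N7646 (iv D9365)) (tt N7790 (iv F29869)))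
theorem Q9270 : ∀ i, i < 9270 → P i := stepQ 9269 Q9269 (allL N9269 (tt N7649 F29870) (tt N10777 (iv F35089)) (tt N9160 F29871) (tt N10781 D10878) (tt N7648 F29872) (tt N10726 (iv F34947)) (tt N10782 D10879) (tt N7647 (iv D9366)))
theorem Q9271 : ∀ i, i < 9271 → P i := stepQ 9270 Q9270 (allL N9270 (tt N7650 F29873) (tt N10780 (iv F35095)) (tt N9161 F29874) (tt N9270 F29875) (tt N10782 (iv F35101)) (tt N10783 D10880) (tt N7648 (iv D9367)) (tt N9442 (iv F30396)))
theorem Q9272 : ∀ i, i < 9272 → P i := stepQ 9271 Q9271 (allL N9271 (tt N10781 (iv F35097)) (tt N10611 (iv F34590)) (tt N10784 D10881) (tt N7649 (iv D9368)) (tt N9271 F29876) (tt N10728 (iv F34953)) (tt N10785 D10882) (tt N10750 (iv F35020)))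
theorem Q9273 : ∀ i, i < 9273 → P i := stepQ 9272 Q9272 (allL N9272 (tt N10782 (iv F35099)) (tt N10612 (iv F34592)) (tt N10772 (iv F35075)) (tt N10785 (iv F35106)) (tt N7650 F29877) (tt N10786 D10883) (tt N7649 (iv D9369)) (tt N10442 (iv F33978)))
theorem Q9274 : ∀ i, i < 9274 → P i := stepQ 9273 Q9273 (allL N9273 (tt N10783 (iv F35102)) (tt N10787 D10884) (tt N10773 (iv F35078)) (tt N9273 F29878) (tt N10786 (iv F35108)) (tt N7650 (iv D9370)) (tt N10730 (iv F34956)) (tt N10443 (iv F33981)))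
theorem Q9275 : ∀ i, i < 9275 → P i := stepQ 9274 Q9274 (allL N9274 (tt N10100 (iv F32843)) (tt N10448 (iv F33996)) (tt N8644 F29879) (tt N10788 D10885) (tt N10452 (iv F34017)) (tt N7652 F29880) (tt N10607 (iv F34581)) (tt N7651 (iv D9371)))
theorem Q9276 : ∀ i, i < 9276 → P i := stepQ 9275 Q9275 (allL N9275 (tt N10101 (iv F32846)) (tt N7653 F29881) (tt N10061 (iv F32704)) (tt N7652 (iv D9372)) (tt N10789 D10886) (tt N10788 (iv F35110)) (tt N8646 F29882) (tt N7674 F29883))
theorem Q9277 : ∀ i, i < 9277 → P i := stepQ 9276 Q9276 (allL N9276 (tt N7654 F29884) (tt N10790 D10887) (tt N7653 (iv D9373)) (tt N9425 (iv F30336)) (tt N10791 D10888) (tt N10450 (iv F34008)) (tt N10754 (iv F35029)) (tt N7678 F29885))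
theorem Q9278 : ∀ i, i < 9278 → P i := stepQ 9277 Q9277 (allL N9277 (tt N7655 F29886) (tt N10789 (iv F35112)) (tt N10791 (iv F35121)) (tt N10458 (iv F34032)) (tt N7653 (iv D9374)) (tt N10451 (iv F34013)) (tt N10755 (iv F35032)) (tt N7679 F29887))
theorem Q9279 : ∀ i, i < 9279 → P i := stepQ 9278 Q9278 (allL N9278 (tt N10791 (iv F35120)) (tt N9421 (iv F30323)) (tt N7655 F29888) (tt N10792 D10889) (tt N7654 (iv D9375)) (tt N10462 (iv F34041)) (tt N10763 (iv F35051)) (tt N7697 F29889))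
theorem Q9280 : ∀ i, i < 9280 → P i := stepQ 9279 Q9279 (allL N9279 (tt N9279 F29890) (tt N7661 F29891) (tt N7656 (iv D9376)) (tt N10400 (iv F33838)) (tt N9280 (iv F29898)) (tt N9279 F29892) (tt N9065 F29893) (tt N7902 (iv F29894)))
theorem Q9281 : ∀ i, i < 9281 → P i := stepQ 9280 Q9280 (allL N9280 (tt N9280 F29895) (tt N7658 F29896) (tt N7902 F29897) (tt N10360 (iv F33671)) (tt N9279 F29898) (tt N9280 F29899) (tt N7901 F29900) (tt N7656 (iv D9377)))
theorem Q9282 : ∀ i, i < 9282 → P i := stepQ 9281 Q9281 (allL N9281 (tt N7683 F29901) (tt N7901 F29902) (tt N7664 F29903) (tt N10361 (iv F33679)) (tt N9284 (iv F29915)) (tt N10793 D10890) (tt N7658 (iv D9378)) (tt N9062 F29904))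
theorem Q9283 : ∀ i, i < 9283 → P i := stepQ 9282 Q9282 (allL N9282 (tt N7685 F29905) (tt N9282 F29906) (tt N8960 F29907) (tt N7660 F29908) (tt N10374 (iv F33734)) (tt N10794 D10891) (tt N7659 (iv D9379)) (tt N10795 D10892))
theorem Q9284 : ∀ i, i < 9284 → P i := stepQ 9283 Q9283 (allL N9283 (tt N7686 F29909) (tt N10796 D10893) (tt N7665 F29910) (tt N10794 (iv F35130)) (tt N9345 (iv F30090)) (tt N7660 (iv D9380)) (tt N10793 (iv F35126)) (tt N8768 F29911))
theorem Q9285 : ∀ i, i < 9285 → P i := stepQ 9284 Q9284 (allL N9284 (tt N7675 F29912) (tt N9065 F29913) (tt N7662 F29914) (tt N10401 (iv F33843)) (tt N9281 F29915) (tt N10797 D10894) (tt N7661 (iv D9381)) (tt N9064 F29916))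
theorem Q9286 : ∀ i, i < 9286 → P i := stepQ 9285 Q9285 (allL N9285 (tt N7672 F29917) (tt N9128 F29918) (tt N10797 (iv F35143)) (tt N7667 F29919) (tt N9289 (iv F29937)) (tt N7662 (iv D9382)) (tt N7717 F29920) (tt N10798 D10895))
theorem Q9287 : ∀ i, i < 9287 → P i := stepQ 9286 Q9286 (allL N9286 (tt N7676 F29921) (tt N7663 F29922) (tt N9064 F29923) (tt N10799 D10896) (tt N9288 (iv F29932)) (tt N10798 (iv F35150)) (tt N8929 F29924) (tt N7662 (iv D9383)))
theorem Q9288 : ∀ i, i < 9288 → P i := stepQ 9287 Q9287 (allL N9287 (tt N7687 F29925) (tt N10799 (iv F35153)) (tt N9067 F29926) (tt N7663 (iv D9384)) (tt N10800 D10897) (tt N9101 F29927) (tt N10801 D10898) (tt N7669 F29928))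
theorem Q9289 : ∀ i, i < 9289 → P i := stepQ 9288 Q9288 (allL N9288 (tt N7688 F29929) (tt N8929 F29930) (tt N9062 F29931) (tt N10801 (iv F35163)) (tt N9286 F29932) (tt N10802 D10899) (tt N7663 (iv D9385)) (tt N7664 F29933))
theorem Q9290 : ∀ i, i < 9290 → P i := stepQ 9289 Q9289 (allL N9289 (tt N7689 F29934) (tt N8591 F29935) (tt N10793 (iv F35125)) (tt N8937 F29936) (tt N9285 F29937) (tt N7664 (iv D9386)) (tt N7665 F29938) (tt N10802 (iv F35170)))
theorem Q9291 : ∀ i, i < 9291 → P i := stepQ 9290 Q9290 (allL N9290 (tt N10124 (iv F32925)) (tt N10803 D10900) (tt N7667 F29939) (tt N10403 (iv F33850)) (tt N7670 F29940) (tt N7666 (iv D9387)) (tt N7720 F29941) (tt N10804 D10901))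
theorem Q9292 : ∀ i, i < 9292 → P i := stepQ 9291 Q9291 (allL N9291 (tt N8890 F29942) (tt N9291 F29943) (tt N7668 F29944) (tt N8891 (iv F29947)) (tt N7671 F29945) (tt N10804 (iv F35180)) (tt N8899 F29946) (tt N7666 (iv D9388)))
theorem Q9293 : ∀ i, i < 9293 → P i := stepQ 9292 Q9292 (allL N9292 (tt N10448 (iv F33995)) (tt N9320 (iv F30015)) (tt N10804 (iv F35178)) (tt N10805 D10902) (tt N7673 F29948) (tt N7668 F29949) (tt N10806 D10903) (tt N7667 (iv D9389)))
theorem Q9294 : ∀ i, i < 9294 → P i := stepQ 9293 Q9293 (allL N9293 (tt N10449 (iv F34000)) (tt N7669 F29950) (tt N10807 D10904) (tt N7668 (iv D9390)) (tt N10808 D10905) (tt N10805 (iv F35182)) (tt N9131 F29951) (tt N10799 (iv F35155)))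
theorem Q9295 : ∀ i, i < 9295 → P i := stepQ 9294 Q9294 (allL N9294 (tt N7691 F29952) (tt N10809 D10906) (tt N7669 (iv D9391)) (tt N9294 F29953) (tt N10810 D10907) (tt N9103 F29954) (tt N9132 F29955) (tt N9067 F29956))
theorem Q9296 : ∀ i, i < 9296 → P i := stepQ 9295 Q9295 (allL N9295 (tt N7692 F29957) (tt N10808 (iv F35190)) (tt N10810 (iv F35198)) (tt N7679 F29958) (tt N7669 (iv D9392)) (tt N9326 (iv F30033)) (tt N9133 F29959) (tt N10800 (iv F35159)))
theorem Q9297 : ∀ i, i < 9297 → P i := stepQ 9296 Q9296 (allL N9296 (tt N10811 D10908) (tt N7670 (iv D9393)) (tt N10812 D10909) (tt N8822 F29960) (tt N10803 (iv F35172)) (tt N9296 F29961) (tt N7726 F29962) (tt N10813 D10910))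
theorem Q9298 : ∀ i, i < 9298 → P i := stepQ 9297 Q9297 (allL N9297 (tt N10126 (iv F32932)) (tt N10813 (iv F35215)) (tt N7673 F29963) (tt N10049 (iv F32664)) (tt N10804 (iv F35179)) (tt N7671 F29964) (tt N10814 D10911) (tt N7670 (iv D9394)))
theorem Q9299 : ∀ i, i < 9299 → P i := stepQ 9298 Q9298 (allL N9298 (tt N10797 (iv F35141)) (tt N10812 (iv F35210)) (tt N7672 (iv D9395)) (tt N10815 D10912) (tt N9312 (iv F29998)) (tt N7675 F29965) (tt N7729 F29966) (tt N10350 (iv F33647)))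
theorem Q9300 : ∀ i, i < 9300 → P i := stepQ 9299 Q9299 (allL N9299 (tt N10798 (iv F35147)) (tt N7673 F29967) (tt N10350 (iv F33644)) (tt N10816 D10913) (tt N9320 (iv F30016)) (tt N7676 F29968) (tt N8925 F29969) (tt N7672 (iv D9396)))
theorem Q9301 : ∀ i, i < 9301 → P i := stepQ 9300 Q9300 (allL N9300 (tt N10453 (iv F34020)) (tt N10816 (iv F35226)) (tt N10817 D10914) (tt N7673 (iv D9397)) (tt N10818 D10915) (tt N7674 F29970) (tt N10819 D10916) (tt N10788 (iv F35111)))
theorem Q9302 : ∀ i, i < 9302 → P i := stepQ 9301 Q9301 (allL N9301 (tt N10454 (iv F34022)) (tt N8925 F29971) (tt N10814 (iv F35221)) (tt N10819 (iv F35232)) (tt N10806 (iv F35184)) (tt N9253 F29972) (tt N7673 (iv D9398)) (tt N7730 F29973))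
theorem Q9303 : ∀ i, i < 9303 → P i := stepQ 9302 Q9302 (allL N9302 (tt N10219 (iv F33254)) (tt N10820 D10917) (tt N7674 (iv D9399)) (tt N10047 F32660) (tt N10821 D10918) (tt N10817 (iv F35229)) (tt N10625 (iv F34636)) (tt N10061 (iv F32706)))
theorem Q9304 : ∀ i, i < 9304 → P i := stepQ 9303 Q9303 (allL N9303 (tt N10455 (iv F34025)) (tt N7679 F29974) (tt N10821 (iv F35238)) (tt N10808 (iv F35191)) (tt N7674 (iv D9400)) (tt N10818 (iv F35230)) (tt N10626 (iv F34639)) (tt N10789 (iv F35114)))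
theorem Q9305 : ∀ i, i < 9305 → P i := stepQ 9304 Q9304 (allL N9304 (tt N10401 (iv F33841)) (tt N9304 F29975) (tt N10116 (iv F32899)) (tt N7675 (iv D9401)) (tt N10115 (iv F32895)) (tt N10815 (iv F35224)) (tt N7680 F29976) (tt N10028 (iv F32573)))
theorem Q9306 : ∀ i, i < 9306 → P i := stepQ 9305 Q9305 (allL N9305 (tt N10799 (iv F35152)) (tt N7677 F29977) (tt N10512 (iv F34228)) (tt N7676 (iv D9402)) (tt N10822 D10919) (tt N10816 (iv F35227)) (tt N8932 F29978) (tt N10449 (iv F34004)))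
theorem Q9307 : ∀ i, i < 9307 → P i := stepQ 9306 Q9306 (allL N9306 (tt N7693 F29979) (tt N10823 D10920) (tt N7677 (iv D9403)) (tt N9306 F29980) (tt N10824 D10921) (tt N7678 F29981) (tt N9321 (iv F30021)) (tt N10450 (iv F34010)))
theorem Q9308 : ∀ i, i < 9308 → P i := stepQ 9307 Q9307 (allL N9307 (tt N7694 F29982) (tt N10822 (iv F35239)) (tt N10824 (iv F35247)) (tt N9326 (iv F30031)) (tt N7677 (iv D9404)) (tt N7679 F29983) (tt N9322 (iv F30025)) (tt N10451 (iv F34014)))
theorem Q9309 : ∀ i, i < 9309 → P i := stepQ 9308 Q9308 (allL N9308 (tt N10825 D10922) (tt N7678 (iv D9405)) (tt N10820 (iv F35234)) (tt N9308 F29984) (tt N10826 D10923) (tt N10827 D10924) (tt N10627 (iv F34641)) (tt N10790 (iv F35119)))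
theorem Q9310 : ∀ i, i < 9310 → P i := stepQ 9309 Q9309 (allL N9309 (tt N7697 F29985) (tt N10826 (iv F35253)) (tt N7679 F29986) (tt N10828 D10925) (tt N7678 (iv D9406)) (tt N10824 (iv F35248)) (tt N10628 (iv F34644)) (tt N10791 (iv F35122)))
theorem Q9311 : ∀ i, i < 9311 → P i := stepQ 9310 Q9310 (allL N9310 (tt N9062 F29987) (tt N9310 F29988) (tt N7688 F29989) (tt N9020 F29990) (tt N8998 F29991) (tt N10829 D10926) (tt N7681 (iv D9407)) (tt N7683 F29992))
theorem Q9312 : ∀ i, i < 9312 → P i := stepQ 9311 Q9311 (allL N9311 (tt N10361 (iv F33676)) (tt N9311 F29993) (tt N8586 F29994) (tt N7683 F29995) (tt N8585 F29996) (tt N10830 D10927) (tt N7682 (iv D9408)) (tt N10162 (iv F33080)))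
theorem Q9313 : ∀ i, i < 9313 → P i := stepQ 9312 Q9312 (allL N9312 (tt N10793 (iv F35123)) (tt N10831 D10928) (tt N7689 F29997) (tt N10830 (iv F35267)) (tt N9298 F29998) (tt N7683 (iv D9409)) (tt N7686 F29999) (tt N10829 (iv F35264)))
theorem Q9314 : ∀ i, i < 9314 → P i := stepQ 9313 Q9313 (allL N9313 (tt N10374 (iv F33731)) (tt N7698 F30000) (tt N8583 F30001) (tt N9365 (iv F30140)) (tt N7685 F30002) (tt N10832 D10929) (tt N7684 (iv D9410)) (tt N10833 D10930))
theorem Q9315 : ∀ i, i < 9315 → P i := stepQ 9314 Q9314 (allL N9314 (tt N10794 (iv F35128)) (tt N10834 D10931) (tt N10629 (iv F34646)) (tt N7686 F30003) (tt N10832 (iv F35277)) (tt N7685 (iv D9411)) (tt N10830 (iv F35269)) (tt N10835 D10932))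
theorem Q9316 : ∀ i, i < 9316 → P i := stepQ 9315 Q9315 (allL N9315 (tt N10795 (iv F35131)) (tt N7700 F30004) (tt N9869 (iv F31945)) (tt N10359 (iv F33664)) (tt N10833 (iv F35281)) (tt N10835 (iv F35285)) (tt N9315 F30005) (tt N7685 (iv D9412)))
theorem Q9317 : ∀ i, i < 9317 → P i := stepQ 9316 Q9316 (allL N9316 (tt N10836 D10933) (tt N7686 (iv D9413)) (tt N9349 (iv F30099)) (tt N10834 (iv F35283)) (tt N9359 (iv F30127)) (tt N7701 F30006) (tt N10831 (iv F35274)) (tt N10426 (iv F33923)))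
theorem Q9318 : ∀ i, i < 9318 → P i := stepQ 9317 Q9317 (allL N9317 (tt N9067 F30007) (tt N10743 (iv F34998)) (tt N7687 (iv D9414)) (tt N9018 F30008) (tt N10837 D10934) (tt N9023 F30009) (tt N10737 (iv F34981)) (tt N7691 F30010))
theorem Q9319 : ∀ i, i < 9319 → P i := stepQ 9318 Q9318 (allL N9318 (tt N10800 (iv F35156)) (tt N7694 F30011) (tt N10837 (iv F35290)) (tt N10447 (iv F33992)) (tt N7687 (iv D9415)) (tt N10446 (iv F33989)) (tt N10838 D10935) (tt N7692 F30012))
theorem Q9320 : ∀ i, i < 9320 → P i := stepQ 9319 Q9319 (allL N9319 (tt N10801 (iv F35160)) (tt N7695 F30013) (tt N10737 (iv F34979)) (tt N7688 F30014) (tt N10838 (iv F35296)) (tt N10839 D10936) (tt N7687 (iv D9416)) (tt N10602 (iv F34560)))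
theorem Q9321 : ∀ i, i < 9321 → P i := stepQ 9320 Q9320 (allL N9320 (tt N10802 (iv F35165)) (tt N9292 F30015) (tt N10829 (iv F35260)) (tt N10839 (iv F35298)) (tt N9299 F30016) (tt N7688 (iv D9417)) (tt N10437 (iv F33966)) (tt N7689 F30017))
theorem Q9322 : ∀ i, i < 9322 → P i := stepQ 9321 Q9321 (allL N9321 (tt N9103 F30018) (tt N10840 D10937) (tt N7690 (iv D9418)) (tt N9321 F30019) (tt N10841 D10938) (tt N7691 F30020) (tt N9306 F30021) (tt N9023 F30022))
theorem Q9323 : ∀ i, i < 9323 → P i := stepQ 9322 Q9322 (allL N9322 (tt N9326 (iv F30030)) (tt N10447 (iv F33991)) (tt N10841 (iv F35305)) (tt N7694 F30023) (tt N7690 (iv D9419)) (tt N7692 F30024) (tt N9307 F30025) (tt N10446 (iv F33990)))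
theorem Q9324 : ∀ i, i < 9324 → P i := stepQ 9323 Q9323 (allL N9323 (tt N10842 D10939) (tt N7691 (iv D9420)) (tt N10436 (iv F33959)) (tt N9323 F30026) (tt N10843 D10940) (tt N10844 D10941) (tt N10434 F33954) (tt N10743 (iv F35001)))
theorem Q9325 : ∀ i, i < 9325 → P i := stepQ 9324 Q9324 (allL N9324 (tt N10810 (iv F35197)) (tt N10843 (iv F35312)) (tt N7692 F30027) (tt N10845 D10942) (tt N7691 (iv D9421)) (tt N10841 (iv F35306)) (tt N10631 (iv F34656)) (tt N10837 (iv F35293)))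
theorem Q9326 : ∀ i, i < 9326 → P i := stepQ 9325 Q9325 (allL N9325 (tt N10824 (iv F35246)) (tt N10751 (iv F35021)) (tt N7694 F30028) (tt N10846 D10943) (tt N7693 (iv D9422)) (tt N7697 F30029) (tt N10604 F34568) (tt N10462 (iv F34042)))
theorem Q9327 : ∀ i, i < 9327 → P i := stepQ 9326 Q9326 (allL N9326 (tt N9322 F30030) (tt N10838 (iv F35294)) (tt N10604 (iv F34566)) (tt N9307 F30031) (tt N7695 F30032) (tt N9295 F30033) (tt N7694 (iv D9423)) (tt N10603 (iv F34564)))
theorem Q9328 : ∀ i, i < 9328 → P i := stepQ 9327 Q9327 (allL N9327 (tt N7696 (iv D9424)) (tt N10825 (iv F35249)) (tt N9373 F30167) (tt N9327 F30034) (tt N10847 D10944) (tt N10848 D10945) (tt N10635 (iv F34664)) (tt N9380 (iv F30193)))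
theorem Q9329 : ∀ i, i < 9329 → P i := stepQ 9328 Q9328 (allL N9328 (tt N10847 (iv F35318)) (tt N7697 F30035) (tt N9411 (iv F30301)) (tt N10849 D10946) (tt N7696 (iv D9425)) (tt N10850 D10947) (tt N10636 (iv F34666)) (tt N9421 (iv F30325)))
theorem Q9330 : ∀ i, i < 9330 → P i := stepQ 9329 Q9329 (allL N9329 (tt N10848 (iv F35319)) (tt N10752 (iv F35023)) (tt N9409 F30297) (tt N9329 F30036) (tt N10850 (iv F35323)) (tt N7696 (iv D9426)) (tt N10851 D10948) (tt N9418 (iv F30319)))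
theorem Q9331 : ∀ i, i < 9331 → P i := stepQ 9330 Q9330 (allL N9330 (tt N10828 (iv F35257)) (tt N10849 (iv F35321)) (tt N10845 (iv F35314)) (tt N7697 (iv D9427)) (tt N9330 F30037) (tt N10846 (iv F35317)) (tt N10638 (iv F34669)) (tt N10852 D10949))
theorem Q9332 : ∀ i, i < 9332 → P i := stepQ 9331 Q9331 (allL N9331 (tt N9331 F30038) (tt N10084 (iv F32785)) (tt N9331 F30039) (tt N9398 (iv F30259)) (tt N7699 F30040) (tt N7698 (iv D9428)) (tt N9331 F30041) (tt N10853 D10950))
theorem Q9333 : ∀ i, i < 9333 → P i := stepQ 9332 Q9332 (allL N9332 (tt N9332 F30042) (tt N10833 (iv F35279)) (tt N9332 F30043) (tt N10854 D10951) (tt N7700 F30044) (tt N10853 (iv F35330)) (tt N9332 F30045) (tt N7698 (iv D9429)))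
theorem Q9334 : ∀ i, i < 9334 → P i := stepQ 9333 Q9333 (allL N9333 (tt N10855 D10952) (tt N7699 (iv D9430)) (tt N9721 (iv F31422)) (tt N7701 F30046) (tt N10084 (iv F32783)) (tt N10834 (iv F35284)) (tt N9333 F30047) (tt N9718 F31414))
theorem Q9335 : ∀ i, i < 9335 → P i := stepQ 9334 Q9334 (allL N9334 (tt N9334 F30048) (tt N9718 (iv F31411)) (tt N9334 F30049) (tt N7948 F30050) (tt N10853 (iv F35329)) (tt N7700 F30051) (tt N7947 F30052) (tt N7699 (iv D9431)))
theorem Q9336 : ∀ i, i < 9336 → P i := stepQ 9335 Q9335 (allL N9335 (tt N7701 (iv D9432)) (tt N9335 F30053) (tt N9376 (iv F30177)) (tt N10855 (iv F35339)) (tt N9391 (iv F30238)) (tt N10836 (iv F35287)) (tt N9335 F30054) (tt N10428 (iv F33933)))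
theorem Q9337 : ∀ i, i < 9337 → P i := stepQ 9336 Q9336 (allL N9336 (tt N7704 F30055) (tt N7702 (iv D9433)) (tt N10734 (iv F34969)) (tt N10856 D10953) (tt N8549 F30056) (tt N10857 D10954) (tt N9429 (iv F30353)) (tt N8546 F30057))
theorem Q9338 : ∀ i, i < 9338 → P i := stepQ 9337 Q9337 (allL N9337 (tt N7703 F30058) (tt N10856 (iv F35342)) (tt N10165 (iv F33087)) (tt N7702 (iv D9434)) (tt N8628 F30059) (tt N8625 F30060) (tt N9464 (iv F30468)) (tt N8653 F30061))
theorem Q9339 : ∀ i, i < 9339 → P i := stepQ 9338 Q9338 (allL N9338 (tt N10856 (iv F35341)) (tt N7705 F30062) (tt N10858 D10955) (tt N7704 (iv D9435)) (tt N9993 (iv F32383)) (tt N10859 D10956) (tt N9430 (iv F30357)) (tt N8835 F30063))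
theorem Q9340 : ∀ i, i < 9340 → P i := stepQ 9339 Q9339 (allL N9339 (tt N10857 (iv F35345)) (tt N7880 F30064) (tt N10739 (iv F34984)) (tt N10859 (iv F35355)) (tt N8541 F30065) (tt N7704 (iv D9436)) (tt N10860 D10957) (tt N8535 F30066))
theorem Q9341 : ∀ i, i < 9341 → P i := stepQ 9340 Q9340 (allL N9340 (tt N7706 F30067) (tt N9993 (iv F32381)) (tt N7709 F30068) (tt N8551 F30069) (tt N7705 (iv D9437)) (tt N7881 F30070) (tt N8999 F30071) (tt N8641 F30072))
theorem Q9342 : ∀ i, i < 9342 → P i := stepQ 9341 Q9341 (allL N9341 (tt N9575 (iv F30890)) (tt N10858 (iv F35350)) (tt N7707 (iv D9438)) (tt N10744 (iv F35003)) (tt N9539 (iv F30744)) (tt N9541 (iv F30753)) (tt N7961 F30073) (tt N9544 (iv F30765)))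
theorem Q9343 : ∀ i, i < 9343 → P i := stepQ 9342 Q9342 (allL N9342 (tt N8659 (iv F30077)) (tt N7714 (iv D9439)) (tt N10468 (iv F34055)) (tt N8833 F30074) (tt N10473 (iv F34081)) (tt N7894 F30075) (tt N8645 F30076) (tt N10596 (iv F34537)))
theorem Q9344 : ∀ i, i < 9344 → P i := stepQ 9343 Q9343 (allL N9343 (tt N7732 F30078) (tt N9343 F30079) (tt N7718 F30080) (tt N8825 F30081) (tt N7715 (iv D9440)) (tt N8818 F30082) (tt N10861 D10958) (tt N9940 (iv F32197)))
theorem Q9345 : ∀ i, i < 9345 → P i := stepQ 9344 Q9344 (allL N9344 (tt N7731 F30083) (tt N9344 F30084) (tt N7719 F30085) (tt N7716 F30086) (tt N10861 (iv F35366)) (tt N10862 D10959) (tt N7715 (iv D9441)) (tt N8617 F30087))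
theorem Q9346 : ∀ i, i < 9346 → P i := stepQ 9345 Q9345 (allL N9345 (tt N7729 F30088) (tt N10863 D10960) (tt N7717 F30089) (tt N10862 (iv F35370)) (tt N9283 F30090) (tt N7716 (iv D9442)) (tt N10797 (iv F35145)) (tt N8599 F30091))
theorem Q9347 : ∀ i, i < 9347 → P i := stepQ 9346 Q9346 (allL N9346 (tt N10113 (iv F32883)) (tt N7734 F30092) (tt N10861 (iv F35364)) (tt N7723 F30093) (tt N7719 F30094) (tt N10864 D10961) (tt N7718 (iv D9443)) (tt N10865 D10962))
theorem Q9348 : ∀ i, i < 9348 → P i := stepQ 9347 Q9347 (allL N9347 (tt N10466 (iv F34047)) (tt N10866 D10963) (tt N10862 (iv F35369)) (tt N7720 F30095) (tt N10864 (iv F35379)) (tt N7719 (iv D9444)) (tt N10403 (iv F33852)) (tt N10867 D10964))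
theorem Q9349 : ∀ i, i < 9349 → P i := stepQ 9348 Q9348 (allL N9348 (tt N10467 (iv F34050)) (tt N7737 F30096) (tt N8617 F30097) (tt N10868 D10965) (tt N10865 (iv F35383)) (tt N10867 (iv F35388)) (tt N8852 F30098) (tt N7719 (iv D9445)))
theorem Q9350 : ∀ i, i < 9350 → P i := stepQ 9349 Q9349 (allL N9349 (tt N10869 D10966) (tt N7720 (iv D9446)) (tt N9316 F30099) (tt N10866 (iv F35385)) (tt N7726 F30100) (tt N7739 F30101) (tt N10803 (iv F35174)) (tt N10870 D10967))
theorem Q9351 : ∀ i, i < 9351 → P i := stepQ 9350 Q9350 (allL N9350 (tt N10469 (iv F34060)) (tt N10870 (iv F35399)) (tt N7722 F30102) (tt N10871 D10968) (tt N7727 F30103) (tt N7721 F30104) (tt N10872 D10969) (tt N7720 (iv D9447)))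
theorem Q9352 : ∀ i, i < 9352 → P i := stepQ 9351 Q9351 (allL N9351 (tt N10470 (iv F34064)) (tt N7741 F30105) (tt N10278 (iv F33438)) (tt N7721 (iv D9448)) (tt N10873 D10970) (tt N10871 (iv F35403)) (tt N8784 F30106) (tt N10868 (iv F35393)))
theorem Q9353 : ∀ i, i < 9353 → P i := stepQ 9352 Q9352 (allL N9352 (tt N10471 (iv F34069)) (tt N8923 F30107) (tt N10872 (iv F35404)) (tt N10307 (iv F33525)) (tt N7730 F30108) (tt N8782 F30109) (tt N7722 (iv D9449)) (tt N10806 (iv F35186)))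
theorem Q9354 : ∀ i, i < 9354 → P i := stepQ 9353 Q9353 (allL N9353 (tt N10114 (iv F32888)) (tt N9555 (iv F30807)) (tt N8827 F30110) (tt N10864 (iv F35378)) (tt N7724 F30111) (tt N7723 (iv D9450)) (tt N8820 F30112) (tt N10269 (iv F33411)))
theorem Q9355 : ∀ i, i < 9355 → P i := stepQ 9354 Q9354 (allL N9354 (tt N10112 (iv F32878)) (tt N7745 F30113) (tt N8824 F30114) (tt N10874 D10971) (tt N7725 F30115) (tt N10269 (iv F33409)) (tt N8817 F30116) (tt N7723 (iv D9451)))
theorem Q9356 : ∀ i, i < 9356 → P i := stepQ 9355 Q9355 (allL N9355 (tt N9556 (iv F30811)) (tt N7724 (iv D9452)) (tt N9559 (iv F30824)) (tt N7726 F30117) (tt N9555 (iv F30809)) (tt N7748 F30118) (tt N8822 F30119) (tt N10237 (iv F33317)))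
theorem Q9357 : ∀ i, i < 9357 → P i := stepQ 9356 Q9356 (allL N9356 (tt N10122 (iv F32918)) (tt N10237 F33318) (tt N8832 F30120) (tt N10875 D10972) (tt N10269 (iv F33408)) (tt N7725 F30121) (tt N10043 (iv F32642)) (tt N7724 (iv D9453)))
theorem Q9358 : ∀ i, i < 9358 → P i := stepQ 9357 Q9357 (allL N9357 (tt N10121 (iv F32913)) (tt N7750 F30122) (tt N10769 (iv F35067)) (tt N7725 (iv D9454)) (tt N10876 D10973) (tt N10875 (iv F35412)) (tt N8821 F30123) (tt N7728 F30124))
theorem Q9359 : ∀ i, i < 9359 → P i := stepQ 9358 Q9358 (allL N9358 (tt N7726 (iv D9455)) (tt N10472 (iv F34074)) (tt N10877 D10974) (tt N9556 (iv F30813)) (tt N10869 (iv F35396)) (tt N7753 F30125) (tt N10811 (iv F35206)) (tt N10878 D10975))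
theorem Q9360 : ∀ i, i < 9360 → P i := stepQ 9359 Q9359 (allL N9359 (tt N10877 (iv F35417)) (tt N7729 F30126) (tt N7726 (iv D9456)) (tt N10879 D10976) (tt N9316 F30127) (tt N7754 F30128) (tt N10812 (iv F35212)) (tt N8911 (iv F30129)))
theorem Q9361 : ∀ i, i < 9361 → P i := stepQ 9360 Q9360 (allL N9360 (tt N10878 (iv F35423)) (tt N7727 F30130) (tt N8911 F30131) (tt N10880 D10977) (tt N10870 (iv F35401)) (tt N7755 F30132) (tt N10881 D10978) (tt N7726 (iv D9457)))
theorem Q9362 : ∀ i, i < 9362 → P i := stepQ 9361 Q9361 (allL N9361 (tt N10475 (iv F34088)) (tt N10880 (iv F35429)) (tt N10765 (iv F35056)) (tt N7727 (iv D9458)) (tt N10882 D10979) (tt N7728 F30133) (tt N10883 D10980) (tt N10875 (iv F35413)))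
theorem Q9363 : ∀ i, i < 9363 → P i := stepQ 9362 Q9362 (allL N9362 (tt N10476 (iv F34091)) (tt N10881 (iv F35432)) (tt N7730 F30134) (tt N10883 (iv F35437)) (tt N10872 (iv F35405)) (tt N9252 F30135) (tt N7727 (iv D9459)) (tt N10814 (iv F35223)))
theorem Q9364 : ∀ i, i < 9364 → P i := stepQ 9363 Q9363 (allL N9363 (tt N10477 (iv F34093)) (tt N7758 F30136) (tt N10768 (iv F35063)) (tt N10873 (iv F35408)) (tt N7728 (iv D9460)) (tt N10882 (iv F35436)) (tt N9260 F30137) (tt N10876 (iv F35416)))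
theorem Q9365 : ∀ i, i < 9365 → P i := stepQ 9364 Q9364 (allL N9364 (tt N10862 (iv F35368)) (tt N10879 (iv F35427)) (tt N10466 (iv F34048)) (tt N7729 (iv D9461)) (tt N10884 D10981) (tt N7731 F30138) (tt N10815 (iv F35225)) (tt N10885 D10982))
theorem Q9366 : ∀ i, i < 9366 → P i := stepQ 9365 Q9365 (allL N9365 (tt N10861 (iv F35362)) (tt N7760 F30139) (tt N10113 (iv F32885)) (tt N9313 F30140) (tt N7731 (iv D9462)) (tt N10884 (iv F35440)) (tt N7732 F30141) (tt N10886 D10983))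
theorem Q9367 : ∀ i, i < 9367 → P i := stepQ 9366 Q9366 (allL N9366 (tt N8617 F30142) (tt N7761 F30143) (tt N10467 (iv F34052)) (tt N8606 F30144) (tt N10886 (iv F35446)) (tt N10885 (iv F35443)) (tt N8848 (iv F30145)) (tt N7731 (iv D9463)))
theorem Q9368 : ∀ i, i < 9368 → P i := stepQ 9367 Q9367 (allL N9367 (tt N9940 (iv F32192)) (tt N7762 F30146) (tt N9684 F31317) (tt N9367 F30147) (tt N7733 F30148) (tt N8003 F30149) (tt N10887 D10984) (tt N7732 (iv D9464)))
theorem Q9369 : ∀ i, i < 9369 → P i := stepQ 9368 Q9368 (allL N9368 (tt N8845 F30150) (tt N7763 F30151) (tt N9934 (iv F32176)) (tt N7995 F30152) (tt N10887 (iv F35451)) (tt N10019 (iv F32524)) (tt N7733 (iv D9465)) (tt N8848 F30153))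
theorem Q9370 : ∀ i, i < 9370 → P i := stepQ 9369 Q9369 (allL N9369 (tt N7764 F30154) (tt N10865 (iv F35381)) (tt N9369 F30155) (tt N10888 D10985) (tt N7737 F30156) (tt N9576 (iv F30898)) (tt N10889 D10986) (tt N7734 (iv D9466)))
theorem Q9371 : ∀ i, i < 9371 → P i := stepQ 9370 Q9370 (allL N9370 (tt N7766 F30157) (tt N9941 (iv F32198)) (tt N9370 F30158) (tt N9894 (iv F32049)) (tt N7738 F30159) (tt N9988 (iv F32369)) (tt N7735 (iv D9467)) (tt N10889 (iv F35462)))
theorem Q9372 : ∀ i, i < 9372 → P i := stepQ 9371 Q9371 (allL N9371 (tt N9547 (iv F30775)) (tt N7736 (iv D9468)) (tt N10110 (iv F32873)) (tt N7739 F30160) (tt N9546 F30774) (tt N10866 (iv F35386)) (tt N9371 F30161) (tt N10890 D10987))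
theorem Q9373 : ∀ i, i < 9373 → P i := stepQ 9372 Q9372 (allL N9372 (tt N7767 F30162) (tt N10890 (iv F35463)) (tt N9372 F30163) (tt N10891 D10988) (tt N9576 (iv F30897)) (tt N7737 F30164) (tt N10892 D10989) (tt N7736 (iv D9469)))
theorem Q9374 : ∀ i, i < 9374 → P i := stepQ 9373 Q9373 (allL N9373 (tt N7768 F30165) (tt N10868 (iv F35390)) (tt N9327 (iv F30167)) (tt N7737 (iv D9470)) (tt N10893 D10990) (tt N10891 (iv F35467)) (tt N10894 D10991) (tt N7741 F30166))
theorem Q9375 : ∀ i, i < 9375 → P i := stepQ 9374 Q9374 (allL N9374 (tt N7769 F30168) (tt N8852 F30169) (tt N9374 F30170) (tt N10894 (iv F35480)) (tt N10889 (iv F35461)) (tt N10895 D10992) (tt N7737 (iv D9471)) (tt N7738 F30171))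
theorem Q9376 : ∀ i, i < 9376 → P i := stepQ 9375 Q9375 (allL N9375 (tt N7770 F30172) (tt N9989 (iv F32372)) (tt N9375 F30173) (tt N9136 F30174) (tt N9988 (iv F32368)) (tt N7738 (iv D9472)) (tt N9375 F30175) (tt N10895 (iv F35484)))
theorem Q9377 : ∀ i, i < 9377 → P i := stepQ 9376 Q9376 (allL N9376 (tt N7739 (iv D9473)) (tt N7771 F30176) (tt N9335 F30177) (tt N9547 (iv F30777)) (tt N7753 F30178) (tt N10869 (iv F35397)) (tt N9376 F30179) (tt N10896 D10993))
theorem Q9378 : ∀ i, i < 9378 → P i := stepQ 9377 Q9377 (allL N9377 (tt N10896 (iv F35485)) (tt N7740 F30180) (tt N8914 F30181) (tt N10897 D10994) (tt N7755 F30182) (tt N10870 (iv F35402)) (tt N10898 D10995) (tt N7739 (iv D9474)))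
theorem Q9379 : ∀ i, i < 9379 → P i := stepQ 9378 Q9378 (allL N9378 (tt N7773 F30183) (tt N10897 (iv F35489)) (tt N10899 D10996) (tt N7740 (iv D9475)) (tt N10900 D10997) (tt N7741 F30184) (tt N10901 D10998) (tt N10891 (iv F35468)))
theorem Q9380 : ∀ i, i < 9380 → P i := stepQ 9379 Q9379 (allL N9379 (tt N7774 F30185) (tt N10898 (iv F35490)) (tt N7743 F30186) (tt N10901 (iv F35502)) (tt N7757 F30187) (tt N8220 F30188) (tt N7740 (iv D9476)) (tt N9379 F30189))
theorem Q9381 : ∀ i, i < 9381 → P i := stepQ 9380 Q9380 (allL N9380 (tt N7775 F30190) (tt N10286 (iv F33457)) (tt N7741 (iv D9477)) (tt N7744 F30191) (tt N10902 D10999) (tt N10899 (iv F35496)) (tt N8624 F30192) (tt N9327 F30193))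
theorem Q9382 : ∀ i, i < 9382 → P i := stepQ 9381 Q9381 (allL N9381 (tt N7776 F30194) (tt N10873 (iv F35407)) (tt N10902 (iv F35506)) (tt N7758 F30195) (tt N7741 (iv D9478)) (tt N10900 (iv F35500)) (tt N8788 F30196) (tt N10893 (iv F35476)))
theorem Q9383 : ∀ i, i < 9383 → P i := stepQ 9382 Q9382 (allL N9382 (tt N7777 F30197) (tt N10903 D11000) (tt N7742 (iv D9479)) (tt N10899 (iv F35495)) (tt N8905 F30198) (tt N7744 F30199) (tt N10648 (iv F34710)) (tt N9382 F30200))
theorem Q9384 : ∀ i, i < 9384 → P i := stepQ 9383 Q9383 (allL N9383 (tt N7779 F30201) (tt N8327 F30202) (tt N10648 (iv F34708)) (tt N7743 F30203) (tt N8328 F30204) (tt N8091 F30205) (tt N7742 (iv D9480)) (tt N9137 (iv F30206)))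
theorem Q9385 : ∀ i, i < 9385 → P i := stepQ 9384 Q9384 (allL N9384 (tt N7786 F30207) (tt N10874 (iv F35410)) (tt N9266 F30208) (tt N7745 (iv D9481)) (tt N10904 D11001) (tt N9264 F30209) (tt N10905 D11002) (tt N10888 (iv F35456)))
theorem Q9386 : ∀ i, i < 9386 → P i := stepQ 9385 Q9385 (allL N9385 (tt N7787 F30210) (tt N8817 F30211) (tt N7911 F30212) (tt N10905 (iv F35522)) (tt N7751 F30213) (tt N9571 (iv F30871)) (tt N7745 (iv D9482)) (tt N7747 F30214))
theorem Q9387 : ∀ i, i < 9387 → P i := stepQ 9386 Q9386 (allL N9386 (tt N7788 F30215) (tt N9386 F30216) (tt N7746 (iv D9483)) (tt N7912 F30217) (tt N9094 F30218) (tt N9386 F30219) (tt N9092 F30220) (tt N9876 (iv F31972)))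
theorem Q9388 : ∀ i, i < 9388 → P i := stepQ 9387 Q9387 (allL N9387 (tt N7791 F30221) (tt N10289 (iv F33466)) (tt N8917 (iv F30224)) (tt N7749 (iv D9484)) (tt N10906 D11003) (tt N7750 F30222) (tt N10541 (iv F34318)) (tt N7756 F30223))
theorem Q9389 : ∀ i, i < 9389 → P i := stepQ 9388 Q9388 (allL N9388 (tt N7793 F30225) (tt N10876 (iv F35414)) (tt N8927 F30226) (tt N10904 (iv F35517)) (tt N7750 (iv D9485)) (tt N10906 (iv F35526)) (tt N10907 D11004) (tt N7758 F30227))
theorem Q9390 : ∀ i, i < 9390 → P i := stepQ 9389 Q9389 (allL N9389 (tt N7794 F30228) (tt N8821 F30229) (tt N8928 F30230) (tt N7751 F30231) (tt N10907 (iv F35531)) (tt N10908 D11005) (tt N7750 (iv D9486)) (tt N9263 F30232))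
theorem Q9391 : ∀ i, i < 9391 → P i := stepQ 9390 Q9390 (allL N9390 (tt N7795 F30233) (tt N10039 (iv F32627)) (tt N7919 F30234) (tt N10908 (iv F35535)) (tt N9571 (iv F30870)) (tt N7751 (iv D9487)) (tt N9570 F30866) (tt N7752 F30235))
theorem Q9392 : ∀ i, i < 9392 → P i := stepQ 9391 Q9391 (allL N9391 (tt N7754 F30236) (tt N9391 F30237) (tt N7753 (iv D9488)) (tt N9561 (iv F30832)) (tt N9335 F30238) (tt N10877 (iv F35420)) (tt N9391 F30239) (tt N8915 (iv F30240)))
theorem Q9393 : ∀ i, i < 9393 → P i := stepQ 9392 Q9392 (allL N9392 (tt N7755 F30241) (tt N7797 F30242) (tt N8915 F30243) (tt N10291 (iv F33475)) (tt N10896 (iv F35488)) (tt N10878 (iv F35425)) (tt N9427 F30347) (tt N7753 (iv D9489)))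
theorem Q9394 : ∀ i, i < 9394 → P i := stepQ 9393 Q9393 (allL N9393 (tt N9561 (iv F30830)) (tt N7759 F30244) (tt N9558 (iv F30820)) (tt N7754 (iv D9490)) (tt N10105 (iv F32859)) (tt N10879 (iv F35428)) (tt N9393 F30245) (tt N9782 F31615))
theorem Q9395 : ∀ i, i < 9395 → P i := stepQ 9394 Q9394 (allL N9394 (tt N10291 (iv F33472)) (tt N7756 F30246) (tt N10314 (iv F33547)) (tt N7755 (iv D9491)) (tt N10909 D11006) (tt N10880 (iv F35430)) (tt N10450 (iv F34009)) (tt N10289 (iv F33468)))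
theorem Q9396 : ∀ i, i < 9396 → P i := stepQ 9395 Q9395 (allL N9395 (tt N9427 (iv F30343)) (tt N7757 F30247) (tt N8907 F30248) (tt N10450 (iv F34007)) (tt N10898 (iv F35492)) (tt N9425 F30338) (tt N7755 (iv D9492)) (tt N9395 F30249))
theorem Q9397 : ∀ i, i < 9397 → P i := stepQ 9396 Q9396 (allL N9396 (tt N7801 F30250) (tt N10909 (iv F35537)) (tt N8916 F30251) (tt N10900 (iv F35499)) (tt N7756 (iv D9493)) (tt N7758 F30252) (tt N10910 D11007) (tt N10906 (iv F35527)))
theorem Q9398 : ∀ i, i < 9398 → P i := stepQ 9397 Q9397 (allL N9397 (tt N7802 F30253) (tt N10450 (iv F34006)) (tt N8908 F30254) (tt N7757 F30255) (tt N10910 (iv F35540)) (tt N9214 F30256) (tt N7756 (iv D9494)) (tt N10823 (iv F35244)))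
theorem Q9399 : ∀ i, i < 9399 → P i := stepQ 9398 Q9398 (allL N9398 (tt N9398 F30257) (tt N10105 (iv F32857)) (tt N7927 F30258) (tt N9331 F30259) (tt N7759 (iv D9495)) (tt N7760 F30260) (tt N9398 F30261) (tt N9902 F32085))
theorem Q9400 : ∀ i, i < 9400 → P i := stepQ 9399 Q9399 (allL N9399 (tt N9399 F30262) (tt N9782 (iv F31613)) (tt N7928 F30263) (tt N8897 F30264) (tt N9902 (iv F32083)) (tt N7761 F30265) (tt N9781 F31611) (tt N7759 (iv D9496)))
theorem Q9401 : ∀ i, i < 9401 → P i := stepQ 9400 Q9400 (allL N9400 (tt N9400 F30266) (tt N10886 (iv F35445)) (tt N7938 F30267) (tt N9903 (iv F32088)) (tt N7761 F30268) (tt N9902 F32084) (tt N10395 (iv F33808)) (tt N7760 (iv D9497)))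
theorem Q9402 : ∀ i, i < 9402 → P i := stepQ 9401 Q9401 (allL N9401 (tt N9401 F30269) (tt N8848 F30270) (tt N7940 F30271) (tt N8405 F30272) (tt N10395 (iv F33807)) (tt N9819 (iv F31751)) (tt N7761 (iv D9498)) (tt N7763 F30273))
theorem Q9403 : ∀ i, i < 9403 → P i := stepQ 9402 Q9402 (allL N9402 (tt N9402 F30274) (tt N10887 (iv F35449)) (tt N7948 F30275) (tt N9402 F30276) (tt N7763 F30277) (tt N10396 (iv F33816)) (tt N7762 (iv D9499)) (tt N10395 (iv F33809)))
theorem Q9404 : ∀ i, i < 9404 → P i := stepQ 9403 Q9403 (allL N9403 (tt N9403 F30278) (tt N9813 F31715) (tt N7951 F30279) (tt N8412 F30280) (tt N10396 (iv F33815)) (tt N7763 (iv D9500)) (tt N9403 F30281) (tt N9819 F31752))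
theorem Q9405 : ∀ i, i < 9405 → P i := stepQ 9404 Q9404 (allL N9404 (tt N10888 (iv F35454)) (tt N10502 (iv F34190)) (tt N10911 D11008) (tt N7764 (iv D9501)) (tt N10912 D11009) (tt N9440 F30389) (tt N10913 D11010) (tt N7786 F30282))
theorem Q9406 : ∀ i, i < 9406 → P i := stepQ 9405 Q9405 (allL N9405 (tt N10889 (iv F35458)) (tt N10503 (iv F34193)) (tt N9405 F30283) (tt N10913 (iv F35549)) (tt N7769 F30284) (tt N10914 D11011) (tt N7764 (iv D9502)) (tt N7766 F30285))
theorem Q9407 : ∀ i, i < 9407 → P i := stepQ 9406 Q9406 (allL N9406 (tt N9876 (iv F31967)) (tt N7989 F30286) (tt N7765 (iv D9503)) (tt N9406 F30287) (tt N7986 F30288) (tt N9406 F30289) (tt N9816 F31736) (tt N7788 F30290))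
theorem Q9408 : ∀ i, i < 9408 → P i := stepQ 9407 Q9407 (allL N9407 (tt N9894 (iv F32046)) (tt N9596 (iv F30997)) (tt N9816 (iv F31733)) (tt N7766 F30291) (tt N9600 (iv F31019)) (tt N9763 F31545) (tt N7765 (iv D9504)) (tt N10915 D11012))
theorem Q9409 : ∀ i, i < 9409 → P i := stepQ 9408 Q9408 (allL N9408 (tt N9988 (iv F32365)) (tt N9764 (iv F31548)) (tt N9408 F30292) (tt N9763 (iv F31546)) (tt N7770 F30293) (tt N7766 (iv D9505)) (tt N9408 F30294) (tt N10914 (iv F35552)))
theorem Q9410 : ∀ i, i < 9410 → P i := stepQ 9409 Q9409 (allL N9409 (tt N10891 (iv F35466)) (tt N9578 (iv F30904)) (tt N9329 (iv F30297)) (tt N7767 (iv D9506)) (tt N10916 D11013) (tt N7768 F30295) (tt N10917 D11014) (tt N7773 F30296))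
theorem Q9411 : ∀ i, i < 9411 → P i := stepQ 9410 Q9410 (allL N9410 (tt N10892 (iv F35470)) (tt N9579 (iv F30906)) (tt N9410 F30298) (tt N10917 (iv F35562)) (tt N9577 (iv F30902)) (tt N10918 D11015) (tt N7767 (iv D9507)) (tt N9410 F30299))
theorem Q9412 : ∀ i, i < 9412 → P i := stepQ 9411 Q9411 (allL N9411 (tt N10893 (iv F35474)) (tt N8950 F30300) (tt N9328 F30301) (tt N10912 (iv F35547)) (tt N7768 (iv D9508)) (tt N10916 (iv F35558)) (tt N10919 D11016) (tt N7776 F30302))
theorem Q9413 : ∀ i, i < 9413 → P i := stepQ 9412 Q9412 (allL N9412 (tt N10894 (iv F35477)) (tt N8777 F30303) (tt N9134 F30304) (tt N7769 F30305) (tt N10919 (iv F35570)) (tt N10920 D11017) (tt N7768 (iv D9509)) (tt N10647 (iv F34706)))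
theorem Q9414 : ∀ i, i < 9414 → P i := stepQ 9413 Q9413 (allL N9413 (tt N10895 (iv F35482)) (tt N10921 D11018) (tt N9413 F30306) (tt N10920 (iv F35572)) (tt N10914 (iv F35551)) (tt N7769 (iv D9510)) (tt N10918 (iv F35566)) (tt N7770 F30307))
theorem Q9415 : ∀ i, i < 9415 → P i := stepQ 9414 Q9414 (allL N9414 (tt N9765 (iv F31551)) (tt N7770 (iv D9511)) (tt N10922 D11019) (tt N10649 (iv F34712)) (tt N9764 F31550) (tt N10507 (iv F34205)) (tt N9414 F30308) (tt N10921 (iv F35574)))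
theorem Q9416 : ∀ i, i < 9416 → P i := stepQ 9415 Q9415 (allL N9415 (tt N7772 F30309) (tt N10896 (iv F35486)) (tt N9415 F30310) (tt N10923 D11020) (tt N7797 F30311) (tt N10508 (iv F34210)) (tt N10924 D11021) (tt N7771 (iv D9512)))
theorem Q9417 : ∀ i, i < 9417 → P i := stepQ 9416 Q9416 (allL N9416 (tt N10923 (iv F35581)) (tt N7773 F30312) (tt N10925 D11022) (tt N7772 (iv D9513)) (tt N10926 D11023) (tt N10509 (iv F34213)) (tt N10927 D11024) (tt N9578 (iv F30905)))
theorem Q9418 : ∀ i, i < 9418 → P i := stepQ 9417 Q9417 (allL N9417 (tt N10924 (iv F35582)) (tt N7774 F30313) (tt N9417 F30314) (tt N10927 (iv F35592)) (tt N7799 F30315) (tt N10928 D11025) (tt N7772 (iv D9514)) (tt N9417 F30316))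
theorem Q9419 : ∀ i, i < 9419 → P i := stepQ 9418 Q9418 (allL N9418 (tt N10899 (iv F35494)) (tt N10929 D11026) (tt N7773 (iv D9515)) (tt N7777 F30317) (tt N10930 D11027) (tt N7775 F30318) (tt N10931 D11028) (tt N9329 F30319))
theorem Q9420 : ∀ i, i < 9420 → P i := stepQ 9419 Q9419 (allL N9419 (tt N10900 (iv F35498)) (tt N10926 (iv F35589)) (tt N10930 (iv F35605)) (tt N7801 F30320) (tt N7773 (iv D9516)) (tt N7776 F30321) (tt N10932 D11029) (tt N10916 (iv F35559)))
theorem Q9421 : ∀ i, i < 9421 → P i := stepQ 9420 Q9420 (allL N9420 (tt N10901 (iv F35501)) (tt N10927 (iv F35591)) (tt N10931 (iv F35608)) (tt N7774 F30322) (tt N10932 (iv F35612)) (tt N10652 (iv F34724)) (tt N7773 (iv D9517)) (tt N10933 D11030))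
theorem Q9422 : ∀ i, i < 9422 → P i := stepQ 9421 Q9421 (allL N9421 (tt N10902 (iv F35505)) (tt N9278 F30323) (tt N7776 F30324) (tt N10934 D11031) (tt N7775 (iv D9518)) (tt N10930 (iv F35606)) (tt N10097 (iv F32834)) (tt N9328 F30325))
theorem Q9423 : ∀ i, i < 9423 → P i := stepQ 9422 Q9422 (allL N9422 (tt N9451 (iv F30415)) (tt N7777 (iv D9519)) (tt N9422 F30326) (tt N10929 (iv F35602)) (tt N10935 D11032) (tt N9447 (iv F30409)) (tt N10936 D11033) (tt N9422 F30327))
theorem Q9424 : ∀ i, i < 9424 → P i := stepQ 9423 Q9423 (allL N9423 (tt N8905 F30328) (tt N10935 (iv F35624)) (tt N7778 F30329) (tt N10937 D11034) (tt N7777 (iv D9520)) (tt N7781 F30330) (tt N9898 F32069) (tt N9423 F30331))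
theorem Q9425 : ∀ i, i < 9425 → P i := stepQ 9424 Q9424 (allL N9424 (tt N10648 (iv F34707)) (tt N10936 (iv F35629)) (tt N7779 F30332) (tt N10931 (iv F35609)) (tt N9898 (iv F32067)) (tt N8787 F30333) (tt N7777 (iv D9521)) (tt N9136 (iv F30334)))
theorem Q9426 : ∀ i, i < 9426 → P i := stepQ 9425 Q9425 (allL N9425 (tt N7780 (iv D9522)) (tt N10069 (iv F32735)) (tt N7782 F30335) (tt N9276 F30336) (tt N10938 D11035) (tt N9395 (iv F30338)) (tt N10095 (iv F32828)) (tt N9425 F30337))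
theorem Q9427 : ∀ i, i < 9427 → P i := stepQ 9426 Q9426 (allL N9426 (tt N10938 (iv F35637)) (tt N7781 F30339) (tt N7783 F30340) (tt N10939 D11036) (tt N7780 (iv D9523)) (tt N10940 D11037) (tt N9239 F30341) (tt N9426 F30342))
theorem Q9428 : ∀ i, i < 9428 → P i := stepQ 9427 Q9427 (allL N9427 (tt N9395 F30343) (tt N9447 (iv F30406)) (tt N7784 F30344) (tt N8945 F30345) (tt N10940 (iv F35649)) (tt N7780 (iv D9524)) (tt N9392 (iv F30347)) (tt N9427 F30346))
theorem Q9429 : ∀ i, i < 9429 → P i := stepQ 9428 Q9428 (allL N9428 (tt N8920 F30348) (tt N10939 (iv F35643)) (tt N7810 F30349) (tt N7781 (iv D9525)) (tt N10934 (iv F35621)) (tt N10937 (iv F35635)) (tt N9240 F30350) (tt N9448 (iv F30411)))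
theorem Q9430 : ∀ i, i < 9430 → P i := stepQ 9429 Q9429 (allL N9429 (tt N7783 F30351) (tt N7811 F30352) (tt N10938 (iv F35639)) (tt N10941 D11038) (tt N7782 (iv D9526)) (tt N9994 (iv F32386)) (tt N9336 F30353) (tt N9429 F30354))
theorem Q9431 : ∀ i, i < 9431 → P i := stepQ 9430 Q9430 (allL N9430 (tt N10941 (iv F35652)) (tt N7785 F30355) (tt N9574 (iv F30886)) (tt N7783 (iv D9527)) (tt N8427 F30356) (tt N8429 (iv F30358)) (tt N9338 F30357) (tt N9581 (iv F30921)))
theorem Q9432 : ∀ i, i < 9432 → P i := stepQ 9431 Q9431 (allL N9431 (tt N9994 F32389) (tt N9431 F30359) (tt N10940 (iv F35648)) (tt N8429 F30360) (tt N7784 F30361) (tt N7783 (iv D9528)) (tt N10428 (iv F33932)) (tt N9431 F30362))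
theorem Q9433 : ∀ i, i < 9433 → P i := stepQ 9432 Q9432 (allL N9432 (tt N9266 F30363) (tt N10942 D11039) (tt N7786 (iv D9529)) (tt N7954 F30364) (tt N10943 D11040) (tt N9015 F30365) (tt N10944 D11041) (tt N10911 (iv F35545)))
theorem Q9434 : ∀ i, i < 9434 → P i := stepQ 9433 Q9433 (allL N9433 (tt N10904 (iv F35515)) (tt N10514 (iv F34232)) (tt N10943 (iv F35662)) (tt N7793 F30366) (tt N7786 (iv D9530)) (tt N9457 (iv F30431)) (tt N10945 D11042) (tt N10912 (iv F35548)))
theorem Q9435 : ∀ i, i < 9435 → P i := stepQ 9434 Q9434 (allL N9434 (tt N10905 (iv F35519)) (tt N10515 (iv F34235)) (tt N10944 (iv F35666)) (tt N7787 F30367) (tt N10945 (iv F35670)) (tt N10778 (iv F35092)) (tt N7786 (iv D9531)) (tt N10946 D11043))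
theorem Q9436 : ∀ i, i < 9436 → P i := stepQ 9435 Q9435 (allL N9435 (tt N7796 F30368) (tt N10037 (iv F32617)) (tt N9095 F30369) (tt N7790 F30370) (tt N8722 F30371) (tt N7789 (iv D9532)) (tt N9435 F30372) (tt N10947 D11044))
theorem Q9437 : ∀ i, i < 9437 → P i := stepQ 9436 Q9436 (allL N9436 (tt N10524 (iv F34259)) (tt N8697 F30373) (tt N9069 F30374) (tt N10946 (iv F35672)) (tt N8696 F30375) (tt N10947 (iv F35676)) (tt N10915 (iv F35556)) (tt N7789 (iv D9533)))
theorem Q9438 : ∀ i, i < 9438 → P i := stepQ 9437 Q9437 (allL N9437 (tt N8722 F30376) (tt N7790 (iv D9534)) (tt N9093 (iv F30380)) (tt N10037 (iv F32619)) (tt N7796 F30377) (tt N8721 F30378) (tt N9437 F30379) (tt N10725 F34943))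
theorem Q9439 : ∀ i, i < 9439 → P i := stepQ 9438 Q9438 (allL N9438 (tt N8917 F30381) (tt N10948 D11045) (tt N7791 (iv D9535)) (tt N7961 F30382) (tt N10949 D11046) (tt N7792 F30383) (tt N10744 (iv F35004)) (tt N7800 F30384))
theorem Q9440 : ∀ i, i < 9440 → P i := stepQ 9439 Q9439 (allL N9439 (tt N10906 (iv F35523)) (tt N9458 (iv F30434)) (tt N10949 (iv F35682)) (tt N9457 (iv F30430)) (tt N7791 (iv D9536)) (tt N7793 F30385) (tt N10745 (iv F35007)) (tt N7801 F30386))
theorem Q9441 : ∀ i, i < 9441 → P i := stepQ 9440 Q9440 (allL N9440 (tt N10775 (iv F35084)) (tt N7792 (iv D9537)) (tt N10519 (iv F34246)) (tt N7963 F30387) (tt N10950 D11047) (tt N9404 (iv F30389)) (tt N10951 D11048) (tt N7803 F30388))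
theorem Q9442 : ∀ i, i < 9442 → P i := stepQ 9441 Q9441 (allL N9441 (tt N8927 F30390) (tt N10950 (iv F35685)) (tt N7793 F30391) (tt N10952 D11049) (tt N7792 (iv D9538)) (tt N10949 (iv F35683)) (tt N10953 D11050) (tt N7804 F30392))
theorem Q9443 : ∀ i, i < 9443 → P i := stepQ 9442 Q9442 (allL N9442 (tt N8928 F30393) (tt N10951 (iv F35689)) (tt N7794 F30394) (tt N7965 F30395) (tt N10953 (iv F35698)) (tt N10954 D11051) (tt N7792 (iv D9539)) (tt N9270 F30396))
theorem Q9444 : ∀ i, i < 9444 → P i := stepQ 9443 Q9443 (allL N9443 (tt N10907 (iv F35528)) (tt N10522 (iv F34255)) (tt N10953 (iv F35697)) (tt N10945 (iv F35669)) (tt N7794 F30397) (tt N10955 D11052) (tt N7793 (iv D9540)) (tt N10655 (iv F34730)))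
theorem Q9445 : ∀ i, i < 9445 → P i := stepQ 9444 Q9444 (allL N9444 (tt N10908 (iv F35533)) (tt N10956 D11053) (tt N10954 (iv F35701)) (tt N7795 F30398) (tt N10955 (iv F35704)) (tt N7794 (iv D9541)) (tt N10746 (iv F35009)) (tt N10656 (iv F34732)))
theorem Q9446 : ∀ i, i < 9446 → P i := stepQ 9445 Q9445 (allL N9445 (tt N10947 (iv F35673)) (tt N7795 (iv D9542)) (tt N10588 F34499) (tt N10956 (iv F35705)) (tt N10725 (iv F34941)) (tt N10524 (iv F34261)) (tt N10700 (iv F34870)) (tt N7796 F30399))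
theorem Q9447 : ∀ i, i < 9447 → P i := stepQ 9446 Q9446 (allL N9446 (tt N9095 F30400) (tt N7968 F30401) (tt N7796 (iv D9543)) (tt N9573 (iv F30885)) (tt N9093 F30402) (tt N9092 F30403) (tt N9446 F30404) (tt N10588 (iv F34498)))
theorem Q9448 : ∀ i, i < 9448 → P i := stepQ 9447 Q9447 (allL N9447 (tt N7799 F30405) (tt N9427 F30406) (tt N9447 F30407) (tt N10436 (iv F33960)) (tt N10924 (iv F35584)) (tt N9422 F30409) (tt N7797 (iv D9544)) (tt N9447 F30408))
theorem Q9449 : ∀ i, i < 9449 → P i := stepQ 9448 Q9448 (allL N9448 (tt N10434 (iv F33950)) (tt N10957 D11054) (tt N7798 (iv D9545)) (tt N9448 F30410) (tt N10958 D11055) (tt N10526 (iv F34269)) (tt N10842 (iv F35311)) (tt N9428 F30411))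
theorem Q9450 : ∀ i, i < 9450 → P i := stepQ 9449 Q9449 (allL N9449 (tt N10435 (iv F33955)) (tt N7801 F30412) (tt N10958 (iv F35713)) (tt N10926 (iv F35590)) (tt N7798 (iv D9546)) (tt N10527 (iv F34271)) (tt N10959 D11056) (tt N9458 F30437))
theorem Q9451 : ∀ i, i < 9451 → P i := stepQ 9450 Q9450 (allL N9450 (tt N10436 (iv F33957)) (tt N7802 F30413) (tt N10842 (iv F35309)) (tt N7799 F30414) (tt N10959 (iv F35716)) (tt N10960 D11057) (tt N7798 (iv D9547)) (tt N10749 (iv F35018)))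
theorem Q9452 : ∀ i, i < 9452 → P i := stepQ 9451 Q9451 (allL N9451 (tt N9422 F30415) (tt N10660 (iv F34740)) (tt N9451 F30416) (tt N10960 (iv F35718)) (tt N10928 (iv F35598)) (tt N7799 (iv D9548)) (tt N10529 (iv F34276)) (tt N9451 F30417))
theorem Q9453 : ∀ i, i < 9453 → P i := stepQ 9452 Q9452 (allL N9452 (tt N10961 D11058) (tt N7800 (iv D9549)) (tt N10957 (iv F35709)) (tt N7805 F30418) (tt N10962 D11059) (tt N9000 F30419) (tt N10963 D11060) (tt N10948 (iv F35680)))
theorem Q9454 : ∀ i, i < 9454 → P i := stepQ 9453 Q9453 (allL N9453 (tt N8916 F30420) (tt N10962 (iv F35723)) (tt N7801 F30421) (tt N10964 D11061) (tt N7800 (iv D9550)) (tt N7804 F30422) (tt N10965 D11062) (tt N10949 (iv F35684)))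
theorem Q9455 : ∀ i, i < 9455 → P i := stepQ 9454 Q9454 (allL N9454 (tt N8908 F30423) (tt N10963 (iv F35726)) (tt N7802 F30424) (tt N7807 F30425) (tt N10965 (iv F35737)) (tt N9216 F30426) (tt N7800 (iv D9551)) (tt N10966 D11063))
theorem Q9456 : ∀ i, i < 9456 → P i := stepQ 9455 Q9455 (allL N9455 (tt N10910 (iv F35538)) (tt N10959 (iv F35715)) (tt N10965 (iv F35736)) (tt N10932 (iv F35611)) (tt N7802 F30427) (tt N10661 (iv F34745)) (tt N7801 (iv D9552)) (tt N10967 D11064))
theorem Q9457 : ∀ i, i < 9457 → P i := stepQ 9456 Q9456 (allL N9456 (tt N10823 (iv F35241)) (tt N10749 (iv F35016)) (tt N10966 (iv F35741)) (tt N9456 F30428) (tt N10967 (iv F35744)) (tt N10662 (iv F34747)) (tt N10747 (iv F35012)) (tt N7802 (iv D9553)))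
theorem Q9458 : ∀ i, i < 9458 → P i := stepQ 9457 Q9457 (allL N9457 (tt N10774 (iv F35080)) (tt N7804 F30429) (tt N10535 (iv F34292)) (tt N9439 F30430) (tt N7803 (iv D9554)) (tt N9433 F30431) (tt N9265 F30432) (tt N10950 (iv F35688)))
theorem Q9459 : ∀ i, i < 9459 → P i := stepQ 9458 Q9458 (allL N9458 (tt N8921 F30433) (tt N9439 F30434) (tt N10934 (iv F35620)) (tt N7804 (iv D9555)) (tt N7810 F30435) (tt N10964 (iv F35733)) (tt N9245 F30436) (tt N9449 (iv F30437)))
theorem Q9460 : ∀ i, i < 9460 → P i := stepQ 9459 Q9459 (allL N9459 (tt N7805 (iv D9556)) (tt N8902 F30438) (tt N9459 F30439) (tt N10961 (iv F35721)) (tt N8972 F30440) (tt N8970 F30441) (tt N10968 D11065) (tt N7978 F30442))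
theorem Q9461 : ∀ i, i < 9461 → P i := stepQ 9460 Q9460 (allL N9460 (tt N10968 (iv F35745)) (tt N7807 F30443) (tt N9460 F30444) (tt N10963 (iv F35727)) (tt N9003 F30445) (tt N8378 (iv F30447)) (tt N7805 (iv D9557)) (tt N8377 F30446))
theorem Q9462 : ∀ i, i < 9462 → P i := stepQ 9461 Q9461 (allL N9461 (tt N8906 F30448) (tt N9002 F30449) (tt N10937 (iv F35634)) (tt N7806 (iv D9558)) (tt N10964 (iv F35732)) (tt N7810 F30450) (tt N10969 D11066) (tt N9010 F30451))
theorem Q9463 : ∀ i, i < 9463 → P i := stepQ 9462 Q9462 (allL N9462 (tt N8330 F30452) (tt N9003 F30453) (tt N7808 F30454) (tt N10969 (iv F35753)) (tt N7807 F30455) (tt N8336 F30456) (tt N7806 (iv D9559)) (tt N8415 (iv F30457)))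
theorem Q9464 : ∀ i, i < 9464 → P i := stepQ 9463 Q9463 (allL N9463 (tt N8409 F30458) (tt N8377 F30459) (tt N7809 F30460) (tt N8379 (iv F30464)) (tt N8415 F30461) (tt N8417 F30462) (tt N7981 F30463) (tt N7807 (iv D9560)))
theorem Q9465 : ∀ i, i < 9465 → P i := stepQ 9464 Q9464 (allL N9464 (tt N7812 F30465) (tt N10941 (iv F35653)) (tt N8628 F30466) (tt N7811 (iv D9561)) (tt N10165 (iv F33089)) (tt N8626 F30467) (tt N9337 F30468) (tt N8652 (iv F30469)))
theorem Q9466 : ∀ i, i < 9466 → P i := stepQ 9465 Q9465 (allL N9465 (tt N7814 F30470) (tt N8259 F30471) (tt N7815 F30472) (tt N10970 D11067) (tt N9921 (iv F32140)) (tt N9920 (iv F32136)) (tt N8239 F30473) (tt N7813 (iv D9562)))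
theorem Q9467 : ∀ i, i < 9467 → P i := stepQ 9466 Q9466 (allL N9466 (tt N10970 (iv F35755)) (tt N9918 (iv F32128)) (tt N10971 D11068) (tt N7814 (iv D9563)) (tt N10972 D11069) (tt N9923 (iv F32144)) (tt N10694 (iv F34845)) (tt N9888 (iv F32021)))
theorem Q9468 : ∀ i, i < 9468 → P i := stepQ 9467 Q9467 (allL N9467 (tt N7816 F30474) (tt N8227 F30475) (tt N10973 D11070) (tt N7815 (iv D9564)) (tt N9826 (iv F31773)) (tt N8904 F30476) (tt N8228 F30477) (tt N9467 F30478))
theorem Q9469 : ∀ i, i < 9469 → P i := stepQ 9468 Q9468 (allL N9468 (tt N10973 (iv F35761)) (tt N9154 F30479) (tt N7816 (iv D9565)) (tt N10971 (iv F35759)) (tt N9167 (iv F30482)) (tt N10389 (iv F33785)) (tt N9152 F30480) (tt N9468 F30481))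
theorem Q9470 : ∀ i, i < 9470 → P i := stepQ 9469 Q9469 (allL N9469 (tt N9826 (iv F31772)) (tt N7832 F30483) (tt N9167 F30484) (tt N10392 (iv F33794)) (tt N7816 (iv D9566)) (tt N10390 (iv F33789)) (tt N7839 F30485) (tt N9469 F30486))
theorem Q9471 : ∀ i, i < 9471 → P i := stepQ 9470 Q9470 (allL N9470 (tt N7819 (iv D9567)) (tt N7820 F30487) (tt N9077 (iv F30492)) (tt N9164 F30488) (tt N8052 F30489) (tt N10666 (iv F34760)) (tt N9470 F30490) (tt N8285 F30491))
theorem Q9472 : ∀ i, i < 9472 → P i := stepQ 9471 Q9471 (allL N9471 (tt N9077 F30493) (tt N9471 F30494) (tt N7819 (iv D9568)) (tt N9021 F30495) (tt N8296 F30496) (tt N10667 (iv F34766)) (tt N9471 F30497) (tt N8491 F30498))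
theorem Q9473 : ∀ i, i < 9473 → P i := stepQ 9472 Q9472 (allL N9472 (tt N7834 F30499) (tt N7822 (iv D9569)) (tt N10675 (iv F34795)) (tt N9489 (iv F30560)) (tt N9477 F30521) (tt N9071 F30500) (tt N7826 F30501) (tt N9814 (iv F31722)))
theorem Q9474 : ∀ i, i < 9474 → P i := stepQ 9473 Q9473 (allL N9473 (tt N7825 F30502) (tt N8850 F30503) (tt N7827 F30504) (tt N7823 (iv D9570)) (tt N9479 (iv F30528)) (tt N9473 F30505) (tt N9487 (iv F30556)) (tt N7870 F30506))
theorem Q9475 : ∀ i, i < 9475 → P i := stepQ 9474 Q9474 (allL N9474 (tt N7842 F30507) (tt N7827 F30508) (tt N10974 D11071) (tt N7826 (iv D9571)) (tt N9480 (iv F30532)) (tt N10975 D11072) (tt N9489 (iv F30561)) (tt N10976 D11073))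
theorem Q9476 : ∀ i, i < 9476 → P i := stepQ 9475 Q9475 (allL N9475 (tt N7843 F30509) (tt N9475 F30510) (tt N10687 (iv F34827)) (tt N10975 (iv F35772)) (tt N9959 (iv F32254)) (tt N7826 (iv D9572)) (tt N9070 F30511) (tt N9475 F30512))
theorem Q9477 : ∀ i, i < 9477 → P i := stepQ 9476 Q9476 (allL N9476 (tt N7828 F30513) (tt N10976 (iv F35775)) (tt N7870 F30514) (tt N9476 F30515) (tt N9482 (iv F30538)) (tt N9476 F30516) (tt N7868 (iv F30517)) (tt N7827 (iv D9573)))
theorem Q9478 : ∀ i, i < 9478 → P i := stepQ 9477 Q9477 (allL N9477 (tt N8352 F30518) (tt N7831 F30519) (tt N10977 D11074) (tt N7830 (iv D9574)) (tt N9472 (iv F30521)) (tt N10590 (iv F34512)) (tt N8385 F30520) (tt N8225 (iv F30522)))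
theorem Q9479 : ∀ i, i < 9479 → P i := stepQ 9478 Q9478 (allL N9478 (tt N9959 (iv F32251)) (tt N7849 F30523) (tt N10700 (iv F34867)) (tt N10590 (iv F34510)) (tt N7843 F30524) (tt N7830 (iv D9575)) (tt N10588 F34501) (tt N9478 F30525))
theorem Q9480 : ∀ i, i < 9480 → P i := stepQ 9479 Q9479 (allL N9479 (tt N7833 F30526) (tt N10392 (iv F33793)) (tt N7835 F30527) (tt N7832 (iv D9576)) (tt N9473 F30528) (tt N9479 F30529) (tt N7840 F30530) (tt N9510 (iv F30644)))
theorem Q9481 : ∀ i, i < 9481 → P i := stepQ 9480 Q9480 (allL N9480 (tt N9489 (iv F30558)) (tt N7835 F30531) (tt N10978 D11075) (tt N7834 (iv D9577)) (tt N9474 F30532) (tt N10979 D11076) (tt N7842 F30533) (tt N10980 D11077))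
theorem Q9482 : ∀ i, i < 9482 → P i := stepQ 9481 Q9481 (allL N9481 (tt N9071 F30534) (tt N9481 F30535) (tt N9896 (iv F32059)) (tt N10979 (iv F35792)) (tt N9928 (iv F32152)) (tt N7834 (iv D9578)) (tt N9068 (iv F30536)) (tt N9877 (iv F31979)))
theorem Q9483 : ∀ i, i < 9483 → P i := stepQ 9482 Q9482 (allL N9482 (tt N7836 F30537) (tt N10980 (iv F35797)) (tt N9510 (iv F30640)) (tt N9995 (iv F32393)) (tt N9476 F30538) (tt N9482 F30539) (tt N9509 (iv F30636)) (tt N7835 (iv D9579)))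
theorem Q9484 : ∀ i, i < 9484 → P i := stepQ 9483 Q9483 (allL N9483 (tt N7839 F30540) (tt N7837 (iv D9580)) (tt N9165 F30541) (tt N10981 D11078) (tt N8228 F30542) (tt N10982 D11079) (tt N9826 (iv F31774)) (tt N9164 F30543))
theorem Q9485 : ∀ i, i < 9485 → P i := stepQ 9484 Q9484 (allL N9484 (tt N7838 F30544) (tt N10981 (iv F35803)) (tt N9820 (iv F31754)) (tt N7837 (iv D9581)) (tt N8232 F30545) (tt N8226 F30546) (tt N9818 (iv F31744)) (tt N8274 F30547))
theorem Q9486 : ∀ i, i < 9486 → P i := stepQ 9485 Q9485 (allL N9485 (tt N10981 (iv F35802)) (tt N7840 F30548) (tt N10983 D11080) (tt N7839 (iv D9582)) (tt N10393 (iv F33800)) (tt N10984 D11081) (tt N10392 F33796) (tt N9624 (iv F31096)))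
theorem Q9487 : ∀ i, i < 9487 → P i := stepQ 9486 Q9486 (allL N9486 (tt N10982 (iv F35806)) (tt N7852 F30549) (tt N8808 F30550) (tt N10984 (iv F35815)) (tt N9825 (iv F31770)) (tt N7839 (iv D9583)) (tt N10985 D11082) (tt N8807 F30551))
theorem Q9488 : ∀ i, i < 9488 → P i := stepQ 9487 Q9487 (allL N9487 (tt N7841 F30552) (tt N10393 (iv F33798)) (tt N7844 F30553) (tt N8243 F30554) (tt N7840 (iv D9584)) (tt N7853 F30555) (tt N9473 F30556) (tt N8253 F30557))
theorem Q9489 : ∀ i, i < 9489 → P i := stepQ 9488 Q9488 (allL N9488 (tt N10974 (iv F35767)) (tt N10983 (iv F35811)) (tt N7842 (iv D9585)) (tt N10721 (iv F34929)) (tt N9982 (iv F32342)) (tt N9991 (iv F32377)) (tt N10978 (iv F35786)) (tt N9981 F32340))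
theorem Q9490 : ∀ i, i < 9490 → P i := stepQ 9489 Q9489 (allL N9489 (tt N9480 F30558) (tt N7844 F30559) (tt N9982 (iv F32341)) (tt N9472 F30560) (tt N7842 (iv D9586)) (tt N9987 (iv F32363)) (tt N9474 F30561) (tt N9979 (iv F32334)))
theorem Q9491 : ∀ i, i < 9491 → P i := stepQ 9490 Q9490 (allL N9490 (tt N10975 (iv F35770)) (tt N7856 F30562) (tt N9991 (iv F32375)) (tt N7843 F30563) (tt N9987 (iv F32362)) (tt N7842 (iv D9587)) (tt N10555 (iv F34361)) (tt N9986 F32358))
theorem Q9492 : ∀ i, i < 9492 → P i := stepQ 9491 Q9491 (allL N9491 (tt N10976 (iv F35774)) (tt N7845 F30564) (tt N9981 (iv F32338)) (tt N9491 F30565) (tt N9979 F32335) (tt N9986 (iv F32356)) (tt N10986 D11083) (tt N7842 (iv D9588)))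
theorem Q9493 : ∀ i, i < 9493 → P i := stepQ 9492 Q9492 (allL N9492 (tt N9070 F30566) (tt N7858 F30567) (tt N10725 (iv F34940)) (tt N10555 F34363) (tt N10588 (iv F34497)) (tt N9068 F30568) (tt N7843 (iv D9589)) (tt N9093 (iv F30569)))
theorem Q9494 : ∀ i, i < 9494 → P i := stepQ 9493 Q9493 (allL N9493 (tt N7846 F30570) (tt N9979 (iv F32331)) (tt N8253 F30571) (tt N8460 (iv F30575)) (tt N7845 F30572) (tt N7859 F30573) (tt N8445 F30574) (tt N7844 (iv D9590)))
theorem Q9495 : ∀ i, i < 9495 → P i := stepQ 9494 Q9494 (allL N9494 (tt N7847 F30576) (tt N10986 (iv F35819)) (tt N8446 F30577) (tt N9494 F30578) (tt N8445 F30579) (tt N8461 F30580) (tt N7845 (iv D9591)) (tt N9509 (iv F30637)))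
theorem Q9496 : ∀ i, i < 9496 → P i := stepQ 9495 Q9495 (allL N9495 (tt N8526 F30581) (tt N7854 F30582) (tt N7851 (iv D9592)) (tt N7889 F30583) (tt N10558 (iv F34378)) (tt N10987 D11084) (tt N9495 F30584) (tt N9614 F31069))
theorem Q9497 : ∀ i, i < 9497 → P i := stepQ 9496 Q9496 (allL N9496 (tt N8212 F30585) (tt N7853 F30586) (tt N10558 (iv F34376)) (tt N8213 F30587) (tt N7851 (iv D9593)) (tt N10988 D11085) (tt N9496 F30588) (tt N9615 F31074))
theorem Q9498 : ∀ i, i < 9498 → P i := stepQ 9497 Q9497 (allL N9497 (tt N9728 (iv F31441)) (tt N10984 (iv F35814)) (tt N10987 (iv F35825)) (tt N7852 F30589) (tt N10988 (iv F35829)) (tt N7851 (iv D9594)) (tt N10989 D11086) (tt N9616 (iv F31077)))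
theorem Q9499 : ∀ i, i < 9499 → P i := stepQ 9498 Q9498 (allL N9498 (tt N10670 (iv F34777)) (tt N10985 (iv F35816)) (tt N7892 F30590) (tt N10989 (iv F35830)) (tt N9842 (iv F31841)) (tt N9498 F30591) (tt N7852 (iv D9595)) (tt N10990 D11087))
theorem Q9500 : ∀ i, i < 9500 → P i := stepQ 9499 Q9499 (allL N9499 (tt N9499 F30592) (tt N9614 (iv F31067)) (tt N7857 F30593) (tt N10663 (iv F34750)) (tt N10559 (iv F34384)) (tt N10557 (iv F34374)) (tt N9612 F31062) (tt N7854 (iv D9596)))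
theorem Q9501 : ∀ i, i < 9501 → P i := stepQ 9500 Q9500 (allL N9500 (tt N9500 F30594) (tt N7859 F30595) (tt N10559 (iv F34382)) (tt N8458 F30598) (tt N7857 F30596) (tt N9594 (iv F30988)) (tt N8457 (iv F30597)) (tt N7855 (iv D9597)))
theorem Q9502 : ∀ i, i < 9502 → P i := stepQ 9501 Q9501 (allL N9501 (tt N9501 F30599) (tt N9986 (iv F32353)) (tt N10557 (iv F34371)) (tt N9501 F30600) (tt N9594 F30991) (tt N7857 F30601) (tt N9501 F30602) (tt N7856 (iv D9598)))
theorem Q9503 : ∀ i, i < 9503 → P i := stepQ 9502 Q9502 (allL N9502 (tt N9502 F30603) (tt N9093 F30604) (tt N7893 F30605) (tt N9502 F30606) (tt N7968 F30607) (tt N9502 F30608) (tt N9502 F30609) (tt N7858 (iv D9599)))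
theorem Q9504 : ∀ i, i < 9504 → P i := stepQ 9503 Q9503 (allL N9503 (tt N9503 F30610) (tt N9998 (iv F32409)) (tt N9503 F30611) (tt N7860 (iv D9600)) (tt N10035 (iv F32609)) (tt N7861 F30612) (tt N10592 (iv F34523)) (tt N7863 F30613))
theorem Q9505 : ∀ i, i < 9505 → P i := stepQ 9504 Q9504 (allL N9504 (tt N9504 F30614) (tt N7862 F30615) (tt N9504 F30616) (tt N8006 F30617) (tt N7861 (iv D9601)) (tt N10035 (iv F32610)) (tt N8005 F30618) (tt N7864 F30619))
theorem Q9506 : ∀ i, i < 9506 → P i := stepQ 9505 Q9505 (allL N9505 (tt N9505 F30620) (tt N10031 F32590) (tt N9505 F30621) (tt N9505 F30622) (tt N7863 (iv D9602)) (tt N7864 F30623) (tt N10399 (iv F33833)) (tt N10035 (iv F32611)))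
theorem Q9507 : ∀ i, i < 9507 → P i := stepQ 9506 Q9506 (allL N9506 (tt N8482 F30624) (tt N7869 F30625) (tt N10030 F32583) (tt N9506 F30626) (tt N7866 (iv D9603)) (tt N10031 (iv F32587)) (tt N10991 D11088) (tt N10001 (iv F32432)))
theorem Q9508 : ∀ i, i < 9508 → P i := stepQ 9507 Q9507 (allL N9507 (tt N10019 (iv F32520)) (tt N7870 F30627) (tt N9942 (iv F32201)) (tt N7867 F30628) (tt N10991 (iv F35838)) (tt N8845 F30629) (tt N7866 (iv D9604)) (tt N8850 (iv F30630)))
theorem Q9509 : ∀ i, i < 9509 → P i := stepQ 9508 Q9508 (allL N9508 (tt N10986 (iv F35818)) (tt N7868 (iv D9605)) (tt N10402 (iv F33846)) (tt N9508 F30631) (tt N10992 D11089) (tt N9508 F30632) (tt N10976 (iv F35777)) (tt N10002 (iv F32437)))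
theorem Q9510 : ∀ i, i < 9510 → P i := stepQ 9509 Q9509 (allL N9509 (tt N7877 F30633) (tt N10992 (iv F35842)) (tt N7869 F30634) (tt N8493 (iv F30638)) (tt N7868 (iv D9606)) (tt N7871 F30635) (tt N9482 F30636) (tt N9494 F30637))
theorem Q9511 : ∀ i, i < 9511 → P i := stepQ 9510 Q9510 (allL N9510 (tt N7878 F30639) (tt N10991 (iv F35836)) (tt N9482 F30640) (tt N9510 F30641) (tt N7870 F30642) (tt N9510 F30643) (tt N7869 (iv D9607)) (tt N9479 F30644))
theorem Q9512 : ∀ i, i < 9512 → P i := stepQ 9511 Q9511 (allL N9511 (tt N10015 (iv F32503)) (tt N9511 F30645) (tt N8343 F30646) (tt N7873 (iv D9608)) (tt N9723 (iv F31430)) (tt N7908 F30647) (tt N10993 D11090) (tt N7874 F30648))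
theorem Q9513 : ∀ i, i < 9513 → P i := stepQ 9512 Q9512 (allL N9512 (tt N10016 (iv F32507)) (tt N9512 F30649) (tt N9691 (iv F31340)) (tt N10993 (iv F35850)) (tt N9690 (iv F31336)) (tt N10994 D11091) (tt N7873 (iv D9609)) (tt N10382 (iv F33759)))
theorem Q9514 : ∀ i, i < 9514 → P i := stepQ 9513 Q9513 (allL N9513 (tt N10017 (iv F32509)) (tt N9513 F30650) (tt N8304 F30651) (tt N9513 F30652) (tt N7874 (iv D9610)) (tt N7910 F30653) (tt N10575 F34452) (tt N9723 F31432))
theorem Q9515 : ∀ i, i < 9515 → P i := stepQ 9514 Q9514 (allL N9514 (tt N8168 F30654) (tt N9514 F30655) (tt N8341 F30656) (tt N7875 F30657) (tt N10575 (iv F34450)) (tt N8166 F30658) (tt N7874 (iv D9611)) (tt N9946 (iv F32216)))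
theorem Q9516 : ∀ i, i < 9516 → P i := stepQ 9515 Q9515 (allL N9515 (tt N9875 (iv F31962)) (tt N7882 F30659) (tt N7879 (iv D9612)) (tt N9636 (iv F31138)) (tt N10581 (iv F34470)) (tt N10995 D11092) (tt N9515 F30660) (tt N8829 F30661))
theorem Q9517 : ∀ i, i < 9517 → P i := stepQ 9516 Q9516 (allL N9516 (tt N8621 F30662) (tt N7881 F30663) (tt N10581 (iv F34468)) (tt N8545 F30664) (tt N7879 (iv D9613)) (tt N10996 D11093) (tt N9516 F30665) (tt N8814 F30666))
theorem Q9518 : ∀ i, i < 9518 → P i := stepQ 9517 Q9517 (allL N9517 (tt N10135 (iv F32953)) (tt N10859 (iv F35354)) (tt N10995 (iv F35853)) (tt N7880 F30667) (tt N10996 (iv F35857)) (tt N7879 (iv D9614)) (tt N10997 D11094) (tt N8830 F30668))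
theorem Q9519 : ∀ i, i < 9519 → P i := stepQ 9518 Q9518 (allL N9518 (tt N10236 (iv F33310)) (tt N10860 (iv F35358)) (tt N9635 (iv F31132)) (tt N10997 (iv F35859)) (tt N8543 F30669) (tt N9518 F30670) (tt N7880 (iv D9615)) (tt N10109 (iv F32871)))
theorem Q9520 : ∀ i, i < 9520 → P i := stepQ 9519 Q9519 (allL N9519 (tt N9519 F30671) (tt N8829 F30672) (tt N7885 F30673) (tt N10998 D11095) (tt N9525 (iv F30693)) (tt N9527 (iv F30703)) (tt N8828 F30674) (tt N7882 (iv D9616)))
theorem Q9521 : ∀ i, i < 9521 → P i := stepQ 9520 Q9520 (allL N9520 (tt N7892 F30675) (tt N8512 F30676) (tt N10670 (iv F34779)) (tt N8513 F30677) (tt N10071 (iv F32743)) (tt N9520 F30678) (tt N7888 (iv D9617)) (tt N9735 (iv F31467)))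
theorem Q9522 : ∀ i, i < 9522 → P i := stepQ 9521 Q9521 (allL N9521 (tt N8517 F30679) (tt N10373 (iv F33726)) (tt N7891 F30680) (tt N10987 (iv F35826)) (tt N10379 (iv F33746)) (tt N7889 (iv D9618)) (tt N10999 D11096) (tt N10186 (iv F33171)))
theorem Q9523 : ∀ i, i < 9523 → P i := stepQ 9522 Q9522 (allL N9522 (tt N8509 F30681) (tt N8694 F30682) (tt N10379 (iv F33745)) (tt N10078 (iv F32767)) (tt N7891 F30683) (tt N7890 (iv D9619)) (tt N11000 D11097) (tt N10187 (iv F33178)))
theorem Q9524 : ∀ i, i < 9524 → P i := stepQ 9523 Q9523 (allL N9523 (tt N8513 F30684) (tt N8707 F30685) (tt N10999 (iv F35869)) (tt N7892 F30686) (tt N11000 (iv F35877)) (tt N9523 F30687) (tt N7891 (iv D9620)) (tt N11001 D11098))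
theorem Q9525 : ∀ i, i < 9525 → P i := stepQ 9524 Q9524 (allL N9524 (tt N9735 F31468) (tt N8283 F30688) (tt N10990 (iv F35832)) (tt N9736 (iv F31469)) (tt N10340 (iv F33611)) (tt N9524 F30689) (tt N8281 F30690) (tt N7892 (iv D9621)))
theorem Q9526 : ∀ i, i < 9526 → P i := stepQ 9525 Q9525 (allL N9525 (tt N9525 F30691) (tt N10361 (iv F33677)) (tt N7896 (iv D9622)) (tt N7901 F30692) (tt N9519 F30693) (tt N7897 F30694) (tt N10360 (iv F33675)) (tt N9060 F30695))
theorem Q9527 : ∀ i, i < 9527 → P i := stepQ 9526 Q9526 (allL N9526 (tt N8564 (iv F30700)) (tt N7897 (iv D9623)) (tt N7925 F30696) (tt N7903 F30697) (tt N11002 D11099) (tt N11003 D11100) (tt N9526 F30698) (tt N8689 F30699))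
theorem Q9528 : ∀ i, i < 9528 → P i := stepQ 9527 Q9527 (allL N9527 (tt N9527 F30701) (tt N11002 (iv F35887)) (tt N7898 F30702) (tt N10585 (iv F34487)) (tt N7897 (iv D9624)) (tt N9519 F30703) (tt N9527 F30704) (tt N9059 F30705))
theorem Q9529 : ∀ i, i < 9529 → P i := stepQ 9528 Q9528 (allL N9528 (tt N9581 (iv F30916)) (tt N8652 F30706) (tt N9582 (iv F30923)) (tt N9528 F30707) (tt N7899 (iv D9625)) (tt N7904 F30708) (tt N8880 F30709) (tt N10941 (iv F35657)))
theorem Q9530 : ∀ i, i < 9530 → P i := stepQ 9529 Q9529 (allL N9529 (tt N8427 F30710) (tt N10165 (iv F33086)) (tt N10482 (iv F34113)) (tt N8426 F30711) (tt N10941 (iv F35654)) (tt N7905 F30712) (tt N10166 (iv F33094)) (tt N7899 (iv D9626)))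
theorem Q9531 : ∀ i, i < 9531 → P i := stepQ 9530 Q9530 (allL N9530 (tt N8563 F30713) (tt N10793 (iv F35124)) (tt N7906 F30714) (tt N11003 (iv F35893)) (tt N10074 (iv F32755)) (tt N7903 (iv D9627)) (tt N10796 (iv F35138)) (tt N8555 F30715))
theorem Q9532 : ∀ i, i < 9532 → P i := stepQ 9531 Q9531 (allL N9531 (tt N8429 F30716) (tt N7938 F30717) (tt N10480 (iv F34105)) (tt N9994 (iv F32384)) (tt N7905 F30718) (tt N10941 (iv F35655)) (tt N10427 (iv F33926)) (tt N7904 (iv D9628)))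
theorem Q9533 : ∀ i, i < 9533 → P i := stepQ 9532 Q9532 (allL N9532 (tt N8205 F30719) (tt N7940 F30720) (tt N10483 (iv F34118)) (tt N8193 F30721) (tt N10427 (iv F33925)) (tt N11004 D11101) (tt N7905 (iv D9629)) (tt N7909 F30722))
theorem Q9534 : ∀ i, i < 9534 → P i := stepQ 9533 Q9533 (allL N9533 (tt N8565 F30723) (tt N8590 F30724) (tt N10796 (iv F35136)) (tt N7946 F30725) (tt N10601 (iv F34553)) (tt N9533 F30726) (tt N7906 (iv D9630)) (tt N10640 (iv F34682)))
theorem Q9535 : ∀ i, i < 9535 → P i := stepQ 9534 Q9534 (allL N9534 (tt N10500 (iv F34181)) (tt N7948 F30727) (tt N9688 (iv F31327)) (tt N9718 (iv F31413)) (tt N7909 F30728) (tt N11005 D11102) (tt N7907 (iv D9631)) (tt N10427 (iv F33927)))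
theorem Q9536 : ∀ i, i < 9536 → P i := stepQ 9535 Q9535 (allL N9535 (tt N9929 (iv F32154)) (tt N7949 F30729) (tt N8305 F30730) (tt N9717 (iv F31408)) (tt N7908 (iv D9632)) (tt N9723 (iv F31431)) (tt N11006 D11103) (tt N7910 F30731))
theorem Q9537 : ∀ i, i < 9537 → P i := stepQ 9536 Q9536 (allL N9536 (tt N8182 F30732) (tt N7950 F30733) (tt N8333 F30734) (tt N7909 F30735) (tt N11006 (iv F35902)) (tt N11007 D11104) (tt N7908 (iv D9633)) (tt N8175 F30736))
theorem Q9538 : ∀ i, i < 9538 → P i := stepQ 9537 Q9537 (allL N9537 (tt N10501 (iv F34186)) (tt N11008 D11105) (tt N10484 (iv F34122)) (tt N11007 (iv F35906)) (tt N11005 (iv F35898)) (tt N7909 (iv D9634)) (tt N10994 (iv F35852)) (tt N11004 (iv F35897)))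
theorem Q9539 : ∀ i, i < 9539 → P i := stepQ 9538 Q9538 (allL N9538 (tt N7958 F30737) (tt N9538 F30738) (tt N7913 F30739) (tt N9092 F30740) (tt N9538 F30741) (tt N9573 (iv F30883)) (tt N7912 (iv D9635)) (tt N9572 (iv F30878)))
theorem Q9540 : ∀ i, i < 9540 → P i := stepQ 9539 Q9539 (allL N9539 (tt N7961 F30742) (tt N10505 (iv F34198)) (tt N7915 (iv D9636)) (tt N8917 F30743) (tt N9341 F30744) (tt N7916 F30745) (tt N9575 (iv F30894)) (tt N7922 F30746))
theorem Q9541 : ∀ i, i < 9541 → P i := stepQ 9540 Q9540 (allL N9540 (tt N11009 D11106) (tt N7916 (iv D9637)) (tt N8689 F30747) (tt N8749 F30748) (tt N11010 D11107) (tt N11011 D11108) (tt N8687 (iv F30750)) (tt N7925 F30749))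
theorem Q9542 : ∀ i, i < 9542 → P i := stepQ 9541 Q9541 (allL N9541 (tt N7964 F30751) (tt N11010 (iv F35916)) (tt N7917 F30752) (tt N11012 D11109) (tt N7916 (iv D9638)) (tt N9341 F30753) (tt N9580 (iv F30914)) (tt N7926 F30754))
theorem Q9543 : ∀ i, i < 9543 → P i := stepQ 9542 Q9542 (allL N9542 (tt N7965 F30755) (tt N8687 F30756) (tt N7918 F30757) (tt N8928 F30758) (tt N9580 (iv F30913)) (tt N9579 (iv F30909)) (tt N7916 (iv D9639)) (tt N9542 F30759))
theorem Q9544 : ∀ i, i < 9544 → P i := stepQ 9543 Q9543 (allL N9543 (tt N10178 (iv F33145)) (tt N7922 (iv D9640)) (tt N10171 (iv F33120)) (tt N7930 F30760) (tt N10381 (iv F33754)) (tt N11013 D11110) (tt N10020 F32531) (tt N10505 (iv F34201)))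
theorem Q9545 : ∀ i, i < 9545 → P i := stepQ 9544 Q9544 (allL N9544 (tt N7973 F30761) (tt N10381 (iv F33752)) (tt N7923 F30762) (tt N8993 F30763) (tt N7922 (iv D9641)) (tt N7926 F30764) (tt N9585 (iv F30945)) (tt N9341 F30765))
theorem Q9546 : ∀ i, i < 9546 → P i := stepQ 9545 Q9545 (allL N9545 (tt N7974 F30766) (tt N10020 (iv F32526)) (tt N7924 F30767) (tt N7932 F30768) (tt N9585 (iv F30943)) (tt N9545 F30769) (tt N7922 (iv D9642)) (tt N9584 (iv F30938)))
theorem Q9547 : ∀ i, i < 9547 → P i := stepQ 9546 Q9546 (allL N9546 (tt N7925 (iv D9643)) (tt N7977 F30770) (tt N8564 F30771) (tt N7935 F30772) (tt N9371 (iv F30774)) (tt N11014 D11111) (tt N9546 F30773) (tt N11009 (iv F35913)))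
theorem Q9548 : ∀ i, i < 9548 → P i := stepQ 9547 Q9547 (allL N9547 (tt N9371 F30775) (tt N7926 F30776) (tt N11002 (iv F35888)) (tt N9376 F30777) (tt N7925 (iv D9644)) (tt N11015 D11112) (tt N9547 F30778) (tt N11010 (iv F35919)))
theorem Q9549 : ∀ i, i < 9549 → P i := stepQ 9548 Q9548 (allL N9548 (tt N11014 (iv F35931)) (tt N11013 (iv F35929)) (tt N11003 (iv F35892)) (tt N7937 F30779) (tt N11015 (iv F35938)) (tt N7925 (iv D9645)) (tt N11016 D11113) (tt N11011 (iv F35922)))
theorem Q9550 : ∀ i, i < 9550 → P i := stepQ 9549 Q9549 (allL N9549 (tt N7930 (iv D9646)) (tt N7978 F30780) (tt N8844 F30781) (tt N10178 (iv F33147)) (tt N8971 (iv F30783)) (tt N11017 D11114) (tt N10405 (iv F33864)) (tt N8902 F30782))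
theorem Q9551 : ∀ i, i < 9551 → P i := stepQ 9550 Q9550 (allL N9550 (tt N8971 F30784) (tt N7931 F30785) (tt N8841 F30786) (tt N8974 (iv F30788)) (tt N7930 (iv D9647)) (tt N11018 D11115) (tt N10404 (iv F33858)) (tt N8888 F30787))
theorem Q9552 : ∀ i, i < 9552 → P i := stepQ 9551 Q9551 (allL N9551 (tt N11017 (iv F35941)) (tt N7937 F30789) (tt N8580 F30790) (tt N11013 (iv F35930)) (tt N11018 (iv F35951)) (tt N7930 (iv D9648)) (tt N11019 D11116) (tt N8686 F30791))
theorem Q9553 : ∀ i, i < 9553 → P i := stepQ 9552 Q9552 (allL N9552 (tt N10405 (iv F33860)) (tt N7932 F30792) (tt N8842 F30793) (tt N10020 (iv F32530)) (tt N10404 (iv F33856)) (tt N10021 (iv F32536)) (tt N7930 (iv D9649)) (tt N10024 (iv F32547)))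
theorem Q9554 : ∀ i, i < 9554 → P i := stepQ 9553 Q9553 (allL N9553 (tt N7980 F30794) (tt N10404 (iv F33854)) (tt N7933 F30795) (tt N8485 F30796) (tt N7932 F30797) (tt N9553 F30798) (tt N7931 (iv D9650)) (tt N8411 F30799))
theorem Q9555 : ∀ i, i < 9555 → P i := stepQ 9554 Q9554 (allL N9554 (tt N7981 F30800) (tt N10024 (iv F32543)) (tt N7934 F30801) (tt N8881 F30805) (tt N8411 F30802) (tt N9554 F30803) (tt N8409 F30804) (tt N7932 (iv D9651)))
theorem Q9556 : ∀ i, i < 9556 → P i := stepQ 9555 Q9555 (allL N9555 (tt N7937 F30806) (tt N9353 F30807) (tt N7943 F30808) (tt N11014 (iv F35934)) (tt N9355 F30809) (tt N7935 (iv D9652)) (tt N10367 (iv F33700)) (tt N8719 F30810))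
theorem Q9557 : ∀ i, i < 9557 → P i := stepQ 9556 Q9556 (allL N9556 (tt N9355 F30811) (tt N11018 (iv F35948)) (tt N7945 F30812) (tt N9358 F30813) (tt N7937 F30814) (tt N7936 (iv D9653)) (tt N10369 (iv F33708)) (tt N8695 F30815))
theorem Q9558 : ∀ i, i < 9558 → P i := stepQ 9557 Q9557 (allL N9557 (tt N10367 F33702) (tt N11019 (iv F35955)) (tt N7946 F30816) (tt N11016 (iv F35939)) (tt N10369 (iv F33706)) (tt N9557 F30817) (tt N7937 (iv D9654)) (tt N11020 D11117))
theorem Q9559 : ∀ i, i < 9559 → P i := stepQ 9558 Q9558 (allL N9558 (tt N7944 F30818) (tt N7952 F30819) (tt N9393 F30820) (tt N7942 (iv D9655)) (tt N8560 F30821) (tt N11021 D11118) (tt N9558 F30822) (tt N10136 F32961))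
theorem Q9560 : ∀ i, i < 9560 → P i := stepQ 9559 Q9559 (allL N9559 (tt N7945 F30823) (tt N10187 (iv F33175)) (tt N9355 F30824) (tt N11021 (iv F35969)) (tt N7943 F30825) (tt N7942 (iv D9656)) (tt N10370 (iv F33715)) (tt N8694 F30826))
theorem Q9561 : ∀ i, i < 9561 → P i := stepQ 9560 Q9560 (allL N9560 (tt N7946 F30827) (tt N10188 (iv F33181)) (tt N10367 (iv F33697)) (tt N8565 F30828) (tt N10370 (iv F33713)) (tt N9560 F30829) (tt N7943 (iv D9657)) (tt N11022 D11119))
theorem Q9562 : ∀ i, i < 9562 → P i := stepQ 9561 Q9561 (allL N9561 (tt N9393 F30830) (tt N9561 F30831) (tt N7944 (iv D9658)) (tt N9391 F30832) (tt N10148 (iv F33021)) (tt N11023 D11120) (tt N9561 F30833) (tt N8197 F30834))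
theorem Q9563 : ∀ i, i < 9563 → P i := stepQ 9562 Q9562 (allL N9562 (tt N11021 (iv F35967)) (tt N8587 F30835) (tt N11023 (iv F35978)) (tt N7945 F30836) (tt N10151 (iv F33034)) (tt N7944 (iv D9659)) (tt N11024 D11121) (tt N10138 (iv F32971)))
theorem Q9564 : ∀ i, i < 9564 → P i := stepQ 9563 Q9563 (allL N9563 (tt N10370 (iv F33711)) (tt N8584 F30837) (tt N10369 F33710) (tt N11024 (iv F35982)) (tt N7946 F30838) (tt N9563 F30839) (tt N7945 (iv D9660)) (tt N11025 D11122))
theorem Q9565 : ∀ i, i < 9565 → P i := stepQ 9564 Q9564 (allL N9564 (tt N11022 (iv F35971)) (tt N8589 F30840) (tt N11020 (iv F35962)) (tt N11026 D11123) (tt N11025 (iv F35987)) (tt N9564 F30841) (tt N8701 F30842) (tt N7946 (iv D9661)))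
theorem Q9566 : ∀ i, i < 9566 → P i := stepQ 9565 Q9565 (allL N9565 (tt N9565 F30843) (tt N9717 (iv F31406)) (tt N9565 F30844) (tt N7949 F30845) (tt N7947 (iv D9662)) (tt N9565 F30846) (tt N10853 (iv F35331)) (tt N9565 F30847))
theorem Q9567 : ∀ i, i < 9567 → P i := stepQ 9566 Q9566 (allL N9566 (tt N9566 F30848) (tt N11006 (iv F35900)) (tt N8312 F30849) (tt N10853 (iv F35328)) (tt N7950 F30850) (tt N10854 (iv F35334)) (tt N7949 (iv D9663)) (tt N8325 F30851))
theorem Q9568 : ∀ i, i < 9568 → P i := stepQ 9567 Q9567 (allL N9567 (tt N9567 F30852) (tt N11027 D11124) (tt N8329 F30853) (tt N7951 F30854) (tt N10854 (iv F35333)) (tt N7950 (iv D9664)) (tt N9567 F30855) (tt N8326 F30856))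
theorem Q9569 : ∀ i, i < 9569 → P i := stepQ 9568 Q9568 (allL N9568 (tt N9759 F31717) (tt N7951 (iv D9665)) (tt N9758 (iv F31716)) (tt N11027 (iv F35994)) (tt N10359 (iv F33665)) (tt N11008 (iv F35908)) (tt N9568 F30857) (tt N10140 F32983))
theorem Q9570 : ∀ i, i < 9570 → P i := stepQ 9569 Q9569 (allL N9569 (tt N11028 D11125) (tt N7954 (iv D9666)) (tt N9569 F30858) (tt N10942 (iv F35658)) (tt N11029 D11126) (tt N9017 F30859) (tt N9162 (iv F30861)) (tt N9569 F30860))
theorem Q9571 : ∀ i, i < 9571 → P i := stepQ 9570 Q9570 (allL N9570 (tt N9244 F30862) (tt N11029 (iv F36002)) (tt N7955 F30863) (tt N11030 D11127) (tt N7954 (iv D9667)) (tt N9022 F30864) (tt N9390 (iv F30866)) (tt N9570 F30865))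
theorem Q9572 : ∀ i, i < 9572 → P i := stepQ 9571 Q9571 (allL N9571 (tt N9268 F30867) (tt N9162 F30868) (tt N7956 F30869) (tt N10944 (iv F35667)) (tt N9390 F30870) (tt N9385 F30871) (tt N7954 (iv D9668)) (tt N9163 (iv F30872)))
theorem Q9573 : ∀ i, i < 9573 → P i := stepQ 9572 Q9572 (allL N9572 (tt N9573 (iv F30879)) (tt N9572 F30873) (tt N7959 F30874) (tt N9095 F30875) (tt N9572 F30876) (tt N7958 (iv D9669)) (tt N9572 F30877) (tt N9538 F30878))
theorem Q9574 : ∀ i, i < 9574 → P i := stepQ 9573 Q9573 (allL N9573 (tt N9572 F30879) (tt N9096 F30880) (tt N7960 F30881) (tt N9446 F30885) (tt N9573 F30882) (tt N9538 F30883) (tt N9573 F30884) (tt N7958 (iv D9670)))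
theorem Q9575 : ∀ i, i < 9575 → P i := stepQ 9574 Q9574 (allL N9574 (tt N11031 D11128) (tt N7961 (iv D9671)) (tt N9430 F30886) (tt N10948 (iv F35678)) (tt N8990 (iv F30889)) (tt N8988 F30887) (tt N10858 (iv F35352)) (tt N7972 F30888))
theorem Q9576 : ∀ i, i < 9576 → P i := stepQ 9575 Q9575 (allL N9575 (tt N9341 F30890) (tt N8990 F30891) (tt N7962 F30892) (tt N10430 (iv F33937)) (tt N7961 (iv D9672)) (tt N7964 F30893) (tt N9539 F30894) (tt N7973 F30895))
theorem Q9577 : ∀ i, i < 9577 → P i := stepQ 9576 Q9576 (allL N9576 (tt N7963 (iv D9673)) (tt N11009 (iv F35909)) (tt N9576 F30896) (tt N10775 (iv F35087)) (tt N9372 F30897) (tt N9369 F30898) (tt N11032 D11129) (tt N7977 F30899))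
theorem Q9578 : ∀ i, i < 9578 → P i := stepQ 9577 Q9577 (allL N9577 (tt N11032 (iv F36016)) (tt N7965 F30900) (tt N9577 F30901) (tt N10951 (iv F35690)) (tt N9410 F30902) (tt N11033 D11130) (tt N7963 (iv D9674)) (tt N9577 F30903))
theorem Q9579 : ∀ i, i < 9579 → P i := stepQ 9578 Q9578 (allL N9578 (tt N11012 (iv F35923)) (tt N9409 F30904) (tt N11030 (iv F36008)) (tt N7964 (iv D9675)) (tt N10952 (iv F35694)) (tt N10430 (iv F33938)) (tt N10443 (iv F33980)) (tt N9416 F30905))
theorem Q9580 : ∀ i, i < 9580 → P i := stepQ 9579 Q9579 (allL N9579 (tt N9580 (iv F30911)) (tt N9410 F30906) (tt N7966 F30907) (tt N10443 (iv F33979)) (tt N7965 F30908) (tt N9542 F30909) (tt N7964 (iv D9676)) (tt N9579 F30910))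
theorem Q9581 : ∀ i, i < 9581 → P i := stepQ 9580 Q9580 (allL N9580 (tt N9579 F30911) (tt N10228 (iv F33285)) (tt N7967 F30912) (tt N10954 (iv F35702)) (tt N9542 F30913) (tt N7965 (iv D9677)) (tt N9541 F30914) (tt N9580 F30915))
theorem Q9582 : ∀ i, i < 9582 → P i := stepQ 9581 Q9581 (allL N9581 (tt N9528 F30916) (tt N7969 (iv D9678)) (tt N7972 F30917) (tt N9581 F30918) (tt N8984 F30919) (tt N8982 F30922) (tt N9177 F30920) (tt N9430 F30921))
theorem Q9583 : ∀ i, i < 9583 → P i := stepQ 9582 Q9582 (allL N9582 (tt N7972 (iv D9679)) (tt N10178 (iv F33146)) (tt N9528 F30923) (tt N7978 F30924) (tt N8962 F30925) (tt N8961 F30926) (tt N10406 (iv F33872)) (tt N11031 (iv F36015)))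
theorem Q9584 : ∀ i, i < 9584 → P i := stepQ 9583 Q9583 (allL N9583 (tt N10406 (iv F33867)) (tt N7974 F30927) (tt N9177 F30928) (tt N7979 F30929) (tt N8472 F30930) (tt N8471 F30931) (tt N7972 (iv D9680)) (tt N8883 (iv F30932)))
theorem Q9585 : ∀ i, i < 9585 → P i := stepQ 9584 Q9584 (allL N9584 (tt N9585 (iv F30939)) (tt N8472 F30933) (tt N7975 F30934) (tt N8475 F30935) (tt N7974 F30936) (tt N9584 F30937) (tt N7973 (iv D9681)) (tt N9545 F30938))
theorem Q9586 : ∀ i, i < 9586 → P i := stepQ 9585 Q9585 (allL N9585 (tt N9584 F30939) (tt N8883 F30940) (tt N7976 F30941) (tt N8882 F30942) (tt N9545 F30943) (tt N9585 F30944) (tt N9544 F30945) (tt N7974 (iv D9682)))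
theorem Q9587 : ∀ i, i < 9587 → P i := stepQ 9586 Q9586 (allL N9586 (tt N7979 F30946) (tt N10405 (iv F33866)) (tt N9586 F30947) (tt N10406 (iv F33869)) (tt N8447 F30948) (tt N8101 F30949) (tt N7978 (iv D9683)) (tt N8398 (iv F30950)))
theorem Q9588 : ∀ i, i < 9588 → P i := stepQ 9587 Q9587 (allL N9587 (tt N8411 F30951) (tt N8483 F30952) (tt N7982 F30953) (tt N11034 D11131) (tt N7981 F30954) (tt N9587 F30955) (tt N8415 F30956) (tt N7980 (iv D9684)))
theorem Q9589 : ∀ i, i < 9589 → P i := stepQ 9588 Q9588 (allL N9588 (tt N8410 F30957) (tt N9588 F30958) (tt N10012 (iv F32485)) (tt N7982 (iv D9685)) (tt N9588 F30959) (tt N9588 F30960) (tt N8413 F30961) (tt N9588 F30962))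
theorem Q9590 : ∀ i, i < 9590 → P i := stepQ 9589 Q9589 (allL N9589 (tt N9733 (iv F31457)) (tt N9930 (iv F32159)) (tt N8706 F30963) (tt N9892 (iv F32041)) (tt N9932 (iv F32167)) (tt N7983 (iv D9686)) (tt N9621 (iv F31091)) (tt N8702 F30964))
theorem Q9591 : ∀ i, i < 9591 → P i := stepQ 9590 Q9590 (allL N9590 (tt N9877 (iv F31974)) (tt N7990 F30965) (tt N9600 (iv F31017)) (tt N7987 F30966) (tt N9816 (iv F31735)) (tt N9814 (iv F31720)) (tt N7986 (iv D9687)) (tt N9071 F30967))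
theorem Q9592 : ∀ i, i < 9592 → P i := stepQ 9591 Q9591 (allL N9591 (tt N9878 (iv F31981)) (tt N9815 (iv F31725)) (tt N7988 F30968) (tt N9814 F31723) (tt N9591 F30969) (tt N7987 (iv D9688)) (tt N9591 F30970) (tt N8414 F30971))
theorem Q9593 : ∀ i, i < 9593 → P i := stepQ 9592 Q9592 (allL N9592 (tt N9592 F30972) (tt N9816 (iv F31732)) (tt N9076 F30973) (tt N9592 F30974) (tt N7990 F30975) (tt N8287 F30976) (tt N7989 (iv D9689)) (tt N9073 F30977))
theorem Q9594 : ∀ i, i < 9594 → P i := stepQ 9593 Q9593 (allL N9593 (tt N9593 F30978) (tt N8288 F30984) (tt N9078 F30979) (tt N7991 F30980) (tt N8287 F30981) (tt N7990 (iv D9690)) (tt N7997 F30982) (tt N9074 F30983))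
theorem Q9595 : ∀ i, i < 9595 → P i := stepQ 9594 Q9594 (allL N9594 (tt N9594 F30985) (tt N8420 F30986) (tt N9040 F30987) (tt N7992 (iv D9691)) (tt N9501 (iv F30991)) (tt N9500 F30988) (tt N9594 F30989) (tt N9037 F30990))
theorem Q9596 : ∀ i, i < 9596 → P i := stepQ 9595 Q9595 (allL N9595 (tt N10031 (iv F32584)) (tt N9595 F30992) (tt N9964 (iv F32278)) (tt N9595 F30993) (tt N7999 (iv D9692)) (tt N8482 F30994) (tt N8003 F30995) (tt N10006 (iv F32455)))
theorem Q9597 : ∀ i, i < 9597 → P i := stepQ 9596 Q9596 (allL N9596 (tt N8106 F30996) (tt N9407 F30997) (tt N8020 F30998) (tt N8989 F30999) (tt N8014 F31000) (tt N11035 D11132) (tt N8008 (iv D9693)) (tt N10243 (iv F33335)))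
theorem Q9598 : ∀ i, i < 9598 → P i := stepQ 9597 Q9597 (allL N9597 (tt N8107 F31001) (tt N11036 D11133) (tt N8009 (iv D9694)) (tt N8021 F31002) (tt N8465 F31003) (tt N8983 F31004) (tt N11037 D11134) (tt N8463 F31005))
theorem Q9599 : ∀ i, i < 9599 → P i := stepQ 9598 Q9598 (allL N9598 (tt N8109 F31006) (tt N9598 F31007) (tt N11037 (iv F36048)) (tt N8010 F31008) (tt N8474 F31009) (tt N11038 D11135) (tt N8009 (iv D9695)) (tt N8657 F31010))
theorem Q9600 : ∀ i, i < 9600 → P i := stepQ 9599 Q9599 (allL N9599 (tt N8110 F31011) (tt N11039 D11136) (tt N8024 F31012) (tt N11038 (iv F36053)) (tt N8018 F31013) (tt N8010 (iv D9696)) (tt N11035 (iv F36038)) (tt N8654 F31014))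
theorem Q9601 : ∀ i, i < 9601 → P i := stepQ 9600 Q9600 (allL N9600 (tt N8319 F31015) (tt N8014 F31016) (tt N9590 F31017) (tt N8316 F31018) (tt N9407 F31019) (tt N11040 D11137) (tt N8012 (iv D9697)) (tt N10241 (iv F33329)))
theorem Q9602 : ∀ i, i < 9602 → P i := stepQ 9601 Q9601 (allL N9601 (tt N8117 F31020) (tt N8316 F31021) (tt N8315 F31022) (tt N8014 F31023) (tt N8797 F31024) (tt N11041 D11138) (tt N8013 (iv D9698)) (tt N9910 (iv F32108)))
theorem Q9603 : ∀ i, i < 9603 → P i := stepQ 9602 Q9602 (allL N9602 (tt N8118 F31025) (tt N11042 D11139) (tt N8025 F31026) (tt N11041 (iv F36072)) (tt N11035 (iv F36037)) (tt N8014 (iv D9699)) (tt N8018 F31027) (tt N10244 (iv F33338)))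
theorem Q9604 : ∀ i, i < 9604 → P i := stepQ 9603 Q9603 (allL N9603 (tt N8119 F31028) (tt N8301 F31029) (tt N8016 F31030) (tt N9916 (iv F32124)) (tt N8015 (iv D9700)) (tt N8313 F31031) (tt N11043 D11140) (tt N8265 F31032))
theorem Q9605 : ∀ i, i < 9605 → P i := stepQ 9604 Q9604 (allL N9604 (tt N8120 F31033) (tt N8302 F31034) (tt N8017 F31035) (tt N8027 F31036) (tt N11043 (iv F36084)) (tt N11044 D11141) (tt N8015 (iv D9701)) (tt N11045 D11142))
theorem Q9606 : ∀ i, i < 9606 → P i := stepQ 9605 Q9605 (allL N9605 (tt N8121 F31037) (tt N9605 F31038) (tt N11043 (iv F36083)) (tt N8474 F31039) (tt N8017 F31040) (tt N11046 D11143) (tt N8016 (iv D9702)) (tt N10407 (iv F33878)))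
theorem Q9607 : ∀ i, i < 9607 → P i := stepQ 9606 Q9606 (allL N9606 (tt N8122 F31041) (tt N11047 D11144) (tt N11044 (iv F36086)) (tt N8018 F31042) (tt N11046 (iv F36096)) (tt N8017 (iv D9703)) (tt N11041 (iv F36074)) (tt N11048 D11145))
theorem Q9608 : ∀ i, i < 9608 → P i := stepQ 9607 Q9607 (allL N9607 (tt N8123 F31043) (tt N9607 F31044) (tt N11045 (iv F36091)) (tt N9120 F31045) (tt N10407 (iv F33876)) (tt N11048 (iv F36102)) (tt N8504 F31046) (tt N8017 (iv D9704)))
theorem Q9609 : ∀ i, i < 9609 → P i := stepQ 9608 Q9608 (allL N9608 (tt N11049 D11146) (tt N8018 (iv D9705)) (tt N11050 D11147) (tt N11047 (iv F36098)) (tt N11039 (iv F36058)) (tt N9608 F31047) (tt N11042 (iv F36078)) (tt N9871 (iv F31953)))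
theorem Q9610 : ∀ i, i < 9610 → P i := stepQ 9609 Q9609 (allL N9609 (tt N8127 F31048) (tt N9609 F31049) (tt N8019 (iv D9706)) (tt N8983 F31050) (tt N10273 (iv F33420)) (tt N8021 F31051) (tt N11051 D11148) (tt N9609 F31052))
theorem Q9611 : ∀ i, i < 9611 → P i := stepQ 9610 Q9610 (allL N9610 (tt N8129 F31053) (tt N10591 (iv F34515)) (tt N11051 (iv F36115)) (tt N8020 F31054) (tt N10252 (iv F33368)) (tt N11052 D11149) (tt N8019 (iv D9707)) (tt N11053 D11150))
theorem Q9612 : ∀ i, i < 9612 → P i := stepQ 9611 Q9611 (allL N9611 (tt N8130 F31055) (tt N9863 (iv F31912)) (tt N11035 (iv F36035)) (tt N11052 (iv F36119)) (tt N8025 F31056) (tt N8020 (iv D9708)) (tt N8024 F31057) (tt N10245 (iv F33341)))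
theorem Q9613 : ∀ i, i < 9613 → P i := stepQ 9612 Q9612 (allL N9612 (tt N9612 F31058) (tt N8021 (iv D9709)) (tt N8032 F31059) (tt N11036 (iv F36041)) (tt N10011 (iv F32481)) (tt N9612 F31060) (tt N9499 (iv F31062)) (tt N9612 F31061))
theorem Q9614 : ∀ i, i < 9614 → P i := stepQ 9613 Q9613 (allL N9613 (tt N8131 F31063) (tt N10011 (iv F32480)) (tt N8022 F31064) (tt N11054 D11151) (tt N8021 (iv D9710)) (tt N10273 (iv F33421)) (tt N11055 D11152) (tt N9613 F31065))
theorem Q9615 : ∀ i, i < 9615 → P i := stepQ 9614 Q9614 (allL N9614 (tt N8132 F31066) (tt N9499 F31067) (tt N8023 F31068) (tt N11037 (iv F36049)) (tt N11055 (iv F36138)) (tt N11056 D11153) (tt N8021 (iv D9711)) (tt N9495 (iv F31069)))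
theorem Q9616 : ∀ i, i < 9616 → P i := stepQ 9615 Q9615 (allL N9615 (tt N8133 F31070) (tt N8033 F31071) (tt N11055 (iv F36136)) (tt N8028 F31072) (tt N8023 F31073) (tt N11057 D11154) (tt N8022 (iv D9712)) (tt N9496 (iv F31074)))
theorem Q9617 : ∀ i, i < 9617 → P i := stepQ 9616 Q9616 (allL N9616 (tt N8134 F31075) (tt N11058 D11155) (tt N11056 (iv F36141)) (tt N8024 F31076) (tt N11057 (iv F36145)) (tt N8023 (iv D9713)) (tt N11052 (iv F36120)) (tt N9497 F31077))
theorem Q9618 : ∀ i, i < 9618 → P i := stepQ 9617 Q9617 (allL N9617 (tt N9864 (iv F31914)) (tt N8024 (iv D9714)) (tt N9865 (iv F31921)) (tt N11058 (iv F36147)) (tt N8030 F31078) (tt N8035 F31079) (tt N9863 F31911) (tt N9181 F31080))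
theorem Q9619 : ∀ i, i < 9619 → P i := stepQ 9618 Q9618 (allL N9618 (tt N9865 (iv F31919)) (tt N8025 (iv D9715)) (tt N9864 (iv F31916)) (tt N9838 (iv F31829)) (tt N9863 (iv F31913)) (tt N9867 (iv F31934)) (tt N8030 F31081) (tt N10246 (iv F33344)))
theorem Q9620 : ∀ i, i < 9620 → P i := stepQ 9619 Q9619 (allL N9619 (tt N8145 F31082) (tt N8338 F31083) (tt N11054 (iv F36129)) (tt N8026 (iv D9716)) (tt N9916 (iv F32125)) (tt N8354 F31084) (tt N11059 D11156) (tt N9879 (iv F31990)))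
theorem Q9621 : ∀ i, i < 9621 → P i := stepQ 9620 Q9620 (allL N9620 (tt N8146 F31085) (tt N8345 F31086) (tt N8028 F31087) (tt N11059 (iv F36153)) (tt N8027 F31088) (tt N11060 D11157) (tt N8026 (iv D9717)) (tt N9832 (iv F31805)))
theorem Q9622 : ∀ i, i < 9622 → P i := stepQ 9621 Q9621 (allL N9621 (tt N8147 F31089) (tt N11061 D11158) (tt N8029 F31090) (tt N11044 (iv F36087)) (tt N11060 (iv F36160)) (tt N8027 (iv D9718)) (tt N9589 F31091) (tt N9837 (iv F31826)))
theorem Q9623 : ∀ i, i < 9623 → P i := stepQ 9622 Q9622 (allL N9622 (tt N8149 F31092) (tt N9830 (iv F31794)) (tt N11060 (iv F36158)) (tt N11057 (iv F36144)) (tt N8029 F31093) (tt N8028 (iv D9719)) (tt N10251 (iv F33365)) (tt N9829 F31792))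
theorem Q9624 : ∀ i, i < 9624 → P i := stepQ 9623 Q9623 (allL N9623 (tt N9863 (iv F31909)) (tt N11050 (iv F36109)) (tt N8030 (iv D9720)) (tt N11062 D11159) (tt N9865 (iv F31923)) (tt N8036 F31094) (tt N9864 F31918) (tt N9874 (iv F31961)))
theorem Q9625 : ∀ i, i < 9625 → P i := stepQ 9624 Q9624 (allL N9624 (tt N9852 (iv F31877)) (tt N8034 (iv D9721)) (tt N10034 (iv F32603)) (tt N8035 F31095) (tt N9831 (iv F31800)) (tt N11058 (iv F36148)) (tt N10001 (iv F32431)) (tt N9485 F31096))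
theorem Q9626 : ∀ i, i < 9626 → P i := stepQ 9625 Q9625 (allL N9625 (tt N9860 (iv F31899)) (tt N9625 F31097) (tt N9836 (iv F31820)) (tt N8036 (iv D9722)) (tt N10028 (iv F32572)) (tt N11062 (iv F36166)) (tt N10006 (iv F32454)) (tt N10115 (iv F32896)))
theorem Q9627 : ∀ i, i < 9627 → P i := stepQ 9626 Q9626 (allL N9626 (tt N9805 (iv F31678)) (tt N8038 (iv D9723)) (tt N10605 (iv F34571)) (tt N9233 F31098) (tt N9631 (iv F31115)) (tt N8045 F31099) (tt N9098 F31100) (tt N8262 (iv F31101)))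
theorem Q9628 : ∀ i, i < 9628 → P i := stepQ 9627 Q9627 (allL N9627 (tt N8041 F31102) (tt N8262 F31103) (tt N8534 F31104) (tt N8244 (iv F31106)) (tt N9632 (iv F31123)) (tt N8039 F31105) (tt N10595 (iv F34531)) (tt N8038 (iv D9724)))
theorem Q9629 : ∀ i, i < 9629 → P i := stepQ 9628 Q9628 (allL N9628 (tt N9778 (iv F31593)) (tt N8041 F31107) (tt N10328 (iv F33579)) (tt N9772 (iv F31577)) (tt N8098 F31108) (tt N8043 F31109) (tt N10597 (iv F34542)) (tt N8040 (iv D9725)))
theorem Q9630 : ∀ i, i < 9630 → P i := stepQ 9629 Q9629 (allL N9629 (tt N8244 F31110) (tt N9772 (iv F31576)) (tt N10345 (iv F33627)) (tt N8041 (iv D9726)) (tt N10353 (iv F33653)) (tt N8042 F31111) (tt N11063 D11160) (tt N9771 F31574))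
theorem Q9631 : ∀ i, i < 9631 → P i := stepQ 9630 Q9630 (allL N9630 (tt N10595 F34532) (tt N10597 (iv F34539)) (tt N8543 F31112) (tt N11063 (iv F36168)) (tt N9635 (iv F31133)) (tt N9630 F31113) (tt N8041 (iv D9727)) (tt N10104 (iv F32856)))
theorem Q9632 : ∀ i, i < 9632 → P i := stepQ 9631 Q9631 (allL N9631 (tt N9645 (iv F31174)) (tt N8047 (iv D9728)) (tt N10614 (iv F34597)) (tt N8257 F31114) (tt N9626 F31115) (tt N8049 F31116) (tt N8556 F31117) (tt N8290 (iv F31118)))
theorem Q9633 : ∀ i, i < 9633 → P i := stepQ 9632 Q9632 (allL N9632 (tt N8051 F31119) (tt N8290 F31120) (tt N8693 F31121) (tt N8295 F31122) (tt N9627 F31123) (tt N8048 F31124) (tt N10640 (iv F34681)) (tt N8047 (iv D9729)))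
theorem Q9634 : ∀ i, i < 9634 → P i := stepQ 9633 Q9633 (allL N9633 (tt N9115 F31125) (tt N10606 (iv F34575)) (tt N8260 F31126) (tt N8050 (iv D9730)) (tt N11064 D11161) (tt N8558 F31127) (tt N10615 (iv F34604)) (tt N8646 F31128))
theorem Q9635 : ∀ i, i < 9635 → P i := stepQ 9634 Q9634 (allL N9634 (tt N8295 F31129) (tt N9646 (iv F31179)) (tt N11065 D11162) (tt N8051 (iv D9731)) (tt N10666 (iv F34759)) (tt N8052 F31130) (tt N11066 D11163) (tt N8282 F31131))
theorem Q9636 : ∀ i, i < 9636 → P i := stepQ 9635 Q9635 (allL N9635 (tt N10640 (iv F34676)) (tt N9680 (iv F31292)) (tt N9518 F31132) (tt N11066 (iv F36182)) (tt N9630 F31133) (tt N9635 F31134) (tt N8051 (iv D9732)) (tt N8565 F31135))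
theorem Q9637 : ∀ i, i < 9637 → P i := stepQ 9636 Q9636 (allL N9636 (tt N8296 F31136) (tt N9075 F31137) (tt N8052 (iv D9733)) (tt N9515 F31138) (tt N9077 F31139) (tt N11065 (iv F36178)) (tt N9636 F31140) (tt N8284 F31141))
theorem Q9638 : ∀ i, i < 9638 → P i := stepQ 9637 Q9637 (allL N9637 (tt N9870 (iv F31946)) (tt N8662 F31142) (tt N8821 F31143) (tt N8054 (iv D9734)) (tt N11067 D11164) (tt N8114 F31144) (tt N10769 (iv F35069)) (tt N8574 F31145))
theorem Q9639 : ∀ i, i < 9639 → P i := stepQ 9638 Q9638 (allL N9638 (tt N9140 F31146) (tt N8663 F31147) (tt N8058 F31148) (tt N10769 (iv F35068)) (tt N8668 F31149) (tt N11068 D11165) (tt N8054 (iv D9735)) (tt N8055 F31150))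
theorem Q9640 : ∀ i, i < 9640 → P i := stepQ 9639 Q9639 (allL N9639 (tt N9139 F31151) (tt N11069 D11166) (tt N8059 F31152) (tt N8789 F31153) (tt N8669 F31154) (tt N8055 (iv D9736)) (tt N8057 F31155) (tt N11068 (iv F36193)))
theorem Q9641 : ∀ i, i < 9641 → P i := stepQ 9640 Q9640 (allL N9640 (tt N9119 F31156) (tt N10221 (iv F33261)) (tt N8764 F31157) (tt N8057 F31158) (tt N10224 (iv F33276)) (tt N8056 (iv D9737)) (tt N8789 F31159) (tt N10220 F33260))
theorem Q9642 : ∀ i, i < 9642 → P i := stepQ 9641 Q9641 (allL N9641 (tt N11070 D11167) (tt N8057 (iv D9738)) (tt N11071 D11168) (tt N10221 (iv F33262)) (tt N8889 F31160) (tt N8323 F31161) (tt N11069 (iv F36197)) (tt N8124 F31162))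
theorem Q9643 : ∀ i, i < 9643 → P i := stepQ 9642 Q9642 (allL N9642 (tt N9872 (iv F31954)) (tt N11072 D11169) (tt N11068 (iv F36190)) (tt N8832 F31163) (tt N9032 F31164) (tt N8058 (iv D9739)) (tt N8137 F31165) (tt N8059 F31166))
theorem Q9644 : ∀ i, i < 9644 → P i := stepQ 9643 Q9643 (allL N9643 (tt N11073 D11170) (tt N8059 (iv D9740)) (tt N11074 D11171) (tt N10596 (iv F34533)) (tt N9034 F31167) (tt N9025 F31168) (tt N8062 F31169) (tt N11072 (iv F36209)))
theorem Q9645 : ∀ i, i < 9645 → P i := stepQ 9644 Q9644 (allL N9644 (tt N8098 F31170) (tt N8060 (iv D9741)) (tt N11075 D11172) (tt N8062 F31171) (tt N9778 (iv F31595)) (tt N8065 F31172) (tt N10596 (iv F34536)) (tt N8094 (iv F31173)))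
theorem Q9646 : ∀ i, i < 9646 → P i := stepQ 9645 Q9645 (allL N9645 (tt N9631 F31174) (tt N8094 F31175) (tt N10607 (iv F34578)) (tt N8151 F31176) (tt N9805 (iv F31680)) (tt N8061 F31177) (tt N8644 F31178) (tt N8060 (iv D9742)))
theorem Q9647 : ∀ i, i < 9647 → P i := stepQ 9646 Q9646 (allL N9646 (tt N8062 (iv D9743)) (tt N9634 F31179) (tt N11076 D11173) (tt N8098 F31180) (tt N9184 F31181) (tt N8066 F31182) (tt N11073 (iv F36214)) (tt N8152 F31183))
theorem Q9648 : ∀ i, i < 9648 → P i := stepQ 9647 Q9647 (allL N9647 (tt N11076 (iv F36221)) (tt N11071 (iv F36201)) (tt N8062 (iv D9744)) (tt N11077 D11174) (tt N9185 F31184) (tt N8067 F31185) (tt N11074 (iv F36217)) (tt N8153 F31186))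
theorem Q9649 : ∀ i, i < 9649 → P i := stepQ 9648 Q9648 (allL N9648 (tt N8728 F31187) (tt N10695 (iv F34847)) (tt N8750 F31188) (tt N8332 F31189) (tt N9653 (iv F31208)) (tt N8063 (iv D9745)) (tt N8724 F31190) (tt N11078 D11175))
theorem Q9650 : ∀ i, i < 9650 → P i := stepQ 9649 Q9649 (allL N9649 (tt N8729 F31191) (tt N8064 F31192) (tt N8751 F31193) (tt N9931 (iv F32164)) (tt N9654 (iv F31214)) (tt N11078 (iv F36230)) (tt N8070 F31194) (tt N8063 (iv D9746)))
theorem Q9651 : ∀ i, i < 9651 → P i := stepQ 9650 Q9650 (allL N9650 (tt N8097 F31195) (tt N8676 F31196) (tt N8065 (iv D9747)) (tt N11079 D11176) (tt N9780 (iv F31603)) (tt N11075 (iv F36219)) (tt N8365 F31197) (tt N8093 F31198))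
theorem Q9652 : ∀ i, i < 9652 → P i := stepQ 9651 Q9651 (allL N9651 (tt N8067 F31199) (tt N10977 (iv F35779)) (tt N8066 (iv D9748)) (tt N11080 D11177) (tt N9188 F31200) (tt N11076 (iv F36223)) (tt N8384 F31201) (tt N8170 F31202))
theorem Q9653 : ∀ i, i < 9653 → P i := stepQ 9652 Q9652 (allL N9652 (tt N11080 (iv F36237)) (tt N8337 F31203) (tt N11079 (iv F36234)) (tt N8067 (iv D9749)) (tt N11081 D11178) (tt N11077 (iv F36225)) (tt N9180 F31204) (tt N11082 D11179))
theorem Q9654 : ∀ i, i < 9654 → P i := stepQ 9653 Q9653 (allL N9653 (tt N8069 F31205) (tt N11083 D11180) (tt N8742 F31206) (tt N8076 F31207) (tt N9648 F31208) (tt N8068 (iv D9750)) (tt N8709 F31209) (tt N11084 D11181))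
theorem Q9655 : ∀ i, i < 9655 → P i := stepQ 9654 Q9654 (allL N9654 (tt N8070 F31210) (tt N8089 F31211) (tt N8743 F31212) (tt N8088 F31213) (tt N9649 F31214) (tt N11084 (iv F36258)) (tt N8729 F31215) (tt N8068 (iv D9751)))
theorem Q9656 : ∀ i, i < 9656 → P i := stepQ 9655 Q9655 (allL N9655 (tt N11084 (iv F36253)) (tt N8076 F31216) (tt N10305 (iv F33516)) (tt N11083 (iv F36248)) (tt N10279 (iv F33443)) (tt N8070 F31217) (tt N11085 D11182) (tt N8069 (iv D9752)))
theorem Q9657 : ∀ i, i < 9657 → P i := stepQ 9656 Q9656 (allL N9656 (tt N8088 F31218) (tt N8072 F31219) (tt N10210 (iv F33236)) (tt N8070 (iv D9753)) (tt N9206 (iv F31221)) (tt N11083 (iv F36250)) (tt N9931 (iv F32166)) (tt N8084 F31220))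
theorem Q9658 : ∀ i, i < 9658 → P i := stepQ 9657 Q9657 (allL N9657 (tt N8078 F31222) (tt N8678 F31223) (tt N8603 F31224) (tt N9747 (iv F31492)) (tt N8075 F31225) (tt N11086 D11183) (tt N8073 (iv D9754)) (tt N11087 D11184))
theorem Q9659 : ∀ i, i < 9659 → P i := stepQ 9658 Q9658 (allL N9658 (tt N8079 F31226) (tt N10279 (iv F33441)) (tt N8604 F31227) (tt N9907 (iv F32099)) (tt N8076 F31228) (tt N8074 (iv D9755)) (tt N11086 (iv F36265)) (tt N9202 F31229))
theorem Q9660 : ∀ i, i < 9660 → P i := stepQ 9659 Q9659 (allL N9659 (tt N8080 F31230) (tt N11085 (iv F36259)) (tt N8605 F31231) (tt N8709 F31232) (tt N11086 (iv F36264)) (tt N8075 (iv D9756)) (tt N8076 F31233) (tt N11088 D11185))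
theorem Q9661 : ∀ i, i < 9661 → P i := stepQ 9660 Q9660 (allL N9660 (tt N8081 F31234) (tt N8680 F31235) (tt N8606 F31236) (tt N11089 D11186) (tt N11087 (iv F36269)) (tt N11088 (iv F36273)) (tt N8346 F31237) (tt N8075 (iv D9757)))
theorem Q9662 : ∀ i, i < 9662 → P i := stepQ 9661 Q9661 (allL N9661 (tt N9907 (iv F32098)) (tt N10058 (iv F32692)) (tt N9774 (iv F31583)) (tt N8079 F31238) (tt N9751 (iv F31510)) (tt N8077 (iv D9758)) (tt N9750 (iv F31506)) (tt N11090 D11187))
theorem Q9663 : ∀ i, i < 9663 → P i := stepQ 9662 Q9662 (allL N9662 (tt N9884 (iv F32004)) (tt N8086 F31239) (tt N9775 (iv F31587)) (tt N8359 F31240) (tt N9752 (iv F31515)) (tt N11090 (iv F36281)) (tt N8354 F31241) (tt N8077 (iv D9759)))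
theorem Q9664 : ∀ i, i < 9664 → P i := stepQ 9663 Q9663 (allL N9663 (tt N11086 (iv F36262)) (tt N10046 (iv F32653)) (tt N8612 F31242) (tt N9750 (iv F31504)) (tt N8080 F31243) (tt N8078 (iv D9760)) (tt N8079 F31244) (tt N11091 D11188))
theorem Q9665 : ∀ i, i < 9665 → P i := stepQ 9664 Q9664 (allL N9664 (tt N11087 (iv F36266)) (tt N9755 (iv F31521)) (tt N8613 F31245) (tt N11092 D11189) (tt N8081 F31246) (tt N11091 (iv F36285)) (tt N8347 F31247) (tt N8078 (iv D9761)))
theorem Q9666 : ∀ i, i < 9666 → P i := stepQ 9665 Q9665 (allL N9665 (tt N9673 (iv F31266)) (tt N8079 (iv D9762)) (tt N10044 (iv F32645)) (tt N10058 (iv F32694)) (tt N8082 F31248) (tt N8087 F31249) (tt N10046 (iv F32657)) (tt N9205 F31250))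
theorem Q9667 : ∀ i, i < 9667 → P i := stepQ 9666 Q9666 (allL N9666 (tt N10215 (iv F33244)) (tt N8080 (iv D9763)) (tt N9845 (iv F31856)) (tt N9844 (iv F31852)) (tt N10046 (iv F32656)) (tt N9843 (iv F31848)) (tt N8082 F31251) (tt N11093 D11190))
theorem Q9668 : ∀ i, i < 9668 → P i := stepQ 9667 Q9667 (allL N9667 (tt N11088 (iv F36271)) (tt N11093 (iv F36290)) (tt N8616 F31252) (tt N11094 D11191) (tt N11091 (iv F36284)) (tt N8081 F31253) (tt N11095 D11192) (tt N8080 (iv D9764)))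
theorem Q9669 : ∀ i, i < 9669 → P i := stepQ 9668 Q9668 (allL N9668 (tt N11089 (iv F36274)) (tt N10285 (iv F33454)) (tt N10868 (iv F35391)) (tt N8081 (iv D9765)) (tt N11096 D11193) (tt N11094 (iv F36291)) (tt N8349 F31254) (tt N10278 (iv F33440)))
theorem Q9670 : ∀ i, i < 9670 → P i := stepQ 9669 Q9669 (allL N9669 (tt N8082 (iv D9766)) (tt N11084 (iv F36254)) (tt N10209 (iv F33230)) (tt N8083 F31255) (tt N9673 (iv F31269)) (tt N8084 F31256) (tt N10215 (iv F33248)) (tt N11083 F36252))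
theorem Q9671 : ∀ i, i < 9671 → P i := stepQ 9670 Q9670 (allL N9670 (tt N11083 (iv F36247)) (tt N8083 F31257) (tt N10341 (iv F33615)) (tt N11084 (iv F36256)) (tt N9205 F31258) (tt N8088 F31259) (tt N11097 D11194) (tt N8082 (iv D9767)))
theorem Q9672 : ∀ i, i < 9672 → P i := stepQ 9671 Q9671 (allL N9671 (tt N9844 (iv F31849)) (tt N11097 (iv F36298)) (tt N8620 F31260) (tt N10215 (iv F33246)) (tt N9203 F31261) (tt N8350 F31262) (tt N8083 (iv D9768)) (tt N11095 (iv F36295)))
theorem Q9673 : ∀ i, i < 9673 → P i := stepQ 9672 Q9672 (allL N9672 (tt N9931 (iv F32162)) (tt N8090 F31263) (tt N10343 (iv F33622)) (tt N8729 F31264) (tt N8334 F31265) (tt N11098 D11195) (tt N8088 (iv D9769)) (tt N9891 (iv F32039)))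
theorem Q9674 : ∀ i, i < 9674 → P i := stepQ 9673 Q9673 (allL N9673 (tt N9665 F31266) (tt N11078 (iv F36227)) (tt N8675 F31267) (tt N8702 F31268) (tt N9669 F31269) (tt N8092 (iv D9770)) (tt N8679 F31270) (tt N10695 (iv F34851)))
theorem Q9675 : ∀ i, i < 9675 → P i := stepQ 9674 Q9674 (allL N9674 (tt N8096 F31271) (tt N11099 D11196) (tt N8094 F31272) (tt N8669 F31273) (tt N9806 (iv F31686)) (tt N8093 (iv D9771)) (tt N8642 F31274) (tt N11075 (iv F36220)))
theorem Q9676 : ∀ i, i < 9676 → P i := stepQ 9675 Q9675 (allL N9675 (tt N8669 F31275) (tt N11100 D11197) (tt N9029 F31276) (tt N8096 F31277) (tt N9139 F31278) (tt N8095 (iv D9772)) (tt N8654 F31279) (tt N11101 D11198))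
theorem Q9677 : ∀ i, i < 9677 → P i := stepQ 9676 Q9676 (allL N9676 (tt N8668 F31280) (tt N9142 F31281) (tt N9028 F31282) (tt N11102 D11199) (tt N9140 F31283) (tt N11101 (iv F36316)) (tt N8666 F31284) (tt N8095 (iv D9773)))
theorem Q9678 : ∀ i, i < 9678 → P i := stepQ 9677 Q9677 (allL N9677 (tt N11103 D11200) (tt N8096 (iv D9774)) (tt N8535 F31285) (tt N11100 (iv F36309)) (tt N8540 F31286) (tt N8547 F31287) (tt N8655 F31288) (tt N10739 (iv F34986)))
theorem Q9679 : ∀ i, i < 9679 → P i := stepQ 9678 Q9678 (allL N9678 (tt N11075 (iv F36218)) (tt N10739 (iv F34983)) (tt N8098 F31289) (tt N11104 D11201) (tt N10328 (iv F33580)) (tt N8097 F31290) (tt N11105 D11202) (tt N8096 (iv D9775)))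
theorem Q9680 : ∀ i, i < 9680 → P i := stepQ 9679 Q9679 (allL N9679 (tt N11079 (iv F36232)) (tt N10333 (iv F33591)) (tt N11080 (iv F36238)) (tt N8097 (iv D9776)) (tt N11106 D11203) (tt N11104 (iv F36325)) (tt N8381 F31291) (tt N11102 (iv F36320)))
theorem Q9681 : ∀ i, i < 9681 → P i := stepQ 9680 Q9680 (allL N9680 (tt N10596 F34538) (tt N9635 F31292) (tt N11105 (iv F36326)) (tt N11073 (iv F36211)) (tt N10597 (iv F34540)) (tt N8383 F31293) (tt N8098 (iv D9777)) (tt N8659 F31294))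
theorem Q9682 : ∀ i, i < 9682 → P i := stepQ 9681 Q9681 (allL N9681 (tt N9001 F31295) (tt N8566 F31296) (tt N9681 F31297) (tt N11107 D11204) (tt N8573 F31298) (tt N8112 F31299) (tt N8970 F31300) (tt N8099 (iv D9778)))
theorem Q9683 : ∀ i, i < 9683 → P i := stepQ 9682 Q9682 (allL N9682 (tt N8471 F31301) (tt N8387 F31302) (tt N9178 F31303) (tt N8101 F31304) (tt N8440 F31305) (tt N10406 (iv F33871)) (tt N8100 (iv D9779)) (tt N8864 (iv F31306)))
theorem Q9684 : ∀ i, i < 9684 → P i := stepQ 9683 Q9683 (allL N9683 (tt N9007 F31307) (tt N8104 F31308) (tt N9683 F31309) (tt N11108 D11205) (tt N8112 F31310) (tt N8573 F31311) (tt N11109 D11206) (tt N8102 (iv D9780)))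
theorem Q9685 : ∀ i, i < 9685 → P i := stepQ 9684 Q9684 (allL N9684 (tt N8370 F31312) (tt N8105 F31313) (tt N9367 (iv F31317)) (tt N8103 (iv D9781)) (tt N8360 F31314) (tt N8389 F31315) (tt N11110 D11207) (tt N8567 F31316))
theorem Q9686 : ∀ i, i < 9686 → P i := stepQ 9685 Q9685 (allL N9685 (tt N8376 F31318) (tt N8106 F31319) (tt N9685 F31320) (tt N11110 (iv F36349)) (tt N8113 F31321) (tt N11111 D11208) (tt N8103 (iv D9782)) (tt N11109 (iv F36345)))
theorem Q9687 : ∀ i, i < 9687 → P i := stepQ 9686 Q9686 (allL N9686 (tt N10242 (iv F33330)) (tt N11108 (iv F36336)) (tt N11112 D11209) (tt N8104 (iv D9783)) (tt N11113 D11210) (tt N8667 F31322) (tt N11114 D11211) (tt N11107 (iv F36334)))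
theorem Q9688 : ∀ i, i < 9688 → P i := stepQ 9687 Q9687 (allL N9687 (tt N10243 (iv F33332)) (tt N11109 (iv F36341)) (tt N8126 F31323) (tt N11114 (iv F36361)) (tt N8115 F31324) (tt N11115 D11212) (tt N8104 (iv D9784)) (tt N8106 F31325))
theorem Q9689 : ∀ i, i < 9689 → P i := stepQ 9688 Q9688 (allL N9688 (tt N8989 F31326) (tt N11110 (iv F36347)) (tt N9534 F31327) (tt N8106 F31328) (tt N8964 F31329) (tt N11116 D11213) (tt N8105 (iv D9785)) (tt N11117 D11214))
theorem Q9690 : ∀ i, i < 9690 → P i := stepQ 9689 Q9689 (allL N9689 (tt N11035 (iv F36033)) (tt N11118 D11215) (tt N8130 F31330) (tt N11116 (iv F36368)) (tt N8118 F31331) (tt N8106 (iv D9786)) (tt N8110 F31332) (tt N11115 (iv F36365)))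
theorem Q9691 : ∀ i, i < 9691 → P i := stepQ 9690 Q9690 (allL N9690 (tt N11037 (iv F36046)) (tt N9690 F31333) (tt N8109 F31334) (tt N8132 F31335) (tt N9512 F31336) (tt N11119 D11216) (tt N8107 (iv D9787)) (tt N8837 F31337))
theorem Q9692 : ∀ i, i < 9692 → P i := stepQ 9691 Q9691 (allL N9691 (tt N8474 F31338) (tt N8394 F31339) (tt N9512 F31340) (tt N8121 F31341) (tt N8109 F31342) (tt N11120 D11217) (tt N8108 (iv D9788)) (tt N10383 (iv F33763)))
theorem Q9693 : ∀ i, i < 9693 → P i := stepQ 9692 Q9692 (allL N9692 (tt N11038 (iv F36052)) (tt N11121 D11218) (tt N11119 (iv F36380)) (tt N8110 F31343) (tt N11120 (iv F36388)) (tt N8109 (iv D9789)) (tt N11116 (iv F36370)) (tt N11122 D11219))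
theorem Q9694 : ∀ i, i < 9694 → P i := stepQ 9693 Q9693 (allL N9693 (tt N8657 F31344) (tt N8396 F31345) (tt N8837 F31346) (tt N8643 F31347) (tt N10383 (iv F33761)) (tt N11122 (iv F36395)) (tt N8864 F31348) (tt N8109 (iv D9790)))
theorem Q9695 : ∀ i, i < 9695 → P i := stepQ 9694 Q9694 (allL N9694 (tt N11123 D11220) (tt N8110 (iv D9791)) (tt N11124 D11221) (tt N11121 (iv F36390)) (tt N8124 F31349) (tt N8397 F31350) (tt N11118 (iv F36379)) (tt N8889 F31351))
theorem Q9696 : ∀ i, i < 9696 → P i := stepQ 9695 Q9695 (allL N9695 (tt N8112 F31352) (tt N10239 (iv F33320)) (tt N9695 F31353) (tt N11125 D11222) (tt N9007 F31354) (tt N9001 F31355) (tt N8378 F31356) (tt N8111 (iv D9792)))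
theorem Q9697 : ∀ i, i < 9697 → P i := stepQ 9696 Q9696 (allL N9696 (tt N11125 (iv F36408)) (tt N8114 F31357) (tt N11126 D11223) (tt N8112 (iv D9793)) (tt N11127 D11224) (tt N11107 (iv F36332)) (tt N11128 D11225) (tt N8667 F31358))
theorem Q9698 : ∀ i, i < 9698 → P i := stepQ 9697 Q9697 (allL N9697 (tt N8378 F31359) (tt N8115 F31360) (tt N9697 F31361) (tt N11128 (iv F36421)) (tt N11109 (iv F36343)) (tt N10968 (iv F35749)) (tt N8112 (iv D9794)) (tt N8113 F31362))
theorem Q9699 : ∀ i, i < 9699 → P i := stepQ 9698 Q9698 (allL N9698 (tt N8377 F31363) (tt N11129 D11226) (tt N9698 F31364) (tt N8364 F31365) (tt N11111 (iv F36353)) (tt N8113 (iv D9795)) (tt N8398 F31366) (tt N10968 (iv F35750)))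
theorem Q9700 : ∀ i, i < 9700 → P i := stepQ 9699 Q9699 (allL N9699 (tt N10203 (iv F33219)) (tt N11127 (iv F36416)) (tt N10041 (iv F32634)) (tt N11113 (iv F36359)) (tt N8114 (iv D9796)) (tt N11067 (iv F36187)) (tt N11130 D11227) (tt N8671 F31367))
theorem Q9701 : ∀ i, i < 9701 → P i := stepQ 9700 Q9700 (allL N9700 (tt N10204 (iv F33222)) (tt N11128 (iv F36419)) (tt N10042 (iv F32637)) (tt N8115 F31368) (tt N11130 (iv F36430)) (tt N11131 D11228) (tt N8114 (iv D9797)) (tt N11132 D11229))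
theorem Q9702 : ∀ i, i < 9702 → P i := stepQ 9701 Q9701 (allL N9701 (tt N10244 (iv F33336)) (tt N11133 D11230) (tt N8137 F31369) (tt N11131 (iv F36431)) (tt N11115 (iv F36363)) (tt N8115 (iv D9798)) (tt N11068 (iv F36192)) (tt N8118 F31370))
theorem Q9703 : ∀ i, i < 9703 → P i := stepQ 9702 Q9702 (allL N9702 (tt N8797 F31371) (tt N8361 F31372) (tt N8355 F31373) (tt N8964 F31374) (tt N8117 F31375) (tt N11134 D11231) (tt N8116 (iv D9799)) (tt N11135 D11232))
theorem Q9704 : ∀ i, i < 9704 → P i := stepQ 9703 Q9703 (allL N9703 (tt N11041 (iv F36070)) (tt N11136 D11233) (tt N8357 F31376) (tt N8118 F31377) (tt N11134 (iv F36443)) (tt N8117 (iv D9800)) (tt N8122 F31378) (tt N11137 D11234))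
theorem Q9705 : ∀ i, i < 9705 → P i := stepQ 9704 Q9704 (allL N9704 (tt N9910 (iv F32105)) (tt N8365 F31379) (tt N8358 F31380) (tt N11132 (iv F36434)) (tt N11135 (iv F36448)) (tt N11137 (iv F36454)) (tt N8676 F31381) (tt N8117 (iv D9801)))
theorem Q9706 : ∀ i, i < 9706 → P i := stepQ 9705 Q9705 (allL N9705 (tt N11124 (iv F36402)) (tt N8118 (iv D9802)) (tt N11123 F36401) (tt N11136 (iv F36450)) (tt N11118 (iv F36377)) (tt N11129 (iv F36426)) (tt N8124 F31382) (tt N11133 (iv F36438)))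
theorem Q9707 : ∀ i, i < 9707 → P i := stepQ 9706 Q9706 (allL N9706 (tt N11043 (iv F36081)) (tt N8344 F31383) (tt N8121 F31384) (tt N9919 (iv F32131)) (tt N8120 F31385) (tt N11061 (iv F36164)) (tt N8119 (iv D9803)) (tt N10408 (iv F33882)))
theorem Q9708 : ∀ i, i < 9708 → P i := stepQ 9707 Q9707 (allL N9707 (tt N11044 (iv F36085)) (tt N11060 (iv F36157)) (tt N8122 F31386) (tt N8147 F31387) (tt N11061 (iv F36163)) (tt N8120 (iv D9804)) (tt N8357 F31388) (tt N11138 D11235))
theorem Q9709 : ∀ i, i < 9709 → P i := stepQ 9708 Q9708 (allL N9708 (tt N11045 (iv F36089)) (tt N8346 F31389) (tt N8123 F31390) (tt N11139 D11236) (tt N10408 (iv F33880)) (tt N11138 (iv F36456)) (tt N8680 F31391) (tt N8120 (iv D9805)))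
theorem Q9710 : ∀ i, i < 9710 → P i := stepQ 9709 Q9709 (allL N9709 (tt N11046 (iv F36094)) (tt N9835 (iv F31814)) (tt N11061 (iv F36162)) (tt N11120 (iv F36387)) (tt N8122 F31392) (tt N8121 (iv D9806)) (tt N11134 (iv F36444)) (tt N9834 F31812))
theorem Q9711 : ∀ i, i < 9711 → P i := stepQ 9710 Q9710 (allL N9710 (tt N9848 (iv F31867)) (tt N8122 (iv D9807)) (tt N9830 (iv F31795)) (tt N8124 F31393) (tt N9835 (iv F31816)) (tt N8406 F31394) (tt N11136 (iv F36452)) (tt N9828 (iv F31786)))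
theorem Q9712 : ∀ i, i < 9712 → P i := stepQ 9711 Q9711 (allL N9711 (tt N11048 (iv F36100)) (tt N9828 (iv F31781)) (tt N11138 (iv F36455)) (tt N10220 (iv F33257)) (tt N9834 (iv F31809)) (tt N8123 F31395) (tt N10337 (iv F33604)) (tt N8122 (iv D9808)))
theorem Q9713 : ∀ i, i < 9713 → P i := stepQ 9712 Q9712 (allL N9712 (tt N8124 (iv D9809)) (tt N11049 (iv F36103)) (tt N11118 (iv F36376)) (tt N9848 F31871) (tt N11123 (iv F36397)) (tt N8407 F31396) (tt N11124 (iv F36406)) (tt N11070 (iv F36200)))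
theorem Q9714 : ∀ i, i < 9714 → P i := stepQ 9713 Q9713 (allL N9713 (tt N11118 (iv F36375)) (tt N8153 F31397) (tt N8124 (iv D9810)) (tt N11140 D11237) (tt N11124 (iv F36404)) (tt N8408 F31398) (tt N11123 (iv F36399)) (tt N11071 (iv F36204)))
theorem Q9715 : ∀ i, i < 9715 → P i := stepQ 9714 Q9714 (allL N9714 (tt N10228 (iv F33284)) (tt N10892 (iv F35471)) (tt N8125 (iv D9811)) (tt N11112 (iv F36357)) (tt N10052 (iv F32671)) (tt N9030 F31399) (tt N10890 (iv F35465)) (tt N9714 F31400))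
theorem Q9716 : ∀ i, i < 9716 → P i := stepQ 9715 Q9715 (allL N9715 (tt N10229 (iv F33288)) (tt N9715 F31401) (tt N10890 (iv F35464)) (tt N8126 F31402) (tt N10053 (iv F32676)) (tt N11141 D11238) (tt N8125 (iv D9812)) (tt N10110 (iv F32876)))
theorem Q9717 : ∀ i, i < 9717 → P i := stepQ 9716 Q9716 (allL N9716 (tt N10245 (iv F33339)) (tt N11142 D11239) (tt N11115 (iv F36362)) (tt N11141 (iv F36464)) (tt N8137 F31403) (tt N8126 (iv D9813)) (tt N9032 F31404) (tt N8130 F31405))
theorem Q9718 : ∀ i, i < 9718 → P i := stepQ 9717 Q9717 (allL N9717 (tt N10273 (iv F33417)) (tt N9565 F31406) (tt N8128 F31407) (tt N9535 F31408) (tt N8127 (iv D9814)) (tt N8131 F31409) (tt N11143 D11240) (tt N9717 F31410))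
theorem Q9719 : ∀ i, i < 9719 → P i := stepQ 9718 Q9718 (allL N9718 (tt N11051 (iv F36113)) (tt N9334 F31411) (tt N8129 F31412) (tt N9534 F31413) (tt N11143 (iv F36473)) (tt N11144 D11241) (tt N8127 (iv D9815)) (tt N9333 (iv F31414)))
theorem Q9720 : ∀ i, i < 9720 → P i := stepQ 9719 Q9719 (allL N9719 (tt N10252 (iv F33366)) (tt N9719 F31415) (tt N11143 (iv F36471)) (tt N8140 F31416) (tt N8129 F31417) (tt N11145 D11242) (tt N8128 (iv D9816)) (tt N8538 (iv F31418)))
theorem Q9721 : ∀ i, i < 9721 → P i := stepQ 9720 Q9720 (allL N9720 (tt N11052 (iv F36118)) (tt N11146 D11243) (tt N11144 (iv F36476)) (tt N8130 F31419) (tt N11145 (iv F36481)) (tt N8129 (iv D9817)) (tt N8134 F31420) (tt N11147 D11244))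
theorem Q9722 : ∀ i, i < 9722 → P i := stepQ 9721 Q9721 (allL N9721 (tt N11053 (iv F36121)) (tt N9721 F31421) (tt N9333 F31422) (tt N10110 (iv F32874)) (tt N8538 F31423) (tt N11147 (iv F36489)) (tt N9721 F31424) (tt N8129 (iv D9818)))
theorem Q9723 : ∀ i, i < 9723 → P i := stepQ 9722 Q9722 (allL N9722 (tt N11050 (iv F36108)) (tt N8130 (iv D9819)) (tt N11049 F36107) (tt N11146 (iv F36484)) (tt N8142 F31425) (tt N9722 F31426) (tt N8136 F31427) (tt N11142 (iv F36469)))
theorem Q9724 : ∀ i, i < 9724 → P i := stepQ 9723 Q9723 (allL N9723 (tt N11054 (iv F36127)) (tt N9723 F31428) (tt N8145 F31429) (tt N8131 (iv D9820)) (tt N9511 F31430) (tt N9535 F31431) (tt N11148 D11245) (tt N9513 (iv F31432)))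
theorem Q9725 : ∀ i, i < 9725 → P i := stepQ 9724 Q9724 (allL N9724 (tt N11055 (iv F36134)) (tt N9724 F31433) (tt N8133 F31434) (tt N11148 (iv F36493)) (tt N8132 F31435) (tt N11149 D11246) (tt N8131 (iv D9821)) (tt N9807 (iv F31691)))
theorem Q9726 : ∀ i, i < 9726 → P i := stepQ 9725 Q9725 (allL N9725 (tt N11056 (iv F36140)) (tt N11150 D11247) (tt N8134 F31436) (tt N11119 (iv F36381)) (tt N11149 (iv F36497)) (tt N8132 (iv D9822)) (tt N11144 (iv F36478)) (tt N10062 F32709))
theorem Q9727 : ∀ i, i < 9727 → P i := stepQ 9726 Q9726 (allL N9726 (tt N11057 (iv F36143)) (tt N9793 (iv F31644)) (tt N11149 (iv F36496)) (tt N8149 F31437) (tt N8134 F31438) (tt N8133 (iv D9823)) (tt N11145 (iv F36482)) (tt N9792 F31643))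
theorem Q9728 : ∀ i, i < 9728 → P i := stepQ 9727 Q9727 (allL N9727 (tt N11151 D11248) (tt N8134 (iv D9824)) (tt N11152 D11249) (tt N8136 F31439) (tt N9793 (iv F31646)) (tt N8163 F31440) (tt N11146 (iv F36486)) (tt N9773 (iv F31582)))
theorem Q9729 : ∀ i, i < 9729 → P i := stepQ 9728 Q9728 (allL N9728 (tt N9497 F31441) (tt N9773 (iv F31579)) (tt N10062 (iv F32707)) (tt N9183 F31442) (tt N9792 (iv F31641)) (tt N8135 F31443) (tt N11153 D11250) (tt N8134 (iv D9825)))
theorem Q9730 : ∀ i, i < 9730 → P i := stepQ 9729 Q9729 (allL N9729 (tt N8136 (iv D9826)) (tt N9864 (iv F31915)) (tt N11042 (iv F36075)) (tt N11151 (iv F36500)) (tt N8152 F31444) (tt N8164 F31445) (tt N11050 (iv F36112)) (tt N9184 F31446))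
theorem Q9731 : ∀ i, i < 9731 → P i := stepQ 9730 Q9730 (allL N9730 (tt N11042 F36080) (tt N11124 (iv F36403)) (tt N8136 (iv D9827)) (tt N11154 D11251) (tt N8153 F31447) (tt N8165 F31448) (tt N11049 (iv F36106)) (tt N9185 F31449))
theorem Q9732 : ∀ i, i < 9732 → P i := stepQ 9731 Q9731 (allL N9731 (tt N11155 D11252) (tt N8137 (iv D9828)) (tt N11156 D11253) (tt N10057 (iv F32688)) (tt N11142 (iv F36466)) (tt N9731 F31450) (tt N11072 (iv F36208)) (tt N8142 F31451))
theorem Q9733 : ∀ i, i < 9733 → P i := stepQ 9732 Q9732 (allL N9732 (tt N8359 F31452) (tt N8353 F31453) (tt N8140 F31454) (tt N9884 (iv F32006)) (tt N8139 F31455) (tt N11157 D11254) (tt N8138 (iv D9829)) (tt N8518 F31456))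
theorem Q9734 : ∀ i, i < 9734 → P i := stepQ 9733 Q9733 (allL N9733 (tt N9589 F31457) (tt N11090 (iv F36279)) (tt N8141 F31458) (tt N8357 F31459) (tt N11157 (iv F36524)) (tt N8139 (iv D9830)) (tt N8147 F31460) (tt N10058 (iv F32696)))
theorem Q9735 : ∀ i, i < 9735 → P i := stepQ 9734 Q9734 (allL N9734 (tt N10251 (iv F33361)) (tt N10680 (iv F34808)) (tt N11157 (iv F36523)) (tt N11145 (iv F36480)) (tt N8141 F31461) (tt N8140 (iv D9831)) (tt N8149 F31462) (tt N8527 F31463))
theorem Q9736 : ∀ i, i < 9736 → P i := stepQ 9735 Q9735 (allL N9735 (tt N9524 (iv F31468)) (tt N8141 (iv D9832)) (tt N11158 D11255) (tt N8142 F31464) (tt N10680 (iv F34809)) (tt N9735 F31465) (tt N8150 F31466) (tt N9520 F31467))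
theorem Q9737 : ∀ i, i < 9737 → P i := stepQ 9736 Q9736 (allL N9736 (tt N8142 (iv D9833)) (tt N9865 (iv F31920)) (tt N11039 (iv F36057)) (tt N9524 F31469) (tt N11050 (iv F36110)) (tt N9736 F31470) (tt N8152 F31471) (tt N11155 (iv F36515)))
theorem Q9738 : ∀ i, i < 9738 → P i := stepQ 9737 Q9737 (allL N9737 (tt N11039 F36062) (tt N11123 (iv F36396)) (tt N8142 (iv D9834)) (tt N11159 D11256) (tt N11049 (iv F36104)) (tt N9737 F31472) (tt N8153 F31473) (tt N11156 (iv F36521)))
theorem Q9739 : ∀ i, i < 9739 → P i := stepQ 9738 Q9738 (allL N9738 (tt N8341 F31474) (tt N11059 (iv F36151)) (tt N8168 F31475) (tt N8345 F31476) (tt N10577 (iv F34457)) (tt N8144 (iv D9835)) (tt N8338 F31477) (tt N10573 (iv F34440)))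
theorem Q9740 : ∀ i, i < 9740 → P i := stepQ 9739 Q9739 (allL N9739 (tt N11059 (iv F36150)) (tt N9889 (iv F32023)) (tt N11148 (iv F36492)) (tt N8146 F31478) (tt N9919 (iv F32132)) (tt N11160 D11257) (tt N8145 (iv D9836)) (tt N11161 D11258))
theorem Q9741 : ∀ i, i < 9741 → P i := stepQ 9740 Q9740 (allL N9740 (tt N11060 (iv F36156)) (tt N11162 D11259) (tt N8149 F31479) (tt N11160 (iv F36534)) (tt N8147 F31480) (tt N8146 (iv D9837)) (tt N11157 (iv F36525)) (tt N10679 (iv F34806)))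
theorem Q9742 : ∀ i, i < 9742 → P i := stepQ 9741 Q9741 (allL N9741 (tt N11160 (iv F36533)) (tt N8147 (iv D9838)) (tt N11163 D11260) (tt N11060 (iv F36159)) (tt N11162 (iv F36538)) (tt N11059 (iv F36155)) (tt N11090 (iv F36282)) (tt N11164 D11261))
theorem Q9743 : ∀ i, i < 9743 → P i := stepQ 9742 Q9742 (allL N9742 (tt N9837 (iv F31823)) (tt N11164 (iv F36542)) (tt N8151 F31481) (tt N11165 D11262) (tt N10679 (iv F34803)) (tt N8148 F31482) (tt N10060 (iv F32702)) (tt N8147 (iv D9839)))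
theorem Q9744 : ∀ i, i < 9744 → P i := stepQ 9743 Q9743 (allL N9743 (tt N9839 (iv F31832)) (tt N10682 (iv F34816)) (tt N10608 (iv F34583)) (tt N8148 (iv D9840)) (tt N11166 D11263) (tt N11165 (iv F36546)) (tt N8162 F31483) (tt N11139 (iv F36461)))
theorem Q9745 : ∀ i, i < 9745 → P i := stepQ 9744 Q9744 (allL N9744 (tt N9862 (iv F31905)) (tt N11163 (iv F36539)) (tt N8150 (iv D9841)) (tt N11167 D11264) (tt N10568 (iv F34416)) (tt N8169 F31484) (tt N11158 (iv F36529)) (tt N9033 F31485))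
theorem Q9746 : ∀ i, i < 9746 → P i := stepQ 9745 Q9745 (allL N9745 (tt N8153 F31486) (tt N11035 (iv F36034)) (tt N8152 (iv D9842)) (tt N11168 D11265) (tt N11042 (iv F36076)) (tt N8170 F31487) (tt N11039 (iv F36060)) (tt N11076 (iv F36224)))
theorem Q9747 : ∀ i, i < 9747 → P i := stepQ 9746 Q9746 (allL N9746 (tt N11168 (iv F36551)) (tt N11140 (iv F36462)) (tt N11167 (iv F36548)) (tt N8153 (iv D9843)) (tt N11169 D11266) (tt N8171 F31488) (tt N11159 (iv F36532)) (tt N11170 D11267))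
theorem Q9748 : ∀ i, i < 9748 → P i := stepQ 9747 Q9747 (allL N9747 (tt N8156 F31489) (tt N8350 F31490) (tt N8174 F31491) (tt N9657 F31492) (tt N8155 F31493) (tt N11171 D11268) (tt N8154 (iv D9844)) (tt N10673 (iv F34790)))
theorem Q9749 : ∀ i, i < 9749 → P i := stepQ 9748 Q9748 (allL N9748 (tt N8158 F31494) (tt N11172 D11269) (tt N8176 F31495) (tt N8724 F31496) (tt N11171 (iv F36563)) (tt N8155 (iv D9845)) (tt N8332 F31497) (tt N11173 D11270))
theorem Q9750 : ∀ i, i < 9750 → P i := stepQ 9749 Q9749 (allL N9749 (tt N8159 F31498) (tt N9204 F31499) (tt N8177 F31500) (tt N11174 D11271) (tt N10673 (iv F34788)) (tt N11173 (iv F36572)) (tt N8342 F31501) (tt N8155 (iv D9846)))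
theorem Q9751 : ∀ i, i < 9751 → P i := stepQ 9750 Q9750 (allL N9750 (tt N11171 (iv F36559)) (tt N8514 F31502) (tt N8180 F31503) (tt N9663 F31504) (tt N8158 F31505) (tt N8156 (iv D9847)) (tt N9661 F31506) (tt N10669 (iv F34776)))
theorem Q9752 : ∀ i, i < 9752 → P i := stepQ 9751 Q9751 (allL N9751 (tt N8332 F31507) (tt N10063 (iv F32711)) (tt N8181 F31508) (tt N8728 F31509) (tt N9661 F31510) (tt N8157 (iv D9848)) (tt N8158 F31511) (tt N11175 D11272))
theorem Q9753 : ∀ i, i < 9753 → P i := stepQ 9752 Q9752 (allL N9752 (tt N8333 F31512) (tt N8351 F31513) (tt N8182 F31514) (tt N9891 (iv F32037)) (tt N9662 F31515) (tt N11175 (iv F36582)) (tt N8339 F31516) (tt N8157 (iv D9849)))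
theorem Q9754 : ∀ i, i < 9754 → P i := stepQ 9753 Q9753 (allL N9753 (tt N11173 (iv F36570)) (tt N10064 (iv F32716)) (tt N8184 F31517) (tt N11176 D11273) (tt N10669 (iv F34774)) (tt N8159 F31518) (tt N11177 D11274) (tt N8158 (iv D9850)))
theorem Q9755 : ∀ i, i < 9755 → P i := stepQ 9754 Q9754 (allL N9754 (tt N11174 (iv F36573)) (tt N8162 F31519) (tt N11178 D11275) (tt N8159 (iv D9851)) (tt N11179 D11276) (tt N11176 (iv F36584)) (tt N10682 (iv F34817)) (tt N8732 F31520))
theorem Q9756 : ∀ i, i < 9756 → P i := stepQ 9755 Q9755 (allL N9755 (tt N10284 (iv F33450)) (tt N9664 F31521) (tt N9755 F31522) (tt N11180 D11277) (tt N8734 F31523) (tt N10066 (iv F32725)) (tt N9886 (iv F32017)) (tt N8160 (iv D9852)))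
theorem Q9757 : ∀ i, i < 9757 → P i := stepQ 9756 Q9756 (allL N9756 (tt N9833 (iv F31806)) (tt N10674 (iv F34791)) (tt N10705 (iv F34884)) (tt N8161 (iv D9853)) (tt N11181 D11278) (tt N10067 (iv F32729)) (tt N10681 (iv F34814)) (tt N11180 (iv F36598)))
theorem Q9758 : ∀ i, i < 9758 → P i := stepQ 9757 Q9757 (allL N9757 (tt N9840 (iv F31834)) (tt N11179 (iv F36594)) (tt N10618 (iv F34612)) (tt N11181 (iv F36600)) (tt N8162 (iv D9854)) (tt N10068 (iv F32732)) (tt N11166 (iv F36547)) (tt N8736 F31524))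
theorem Q9759 : ∀ i, i < 9759 → P i := stepQ 9758 Q9758 (allL N9758 (tt N8163 (iv D9855)) (tt N8221 F31525) (tt N9568 F31716) (tt N8164 F31526) (tt N8812 F31527) (tt N11151 (iv F36502)) (tt N9758 F31528) (tt N9767 F31561))
theorem Q9760 : ∀ i, i < 9760 → P i := stepQ 9759 Q9759 (allL N9759 (tt N9568 (iv F31717)) (tt N9759 F31529) (tt N8163 (iv D9856)) (tt N11182 D11279) (tt N9790 (iv F31636)) (tt N11152 (iv F36505)) (tt N9759 F31530) (tt N8609 F31531))
theorem Q9761 : ∀ i, i < 9761 → P i := stepQ 9760 Q9760 (allL N9760 (tt N8165 F31532) (tt N11040 (iv F36069)) (tt N8164 (iv D9857)) (tt N11183 D11280) (tt N8170 F31533) (tt N11042 (iv F36077)) (tt N9760 F31534) (tt N9188 F31535))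
theorem Q9762 : ∀ i, i < 9762 → P i := stepQ 9761 Q9761 (allL N9761 (tt N11183 (iv F36606)) (tt N8418 F31536) (tt N11182 (iv F36603)) (tt N8165 (iv D9858)) (tt N11184 D11281) (tt N11154 (iv F36511)) (tt N9761 F31537) (tt N11185 D11282))
theorem Q9763 : ∀ i, i < 9763 → P i := stepQ 9762 Q9762 (allL N9762 (tt N9868 (iv F31938)) (tt N9040 F31538) (tt N8171 F31539) (tt N8169 (iv D9859)) (tt N11186 D11283) (tt N11167 (iv F36549)) (tt N9762 F31540) (tt N9031 F31541))
theorem Q9764 : ∀ i, i < 9764 → P i := stepQ 9763 Q9763 (allL N9763 (tt N8421 F31542) (tt N8170 (iv D9860)) (tt N8225 F31543) (tt N9408 F31546) (tt N11040 (iv F36066)) (tt N9407 (iv F31545)) (tt N9763 F31544) (tt N10977 (iv F35783)))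
theorem Q9765 : ∀ i, i < 9765 → P i := stepQ 9764 Q9764 (allL N9764 (tt N8171 F31547) (tt N9408 F31548) (tt N9868 (iv F31940)) (tt N8170 (iv D9861)) (tt N9414 (iv F31550)) (tt N11168 (iv F36553)) (tt N9764 F31549) (tt N11187 D11284))
theorem Q9766 : ∀ i, i < 9766 → P i := stepQ 9765 Q9765 (allL N9765 (tt N9414 F31551) (tt N8423 F31552) (tt N11186 (iv F36621)) (tt N11184 (iv F36613)) (tt N8171 (iv D9862)) (tt N11169 (iv F36556)) (tt N9765 F31553) (tt N11188 D11285))
theorem Q9767 : ∀ i, i < 9767 → P i := stepQ 9766 Q9766 (allL N9766 (tt N11187 (iv F36625)) (tt N8424 F31554) (tt N9031 F31555) (tt N11082 (iv F36245)) (tt N11188 (iv F36633)) (tt N11170 (iv F36558)) (tt N9030 (iv F31556)) (tt N8171 (iv D9863)))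
theorem Q9768 : ∀ i, i < 9768 → P i := stepQ 9767 Q9767 (allL N9767 (tt N8178 F31557) (tt N8226 F31558) (tt N10140 (iv F32980)) (tt N8174 F31559) (tt N8187 F31560) (tt N11189 D11286) (tt N8172 (iv D9864)) (tt N9758 (iv F31561)))
theorem Q9769 : ∀ i, i < 9769 → P i := stepQ 9768 Q9768 (allL N9768 (tt N8179 F31562) (tt N8325 F31563) (tt N8331 F31564) (tt N10139 (iv F32975)) (tt N8175 F31565) (tt N11190 D11287) (tt N8173 (iv D9865)) (tt N11006 (iv F35903)))
theorem Q9770 : ∀ i, i < 9770 → P i := stepQ 9769 Q9769 (allL N9769 (tt N8180 F31566) (tt N10982 (iv F35807)) (tt N11171 (iv F36561)) (tt N11189 (iv F36636)) (tt N8176 F31567) (tt N8174 (iv D9866)) (tt N11190 (iv F36642)) (tt N10668 (iv F34772)))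
theorem Q9771 : ∀ i, i < 9771 → P i := stepQ 9770 Q9770 (allL N9770 (tt N8181 F31568) (tt N11191 D11288) (tt N8332 F31569) (tt N8192 F31570) (tt N11190 (iv F36641)) (tt N8175 (iv D9867)) (tt N8176 F31571) (tt N11007 (iv F35907)))
theorem Q9772 : ∀ i, i < 9772 → P i := stepQ 9771 Q9771 (allL N9771 (tt N9825 (iv F31767)) (tt N8176 (iv D9868)) (tt N11192 D11289) (tt N8194 F31572) (tt N10982 (iv F35809)) (tt N8228 F31573) (tt N11191 (iv F36645)) (tt N9629 (iv F31574)))
theorem Q9773 : ∀ i, i < 9773 → P i := stepQ 9772 Q9772 (allL N9772 (tt N8184 F31575) (tt N9629 F31576) (tt N11173 (iv F36571)) (tt N9628 F31577) (tt N10668 (iv F34770)) (tt N8177 F31578) (tt N11193 D11290) (tt N8176 (iv D9869)))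
theorem Q9774 : ∀ i, i < 9774 → P i := stepQ 9773 Q9773 (allL N9773 (tt N11189 (iv F36635)) (tt N9728 F31579) (tt N10149 (iv F33023)) (tt N8180 F31580) (tt N8198 F31581) (tt N8178 (iv D9870)) (tt N10147 (iv F33017)) (tt N9727 F31582))
theorem Q9775 : ∀ i, i < 9775 → P i := stepQ 9774 Q9774 (allL N9774 (tt N11190 (iv F36639)) (tt N10670 (iv F34778)) (tt N9661 F31583) (tt N10147 (iv F33015)) (tt N8181 F31584) (tt N8179 (iv D9871)) (tt N8180 F31585) (tt N11194 D11291))
theorem Q9776 : ∀ i, i < 9776 → P i := stepQ 9775 Q9775 (allL N9775 (tt N11006 (iv F35899)) (tt N9775 F31586) (tt N9662 F31587) (tt N11195 D11292) (tt N8182 F31588) (tt N11194 (iv F36657)) (tt N9929 (iv F32157)) (tt N8179 (iv D9872)))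
theorem Q9777 : ∀ i, i < 9777 → P i := stepQ 9776 Q9776 (allL N9776 (tt N9842 (iv F31838)) (tt N8181 (iv D9873)) (tt N10071 (iv F32741)) (tt N8203 F31589) (tt N10670 (iv F34780)) (tt N9776 F31590) (tt N8183 F31591) (tt N11196 D11293))
theorem Q9778 : ∀ i, i < 9778 → P i := stepQ 9777 Q9777 (allL N9777 (tt N11007 (iv F35904)) (tt N11196 (iv F36664)) (tt N11175 (iv F36580)) (tt N10501 (iv F34188)) (tt N11194 (iv F36656)) (tt N8182 F31592) (tt N11197 D11294) (tt N8181 (iv D9874)))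
theorem Q9779 : ∀ i, i < 9779 → P i := stepQ 9778 Q9778 (allL N9778 (tt N9628 F31593) (tt N9086 F31594) (tt N11198 D11295) (tt N8184 (iv D9875)) (tt N9644 F31595) (tt N8185 F31596) (tt N9087 (iv F31598)) (tt N8209 F31597))
theorem Q9780 : ∀ i, i < 9780 → P i := stepQ 9779 Q9779 (allL N9779 (tt N11193 (iv F36650)) (tt N9046 F31599) (tt N11177 (iv F36587)) (tt N9087 F31600) (tt N10551 (iv F34350)) (tt N9048 F31601) (tt N8184 (iv D9876)) (tt N11197 (iv F36673)))
theorem Q9781 : ∀ i, i < 9781 → P i := stepQ 9780 Q9780 (allL N9780 (tt N8783 F31602) (tt N10210 (iv F33235)) (tt N8185 (iv D9877)) (tt N11178 (iv F36592)) (tt N9650 F31603) (tt N11198 (iv F36677)) (tt N9936 (iv F32185)) (tt N8211 F31604))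
theorem Q9782 : ∀ i, i < 9782 → P i := stepQ 9781 Q9781 (allL N9781 (tt N9781 F31605) (tt N8186 (iv D9878)) (tt N8430 F31606) (tt N8188 F31607) (tt N8324 F31608) (tt N8230 F31609) (tt N9399 (iv F31611)) (tt N9781 F31610))
theorem Q9783 : ∀ i, i < 9783 → P i := stepQ 9782 Q9782 (allL N9782 (tt N8197 F31612) (tt N9399 F31613) (tt N10136 (iv F32958)) (tt N8189 F31614) (tt N10139 (iv F32976)) (tt N11199 D11296) (tt N8186 (iv D9879)) (tt N9393 (iv F31615)))
theorem Q9784 : ∀ i, i < 9784 → P i := stepQ 9783 Q9783 (allL N9783 (tt N8198 F31616) (tt N11200 D11297) (tt N10425 (iv F33919)) (tt N8190 F31617) (tt N11189 (iv F36637)) (tt N8187 (iv D9880)) (tt N11199 (iv F36683)) (tt N10339 (iv F33609)))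
theorem Q9785 : ∀ i, i < 9785 → P i := stepQ 9784 Q9784 (allL N9784 (tt N8200 F31618) (tt N10146 (iv F33010)) (tt N8762 F31619) (tt N11199 (iv F36682)) (tt N8192 F31620) (tt N8189 (iv D9881)) (tt N8190 F31621) (tt N10145 F33008))
theorem Q9786 : ∀ i, i < 9786 → P i := stepQ 9785 Q9785 (allL N9785 (tt N10159 (iv F33067)) (tt N8190 (iv D9882)) (tt N11201 D11298) (tt N11200 (iv F36685)) (tt N8194 F31622) (tt N8236 F31623) (tt N10146 (iv F33013)) (tt N8267 F31624))
theorem Q9787 : ∀ i, i < 9787 → P i := stepQ 9786 Q9786 (allL N9786 (tt N10153 (iv F33042)) (tt N8192 (iv D9883)) (tt N11202 D11299) (tt N11191 (iv F36643)) (tt N10146 (iv F33011)) (tt N10143 (iv F32995)) (tt N8194 F31625) (tt N10142 F32991))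
theorem Q9788 : ∀ i, i < 9788 → P i := stepQ 9787 Q9787 (allL N9787 (tt N8204 F31626) (tt N10142 (iv F32988)) (tt N8766 F31627) (tt N11004 (iv F35896)) (tt N10145 (iv F33005)) (tt N8193 F31628) (tt N10144 (iv F33001)) (tt N8192 (iv D9884)))
theorem Q9789 : ∀ i, i < 9789 → P i := stepQ 9788 Q9788 (allL N9788 (tt N10693 (iv F34840)) (tt N8731 F31629) (tt N8194 (iv D9885)) (tt N11203 D11300) (tt N11201 (iv F36691)) (tt N8239 F31630) (tt N11202 (iv F36699)) (tt N8730 F31631))
theorem Q9790 : ∀ i, i < 9790 → P i := stepQ 9789 Q9789 (allL N9789 (tt N10425 (iv F33918)) (tt N11204 D11301) (tt N8198 F31632) (tt N8768 F31633) (tt N10149 (iv F33025)) (tt N8196 (iv D9886)) (tt N10138 (iv F32970)) (tt N11205 D11302))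
theorem Q9791 : ∀ i, i < 9791 → P i := stepQ 9790 Q9790 (allL N9790 (tt N10359 (iv F33663)) (tt N9790 F31634) (tt N8199 F31635) (tt N10795 (iv F35134)) (tt N9759 F31636) (tt N11205 (iv F36709)) (tt N9790 F31637) (tt N8196 (iv D9887)))
theorem Q9792 : ∀ i, i < 9792 → P i := stepQ 9791 Q9791 (allL N9791 (tt N11199 (iv F36680)) (tt N11206 D11303) (tt N10138 (iv F32967)) (tt N8200 F31638) (tt N10147 (iv F33016)) (tt N8197 (iv D9888)) (tt N8198 F31639) (tt N11023 (iv F35980)))
theorem Q9793 : ∀ i, i < 9793 → P i := stepQ 9792 Q9792 (allL N9792 (tt N10988 (iv F35827)) (tt N8198 (iv D9889)) (tt N11207 D11304) (tt N8202 F31640) (tt N9728 F31641) (tt N8212 F31642) (tt N11206 (iv F36713)) (tt N9726 (iv F31643)))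
theorem Q9794 : ∀ i, i < 9794 → P i := stepQ 9793 Q9793 (allL N9793 (tt N10339 (iv F33606)) (tt N9726 F31644) (tt N11205 (iv F36707)) (tt N9191 F31645) (tt N9727 F31646) (tt N8199 F31647) (tt N11208 D11305) (tt N8198 (iv D9890)))
theorem Q9795 : ∀ i, i < 9795 → P i := stepQ 9794 Q9794 (allL N9794 (tt N10157 (iv F33061)) (tt N8200 (iv D9891)) (tt N10622 (iv F34625)) (tt N11206 (iv F36710)) (tt N8203 F31648) (tt N9794 F31649) (tt N8202 F31650) (tt N10091 (iv F32812)))
theorem Q9796 : ∀ i, i < 9796 → P i := stepQ 9795 Q9795 (allL N9795 (tt N10145 (iv F33003)) (tt N10091 (iv F32808)) (tt N8770 F31651) (tt N10088 (iv F32798)) (tt N8204 F31652) (tt N8201 F31653) (tt N9220 F31654) (tt N8200 (iv D9892)))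
theorem Q9797 : ∀ i, i < 9797 → P i := stepQ 9796 Q9796 (allL N9796 (tt N8202 (iv D9893)) (tt N10159 (iv F33068)) (tt N10643 (iv F34689)) (tt N10988 (iv F35828)) (tt N8206 F31655) (tt N8213 F31656) (tt N10157 (iv F33065)) (tt N9221 F31657))
theorem Q9798 : ∀ i, i < 9798 → P i := stepQ 9797 Q9797 (allL N9797 (tt N8203 (iv D9894)) (tt N10153 (iv F33043)) (tt N11209 D11306) (tt N9842 (iv F31840)) (tt N10157 (iv F33063)) (tt N9797 F31658) (tt N8206 F31659) (tt N10152 F33041))
theorem Q9799 : ∀ i, i < 9799 → P i := stepQ 9798 Q9798 (allL N9798 (tt N11209 (iv F36721)) (tt N8773 F31660) (tt N8203 (iv D9895)) (tt N10080 (iv F32774)) (tt N10622 (iv F34627)) (tt N9798 F31661) (tt N8207 F31662) (tt N11210 D11307))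
theorem Q9800 : ∀ i, i < 9800 → P i := stepQ 9799 Q9799 (allL N9799 (tt N10152 (iv F33036)) (tt N8204 F31663) (tt N11210 (iv F36729)) (tt N11211 D11308) (tt N10091 (iv F32810)) (tt N9799 F31664) (tt N10090 F32806) (tt N8203 (iv D9896)))
theorem Q9801 : ∀ i, i < 9801 → P i := stepQ 9800 Q9800 (allL N9800 (tt N11004 (iv F35895)) (tt N11211 (iv F36732)) (tt N10506 (iv F34202)) (tt N8204 (iv D9897)) (tt N11212 D11309) (tt N8205 F31665) (tt N11213 D11310) (tt N10501 (iv F34189)))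
theorem Q9802 : ∀ i, i < 9802 → P i := stepQ 9801 Q9801 (allL N9801 (tt N10144 (iv F32998)) (tt N10090 (iv F32803)) (tt N8776 F31666) (tt N11213 (iv F36741)) (tt N9220 F31667) (tt N8428 F31668) (tt N8204 (iv D9898)) (tt N8210 F31669))
theorem Q9803 : ∀ i, i < 9803 → P i := stepQ 9802 Q9802 (allL N9802 (tt N10427 F33928) (tt N9802 F31670) (tt N10503 (iv F34194)) (tt N10428 (iv F33930)) (tt N8205 (iv D9899)) (tt N11212 (iv F36738)) (tt N8429 F31671) (tt N10500 (iv F34185)))
theorem Q9804 : ∀ i, i < 9804 → P i := stepQ 9803 Q9803 (allL N9803 (tt N8207 F31672) (tt N11214 D11311) (tt N8206 (iv D9900)) (tt N10085 (iv F32787)) (tt N10643 (iv F34690)) (tt N8214 F31673) (tt N11209 (iv F36724)) (tt N10731 (iv F34961)))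
theorem Q9805 : ∀ i, i < 9805 → P i := stepQ 9804 Q9804 (allL N9804 (tt N10731 (iv F34957)) (tt N8781 F31674) (tt N8208 F31675) (tt N11215 D11312) (tt N9222 F31676) (tt N8216 F31677) (tt N10732 (iv F34966)) (tt N8207 (iv D9901)))
theorem Q9806 : ∀ i, i < 9806 → P i := stepQ 9805 Q9805 (allL N9805 (tt N9626 F31678) (tt N8209 F31679) (tt N9108 (iv F31683)) (tt N8208 (iv D9902)) (tt N9645 F31680) (tt N8217 F31681) (tt N10169 (iv F33111)) (tt N9086 F31682))
theorem Q9807 : ∀ i, i < 9807 → P i := stepQ 9806 Q9806 (allL N9806 (tt N8780 F31684) (tt N11216 D11313) (tt N8209 (iv D9903)) (tt N8779 F31685) (tt N9674 F31686) (tt N8211 F31687) (tt N10168 (iv F33105)) (tt N11198 (iv F36679)))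
theorem Q9808 : ∀ i, i < 9808 → P i := stepQ 9807 Q9807 (allL N9807 (tt N10558 F34380) (tt N9807 F31688) (tt N8212 (iv D9904)) (tt N10560 (iv F34388)) (tt N8526 F31689) (tt N11207 (iv F36715)) (tt N9807 F31690) (tt N9724 F31691))
theorem Q9809 : ∀ i, i < 9809 → P i := stepQ 9808 Q9808 (allL N9808 (tt N8216 F31692) (tt N9817 (iv F31738)) (tt N8215 F31693) (tt N11217 D11314) (tt N9223 F31694) (tt N10731 (iv F34959)) (tt N10431 (iv F33942)) (tt N8214 (iv D9905)))
theorem Q9810 : ∀ i, i < 9810 → P i := stepQ 9809 Q9809 (allL N9809 (tt N11217 (iv F36757)) (tt N8219 F31695) (tt N9109 F31696) (tt N8216 (iv D9906)) (tt N11218 D11315) (tt N11215 (iv F36749)) (tt N9117 (iv F31698)) (tt N9255 F31697))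
theorem Q9811 : ∀ i, i < 9811 → P i := stepQ 9810 Q9810 (allL N9810 (tt N10431 (iv F33939)) (tt N8220 F31699) (tt N8218 F31700) (tt N9117 F31701) (tt N9213 F31702) (tt N10167 (iv F33098)) (tt N8216 (iv D9907)) (tt N9810 F31703))
theorem Q9812 : ∀ i, i < 9812 → P i := stepQ 9811 Q9811 (allL N9811 (tt N10651 (iv F34716)) (tt N11218 (iv F36761)) (tt N10646 (iv F34699)) (tt N9225 F31704) (tt N8219 (iv D9908)) (tt N8788 F31705) (tt N11219 D11316) (tt N10097 (iv F32835)))
theorem Q9813 : ∀ i, i < 9813 → P i := stepQ 9812 Q9812 (allL N9812 (tt N10652 (iv F34721)) (tt N9117 F31706) (tt N10647 (iv F34704)) (tt N8220 F31707) (tt N11219 (iv F36768)) (tt N10901 (iv F35503)) (tt N8219 (iv D9909)) (tt N9134 F31708))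
theorem Q9814 : ∀ i, i < 9814 → P i := stepQ 9813 Q9813 (allL N9813 (tt N8222 F31709) (tt N9403 (iv F31715)) (tt N8221 (iv D9910)) (tt N8470 F31714) (tt N9170 F31710) (tt N8469 F31711) (tt N9813 F31712) (tt N8231 F31713))
theorem Q9815 : ∀ i, i < 9815 → P i := stepQ 9814 Q9814 (allL N9814 (tt N8433 F31718) (tt N8223 (iv D9911)) (tt N11040 (iv F36064)) (tt N9591 (iv F31723)) (tt N8225 F31719) (tt N9590 F31720) (tt N9814 F31721) (tt N9472 F31722))
theorem Q9816 : ∀ i, i < 9816 → P i := stepQ 9815 Q9815 (allL N9815 (tt N8224 F31724) (tt N9591 F31725) (tt N8470 F31726) (tt N8223 (iv D9912)) (tt N9815 F31727) (tt N8459 F31728) (tt N9815 F31729) (tt N8460 F31730))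
theorem Q9817 : ∀ i, i < 9817 → P i := stepQ 9816 Q9816 (allL N9816 (tt N8436 F31731) (tt N9592 F31732) (tt N9407 F31733) (tt N9816 F31734) (tt N9590 F31735) (tt N8225 (iv D9913)) (tt N9406 (iv F31736)) (tt N10590 (iv F34513)))
theorem Q9818 : ∀ i, i < 9818 → P i := stepQ 9817 Q9817 (allL N9817 (tt N9152 F31737) (tt N9808 F31738) (tt N8228 (iv D9914)) (tt N11220 D11317) (tt N9165 F31739) (tt N11192 (iv F36648)) (tt N10973 (iv F35765)) (tt N9151 F31740))
theorem Q9819 : ∀ i, i < 9819 → P i := stepQ 9818 Q9818 (allL N9818 (tt N8240 F31741) (tt N11221 D11318) (tt N8232 F31742) (tt N8247 F31743) (tt N9820 (iv F31756)) (tt N8229 (iv D9915)) (tt N9484 F31744) (tt N8273 F31745))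
theorem Q9820 : ∀ i, i < 9820 → P i := stepQ 9819 Q9819 (allL N9819 (tt N9819 F31746) (tt N8231 F31747) (tt N8893 F31748) (tt N8233 F31749) (tt N8854 F31750) (tt N9401 F31751) (tt N8230 (iv D9916)) (tt N9403 (iv F31752)))
theorem Q9821 : ∀ i, i < 9821 → P i := stepQ 9820 Q9820 (allL N9820 (tt N8242 F31753) (tt N10386 (iv F33778)) (tt N9484 F31754) (tt N8234 F31755) (tt N9818 F31756) (tt N8231 (iv D9917)) (tt N8232 F31757) (tt N8469 F31758))
theorem Q9822 : ∀ i, i < 9822 → P i := stepQ 9821 Q9821 (allL N9821 (tt N10393 (iv F33797)) (tt N8232 (iv D9918)) (tt N11222 D11319) (tt N8236 F31759) (tt N10981 (iv F35804)) (tt N11200 (iv F36686)) (tt N10386 (iv F33780)) (tt N8272 F31760))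
theorem Q9823 : ∀ i, i < 9823 → P i := stepQ 9822 Q9822 (allL N9822 (tt N9925 (iv F32146)) (tt N8254 F31761) (tt N8236 (iv D9919)) (tt N11223 D11320) (tt N8239 F31762) (tt N11201 (iv F36692)) (tt N9921 (iv F32142)) (tt N8266 F31763))
theorem Q9824 : ∀ i, i < 9824 → P i := stepQ 9823 Q9823 (allL N9823 (tt N10694 (iv F34843)) (tt N8260 F31764) (tt N11220 (iv F36772)) (tt N8239 (iv D9920)) (tt N11224 D11321) (tt N11203 (iv F36702)) (tt N10970 (iv F35757)) (tt N10065 (iv F32721)))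
theorem Q9825 : ∀ i, i < 9825 → P i := stepQ 9824 Q9824 (allL N9824 (tt N11063 (iv F36167)) (tt N8263 F31765) (tt N9847 (iv F31863)) (tt N10595 (iv F34529)) (tt N9856 (iv F31890)) (tt N9824 F31766) (tt N8244 (iv D9921)) (tt N11225 D11322))
theorem Q9826 : ∀ i, i < 9826 → P i := stepQ 9825 Q9825 (allL N9825 (tt N9771 F31767) (tt N8264 F31768) (tt N10346 (iv F33632)) (tt N9234 F31769) (tt N9486 F31770) (tt N8245 F31771) (tt N11226 D11323) (tt N8244 (iv D9922)))
theorem Q9827 : ∀ i, i < 9827 → P i := stepQ 9826 Q9826 (allL N9826 (tt N9469 F31772) (tt N8247 (iv D9923)) (tt N10657 (iv F34735)) (tt N11221 (iv F36774)) (tt N9467 F31773) (tt N10397 (iv F33820)) (tt N9483 F31774) (tt N9826 F31775))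
theorem Q9828 : ∀ i, i < 9828 → P i := stepQ 9827 Q9827 (allL N9827 (tt N9213 F31776) (tt N10657 (iv F34734)) (tt N8248 (iv D9924)) (tt N11227 D11324) (tt N10431 (iv F33940)) (tt N8737 F31777) (tt N9223 F31778) (tt N9827 F31779))
theorem Q9829 : ∀ i, i < 9829 → P i := stepQ 9828 Q9828 (allL N9828 (tt N8269 F31780) (tt N9711 F31781) (tt N8250 F31782) (tt N8681 F31783) (tt N8255 F31784) (tt N8249 (iv D9925)) (tt N8790 F31785) (tt N9710 F31786))
theorem Q9830 : ∀ i, i < 9830 → P i := stepQ 9829 Q9829 (allL N9829 (tt N9190 F31787) (tt N8250 (iv D9926)) (tt N11228 D11325) (tt N9221 F31788) (tt N8257 F31789) (tt N8252 F31790) (tt N8717 F31791) (tt N9622 (iv F31792)))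
theorem Q9831 : ∀ i, i < 9831 → P i := stepQ 9830 Q9830 (allL N9830 (tt N8271 F31793) (tt N9622 F31794) (tt N9710 F31795) (tt N11229 D11326) (tt N8258 F31796) (tt N8251 F31797) (tt N11230 D11327) (tt N8250 (iv D9927)))
theorem Q9832 : ∀ i, i < 9832 → P i := stepQ 9831 Q9831 (allL N9831 (tt N8272 F31798) (tt N8253 F31799) (tt N9976 (iv F32324)) (tt N8251 (iv D9928)) (tt N9624 F31800) (tt N11229 (iv F36803)) (tt N8444 F31801) (tt N10393 (iv F33801)))
theorem Q9833 : ∀ i, i < 9833 → P i := stepQ 9832 Q9832 (allL N9832 (tt N9192 F31802) (tt N9921 (iv F32138)) (tt N8252 (iv D9929)) (tt N11231 D11328) (tt N8259 F31803) (tt N11228 (iv F36796)) (tt N8254 F31804) (tt N9620 F31805))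
theorem Q9834 : ∀ i, i < 9834 → P i := stepQ 9833 Q9833 (allL N9833 (tt N9756 F31806) (tt N11223 (iv F36780)) (tt N11227 (iv F36790)) (tt N8254 (iv D9930)) (tt N11232 D11329) (tt N8735 F31807) (tt N11231 (iv F36812)) (tt N11233 D11330))
theorem Q9835 : ∀ i, i < 9835 → P i := stepQ 9834 Q9834 (allL N9834 (tt N11234 D11331) (tt N8255 (iv D9931)) (tt N11235 D11332) (tt N8665 F31808) (tt N9711 F31809) (tt N8886 F31810) (tt N8791 F31811) (tt N9709 (iv F31812)))
theorem Q9836 : ∀ i, i < 9836 → P i := stepQ 9835 Q9835 (allL N9835 (tt N8277 F31813) (tt N9709 F31814) (tt N8258 F31815) (tt N11236 D11333) (tt N9710 F31816) (tt N8256 F31817) (tt N11237 D11334) (tt N8255 (iv D9932)))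
theorem Q9837 : ∀ i, i < 9837 → P i := stepQ 9836 Q9836 (allL N9836 (tt N8278 F31818) (tt N8840 F31819) (tt N9625 F31820) (tt N8256 (iv D9933)) (tt N9970 (iv F32307)) (tt N11236 (iv F36834)) (tt N8450 F31821) (tt N8571 F31822))
theorem Q9838 : ∀ i, i < 9838 → P i := stepQ 9837 Q9837 (allL N9837 (tt N9742 F31823) (tt N11235 (iv F36825)) (tt N8257 (iv D9934)) (tt N11238 D11335) (tt N11228 (iv F36795)) (tt N8259 F31824) (tt N8714 F31825) (tt N9621 F31826))
theorem Q9839 : ∀ i, i < 9839 → P i := stepQ 9838 Q9838 (allL N9838 (tt N8283 F31827) (tt N8706 F31828) (tt N11237 (iv F36838)) (tt N9618 F31829) (tt N11230 (iv F36807)) (tt N8452 F31830) (tt N8258 (iv D9935)) (tt N8705 F31831))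
theorem Q9840 : ∀ i, i < 9840 → P i := stepQ 9839 Q9839 (allL N9839 (tt N9743 F31832) (tt N10970 (iv F35756)) (tt N10615 (iv F34603)) (tt N8259 (iv D9936)) (tt N11239 D11336) (tt N11238 (iv F36843)) (tt N8260 F31833) (tt N10625 (iv F34637)))
theorem Q9841 : ∀ i, i < 9841 → P i := stepQ 9840 Q9840 (allL N9840 (tt N9757 F31834) (tt N11224 (iv F36781)) (tt N11064 (iv F36171)) (tt N11232 (iv F36814)) (tt N8260 (iv D9937)) (tt N8736 F31835) (tt N11239 (iv F36846)) (tt N10068 (iv F32733)))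
theorem Q9842 : ∀ i, i < 9842 → P i := stepQ 9841 Q9841 (allL N9841 (tt N10568 (iv F34414)) (tt N11225 (iv F36782)) (tt N8792 F31836) (tt N11240 D11337) (tt N9862 (iv F31907)) (tt N8289 F31837) (tt N11241 D11338) (tt N8263 (iv D9938)))
theorem Q9843 : ∀ i, i < 9843 → P i := stepQ 9842 Q9842 (allL N9842 (tt N9776 F31838) (tt N11226 (iv F36785)) (tt N8793 F31839) (tt N9797 F31840) (tt N9498 F31841) (tt N9842 F31842) (tt N8264 (iv D9939)) (tt N11241 (iv F36854)))
theorem Q9844 : ∀ i, i < 9844 → P i := stepQ 9843 Q9843 (allL N9843 (tt N8678 F31843) (tt N8733 F31844) (tt N8268 F31845) (tt N8266 F31846) (tt N8502 F31847) (tt N9666 F31848) (tt N8265 (iv D9940)) (tt N11242 D11339))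
theorem Q9845 : ∀ i, i < 9845 → P i := stepQ 9844 Q9844 (allL N9844 (tt N9671 F31849) (tt N8726 F31850) (tt N8267 F31851) (tt N9666 F31852) (tt N8730 F31853) (tt N8266 (iv D9941)) (tt N8794 F31854) (tt N11201 (iv F36694)))
theorem Q9846 : ∀ i, i < 9846 → P i := stepQ 9845 Q9845 (allL N9845 (tt N8681 F31855) (tt N10156 (iv F33056)) (tt N9666 F31856) (tt N8269 F31857) (tt N8503 F31858) (tt N8268 (iv D9942)) (tt N8795 F31859) (tt N11243 D11340))
theorem Q9847 : ∀ i, i < 9847 → P i := stepQ 9846 Q9846 (allL N9846 (tt N8682 F31860) (tt N9846 F31861) (tt N11242 (iv F36857)) (tt N9900 (iv F32072)) (tt N8504 F31862) (tt N11243 (iv F36864)) (tt N10407 (iv F33877)) (tt N8268 (iv D9943)))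
theorem Q9848 : ∀ i, i < 9848 → P i := stepQ 9847 Q9847 (allL N9847 (tt N11244 D11341) (tt N8269 (iv D9944)) (tt N9824 F31863) (tt N10156 F33060) (tt N8276 F31864) (tt N9847 F31865) (tt N8798 F31866) (tt N11245 D11342))
theorem Q9849 : ∀ i, i < 9849 → P i := stepQ 9848 Q9848 (allL N9848 (tt N9710 F31867) (tt N11245 (iv F36872)) (tt N8271 F31868) (tt N9712 (iv F31871)) (tt N8277 F31869) (tt N8270 F31870) (tt N11246 D11343) (tt N8269 (iv D9945)))
theorem Q9850 : ∀ i, i < 9850 → P i := stepQ 9849 Q9849 (allL N9849 (tt N11229 (iv F36799)) (tt N10339 (iv F33607)) (tt N11247 D11344) (tt N8271 (iv D9946)) (tt N11248 D11345) (tt N8272 F31872) (tt N11249 D11346) (tt N11200 (iv F36688)))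
theorem Q9851 : ∀ i, i < 9851 → P i := stepQ 9850 Q9850 (allL N9850 (tt N11230 (iv F36804)) (tt N10340 (iv F33610)) (tt N11246 (iv F36880)) (tt N11249 (iv F36896)) (tt N8283 F31873) (tt N8479 F31874) (tt N8271 (iv D9947)) (tt N8802 F31875))
theorem Q9852 : ∀ i, i < 9852 → P i := stepQ 9851 Q9851 (allL N9851 (tt N9976 (iv F32322)) (tt N11250 D11347) (tt N8272 (iv D9948)) (tt N9975 (iv F32321)) (tt N11251 D11348) (tt N11247 (iv F36887)) (tt N8480 F31876) (tt N11222 (iv F36779)))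
theorem Q9853 : ∀ i, i < 9853 → P i := stepQ 9852 Q9852 (allL N9852 (tt N9624 F31877) (tt N8274 F31878) (tt N11251 (iv F36905)) (tt N8285 F31879) (tt N8272 (iv D9949)) (tt N11248 (iv F36893)) (tt N8481 F31880) (tt N10981 (iv F35805)))
theorem Q9854 : ∀ i, i < 9854 → P i := stepQ 9853 Q9853 (allL N9853 (tt N10991 (iv F35835)) (tt N8273 (iv D9950)) (tt N11250 (iv F36900)) (tt N9853 F31881) (tt N10019 (iv F32523)) (tt N10887 (iv F35452)) (tt N8482 F31882) (tt N11221 (iv F36778)))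
theorem Q9855 : ∀ i, i < 9855 → P i := stepQ 9854 Q9854 (allL N9854 (tt N11020 (iv F35960)) (tt N8275 (iv D9951)) (tt N11022 (iv F35973)) (tt N8276 F31883) (tt N8505 F31884) (tt N9854 F31885) (tt N8803 F31886) (tt N10367 (iv F33701)))
theorem Q9856 : ∀ i, i < 9856 → P i := stepQ 9855 Q9855 (allL N9855 (tt N8276 (iv D9952)) (tt N11234 (iv F36819)) (tt N11252 D11349) (tt N11020 F35966) (tt N11244 (iv F36867)) (tt N9855 F31887) (tt N8806 F31888) (tt N11253 D11350))
theorem Q9857 : ∀ i, i < 9857 → P i := stepQ 9856 Q9856 (allL N9856 (tt N11252 (iv F36908)) (tt N8280 F31889) (tt N8276 (iv D9953)) (tt N10548 (iv F34342)) (tt N9824 F31890) (tt N9856 F31891) (tt N8807 F31892) (tt N11254 D11351))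
theorem Q9858 : ∀ i, i < 9858 → P i := stepQ 9857 Q9857 (allL N9857 (tt N11253 (iv F36912)) (tt N8277 F31893) (tt N11254 (iv F36917)) (tt N11255 D11352) (tt N11245 (iv F36874)) (tt N9857 F31894) (tt N11256 D11353) (tt N8276 (iv D9954)))
theorem Q9859 : ∀ i, i < 9859 → P i := stepQ 9858 Q9858 (allL N9858 (tt N11236 (iv F36830)) (tt N11255 (iv F36920)) (tt N11257 D11354) (tt N8277 (iv D9955)) (tt N11258 D11355) (tt N8278 F31895) (tt N11259 D11356) (tt N10366 (iv F33696)))
theorem Q9860 : ∀ i, i < 9860 → P i := stepQ 9859 Q9859 (allL N9859 (tt N11237 (iv F36836)) (tt N11256 (iv F36924)) (tt N8283 F31896) (tt N11259 (iv F36942)) (tt N11246 (iv F36882)) (tt N8488 F31897) (tt N8277 (iv D9956)) (tt N8810 F31898))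
theorem Q9861 : ∀ i, i < 9861 → P i := stepQ 9860 Q9860 (allL N9860 (tt N9625 F31899) (tt N11260 D11357) (tt N8278 (iv D9957)) (tt N8284 F31900) (tt N11261 D11358) (tt N11257 (iv F36931)) (tt N8489 F31901) (tt N10365 (iv F33693)))
theorem Q9862 : ∀ i, i < 9862 → P i := stepQ 9861 Q9861 (allL N9861 (tt N9970 F32308) (tt N9861 F31902) (tt N11261 (iv F36954)) (tt N9971 (iv F32310)) (tt N8278 (iv D9958)) (tt N11258 (iv F36937)) (tt N8490 F31903) (tt N8872 F31904))
theorem Q9863 : ∀ i, i < 9863 → P i := stepQ 9862 Q9862 (allL N9862 (tt N9744 F31905) (tt N11254 (iv F36916)) (tt N8281 F31906) (tt N11262 D11359) (tt N9841 F31907) (tt N8286 F31908) (tt N10990 (iv F35834)) (tt N8280 (iv D9959)))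
theorem Q9864 : ∀ i, i < 9864 → P i := stepQ 9863 Q9863 (allL N9863 (tt N9623 F31909) (tt N9611 F31912) (tt N8282 (iv D9960)) (tt N11257 (iv F36930)) (tt N9618 F31913) (tt N8284 F31910) (tt N9617 (iv F31911)) (tt N11065 (iv F36179)))
theorem Q9865 : ∀ i, i < 9865 → P i := stepQ 9864 Q9864 (allL N9864 (tt N9617 F31914) (tt N9729 F31915) (tt N9618 F31916) (tt N11248 (iv F36892)) (tt N8282 (iv D9961)) (tt N8285 F31917) (tt N9623 (iv F31918)) (tt N10666 (iv F34761)))
theorem Q9866 : ∀ i, i < 9866 → P i := stepQ 9865 Q9865 (allL N9865 (tt N9618 F31919) (tt N9736 F31920) (tt N9617 F31921) (tt N8283 F31922) (tt N9623 F31923) (tt N8491 F31924) (tt N8282 (iv D9962)) (tt N10667 (iv F34767)))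
theorem Q9867 : ∀ i, i < 9867 → P i := stepQ 9866 Q9866 (allL N9866 (tt N9866 F31925) (tt N8284 (iv D9963)) (tt N8287 F31926) (tt N11260 (iv F36947)) (tt N9078 (iv F31930)) (tt N9076 F31927) (tt N8492 F31928) (tt N9075 F31929))
theorem Q9868 : ∀ i, i < 9868 → P i := stepQ 9867 Q9867 (allL N9867 (tt N8491 F31931) (tt N9078 F31932) (tt N8285 F31933) (tt N8452 (iv F31937)) (tt N8284 (iv D9964)) (tt N9618 F31934) (tt N8451 F31935) (tt N9077 F31936))
theorem Q9869 : ∀ i, i < 9869 → P i := stepQ 9868 Q9868 (allL N9868 (tt N9762 F31938) (tt N9868 F31939) (tt N9764 F31940) (tt N8286 (iv D9965)) (tt N10922 (iv F35577)) (tt N11262 (iv F36960)) (tt N9868 F31941) (tt N10546 F34337))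
theorem Q9870 : ∀ i, i < 9870 → P i := stepQ 9869 Q9869 (allL N9869 (tt N10479 (iv F34099)) (tt N9869 F31942) (tt N9315 F31945) (tt N8289 (iv D9966)) (tt N10132 (iv F32948)) (tt N11240 (iv F36847)) (tt N9869 F31943) (tt N9125 F31944))
theorem Q9871 : ∀ i, i < 9871 → P i := stepQ 9870 Q9870 (allL N9870 (tt N9637 F31946) (tt N9263 F31947) (tt N8574 F31948) (tt N8291 (iv D9967)) (tt N11263 D11360) (tt N8670 F31949) (tt N9261 F31950) (tt N8821 F31951))
theorem Q9872 : ∀ i, i < 9872 → P i := stepQ 9871 Q9871 (allL N9871 (tt N11264 D11361) (tt N8292 (iv D9968)) (tt N11265 D11362) (tt N10622 (iv F34626)) (tt N10180 (iv F33154)) (tt N9871 F31952) (tt N10641 (iv F34685)) (tt N9608 F31953))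
theorem Q9873 : ∀ i, i < 9873 → P i := stepQ 9872 Q9872 (allL N9872 (tt N9642 F31954) (tt N11026 (iv F35990)) (tt N10642 (iv F34686)) (tt N8589 F31955) (tt N10547 (iv F34339)) (tt N8293 (iv D9969)) (tt N8700 F31956) (tt N8294 F31957))
theorem Q9874 : ∀ i, i < 9874 → P i := stepQ 9873 Q9873 (allL N9873 (tt N11066 (iv F36181)) (tt N8294 (iv D9970)) (tt N11266 D11363) (tt N10640 (iv F34678)) (tt N10548 (iv F34343)) (tt N9873 F31958) (tt N8295 F31959) (tt N11026 (iv F35993)))
theorem Q9875 : ∀ i, i < 9875 → P i := stepQ 9874 Q9874 (allL N9874 (tt N11065 (iv F36175)) (tt N11265 (iv F36973)) (tt N8295 (iv D9971)) (tt N11267 D11364) (tt N10667 (iv F34765)) (tt N8296 F31960) (tt N11266 (iv F36978)) (tt N9623 F31961))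
theorem Q9876 : ∀ i, i < 9876 → P i := stepQ 9875 Q9875 (allL N9875 (tt N9515 F31962) (tt N9875 F31963) (tt N8588 F31964) (tt N8296 (iv D9972)) (tt N10162 (iv F33078)) (tt N11267 (iv F36981)) (tt N9875 F31965) (tt N8585 (iv F31966)))
theorem Q9877 : ∀ i, i < 9877 → P i := stepQ 9876 Q9876 (allL N9876 (tt N9406 F31967) (tt N9876 F31968) (tt N8318 F31969) (tt N9876 F31970) (tt N8297 (iv D9973)) (tt N9876 F31971) (tt N8436 F31973) (tt N9386 F31972))
theorem Q9878 : ∀ i, i < 9878 → P i := stepQ 9877 Q9877 (allL N9877 (tt N9590 F31974) (tt N9877 F31975) (tt N8319 F31976) (tt N8298 F31977) (tt N8436 F31978) (tt N8433 (iv F31980)) (tt N8297 (iv D9974)) (tt N9481 F31979))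
theorem Q9879 : ∀ i, i < 9879 → P i := stepQ 9878 Q9878 (allL N9878 (tt N9591 F31981) (tt N8434 (iv F31986)) (tt N8299 F31982) (tt N8433 F31983) (tt N9878 F31984) (tt N8298 (iv D9975)) (tt N9878 F31985) (tt N9978 (iv F32330)))
theorem Q9880 : ∀ i, i < 9880 → P i := stepQ 9879 Q9879 (allL N9879 (tt N8304 F31987) (tt N9916 (iv F32123)) (tt N10017 (iv F32511)) (tt N8301 F31988) (tt N8338 F31989) (tt N8300 (iv D9976)) (tt N10577 (iv F34459)) (tt N9619 F31990))
theorem Q9881 : ∀ i, i < 9881 → P i := stepQ 9880 Q9880 (allL N9880 (tt N8306 F31991) (tt N11043 (iv F36082)) (tt N9880 F31992) (tt N10577 F34460) (tt N8302 F31993) (tt N9889 (iv F32027)) (tt N8301 (iv D9977)) (tt N11268 D11365))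
theorem Q9882 : ∀ i, i < 9882 → P i := stepQ 9881 Q9881 (allL N9881 (tt N8308 F31994) (tt N9919 (iv F32130)) (tt N9881 F31995) (tt N8344 F31996) (tt N9889 (iv F32026)) (tt N8302 (iv D9978)) (tt N8303 F31997) (tt N11269 D11366))
theorem Q9883 : ∀ i, i < 9883 → P i := stepQ 9882 Q9882 (allL N9882 (tt N8309 F31998) (tt N11045 (iv F36090)) (tt N9882 F31999) (tt N11270 D11367) (tt N11268 (iv F36985)) (tt N11269 (iv F36989)) (tt N10066 (iv F32726)) (tt N8302 (iv D9979)))
theorem Q9884 : ∀ i, i < 9884 → P i := stepQ 9883 Q9883 (allL N9883 (tt N10577 (iv F34455)) (tt N8308 F32000) (tt N10575 (iv F34448)) (tt N8306 F32001) (tt N8341 F32002) (tt N8340 F32003) (tt N8304 (iv D9980)) (tt N10574 F34445))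
theorem Q9885 : ∀ i, i < 9885 → P i := stepQ 9884 Q9884 (allL N9884 (tt N9662 F32004) (tt N8311 F32005) (tt N11006 (iv F35901)) (tt N9732 F32006) (tt N8333 F32007) (tt N11271 D11368) (tt N8305 (iv D9981)) (tt N8331 F32008))
theorem Q9886 : ∀ i, i < 9886 → P i := stepQ 9885 Q9885 (allL N9885 (tt N9889 (iv F32022)) (tt N8341 F32009) (tt N9885 F32010) (tt N8340 F32011) (tt N8308 F32012) (tt N8306 (iv D9982)) (tt N8307 F32013) (tt N11272 D11369))
theorem Q9887 : ∀ i, i < 9887 → P i := stepQ 9886 Q9886 (allL N9886 (tt N11268 (iv F36983)) (tt N8347 F32014) (tt N9886 F32015) (tt N11273 D11370) (tt N8309 F32016) (tt N11272 (iv F37003)) (tt N9755 F32017) (tt N8306 (iv D9983)))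
theorem Q9888 : ∀ i, i < 9888 → P i := stepQ 9887 Q9887 (allL N9887 (tt N11269 (iv F36987)) (tt N10574 F34444) (tt N9887 F32018) (tt N11274 D11371) (tt N11272 (iv F37002)) (tt N8309 F32019) (tt N11275 D11372) (tt N8308 (iv D9984)))
theorem Q9889 : ∀ i, i < 9889 → P i := stepQ 9888 Q9888 (allL N9888 (tt N11270 (iv F36990)) (tt N8349 F32020) (tt N11276 D11373) (tt N8309 (iv D9985)) (tt N11277 D11374) (tt N11274 (iv F37007)) (tt N10285 (iv F33455)) (tt N9466 F32021))
theorem Q9890 : ∀ i, i < 9890 → P i := stepQ 9889 Q9889 (allL N9889 (tt N9885 F32022) (tt N9739 F32023) (tt N9889 F32024) (tt N9197 F32025) (tt N9881 F32026) (tt N9880 F32027) (tt N8310 (iv D9986)) (tt N11275 (iv F37017)))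
theorem Q9891 : ∀ i, i < 9891 → P i := stepQ 9890 Q9890 (allL N9890 (tt N9890 F32028) (tt N9137 F32029) (tt N10854 (iv F35337)) (tt N9890 F32030) (tt N8329 F32031) (tt N8312 (iv D9987)) (tt N9890 F32032) (tt N8327 F32033))
theorem Q9892 : ∀ i, i < 9892 → P i := stepQ 9891 Q9891 (allL N9891 (tt N8355 F32034) (tt N8314 F32035) (tt N8797 F32036) (tt N9752 F32037) (tt N8315 F32038) (tt N11278 D11375) (tt N8313 (iv D9988)) (tt N9672 F32039))
theorem Q9893 : ∀ i, i < 9893 → P i := stepQ 9892 Q9892 (allL N9892 (tt N8357 F32040) (tt N9909 (iv F32103)) (tt N11041 (iv F36071)) (tt N9589 F32041) (tt N11278 (iv F37030)) (tt N8315 (iv D9989)) (tt N11044 (iv F36088)) (tt N9908 F32102))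
theorem Q9894 : ∀ i, i < 9894 → P i := stepQ 9893 Q9893 (allL N9893 (tt N8320 F32042) (tt N11183 (iv F36607)) (tt N8317 F32043) (tt N11040 (iv F36065)) (tt N9150 F32044) (tt N8316 (iv D9990)) (tt N9893 F32045) (tt N9905 (iv F32095)))
theorem Q9895 : ∀ i, i < 9895 → P i := stepQ 9894 Q9894 (allL N9894 (tt N9407 F32046) (tt N8376 F32047) (tt N8436 F32048) (tt N9370 F32049) (tt N8319 F32050) (tt N8421 F32051) (tt N8318 (iv D9991)) (tt N11279 D11376))
theorem Q9896 : ∀ i, i < 9896 → P i := stepQ 9895 Q9895 (allL N9895 (tt N11040 (iv F36063)) (tt N8417 F32052) (tt N8433 F32053) (tt N8320 F32054) (tt N8421 F32055) (tt N8319 (iv D9992)) (tt N9895 F32056) (tt N9215 (iv F32057)))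
theorem Q9897 : ∀ i, i < 9897 → P i := stepQ 9896 Q9896 (allL N9896 (tt N10241 (iv F33326)) (tt N8378 F32058) (tt N9481 F32059) (tt N11280 D11377) (tt N11279 (iv F37035)) (tt N9215 F32060) (tt N10239 F33323) (tt N8319 (iv D9993)))
theorem Q9898 : ∀ i, i < 9898 → P i := stepQ 9897 Q9897 (allL N9897 (tt N8418 (iv F32065)) (tt N8320 (iv D9994)) (tt N9897 F32061) (tt N8417 F32062) (tt N10639 (iv F34672)) (tt N8379 F32063) (tt N9897 F32064) (tt N11281 D11378))
theorem Q9899 : ∀ i, i < 9899 → P i := stepQ 9898 Q9898 (allL N9898 (tt N9905 (iv F32092)) (tt N11281 (iv F37042)) (tt N8322 F32066) (tt N11282 D11379) (tt N9424 F32067) (tt N8321 F32068) (tt N9423 (iv F32069)) (tt N8320 (iv D9995)))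
theorem Q9900 : ∀ i, i < 9900 → P i := stepQ 9899 Q9899 (allL N9899 (tt N9911 (iv F32109)) (tt N8381 F32070) (tt N9913 (iv F32117)) (tt N8321 (iv D9996)) (tt N11283 D11380) (tt N11282 (iv F37050)) (tt N10333 (iv F33594)) (tt N11280 (iv F37040)))
theorem Q9901 : ∀ i, i < 9901 → P i := stepQ 9900 Q9900 (allL N9900 (tt N8323 (iv D9997)) (tt N9900 F32071) (tt N11284 D11381) (tt N9846 F32072) (tt N8891 F32073) (tt N11070 (iv F36199)) (tt N8887 F32074) (tt N8407 F32075))
theorem Q9902 : ∀ i, i < 9902 → P i := stepQ 9901 Q9901 (allL N9901 (tt N11284 (iv F37054)) (tt N8330 F32076) (tt N8323 (iv D9998)) (tt N11285 D11382) (tt N8892 F32077) (tt N11071 (iv F36203)) (tt N8888 F32078) (tt N8408 F32079))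
theorem Q9903 : ∀ i, i < 9903 → P i := stepQ 9902 Q9902 (allL N9902 (tt N9902 F32080) (tt N10139 (iv F32973)) (tt N8431 F32081) (tt N8325 F32082) (tt N9399 F32083) (tt N9400 (iv F32084)) (tt N8324 (iv D9999)) (tt N9398 (iv F32085)))
theorem Q9904 : ∀ i, i < 9904 → P i := stepQ 9903 Q9903 (allL N9903 (tt N9903 F32086) (tt N11286 D11383) (tt N8327 F32087) (tt N9400 F32088) (tt N8326 F32089) (tt N8325 (iv D10000)) (tt N8855 F32090) (tt N10854 (iv F35336)))
theorem Q9905 : ∀ i, i < 9905 → P i := stepQ 9904 Q9904 (allL N9904 (tt N10154 (iv F33047)) (tt N8326 (iv D10001)) (tt N11287 D11384) (tt N10143 F32997) (tt N11286 (iv F37062)) (tt N11191 (iv F36644)) (tt N8904 F32091) (tt N11027 (iv F35996)))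
theorem Q9906 : ∀ i, i < 9906 → P i := stepQ 9905 Q9905 (allL N9905 (tt N9898 F32092) (tt N11287 (iv F37065)) (tt N8328 (iv D10002)) (tt N11288 D11385) (tt N10648 (iv F34709)) (tt N8335 F32093) (tt N8905 F32094) (tt N9893 F32095))
theorem Q9907 : ∀ i, i < 9907 → P i := stepQ 9906 Q9906 (allL N9906 (tt N10969 (iv F35751)) (tt N11285 (iv F37059)) (tt N11288 (iv F37069)) (tt N8330 (iv D10003)) (tt N11289 D11386) (tt N8337 F32096) (tt N8906 F32097) (tt N11290 D11387))
theorem Q9908 : ∀ i, i < 9908 → P i := stepQ 9907 Q9907 (allL N9907 (tt N9661 F32098) (tt N11098 (iv F36302)) (tt N11190 (iv F36640)) (tt N9658 F32099) (tt N8332 F32100) (tt N8331 (iv D10004)) (tt N11171 (iv F36564)) (tt N11271 (iv F36999)))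
theorem Q9909 : ∀ i, i < 9909 → P i := stepQ 9908 Q9908 (allL N9908 (tt N9933 (iv F32170)) (tt N8332 (iv D10005)) (tt N11291 D11388) (tt N10695 (iv F34848)) (tt N11098 (iv F36304)) (tt N8334 F32101) (tt N11172 (iv F36569)) (tt N9892 (iv F32102)))
theorem Q9910 : ∀ i, i < 9910 → P i := stepQ 9909 Q9909 (allL N9909 (tt N11175 (iv F36578)) (tt N9892 F32103) (tt N11007 (iv F35905)) (tt N9930 (iv F32160)) (tt N11271 (iv F36997)) (tt N8333 F32104) (tt N11292 D11389) (tt N8332 (iv D10006)))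
theorem Q9911 : ∀ i, i < 9911 → P i := stepQ 9910 Q9910 (allL N9910 (tt N9704 F32105) (tt N8335 F32106) (tt N8334 (iv D10007)) (tt N11293 D11390) (tt N10343 (iv F33624)) (tt N11291 (iv F37078)) (tt N9207 F32107) (tt N9601 F32108))
theorem Q9912 : ∀ i, i < 9912 → P i := stepQ 9911 Q9911 (allL N9911 (tt N9899 F32109) (tt N11293 (iv F37086)) (tt N8337 F32110) (tt N8335 (iv D10008)) (tt N11294 D11391) (tt N11288 (iv F37070)) (tt N9208 F32111) (tt N11295 D11392))
theorem Q9913 : ∀ i, i < 9913 → P i := stepQ 9912 Q9912 (allL N9912 (tt N10977 (iv F35778)) (tt N8336 (iv D10009)) (tt N8352 F32112) (tt N11296 D11393) (tt N9215 F32113) (tt N11279 (iv F37036)) (tt N9209 F32114) (tt N8421 F32115))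
theorem Q9914 : ∀ i, i < 9914 → P i := stepQ 9913 Q9913 (allL N9913 (tt N8337 F32116) (tt N11296 (iv F37098)) (tt N9899 F32117) (tt N8336 (iv D10010)) (tt N11297 D11394) (tt N10969 (iv F35754)) (tt N9210 F32118) (tt N11298 D11395))
theorem Q9915 : ∀ i, i < 9915 → P i := stepQ 9914 Q9914 (allL N9914 (tt N11297 (iv F37100)) (tt N11081 (iv F36240)) (tt N11294 (iv F37091)) (tt N9217 F32119) (tt N8337 (iv D10011)) (tt N11289 (iv F37073)) (tt N9211 F32120) (tt N11299 D11396))
theorem Q9916 : ∀ i, i < 9916 → P i := stepQ 9915 Q9915 (allL N9915 (tt N11298 (iv F37104)) (tt N11082 (iv F36243)) (tt N11295 (iv F37095)) (tt N8424 F32121) (tt N11299 (iv F37107)) (tt N11290 (iv F37076)) (tt N11300 D11397) (tt N8337 (iv D10012)))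
theorem Q9917 : ∀ i, i < 9917 → P i := stepQ 9916 Q9916 (allL N9916 (tt N8343 F32122) (tt N9879 F32123) (tt N10015 (iv F32504)) (tt N9603 F32124) (tt N9619 F32125) (tt N8339 F32126) (tt N11301 D11398) (tt N8338 (iv D10013)))
theorem Q9918 : ∀ i, i < 9918 → P i := stepQ 9917 Q9917 (allL N9917 (tt N10573 (iv F34435)) (tt N11272 (iv F37000)) (tt N9946 F32217) (tt N11302 D11399) (tt N10574 (iv F34442)) (tt N8342 F32127) (tt N11303 D11400) (tt N8341 (iv D10014)))
theorem Q9919 : ∀ i, i < 9919 → P i := stepQ 9918 Q9918 (allL N9918 (tt N10682 (iv F34815)) (tt N9466 F32128) (tt N9945 (iv F32210)) (tt N8342 (iv D10015)) (tt N11304 D11401) (tt N11302 (iv F37119)) (tt N11174 (iv F36576)) (tt N8349 F32129))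
theorem Q9920 : ∀ i, i < 9920 → P i := stepQ 9919 Q9919 (allL N9919 (tt N11301 (iv F37112)) (tt N9881 F32130) (tt N10993 (iv F35849)) (tt N9706 F32131) (tt N9739 F32132) (tt N11292 (iv F37084)) (tt N8343 (iv D10016)) (tt N11303 (iv F37125)))
theorem Q9921 : ∀ i, i < 9921 → P i := stepQ 9920 Q9920 (allL N9920 (tt N8347 F32133) (tt N10408 (iv F33879)) (tt N8846 F32134) (tt N11305 D11402) (tt N8346 F32135) (tt N9465 F32136) (tt N11087 (iv F36270)) (tt N8344 (iv D10017)))
theorem Q9922 : ∀ i, i < 9922 → P i := stepQ 9921 Q9921 (allL N9921 (tt N8348 F32137) (tt N9832 F32138) (tt N8847 F32139) (tt N11306 D11403) (tt N9465 F32140) (tt N8346 F32141) (tt N9822 F32142) (tt N8345 (iv D10018)))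
theorem Q9923 : ∀ i, i < 9923 → P i := stepQ 9922 Q9922 (allL N9922 (tt N8349 F32143) (tt N11139 (iv F36458)) (tt N11307 D11404) (tt N8346 (iv D10019)) (tt N11308 D11405) (tt N11306 (iv F37132)) (tt N11089 (iv F36277)) (tt N10682 (iv F34818)))
theorem Q9924 : ∀ i, i < 9924 → P i := stepQ 9923 Q9923 (allL N9923 (tt N11305 (iv F37128)) (tt N11273 (iv F37005)) (tt N11309 D11406) (tt N8347 (iv D10020)) (tt N11310 D11407) (tt N9466 F32144) (tt N11092 (iv F36287)) (tt N11274 (iv F37008)))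
theorem Q9925 : ∀ i, i < 9925 → P i := stepQ 9924 Q9924 (allL N9924 (tt N11306 (iv F37130)) (tt N10683 (iv F34820)) (tt N11311 D11408) (tt N8348 (iv D10021)) (tt N11312 D11409) (tt N8349 F32145) (tt N11313 D11410) (tt N11302 (iv F37120)))
theorem Q9926 : ∀ i, i < 9926 → P i := stepQ 9925 Q9925 (allL N9925 (tt N9822 F32146) (tt N10673 (iv F34787)) (tt N8851 F32147) (tt N11313 (iv F37151)) (tt N9204 F32148) (tt N11095 (iv F36294)) (tt N8348 (iv D10022)) (tt N8350 F32149))
theorem Q9927 : ∀ i, i < 9927 → P i := stepQ 9926 Q9926 (allL N9926 (tt N11307 (iv F37134)) (tt N10894 (iv F35478)) (tt N8349 (iv D10023)) (tt N8852 F32150) (tt N11314 D11411) (tt N11311 (iv F37147)) (tt N10868 (iv F35392)) (tt N9945 (iv F32211)))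
theorem Q9928 : ∀ i, i < 9928 → P i := stepQ 9927 Q9927 (allL N9927 (tt N11308 (iv F37138)) (tt N11277 (iv F37024)) (tt N11314 (iv F37152)) (tt N11310 (iv F37144)) (tt N8349 (iv D10024)) (tt N11312 (iv F37149)) (tt N11096 (iv F36296)) (tt N11304 (iv F37127)))
theorem Q9929 : ∀ i, i < 9929 → P i := stepQ 9928 Q9928 (allL N9928 (tt N10590 (iv F34508)) (tt N9928 F32151) (tt N11279 (iv F37034)) (tt N9959 (iv F32253)) (tt N9481 F32152) (tt N8352 (iv D10025)) (tt N10587 (iv F34494)) (tt N8436 F32153))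
theorem Q9930 : ∀ i, i < 9930 → P i := stepQ 9929 Q9929 (allL N9929 (tt N9535 F32154) (tt N9929 F32155) (tt N8354 (iv D10026)) (tt N10273 (iv F33419)) (tt N8985 F32156) (tt N11054 (iv F36131)) (tt N9775 F32157) (tt N8987 F32158))
theorem Q9931 : ∀ i, i < 9931 → P i := stepQ 9930 Q9930 (allL N9930 (tt N11278 (iv F37026)) (tt N9589 F32159) (tt N11134 (iv F36441)) (tt N9909 F32160) (tt N8357 F32161) (tt N8355 (iv D10027)) (tt N11061 (iv F36165)) (tt N10249 (iv F33355)))
theorem Q9932 : ∀ i, i < 9932 → P i := stepQ 9931 Q9931 (allL N9931 (tt N9672 F32162) (tt N8356 F32163) (tt N11135 (iv F36447)) (tt N9649 F32164) (tt N8358 F32165) (tt N10249 (iv F33353)) (tt N9656 F32166) (tt N8355 (iv D10028)))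
theorem Q9933 : ∀ i, i < 9933 → P i := stepQ 9932 Q9932 (allL N9932 (tt N11157 (iv F36522)) (tt N8357 (iv D10029)) (tt N10251 (iv F33362)) (tt N11090 (iv F36280)) (tt N9589 F32167) (tt N8359 F32168) (tt N11060 (iv F36161)) (tt N9179 (iv F32169)))
theorem Q9934 : ∀ i, i < 9934 → P i := stepQ 9933 Q9933 (allL N9933 (tt N9908 F32170) (tt N9179 F32171) (tt N11137 (iv F36453)) (tt N9205 (iv F32173)) (tt N10249 (iv F33352)) (tt N8358 F32172) (tt N10259 (iv F33387)) (tt N8357 (iv D10030)))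
theorem Q9935 : ∀ i, i < 9935 → P i := stepQ 9934 Q9934 (allL N9934 (tt N8371 F32174) (tt N8964 F32175) (tt N9368 F32176) (tt N8361 F32177) (tt N11110 (iv F36350)) (tt N11315 D11412) (tt N8360 (iv D10031)) (tt N10387 (iv F33783)))
theorem Q9936 : ∀ i, i < 9936 → P i := stepQ 9935 Q9935 (allL N9935 (tt N8372 F32178) (tt N10005 (iv F32446)) (tt N8362 F32179) (tt N11315 (iv F37155)) (tt N8364 F32180) (tt N8361 (iv D10032)) (tt N8857 F32181) (tt N10496 (iv F34167)))
theorem Q9937 : ∀ i, i < 9937 → P i := stepQ 9936 Q9936 (allL N9936 (tt N8373 F32182) (tt N11135 (iv F36446)) (tt N8363 F32183) (tt N11316 D11413) (tt N8365 F32184) (tt N10496 F34168) (tt N9780 F32185) (tt N8361 (iv D10033)))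
theorem Q9938 : ∀ i, i < 9938 → P i := stepQ 9937 Q9937 (allL N9937 (tt N10025 (iv F32549)) (tt N8364 (iv D10034)) (tt N9999 (iv F32416)) (tt N11129 (iv F36424)) (tt N10005 (iv F32448)) (tt N11136 (iv F36451)) (tt N8862 F32186) (tt N10487 (iv F34136)))
theorem Q9939 : ∀ i, i < 9939 → P i := stepQ 9938 Q9938 (allL N9938 (tt N8380 F32187) (tt N10487 (iv F34133)) (tt N8367 F32188) (tt N11317 D11414) (tt N10496 (iv F34166)) (tt N8365 F32189) (tt N10485 (iv F34127)) (tt N8364 (iv D10035)))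
theorem Q9940 : ∀ i, i < 9940 → P i := stepQ 9939 Q9939 (allL N9939 (tt N8381 F32190) (tt N11132 (iv F36432)) (tt N9180 F32191) (tt N8365 (iv D10036)) (tt N11318 D11415) (tt N11317 (iv F37165)) (tt N11079 (iv F36235)) (tt N11128 (iv F36422)))
theorem Q9941 : ∀ i, i < 9941 → P i := stepQ 9940 Q9940 (allL N9940 (tt N9367 F32192) (tt N9940 F32193) (tt N8370 F32194) (tt N9940 F32195) (tt N8368 (iv D10037)) (tt N8866 F32196) (tt N10385 (iv F33775)) (tt N9343 F32197))
theorem Q9942 : ∀ i, i < 9942 → P i := stepQ 9941 Q9941 (allL N9941 (tt N11110 (iv F36346)) (tt N9370 F32198) (tt N10385 (iv F33773)) (tt N8376 F32199) (tt N8371 F32200) (tt N11319 D11416) (tt N8370 (iv D10038)) (tt N10394 (iv F33803)))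
theorem Q9943 : ∀ i, i < 9943 → P i := stepQ 9942 Q9942 (allL N9942 (tt N11315 (iv F37153)) (tt N11320 D11417) (tt N9507 F32201) (tt N8372 F32202) (tt N11319 (iv F37172)) (tt N8371 (iv D10039)) (tt N8871 F32203) (tt N10391 (iv F33792)))
theorem Q9944 : ∀ i, i < 9944 → P i := stepQ 9943 Q9943 (allL N9943 (tt N10033 (iv F32595)) (tt N8372 (iv D10040)) (tt N9943 F32204) (tt N11320 (iv F37176)) (tt N8379 F32205) (tt N10639 (iv F34673)) (tt N8873 F32206) (tt N10525 (iv F34267)))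
theorem Q9945 : ∀ i, i < 9945 → P i := stepQ 9944 Q9944 (allL N9944 (tt N10496 (iv F34163)) (tt N10525 (iv F34264)) (tt N8374 F32207) (tt N11321 D11418) (tt N8380 F32208) (tt N8373 F32209) (tt N10493 (iv F34155)) (tt N8372 (iv D10041)))
theorem Q9946 : ∀ i, i < 9946 → P i := stepQ 9945 Q9945 (allL N9945 (tt N11316 (iv F37159)) (tt N10335 (iv F33597)) (tt N9918 F32210) (tt N8373 (iv D10042)) (tt N11322 D11419) (tt N11321 (iv F37182)) (tt N10331 (iv F33586)) (tt N9926 F32211))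
theorem Q9947 : ∀ i, i < 9947 → P i := stepQ 9946 Q9946 (allL N9946 (tt N9050 F32212) (tt N9946 F32213) (tt N9917 (iv F32217)) (tt N8374 (iv D10043)) (tt N9052 F32214) (tt N8375 F32215) (tt N10569 (iv F34421)) (tt N9514 F32216))
theorem Q9948 : ∀ i, i < 9948 → P i := stepQ 9947 Q9947 (allL N9947 (tt N11111 (iv F36351)) (tt N8415 F32218) (tt N9947 F32219) (tt N11319 (iv F37171)) (tt N8377 F32220) (tt N8376 (iv D10044)) (tt N8483 F32221) (tt N9003 (iv F32222)))
theorem Q9949 : ∀ i, i < 9949 → P i := stepQ 9948 Q9948 (allL N9948 (tt N11109 (iv F36340)) (tt N11279 (iv F37033)) (tt N9948 F32223) (tt N11323 D11420) (tt N8378 F32224) (tt N9003 F32225) (tt N9007 F32226) (tt N8376 (iv D10045)))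
theorem Q9950 : ∀ i, i < 9950 → P i := stepQ 9949 Q9949 (allL N9949 (tt N11128 (iv F36418)) (tt N11280 (iv F37038)) (tt N11324 D11421) (tt N8378 (iv D10046)) (tt N11325 D11422) (tt N10963 F35728) (tt N11125 (iv F36410)) (tt N8381 F32227))
theorem Q9951 : ∀ i, i < 9951 → P i := stepQ 9950 Q9950 (allL N9950 (tt N8379 (iv D10047)) (tt N10025 (iv F32550)) (tt N9950 F32228) (tt N8409 F32229) (tt N10033 (iv F32599)) (tt N8418 F32230) (tt N8881 F32231) (tt N10510 (iv F34221)))
theorem Q9952 : ∀ i, i < 9952 → P i := stepQ 9951 Q9951 (allL N9951 (tt N10510 (iv F34216)) (tt N8380 F32232) (tt N9951 F32233) (tt N10966 (iv F35742)) (tt N10525 (iv F34266)) (tt N11281 (iv F37046)) (tt N10508 (iv F34211)) (tt N8379 (iv D10048)))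
theorem Q9953 : ∀ i, i < 9953 → P i := stepQ 9952 Q9952 (allL N9952 (tt N11317 (iv F37163)) (tt N10966 (iv F35740)) (tt N11326 D11423) (tt N8380 (iv D10049)) (tt N11327 D11424) (tt N8381 F32234) (tt N11328 D11425) (tt N10963 F35729))
theorem Q9954 : ∀ i, i < 9954 → P i := stepQ 9953 Q9953 (allL N9953 (tt N10485 (iv F34123)) (tt N10508 (iv F34207)) (tt N8383 F32235) (tt N11328 (iv F37197)) (tt N10493 (iv F34154)) (tt N11105 (iv F36327)) (tt N8380 (iv D10050)) (tt N8884 F32236))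
theorem Q9955 : ∀ i, i < 9955 → P i := stepQ 9954 Q9954 (allL N9954 (tt N9180 F32237) (tt N11329 D11426) (tt N8381 (iv D10051)) (tt N8384 F32238) (tt N11330 D11427) (tt N11326 (iv F37195)) (tt N11080 (iv F36239)) (tt N11324 (iv F37191)))
theorem Q9956 : ∀ i, i < 9956 → P i := stepQ 9955 Q9955 (allL N9955 (tt N11318 (iv F37166)) (tt N11283 (iv F37053)) (tt N11330 (iv F37202)) (tt N11322 (iv F37185)) (tt N8381 (iv D10052)) (tt N11327 (iv F37196)) (tt N11106 (iv F36329)) (tt N11325 (iv F37192)))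
theorem Q9957 : ∀ i, i < 9957 → P i := stepQ 9956 Q9956 (allL N9956 (tt N9026 F32239) (tt N11331 D11428) (tt N8382 (iv D10053)) (tt N11326 (iv F37194)) (tt N9056 F32240) (tt N8384 F32241) (tt N11332 D11429) (tt N9956 F32242))
theorem Q9958 : ∀ i, i < 9958 → P i := stepQ 9957 Q9957 (allL N9957 (tt N9025 F32243) (tt N9957 F32244) (tt N11332 (iv F37211)) (tt N8383 F32245) (tt N9044 F32246) (tt N11073 (iv F36213)) (tt N8382 (iv D10054)) (tt N10070 (iv F32740)))
theorem Q9959 : ∀ i, i < 9959 → P i := stepQ 9958 Q9958 (allL N9958 (tt N9209 F32247) (tt N8384 (iv D10055)) (tt N8385 F32248) (tt N11329 (iv F37200)) (tt N9198 F32249) (tt N11333 D11430) (tt N10977 (iv F35782)) (tt N9958 F32250))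
theorem Q9960 : ∀ i, i < 9960 → P i := stepQ 9959 Q9959 (allL N9959 (tt N9478 F32251) (tt N9959 F32252) (tt N11333 (iv F37215)) (tt N9928 F32253) (tt N9475 F32254) (tt N8385 (iv D10056)) (tt N10589 (iv F34507)) (tt N9959 F32255))
theorem Q9961 : ∀ i, i < 9961 → P i := stepQ 9960 Q9960 (allL N9960 (tt N9960 F32256) (tt N8440 F32257) (tt N9960 F32258) (tt N8437 F32259) (tt N8387 F32260) (tt N9962 (iv F32271)) (tt N8386 (iv D10057)) (tt N9961 (iv F32265)))
theorem Q9962 : ∀ i, i < 9962 → P i := stepQ 9961 Q9961 (allL N9961 (tt N9961 F32261) (tt N9997 (iv F32403)) (tt N9961 F32262) (tt N8388 F32263) (tt N9962 (iv F32270)) (tt N8387 (iv D10058)) (tt N8839 F32264) (tt N9960 F32265))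
theorem Q9963 : ∀ i, i < 9963 → P i := stepQ 9962 Q9962 (allL N9962 (tt N9962 F32266) (tt N8864 F32267) (tt N9962 F32268) (tt N8401 F32269) (tt N9961 F32270) (tt N9960 F32271) (tt N8396 F32272) (tt N8387 (iv D10059)))
theorem Q9964 : ∀ i, i < 9964 → P i := stepQ 9963 Q9963 (allL N9963 (tt N10021 (iv F32532)) (tt N8388 (iv D10060)) (tt N10404 (iv F33855)) (tt N9997 (iv F32405)) (tt N8842 F32273) (tt N10405 (iv F33863)) (tt N8841 F32274) (tt N8402 F32275))
theorem Q9965 : ∀ i, i < 9965 → P i := stepQ 9964 Q9964 (allL N9964 (tt N8484 F32276) (tt N8392 F32277) (tt N9595 F32278) (tt N8390 F32279) (tt N8856 F32280) (tt N10029 (iv F32577)) (tt N8389 (iv D10061)) (tt N8450 F32281))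
theorem Q9966 : ∀ i, i < 9966 → P i := stepQ 9965 Q9965 (allL N9965 (tt N8483 F32282) (tt N10026 F32560) (tt N9965 F32283) (tt N10029 (iv F32575)) (tt N8398 F32284) (tt N8390 (iv D10062)) (tt N11111 (iv F36354)) (tt N8447 F32285))
theorem Q9967 : ∀ i, i < 9967 → P i := stepQ 9966 Q9966 (allL N9966 (tt N9966 F32286) (tt N8856 F32287) (tt N9966 F32288) (tt N8399 F32289) (tt N8392 F32290) (tt N9968 (iv F32301)) (tt N8391 (iv D10063)) (tt N9967 (iv F32295)))
theorem Q9968 : ∀ i, i < 9968 → P i := stepQ 9967 Q9967 (allL N9967 (tt N9967 F32291) (tt N10007 (iv F32458)) (tt N9967 F32292) (tt N8393 F32293) (tt N9968 (iv F32300)) (tt N8392 (iv D10064)) (tt N8395 F32294) (tt N9966 F32295))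
theorem Q9969 : ∀ i, i < 9969 → P i := stepQ 9968 Q9968 (allL N9968 (tt N9968 F32296) (tt N8450 F32297) (tt N9968 F32298) (tt N8439 F32299) (tt N9967 F32300) (tt N9966 F32301) (tt N8840 F32302) (tt N8392 (iv D10065)))
theorem Q9970 : ∀ i, i < 9970 → P i := stepQ 9969 Q9969 (allL N9969 (tt N10027 (iv F32562)) (tt N8393 (iv D10066)) (tt N10024 (iv F32544)) (tt N10007 (iv F32460)) (tt N8402 F32303) (tt N10026 (iv F32557)) (tt N8397 F32304) (tt N8842 F32305))
theorem Q9971 : ∀ i, i < 9971 → P i := stepQ 9970 Q9970 (allL N9970 (tt N9861 (iv F32308)) (tt N8395 (iv D10067)) (tt N10028 (iv F32570)) (tt N8397 F32306) (tt N9836 F32307) (tt N11121 (iv F36391)) (tt N10007 (iv F32462)) (tt N10116 (iv F32902)))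
theorem Q9972 : ∀ i, i < 9972 → P i := stepQ 9971 Q9971 (allL N9971 (tt N8397 (iv D10068)) (tt N9971 F32309) (tt N11129 (iv F36429)) (tt N9861 F32310) (tt N8407 F32311) (tt N11123 (iv F36398)) (tt N10027 (iv F32567)) (tt N8891 F32312))
theorem Q9973 : ∀ i, i < 9973 → P i := stepQ 9972 Q9972 (allL N9972 (tt N11129 (iv F36423)) (tt N8409 F32313) (tt N8397 (iv D10069)) (tt N10025 (iv F32552)) (tt N8408 F32314) (tt N11124 (iv F36405)) (tt N10024 F32548) (tt N8892 F32315))
theorem Q9974 : ∀ i, i < 9974 → P i := stepQ 9973 Q9973 (allL N9973 (tt N10024 (iv F32542)) (tt N8398 (iv D10070)) (tt N10027 (iv F32564)) (tt N8862 F32316) (tt N10026 (iv F32561)) (tt N8402 F32317) (tt N11129 (iv F36427)) (tt N10405 (iv F33865)))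
theorem Q9975 : ∀ i, i < 9975 → P i := stepQ 9974 Q9974 (allL N9974 (tt N10026 (iv F32555)) (tt N8411 F32318) (tt N8402 (iv D10071)) (tt N10000 (iv F32420)) (tt N10024 (iv F32545)) (tt N10027 (iv F32566)) (tt N8408 F32319) (tt N10404 (iv F33859)))
theorem Q9976 : ∀ i, i < 9976 → P i := stepQ 9975 Q9975 (allL N9975 (tt N8408 F32320) (tt N11111 (iv F36356)) (tt N8407 (iv D10072)) (tt N9851 F32321) (tt N11129 (iv F36425)) (tt N11118 (iv F36378)) (tt N10026 (iv F32558)) (tt N11284 (iv F37057)))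
theorem Q9977 : ∀ i, i < 9977 → P i := stepQ 9976 Q9976 (allL N9976 (tt N9851 F32322) (tt N8416 F32323) (tt N9831 F32324) (tt N8408 (iv D10073)) (tt N10034 (iv F32605)) (tt N11140 (iv F36463)) (tt N10000 (iv F32422)) (tt N11334 D11431))
theorem Q9978 : ∀ i, i < 9978 → P i := stepQ 9977 Q9977 (allL N9977 (tt N11034 (iv F36026)) (tt N10000 (iv F32424)) (tt N10002 (iv F32433)) (tt N8411 (iv D10074)) (tt N10032 (iv F32592)) (tt N9977 F32325) (tt N8416 F32326) (tt N10402 (iv F33849)))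
theorem Q9979 : ∀ i, i < 9979 → P i := stepQ 9978 Q9978 (allL N9978 (tt N8414 F32327) (tt N9995 (iv F32391)) (tt N8413 (iv D10075)) (tt N10980 (iv F35799)) (tt N9978 F32328) (tt N8419 F32329) (tt N10012 (iv F32488)) (tt N9878 F32330))
theorem Q9980 : ∀ i, i < 9980 → P i := stepQ 9979 Q9979 (allL N9979 (tt N10980 (iv F35796)) (tt N9493 F32331) (tt N8416 F32332) (tt N8414 (iv D10076)) (tt N9491 (iv F32335)) (tt N8420 F32333) (tt N10002 (iv F32436)) (tt N9489 F32334))
theorem Q9981 : ∀ i, i < 9981 → P i := stepQ 9980 Q9980 (allL N9980 (tt N8416 F32336) (tt N11319 (iv F37169)) (tt N10980 (iv F35798)) (tt N8415 (iv D10077)) (tt N11320 (iv F37177)) (tt N8422 F32337) (tt N11034 (iv F36031)) (tt N10978 F35787))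
theorem Q9982 : ∀ i, i < 9982 → P i := stepQ 9981 Q9981 (allL N9981 (tt N11320 (iv F37174)) (tt N10034 (iv F32602)) (tt N9491 F32338) (tt N10033 (iv F32598)) (tt N8416 (iv D10078)) (tt N8423 F32339) (tt N10032 F32594) (tt N9488 (iv F32340)))
theorem Q9983 : ∀ i, i < 9983 → P i := stepQ 9982 Q9982 (allL N9982 (tt N10978 (iv F35784)) (tt N11334 (iv F37220)) (tt N9489 F32341) (tt N11290 (iv F37075)) (tt N9488 F32342) (tt N8424 F32343) (tt N10974 (iv F35769)) (tt N8416 (iv D10079)))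
theorem Q9984 : ∀ i, i < 9984 → P i := stepQ 9983 Q9983 (allL N9983 (tt N10639 (iv F34675)) (tt N11184 (iv F36612)) (tt N9983 F32344) (tt N8423 F32345) (tt N8418 (iv D10080)) (tt N10033 F32601) (tt N9983 F32346) (tt N10529 (iv F34277)))
theorem Q9985 : ∀ i, i < 9985 → P i := stepQ 9984 Q9984 (allL N9984 (tt N11281 (iv F37041)) (tt N11185 (iv F36615)) (tt N9984 F32347) (tt N9218 F32348) (tt N10529 (iv F34275)) (tt N10510 F34222) (tt N10928 (iv F35599)) (tt N8418 (iv D10081)))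
theorem Q9986 : ∀ i, i < 9986 → P i := stepQ 9985 Q9985 (allL N9985 (tt N8420 F32349) (tt N9985 F32350) (tt N8422 F32351) (tt N8419 (iv D10082)) (tt N11335 D11432) (tt N10980 (iv F35801)) (tt N9985 F32352) (tt N10979 F35795))
theorem Q9987 : ∀ i, i < 9987 → P i := stepQ 9986 Q9986 (allL N9986 (tt N11335 (iv F37224)) (tt N9501 F32353) (tt N8423 F32354) (tt N9986 F32355) (tt N8420 (iv D10083)) (tt N9491 F32356) (tt N9986 F32357) (tt N9490 (iv F32358)))
theorem Q9988 : ∀ i, i < 9988 → P i := stepQ 9987 Q9987 (allL N9987 (tt N10979 (iv F35789)) (tt N9037 F32359) (tt N8424 F32360) (tt N9071 F32361) (tt N9490 F32362) (tt N9489 F32363) (tt N9035 (iv F32364)) (tt N8420 (iv D10084)))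
theorem Q9989 : ∀ i, i < 9989 → P i := stepQ 9988 Q9988 (allL N9988 (tt N9408 F32365) (tt N8422 F32366) (tt N9988 F32367) (tt N8421 (iv D10085)) (tt N9375 F32368) (tt N9370 F32369) (tt N9988 F32370) (tt N11336 D11433))
theorem Q9990 : ∀ i, i < 9990 → P i := stepQ 9989 Q9989 (allL N9989 (tt N8423 F32371) (tt N9375 F32372) (tt N11335 (iv F37226)) (tt N10639 (iv F34671)) (tt N8422 (iv D10086)) (tt N11320 (iv F37178)) (tt N9989 F32373) (tt N11337 D11434))
theorem Q9991 : ∀ i, i < 9991 → P i := stepQ 9990 Q9990 (allL N9990 (tt N8424 F32374) (tt N11336 (iv F37232)) (tt N10979 (iv F35791)) (tt N11298 (iv F37106)) (tt N11337 (iv F37239)) (tt N10978 (iv F35788)) (tt N11338 D11435) (tt N8422 (iv D10087)))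
theorem Q9992 : ∀ i, i < 9992 → P i := stepQ 9991 Q9991 (allL N9991 (tt N11337 (iv F37236)) (tt N11188 (iv F36631)) (tt N9490 F32375) (tt N11339 D11436) (tt N8424 F32376) (tt N9488 F32377) (tt N11340 D11437) (tt N8423 (iv D10088)))
theorem Q9993 : ∀ i, i < 9993 → P i := stepQ 9992 Q9992 (allL N9992 (tt N11338 (iv F37241)) (tt N9030 F32378) (tt N9035 F32379) (tt N11300 (iv F37110)) (tt N11340 (iv F37248)) (tt N11341 D11438) (tt N8424 (iv D10089)) (tt N9992 F32380))
theorem Q9994 : ∀ i, i < 9994 → P i := stepQ 9993 Q9993 (allL N9993 (tt N10166 (iv F33092)) (tt N9340 F32381) (tt N10505 (iv F34199)) (tt N8428 F32382) (tt N9338 F32383) (tt N11213 (iv F36743)) (tt N8427 (iv D10090)) (tt N10171 (iv F33123)))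
theorem Q9995 : ∀ i, i < 9995 → P i := stepQ 9994 Q9994 (allL N9994 (tt N9431 (iv F32389)) (tt N8432 (iv D10091)) (tt N10898 (iv F35491)) (tt N9531 F32384) (tt N8907 F32385) (tt N9429 F32386) (tt N8914 F32387) (tt N9994 F32388))
theorem Q9996 : ∀ i, i < 9996 → P i := stepQ 9995 Q9995 (allL N9995 (tt N8435 F32390) (tt N9978 F32391) (tt N9995 F32392) (tt N9482 F32393) (tt N9995 F32394) (tt N9995 F32395) (tt N8493 F32396) (tt N8434 (iv D10092)))
theorem Q9997 : ∀ i, i < 9997 → P i := stepQ 9996 Q9996 (allL N9996 (tt N8472 F32397) (tt N10398 (iv F33824)) (tt N8869 F32398) (tt N8441 F32399) (tt N10406 (iv F33870)) (tt N8440 (iv D10093)) (tt N8962 F32400) (tt N8878 (iv F32401)))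
theorem Q9998 : ∀ i, i < 9998 → P i := stepQ 9997 Q9997 (allL N9997 (tt N8473 F32402) (tt N9961 F32403) (tt N8876 F32404) (tt N9963 F32405) (tt N8864 F32406) (tt N8878 F32407) (tt N10383 (iv F33762)) (tt N8440 (iv D10094)))
theorem Q9999 : ∀ i, i < 9999 → P i := stepQ 9998 Q9998 (allL N9998 (tt N8478 F32408) (tt N9503 F32409) (tt N8490 (iv F32413)) (tt N8443 (iv D10095)) (tt N8489 F32410) (tt N8444 F32411) (tt N11261 (iv F36956)) (tt N8867 F32412))
theorem Q10000 : ∀ i, i < 10000 → P i := stepQ 9999 Q9999 (allL N9999 (tt N8479 F32414) (tt N9081 F32415) (tt N9937 F32416) (tt N11261 (iv F36955)) (tt N8452 F32417) (tt N11230 (iv F36808)) (tt N8443 (iv D10096)) (tt N8969 F32418))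
theorem Q10001 : ∀ i, i < 10001 → P i := stepQ 10000 Q10000 (allL N10000 (tt N8480 F32419) (tt N9977 F32424) (tt N8444 (iv D10097)) (tt N9974 F32420) (tt N8487 (iv F32425)) (tt N8490 F32421) (tt N9976 F32422) (tt N8871 F32423))
theorem Q10002 : ∀ i, i < 10002 → P i := stepQ 10001 Q10001 (allL N10001 (tt N8481 F32426) (tt N8446 F32427) (tt N8487 F32428) (tt N8454 F32429) (tt N8444 (iv D10098)) (tt N8489 F32430) (tt N9624 F32431) (tt N9506 F32432))
theorem Q10003 : ∀ i, i < 10003 → P i := stepQ 10002 Q10002 (allL N10002 (tt N10992 (iv F35841)) (tt N8445 (iv D10099)) (tt N9977 F32433) (tt N8462 F32434) (tt N10986 (iv F35822)) (tt N10002 F32435) (tt N9979 F32436) (tt N9508 F32437))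
theorem Q10004 : ∀ i, i < 10004 → P i := stepQ 10003 Q10003 (allL N10003 (tt N10404 (iv F33853)) (tt N8447 (iv D10100)) (tt N10021 (iv F32534)) (tt N8448 F32438) (tt N10405 (iv F33862)) (tt N8842 F32439) (tt N8971 F32440) (tt N10026 (iv F32559)))
theorem Q10005 : ∀ i, i < 10005 → P i := stepQ 10004 Q10004 (allL N10004 (tt N8487 F32441) (tt N10018 (iv F32516)) (tt N8481 F32442) (tt N8449 (iv D10101)) (tt N8480 (iv F32444)) (tt N8450 F32443) (tt N11251 (iv F36907)) (tt N10029 (iv F32578)))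
theorem Q10006 : ∀ i, i < 10006 → P i := stepQ 10005 Q10005 (allL N10005 (tt N8488 F32445) (tt N9935 F32446) (tt N8452 F32447) (tt N11251 (iv F36906)) (tt N9937 F32448) (tt N11237 (iv F36840)) (tt N8449 (iv D10102)) (tt N8978 F32449))
theorem Q10007 : ∀ i, i < 10007 → P i := stepQ 10006 Q10006 (allL N10006 (tt N8489 F32450) (tt N10006 F32451) (tt N8450 (iv D10103)) (tt N8453 F32452) (tt N8478 (iv F32456)) (tt N8481 F32453) (tt N9625 F32454) (tt N9595 F32455))
theorem Q10008 : ∀ i, i < 10008 → P i := stepQ 10007 Q10007 (allL N10007 (tt N8490 F32457) (tt N9967 F32458) (tt N8478 F32459) (tt N9969 F32460) (tt N8450 (iv D10104)) (tt N8480 F32461) (tt N9970 F32462) (tt N8856 F32463))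
theorem Q10009 : ∀ i, i < 10009 → P i := stepQ 10008 Q10008 (allL N10008 (tt N10008 F32464) (tt N8463 F32465) (tt N10008 F32466) (tt N10008 F32467) (tt N8455 (iv D10105)) (tt N10008 F32468) (tt N9175 F32469) (tt N11036 (iv F36044)))
theorem Q10010 : ∀ i, i < 10010 → P i := stepQ 10009 Q10009 (allL N10009 (tt N10009 F32470) (tt N8465 F32471) (tt N10009 F32472) (tt N10572 (iv F34431)) (tt N11036 (iv F36042)) (tt N10009 F32473) (tt N10499 (iv F34180)) (tt N8455 (iv D10106)))
theorem Q10011 : ∀ i, i < 10011 → P i := stepQ 10010 Q10010 (allL N10010 (tt N10010 F32474) (tt N8466 F32475) (tt N10565 (iv F34404)) (tt N8456 (iv D10107)) (tt N9055 (iv F32478)) (tt N10010 F32476) (tt N9051 F32477) (tt N10572 (iv F34434)))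
theorem Q10012 : ∀ i, i < 10012 → P i := stepQ 10011 Q10011 (allL N10011 (tt N10011 F32479) (tt N9613 F32480) (tt N8457 (iv D10108)) (tt N10565 (iv F34405)) (tt N9612 F32481) (tt N10011 F32482) (tt N10559 F34386) (tt N10011 F32483))
theorem Q10013 : ∀ i, i < 10013 → P i := stepQ 10012 Q10012 (allL N10012 (tt N8462 (iv D10109)) (tt N8493 F32484) (tt N9588 F32485) (tt N10992 F35846) (tt N10012 F32486) (tt N10012 F32487) (tt N9978 F32488) (tt N10012 F32489))
theorem Q10014 : ∀ i, i < 10014 → P i := stepQ 10013 Q10013 (allL N10013 (tt N9178 F32490) (tt N9175 F32491) (tt N8471 F32492) (tt N10013 F32493) (tt N8464 F32494) (tt N9177 F32495) (tt N8463 (iv D10110)) (tt N8885 (iv F32496)))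
theorem Q10015 : ∀ i, i < 10015 → P i := stepQ 10014 Q10014 (allL N10014 (tt N8876 F32497) (tt N9171 F32498) (tt N8473 F32499) (tt N8859 F32500) (tt N8885 F32501) (tt N8860 F32502) (tt N10494 (iv F34160)) (tt N8464 (iv D10111)))
theorem Q10016 : ∀ i, i < 10016 → P i := stepQ 10015 Q10015 (allL N10015 (tt N9511 F32503) (tt N10572 (iv F34429)) (tt N9916 F32504) (tt N8465 (iv D10112)) (tt N11054 (iv F36130)) (tt N8985 F32505) (tt N10571 (iv F34427)) (tt N8466 F32506))
theorem Q10017 : ∀ i, i < 10017 → P i := stepQ 10016 Q10016 (allL N10016 (tt N9512 F32507) (tt N10499 (iv F34176)) (tt N8474 F32508) (tt N10571 (iv F34425)) (tt N11037 (iv F36050)) (tt N11342 D11439) (tt N8465 (iv D10113)) (tt N10494 (iv F34161)))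
theorem Q10018 : ∀ i, i < 10018 → P i := stepQ 10017 Q10017 (allL N10017 (tt N9513 F32509) (tt N9055 F32510) (tt N9879 F32511) (tt N10017 F32512) (tt N8466 (iv D10114)) (tt N8987 F32513) (tt N9054 F32514) (tt N11054 (iv F36132)))
theorem Q10019 : ∀ i, i < 10019 → P i := stepQ 10018 Q10018 (allL N10018 (tt N8871 F32515) (tt N10004 F32516) (tt N8467 (iv D10115)) (tt N8857 F32517) (tt N10029 (iv F32576)) (tt N8856 F32518) (tt N11315 (iv F37157)) (tt N8480 F32519))
theorem Q10020 : ∀ i, i < 10020 → P i := stepQ 10019 Q10019 (allL N10019 (tt N9507 F32520) (tt N8469 F32521) (tt N11315 (iv F37154)) (tt N8468 F32522) (tt N9853 F32523) (tt N9368 F32524) (tt N8467 (iv D10116)) (tt N10386 (iv F33781)))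
theorem Q10021 : ∀ i, i < 10021 → P i := stepQ 10020 Q10020 (allL N10020 (tt N8878 F32525) (tt N9545 F32526) (tt N8860 F32527) (tt N9552 F32530) (tt N8883 F32528) (tt N8473 F32529) (tt N9543 (iv F32531)) (tt N8472 (iv D10117)))
theorem Q10022 : ∀ i, i < 10022 → P i := stepQ 10021 Q10021 (allL N10021 (tt N9963 F32532) (tt N10021 F32533) (tt N10003 F32534) (tt N8473 (iv D10118)) (tt N8875 F32535) (tt N9552 F32536) (tt N10384 (iv F33770)) (tt N8477 F32537))
theorem Q10023 : ∀ i, i < 10023 → P i := stepQ 10022 Q10022 (allL N10022 (tt N10383 F33765) (tt N10022 F32538) (tt N10494 (iv F34158)) (tt N10384 (iv F33768)) (tt N8657 F32539) (tt N11343 D11440) (tt N8473 (iv D10119)) (tt N8474 F32540))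
theorem Q10024 : ∀ i, i < 10024 → P i := stepQ 10023 Q10023 (allL N10023 (tt N11120 (iv F36385)) (tt N11344 D11441) (tt N11342 (iv F37257)) (tt N11046 (iv F36095)) (tt N11038 (iv F36054)) (tt N8474 (iv D10120)) (tt N8992 F32541) (tt N11343 (iv F37263)))
theorem Q10025 : ∀ i, i < 10025 → P i := stepQ 10024 Q10024 (allL N10024 (tt N9973 F32542) (tt N9554 F32543) (tt N9969 F32544) (tt N8476 (iv D10121)) (tt N9974 F32545) (tt N8477 F32546) (tt N9972 (iv F32548)) (tt N9552 F32547))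
theorem Q10026 : ∀ i, i < 10026 → P i := stepQ 10025 Q10025 (allL N10025 (tt N9937 F32549) (tt N9950 F32550) (tt N8479 F32551) (tt N9972 F32552) (tt N8488 F32553) (tt N11246 (iv F36883)) (tt N8476 (iv D10122)) (tt N8996 F32554))
theorem Q10027 : ∀ i, i < 10027 → P i := stepQ 10026 Q10026 (allL N10026 (tt N9974 F32555) (tt N9965 (iv F32560)) (tt N8477 (iv D10123)) (tt N8480 F32556) (tt N9973 F32561) (tt N9969 F32557) (tt N9975 F32558) (tt N10003 F32559))
theorem Q10028 : ∀ i, i < 10028 → P i := stepQ 10027 Q10027 (allL N10027 (tt N9969 F32562) (tt N10027 F32563) (tt N9973 F32564) (tt N8490 F32565) (tt N8477 (iv D10124)) (tt N9974 F32566) (tt N9971 F32567) (tt N8875 F32568))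
theorem Q10029 : ∀ i, i < 10029 → P i := stepQ 10028 Q10028 (allL N10028 (tt N11261 (iv F36952)) (tt N10028 F32569) (tt N9970 F32570) (tt N8479 F32571) (tt N9625 F32572) (tt N11249 (iv F36898)) (tt N8478 (iv D10125)) (tt N9304 F32573))
theorem Q10030 : ∀ i, i < 10030 → P i := stepQ 10029 Q10029 (allL N10029 (tt N10030 (iv F32579)) (tt N8480 (iv D10126)) (tt N8482 F32574) (tt N9965 F32575) (tt N10018 F32576) (tt N9964 F32577) (tt N11250 (iv F36903)) (tt N10004 F32578))
theorem Q10031 : ∀ i, i < 10031 → P i := stepQ 10030 Q10030 (allL N10030 (tt N10029 F32579) (tt N11034 (iv F36027)) (tt N9506 (iv F32583)) (tt N8483 (iv D10127)) (tt N8871 F32580) (tt N8484 F32581) (tt N11319 (iv F37173)) (tt N8487 F32582))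
theorem Q10032 : ∀ i, i < 10032 → P i := stepQ 10031 Q10031 (allL N10031 (tt N9595 F32584) (tt N9505 (iv F32590)) (tt N8484 (iv D10128)) (tt N10031 F32585) (tt N8867 F32586) (tt N9506 F32587) (tt N8866 F32588) (tt N8489 F32589))
theorem Q10033 : ∀ i, i < 10033 → P i := stepQ 10032 Q10032 (allL N10032 (tt N10402 (iv F33845)) (tt N8487 F32591) (tt N10986 (iv F35820)) (tt N8486 (iv D10129)) (tt N9977 F32592) (tt N10032 F32593) (tt N9981 (iv F32594)) (tt N11034 (iv F36032)))
theorem Q10034 : ∀ i, i < 10034 → P i := stepQ 10033 Q10033 (allL N10033 (tt N9943 F32595) (tt N8488 F32596) (tt N10033 F32597) (tt N9981 F32598) (tt N9950 F32599) (tt N9983 (iv F32601)) (tt N8486 (iv D10130)) (tt N9011 F32600))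
theorem Q10035 : ∀ i, i < 10035 → P i := stepQ 10034 Q10034 (allL N10034 (tt N11251 (iv F36904)) (tt N9981 F32602) (tt N9624 F32603) (tt N8488 F32604) (tt N9976 F32605) (tt N11259 (iv F36944)) (tt N8487 (iv D10131)) (tt N10983 (iv F35813)))
theorem Q10036 : ∀ i, i < 10036 → P i := stepQ 10035 Q10035 (allL N10035 (tt N10035 F32606) (tt N8489 (iv D10132)) (tt N10035 F32607) (tt N8492 F32608) (tt N9503 F32609) (tt N9504 F32610) (tt N11260 (iv F36949)) (tt N9505 F32611))
theorem Q10037 : ∀ i, i < 10037 → P i := stepQ 10036 Q10036 (allL N10036 (tt N8662 F32612) (tt N9161 F32613) (tt N11345 D11442) (tt N8494 (iv D10133)) (tt N11346 D11443) (tt N10363 (iv F33685)) (tt N8805 F32614) (tt N9006 F32615))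
theorem Q10038 : ∀ i, i < 10038 → P i := stepQ 10037 Q10037 (allL N10037 (tt N8496 F32616) (tt N9435 F32617) (tt N10037 F32618) (tt N9437 F32619) (tt N9146 F32620) (tt N8495 (iv D10134)) (tt N10037 F32621) (tt N11347 D11444))
theorem Q10039 : ∀ i, i < 10039 → P i := stepQ 10038 Q10038 (allL N10038 (tt N8497 F32622) (tt N8666 F32623) (tt N10038 F32624) (tt N11348 D11445) (tt N9145 F32625) (tt N11347 (iv F37283)) (tt N9142 F32626) (tt N8495 (iv D10135)))
theorem Q10040 : ∀ i, i < 10040 → P i := stepQ 10039 Q10039 (allL N10039 (tt N11347 (iv F37279)) (tt N9390 F32627) (tt N10039 F32628) (tt N11349 D11446) (tt N9162 F32629) (tt N8497 F32630) (tt N11029 (iv F36005)) (tt N8496 (iv D10136)))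
theorem Q10041 : ∀ i, i < 10041 → P i := stepQ 10040 Q10040 (allL N10040 (tt N11348 (iv F37284)) (tt N8498 F32631) (tt N10704 (iv F34881)) (tt N8497 (iv D10137)) (tt N11350 D11447) (tt N11349 (iv F37288)) (tt N9158 F32632) (tt N10202 (iv F33218)))
theorem Q10042 : ∀ i, i < 10042 → P i := stepQ 10041 Q10041 (allL N10041 (tt N8671 F32633) (tt N11350 (iv F37289)) (tt N9699 F32634) (tt N11346 (iv F37276)) (tt N8498 (iv D10138)) (tt N10368 (iv F33704)) (tt N11351 D11448) (tt N10203 (iv F33221)))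
theorem Q10043 : ∀ i, i < 10043 → P i := stepQ 10042 Q10042 (allL N10042 (tt N8672 F32635) (tt N9158 F32636) (tt N9700 F32637) (tt N8499 F32638) (tt N11351 (iv F37296)) (tt N11352 D11449) (tt N8498 (iv D10139)) (tt N10697 (iv F34860)))
theorem Q10044 : ∀ i, i < 10044 → P i := stepQ 10043 Q10043 (allL N10043 (tt N8673 F32639) (tt N11353 D11450) (tt N8510 F32640) (tt N11352 (iv F37299)) (tt N8804 F32641) (tt N8499 (iv D10140)) (tt N9356 F32642) (tt N8501 F32643))
theorem Q10045 : ∀ i, i < 10045 → P i := stepQ 10044 Q10044 (allL N10044 (tt N8675 F32644) (tt N10155 (iv F33050)) (tt N9665 F32645) (tt N8501 F32646) (tt N8795 F32647) (tt N8500 (iv D10141)) (tt N8503 F32648) (tt N10696 (iv F34857)))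
theorem Q10046 : ∀ i, i < 10046 → P i := stepQ 10045 Q10045 (allL N10045 (tt N11354 D11451) (tt N8501 (iv D10142)) (tt N11355 D11452) (tt N10155 F33055) (tt N8803 F32649) (tt N9156 F32650) (tt N8505 F32651) (tt N11353 (iv F37305)))
theorem Q10047 : ∀ i, i < 10047 → P i := stepQ 10046 Q10046 (allL N10046 (tt N8679 F32652) (tt N9663 F32653) (tt N8503 F32654) (tt N8514 F32655) (tt N9666 F32656) (tt N8502 (iv D10143)) (tt N9665 F32657) (tt N11356 D11453))
theorem Q10048 : ∀ i, i < 10048 → P i := stepQ 10047 Q10047 (allL N10047 (tt N8680 F32658) (tt N10066 (iv F32723)) (tt N8504 F32659) (tt N9302 (iv F32660)) (tt N11242 (iv F36858)) (tt N11356 (iv F37323)) (tt N11045 (iv F36093)) (tt N8502 (iv D10144)))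
theorem Q10049 : ∀ i, i < 10049 → P i := stepQ 10048 Q10048 (allL N10048 (tt N11210 (iv F36727)) (tt N8503 (iv D10145)) (tt N10152 (iv F33037)) (tt N8505 F32661) (tt N10156 (iv F33057)) (tt N10048 F32662) (tt N10155 (iv F33053)) (tt N11209 (iv F36725)))
theorem Q10050 : ∀ i, i < 10050 → P i := stepQ 10049 Q10049 (allL N10049 (tt N8684 F32663) (tt N11209 F36726) (tt N11356 (iv F37321)) (tt N9297 F32664) (tt N11243 (iv F36863)) (tt N8504 F32665) (tt N11214 (iv F36746)) (tt N8503 (iv D10146)))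
theorem Q10051 : ∀ i, i < 10051 → P i := stepQ 10050 Q10050 (allL N10050 (tt N8505 (iv D10147)) (tt N8685 F32666) (tt N11025 (iv F35986)) (tt N11210 (iv F36730)) (tt N11020 (iv F35963)) (tt N10050 F32667) (tt N11354 (iv F37310)) (tt N10369 (iv F33709)))
theorem Q10052 : ∀ i, i < 10052 → P i := stepQ 10051 Q10051 (allL N10051 (tt N11025 (iv F35984)) (tt N8517 F32668) (tt N8505 (iv D10148)) (tt N11357 D11454) (tt N11022 (iv F35974)) (tt N10051 F32669) (tt N11355 (iv F37317)) (tt N10370 (iv F33716)))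
theorem Q10053 : ∀ i, i < 10053 → P i := stepQ 10052 Q10052 (allL N10052 (tt N8687 F32670) (tt N11032 (iv F36017)) (tt N8506 (iv D10149)) (tt N11345 (iv F37271)) (tt N9714 F32671) (tt N10371 (iv F33719)) (tt N11009 (iv F35912)) (tt N10052 F32672))
theorem Q10054 : ∀ i, i < 10054 → P i := stepQ 10053 Q10053 (allL N10053 (tt N8689 F32673) (tt N10053 F32674) (tt N11009 (iv F35910)) (tt N8507 F32675) (tt N9715 F32676) (tt N11358 D11455) (tt N8506 (iv D10150)) (tt N8564 (iv F32677)))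
theorem Q10055 : ∀ i, i < 10055 → P i := stepQ 10054 Q10054 (allL N10054 (tt N8690 F32678) (tt N10999 (iv F35868)) (tt N8804 F32679) (tt N11358 (iv F37329)) (tt N8510 F32680) (tt N8507 (iv D10151)) (tt N10373 (iv F33729)) (tt N8508 F32681))
theorem Q10056 : ∀ i, i < 10056 → P i := stepQ 10055 Q10055 (allL N10055 (tt N11000 (iv F35873)) (tt N8508 (iv D10152)) (tt N11001 (iv F35882)) (tt N8562 F32682) (tt N8513 F32683) (tt N10055 F32684) (tt N8509 F32685) (tt N10999 (iv F35872)))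
theorem Q10057 : ∀ i, i < 10057 → P i := stepQ 10056 Q10056 (allL N10056 (tt N10379 F33750) (tt N11022 (iv F35972)) (tt N8509 (iv D10153)) (tt N11359 D11456) (tt N8517 F32686) (tt N8525 F32687) (tt N11001 (iv F35885)) (tt N10188 F33186))
theorem Q10058 : ∀ i, i < 10058 → P i := stepQ 10057 Q10057 (allL N10057 (tt N11001 (iv F35880)) (tt N8510 (iv D10154)) (tt N11000 (iv F35875)) (tt N9731 F32688) (tt N10999 (iv F35870)) (tt N10057 F32689) (tt N10379 (iv F33748)) (tt N8513 F32690))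
theorem Q10059 : ∀ i, i < 10059 → P i := stepQ 10058 Q10058 (allL N10058 (tt N8702 F32691) (tt N9661 F32692) (tt N8512 F32693) (tt N9665 F32694) (tt N10063 (iv F32714)) (tt N8511 (iv D10155)) (tt N8514 F32695) (tt N9733 F32696))
theorem Q10060 : ∀ i, i < 10060 → P i := stepQ 10059 Q10059 (allL N10059 (tt N10999 (iv F35867)) (tt N11355 (iv F37314)) (tt N8513 (iv D10156)) (tt N11360 D11457) (tt N11001 (iv F35883)) (tt N10059 F32697) (tt N8517 F32698) (tt N11000 (iv F35879)))
theorem Q10061 : ∀ i, i < 10061 → P i := stepQ 10060 Q10060 (allL N10060 (tt N8714 F32699) (tt N10669 (iv F34773)) (tt N8516 F32700) (tt N11361 D11458) (tt N10064 (iv F32718)) (tt N8515 F32701) (tt N9742 F32702) (tt N8514 (iv D10157)))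
theorem Q10062 : ∀ i, i < 10062 → P i := stepQ 10061 Q10061 (allL N10061 (tt N8715 F32703) (tt N10067 (iv F32728)) (tt N9275 F32704) (tt N8515 (iv D10158)) (tt N11362 D11459) (tt N11361 (iv F37342)) (tt N8523 F32705) (tt N9302 F32706))
theorem Q10063 : ∀ i, i < 10063 → P i := stepQ 10062 Q10062 (allL N10062 (tt N10987 (iv F35824)) (tt N11357 (iv F37325)) (tt N9728 F32707) (tt N8517 (iv D10159)) (tt N11207 (iv F36714)) (tt N8526 F32708) (tt N11360 (iv F37339)) (tt N9725 (iv F32709)))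
theorem Q10064 : ∀ i, i < 10064 → P i := stepQ 10063 Q10063 (allL N10063 (tt N9179 F32710) (tt N9751 F32711) (tt N8527 F32712) (tt N9202 F32713) (tt N10058 F32714) (tt N8518 (iv D10160)) (tt N8519 F32715) (tt N11157 (iv F36526)))
theorem Q10065 : ∀ i, i < 10065 → P i := stepQ 10064 Q10064 (allL N10064 (tt N10260 (iv F33388)) (tt N9753 F32716) (tt N8529 F32717) (tt N11363 D11460) (tt N10060 F32718) (tt N8520 F32719) (tt N10679 (iv F34805)) (tt N8519 (iv D10161)))
theorem Q10066 : ∀ i, i < 10066 → P i := stepQ 10065 Q10065 (allL N10065 (tt N10261 (iv F33392)) (tt N8523 F32720) (tt N11364 D11461) (tt N8520 (iv D10162)) (tt N11365 D11462) (tt N11363 (iv F37350)) (tt N10067 (iv F32730)) (tt N9823 F32721))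
theorem Q10067 : ∀ i, i < 10067 → P i := stepQ 10066 Q10066 (allL N10066 (tt N8734 F32722) (tt N10047 F32723) (tt N10066 F32724) (tt N10820 (iv F35235)) (tt N10284 (iv F33452)) (tt N9755 F32725) (tt N9882 F32726) (tt N8521 (iv D10163)))
theorem Q10068 : ∀ i, i < 10068 → P i := stepQ 10067 Q10067 (allL N10067 (tt N8735 F32727) (tt N10061 F32728) (tt N10790 (iv F35116)) (tt N8522 (iv D10164)) (tt N11366 D11463) (tt N9756 F32729) (tt N10065 F32730) (tt N10820 (iv F35236)))
theorem Q10069 : ∀ i, i < 10069 → P i := stepQ 10068 Q10068 (allL N10068 (tt N8736 F32731) (tt N11365 (iv F37357)) (tt N10174 (iv F33134)) (tt N11366 (iv F37362)) (tt N8523 (iv D10165)) (tt N9757 F32732) (tt N11362 (iv F37347)) (tt N9840 F32733))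
theorem Q10070 : ∀ i, i < 10070 → P i := stepQ 10069 Q10069 (allL N10069 (tt N8737 F32734) (tt N9425 F32735) (tt N8524 (iv D10166)) (tt N10790 (iv F35117)) (tt N10167 (iv F33097)) (tt N9213 F32736) (tt N10072 (iv F32749)) (tt N10069 F32737))
theorem Q10071 : ∀ i, i < 10071 → P i := stepQ 10070 Q10070 (allL N10070 (tt N10542 F34323) (tt N10070 F32738) (tt N10094 (iv F32822)) (tt N8525 (iv D10167)) (tt N10560 (iv F34389)) (tt N11359 (iv F37334)) (tt N10070 F32739) (tt N9957 F32740))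
theorem Q10072 : ∀ i, i < 10072 → P i := stepQ 10071 Q10071 (allL N10071 (tt N8793 (iv F32746)) (tt N8527 (iv D10168)) (tt N9776 F32741) (tt N8536 F32742) (tt N9520 F32743) (tt N10071 F32744) (tt N8528 F32745) (tt N10680 (iv F34811)))
theorem Q10073 : ∀ i, i < 10073 → P i := stepQ 10072 Q10072 (allL N10072 (tt N8623 F32747) (tt N10095 (iv F32826)) (tt N8530 (iv D10169)) (tt N11364 (iv F37354)) (tt N9237 F32748) (tt N10713 (iv F34903)) (tt N10069 F32749) (tt N8544 F32750))
theorem Q10074 : ∀ i, i < 10074 → P i := stepQ 10073 Q10073 (allL N10073 (tt N10350 (iv F33642)) (tt N8531 (iv D10170)) (tt N10798 (iv F35149)) (tt N10250 (iv F33357)) (tt N10099 (iv F32840)) (tt N9064 F32751) (tt N8533 F32752) (tt N10797 (iv F35146)))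
theorem Q10075 : ∀ i, i < 10075 → P i := stepQ 10074 Q10074 (allL N10074 (tt N8537 F32753) (tt N10797 (iv F35142)) (tt N9099 F32754) (tt N11367 D11464) (tt N9530 F32755) (tt N8532 F32756) (tt N10863 (iv F35375)) (tt N8531 (iv D10171)))
theorem Q10076 : ∀ i, i < 10076 → P i := stepQ 10075 Q10075 (allL N10075 (tt N8538 F32757) (tt N9066 F32758) (tt N11368 D11465) (tt N8532 (iv D10172)) (tt N11053 (iv F36125)) (tt N11367 (iv F37366)) (tt N10075 F32759) (tt N10252 (iv F33370)))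
theorem Q10077 : ∀ i, i < 10077 → P i := stepQ 10076 Q10076 (allL N10076 (tt N8925 F32760) (tt N10605 (iv F34570)) (tt N8533 (iv D10173)) (tt N11369 D11466) (tt N10235 (iv F33307)) (tt N8554 F32761) (tt N10798 (iv F35151)) (tt N8593 F32762))
theorem Q10078 : ∀ i, i < 10078 → P i := stepQ 10077 Q10077 (allL N10077 (tt N8543 F32763) (tt N8599 F32764) (tt N10595 (iv F34528)) (tt N8615 F32765) (tt N10236 (iv F33312)) (tt N10077 F32766) (tt N8534 (iv D10174)) (tt N10863 (iv F35376)))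
theorem Q10079 : ∀ i, i < 10079 → P i := stepQ 10078 Q10078 (allL N10078 (tt N8535 (iv D10175)) (tt N10234 (iv F33302)) (tt N11103 (iv F36321)) (tt N9522 F32767) (tt N8539 F32768) (tt N8546 F32769) (tt N10106 (iv F32863)) (tt N10857 (iv F35349)))
theorem Q10080 : ∀ i, i < 10080 → P i := stepQ 10079 Q10079 (allL N10079 (tt N8536 (iv D10176)) (tt N10350 (iv F33643)) (tt N10813 (iv F35216)) (tt N8793 F32770) (tt N10106 (iv F32861)) (tt N10079 F32771) (tt N8539 F32772) (tt N10812 F35213))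
theorem Q10081 : ∀ i, i < 10081 → P i := stepQ 10080 Q10080 (allL N10080 (tt N10813 (iv F35214)) (tt N8648 F32773) (tt N8536 (iv D10177)) (tt N9798 F32774) (tt N8655 F32775) (tt N10080 F32776) (tt N8540 F32777) (tt N10811 F35207))
theorem Q10082 : ∀ i, i < 10082 → P i := stepQ 10081 Q10081 (allL N10081 (tt N10812 (iv F35209)) (tt N8537 F32778) (tt N10811 F35208) (tt N11370 D11467) (tt N10107 (iv F32865)) (tt N10081 F32779) (tt N10877 (iv F35421)) (tt N8536 (iv D10178)))
theorem Q10083 : ∀ i, i < 10083 → P i := stepQ 10082 Q10082 (allL N10082 (tt N11367 (iv F37365)) (tt N11370 (iv F37375)) (tt N11371 D11468) (tt N8537 (iv D10179)) (tt N11147 (iv F36488)) (tt N8538 F32780) (tt N11372 D11469) (tt N11145 (iv F36483)))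
theorem Q10084 : ∀ i, i < 10084 → P i := stepQ 10083 Q10083 (allL N10083 (tt N10863 F35377) (tt N10877 (iv F35418)) (tt N10104 (iv F32853)) (tt N11372 (iv F37384)) (tt N10109 (iv F32869)) (tt N10083 F32781) (tt N8537 (iv D10180)) (tt N8543 F32782))
theorem Q10085 : ∀ i, i < 10085 → P i := stepQ 10084 Q10084 (allL N10084 (tt N11368 (iv F37367)) (tt N9331 F32785) (tt N8538 (iv D10181)) (tt N10105 (iv F32858)) (tt N9333 F32783) (tt N11371 (iv F37382)) (tt N10084 F32784) (tt N11143 F36474))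
theorem Q10086 : ∀ i, i < 10086 → P i := stepQ 10085 Q10085 (allL N10085 (tt N8540 F32786) (tt N10814 (iv F35220)) (tt N8539 (iv D10182)) (tt N9803 F32787) (tt N11103 (iv F36322)) (tt N8548 F32788) (tt N10813 (iv F35219)) (tt N10881 (iv F35435)))
theorem Q10087 : ∀ i, i < 10087 → P i := stepQ 10086 Q10086 (allL N10086 (tt N8541 F32789) (tt N8596 F32790) (tt N10881 (iv F35433)) (tt N8607 F32791) (tt N10857 (iv F35347)) (tt N8549 F32792) (tt N8911 (iv F32793)) (tt N8539 (iv D10183)))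
theorem Q10088 : ∀ i, i < 10088 → P i := stepQ 10087 Q10087 (allL N10087 (tt N10881 (iv F35431)) (tt N10328 (iv F33578)) (tt N8541 F32794) (tt N10761 (iv F35046)) (tt N10739 (iv F34985)) (tt N8550 F32795) (tt N10878 (iv F35426)) (tt N8540 (iv D10184)))
theorem Q10089 : ∀ i, i < 10089 → P i := stepQ 10088 Q10088 (allL N10088 (tt N8911 F32796) (tt N8543 F32797) (tt N10878 (iv F35424)) (tt N9795 F32798) (tt N10860 (iv F35359)) (tt N8915 F32799) (tt N8541 (iv D10185)) (tt N10877 F35422))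
theorem Q10090 : ∀ i, i < 10090 → P i := stepQ 10089 Q10089 (allL N10089 (tt N8618 F32800) (tt N10759 (iv F35041)) (tt N8542 (iv D10186)) (tt N10345 (iv F33628)) (tt N11373 D11470) (tt N8544 F32801) (tt N11374 D11471) (tt N10713 (iv F34905)))
theorem Q10091 : ∀ i, i < 10091 → P i := stepQ 10090 Q10090 (allL N10090 (tt N8614 F32802) (tt N9801 F32803) (tt N11373 (iv F37388)) (tt N10996 (iv F35856)) (tt N8542 (iv D10187)) (tt N8545 F32804) (tt N9799 (iv F32806)) (tt N9235 F32805))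
theorem Q10092 : ∀ i, i < 10092 → P i := stepQ 10091 Q10091 (allL N10091 (tt N8615 F32807) (tt N9795 F32808) (tt N11374 (iv F37395)) (tt N8543 F32809) (tt N9799 F32810) (tt N10091 F32811) (tt N8542 (iv D10188)) (tt N9794 F32812))
theorem Q10093 : ∀ i, i < 10093 → P i := stepQ 10092 Q10092 (allL N10092 (tt N8622 F32813) (tt N10093 (iv F32818)) (tt N8545 F32814) (tt N10582 (iv F34475)) (tt N8544 (iv D10189)) (tt N11373 (iv F37390)) (tt N10092 F32815) (tt N9237 F32816))
theorem Q10094 : ∀ i, i < 10094 → P i := stepQ 10093 Q10093 (allL N10093 (tt N8547 F32817) (tt N10092 F32818) (tt N8546 (iv D10190)) (tt N11375 D11472) (tt N8548 F32819) (tt N11103 (iv F36323)) (tt N10093 F32820) (tt N10734 (iv F34971)))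
theorem Q10095 : ∀ i, i < 10095 → P i := stepQ 10094 Q10094 (allL N10094 (tt N11375 (iv F37400)) (tt N8552 F32821) (tt N10070 F32822) (tt N8547 (iv D10191)) (tt N9143 F32823) (tt N11100 (iv F36311)) (tt N10094 F32824) (tt N11332 F37213))
theorem Q10096 : ∀ i, i < 10096 → P i := stepQ 10095 Q10095 (allL N10095 (tt N8550 F32825) (tt N10072 F32826) (tt N8549 F32827) (tt N10754 (iv F35028)) (tt N10734 (iv F34970)) (tt N10881 (iv F35434)) (tt N9425 F32828) (tt N8548 (iv D10192)))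
theorem Q10097 : ∀ i, i < 10097 → P i := stepQ 10096 Q10096 (allL N10096 (tt N9157 F32829) (tt N11332 (iv F37210)) (tt N10096 F32830) (tt N10741 (iv F34992)) (tt N9144 F32831) (tt N9142 F32832) (tt N11331 F37208) (tt N8552 (iv D10193)))
theorem Q10098 : ∀ i, i < 10098 → P i := stepQ 10097 Q10097 (allL N10097 (tt N10164 (iv F33082)) (tt N10763 (iv F35049)) (tt N9155 F32833) (tt N10740 (iv F34989)) (tt N8553 (iv D10194)) (tt N10334 (iv F33595)) (tt N9421 F32834) (tt N9811 F32835))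
theorem Q10099 : ∀ i, i < 10099 → P i := stepQ 10098 Q10098 (allL N10098 (tt N8926 F32836) (tt N8558 F32837) (tt N10295 (iv F33485)) (tt N8554 (iv D10195)) (tt N11376 D11473) (tt N11369 (iv F37374)) (tt N8930 F32838) (tt N10306 (iv F33522)))
theorem Q10100 : ∀ i, i < 10100 → P i := stepQ 10099 Q10099 (allL N10099 (tt N10829 (iv F35259)) (tt N8555 (iv D10196)) (tt N10802 (iv F35167)) (tt N8691 F32839) (tt N10073 F32840) (tt N9062 F32841) (tt N8692 F32842) (tt N10793 (iv F35127)))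
theorem Q10101 : ∀ i, i < 10101 → P i := stepQ 10100 Q10100 (allL N10100 (tt N9274 F32843) (tt N10802 (iv F35166)) (tt N8556 (iv D10197)) (tt N11377 D11474) (tt N10600 (iv F34548)) (tt N8557 F32844) (tt N10614 (iv F34600)) (tt N8591 F32845))
theorem Q10102 : ∀ i, i < 10102 → P i := stepQ 10101 Q10101 (allL N10101 (tt N9275 F32846) (tt N8930 F32847) (tt N8715 F32848) (tt N8557 (iv D10198)) (tt N11378 D11475) (tt N11377 (iv F37411)) (tt N8558 F32849) (tt N8939 F32850))
theorem Q10103 : ∀ i, i < 10103 → P i := stepQ 10102 Q10102 (allL N10102 (tt N10174 (iv F33133)) (tt N11376 (iv F37407)) (tt N8736 F32851) (tt N10630 (iv F34651)) (tt N8558 (iv D10199)) (tt N11064 (iv F36173)) (tt N11378 (iv F37416)) (tt N10618 (iv F34615)))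
theorem Q10104 : ∀ i, i < 10104 → P i := stepQ 10103 Q10103 (allL N10103 (tt N10151 (iv F33031)) (tt N10176 (iv F33140)) (tt N11379 D11476) (tt N8559 (iv D10200)) (tt N11021 (iv F35970)) (tt N8560 F32852) (tt N11380 D11477) (tt N10141 (iv F32986)))
theorem Q10105 : ∀ i, i < 10105 → P i := stepQ 10104 Q10104 (allL N10104 (tt N10601 (iv F34551)) (tt N10177 (iv F33142)) (tt N10083 F32853) (tt N11380 (iv F37422)) (tt N8565 F32854) (tt N10104 F32855) (tt N8559 (iv D10201)) (tt N9630 F32856))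
theorem Q10106 : ∀ i, i < 10106 → P i := stepQ 10105 Q10105 (allL N10105 (tt N10148 (iv F33018)) (tt N9398 F32857) (tt N8560 (iv D10202)) (tt N10084 F32858) (tt N9393 F32859) (tt N11379 (iv F37420)) (tt N10105 F32860) (tt N10139 F32977))
theorem Q10107 : ∀ i, i < 10107 → P i := stepQ 10106 Q10106 (allL N10106 (tt N8562 (iv D10203)) (tt N10829 F35265) (tt N10181 (iv F33156)) (tt N11000 (iv F35876)) (tt N10079 F32861) (tt N10106 F32862) (tt N10078 F32863) (tt N10831 (iv F35275)))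
theorem Q10108 : ∀ i, i < 10108 → P i := stepQ 10107 Q10107 (allL N10107 (tt N10831 (iv F35270)) (tt N8563 F32864) (tt N10182 (iv F33159)) (tt N11381 D11478) (tt N10081 F32865) (tt N10107 F32866) (tt N10836 (iv F35288)) (tt N8562 (iv D10204)))
theorem Q10109 : ∀ i, i < 10109 → P i := stepQ 10108 Q10108 (allL N10108 (tt N11003 (iv F35891)) (tt N11381 (iv F37424)) (tt N11014 (iv F35933)) (tt N8563 (iv D10205)) (tt N11382 D11479) (tt N8564 F32867) (tt N11383 D11480) (tt N11358 (iv F37331)))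
theorem Q10110 : ∀ i, i < 10110 → P i := stepQ 10109 Q10109 (allL N10109 (tt N10796 F35140) (tt N10836 (iv F35286)) (tt N8565 F32868) (tt N11383 (iv F37430)) (tt N10083 F32869) (tt N10109 F32870) (tt N8563 (iv D10206)) (tt N9518 F32871))
theorem Q10111 : ∀ i, i < 10111 → P i := stepQ 10110 Q10110 (allL N10110 (tt N11002 (iv F35886)) (tt N10110 F32872) (tt N9371 F32873) (tt N9721 F32874) (tt N8564 (iv D10207)) (tt N11382 (iv F37428)) (tt N10110 F32875) (tt N9715 F32876))
theorem Q10112 : ∀ i, i < 10112 → P i := stepQ 10111 Q10111 (allL N10111 (tt N10363 (iv F33684)) (tt N11107 (iv F36331)) (tt N11384 D11481) (tt N8566 (iv D10208)) (tt N11385 D11482) (tt N8662 F32877) (tt N11386 D11483) (tt N11108 (iv F36338)))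
theorem Q10113 : ∀ i, i < 10113 → P i := stepQ 10112 Q10112 (allL N10112 (tt N9354 F32878) (tt N8970 F32879) (tt N8582 F32880) (tt N11386 (iv F37439)) (tt N8575 F32881) (tt N11387 D11484) (tt N8566 (iv D10209)) (tt N8568 F32882))
theorem Q10114 : ∀ i, i < 10114 → P i := stepQ 10113 Q10113 (allL N10113 (tt N9346 F32883) (tt N8961 F32884) (tt N9365 F32885) (tt N8568 F32886) (tt N8951 F32887) (tt N11388 D11485) (tt N8567 (iv D10210)) (tt N11389 D11486))
theorem Q10115 : ∀ i, i < 10115 → P i := stepQ 10114 Q10114 (allL N10114 (tt N9353 F32888) (tt N11017 (iv F35942)) (tt N8584 F32889) (tt N11388 (iv F37448)) (tt N8576 F32890) (tt N8568 (iv D10211)) (tt N8572 F32891) (tt N11387 (iv F37445)))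
theorem Q10116 : ∀ i, i < 10116 → P i := stepQ 10115 Q10115 (allL N10115 (tt N10365 (iv F33690)) (tt N10115 F32892) (tt N8571 F32893) (tt N8585 F32894) (tt N9304 F32895) (tt N11390 D11487) (tt N8569 (iv D10212)) (tt N9625 F32896))
theorem Q10117 : ∀ i, i < 10117 → P i := stepQ 10116 Q10116 (allL N10116 (tt N8872 F32897) (tt N8838 F32898) (tt N9304 F32899) (tt N8577 F32900) (tt N8571 F32901) (tt N11391 D11488) (tt N8570 (iv D10213)) (tt N9970 F32902))
theorem Q10118 : ∀ i, i < 10118 → P i := stepQ 10117 Q10117 (allL N10117 (tt N10366 (iv F33694)) (tt N11392 D11489) (tt N11390 (iv F37455)) (tt N8572 F32903) (tt N11391 (iv F37464)) (tt N8571 (iv D10214)) (tt N11388 (iv F37450)) (tt N11236 (iv F36835)))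
theorem Q10119 : ∀ i, i < 10119 → P i := stepQ 10118 Q10118 (allL N10118 (tt N11019 (iv F35954)) (tt N8572 (iv D10215)) (tt N11018 (iv F35949)) (tt N11392 (iv F37467)) (tt N8580 F32904) (tt N8841 F32905) (tt N11017 (iv F35945)) (tt N8665 F32906))
theorem Q10120 : ∀ i, i < 10120 → P i := stepQ 10119 Q10119 (allL N10119 (tt N9006 F32907) (tt N8574 F32908) (tt N9111 (iv F32911)) (tt N8573 (iv D10216)) (tt N11393 D11490) (tt N11108 (iv F36337)) (tt N8973 F32909) (tt N8662 F32910))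
theorem Q10121 : ∀ i, i < 10121 → P i := stepQ 10120 Q10120 (allL N10120 (tt N10368 (iv F33703)) (tt N11393 (iv F37473)) (tt N11263 (iv F36963)) (tt N11385 (iv F37435)) (tt N8574 (iv D10217)) (tt N8671 F32912) (tt N11394 D11491) (tt N11067 (iv F36188)))
theorem Q10122 : ∀ i, i < 10122 → P i := stepQ 10121 Q10121 (allL N10121 (tt N9357 F32913) (tt N8973 F32914) (tt N9261 F32915) (tt N8575 F32916) (tt N11394 (iv F37480)) (tt N11395 D11492) (tt N8574 (iv D10218)) (tt N8957 (iv F32917)))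
theorem Q10123 : ∀ i, i < 10123 → P i := stepQ 10122 Q10122 (allL N10122 (tt N9356 F32918) (tt N11396 D11493) (tt N8589 F32919) (tt N11395 (iv F37484)) (tt N11387 (iv F37443)) (tt N8575 (iv D10219)) (tt N8673 F32920) (tt N8576 F32921))
theorem Q10124 : ∀ i, i < 10124 → P i := stepQ 10123 Q10123 (allL N10123 (tt N11018 (iv F35947)) (tt N8576 (iv D10220)) (tt N11019 (iv F35956)) (tt N8955 F32922) (tt N11017 (iv F35944)) (tt N8971 F32923) (tt N8580 F32924) (tt N11396 (iv F37492)))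
theorem Q10125 : ∀ i, i < 10125 → P i := stepQ 10124 Q10124 (allL N10124 (tt N9290 F32925) (tt N10173 (iv F33129)) (tt N8934 F32926) (tt N11391 (iv F37463)) (tt N8578 F32927) (tt N8577 (iv D10221)) (tt N8952 F32928) (tt N10172 F33127))
theorem Q10126 : ∀ i, i < 10126 → P i := stepQ 10125 Q10125 (allL N10125 (tt N10175 (iv F33135)) (tt N8578 (iv D10222)) (tt N10170 (iv F33115)) (tt N8580 F32929) (tt N10173 (iv F33131)) (tt N8843 F32930) (tt N8955 F32931) (tt N10168 (iv F33106)))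
theorem Q10127 : ∀ i, i < 10127 → P i := stepQ 10126 Q10126 (allL N10126 (tt N9297 F32932) (tt N10168 (iv F33102)) (tt N8938 F32933) (tt N8684 F32934) (tt N10172 (iv F33125)) (tt N8579 F32935) (tt N11216 (iv F36755)) (tt N8578 (iv D10223)))
theorem Q10128 : ∀ i, i < 10128 → P i := stepQ 10127 Q10127 (allL N10127 (tt N8580 (iv D10224)) (tt N10369 (iv F33705)) (tt N11017 (iv F35943)) (tt N10175 F33139) (tt N11019 (iv F35957)) (tt N8844 F32936) (tt N11018 (iv F35952)) (tt N8685 F32937))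
theorem Q10129 : ∀ i, i < 10129 → P i := stepQ 10128 Q10128 (allL N10128 (tt N10371 (iv F33717)) (tt N10918 (iv F35564)) (tt N8581 (iv D10225)) (tt N11384 (iv F37432)) (tt N10545 (iv F34330)) (tt N8687 F32938) (tt N10921 (iv F35573)) (tt N10128 F32939))
theorem Q10130 : ∀ i, i < 10130 → P i := stepQ 10129 Q10129 (allL N10129 (tt N10372 (iv F33721)) (tt N10129 F32940) (tt N10921 (iv F35575)) (tt N8582 F32941) (tt N10546 (iv F34336)) (tt N11397 D11494) (tt N8581 (iv D10226)) (tt N10922 (iv F35579)))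
theorem Q10131 : ∀ i, i < 10131 → P i := stepQ 10130 Q10130 (allL N10130 (tt N10373 (iv F33725)) (tt N11025 (iv F35985)) (tt N11387 (iv F37442)) (tt N11397 (iv F37493)) (tt N8589 F32942) (tt N8582 (iv D10227)) (tt N8690 F32943) (tt N8584 F32944))
theorem Q10132 : ∀ i, i < 10132 → P i := stepQ 10131 Q10131 (allL N10131 (tt N10375 (iv F33735)) (tt N11024 (iv F35981)) (tt N10832 (iv F35276)) (tt N8584 F32945) (tt N10629 (iv F34648)) (tt N8583 (iv D10228)) (tt N8587 F32946) (tt N11398 D11495))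
theorem Q10133 : ∀ i, i < 10133 → P i := stepQ 10132 Q10132 (allL N10132 (tt N10376 (iv F33738)) (tt N10132 F32947) (tt N10833 (iv F35280)) (tt N10922 (iv F35580)) (tt N9869 F32948) (tt N11398 (iv F37496)) (tt N10132 F32949) (tt N8583 (iv D10229)))
theorem Q10134 : ∀ i, i < 10134 → P i := stepQ 10133 Q10133 (allL N10133 (tt N10377 (iv F33741)) (tt N11399 D11496) (tt N8587 F32950) (tt N11390 (iv F37456)) (tt N10830 (iv F35268)) (tt N8585 (iv D10230)) (tt N10832 (iv F35278)) (tt N11267 (iv F36982)))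
theorem Q10135 : ∀ i, i < 10135 → P i := stepQ 10134 Q10134 (allL N10134 (tt N10362 (iv F33681)) (tt N10151 (iv F33032)) (tt N10830 (iv F35266)) (tt N8592 F32951) (tt N8587 F32952) (tt N8586 (iv D10231)) (tt N10629 (iv F34649)) (tt N10150 F33030))
theorem Q10136 : ∀ i, i < 10136 → P i := stepQ 10135 Q10135 (allL N10135 (tt N9517 F32953) (tt N10138 (iv F32966)) (tt N11267 (iv F36980)) (tt N8693 F32954) (tt N10150 (iv F33028)) (tt N8588 F32955) (tt N11204 (iv F36705)) (tt N8587 (iv D10232)))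
theorem Q10137 : ∀ i, i < 10137 → P i := stepQ 10136 Q10136 (allL N10136 (tt N8597 F32956) (tt N8625 F32957) (tt N9782 F32958) (tt N8595 F32959) (tt N8602 F32960) (tt N11400 D11497) (tt N8594 (iv D10233)) (tt N9558 (iv F32961)))
theorem Q10138 : ∀ i, i < 10138 → P i := stepQ 10137 Q10137 (allL N10137 (tt N8598 F32962) (tt N10857 (iv F35346)) (tt N8923 F32963) (tt N11400 (iv F37502)) (tt N8596 F32964) (tt N8595 (iv D10234)) (tt N8910 F32965) (tt N10234 (iv F33306)))
theorem Q10139 : ∀ i, i < 10139 → P i := stepQ 10138 Q10138 (allL N10138 (tt N11400 (iv F37500)) (tt N10135 F32966) (tt N9791 F32967) (tt N8598 F32968) (tt N8610 F32969) (tt N8597 (iv D10235)) (tt N9789 F32970) (tt N9562 F32971))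
theorem Q10140 : ∀ i, i < 10140 → P i := stepQ 10139 Q10139 (allL N10139 (tt N8608 F32972) (tt N9902 F32973) (tt N8602 F32974) (tt N9768 F32975) (tt N9782 F32976) (tt N11401 D11498) (tt N8600 (iv D10236)) (tt N10105 (iv F32977)))
theorem Q10141 : ∀ i, i < 10141 → P i := stepQ 10140 Q10140 (allL N10140 (tt N8609 F32978) (tt N8893 F32979) (tt N9767 F32980) (tt N8603 F32981) (tt N8909 F32982) (tt N11402 D11499) (tt N8601 (iv D10237)) (tt N9568 (iv F32983)))
theorem Q10142 : ∀ i, i < 10142 → P i := stepQ 10141 Q10141 (allL N10141 (tt N8610 F32984) (tt N11403 D11500) (tt N11401 (iv F37507)) (tt N8604 F32985) (tt N11400 (iv F37503)) (tt N8602 (iv D10238)) (tt N11402 (iv F37517)) (tt N10103 F32986))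
theorem Q10143 : ∀ i, i < 10143 → P i := stepQ 10142 Q10142 (allL N10142 (tt N8612 F32987) (tt N9787 F32988) (tt N11086 (iv F36263)) (tt N11402 (iv F37515)) (tt N8605 F32989) (tt N8603 (iv D10239)) (tt N8604 F32990) (tt N9786 (iv F32991)))
theorem Q10144 : ∀ i, i < 10144 → P i := stepQ 10143 Q10143 (allL N10143 (tt N8613 F32992) (tt N8895 F32993) (tt N11087 (iv F36268)) (tt N9904 (iv F32997)) (tt N8606 F32994) (tt N9786 F32995) (tt N8846 F32996) (tt N8603 (iv D10240)))
theorem Q10145 : ∀ i, i < 10145 → P i := stepQ 10144 Q10144 (allL N10144 (tt N9801 F32998) (tt N8604 (iv D10241)) (tt N10308 (iv F33530)) (tt N11403 (iv F37520)) (tt N8607 F32999) (tt N8632 F33000) (tt N9787 F33001) (tt N8647 F33002))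
theorem Q10146 : ∀ i, i < 10146 → P i := stepQ 10145 Q10145 (allL N10145 (tt N9795 F33003) (tt N8605 (iv D10242)) (tt N10313 (iv F33542)) (tt N8911 F33004) (tt N9787 F33005) (tt N8896 F33006) (tt N8607 F33007) (tt N9784 (iv F33008)))
theorem Q10147 : ∀ i, i < 10147 → P i := stepQ 10146 Q10146 (allL N10146 (tt N8616 F33009) (tt N9784 F33010) (tt N11088 (iv F36272)) (tt N10885 (iv F35442)) (tt N9786 F33011) (tt N8606 F33012) (tt N9785 F33013) (tt N8605 (iv D10243)))
theorem Q10148 : ∀ i, i < 10148 → P i := stepQ 10147 Q10147 (allL N10147 (tt N11401 (iv F37506)) (tt N11153 (iv F36508)) (tt N8610 F33014) (tt N9774 F33015) (tt N9791 F33016) (tt N8608 (iv D10244)) (tt N9773 F33017) (tt N11404 D11501))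
theorem Q10149 : ∀ i, i < 10149 → P i := stepQ 10148 Q10148 (allL N10148 (tt N10105 F33018) (tt N10148 F33019) (tt N8611 F33020) (tt N11368 (iv F37369)) (tt N9561 F33021) (tt N11404 (iv F37527)) (tt N10148 F33022) (tt N8608 (iv D10245)))
theorem Q10150 : ∀ i, i < 10150 → P i := stepQ 10149 Q10149 (allL N10149 (tt N11402 (iv F37512)) (tt N11405 D11502) (tt N9773 F33023) (tt N8612 F33024) (tt N9789 F33025) (tt N8609 (iv D10246)) (tt N8610 F33026) (tt N11152 (iv F36506)))
theorem Q10151 : ∀ i, i < 10151 → P i := stepQ 10150 Q10150 (allL N10150 (tt N10996 (iv F35855)) (tt N8610 (iv D10247)) (tt N11406 D11503) (tt N8614 F33027) (tt N10135 F33028) (tt N8621 F33029) (tt N11405 (iv F37533)) (tt N10134 (iv F33030)))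
theorem Q10152 : ∀ i, i < 10152 → P i := stepQ 10151 Q10151 (allL N10151 (tt N10103 F33031) (tt N10134 F33032) (tt N11404 (iv F37525)) (tt N9099 F33033) (tt N9562 F33034) (tt N8611 F33035) (tt N11407 D11504) (tt N8610 (iv D10248)))
theorem Q10153 : ∀ i, i < 10153 → P i := stepQ 10152 Q10152 (allL N10152 (tt N9799 F33036) (tt N8612 (iv D10249)) (tt N10048 F33037) (tt N11405 (iv F37530)) (tt N8615 F33038) (tt N10152 F33039) (tt N8614 F33040) (tt N9797 (iv F33041)))
theorem Q10154 : ∀ i, i < 10154 → P i := stepQ 10153 Q10153 (allL N10153 (tt N9786 F33042) (tt N9797 F33043) (tt N11091 (iv F36283)) (tt N11226 (iv F36786)) (tt N8616 F33044) (tt N8613 F33045) (tt N9234 F33046) (tt N8612 (iv D10250)))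
theorem Q10155 : ∀ i, i < 10155 → P i := stepQ 10154 Q10154 (allL N10154 (tt N9904 F33047) (tt N10154 F33048) (tt N11185 (iv F36616)) (tt N8613 (iv D10251)) (tt N11408 D11505) (tt N11226 (iv F36788)) (tt N8849 F33049) (tt N11182 (iv F36605)))
theorem Q10156 : ∀ i, i < 10156 → P i := stepQ 10155 Q10155 (allL N10155 (tt N11373 (iv F37387)) (tt N10044 F33050) (tt N8614 (iv D10252)) (tt N10045 (iv F33055)) (tt N8618 F33051) (tt N8622 F33052) (tt N10048 F33053) (tt N9236 F33054))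
theorem Q10157 : ∀ i, i < 10157 → P i := stepQ 10156 Q10156 (allL N10156 (tt N11374 (iv F37393)) (tt N9845 F33056) (tt N8615 (iv D10253)) (tt N9847 (iv F33060)) (tt N10048 F33057) (tt N10156 F33058) (tt N8618 F33059) (tt N11409 D11506))
theorem Q10158 : ∀ i, i < 10158 → P i := stepQ 10157 Q10157 (allL N10157 (tt N9794 F33061) (tt N8616 F33062) (tt N11409 (iv F37552)) (tt N11410 D11507) (tt N9797 F33063) (tt N10157 F33064) (tt N9796 F33065) (tt N8615 (iv D10254)))
theorem Q10159 : ∀ i, i < 10159 → P i := stepQ 10158 Q10158 (allL N10158 (tt N10885 (iv F35441)) (tt N11410 (iv F37558)) (tt N10867 (iv F35387)) (tt N8616 (iv D10255)) (tt N11411 D11508) (tt N8617 F33066) (tt N11412 D11509) (tt N10862 (iv F35371)))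
theorem Q10160 : ∀ i, i < 10160 → P i := stepQ 10159 Q10159 (allL N10159 (tt N9785 F33067) (tt N9796 F33068) (tt N11095 (iv F36292)) (tt N11412 (iv F37568)) (tt N9234 F33069) (tt N8851 F33070) (tt N8616 (iv D10256)) (tt N8620 F33071))
theorem Q10161 : ∀ i, i < 10161 → P i := stepQ 10160 Q10160 (allL N10160 (tt N10886 (iv F35444)) (tt N10160 F33072) (tt N10865 (iv F35382)) (tt N11408 (iv F37547)) (tt N8617 (iv D10257)) (tt N11411 (iv F37564)) (tt N8853 F33073) (tt N10861 (iv F35367)))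
theorem Q10162 : ∀ i, i < 10162 → P i := stepQ 10161 Q10161 (allL N10161 (tt N10713 (iv F34901)) (tt N10341 (iv F33614)) (tt N8619 F33074) (tt N11413 D11510) (tt N9236 F33075) (tt N8623 F33076) (tt N10714 (iv F34908)) (tt N8618 (iv D10258)))
theorem Q10163 : ∀ i, i < 10163 → P i := stepQ 10162 Q10162 (allL N10162 (tt N10581 F34473) (tt N10162 F33077) (tt N8621 (iv D10259)) (tt N10540 (iv F34312)) (tt N9875 F33078) (tt N11406 (iv F37537)) (tt N10162 F33079) (tt N9311 F33080))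
theorem Q10164 : ∀ i, i < 10164 → P i := stepQ 10163 Q10163 (allL N10163 (tt N11364 (iv F37352)) (tt N8624 F33081) (tt N10261 (iv F33393)) (tt N8623 (iv D10260)) (tt N11414 D11511) (tt N11413 (iv F37572)) (tt N10286 (iv F33459)) (tt N10650 (iv F34715)))
theorem Q10165 : ∀ i, i < 10165 → P i := stepQ 10164 Q10164 (allL N10164 (tt N10097 F33082) (tt N11414 (iv F37573)) (tt N8788 F33083) (tt N9241 F33084) (tt N8624 (iv D10261)) (tt N10646 (iv F34700)) (tt N10902 (iv F35508)) (tt N10651 (iv F34720)))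
theorem Q10166 : ∀ i, i < 10166 → P i := stepQ 10165 Q10165 (allL N10165 (tt N8635 F33085) (tt N9529 F33086) (tt N9337 F33087) (tt N8630 F33088) (tt N9464 F33089) (tt N8627 (iv D10262)) (tt N8628 F33090) (tt N8870 F33091))
theorem Q10167 : ∀ i, i < 10167 → P i := stepQ 10166 Q10166 (allL N10166 (tt N9993 F33092) (tt N8628 (iv D10263)) (tt N11415 D11512) (tt N8632 F33093) (tt N10856 (iv F35343)) (tt N11403 (iv F37521)) (tt N9529 F33094) (tt N8651 F33095))
theorem Q10168 : ∀ i, i < 10168 → P i := stepQ 10167 Q10167 (allL N10167 (tt N8919 F33096) (tt N10938 (iv F35638)) (tt N8636 (iv D10264)) (tt N10619 (iv F34617)) (tt N10069 F33097) (tt N9810 F33098) (tt N9237 F33099) (tt N10167 F33100))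
theorem Q10169 : ∀ i, i < 10169 → P i := stepQ 10168 Q10168 (allL N10168 (tt N8648 F33101) (tt N10126 F33102) (tt N8638 F33103) (tt N10224 (iv F33275)) (tt N8642 F33104) (tt N8637 (iv D10265)) (tt N9806 F33105) (tt N10125 F33106))
theorem Q10170 : ∀ i, i < 10170 → P i := stepQ 10169 Q10169 (allL N10169 (tt N9098 F33107) (tt N8638 (iv D10266)) (tt N10452 (iv F34016)) (tt N9235 F33108) (tt N8644 F33109) (tt N8640 F33110) (tt N9805 F33111) (tt N8815 (iv F33112)))
theorem Q10171 : ∀ i, i < 10171 → P i := stepQ 10170 Q10170 (allL N10170 (tt N8650 F33113) (tt N8815 F33114) (tt N10125 F33115) (tt N11416 D11513) (tt N8645 F33116) (tt N8639 F33117) (tt N10473 (iv F34083)) (tt N8638 (iv D10267)))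
theorem Q10172 : ∀ i, i < 10172 → P i := stepQ 10171 Q10171 (allL N10171 (tt N8651 F33118) (tt N8641 F33119) (tt N9543 F33120) (tt N8639 (iv D10268)) (tt N8835 F33121) (tt N11416 (iv F37583)) (tt N8860 F33122) (tt N9993 F33123))
theorem Q10173 : ∀ i, i < 10173 → P i := stepQ 10172 Q10172 (allL N10172 (tt N10804 (iv F35176)) (tt N8642 (iv D10269)) (tt N10448 (iv F33997)) (tt N8889 F33124) (tt N10126 F33125) (tt N8890 F33126) (tt N11099 (iv F36308)) (tt N10124 (iv F33127)))
theorem Q10174 : ∀ i, i < 10174 → P i := stepQ 10173 Q10173 (allL N10173 (tt N8656 F33128) (tt N10124 F33129) (tt N8645 F33130) (tt N11122 (iv F36394)) (tt N10125 F33131) (tt N8643 F33132) (tt N10468 (iv F34058)) (tt N8642 (iv D10270)))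
theorem Q10175 : ∀ i, i < 10175 → P i := stepQ 10174 Q10174 (allL N10174 (tt N10102 F33133) (tt N10755 (iv F35031)) (tt N10068 F33134) (tt N10620 (iv F34620)) (tt N8646 (iv D10271)) (tt N10618 (iv F34614)) (tt N10789 (iv F35113)) (tt N11064 (iv F36174)))
theorem Q10176 : ∀ i, i < 10176 → P i := stepQ 10175 Q10175 (allL N10175 (tt N10125 F33135) (tt N10811 (iv F35202)) (tt N8650 F33136) (tt N10127 (iv F33139)) (tt N8656 F33137) (tt N8649 F33138) (tt N10472 (iv F34077)) (tt N8648 (iv D10272)))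
theorem Q10177 : ∀ i, i < 10177 → P i := stepQ 10176 Q10176 (allL N10176 (tt N11416 (iv F37579)) (tt N10103 F33140) (tt N11417 D11514) (tt N8650 (iv D10273)) (tt N11418 D11515) (tt N8651 F33141) (tt N11419 D11516) (tt N11403 (iv F37523)))
theorem Q10178 : ∀ i, i < 10178 → P i := stepQ 10177 Q10177 (allL N10177 (tt N10473 (iv F34079)) (tt N10104 F33142) (tt N10472 F34078) (tt N11419 (iv F37597)) (tt N8659 F33143) (tt N8877 F33144) (tt N8650 (iv D10274)) (tt N10597 (iv F34543)))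
theorem Q10179 : ∀ i, i < 10179 → P i := stepQ 10178 Q10178 (allL N10178 (tt N9543 F33145) (tt N9582 F33146) (tt N8651 (iv D10275)) (tt N9549 F33147) (tt N10481 (iv F34110)) (tt N11417 (iv F37588)) (tt N8878 F33148) (tt N11415 (iv F37578)))
theorem Q10180 : ∀ i, i < 10180 → P i := stepQ 10179 Q10179 (allL N10179 (tt N8835 F33149) (tt N8653 F33150) (tt N10481 (iv F34108)) (tt N8661 F33151) (tt N8651 (iv D10276)) (tt N11418 (iv F37593)) (tt N8879 F33152) (tt N10856 (iv F35344)))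
theorem Q10181 : ∀ i, i < 10181 → P i := stepQ 10180 Q10180 (allL N10180 (tt N11156 (iv F36517)) (tt N8654 (iv D10277)) (tt N11155 F36516) (tt N8655 F33153) (tt N9871 F33154) (tt N10180 F33155) (tt N11100 (iv F36312)) (tt N11039 (iv F36061)))
theorem Q10182 : ∀ i, i < 10182 → P i := stepQ 10181 Q10181 (allL N10181 (tt N8655 (iv D10278)) (tt N10804 (iv F35177)) (tt N10106 F33156) (tt N11156 (iv F36519)) (tt N10813 (iv F35217)) (tt N10181 F33157) (tt N11103 (iv F36324)) (tt N10803 F35175))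
theorem Q10183 : ∀ i, i < 10183 → P i := stepQ 10182 Q10182 (allL N10182 (tt N10803 (iv F35171)) (tt N8656 F33158) (tt N10107 F33159) (tt N11420 D11517) (tt N10811 (iv F35204)) (tt N10182 F33160) (tt N10869 (iv F35398)) (tt N8655 (iv D10279)))
theorem Q10184 : ∀ i, i < 10184 → P i := stepQ 10183 Q10183 (allL N10183 (tt N11122 (iv F36392)) (tt N11420 (iv F37601)) (tt N11421 D11518) (tt N8656 (iv D10280)) (tt N11343 (iv F37261)) (tt N8657 F33161) (tt N11422 D11519) (tt N11038 (iv F36056)))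
theorem Q10185 : ∀ i, i < 10185 → P i := stepQ 10184 Q10184 (allL N10184 (tt N10468 F34059) (tt N10869 (iv F35394)) (tt N8659 F33162) (tt N11422 (iv F37612)) (tt N10472 (iv F34075)) (tt N8884 F33163) (tt N8656 (iv D10281)) (tt N11105 (iv F36328)))
theorem Q10186 : ∀ i, i < 10186 → P i := stepQ 10185 Q10185 (allL N10185 (tt N8837 F33164) (tt N9173 F33167) (tt N8657 (iv D10282)) (tt N8660 F33165) (tt N10494 (iv F34159)) (tt N11421 (iv F37607)) (tt N8885 F33166) (tt N11037 (iv F36051)))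
theorem Q10187 : ∀ i, i < 10187 → P i := stepQ 10186 Q10186 (allL N10186 (tt N8834 F33168) (tt N8827 F33169) (tt N8658 (iv D10283)) (tt N11421 (iv F37606)) (tt N8833 (iv F33172)) (tt N8660 F33170) (tt N8831 (iv F33173)) (tt N9521 F33171))
theorem Q10188 : ∀ i, i < 10188 → P i := stepQ 10187 Q10187 (allL N10187 (tt N8831 F33174) (tt N9559 F33175) (tt N8833 F33176) (tt N11418 (iv F37592)) (tt N8658 (iv D10284)) (tt N8661 F33177) (tt N8834 (iv F33179)) (tt N9522 F33178))
theorem Q10189 : ∀ i, i < 10189 → P i := stepQ 10188 Q10188 (allL N10188 (tt N8833 F33180) (tt N9560 F33181) (tt N8831 F33182) (tt N8659 F33183) (tt N8834 F33184) (tt N8836 F33185) (tt N8658 (iv D10285)) (tt N10056 (iv F33186)))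
theorem Q10190 : ∀ i, i < 10190 → P i := stepQ 10189 Q10189 (allL N10189 (tt N11345 (iv F37270)) (tt N8928 F33187) (tt N8662 (iv D10286)) (tt N8687 F33188) (tt N11423 D11520) (tt N11384 (iv F37433)) (tt N8749 (iv F33190)) (tt N9111 F33189))
theorem Q10191 : ∀ i, i < 10191 → P i := stepQ 10190 Q10190 (allL N10190 (tt N11346 (iv F37274)) (tt N11067 (iv F36184)) (tt N11423 (iv F37616)) (tt N8671 F33191) (tt N8662 (iv D10287)) (tt N11385 (iv F37436)) (tt N11424 D11521) (tt N11393 (iv F37476)))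
theorem Q10192 : ∀ i, i < 10192 → P i := stepQ 10191 Q10191 (allL N10191 (tt N8805 F33192) (tt N10769 (iv F35066)) (tt N8749 F33193) (tt N8663 F33194) (tt N11424 (iv F37622)) (tt N11425 D11522) (tt N8662 (iv D10288)) (tt N8746 F33195))
theorem Q10193 : ∀ i, i < 10193 → P i := stepQ 10192 Q10192 (allL N10192 (tt N8804 F33196) (tt N11426 D11523) (tt N8690 F33197) (tt N11425 (iv F37626)) (tt N8673 F33198) (tt N8663 (iv D10289)) (tt N11387 (iv F37444)) (tt N8664 F33199))
theorem Q10194 : ∀ i, i < 10194 → P i := stepQ 10193 Q10193 (allL N10193 (tt N11427 D11524) (tt N8664 (iv D10290)) (tt N11428 D11525) (tt N8791 F33200) (tt N8677 F33201) (tt N11069 (iv F36196)) (tt N8665 F33202) (tt N11426 (iv F37632)))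
theorem Q10195 : ∀ i, i < 10195 → P i := stepQ 10194 Q10194 (allL N10194 (tt N8665 (iv D10291)) (tt N11020 (iv F35961)) (tt N11396 (iv F37488)) (tt N11234 (iv F36820)) (tt N8685 F33203) (tt N8887 F33204) (tt N11427 (iv F37636)) (tt N11019 F35959))
theorem Q10196 : ∀ i, i < 10196 → P i := stepQ 10195 Q10195 (allL N10195 (tt N11396 (iv F37487)) (tt N8695 F33205) (tt N8665 (iv D10292)) (tt N11429 D11526) (tt N8686 F33206) (tt N8888 F33207) (tt N11428 (iv F37642)) (tt N11018 (iv F35953)))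
theorem Q10197 : ∀ i, i < 10197 → P i := stepQ 10196 Q10196 (allL N10196 (tt N8667 F33208) (tt N11348 (iv F37285)) (tt N11430 D11527) (tt N8666 (iv D10293)) (tt N11431 D11528) (tt N10242 (iv F33331)) (tt N11102 (iv F36319)) (tt N11125 (iv F36411)))
theorem Q10198 : ∀ i, i < 10198 → P i := stepQ 10197 Q10197 (allL N10197 (tt N11430 (iv F37646)) (tt N11300 (iv F37108)) (tt N8667 (iv D10294)) (tt N9030 F33209) (tt N11432 D11529) (tt N11112 (iv F36358)) (tt N11082 F36246) (tt N11126 (iv F36414)))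
theorem Q10199 : ∀ i, i < 10199 → P i := stepQ 10198 Q10198 (allL N10198 (tt N11431 (iv F37648)) (tt N8671 F33210) (tt N11432 (iv F37650)) (tt N11067 (iv F36186)) (tt N8667 (iv D10295)) (tt N11113 (iv F36360)) (tt N11433 D11530) (tt N11127 (iv F36417)))
theorem Q10200 : ∀ i, i < 10200 → P i := stepQ 10199 Q10199 (allL N10199 (tt N11102 (iv F36317)) (tt N8672 F33211) (tt N11082 (iv F36244)) (tt N8668 F33212) (tt N11433 (iv F37652)) (tt N11434 D11531) (tt N8667 (iv D10296)) (tt N11079 (iv F36236)))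
theorem Q10201 : ∀ i, i < 10201 → P i := stepQ 10200 Q10200 (allL N10200 (tt N11101 (iv F36313)) (tt N11435 D11532) (tt N9032 F33213) (tt N11434 (iv F37653)) (tt N11068 (iv F36191)) (tt N8668 (iv D10297)) (tt N11115 (iv F36364)) (tt N8669 F33214))
theorem Q10202 : ∀ i, i < 10202 → P i := stepQ 10201 Q10201 (allL N10201 (tt N11436 D11533) (tt N8669 (iv D10298)) (tt N11437 D11534) (tt N11099 (iv F36306)) (tt N11069 (iv F36195)) (tt N8677 F33215) (tt N8889 F33216) (tt N11435 (iv F37655)))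
theorem Q10203 : ∀ i, i < 10203 → P i := stepQ 10202 Q10202 (allL N10202 (tt N11438 D11535) (tt N8670 (iv D10299)) (tt N11300 (iv F37109)) (tt N8696 F33217) (tt N11439 D11536) (tt N11440 D11537) (tt N11295 (iv F37097)) (tt N10040 F33218))
theorem Q10204 : ∀ i, i < 10204 → P i := stepQ 10203 Q10203 (allL N10203 (tt N9699 F33219) (tt N11439 (iv F37665)) (tt N8671 F33220) (tt N11441 D11538) (tt N8670 (iv D10300)) (tt N11263 (iv F36964)) (tt N11442 D11539) (tt N10041 F33221))
theorem Q10205 : ∀ i, i < 10205 → P i := stepQ 10204 Q10204 (allL N10204 (tt N9700 F33222) (tt N11295 (iv F37094)) (tt N8672 F33223) (tt N8698 F33224) (tt N11442 (iv F37675)) (tt N11443 D11540) (tt N8670 (iv D10301)) (tt N11293 (iv F37089)))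
theorem Q10206 : ∀ i, i < 10206 → P i := stepQ 10205 Q10205 (allL N10205 (tt N11351 (iv F37292)) (tt N11433 (iv F37651)) (tt N11442 (iv F37674)) (tt N11424 (iv F37621)) (tt N8672 F33225) (tt N11444 D11541) (tt N8671 (iv D10302)) (tt N11445 D11542))
theorem Q10207 : ∀ i, i < 10207 → P i := stepQ 10206 Q10206 (allL N10206 (tt N11352 (iv F37297)) (tt N11446 D11543) (tt N11443 (iv F37677)) (tt N8673 F33226) (tt N11444 (iv F37680)) (tt N8672 (iv D10303)) (tt N11395 (iv F37485)) (tt N11447 D11544))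
theorem Q10208 : ∀ i, i < 10208 → P i := stepQ 10207 Q10207 (allL N10207 (tt N10697 (iv F34858)) (tt N11079 (iv F36233)) (tt N11293 (iv F37087)) (tt N8676 F33227) (tt N11445 (iv F37681)) (tt N11447 (iv F37684)) (tt N11132 (iv F36435)) (tt N8672 (iv D10304)))
theorem Q10209 : ∀ i, i < 10209 → P i := stepQ 10208 Q10208 (allL N10208 (tt N11428 (iv F37639)) (tt N8673 (iv D10305)) (tt N11427 F37638) (tt N11446 (iv F37682)) (tt N11426 (iv F37630)) (tt N11435 (iv F37654)) (tt N11396 (iv F37491)) (tt N8677 F33228))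
theorem Q10210 : ∀ i, i < 10210 → P i := stepQ 10209 Q10209 (allL N10209 (tt N8795 F33229) (tt N11448 D11545) (tt N9669 F33230) (tt N8790 F33231) (tt N8675 F33232) (tt N8674 (iv D10306)) (tt N8681 F33233) (tt N11449 D11546))
theorem Q10211 : ∀ i, i < 10211 → P i := stepQ 10210 Q10210 (allL N10210 (tt N8796 F33234) (tt N9780 F33235) (tt N9656 F33236) (tt N11450 D11547) (tt N8676 F33237) (tt N11449 (iv F37696)) (tt N11135 (iv F36449)) (tt N8674 (iv D10307)))
theorem Q10212 : ∀ i, i < 10212 → P i := stepQ 10211 Q10211 (allL N10211 (tt N11451 D11548) (tt N8675 (iv D10308)) (tt N11452 D11549) (tt N8677 F33238) (tt N11448 (iv F37688)) (tt N11099 (iv F36307)) (tt N8683 F33239) (tt N11453 D11550))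
theorem Q10213 : ∀ i, i < 10213 → P i := stepQ 10212 Q10212 (allL N10212 (tt N10696 (iv F34853)) (tt N11453 (iv F37714)) (tt N10695 F34852) (tt N11447 (iv F37683)) (tt N11449 (iv F37695)) (tt N8676 F33240) (tt N11454 D11551) (tt N8675 (iv D10309)))
theorem Q10214 : ∀ i, i < 10214 → P i := stepQ 10213 Q10213 (allL N10213 (tt N8677 (iv D10310)) (tt N11354 (iv F37307)) (tt N11426 (iv F37629)) (tt N11451 (iv F37703)) (tt N11427 (iv F37635)) (tt N11436 (iv F37656)) (tt N8685 F33241) (tt N11428 (iv F37643)))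
theorem Q10215 : ∀ i, i < 10215 → P i := stepQ 10214 Q10214 (allL N10214 (tt N11426 (iv F37628)) (tt N8708 F33242) (tt N8677 (iv D10311)) (tt N11455 D11552) (tt N11428 (iv F37641)) (tt N11437 (iv F37659)) (tt N8686 F33243) (tt N11427 (iv F37637)))
theorem Q10216 : ∀ i, i < 10216 → P i := stepQ 10215 Q10215 (allL N10215 (tt N9666 F33244) (tt N11456 D11553) (tt N8681 F33245) (tt N9671 F33246) (tt N8679 F33247) (tt N8678 (iv D10312)) (tt N9669 F33248) (tt N11457 D11554))
theorem Q10217 : ∀ i, i < 10217 → P i := stepQ 10216 Q10216 (allL N10216 (tt N11242 (iv F36855)) (tt N11087 (iv F36267)) (tt N8682 F33249) (tt N11458 D11555) (tt N8680 F33250) (tt N11457 (iv F37731)) (tt N10408 (iv F33881)) (tt N8678 (iv D10313)))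
theorem Q10218 : ∀ i, i < 10218 → P i := stepQ 10217 Q10217 (allL N10217 (tt N11459 D11556) (tt N8679 (iv D10314)) (tt N11460 D11557) (tt N8713 F33251) (tt N11456 (iv F37726)) (tt N11085 (iv F36261)) (tt N11078 F36231) (tt N11461 D11558))
theorem Q10219 : ∀ i, i < 10219 → P i := stepQ 10218 Q10218 (allL N10218 (tt N11356 (iv F37319)) (tt N11461 (iv F37746)) (tt N8684 F33252) (tt N11462 D11559) (tt N11457 (iv F37730)) (tt N8680 F33253) (tt N11463 D11560) (tt N8679 (iv D10315)))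
theorem Q10220 : ∀ i, i < 10220 → P i := stepQ 10219 Q10219 (allL N10219 (tt N9302 F33254) (tt N11089 (iv F36275)) (tt N8939 F33255) (tt N8680 (iv D10316)) (tt N11464 D11561) (tt N11462 (iv F37751)) (tt N11139 (iv F36460)) (tt N8715 F33256))
theorem Q10221 : ∀ i, i < 10221 → P i := stepQ 10220 Q10220 (allL N10220 (tt N10623 (iv F34630)) (tt N8681 (iv D10317)) (tt N10315 (iv F33550)) (tt N9711 F33257) (tt N8683 F33258) (tt N8898 F33259) (tt N11448 (iv F37690)) (tt N9640 (iv F33260)))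
theorem Q10222 : ∀ i, i < 10222 → P i := stepQ 10221 Q10221 (allL N10221 (tt N11243 (iv F36860)) (tt N9640 F33261) (tt N11457 (iv F37729)) (tt N9641 F33262) (tt N8684 F33263) (tt N8682 F33264) (tt N10336 (iv F33601)) (tt N8681 (iv D10318)))
theorem Q10223 : ∀ i, i < 10223 → P i := stepQ 10222 Q10222 (allL N10222 (tt N8683 (iv D10319)) (tt N11210 (iv F36728)) (tt N8774 (iv F33267)) (tt N8685 F33265) (tt N10623 (iv F34632)) (tt N8899 F33266) (tt N11451 (iv F37705)) (tt N8773 (iv F33268)))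
theorem Q10224 : ∀ i, i < 10224 → P i := stepQ 10223 Q10223 (allL N10223 (tt N8774 F33269) (tt N11460 (iv F37742)) (tt N8683 (iv D10320)) (tt N11465 D11562) (tt N10315 (iv F33551)) (tt N8900 F33270) (tt N11452 (iv F37711)) (tt N8772 (iv F33271)))
theorem Q10225 : ∀ i, i < 10225 → P i := stepQ 10224 Q10224 (allL N10224 (tt N8773 F33272) (tt N8684 F33273) (tt N8772 F33274) (tt N10168 F33275) (tt N9640 F33276) (tt N8901 F33277) (tt N8779 (iv F33278)) (tt N8683 (iv D10321)))
theorem Q10226 : ∀ i, i < 10226 → P i := stepQ 10225 Q10225 (allL N10225 (tt N11214 (iv F36744)) (tt N8779 F33279) (tt N11463 (iv F37754)) (tt N11216 (iv F36753)) (tt N10336 (iv F33599)) (tt N10337 (iv F33603)) (tt N8684 (iv D10322)) (tt N11454 (iv F37721)))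
theorem Q10227 : ∀ i, i < 10227 → P i := stepQ 10226 Q10226 (allL N10226 (tt N8686 F33280) (tt N11387 (iv F37441)) (tt N8685 (iv D10323)) (tt N11466 D11563) (tt N11396 (iv F37489)) (tt N8902 F33281) (tt N11426 (iv F37631)) (tt N11017 (iv F35946)))
theorem Q10228 : ∀ i, i < 10228 → P i := stepQ 10227 Q10227 (allL N10227 (tt N11466 (iv F37763)) (tt N8720 F33282) (tt N11465 (iv F37760)) (tt N8686 (iv D10324)) (tt N11467 D11564) (tt N8903 F33283) (tt N11455 (iv F37723)) (tt N11468 D11565))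
theorem Q10229 : ∀ i, i < 10229 → P i := stepQ 10228 Q10228 (allL N10228 (tt N9714 F33284) (tt N9580 F33285) (tt N8688 F33286) (tt N11469 D11566) (tt N8687 (iv D10325)) (tt N10545 (iv F34331)) (tt N11010 (iv F35918)) (tt N10228 F33287))
theorem Q10230 : ∀ i, i < 10230 → P i := stepQ 10229 Q10229 (allL N10229 (tt N9715 F33288) (tt N9059 F33289) (tt N11010 (iv F35917)) (tt N8699 F33290) (tt N8689 F33291) (tt N11470 D11567) (tt N8688 (iv D10326)) (tt N11002 (iv F35890)))
theorem Q10231 : ∀ i, i < 10231 → P i := stepQ 10230 Q10230 (allL N10230 (tt N11358 (iv F37328)) (tt N11471 D11568) (tt N11011 (iv F35920)) (tt N8690 F33292) (tt N11470 (iv F37779)) (tt N8689 (iv D10327)) (tt N11397 (iv F37494)) (tt N11003 (iv F35894)))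
theorem Q10232 : ∀ i, i < 10232 → P i := stepQ 10231 Q10231 (allL N10231 (tt N11355 (iv F37313)) (tt N8690 (iv D10328)) (tt N11354 F37312) (tt N11471 (iv F37780)) (tt N8701 F33293) (tt N9061 F33294) (tt N11025 (iv F35989)) (tt N8691 F33295))
theorem Q10233 : ∀ i, i < 10233 → P i := stepQ 10232 Q10232 (allL N10232 (tt N8691 (iv D10329)) (tt N11000 (iv F35874)) (tt N11353 (iv F37301)) (tt N10829 (iv F35261)) (tt N8707 F33296) (tt N9020 F33297) (tt N8694 F33298) (tt N11355 (iv F37318)))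
theorem Q10234 : ∀ i, i < 10234 → P i := stepQ 10233 Q10233 (allL N10233 (tt N11353 F37306) (tt N11428 (iv F37640)) (tt N8691 (iv D10330)) (tt N11472 D11569) (tt N8708 F33299) (tt N9063 F33300) (tt N8695 F33301) (tt N11354 (iv F37311)))
theorem Q10235 : ∀ i, i < 10235 → P i := stepQ 10234 Q10234 (allL N10234 (tt N8692 (iv D10331)) (tt N10078 F33302) (tt N10437 (iv F33963)) (tt N8694 F33303) (tt N8801 F33304) (tt N8738 F33305) (tt N10829 (iv F35263)) (tt N10137 F33306))
theorem Q10236 : ∀ i, i < 10236 → P i := stepQ 10235 Q10235 (allL N10235 (tt N10437 (iv F33962)) (tt N10614 (iv F34596)) (tt N8692 (iv D10332)) (tt N11473 D11570) (tt N10076 F33307) (tt N8739 F33308) (tt N10802 (iv F35169)) (tt N8769 F33309))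
theorem Q10237 : ∀ i, i < 10237 → P i := stepQ 10236 Q10236 (allL N10236 (tt N9518 F33310) (tt N8768 F33311) (tt N10640 (iv F34677)) (tt N11204 (iv F36703)) (tt N10077 F33312) (tt N10236 F33313) (tt N8693 (iv D10333)) (tt N10796 (iv F35139)))
theorem Q10238 : ∀ i, i < 10238 → P i := stepQ 10237 Q10237 (allL N10237 (tt N8695 F33314) (tt N9356 (iv F33318)) (tt N8694 (iv D10334)) (tt N11474 D11571) (tt N8719 F33315) (tt N8740 F33316) (tt N11353 (iv F37304)) (tt N9355 F33317))
theorem Q10239 : ∀ i, i < 10239 → P i := stepQ 10238 Q10238 (allL N10238 (tt N11474 (iv F37790)) (tt N11429 (iv F37644)) (tt N11473 (iv F37787)) (tt N8695 (iv D10335)) (tt N11475 D11572) (tt N8741 F33319) (tt N11472 (iv F37786)) (tt N11476 D11573))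
theorem Q10240 : ∀ i, i < 10240 → P i := stepQ 10239 Q10239 (allL N10239 (tt N8696 (iv D10336)) (tt N9695 F33320) (tt N9068 F33321) (tt N11438 (iv F37662)) (tt N10524 (iv F34260)) (tt N10725 (iv F34942)) (tt N9896 (iv F33323)) (tt N8721 F33322))
theorem Q10241 : ∀ i, i < 10241 → P i := stepQ 10240 Q10240 (allL N10240 (tt N10725 (iv F34938)) (tt N10645 (iv F34695)) (tt N9070 F33324) (tt N11440 (iv F37668)) (tt N10947 (iv F35675)) (tt N8696 (iv D10337)) (tt N10687 (iv F34828)) (tt N8722 F33325))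
theorem Q10242 : ∀ i, i < 10242 → P i := stepQ 10241 Q10241 (allL N10241 (tt N9896 F33326) (tt N8698 F33327) (tt N9071 F33328) (tt N11295 (iv F37096)) (tt N10915 (iv F35555)) (tt N10675 (iv F34796)) (tt N8696 (iv D10338)) (tt N9600 F33329))
theorem Q10243 : ∀ i, i < 10243 → P i := stepQ 10242 Q10242 (allL N10242 (tt N9686 F33330) (tt N10946 (iv F35671)) (tt N11469 (iv F37774)) (tt N8697 (iv D10339)) (tt N11441 (iv F37671)) (tt N10196 F33331) (tt N11477 D11574) (tt N10515 F34237))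
theorem Q10244 : ∀ i, i < 10244 → P i := stepQ 10243 Q10243 (allL N10243 (tt N9687 F33332) (tt N10915 (iv F35553)) (tt N8699 F33333) (tt N11477 (iv F37802)) (tt N8698 F33334) (tt N11478 D11575) (tt N8697 (iv D10340)) (tt N9596 F33335))
theorem Q10245 : ∀ i, i < 10245 → P i := stepQ 10244 Q10244 (allL N10244 (tt N9701 F33336) (tt N10671 (iv F34783)) (tt N8700 F33337) (tt N11443 (iv F37678)) (tt N11478 (iv F37806)) (tt N8698 (iv D10341)) (tt N10642 (iv F34688)) (tt N9602 F33338))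
theorem Q10246 : ∀ i, i < 10246 → P i := stepQ 10245 Q10245 (allL N10245 (tt N9716 F33339) (tt N11065 F36180) (tt N11478 (iv F37805)) (tt N11470 (iv F37778)) (tt N8700 F33340) (tt N8699 (iv D10342)) (tt N10547 (iv F34340)) (tt N9611 F33341))
theorem Q10247 : ∀ i, i < 10247 → P i := stepQ 10246 Q10246 (allL N10246 (tt N10667 (iv F34763)) (tt N8700 (iv D10343)) (tt N10666 F34762) (tt N8701 F33342) (tt N11065 (iv F36177)) (tt N9077 F33343) (tt N11026 (iv F35992)) (tt N9618 F33344))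
theorem Q10248 : ∀ i, i < 10248 → P i := stepQ 10247 Q10247 (allL N10247 (tt N8701 (iv D10344)) (tt N11001 (iv F35881)) (tt N8803 (iv F33347)) (tt N10667 (iv F34764)) (tt N11355 (iv F37315)) (tt N9021 F33345) (tt N11022 (iv F35976)) (tt N8707 F33346))
theorem Q10249 : ∀ i, i < 10249 → P i := stepQ 10248 Q10248 (allL N10248 (tt N8803 F33348) (tt N11427 (iv F37633)) (tt N8701 (iv D10345)) (tt N8806 (iv F33351)) (tt N11354 (iv F37308)) (tt N9079 F33349) (tt N11020 (iv F35965)) (tt N8708 F33350))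
theorem Q10250 : ∀ i, i < 10250 → P i := stepQ 10249 Q10249 (allL N10249 (tt N11098 (iv F36301)) (tt N8702 (iv D10346)) (tt N11479 D11576) (tt N11078 (iv F36229)) (tt N9933 F33352) (tt N9931 F33353) (tt N8713 F33354) (tt N9930 F33355))
theorem Q10251 : ∀ i, i < 10251 → P i := stepQ 10250 Q10250 (allL N10250 (tt N8802 F33356) (tt N8703 (iv D10347)) (tt N11480 D11577) (tt N10073 F33357) (tt N8705 F33358) (tt N8969 F33359) (tt N8716 F33360) (tt N11230 (iv F36809)))
theorem Q10252 : ∀ i, i < 10252 → P i := stepQ 10251 Q10251 (allL N10251 (tt N9734 F33361) (tt N11230 (iv F36805)) (tt N9932 F33362) (tt N11481 D11578) (tt N8706 F33363) (tt N8704 F33364) (tt N9622 F33365) (tt N8703 (iv D10348)))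
theorem Q10253 : ∀ i, i < 10253 → P i := stepQ 10252 Q10252 (allL N10252 (tt N9719 F33366) (tt N9082 F33367) (tt N11195 (iv F36661)) (tt N8704 (iv D10349)) (tt N9610 F33368) (tt N11481 (iv F37822)) (tt N8723 F33369) (tt N10075 F33370))
theorem Q10254 : ∀ i, i < 10254 → P i := stepQ 10253 Q10253 (allL N10253 (tt N8810 F33371) (tt N11479 (iv F37809)) (tt N8705 (iv D10350)) (tt N11482 D11579) (tt N11480 (iv F37816)) (tt N8978 F33372) (tt N8718 F33373) (tt N11237 (iv F36841)))
theorem Q10255 : ∀ i, i < 10255 → P i := stepQ 10254 Q10254 (allL N10254 (tt N8708 F33374) (tt N8804 F33378) (tt N8707 (iv D10351)) (tt N11483 D11580) (tt N11353 (iv F37302)) (tt N9019 F33375) (tt N8719 F33376) (tt N8803 F33377))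
theorem Q10256 : ∀ i, i < 10256 → P i := stepQ 10255 Q10255 (allL N10255 (tt N11483 (iv F37829)) (tt N11455 (iv F37722)) (tt N11482 (iv F37826)) (tt N8708 (iv D10352)) (tt N11484 D11581) (tt N9083 F33379) (tt N8720 F33380) (tt N11485 D11582))
theorem Q10257 : ∀ i, i < 10257 → P i := stepQ 10256 Q10256 (allL N10256 (tt N11097 (iv F36297)) (tt N8709 (iv D10353)) (tt N10764 (iv F35052)) (tt N11085 (iv F36260)) (tt N10274 (iv F33423)) (tt N8713 F33381) (tt N11083 (iv F36251)) (tt N11486 D11583))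
theorem Q10258 : ∀ i, i < 10258 → P i := stepQ 10257 Q10257 (allL N10257 (tt N10277 (iv F33432)) (tt N11486 (iv F37840)) (tt N8744 F33382) (tt N11487 D11584) (tt N10275 (iv F33427)) (tt N8710 F33383) (tt N11488 D11585) (tt N8709 (iv D10354)))
theorem Q10259 : ∀ i, i < 10259 → P i := stepQ 10258 Q10258 (allL N10258 (tt N10278 (iv F33436)) (tt N8715 F33384) (tt N10470 (iv F34066)) (tt N8710 (iv D10355)) (tt N11489 D11586) (tt N11487 (iv F37845)) (tt N8732 F33385) (tt N11089 (iv F36278)))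
theorem Q10260 : ∀ i, i < 10260 → P i := stepQ 10259 Q10259 (allL N10259 (tt N11172 (iv F36565)) (tt N8711 (iv D10356)) (tt N11490 D11587) (tt N10692 (iv F34838)) (tt N8713 F33386) (tt N10274 (iv F33424)) (tt N9933 F33387) (tt N11491 D11588))
theorem Q10261 : ∀ i, i < 10261 → P i := stepQ 10260 Q10260 (allL N10260 (tt N10064 F33388) (tt N11491 (iv F37858)) (tt N8717 F33389) (tt N11492 D11589) (tt N8714 F33390) (tt N8712 F33391) (tt N11228 (iv F36797)) (tt N8711 (iv D10357)))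
theorem Q10262 : ∀ i, i < 10262 → P i := stepQ 10261 Q10261 (allL N10261 (tt N10065 F33392) (tt N10276 (iv F33430)) (tt N10163 F33393) (tt N8712 (iv D10358)) (tt N11493 D11590) (tt N11492 (iv F37865)) (tt N8735 F33394) (tt N10694 (iv F34846)))
theorem Q10263 : ∀ i, i < 10263 → P i := stepQ 10262 Q10262 (allL N10262 (tt N8713 (iv D10359)) (tt N11171 (iv F36560)) (tt N11494 D11591) (tt N11459 (iv F37735)) (tt N11172 (iv F36567)) (tt N11097 F36300) (tt N11098 (iv F36305)) (tt N11495 D11592))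
theorem Q10264 : ∀ i, i < 10264 → P i := stepQ 10263 Q10263 (allL N10263 (tt N11494 (iv F37870)) (tt N8718 F33395) (tt N8713 (iv D10360)) (tt N11496 D11593) (tt N11490 (iv F37854)) (tt N10764 (iv F35053)) (tt N11479 (iv F37812)) (tt N8791 (iv F33396)))
theorem Q10265 : ∀ i, i < 10265 → P i := stepQ 10264 Q10264 (allL N10264 (tt N11495 (iv F37873)) (tt N8714 F33397) (tt N8791 F33398) (tt N11497 D11594) (tt N11491 (iv F37860)) (tt N11486 (iv F37843)) (tt N11235 (iv F36828)) (tt N8713 (iv D10361)))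
theorem Q10266 : ∀ i, i < 10266 → P i := stepQ 10265 Q10265 (allL N10265 (tt N11361 (iv F37340)) (tt N11497 (iv F37876)) (tt N11377 (iv F37410)) (tt N8714 (iv D10362)) (tt N11498 D11595) (tt N8715 F33399) (tt N11238 (iv F36844)) (tt N11462 (iv F37752)))
theorem Q10267 : ∀ i, i < 10267 → P i := stepQ 10266 Q10266 (allL N10266 (tt N11362 (iv F37345)) (tt N11489 (iv F37851)) (tt N11378 (iv F37415)) (tt N11493 (iv F37868)) (tt N8715 (iv D10363)) (tt N11498 (iv F37877)) (tt N8736 F33400) (tt N11464 (iv F37758)))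
theorem Q10268 : ∀ i, i < 10268 → P i := stepQ 10267 Q10267 (allL N10267 (tt N8799 F33401) (tt N11490 (iv F37853)) (tt N8716 (iv D10364)) (tt N11499 D11596) (tt N8718 F33402) (tt N8745 F33403) (tt N11480 (iv F37818)) (tt N8790 F33404))
theorem Q10269 : ∀ i, i < 10269 → P i := stepQ 10268 Q10268 (allL N10268 (tt N8809 F33405) (tt N11496 (iv F37875)) (tt N8720 F33406) (tt N8718 (iv D10365)) (tt N11500 D11597) (tt N8746 F33407) (tt N11482 (iv F37828)) (tt N11425 (iv F37627)))
theorem Q10270 : ∀ i, i < 10270 → P i := stepQ 10269 Q10269 (allL N10269 (tt N11387 (iv F37440)) (tt N8719 (iv D10366)) (tt N10373 (iv F33727)) (tt N11501 D11598) (tt N9356 F33408) (tt N9354 F33409) (tt N8804 F33410) (tt N9353 F33411))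
theorem Q10271 : ∀ i, i < 10271 → P i := stepQ 10270 Q10270 (allL N10270 (tt N8720 F33412) (tt N11501 (iv F37884)) (tt N8809 F33413) (tt N8719 (iv D10367)) (tt N11502 D11599) (tt N8747 F33414) (tt N11483 (iv F37833)) (tt N11503 D11600))
theorem Q10272 : ∀ i, i < 10272 → P i := stepQ 10271 Q10271 (allL N10271 (tt N11502 (iv F37887)) (tt N11467 (iv F37766)) (tt N11500 (iv F37882)) (tt N11475 (iv F37794)) (tt N8720 (iv D10368)) (tt N8748 F33415) (tt N11484 (iv F37836)) (tt N11504 D11601))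
theorem Q10273 : ∀ i, i < 10273 → P i := stepQ 10272 Q10272 (allL N10272 (tt N11503 (iv F37890)) (tt N11468 (iv F37768)) (tt N11425 (iv F37625)) (tt N11011 (iv F35921)) (tt N11504 (iv F37893)) (tt N8749 F33416) (tt N11505 D11602) (tt N8720 (iv D10369)))
theorem Q10274 : ∀ i, i < 10274 → P i := stepQ 10273 Q10273 (allL N10273 (tt N9717 F33417) (tt N10273 F33418) (tt N8723 (iv D10370)) (tt N9929 F33419) (tt N9609 F33420) (tt N9613 F33421) (tt N11195 (iv F36663)) (tt N10273 F33422))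
theorem Q10275 : ∀ i, i < 10275 → P i := stepQ 10274 Q10274 (allL N10274 (tt N10692 (iv F34837)) (tt N8724 (iv D10371)) (tt N11454 (iv F37719)) (tt N11172 (iv F36566)) (tt N10256 F33423) (tt N10259 F33424) (tt N10695 (iv F34850)) (tt N11463 (iv F37755)))
theorem Q10276 : ∀ i, i < 10276 → P i := stepQ 10275 Q10275 (allL N10275 (tt N8731 F33425) (tt N11463 (iv F37753)) (tt N8753 F33426) (tt N11506 D11603) (tt N10257 F33427) (tt N8725 F33428) (tt N11461 (iv F37748)) (tt N8724 (iv D10372)))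
theorem Q10277 : ∀ i, i < 10277 → P i := stepQ 10276 Q10276 (allL N10276 (tt N8732 F33429) (tt N10261 F33430) (tt N8784 F33431) (tt N8725 (iv D10373)) (tt N11507 D11604) (tt N11506 (iv F37898)) (tt N10278 (iv F33439)) (tt N11174 (iv F36577)))
theorem Q10278 : ∀ i, i < 10278 → P i := stepQ 10277 Q10277 (allL N10277 (tt N10257 F33432) (tt N11201 (iv F36690)) (tt N8756 F33433) (tt N11508 D11605) (tt N8731 F33434) (tt N8727 F33435) (tt N11509 D11606) (tt N8726 (iv D10374)))
theorem Q10279 : ∀ i, i < 10279 → P i := stepQ 10278 Q10278 (allL N10278 (tt N10258 F33436) (tt N8735 F33437) (tt N9351 F33438) (tt N8727 (iv D10375)) (tt N11510 D11607) (tt N11508 (iv F37905)) (tt N10276 F33439) (tt N9668 F33440))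
theorem Q10280 : ∀ i, i < 10280 → P i := stepQ 10279 Q10279 (allL N10279 (tt N11078 (iv F36226)) (tt N9658 F33441) (tt N8758 F33442) (tt N11098 (iv F36303)) (tt N9655 F33443) (tt N8729 F33444) (tt N11459 (iv F37738)) (tt N8728 (iv D10376)))
theorem Q10281 : ∀ i, i < 10281 → P i := stepQ 10280 Q10280 (allL N10280 (tt N11506 (iv F37896)) (tt N11203 (iv F36701)) (tt N11511 D11608) (tt N8731 (iv D10377)) (tt N11512 D11609) (tt N8732 F33445) (tt N11513 D11610) (tt N11176 (iv F36585)))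
theorem Q10282 : ∀ i, i < 10282 → P i := stepQ 10281 Q10281 (allL N10281 (tt N11461 (iv F37745)) (tt N11202 (iv F36696)) (tt N8760 F33446) (tt N11513 (iv F37923)) (tt N11509 (iv F37910)) (tt N11488 (iv F37849)) (tt N8731 (iv D10378)) (tt N11459 F37740))
theorem Q10283 : ∀ i, i < 10283 → P i := stepQ 10282 Q10282 (allL N10282 (tt N8784 F33447) (tt N10295 (iv F33484)) (tt N8732 (iv D10379)) (tt N8761 F33448) (tt N11514 D11611) (tt N11511 (iv F37921)) (tt N10470 (iv F34067)) (tt N11178 (iv F36593)))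
theorem Q10284 : ∀ i, i < 10284 → P i := stepQ 10283 Q10283 (allL N10283 (tt N11507 (iv F37899)) (tt N8736 F33449) (tt N11514 (iv F37925)) (tt N11510 (iv F37916)) (tt N8732 (iv D10380)) (tt N11512 (iv F37922)) (tt N11489 (iv F37852)) (tt N11179 (iv F36595)))
theorem Q10285 : ∀ i, i < 10285 → P i := stepQ 10284 Q10284 (allL N10284 (tt N9755 F33450) (tt N11242 (iv F36856)) (tt N10284 F33451) (tt N11233 (iv F36817)) (tt N10066 F33452) (tt N8734 F33453) (tt N11268 (iv F36986)) (tt N8733 (iv D10381)))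
theorem Q10286 : ∀ i, i < 10286 → P i := stepQ 10285 Q10285 (allL N10285 (tt N10820 F35237) (tt N9668 F33454) (tt N10825 (iv F35250)) (tt N8734 (iv D10382)) (tt N11515 D11612) (tt N11233 (iv F36818)) (tt N9888 F33455) (tt N8735 F33456))
theorem Q10287 : ∀ i, i < 10287 → P i := stepQ 10286 Q10286 (allL N10286 (tt N10790 (iv F35115)) (tt N9380 F33457) (tt N8735 (iv D10383)) (tt N8737 F33458) (tt N11516 D11613) (tt N11227 (iv F36791)) (tt N10163 F33459) (tt N10825 (iv F35252)))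
theorem Q10288 : ∀ i, i < 10288 → P i := stepQ 10287 Q10287 (allL N10287 (tt N11366 (iv F37360)) (tt N11510 (iv F37914)) (tt N11516 (iv F37931)) (tt N8736 F33460) (tt N8735 (iv D10384)) (tt N11232 (iv F36815)) (tt N11493 (iv F37869)) (tt N11515 (iv F37929)))
theorem Q10289 : ∀ i, i < 10289 → P i := stepQ 10288 Q10288 (allL N10288 (tt N10438 (iv F33967)) (tt N9127 F33461) (tt N8741 F33462) (tt N8739 (iv D10385)) (tt N11517 D11614) (tt N11473 (iv F37788)) (tt N9101 F33463) (tt N8771 F33464))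
theorem Q10290 : ∀ i, i < 10290 → P i := stepQ 10289 Q10289 (allL N10289 (tt N8741 F33465) (tt N9387 F33466) (tt N10438 (iv F33969)) (tt N8740 (iv D10386)) (tt N11518 D11615) (tt N11474 (iv F37792)) (tt N9023 F33467) (tt N9394 F33468))
theorem Q10291 : ∀ i, i < 10291 → P i := stepQ 10290 Q10290 (allL N10290 (tt N11518 (iv F37938)) (tt N8921 F33469) (tt N11517 (iv F37934)) (tt N8748 F33470) (tt N8741 (iv D10387)) (tt N11475 (iv F37795)) (tt N9102 F33471) (tt N11519 D11616))
theorem Q10292 : ∀ i, i < 10292 → P i := stepQ 10291 Q10291 (allL N10291 (tt N9394 F33472) (tt N8922 F33473) (tt N8771 F33474) (tt N9392 F33475) (tt N11519 (iv F37946)) (tt N11476 (iv F37799)) (tt N8945 F33476) (tt N8741 (iv D10388)))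
theorem Q10293 : ∀ i, i < 10293 → P i := stepQ 10292 Q10292 (allL N10292 (tt N10305 (iv F33514)) (tt N10757 (iv F35037)) (tt N11084 (iv F36255)) (tt N11520 D11617) (tt N10301 (iv F33502)) (tt N8743 F33477) (tt N11521 D11618) (tt N8742 (iv D10389)))
theorem Q10294 : ∀ i, i < 10294 → P i := stepQ 10293 Q10293 (allL N10293 (tt N10306 (iv F33519)) (tt N9109 F33478) (tt N10342 (iv F33618)) (tt N8743 (iv D10390)) (tt N11522 D11619) (tt N11520 (iv F37948)) (tt N8759 F33479) (tt N8926 F33480))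
theorem Q10295 : ∀ i, i < 10295 → P i := stepQ 10294 Q10294 (allL N10294 (tt N10307 (iv F33523)) (tt N8764 F33481) (tt N11488 (iv F37847)) (tt N10471 (iv F34071)) (tt N10304 (iv F33513)) (tt N8760 F33482) (tt N8744 (iv D10391)) (tt N11521 (iv F37954)))
theorem Q10296 : ∀ i, i < 10296 → P i := stepQ 10295 Q10295 (allL N10295 (tt N8800 F33483) (tt N10282 F33484) (tt N10098 F33485) (tt N8745 (iv D10392)) (tt N11523 D11620) (tt N11499 (iv F37880)) (tt N8967 F33486) (tt N11450 (iv F37701)))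
theorem Q10297 : ∀ i, i < 10297 → P i := stepQ 10296 Q10296 (allL N10296 (tt N8811 F33487) (tt N10768 (iv F35062)) (tt N8748 F33488) (tt N11523 (iv F37961)) (tt N8746 (iv D10393)) (tt N11500 (iv F37883)) (tt N8979 F33489) (tt N11424 (iv F37623)))
theorem Q10298 : ∀ i, i < 10298 → P i := stepQ 10297 Q10297 (allL N10297 (tt N8748 F33490) (tt N10774 (iv F35081)) (tt N8811 F33491) (tt N11518 (iv F37940)) (tt N8747 (iv D10394)) (tt N11502 (iv F37889)) (tt N9016 F33492) (tt N11524 D11621))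
theorem Q10299 : ∀ i, i < 10299 → P i := stepQ 10298 Q10298 (allL N10298 (tt N8749 F33493) (tt N10775 (iv F35085)) (tt N8805 F33494) (tt N11009 (iv F35911)) (tt N11524 (iv F37965)) (tt N11503 (iv F37892)) (tt N11345 (iv F37272)) (tt N8747 (iv D10395)))
theorem Q10300 : ∀ i, i < 10300 → P i := stepQ 10299 Q10299 (allL N10299 (tt N11524 (iv F37963)) (tt N8927 F33495) (tt N11424 (iv F37620)) (tt N11525 D11622) (tt N8749 F33496) (tt N11504 (iv F37894)) (tt N11423 (iv F37617)) (tt N8748 (iv D10396)))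
theorem Q10301 : ∀ i, i < 10301 → P i := stepQ 10300 Q10300 (allL N10300 (tt N8782 F33497) (tt N8750 (iv D10397)) (tt N11453 (iv F37715)) (tt N8760 F33498) (tt N9251 F33499) (tt N10471 (iv F34073)) (tt N8752 F33500) (tt N11452 F37712))
theorem Q10302 : ∀ i, i < 10302 → P i := stepQ 10301 Q10301 (allL N10301 (tt N8758 F33501) (tt N11452 (iv F37709)) (tt N11078 (iv F36228)) (tt N11526 D11623) (tt N10292 F33502) (tt N8751 F33503) (tt N11460 (iv F37743)) (tt N8750 (iv D10398)))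
theorem Q10303 : ∀ i, i < 10303 → P i := stepQ 10302 Q10302 (allL N10302 (tt N8759 F33504) (tt N10608 (iv F34582)) (tt N11527 D11624) (tt N8751 (iv D10399)) (tt N11528 D11625) (tt N11526 (iv F37968)) (tt N10306 (iv F33521)) (tt N8767 F33505))
theorem Q10304 : ∀ i, i < 10304 → P i := stepQ 10303 Q10303 (allL N10303 (tt N8781 F33506) (tt N11454 (iv F37718)) (tt N8752 (iv D10400)) (tt N11511 (iv F37920)) (tt N9257 F33507) (tt N8761 F33508) (tt N11453 (iv F37717)) (tt N8779 F33509))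
theorem Q10305 : ∀ i, i < 10305 → P i := stepQ 10304 Q10304 (allL N10304 (tt N8760 F33510) (tt N8772 F33511) (tt N11461 (iv F37747)) (tt N8782 F33512) (tt N10294 F33513) (tt N10307 (iv F33527)) (tt N8753 (iv D10401)) (tt N11460 F37744))
theorem Q10306 : ∀ i, i < 10306 → P i := stepQ 10305 Q10305 (allL N10305 (tt N10292 F33514) (tt N9249 F33515) (tt N9655 F33516) (tt N11529 D11626) (tt N8758 F33517) (tt N8755 F33518) (tt N11530 D11627) (tt N8754 (iv D10402)))
theorem Q10307 : ∀ i, i < 10307 → P i := stepQ 10306 Q10306 (allL N10306 (tt N10293 F33519) (tt N9115 F33520) (tt N11450 (iv F37700)) (tt N8755 (iv D10403)) (tt N11531 D11628) (tt N11529 (iv F37980)) (tt N10302 F33521) (tt N10098 F33522))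
theorem Q10308 : ∀ i, i < 10308 → P i := stepQ 10307 Q10307 (allL N10307 (tt N10294 F33523) (tt N8762 F33524) (tt N11509 (iv F37909)) (tt N9352 F33525) (tt N8760 F33526) (tt N10304 F33527) (tt N8756 (iv D10404)) (tt N11530 (iv F37987)))
theorem Q10309 : ∀ i, i < 10309 → P i := stepQ 10308 Q10308 (allL N10308 (tt N8776 F33528) (tt N8758 F33529) (tt N10144 F33530) (tt N11532 D11629) (tt N9249 F33531) (tt N8942 F33532) (tt N8766 F33533) (tt N8757 (iv D10405)))
theorem Q10310 : ∀ i, i < 10310 → P i := stepQ 10309 Q10309 (allL N10309 (tt N11526 (iv F37967)) (tt N11532 (iv F37994)) (tt N11533 D11630) (tt N8758 (iv D10406)) (tt N11534 D11631) (tt N8759 F33534) (tt N11535 D11632) (tt N8775 F33535))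
theorem Q10311 : ∀ i, i < 10311 → P i := stepQ 10310 Q10310 (allL N10310 (tt N11460 (iv F37741)) (tt N8766 F33536) (tt N11459 F37739) (tt N11535 (iv F38003)) (tt N11530 (iv F37985)) (tt N11521 (iv F37953)) (tt N8758 (iv D10407)) (tt N8760 F33537))
theorem Q10312 : ∀ i, i < 10312 → P i := stepQ 10311 Q10311 (allL N10311 (tt N11527 (iv F37970)) (tt N10647 (iv F34703)) (tt N8759 (iv D10408)) (tt N10343 (iv F33623)) (tt N11536 D11633) (tt N11533 (iv F37998)) (tt N10342 F33620) (tt N8777 F33538))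
theorem Q10313 : ∀ i, i < 10313 → P i := stepQ 10312 Q10312 (allL N10312 (tt N11528 (iv F37975)) (tt N9118 F33539) (tt N11536 (iv F38004)) (tt N11531 (iv F37990)) (tt N8759 (iv D10409)) (tt N11534 (iv F38000)) (tt N11522 (iv F37956)) (tt N8778 F33540))
theorem Q10314 : ∀ i, i < 10314 → P i := stepQ 10313 Q10313 (allL N10313 (tt N8770 F33541) (tt N11530 (iv F37983)) (tt N10145 F33542) (tt N11537 D11634) (tt N8766 F33543) (tt N8763 F33544) (tt N9249 F33545) (tt N8762 (iv D10410)))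
theorem Q10315 : ∀ i, i < 10315 → P i := stepQ 10314 Q10314 (allL N10314 (tt N8771 F33546) (tt N10415 (iv F33896)) (tt N9394 F33547) (tt N8763 (iv D10411)) (tt N11538 D11635) (tt N11537 (iv F38008)) (tt N8936 F33548) (tt N10438 (iv F33971)))
theorem Q10316 : ∀ i, i < 10316 → P i := stepQ 10315 Q10315 (allL N10315 (tt N9121 F33549) (tt N11521 (iv F37950)) (tt N10220 F33550) (tt N11539 D11636) (tt N10223 F33551) (tt N8765 F33552) (tt N10757 (iv F35039)) (tt N8764 (iv D10412)))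
theorem Q10317 : ∀ i, i < 10317 → P i := stepQ 10316 Q10316 (allL N10316 (tt N9122 F33553) (tt N8767 F33554) (tt N11139 (iv F36459)) (tt N8765 (iv D10413)) (tt N11540 D11637) (tt N11539 (iv F38015)) (tt N8939 F33555) (tt N10608 (iv F34585)))
theorem Q10318 : ∀ i, i < 10318 → P i := stepQ 10317 Q10317 (allL N10317 (tt N8775 F33556) (tt N11535 (iv F38002)) (tt N11541 D11638) (tt N8766 (iv D10414)) (tt N11542 D11639) (tt N8767 F33557) (tt N11532 (iv F37996)) (tt N11526 (iv F37969)))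
theorem Q10319 : ∀ i, i < 10319 → P i := stepQ 10318 Q10318 (allL N10318 (tt N8777 F33558) (tt N11307 (iv F37135)) (tt N8767 (iv D10415)) (tt N10483 (iv F34119)) (tt N11543 D11640) (tt N11541 (iv F38020)) (tt N8943 F33559) (tt N11527 (iv F37974)))
theorem Q10320 : ∀ i, i < 10320 → P i := stepQ 10319 Q10319 (allL N10319 (tt N8778 F33560) (tt N11540 (iv F38017)) (tt N11543 (iv F38024)) (tt N11538 (iv F38012)) (tt N8767 (iv D10416)) (tt N11542 (iv F38022)) (tt N8944 F33561) (tt N11528 (iv F37977)))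
theorem Q10321 : ∀ i, i < 10321 → P i := stepQ 10320 Q10320 (allL N10320 (tt N11537 (iv F38006)) (tt N10624 (iv F34634)) (tt N11476 (iv F37797)) (tt N8770 (iv D10417)) (tt N11544 D11641) (tt N8771 F33562) (tt N9254 F33563) (tt N11473 (iv F37789)))
theorem Q10322 : ∀ i, i < 10322 → P i := stepQ 10321 Q10321 (allL N10321 (tt N11538 (iv F38010)) (tt N9130 F33564) (tt N11519 (iv F37945)) (tt N8778 F33565) (tt N8771 (iv D10418)) (tt N11544 (iv F38027)) (tt N8946 F33566) (tt N11517 (iv F37937)))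
theorem Q10323 : ∀ i, i < 10323 → P i := stepQ 10322 Q10322 (allL N10322 (tt N11465 (iv F37759)) (tt N8775 F33567) (tt N11466 (iv F37764)) (tt N8774 (iv D10419)) (tt N11545 D11642) (tt N9131 F33568) (tt N11546 D11643) (tt N11532 (iv F37997)))
theorem Q10324 : ∀ i, i < 10324 → P i := stepQ 10323 Q10323 (allL N10323 (tt N11452 (iv F37708)) (tt N8776 F33569) (tt N11451 F37706) (tt N11546 (iv F38032)) (tt N9253 F33570) (tt N10806 (iv F35185)) (tt N8774 (iv D10420)) (tt N8782 F33571))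
theorem Q10325 : ∀ i, i < 10325 → P i := stepQ 10324 Q10324 (allL N10324 (tt N11541 (iv F38019)) (tt N11505 (iv F37895)) (tt N8775 (iv D10421)) (tt N10506 (iv F34203)) (tt N11547 D11644) (tt N8777 F33572) (tt N11468 (iv F37771)) (tt N11533 (iv F37999)))
theorem Q10326 : ∀ i, i < 10326 → P i := stepQ 10325 Q10325 (allL N10325 (tt N11542 (iv F38021)) (tt N11545 (iv F38029)) (tt N11547 (iv F38033)) (tt N11544 (iv F38026)) (tt N8775 (iv D10422)) (tt N8778 F33573) (tt N11548 D11645) (tt N11534 (iv F38001)))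
theorem Q10327 : ∀ i, i < 10327 → P i := stepQ 10326 Q10326 (allL N10326 (tt N11532 (iv F37993)) (tt N11546 (iv F38031)) (tt N11468 (iv F37769)) (tt N8776 F33574) (tt N11548 (iv F38036)) (tt N8949 F33575) (tt N8775 (iv D10423)) (tt N11465 (iv F37762)))
theorem Q10328 : ∀ i, i < 10328 → P i := stepQ 10327 Q10327 (allL N10327 (tt N11543 (iv F38023)) (tt N10919 (iv F35568)) (tt N8778 F33576) (tt N11549 D11646) (tt N8777 (iv D10424)) (tt N11547 (iv F38034)) (tt N8950 F33577) (tt N11536 (iv F38005)))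
theorem Q10329 : ∀ i, i < 10329 → P i := stepQ 10328 Q10328 (allL N10328 (tt N11198 (iv F36674)) (tt N10087 F33578) (tt N9628 F33579) (tt N11550 D11647) (tt N9678 F33580) (tt N8783 F33581) (tt N11551 D11648) (tt N8780 (iv D10425)))
theorem Q10330 : ∀ i, i < 10330 → P i := stepQ 10329 Q10329 (allL N10329 (tt N11511 (iv F37919)) (tt N11215 (iv F36747)) (tt N11506 (iv F37897)) (tt N8781 (iv D10426)) (tt N11552 D11649) (tt N8784 F33582) (tt N11553 D11650) (tt N11550 (iv F38041)))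
theorem Q10331 : ∀ i, i < 10331 → P i := stepQ 10330 Q10330 (allL N10330 (tt N11453 (iv F37713)) (tt N10732 (iv F34963)) (tt N8782 F33583) (tt N11553 (iv F38050)) (tt N9252 F33584) (tt N10872 (iv F35406)) (tt N8781 (iv D10427)) (tt N11451 F37707))
theorem Q10332 : ∀ i, i < 10332 → P i := stepQ 10331 Q10331 (allL N10331 (tt N11178 (iv F36591)) (tt N8786 F33585) (tt N11174 (iv F36575)) (tt N8783 (iv D10428)) (tt N11554 D11651) (tt N11550 (iv F38040)) (tt N9945 F33586) (tt N8784 F33587))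
theorem Q10333 : ∀ i, i < 10333 → P i := stepQ 10332 Q10332 (allL N10332 (tt N11514 (iv F37924)) (tt N8788 F33588) (tt N11507 (iv F37901)) (tt N9260 F33589) (tt N8784 (iv D10429)) (tt N11552 (iv F38049)) (tt N10873 (iv F35409)) (tt N11554 (iv F38054)))
theorem Q10334 : ∀ i, i < 10334 → P i := stepQ 10333 Q10333 (allL N10333 (tt N9208 F33590) (tt N9679 F33591) (tt N9210 F33592) (tt N8785 (iv D10430)) (tt N11555 D11652) (tt N9240 F33593) (tt N9899 F33594) (tt N10644 (iv F34693)))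
theorem Q10335 : ∀ i, i < 10335 → P i := stepQ 10334 Q10334 (allL N10334 (tt N10646 (iv F34698)) (tt N11554 (iv F38051)) (tt N10651 (iv F34717)) (tt N11555 (iv F38058)) (tt N8786 (iv D10431)) (tt N10097 F33595) (tt N11556 D11653) (tt N8788 F33596))
theorem Q10336 : ∀ i, i < 10336 → P i := stepQ 10335 Q10335 (allL N10335 (tt N10647 (iv F34702)) (tt N9945 F33597) (tt N10652 (iv F34722)) (tt N8787 F33598) (tt N11556 (iv F38064)) (tt N10931 (iv F35610)) (tt N8786 (iv D10432)) (tt N10894 (iv F35481)))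
theorem Q10337 : ∀ i, i < 10337 → P i := stepQ 10336 Q10336 (allL N10336 (tt N11557 D11654) (tt N8789 (iv D10433)) (tt N11486 (iv F37841)) (tt N11069 (iv F36194)) (tt N10225 F33599) (tt N8791 F33600) (tt N10221 F33601) (tt N10764 (iv F35054)))
theorem Q10338 : ∀ i, i < 10338 → P i := stepQ 10337 Q10337 (allL N10337 (tt N11558 D11655) (tt N8790 (iv D10434)) (tt N11491 (iv F37859)) (tt N11448 (iv F37687)) (tt N8791 F33602) (tt N10225 F33603) (tt N9711 F33604) (tt N11490 F37857))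
theorem Q10339 : ∀ i, i < 10339 → P i := stepQ 10338 Q10338 (allL N10338 (tt N8791 (iv D10435)) (tt N8806 F33605) (tt N11495 (iv F37874)) (tt N11427 (iv F37634)) (tt N11558 (iv F38071)) (tt N11557 (iv F38067)) (tt N11234 (iv F36823)) (tt N11494 F37872))
theorem Q10340 : ∀ i, i < 10340 → P i := stepQ 10339 Q10339 (allL N10339 (tt N9793 F33606) (tt N9849 F33607) (tt N11559 D11656) (tt N8792 (iv D10436)) (tt N11151 (iv F36501)) (tt N8812 F33608) (tt N11560 D11657) (tt N9783 F33609))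
theorem Q10341 : ∀ i, i < 10341 → P i := stepQ 10340 Q10340 (allL N10340 (tt N10680 (iv F34807)) (tt N9850 F33610) (tt N11241 (iv F36851)) (tt N11560 (iv F38082)) (tt N9524 F33611) (tt N10340 F33612) (tt N8792 (iv D10437)) (tt N8793 F33613))
theorem Q10342 : ∀ i, i < 10342 → P i := stepQ 10341 Q10341 (allL N10341 (tt N11449 (iv F37692)) (tt N10161 F33614) (tt N9670 F33615) (tt N11561 D11658) (tt N10696 (iv F34855)) (tt N8796 F33616) (tt N11562 D11659) (tt N8795 (iv D10438)))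
theorem Q10343 : ∀ i, i < 10343 → P i := stepQ 10342 Q10342 (allL N10342 (tt N11450 (iv F37698)) (tt N9148 F33617) (tt N10293 F33618) (tt N8796 (iv D10439)) (tt N11563 D11660) (tt N11561 (iv F38086)) (tt N10311 (iv F33620)) (tt N8800 F33619))
theorem Q10344 : ∀ i, i < 10344 → P i := stepQ 10343 Q10343 (allL N10343 (tt N11135 (iv F36445)) (tt N9149 F33621) (tt N9672 F33622) (tt N10311 F33623) (tt N9910 F33624) (tt N11564 D11661) (tt N8796 (iv D10440)) (tt N8797 F33625))
theorem Q10345 : ∀ i, i < 10345 → P i := stepQ 10344 Q10344 (allL N10344 (tt N11134 (iv F36440)) (tt N11565 D11662) (tt N11278 (iv F37028)) (tt N8992 F33626) (tt N11041 (iv F36073)) (tt N8797 (iv D10441)) (tt N11046 (iv F36097)) (tt N11564 (iv F38102)))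
theorem Q10346 : ∀ i, i < 10346 → P i := stepQ 10345 Q10345 (allL N10345 (tt N8798 (iv D10442)) (tt N11558 (iv F38069)) (tt N9629 F33627) (tt N10089 F33628) (tt N8806 F33629) (tt N9151 F33630) (tt N11244 (iv F36869)) (tt N11192 (iv F36649)))
theorem Q10347 : ∀ i, i < 10347 → P i := stepQ 10346 Q10346 (allL N10346 (tt N11192 (iv F36646)) (tt N8799 F33631) (tt N9825 F33632) (tt N11566 D11663) (tt N8808 F33633) (tt N9152 F33634) (tt N11567 D11664) (tt N8798 (iv D10443)))
theorem Q10348 : ∀ i, i < 10348 → P i := stepQ 10347 Q10347 (allL N10347 (tt N11499 (iv F37878)) (tt N11566 (iv F38107)) (tt N10439 (iv F33972)) (tt N8799 (iv D10444)) (tt N11568 D11665) (tt N8800 F33635) (tt N11569 D11666) (tt N11561 (iv F38087)))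
theorem Q10349 : ∀ i, i < 10349 → P i := stepQ 10348 Q10348 (allL N10348 (tt N11480 (iv F37814)) (tt N11567 (iv F38110)) (tt N8802 F33636) (tt N11569 (iv F38118)) (tt N8810 F33637) (tt N8996 F33638) (tt N8799 (iv D10445)) (tt N11246 (iv F36884)))
theorem Q10350 : ∀ i, i < 10350 → P i := stepQ 10349 Q10349 (allL N10349 (tt N11523 (iv F37958)) (tt N9155 F33639) (tt N10440 (iv F33975)) (tt N8811 F33640) (tt N8800 (iv D10446)) (tt N11568 (iv F38116)) (tt N8997 F33641) (tt N11563 (iv F38096)))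
theorem Q10351 : ∀ i, i < 10351 → P i := stepQ 10350 Q10350 (allL N10350 (tt N10073 F33642) (tt N10079 F33643) (tt N9299 F33644) (tt N8802 F33645) (tt N10829 (iv F35262)) (tt N8998 F33646) (tt N8801 (iv D10447)) (tt N9298 F33647))
theorem Q10352 : ∀ i, i < 10352 → P i := stepQ 10351 Q10351 (allL N10351 (tt N11425 (iv F37624)) (tt N11483 (iv F37830)) (tt N11503 (iv F37891)) (tt N8804 (iv D10448)) (tt N11570 D11667) (tt N8805 F33648) (tt N11501 (iv F37886)) (tt N8809 F33649))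
theorem Q10353 : ∀ i, i < 10353 → P i := stepQ 10352 Q10352 (allL N10352 (tt N11424 (iv F37619)) (tt N9160 F33650) (tt N11524 (iv F37964)) (tt N11351 (iv F37295)) (tt N8805 (iv D10449)) (tt N11570 (iv F38120)) (tt N11346 (iv F37277)) (tt N8811 F33651))
theorem Q10354 : ∀ i, i < 10354 → P i := stepQ 10353 Q10353 (allL N10353 (tt N8807 F33652) (tt N10668 (iv F34768)) (tt N8806 (iv D10450)) (tt N10666 (iv F34758)) (tt N9629 F33653) (tt N9164 F33654) (tt N11252 (iv F36911)) (tt N10982 (iv F35810)))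
theorem Q10355 : ∀ i, i < 10355 → P i := stepQ 10354 Q10354 (allL N10354 (tt N8808 F33655) (tt N11494 (iv F37871)) (tt N10982 (iv F35808)) (tt N11485 (iv F37838)) (tt N11192 (iv F36647)) (tt N9165 F33656) (tt N11571 D11668) (tt N8806 (iv D10451)))
theorem Q10356 : ∀ i, i < 10356 → P i := stepQ 10355 Q10355 (allL N10355 (tt N11485 (iv F37837)) (tt N8809 F33657) (tt N11572 D11669) (tt N8808 (iv D10452)) (tt N11573 D11670) (tt N9166 F33658) (tt N11574 D11671) (tt N11483 (iv F37834)))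
theorem Q10357 : ∀ i, i < 10357 → P i := stepQ 10356 Q10356 (allL N10356 (tt N11571 (iv F38122)) (tt N8810 F33659) (tt N10985 (iv F35817)) (tt N11574 (iv F38130)) (tt N11567 (iv F38112)) (tt N11575 D11672) (tt N8808 (iv D10453)) (tt N11256 (iv F36927)))
theorem Q10358 : ∀ i, i < 10358 → P i := stepQ 10357 Q10357 (allL N10357 (tt N11500 (iv F37881)) (tt N11573 (iv F38127)) (tt N11502 (iv F37888)) (tt N11568 (iv F38115)) (tt N8809 (iv D10454)) (tt N8811 F33660) (tt N11576 D11673) (tt N11570 (iv F38121)))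
theorem Q10359 : ∀ i, i < 10359 → P i := stepQ 10358 Q10358 (allL N10358 (tt N11482 (iv F37825)) (tt N11574 (iv F38129)) (tt N11483 (iv F37831)) (tt N8810 F33661) (tt N11576 (iv F38136)) (tt N9014 F33662) (tt N8809 (iv D10455)) (tt N11572 (iv F38126)))
theorem Q10360 : ∀ i, i < 10360 → P i := stepQ 10359 Q10359 (allL N10359 (tt N9790 F33663) (tt N8913 F33668) (tt N8812 (iv D10456)) (tt N9315 F33664) (tt N9568 F33665) (tt N11559 (iv F38078)) (tt N10359 F33666) (tt N8909 F33667))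
theorem Q10361 : ∀ i, i < 10361 → P i := stepQ 10360 Q10360 (allL N10360 (tt N10360 F33669) (tt N8813 (iv D10457)) (tt N8816 F33670) (tt N9280 F33671) (tt N8828 F33672) (tt N10360 F33673) (tt N9525 F33675) (tt N10360 F33674))
theorem Q10362 : ∀ i, i < 10362 → P i := stepQ 10361 Q10361 (allL N10361 (tt N9311 F33676) (tt N9525 F33677) (tt N8814 F33678) (tt N9281 F33679) (tt N8829 F33680) (tt N11577 D11674) (tt N8813 (iv D10458)) (tt N10581 (iv F34472)))
theorem Q10363 : ∀ i, i < 10363 → P i := stepQ 10362 Q10362 (allL N10362 (tt N10134 F33681) (tt N11416 (iv F37580)) (tt N11577 (iv F38140)) (tt N8815 F33682) (tt N8830 F33683) (tt N8814 (iv D10459)) (tt N10478 (iv F34098)) (tt N10996 (iv F35858)))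
theorem Q10364 : ∀ i, i < 10364 → P i := stepQ 10363 Q10363 (allL N10363 (tt N10111 F33684) (tt N10905 (iv F35520)) (tt N11578 D11675) (tt N8817 (iv D10460)) (tt N11579 D11676) (tt N10036 F33685) (tt N10874 (iv F35411)) (tt N10523 (iv F34258)))
theorem Q10365 : ∀ i, i < 10365 → P i := stepQ 10364 Q10364 (allL N10364 (tt N10364 F33686) (tt N8818 (iv D10461)) (tt N10364 F33687) (tt N8828 F33688) (tt N10400 (iv F33839)) (tt N10364 F33689) (tt N10998 (iv F35866)) (tt N10399 F33834))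
theorem Q10366 : ∀ i, i < 10366 → P i := stepQ 10365 Q10365 (allL N10365 (tt N10115 F33690) (tt N10998 (iv F35862)) (tt N8819 F33691) (tt N8829 F33692) (tt N10401 (iv F33844)) (tt N11580 D11677) (tt N8818 (iv D10462)) (tt N9860 F33693))
theorem Q10367 : ∀ i, i < 10367 → P i := stepQ 10366 Q10366 (allL N10366 (tt N10117 F33694) (tt N11581 D11678) (tt N11580 (iv F38152)) (tt N8820 F33695) (tt N10403 (iv F33851)) (tt N8819 (iv D10463)) (tt N10864 (iv F35380)) (tt N9858 F33696))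
theorem Q10368 : ∀ i, i < 10368 → P i := stepQ 10367 Q10367 (allL N10367 (tt N9557 (iv F33702)) (tt N8820 (iv D10464)) (tt N9560 F33697) (tt N11581 (iv F38156)) (tt N8822 F33698) (tt N10367 F33699) (tt N9555 F33700) (tt N9854 F33701))
theorem Q10369 : ∀ i, i < 10369 → P i := stepQ 10368 Q10368 (allL N10368 (tt N10120 F33703) (tt N10907 (iv F35529)) (tt N11067 (iv F36185)) (tt N11579 (iv F38149)) (tt N8821 (iv D10465)) (tt N10041 F33704) (tt N10876 (iv F35415)) (tt N11263 (iv F36966)))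
theorem Q10370 : ∀ i, i < 10370 → P i := stepQ 10369 Q10369 (allL N10369 (tt N8822 (iv D10466)) (tt N10127 F33705) (tt N9563 (iv F33710)) (tt N10811 (iv F35203)) (tt N9557 F33706) (tt N10369 F33707) (tt N9556 F33708) (tt N10050 F33709))
theorem Q10371 : ∀ i, i < 10371 → P i := stepQ 10370 Q10370 (allL N10370 (tt N9563 F33711) (tt N8834 F33712) (tt N8822 (iv D10467)) (tt N11582 D11679) (tt N9560 F33713) (tt N10370 F33714) (tt N9559 F33715) (tt N10051 F33716))
theorem Q10372 : ∀ i, i < 10372 → P i := stepQ 10371 Q10371 (allL N10371 (tt N10128 F33717) (tt N11340 (iv F37246)) (tt N8823 (iv D10468)) (tt N11578 (iv F38146)) (tt N9030 F33718) (tt N10052 F33719) (tt N11188 F36634) (tt N10371 F33720))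
theorem Q10373 : ∀ i, i < 10373 → P i := stepQ 10372 Q10372 (allL N10372 (tt N10129 F33721) (tt N9038 F33722) (tt N11188 (iv F36632)) (tt N8824 F33723) (tt N9031 F33724) (tt N11583 D11680) (tt N8823 (iv D10469)) (tt N11186 (iv F36624)))
theorem Q10374 : ∀ i, i < 10374 → P i := stepQ 10373 Q10373 (allL N10373 (tt N10130 F33725) (tt N9521 F33726) (tt N10269 F33727) (tt N11583 (iv F38168)) (tt N8832 F33728) (tt N8824 (iv D10470)) (tt N10054 F33729) (tt N8827 F33730))
theorem Q10375 : ∀ i, i < 10375 → P i := stepQ 10374 Q10374 (allL N10374 (tt N9313 F33731) (tt N10374 F33732) (tt N8826 F33733) (tt N10861 (iv F35365)) (tt N9282 F33734) (tt N11584 D11681) (tt N8825 (iv D10471)) (tt N11585 D11682))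
theorem Q10376 : ∀ i, i < 10376 → P i := stepQ 10375 Q10375 (allL N10375 (tt N10131 F33735) (tt N11421 (iv F37608)) (tt N11584 (iv F38172)) (tt N8827 F33736) (tt N10478 (iv F34096)) (tt N8826 (iv D10472)) (tt N8830 F33737) (tt N11586 D11683))
theorem Q10377 : ∀ i, i < 10377 → P i := stepQ 10376 Q10376 (allL N10376 (tt N10132 F33738) (tt N9174 F33739) (tt N11585 (iv F38177)) (tt N11186 (iv F36622)) (tt N10479 (iv F34102)) (tt N11586 (iv F38181)) (tt N10376 F33740) (tt N8826 (iv D10473)))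
theorem Q10378 : ∀ i, i < 10378 → P i := stepQ 10377 Q10377 (allL N10377 (tt N10133 F33741) (tt N11587 D11684) (tt N8830 F33742) (tt N11580 (iv F38153)) (tt N11577 (iv F38142)) (tt N8829 (iv D10474)) (tt N11584 (iv F38174)) (tt N10995 (iv F35854)))
theorem Q10379 : ∀ i, i < 10379 → P i := stepQ 10378 Q10378 (allL N10378 (tt N11418 (iv F37590)) (tt N8830 (iv D10475)) (tt N11422 (iv F37611)) (tt N8831 F33743) (tt N11416 (iv F37582)) (tt N8835 F33744) (tt N11421 (iv F37609)) (tt N10859 (iv F35356)))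
theorem Q10380 : ∀ i, i < 10380 → P i := stepQ 10379 Q10379 (allL N10379 (tt N10056 (iv F33750)) (tt N8832 (iv D10476)) (tt N9522 F33745) (tt N11072 (iv F36205)) (tt N9521 F33746) (tt N9176 F33747) (tt N10057 F33748) (tt N8833 F33749))
theorem Q10381 : ∀ i, i < 10381 → P i := stepQ 10380 Q10380 (allL N10380 (tt N11421 (iv F37605)) (tt N11582 (iv F38162)) (tt N11122 (iv F36393)) (tt N8834 (iv D10477)) (tt N11419 (iv F37598)) (tt N8837 F33751) (tt N11418 F37594) (tt N11119 (iv F36384)))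
theorem Q10382 : ∀ i, i < 10382 → P i := stepQ 10381 Q10381 (allL N10381 (tt N10481 (iv F34107)) (tt N9544 F33752) (tt N8835 (iv D10478)) (tt N8884 F33753) (tt N9543 F33754) (tt N11422 (iv F37614)) (tt N8883 F33755) (tt N10858 (iv F35353)))
theorem Q10383 : ∀ i, i < 10383 → P i := stepQ 10382 Q10382 (allL N10382 (tt N10494 (iv F34156)) (tt N10382 F33756) (tt N10383 (iv F33764)) (tt N8877 F33757) (tt N8837 (iv D10479)) (tt N11419 (iv F37599)) (tt N8876 F33758) (tt N9512 F33759))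
theorem Q10384 : ∀ i, i < 10384 → P i := stepQ 10383 Q10383 (allL N10383 (tt N10022 (iv F33765)) (tt N8839 (iv D10480)) (tt N10382 F33764) (tt N8841 F33760) (tt N9693 F33761) (tt N11392 (iv F37469)) (tt N9997 F33762) (tt N9691 F33763))
theorem Q10385 : ∀ i, i < 10385 → P i := stepQ 10384 Q10384 (allL N10384 (tt N8841 (iv D10481)) (tt N10384 F33766) (tt N8971 F33767) (tt N10022 F33768) (tt N8844 F33769) (tt N11019 (iv F35958)) (tt N10021 F33770) (tt N8887 F33771))
theorem Q10386 : ∀ i, i < 10386 → P i := stepQ 10385 Q10385 (allL N10385 (tt N10887 (iv F35448)) (tt N10385 F33772) (tt N9941 F33773) (tt N10385 F33774) (tt N8845 (iv D10482)) (tt N10991 (iv F35839)) (tt N9940 F33775) (tt N8853 F33776))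
theorem Q10387 : ∀ i, i < 10387 → P i := stepQ 10386 Q10386 (allL N10386 (tt N8850 F33777) (tt N9820 F33778) (tt N11588 D11685) (tt N8847 (iv D10483)) (tt N11221 (iv F36775)) (tt N8848 F33779) (tt N9821 F33780) (tt N10019 F33781))
theorem Q10388 : ∀ i, i < 10388 → P i := stepQ 10387 Q10387 (allL N10387 (tt N8852 F33782) (tt N10483 (iv F34117)) (tt N8848 (iv D10484)) (tt N11307 (iv F37136)) (tt N11589 D11686) (tt N11588 (iv F38188)) (tt N10467 (iv F34053)) (tt N9934 F33783))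
theorem Q10389 : ∀ i, i < 10389 → P i := stepQ 10388 Q10388 (allL N10388 (tt N8853 F33784) (tt N10395 F33810) (tt N11589 (iv F38193)) (tt N10397 (iv F33818)) (tt N8848 (iv D10485)) (tt N11221 (iv F36776)) (tt N10886 F35447) (tt N10887 (iv F35453)))
theorem Q10390 : ∀ i, i < 10390 → P i := stepQ 10389 Q10389 (allL N10389 (tt N10419 (iv F33905)) (tt N10928 (iv F35595)) (tt N8849 (iv D10486)) (tt N11309 (iv F37139)) (tt N10660 (iv F34742)) (tt N9468 F33785) (tt N11185 (iv F36618)) (tt N10389 F33786))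
theorem Q10391 : ∀ i, i < 10391 → P i := stepQ 10390 Q10390 (allL N10390 (tt N10397 F33822) (tt N10390 F33787) (tt N10660 (iv F34741)) (tt N8853 F33788) (tt N8849 (iv D10487)) (tt N9469 F33789) (tt N11408 (iv F37549)) (tt N10390 F33790))
theorem Q10392 : ∀ i, i < 10392 → P i := stepQ 10391 Q10391 (allL N10391 (tt N11588 (iv F38187)) (tt N10974 (iv F35768)) (tt N8850 (iv D10488)) (tt N11311 (iv F37146)) (tt N11590 D11687) (tt N8852 F33791) (tt N11334 (iv F37223)) (tt N9942 F33792))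
theorem Q10393 : ∀ i, i < 10393 → P i := stepQ 10392 Q10392 (allL N10392 (tt N11221 (iv F36773)) (tt N9479 F33793) (tt N11590 (iv F38197)) (tt N9469 F33794) (tt N8850 (iv D10489)) (tt N8853 F33795) (tt N9485 (iv F33796)) (tt N10991 (iv F35840)))
theorem Q10394 : ∀ i, i < 10394 → P i := stepQ 10393 Q10393 (allL N10393 (tt N9821 F33797) (tt N9487 F33798) (tt N11334 (iv F37221)) (tt N8851 F33799) (tt N9485 F33800) (tt N11412 (iv F37570)) (tt N8850 (iv D10490)) (tt N9831 F33801))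
theorem Q10395 : ∀ i, i < 10395 → P i := stepQ 10394 Q10394 (allL N10394 (tt N11589 (iv F38191)) (tt N10889 (iv F35459)) (tt N8853 F33802) (tt N11591 D11688) (tt N8852 (iv D10491)) (tt N11590 (iv F38198)) (tt N10865 (iv F35384)) (tt N9941 F33803))
theorem Q10396 : ∀ i, i < 10396 → P i := stepQ 10395 Q10395 (allL N10395 (tt N10395 F33804) (tt N10388 (iv F33810)) (tt N8912 F33805) (tt N8855 F33806) (tt N9401 F33807) (tt N8854 (iv D10492)) (tt N9400 F33808) (tt N9402 F33809))
theorem Q10397 : ∀ i, i < 10397 → P i := stepQ 10396 Q10396 (allL N10396 (tt N10396 F33811) (tt N9170 F33812) (tt N8913 F33813) (tt N10396 F33814) (tt N9403 F33815) (tt N9402 F33816) (tt N10396 F33817) (tt N8854 (iv D10493)))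
theorem Q10398 : ∀ i, i < 10398 → P i := stepQ 10397 Q10397 (allL N10397 (tt N10390 (iv F33822)) (tt N8855 (iv D10494)) (tt N10903 (iv F35511)) (tt N10388 F33818) (tt N8904 F33819) (tt N9826 F33820) (tt N11286 (iv F37063)) (tt N10397 F33821))
theorem Q10399 : ∀ i, i < 10399 → P i := stepQ 10398 Q10398 (allL N10398 (tt N8883 F33823) (tt N9996 F33824) (tt N8879 F33825) (tt N8863 (iv D10495)) (tt N8878 (iv F33827)) (tt N8864 F33826) (tt N10481 (iv F34111)) (tt N10406 (iv F33873)))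
theorem Q10400 : ∀ i, i < 10400 → P i := stepQ 10399 Q10399 (allL N10399 (tt N10399 F33828) (tt N8866 F33829) (tt N10399 F33830) (tt N10399 F33831) (tt N8865 (iv D10496)) (tt N10399 F33832) (tt N9505 F33833) (tt N10364 (iv F33834)))
theorem Q10401 : ∀ i, i < 10401 → P i := stepQ 10400 Q10400 (allL N10400 (tt N10400 F33835) (tt N8868 F33836) (tt N10400 F33837) (tt N9279 F33838) (tt N10364 F33839) (tt N10400 F33840) (tt N10584 (iv F34484)) (tt N8865 (iv D10497)))
theorem Q10402 : ∀ i, i < 10402 → P i := stepQ 10401 Q10401 (allL N10401 (tt N9304 F33841) (tt N10584 (iv F34481)) (tt N8872 F33842) (tt N9284 F33843) (tt N10365 F33844) (tt N11592 D11689) (tt N8868 (iv D10498)) (tt N11261 (iv F36957)))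
theorem Q10403 : ∀ i, i < 10403 → P i := stepQ 10402 Q10402 (allL N10402 (tt N10032 F33845) (tt N8871 (iv D10499)) (tt N9508 F33846) (tt N8873 F33847) (tt N11034 (iv F36029)) (tt N10402 F33848) (tt N11320 (iv F37179)) (tt N9977 F33849))
theorem Q10404 : ∀ i, i < 10404 → P i := stepQ 10403 Q10403 (allL N10403 (tt N11391 (iv F37460)) (tt N11593 D11690) (tt N11592 (iv F38204)) (tt N9290 F33850) (tt N10366 F33851) (tt N8872 (iv D10500)) (tt N9347 F33852) (tt N11258 (iv F36938)))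
theorem Q10405 : ∀ i, i < 10405 → P i := stepQ 10404 Q10404 (allL N10404 (tt N10003 F33853) (tt N9553 F33854) (tt N9963 F33855) (tt N8874 (iv D10501)) (tt N9552 F33856) (tt N8875 F33857) (tt N9550 F33858) (tt N9974 F33859))
theorem Q10406 : ∀ i, i < 10406 → P i := stepQ 10405 Q10405 (allL N10405 (tt N9552 F33860) (tt N9586 F33866) (tt N8875 (iv D10502)) (tt N8878 F33861) (tt N10003 F33862) (tt N9963 F33863) (tt N9549 F33864) (tt N9973 F33865))
theorem Q10407 : ∀ i, i < 10407 → P i := stepQ 10406 Q10406 (allL N10406 (tt N9583 F33867) (tt N8878 (iv D10503)) (tt N8880 F33868) (tt N9586 F33869) (tt N9996 F33870) (tt N9682 F33871) (tt N9582 F33872) (tt N10398 F33873))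
theorem Q10408 : ∀ i, i < 10408 → P i := stepQ 10407 Q10407 (allL N10407 (tt N8886 (iv D10504)) (tt N10407 F33874) (tt N11594 D11691) (tt N8887 F33875) (tt N9607 F33876) (tt N11234 (iv F36822)) (tt N9846 F33877) (tt N9605 F33878))
theorem Q10409 : ∀ i, i < 10409 → P i := stepQ 10408 Q10408 (allL N10408 (tt N11594 (iv F38214)) (tt N9920 F33879) (tt N8886 (iv D10505)) (tt N11595 D11692) (tt N9708 F33880) (tt N11235 (iv F36827)) (tt N10216 F33881) (tt N9706 F33882))
theorem Q10410 : ∀ i, i < 10410 → P i := stepQ 10409 Q10409 (allL N10409 (tt N8888 F33883) (tt N8972 (iv F33886)) (tt N8887 (iv D10506)) (tt N11596 D11693) (tt N8902 F33884) (tt N11396 (iv F37490)) (tt N11284 (iv F37056)) (tt N8971 F33885))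
theorem Q10411 : ∀ i, i < 10411 → P i := stepQ 10410 Q10410 (allL N10410 (tt N11596 (iv F38222)) (tt N8906 F33887) (tt N11595 (iv F38220)) (tt N8888 (iv D10507)) (tt N11597 D11694) (tt N11429 (iv F37645)) (tt N11285 (iv F37060)) (tt N11598 D11695))
theorem Q10412 : ∀ i, i < 10412 → P i := stepQ 10411 Q10411 (allL N10411 (tt N8889 (iv D10508)) (tt N11156 (iv F36518)) (tt N11133 (iv F36439)) (tt N10804 F35181) (tt N11070 (iv F36198)) (tt N8891 F33888) (tt N11436 (iv F37657)) (tt N11123 (iv F36400)))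
theorem Q10413 : ∀ i, i < 10413 → P i := stepQ 10412 Q10412 (allL N10412 (tt N11133 (iv F36436)) (tt N9185 F33889) (tt N8889 (iv D10509)) (tt N11599 D11696) (tt N11071 (iv F36202)) (tt N8892 F33890) (tt N11437 (iv F37660)) (tt N11124 (iv F36407)))
theorem Q10414 : ∀ i, i < 10414 → P i := stepQ 10413 Q10413 (allL N10413 (tt N8892 F33891) (tt N10968 (iv F35746)) (tt N8891 (iv D10510)) (tt N10807 (iv F35188)) (tt N11284 (iv F37055)) (tt N11133 (iv F36437)) (tt N8902 F33892) (tt N11129 (iv F36428)))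
theorem Q10415 : ∀ i, i < 10415 → P i := stepQ 10414 Q10414 (allL N10414 (tt N10807 (iv F35187)) (tt N8908 F33893) (tt N10449 (iv F34002)) (tt N8892 (iv D10511)) (tt N11600 D11697) (tt N11599 (iv F38232)) (tt N8903 F33894) (tt N10512 (iv F34230)))
theorem Q10416 : ∀ i, i < 10416 → P i := stepQ 10415 Q10415 (allL N10415 (tt N9131 F33895) (tt N10314 F33896) (tt N8903 F33897) (tt N8900 (iv D10512)) (tt N11601 D11698) (tt N11465 (iv F37761)) (tt N10449 (iv F34003)) (tt N8949 F33898))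
theorem Q10417 : ∀ i, i < 10417 → P i := stepQ 10416 Q10416 (allL N10416 (tt N8903 F33899) (tt N10961 (iv F35719)) (tt N9131 F33900) (tt N8902 (iv D10513)) (tt N11602 D11699) (tt N11466 (iv F37765)) (tt N10807 (iv F35189)) (tt N11603 D11700))
theorem Q10418 : ∀ i, i < 10418 → P i := stepQ 10417 Q10417 (allL N10417 (tt N11602 (iv F38241)) (tt N8916 F33901) (tt N11601 (iv F38238)) (tt N11597 (iv F38226)) (tt N8903 (iv D10514)) (tt N11467 (iv F37767)) (tt N11600 (iv F38235)) (tt N11604 D11701))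
theorem Q10419 : ∀ i, i < 10419 → P i := stepQ 10418 Q10418 (allL N10418 (tt N11603 (iv F38243)) (tt N8917 F33902) (tt N8949 F33903) (tt N10505 (iv F34200)) (tt N11604 (iv F38249)) (tt N11468 (iv F37770)) (tt N8947 (iv F33904)) (tt N8903 (iv D10515)))
theorem Q10420 : ∀ i, i < 10420 → P i := stepQ 10419 Q10419 (allL N10419 (tt N10389 F33905) (tt N8905 F33906) (tt N8904 (iv D10516)) (tt N11605 D11702) (tt N10903 (iv F35512)) (tt N10973 (iv F35764)) (tt N11287 (iv F37066)) (tt N10419 F33907))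
theorem Q10421 : ∀ i, i < 10421 → P i := stepQ 10420 Q10420 (allL N10420 (tt N10937 (iv F35633)) (tt N11605 (iv F38252)) (tt N8906 F33908) (tt N8905 (iv D10517)) (tt N11606 D11703) (tt N8920 F33909) (tt N11288 (iv F37071)) (tt N11607 D11704))
theorem Q10422 : ∀ i, i < 10422 → P i := stepQ 10421 Q10421 (allL N10421 (tt N10964 (iv F35730)) (tt N11597 (iv F38225)) (tt N11606 (iv F38254)) (tt N8916 F33910) (tt N8906 (iv D10518)) (tt N8921 F33911) (tt N11289 (iv F37074)) (tt N11608 D11705))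
theorem Q10423 : ∀ i, i < 10423 → P i := stepQ 10422 Q10422 (allL N10422 (tt N9010 F33912) (tt N11598 (iv F38228)) (tt N11607 (iv F38257)) (tt N9009 F33913) (tt N11608 (iv F38261)) (tt N8922 F33914) (tt N11609 D11706) (tt N8906 (iv D10519)))
theorem Q10424 : ∀ i, i < 10424 → P i := stepQ 10423 Q10423 (allL N10423 (tt N10965 (iv F35735)) (tt N11600 (iv F38234)) (tt N10910 (iv F35539)) (tt N11289 (iv F37072)) (tt N8908 (iv D10520)) (tt N9217 F33915) (tt N8916 F33916) (tt N11610 D11707))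
theorem Q10425 : ∀ i, i < 10425 → P i := stepQ 10424 Q10424 (allL N10424 (tt N10966 (iv F35739)) (tt N10512 (iv F34227)) (tt N10823 (iv F35242)) (tt N10510 (iv F34219)) (tt N11610 (iv F38266)) (tt N9218 F33917) (tt N10509 F34215) (tt N8908 (iv D10521)))
theorem Q10426 : ∀ i, i < 10426 → P i := stepQ 10425 Q10425 (allL N10425 (tt N9789 F33918) (tt N11611 D11708) (tt N9783 F33919) (tt N8910 F33920) (tt N11402 (iv F37516)) (tt N8909 (iv D10522)) (tt N11400 (iv F37504)) (tt N11559 (iv F38079)))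
theorem Q10427 : ∀ i, i < 10427 → P i := stepQ 10426 Q10426 (allL N10426 (tt N10860 (iv F35357)) (tt N8910 (iv D10523)) (tt N10870 (iv F35400)) (tt N11611 (iv F38269)) (tt N8911 F33921) (tt N8914 F33922) (tt N10857 (iv F35348)) (tt N9316 F33923))
theorem Q10428 : ∀ i, i < 10428 → P i := stepQ 10427 Q10427 (allL N10427 (tt N9802 (iv F33928)) (tt N8912 (iv D10524)) (tt N11117 (iv F36372)) (tt N8914 F33924) (tt N9532 F33925) (tt N11611 (iv F38271)) (tt N9531 F33926) (tt N9534 F33927))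
theorem Q10429 : ∀ i, i < 10429 → P i := stepQ 10428 Q10428 (allL N10428 (tt N8914 (iv D10525)) (tt N10428 F33929) (tt N10896 (iv F35487)) (tt N9802 F33930) (tt N8915 F33931) (tt N10860 (iv F35360)) (tt N9431 F33932) (tt N9335 F33933))
theorem Q10430 : ∀ i, i < 10430 → P i := stepQ 10429 Q10429 (allL N10429 (tt N10949 (iv F35681)) (tt N11604 (iv F38247)) (tt N10906 (iv F35524)) (tt N11612 D11709) (tt N8917 F33934) (tt N8927 F33935) (tt N11613 D11710) (tt N8916 (iv D10526)))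
theorem Q10431 : ∀ i, i < 10431 → P i := stepQ 10430 Q10430 (allL N10430 (tt N10744 (iv F35002)) (tt N8947 F33936) (tt N10541 (iv F34317)) (tt N9575 F33937) (tt N11613 (iv F38280)) (tt N9578 F33938) (tt N8917 (iv D10527)) (tt N10509 (iv F34214)))
theorem Q10432 : ∀ i, i < 10432 → P i := stepQ 10431 Q10431 (allL N10431 (tt N9810 F33939) (tt N10973 (iv F35762)) (tt N8918 (iv D10528)) (tt N10616 (iv F34607)) (tt N9827 F33940) (tt N8919 F33941) (tt N9808 F33942) (tt N10431 F33943))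
theorem Q10433 : ∀ i, i < 10433 → P i := stepQ 10432 Q10432 (allL N10432 (tt N10619 (iv F34616)) (tt N8920 F33944) (tt N9127 F33945) (tt N8919 (iv D10529)) (tt N11614 D11711) (tt N10616 (iv F34608)) (tt N9238 F33946) (tt N9129 F33947))
theorem Q10434 : ∀ i, i < 10434 → P i := stepQ 10433 Q10433 (allL N10433 (tt N10934 (iv F35618)) (tt N11614 (iv F38282)) (tt N8921 F33948) (tt N10902 (iv F35507)) (tt N8920 (iv D10530)) (tt N11606 (iv F38255)) (tt N9241 F33949) (tt N11615 D11712))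
theorem Q10435 : ∀ i, i < 10435 → P i := stepQ 10434 Q10434 (allL N10434 (tt N9448 F33950) (tt N9129 F33951) (tt N8922 F33952) (tt N10434 F33953) (tt N11615 (iv F38290)) (tt N11607 (iv F38259)) (tt N9323 (iv F33954)) (tt N8920 (iv D10531)))
theorem Q10436 : ∀ i, i < 10436 → P i := stepQ 10435 Q10435 (allL N10435 (tt N9449 F33955) (tt N11519 (iv F37944)) (tt N11615 (iv F38289)) (tt N11616 D11713) (tt N8922 F33956) (tt N11608 (iv F38262)) (tt N11617 D11714) (tt N8921 (iv D10532)))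
theorem Q10437 : ∀ i, i < 10437 → P i := stepQ 10436 Q10436 (allL N10436 (tt N9450 F33957) (tt N8945 F33958) (tt N9323 F33959) (tt N9447 F33960) (tt N11617 (iv F38298)) (tt N10929 (iv F35603)) (tt N8922 (iv D10533)) (tt N9248 F33961))
theorem Q10438 : ∀ i, i < 10438 → P i := stepQ 10437 Q10437 (allL N10437 (tt N10235 F33962) (tt N10806 (iv F35183)) (tt N10234 F33963) (tt N11618 D11715) (tt N8925 F33964) (tt N8924 F33965) (tt N9320 F33966) (tt N8923 (iv D10534)))
theorem Q10439 : ∀ i, i < 10439 → P i := stepQ 10438 Q10438 (allL N10438 (tt N10288 F33967) (tt N8949 F33968) (tt N10289 F33969) (tt N8924 (iv D10535)) (tt N11619 D11716) (tt N11618 (iv F38302)) (tt N8931 F33970) (tt N10314 F33971))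
theorem Q10440 : ∀ i, i < 10440 → P i := stepQ 10439 Q10439 (allL N10439 (tt N11369 (iv F37373)) (tt N10819 (iv F35231)) (tt N10347 F33972) (tt N8925 (iv D10536)) (tt N11620 D11717) (tt N8926 F33973) (tt N10816 (iv F35228)) (tt N11520 (iv F37949)))
theorem Q10441 : ∀ i, i < 10441 → P i := stepQ 10440 Q10440 (allL N10440 (tt N11376 (iv F37406)) (tt N9256 F33974) (tt N10349 F33975) (tt N11619 (iv F38308)) (tt N8926 (iv D10537)) (tt N11620 (iv F38312)) (tt N8933 F33976) (tt N11522 (iv F37957)))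
theorem Q10442 : ∀ i, i < 10442 → P i := stepQ 10441 Q10441 (allL N10441 (tt N10952 (iv F35692)) (tt N11525 (iv F37966)) (tt N11621 D11718) (tt N8927 (iv D10538)) (tt N11012 (iv F35925)) (tt N11612 (iv F38275)) (tt N11622 D11719) (tt N11616 (iv F38294)))
theorem Q10443 : ∀ i, i < 10443 → P i := stepQ 10442 Q10442 (allL N10442 (tt N10953 (iv F35696)) (tt N11423 (iv F37615)) (tt N10907 (iv F35530)) (tt N11622 (iv F38318)) (tt N8928 F33977) (tt N11623 D11720) (tt N8927 (iv D10539)) (tt N9272 F33978))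
theorem Q10444 : ∀ i, i < 10444 → P i := stepQ 10443 Q10443 (allL N10443 (tt N10954 (iv F35700)) (tt N10917 (iv F35560)) (tt N10908 (iv F35534)) (tt N9579 F33979) (tt N11623 (iv F38323)) (tt N8928 (iv D10540)) (tt N9578 F33980) (tt N9273 F33981))
theorem Q10445 : ∀ i, i < 10445 → P i := stepQ 10444 Q10444 (allL N10444 (tt N8932 F33982) (tt N10801 (iv F35161)) (tt N10486 (iv F34129)) (tt N8929 (iv D10541)) (tt N11624 D11721) (tt N8930 F33983) (tt N10799 (iv F35154)) (tt N8941 F33984))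
theorem Q10446 : ∀ i, i < 10446 → P i := stepQ 10445 Q10445 (allL N10445 (tt N8933 F33985) (tt N11378 (iv F37414)) (tt N10488 (iv F34138)) (tt N10603 (iv F34563)) (tt N8930 (iv D10542)) (tt N11624 (iv F38328)) (tt N11376 (iv F37408)) (tt N8944 F33986))
theorem Q10447 : ∀ i, i < 10447 → P i := stepQ 10446 Q10446 (allL N10446 (tt N10603 (iv F34561)) (tt N8948 F33987) (tt N10536 (iv F34294)) (tt N8933 F33988) (tt N8931 (iv D10543)) (tt N9318 F33989) (tt N11619 (iv F38309)) (tt N9322 F33990))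
theorem Q10448 : ∀ i, i < 10448 → P i := stepQ 10447 Q10447 (allL N10447 (tt N11624 (iv F38326)) (tt N9322 F33991) (tt N10511 (iv F34223)) (tt N9318 F33992) (tt N8932 (iv D10544)) (tt N8933 F33993) (tt N10822 (iv F35240)) (tt N8948 F33994))
theorem Q10449 : ∀ i, i < 10449 → P i := stepQ 10448 Q10448 (allL N10448 (tt N9292 F33995) (tt N9274 F33996) (tt N10172 F33997) (tt N11625 D11722) (tt N8938 F33998) (tt N8935 F33999) (tt N11626 D11723) (tt N8934 (iv D10545)))
theorem Q10450 : ∀ i, i < 10450 → P i := stepQ 10449 Q10449 (allL N10449 (tt N9293 F34000) (tt N8936 F34001) (tt N10414 F34002) (tt N8935 (iv D10546)) (tt N11627 D11724) (tt N11625 (iv F38333)) (tt N10415 F34003) (tt N9305 F34004))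
theorem Q10451 : ∀ i, i < 10451 → P i := stepQ 10450 Q10450 (allL N10450 (tt N8945 F34005) (tt N9397 F34006) (tt N8936 (iv D10547)) (tt N9395 F34007) (tt N11628 D11725) (tt N9276 F34008) (tt N9394 F34009) (tt N9306 F34010))
theorem Q10452 : ∀ i, i < 10452 → P i := stepQ 10451 Q10451 (allL N10451 (tt N8946 F34011) (tt N11627 (iv F38342)) (tt N11628 (iv F38349)) (tt N8944 F34012) (tt N8936 (iv D10548)) (tt N9277 F34013) (tt N11538 (iv F38013)) (tt N9307 F34014))
theorem Q10453 : ∀ i, i < 10453 → P i := stepQ 10452 Q10452 (allL N10452 (tt N10600 (iv F34547)) (tt N8938 F34015) (tt N10169 F34016) (tt N11629 D11726) (tt N9274 F34017) (tt N8940 F34018) (tt N9108 F34019) (tt N8937 (iv D10549)))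
theorem Q10454 : ∀ i, i < 10454 → P i := stepQ 10453 Q10453 (allL N10453 (tt N9300 F34020) (tt N11629 (iv F38353)) (tt N11462 (iv F37750)) (tt N8938 (iv D10550)) (tt N11630 D11727) (tt N8939 F34021) (tt N11631 D11728) (tt N11377 (iv F37412)))
theorem Q10455 : ∀ i, i < 10455 → P i := stepQ 10454 Q10454 (allL N10454 (tt N9301 F34022) (tt N9108 F34023) (tt N11216 (iv F36752)) (tt N11631 (iv F38360)) (tt N11626 (iv F38338)) (tt N10757 (iv F35038)) (tt N8938 (iv D10551)) (tt N8959 F34024))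
theorem Q10456 : ∀ i, i < 10456 → P i := stepQ 10455 Q10455 (allL N10455 (tt N9303 F34025) (tt N8944 F34026) (tt N11464 (iv F37757)) (tt N11627 (iv F38344)) (tt N8939 (iv D10552)) (tt N11630 (iv F38357)) (tt N11540 (iv F38018)) (tt N11378 (iv F37417)))
theorem Q10457 : ∀ i, i < 10457 → P i := stepQ 10456 Q10456 (allL N10456 (tt N10602 (iv F34556)) (tt N8941 F34027) (tt N10735 (iv F34973)) (tt N8940 (iv D10553)) (tt N11632 D11729) (tt N11629 (iv F38354)) (tt N9116 F34028) (tt N10801 (iv F35164)))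
theorem Q10458 : ∀ i, i < 10458 → P i := stepQ 10457 Q10457 (allL N10457 (tt N8947 F34029) (tt N11633 D11730) (tt N8941 (iv D10554)) (tt N10482 F34115) (tt N11634 D11731) (tt N8943 F34030) (tt N11603 F38246) (tt N10486 (iv F34131)))
theorem Q10459 : ∀ i, i < 10459 → P i := stepQ 10458 Q10458 (allL N10458 (tt N8948 F34031) (tt N11632 (iv F38362)) (tt N11634 (iv F38366)) (tt N9277 F34032) (tt N8941 (iv D10555)) (tt N8944 F34033) (tt N11635 D11732) (tt N11624 (iv F38329)))
theorem Q10460 : ∀ i, i < 10460 → P i := stepQ 10459 Q10459 (allL N10459 (tt N8949 F34034) (tt N9116 F34035) (tt N11603 (iv F38244)) (tt N8942 F34036) (tt N11635 (iv F38371)) (tt N11532 (iv F37995)) (tt N8941 (iv D10556)) (tt N9131 (iv F34037)))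
theorem Q10461 : ∀ i, i < 10461 → P i := stepQ 10460 Q10460 (allL N10460 (tt N10868 (iv F35389)) (tt N8943 (iv D10557)) (tt N11089 (iv F36276)) (tt N10467 F34054) (tt N11636 D11733) (tt N11637 D11734) (tt N11307 (iv F37137)) (tt N10470 (iv F34068)))
theorem Q10462 : ∀ i, i < 10462 → P i := stepQ 10461 Q10461 (allL N10461 (tt N8950 F34038) (tt N11636 (iv F38373)) (tt N8944 F34039) (tt N11638 D11735) (tt N8943 (iv D10558)) (tt N11634 (iv F38367)) (tt N11543 (iv F38025)) (tt N10488 (iv F34140)))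
theorem Q10463 : ∀ i, i < 10463 → P i := stepQ 10462 Q10462 (allL N10462 (tt N11628 (iv F38347)) (tt N11617 (iv F38296)) (tt N8946 F34040) (tt N11639 D11736) (tt N8945 (iv D10559)) (tt N9278 F34041) (tt N11519 (iv F37947)) (tt N9325 F34042))
theorem Q10464 : ∀ i, i < 10464 → P i := stepQ 10463 Q10463 (allL N10463 (tt N11634 (iv F38365)) (tt N11613 (iv F38278)) (tt N8948 F34043) (tt N11640 D11737) (tt N8947 (iv D10560)) (tt N8950 F34044) (tt N11604 F38250) (tt N10511 (iv F34226)))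
theorem Q10465 : ∀ i, i < 10465 → P i := stepQ 10464 Q10464 (allL N10464 (tt N11635 (iv F38368)) (tt N11619 (iv F38306)) (tt N11604 (iv F38248)) (tt N9256 F34045) (tt N8949 F34046) (tt N11548 (iv F38037)) (tt N8948 (iv D10561)) (tt N11601 (iv F38240)))
theorem Q10466 : ∀ i, i < 10466 → P i := stepQ 10465 Q10465 (allL N10465 (tt N11638 (iv F38374)) (tt N10912 (iv F35546)) (tt N11639 (iv F38375)) (tt N8950 (iv D10562)) (tt N10502 (iv F34191)) (tt N11640 (iv F38380)) (tt N11549 (iv F38038)) (tt N10514 (iv F34234)))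
theorem Q10467 : ∀ i, i < 10467 → P i := stepQ 10466 Q10466 (allL N10466 (tt N9347 F34047) (tt N11641 D11738) (tt N9364 F34048) (tt N8952 F34049) (tt N11388 (iv F37449)) (tt N8951 (iv D10563)) (tt N11391 (iv F37465)) (tt N11642 D11739))
theorem Q10468 : ∀ i, i < 10468 → P i := stepQ 10467 Q10467 (allL N10467 (tt N9348 F34050) (tt N8963 F34051) (tt N9366 F34052) (tt N10460 (iv F34054)) (tt N11389 (iv F37454)) (tt N11642 (iv F38390)) (tt N10387 F34053) (tt N8951 (iv D10564)))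
theorem Q10469 : ∀ i, i < 10469 → P i := stepQ 10468 Q10468 (allL N10468 (tt N10184 (iv F34059)) (tt N8952 (iv D10565)) (tt N9342 F34055) (tt N11641 (iv F38384)) (tt N8955 F34056) (tt N8965 F34057) (tt N10173 F34058) (tt N11643 D11740))
theorem Q10470 : ∀ i, i < 10470 → P i := stepQ 10469 Q10469 (allL N10469 (tt N9350 F34060) (tt N11643 (iv F38393)) (tt N8954 F34061) (tt N11644 D11741) (tt N8956 F34062) (tt N8953 F34063) (tt N11645 D11742) (tt N8952 (iv D10566)))
theorem Q10471 : ∀ i, i < 10471 → P i := stepQ 10470 Q10470 (allL N10470 (tt N9351 F34064) (tt N8967 F34065) (tt N10258 F34066) (tt N8953 (iv D10567)) (tt N11646 D11743) (tt N11644 (iv F38400)) (tt N10282 F34067) (tt N10460 F34068))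
theorem Q10472 : ∀ i, i < 10472 → P i := stepQ 10471 Q10471 (allL N10471 (tt N9352 F34069) (tt N9106 F34070) (tt N11645 (iv F38404)) (tt N10294 F34071) (tt N8959 F34072) (tt N10300 F34073) (tt N8954 (iv D10568)) (tt N11626 (iv F38340)))
theorem Q10473 : ∀ i, i < 10473 → P i := stepQ 10472 Q10472 (allL N10472 (tt N8955 (iv D10569)) (tt N9358 F34074) (tt N10177 (iv F34078)) (tt N11018 (iv F35950)) (tt N10184 F34075) (tt N8974 F34076) (tt N10175 F34077) (tt N11551 (iv F38047)))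
theorem Q10474 : ∀ i, i < 10474 → P i := stepQ 10473 Q10473 (allL N10473 (tt N10177 F34079) (tt N8958 F34080) (tt N8955 (iv D10570)) (tt N11647 D11744) (tt N9342 F34081) (tt N8975 F34082) (tt N10170 F34083) (tt N9087 (iv F34084)))
theorem Q10475 : ∀ i, i < 10475 → P i := stepQ 10474 Q10474 (allL N10474 (tt N11551 (iv F38042)) (tt N8956 F34085) (tt N9087 F34086) (tt N11648 D11745) (tt N11643 (iv F38395)) (tt N8976 F34087) (tt N11198 (iv F36678)) (tt N8955 (iv D10571)))
theorem Q10476 : ∀ i, i < 10476 → P i := stepQ 10475 Q10475 (allL N10475 (tt N9361 F34088) (tt N11648 (iv F38421)) (tt N9258 F34089) (tt N8956 (iv D10572)) (tt N11649 D11746) (tt N8957 F34090) (tt N11650 D11747) (tt N11395 (iv F37486)))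
theorem Q10477 : ∀ i, i < 10477 → P i := stepQ 10476 Q10476 (allL N10476 (tt N9362 F34091) (tt N11198 (iv F36675)) (tt N8959 F34092) (tt N11650 (iv F38428)) (tt N11645 (iv F38405)) (tt N10756 (iv F35034)) (tt N8956 (iv D10573)) (tt N11216 (iv F36756)))
theorem Q10478 : ∀ i, i < 10478 → P i := stepQ 10477 Q10477 (allL N10477 (tt N9363 F34093) (tt N8979 F34094) (tt N9260 F34095) (tt N11646 (iv F38411)) (tt N8957 (iv D10574)) (tt N11649 (iv F38425)) (tt N10768 (iv F35064)) (tt N11394 F37481))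
theorem Q10479 : ∀ i, i < 10479 → P i := stepQ 10478 Q10478 (allL N10478 (tt N10629 (iv F34645)) (tt N11647 (iv F38415)) (tt N10794 (iv F35129)) (tt N8958 (iv D10575)) (tt N10375 F34096) (tt N8960 F34097) (tt N10362 F34098) (tt N11651 D11748))
theorem Q10480 : ∀ i, i < 10480 → P i := stepQ 10479 Q10479 (allL N10479 (tt N9869 F34099) (tt N8981 F34100) (tt N10795 (iv F35133)) (tt N9047 F34101) (tt N10376 F34102) (tt N11651 (iv F38433)) (tt N10479 F34103) (tt N8960 (iv D10576)))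
theorem Q10481 : ∀ i, i < 10481 → P i := stepQ 10480 Q10480 (allL N10480 (tt N8988 F34104) (tt N11389 (iv F37452)) (tt N9531 F34105) (tt N11652 D11749) (tt N8963 F34106) (tt N11031 (iv F36014)) (tt N11117 (iv F36374)) (tt N8961 (iv D10577)))
theorem Q10482 : ∀ i, i < 10482 → P i := stepQ 10481 Q10481 (allL N10481 (tt N10381 F34107) (tt N8962 (iv D10578)) (tt N10179 F34108) (tt N8965 F34109) (tt N10178 F34110) (tt N11641 (iv F38386)) (tt N10398 F34111) (tt N11653 D11750))
theorem Q10483 : ∀ i, i < 10483 → P i := stepQ 10482 Q10482 (allL N10482 (tt N8990 F34112) (tt N11653 (iv F38438)) (tt N9529 F34113) (tt N10457 (iv F34115)) (tt N11031 (iv F36013)) (tt N8963 F34114) (tt N11415 (iv F37577)) (tt N8962 (iv D10579)))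
theorem Q10484 : ∀ i, i < 10484 → P i := stepQ 10483 Q10483 (allL N10483 (tt N8991 F34116) (tt N10387 F34117) (tt N9532 F34118) (tt N10318 F34119) (tt N11117 (iv F36373)) (tt N11654 D11751) (tt N8963 (iv D10580)) (tt N8964 F34120))
theorem Q10485 : ∀ i, i < 10485 → P i := stepQ 10484 Q10484 (allL N10484 (tt N8992 F34121) (tt N11655 D11752) (tt N9537 F34122) (tt N11134 (iv F36442)) (tt N11116 (iv F36369)) (tt N8964 (iv D10581)) (tt N11120 (iv F36389)) (tt N11654 (iv F38446)))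
theorem Q10486 : ∀ i, i < 10486 → P i := stepQ 10485 Q10485 (allL N10485 (tt N9953 F34123) (tt N8966 F34124) (tt N9088 F34125) (tt N11656 D11753) (tt N8976 F34126) (tt N11643 (iv F38396)) (tt N9938 F34127) (tt N8965 (iv D10582)))
theorem Q10487 : ∀ i, i < 10487 → P i := stepQ 10486 Q10486 (allL N10486 (tt N8995 F34128) (tt N11656 (iv F38454)) (tt N10444 F34129) (tt N8966 (iv D10583)) (tt N11657 D11754) (tt N8967 F34130) (tt N11658 D11755) (tt N10457 F34131))
theorem Q10488 : ∀ i, i < 10488 → P i := stepQ 10487 Q10487 (allL N10487 (tt N8996 F34132) (tt N9938 F34133) (tt N8969 F34134) (tt N11658 (iv F38465)) (tt N8978 F34135) (tt N11480 (iv F37817)) (tt N8966 (iv D10584)) (tt N9937 F34136))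
theorem Q10489 : ∀ i, i < 10489 → P i := stepQ 10488 Q10488 (allL N10488 (tt N8997 F34137) (tt N11646 (iv F38409)) (tt N10445 F34138) (tt N8979 F34139) (tt N8967 (iv D10585)) (tt N11657 (iv F38460)) (tt N11523 (iv F37962)) (tt N10461 F34140))
theorem Q10490 : ∀ i, i < 10490 → P i := stepQ 10489 Q10489 (allL N10489 (tt N9000 F34141) (tt N11386 (iv F37438)) (tt N11659 D11756) (tt N8970 (iv D10586)) (tt N11660 D11757) (tt N10961 (iv F35722)) (tt N11107 (iv F36333)) (tt N11652 (iv F38436)))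
theorem Q10491 : ∀ i, i < 10491 → P i := stepQ 10490 Q10490 (allL N10490 (tt N9002 F34142) (tt N11596 (iv F38223)) (tt N9091 (iv F34145)) (tt N8972 (iv D10587)) (tt N11661 D11758) (tt N8973 F34143) (tt N11662 D11759) (tt N8977 F34144))
theorem Q10492 : ∀ i, i < 10492 → P i := stepQ 10491 Q10491 (allL N10491 (tt N9003 F34146) (tt N11284 (iv F37058)) (tt N10491 F34147) (tt N11662 (iv F38480)) (tt N10968 (iv F35748)) (tt N11109 (iv F36344)) (tt N8972 (iv D10588)) (tt N11111 (iv F36355)))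
theorem Q10493 : ∀ i, i < 10493 → P i := stepQ 10492 Q10492 (allL N10492 (tt N9005 F34148) (tt N11394 (iv F37478)) (tt N9110 F34149) (tt N11660 (iv F38472)) (tt N8973 (iv D10589)) (tt N11661 (iv F38476)) (tt N11393 (iv F37475)) (tt N8979 F34150))
theorem Q10494 : ∀ i, i < 10494 → P i := stepQ 10493 Q10493 (allL N10493 (tt N8976 F34151) (tt N9009 F34152) (tt N9089 F34153) (tt N11598 (iv F38229)) (tt N9953 F34154) (tt N11551 (iv F38046)) (tt N9944 F34155) (tt N8974 (iv D10590)))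
theorem Q10495 : ∀ i, i < 10495 → P i := stepQ 10494 Q10494 (allL N10494 (tt N10382 F34156) (tt N8980 F34157) (tt N10022 F34158) (tt N8975 (iv D10591)) (tt N10185 F34159) (tt N11647 (iv F38418)) (tt N10014 F34160) (tt N10016 F34161))
theorem Q10496 : ∀ i, i < 10496 → P i := stepQ 10495 Q10495 (allL N10495 (tt N11598 (iv F38227)) (tt N8977 F34162) (tt N11663 D11760) (tt N8976 (iv D10592)) (tt N11664 D11761) (tt N11648 (iv F38422)) (tt N11665 D11762) (tt N11596 (iv F38224)))
theorem Q10497 : ∀ i, i < 10497 → P i := stepQ 10496 Q10496 (allL N10496 (tt N9944 F34163) (tt N8978 F34164) (tt N9080 F34165) (tt N11665 (iv F38486)) (tt N9938 F34166) (tt N9936 (iv F34168)) (tt N8976 (iv D10593)) (tt N9935 F34167))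
theorem Q10498 : ∀ i, i < 10498 → P i := stepQ 10497 Q10497 (allL N10497 (tt N9013 F34169) (tt N11664 (iv F38483)) (tt N9090 F34170) (tt N11657 (iv F38459)) (tt N8977 (iv D10594)) (tt N8979 F34171) (tt N11666 D11763) (tt N11661 (iv F38477)))
theorem Q10499 : ∀ i, i < 10499 → P i := stepQ 10498 Q10498 (allL N10498 (tt N9014 F34172) (tt N11665 (iv F38485)) (tt N9083 F34173) (tt N8978 F34174) (tt N11666 (iv F38490)) (tt N11482 (iv F37827)) (tt N8977 (iv D10595)) (tt N11667 D11764))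
theorem Q10500 : ∀ i, i < 10500 → P i := stepQ 10499 Q10499 (allL N10499 (tt N10499 F34175) (tt N10016 F34176) (tt N10499 F34177) (tt N9049 F34178) (tt N10663 (iv F34751)) (tt N8981 F34179) (tt N10009 F34180) (tt N8980 (iv D10596)))
theorem Q10501 : ∀ i, i < 10501 → P i := stepQ 10500 Q10500 (allL N10500 (tt N9534 F34181) (tt N10500 F34182) (tt N8989 F34183) (tt N11051 (iv F36116)) (tt N8986 F34184) (tt N11668 D11765) (tt N8983 (iv D10597)) (tt N9802 F34185))
theorem Q10502 : ∀ i, i < 10502 → P i := stepQ 10501 Q10501 (allL N10501 (tt N9537 F34186) (tt N11669 D11766) (tt N8992 F34187) (tt N9777 F34188) (tt N11668 (iv F38495)) (tt N8986 (iv D10598)) (tt N11342 (iv F37259)) (tt N9800 F34189))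
theorem Q10503 : ∀ i, i < 10503 → P i := stepQ 10502 Q10502 (allL N10502 (tt N11652 (iv F38434)) (tt N9404 F34190) (tt N11670 D11767) (tt N8988 (iv D10599)) (tt N10465 F34191) (tt N10948 (iv F35679)) (tt N11671 D11768) (tt N9000 F34192))
theorem Q10504 : ∀ i, i < 10504 → P i := stepQ 10503 Q10503 (allL N10503 (tt N11117 (iv F36371)) (tt N9405 F34193) (tt N9802 F34194) (tt N11671 (iv F38506)) (tt N8991 F34195) (tt N11672 D11769) (tt N8988 (iv D10600)) (tt N8989 F34196))
theorem Q10505 : ∀ i, i < 10505 → P i := stepQ 10504 Q10504 (allL N10504 (tt N11116 (iv F36366)) (tt N11168 (iv F36552)) (tt N11668 (iv F38494)) (tt N11035 (iv F36036)) (tt N8992 F34197) (tt N8989 (iv D10601)) (tt N11038 (iv F36055)) (tt N11672 (iv F38511)))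
theorem Q10506 : ∀ i, i < 10506 → P i := stepQ 10505 Q10505 (allL N10505 (tt N11415 (iv F37575)) (tt N9539 F34198) (tt N9993 F34199) (tt N10418 F34200) (tt N10858 (iv F35351)) (tt N11673 D11770) (tt N8990 (iv D10602)) (tt N9543 F34201))
theorem Q10507 : ∀ i, i < 10507 → P i := stepQ 10506 Q10506 (allL N10506 (tt N11654 (iv F38443)) (tt N11674 D11771) (tt N9800 F34202) (tt N10324 F34203) (tt N11672 (iv F38510)) (tt N8991 (iv D10603)) (tt N11673 (iv F38515)) (tt N8992 F34204))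
theorem Q10508 : ∀ i, i < 10508 → P i := stepQ 10507 Q10507 (allL N10507 (tt N11169 (iv F36555)) (tt N8992 (iv D10604)) (tt N11675 D11772) (tt N11565 (iv F38104)) (tt N11168 F36554) (tt N9414 F34205) (tt N11344 (iv F37268)) (tt N11674 (iv F38520)))
theorem Q10509 : ∀ i, i < 10509 → P i := stepQ 10508 Q10508 (allL N10508 (tt N8994 F34206) (tt N9953 F34207) (tt N10508 F34208) (tt N11676 D11773) (tt N9009 F34209) (tt N9415 F34210) (tt N9951 F34211) (tt N8993 (iv D10605)))
theorem Q10510 : ∀ i, i < 10510 → P i := stepQ 10509 Q10509 (allL N10509 (tt N11676 (iv F38526)) (tt N8995 F34212) (tt N10840 (iv F35300)) (tt N8994 (iv D10606)) (tt N11677 D11774) (tt N9416 F34213) (tt N10424 (iv F34215)) (tt N10430 F34214))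
theorem Q10511 : ∀ i, i < 10511 → P i := stepQ 10510 Q10510 (allL N10510 (tt N9951 F34216) (tt N8996 F34217) (tt N10510 F34218) (tt N10424 F34219) (tt N9011 F34220) (tt N9984 (iv F34222)) (tt N8994 (iv D10607)) (tt N9950 F34221))
theorem Q10512 : ∀ i, i < 10512 → P i := stepQ 10511 Q10511 (allL N10511 (tt N11657 (iv F38457)) (tt N11677 (iv F38532)) (tt N10447 F34223) (tt N9013 F34224) (tt N8995 (iv D10608)) (tt N8997 F34225) (tt N11678 D11775) (tt N10463 F34226))
theorem Q10513 : ∀ i, i < 10513 → P i := stepQ 10512 Q10512 (allL N10512 (tt N11658 (iv F38462)) (tt N10424 F34227) (tt N9305 F34228) (tt N8996 F34229) (tt N11678 (iv F38540)) (tt N11569 (iv F38119)) (tt N8995 (iv D10609)) (tt N10414 F34230))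
theorem Q10514 : ∀ i, i < 10514 → P i := stepQ 10513 Q10513 (allL N10513 (tt N11659 (iv F38467)) (tt N11679 D11776) (tt N9000 (iv D10610)) (tt N10513 F34231) (tt N11680 D11777) (tt N10957 F35712) (tt N11681 D11778) (tt N11670 (iv F38504)))
theorem Q10515 : ∀ i, i < 10515 → P i := stepQ 10514 Q10514 (allL N10514 (tt N11660 (iv F38471)) (tt N9433 F34232) (tt N11680 (iv F38547)) (tt N9005 F34233) (tt N9000 (iv D10611)) (tt N10962 (iv F35725)) (tt N11682 D11779) (tt N10465 F34234))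
theorem Q10516 : ∀ i, i < 10516 → P i := stepQ 10515 Q10515 (allL N10515 (tt N11107 (iv F36330)) (tt N9434 F34235) (tt N11681 (iv F38550)) (tt N9001 F34236) (tt N11682 (iv F38555)) (tt N11125 (iv F36409)) (tt N9000 (iv D10612)) (tt N10242 (iv F34237)))
theorem Q10517 : ∀ i, i < 10517 → P i := stepQ 10516 Q10516 (allL N10516 (tt N9091 F34238) (tt N11683 D11780) (tt N9002 (iv D10613)) (tt N10516 F34239) (tt N11684 D11781) (tt N9004 F34240) (tt N11685 D11782) (tt N9012 F34241))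
theorem Q10518 : ∀ i, i < 10518 → P i := stepQ 10517 Q10517 (allL N10517 (tt N11661 (iv F38474)) (tt N10964 (iv F35731)) (tt N11684 (iv F38561)) (tt N10962 (iv F35724)) (tt N9002 (iv D10614)) (tt N9005 F34242) (tt N11686 D11783) (tt N9013 F34243))
theorem Q10519 : ∀ i, i < 10519 → P i := stepQ 10518 Q10518 (allL N10518 (tt N11662 (iv F38478)) (tt N10969 (iv F35752)) (tt N11685 (iv F38566)) (tt N9003 F34244) (tt N11686 (iv F38569)) (tt N11323 (iv F37187)) (tt N9002 (iv D10615)) (tt N11687 D11784))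
theorem Q10520 : ∀ i, i < 10520 → P i := stepQ 10519 Q10519 (allL N10519 (tt N9267 F34245) (tt N9004 (iv D10616)) (tt N9440 F34246) (tt N10519 F34247) (tt N11688 D11785) (tt N10911 (iv F35544)) (tt N11689 D11786) (tt N9015 F34248))
theorem Q10521 : ∀ i, i < 10521 → P i := stepQ 10520 Q10520 (allL N10520 (tt N9110 F34249) (tt N11688 (iv F38575)) (tt N9005 F34250) (tt N11690 D11787) (tt N9004 (iv D10617)) (tt N11684 (iv F38562)) (tt N11691 D11788) (tt N9016 F34251))
theorem Q10522 : ∀ i, i < 10522 → P i := stepQ 10521 Q10521 (allL N10521 (tt N9111 F34252) (tt N11689 (iv F38579)) (tt N9006 F34253) (tt N10521 F34254) (tt N11691 (iv F38586)) (tt N11692 D11789) (tt N9004 (iv D10618)) (tt N11345 (iv F37273)))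
theorem Q10523 : ∀ i, i < 10523 → P i := stepQ 10522 Q10522 (allL N10522 (tt N11393 (iv F37472)) (tt N9443 F34255) (tt N11691 (iv F38585)) (tt N11682 (iv F38554)) (tt N9006 F34256) (tt N11693 D11790) (tt N9005 (iv D10619)) (tt N11346 (iv F37278)))
theorem Q10524 : ∀ i, i < 10524 → P i := stepQ 10523 Q10523 (allL N10523 (tt N11108 (iv F36335)) (tt N11694 D11791) (tt N11692 (iv F38588)) (tt N9007 F34257) (tt N11693 (iv F38591)) (tt N9006 (iv D10620)) (tt N11323 (iv F37188)) (tt N10363 F34258))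
theorem Q10525 : ∀ i, i < 10525 → P i := stepQ 10524 Q10524 (allL N10524 (tt N9436 F34259) (tt N9007 (iv D10621)) (tt N10587 (iv F34493)) (tt N11694 (iv F38594)) (tt N10239 F34260) (tt N9445 F34261) (tt N11279 (iv F37037)) (tt N9008 F34262))
theorem Q10526 : ∀ i, i < 10526 → P i := stepQ 10525 Q10525 (allL N10525 (tt N9011 F34263) (tt N9944 F34264) (tt N10525 F34265) (tt N11609 (iv F38265)) (tt N9951 F34266) (tt N10936 (iv F35631)) (tt N9009 (iv D10622)) (tt N9943 F34267))
theorem Q10527 : ∀ i, i < 10527 → P i := stepQ 10526 Q10526 (allL N10526 (tt N11607 (iv F38256)) (tt N10727 (iv F34949)) (tt N9010 (iv D10623)) (tt N10526 F34268) (tt N11695 D11792) (tt N9448 F34269) (tt N10724 F34937) (tt N10937 F35636))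
theorem Q10528 : ∀ i, i < 10528 → P i := stepQ 10527 Q10527 (allL N10527 (tt N11608 (iv F38260)) (tt N9013 F34270) (tt N11695 (iv F38597)) (tt N11677 (iv F38533)) (tt N9010 (iv D10624)) (tt N9449 F34271) (tt N11696 D11793) (tt N10964 F35734))
theorem Q10529 : ∀ i, i < 10529 → P i := stepQ 10528 Q10528 (allL N10528 (tt N11609 (iv F38263)) (tt N9014 F34272) (tt N10724 (iv F34935)) (tt N9011 F34273) (tt N11696 (iv F38601)) (tt N11697 D11794) (tt N9010 (iv D10625)) (tt N10721 F34930))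
theorem Q10530 : ∀ i, i < 10530 → P i := stepQ 10529 Q10529 (allL N10529 (tt N10936 (iv F35628)) (tt N11575 (iv F38131)) (tt N10529 F34274) (tt N11697 (iv F38602)) (tt N9984 F34275) (tt N9011 (iv D10626)) (tt N9451 F34276) (tt N9983 F34277))
theorem Q10531 : ∀ i, i < 10531 → P i := stepQ 10530 Q10530 (allL N10530 (tt N10720 (iv F34924)) (tt N9012 (iv D10627)) (tt N10727 (iv F34950)) (tt N9017 F34278) (tt N11698 D11795) (tt N10942 (iv F35659)) (tt N9159 (iv F34279)) (tt N11683 (iv F38558)))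
theorem Q10532 : ∀ i, i < 10532 → P i := stepQ 10531 Q10531 (allL N10531 (tt N9090 F34280) (tt N11698 (iv F38605)) (tt N9013 F34281) (tt N10837 (iv F35291)) (tt N9012 (iv D10628)) (tt N9016 F34282) (tt N11699 D11796) (tt N11684 (iv F38563)))
theorem Q10533 : ∀ i, i < 10533 → P i := stepQ 10532 Q10532 (allL N10532 (tt N9083 F34283) (tt N9159 F34284) (tt N9014 F34285) (tt N9019 F34286) (tt N11699 (iv F38610)) (tt N11483 (iv F37832)) (tt N9012 (iv D10629)) (tt N9166 (iv F34287)))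
theorem Q10534 : ∀ i, i < 10534 → P i := stepQ 10533 Q10533 (allL N10533 (tt N11666 (iv F38488)) (tt N11696 (iv F38599)) (tt N11699 (iv F38609)) (tt N11678 (iv F38539)) (tt N9014 F34288) (tt N11576 (iv F38137)) (tt N9013 (iv D10630)) (tt N11700 D11797))
theorem Q10535 : ∀ i, i < 10535 → P i := stepQ 10534 Q10534 (allL N10534 (tt N11667 (iv F38491)) (tt N10721 (iv F34928)) (tt N9166 F34289) (tt N10983 (iv F35812)) (tt N11700 (iv F38613)) (tt N11572 (iv F38125)) (tt N11687 (iv F38573)) (tt N9014 (iv D10631)))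
theorem Q10536 : ∀ i, i < 10536 → P i := stepQ 10535 Q10535 (allL N10535 (tt N9265 F34290) (tt N9016 F34291) (tt N9457 F34292) (tt N11701 D11798) (tt N9015 (iv D10632)) (tt N10943 (iv F35663)) (tt N10774 (iv F35083)) (tt N11688 (iv F38577)))
theorem Q10537 : ∀ i, i < 10537 → P i := stepQ 10536 Q10536 (allL N10536 (tt N9102 F34293) (tt N11701 (iv F38615)) (tt N10446 F34294) (tt N9016 (iv D10633)) (tt N9023 F34295) (tt N10837 (iv F35292)) (tt N11518 (iv F37941)) (tt N10841 (iv F35308)))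
theorem Q10538 : ∀ i, i < 10538 → P i := stepQ 10537 Q10537 (allL N10537 (tt N9017 (iv D10634)) (tt N9056 F34296) (tt N10537 F34297) (tt N10720 (iv F34927)) (tt N11331 (iv F37206)) (tt N11028 (iv F35999)) (tt N9144 F34298) (tt N10537 F34299))
theorem Q10539 : ∀ i, i < 10539 → P i := stepQ 10538 Q10538 (allL N10538 (tt N11331 (iv F37204)) (tt N9018 F34300) (tt N10538 F34301) (tt N10743 (iv F35000)) (tt N9017 (iv D10635)) (tt N11029 (iv F36004)) (tt N9157 F34302) (tt N10538 F34303))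
theorem Q10540 : ∀ i, i < 10540 → P i := stepQ 10539 Q10539 (allL N10539 (tt N9063 F34304) (tt N9157 F34305) (tt N9020 F34306) (tt N10737 (iv F34980)) (tt N9019 F34307) (tt N11353 (iv F37303)) (tt N9018 (iv D10636)) (tt N9156 (iv F34308)))
theorem Q10541 : ∀ i, i < 10541 → P i := stepQ 10540 Q10540 (allL N10540 (tt N9061 F34309) (tt N10540 F34310) (tt N9156 F34311) (tt N10162 F34312) (tt N9021 F34313) (tt N11355 (iv F37316)) (tt N10540 F34314) (tt N9020 (iv D10637)))
theorem Q10542 : ∀ i, i < 10542 → P i := stepQ 10541 Q10541 (allL N10541 (tt N9243 F34315) (tt N9023 F34316) (tt N10430 F34317) (tt N9022 (iv D10638)) (tt N11701 (iv F38617)) (tt N11030 (iv F36009)) (tt N9387 F34318) (tt N10840 (iv F35303)))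
theorem Q10543 : ∀ i, i < 10543 → P i := stepQ 10542 Q10542 (allL N10542 (tt N10070 (iv F34323)) (tt N9024 (iv D10639)) (tt N11375 (iv F37402)) (tt N9176 F34319) (tt N9041 F34320) (tt N11072 (iv F36207)) (tt N10542 F34321) (tt N9025 F34322))
theorem Q10544 : ∀ i, i < 10544 → P i := stepQ 10543 Q10543 (allL N10543 (tt N11332 (iv F37209)) (tt N9063 F34324) (tt N9025 (iv D10640)) (tt N11702 D11799) (tt N9045 F34325) (tt N11074 (iv F36216)) (tt N9026 F34326) (tt N11375 (iv F37405)))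
theorem Q10545 : ∀ i, i < 10545 → P i := stepQ 10544 Q10544 (allL N10544 (tt N11326 (iv F37193)) (tt N9067 F34327) (tt N11317 (iv F37164)) (tt N9026 (iv D10641)) (tt N11703 D11800) (tt N9180 F34328) (tt N11702 (iv F38621)) (tt N10809 (iv F35196)))
theorem Q10546 : ∀ i, i < 10546 → P i := stepQ 10545 Q10545 (allL N10545 (tt N9030 F34329) (tt N11033 (iv F36021)) (tt N9027 (iv D10642)) (tt N11430 (iv F37647)) (tt N10128 F34330) (tt N10228 F34331) (tt N11187 (iv F36629)) (tt N10545 F34332))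
theorem Q10547 : ∀ i, i < 10547 → P i := stepQ 10546 Q10546 (allL N10546 (tt N9031 F34333) (tt N10546 F34334) (tt N11187 (iv F36627)) (tt N9028 F34335) (tt N10129 F34336) (tt N11704 D11801) (tt N9027 (iv D10643)) (tt N9868 (iv F34337)))
theorem Q10548 : ∀ i, i < 10548 → P i := stepQ 10547 Q10547 (allL N10547 (tt N9032 F34338) (tt N11705 D11802) (tt N11101 (iv F36314)) (tt N11704 (iv F38626)) (tt N9872 F34339) (tt N9028 (iv D10644)) (tt N10245 F34340) (tt N9029 F34341))
theorem Q10549 : ∀ i, i < 10549 → P i := stepQ 10548 Q10548 (allL N10548 (tt N11706 D11803) (tt N9029 (iv D10645)) (tt N11707 D11804) (tt N9856 F34342) (tt N9873 F34343) (tt N10548 F34344) (tt N9181 F34345) (tt N11705 (iv F38633)))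
theorem Q10550 : ∀ i, i < 10550 → P i := stepQ 10549 Q10549 (allL N10549 (tt N11704 (iv F38625)) (tt N11708 D11805) (tt N11170 (iv F36557)) (tt N9032 F34346) (tt N11583 (iv F38169)) (tt N9031 (iv D10646)) (tt N11141 (iv F36465)) (tt N11167 (iv F36550)))
theorem Q10551 : ∀ i, i < 10551 → P i := stepQ 10550 Q10550 (allL N10550 (tt N11709 D11806) (tt N9032 (iv D10647)) (tt N11710 D11807) (tt N11708 (iv F38650)) (tt N11072 (iv F36206)) (tt N9041 F34347) (tt N11142 (iv F36468)) (tt N9034 F34348))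
theorem Q10552 : ∀ i, i < 10552 → P i := stepQ 10551 Q10551 (allL N10551 (tt N11711 D11808) (tt N9033 (iv D10648)) (tt N11164 (iv F36543)) (tt N9034 F34349) (tt N9779 F34350) (tt N9042 F34351) (tt N9182 F34352) (tt N11163 F36541))
theorem Q10553 : ∀ i, i < 10553 → P i := stepQ 10552 Q10552 (allL N10552 (tt N9034 (iv D10649)) (tt N11706 (iv F38636)) (tt N11712 D11809) (tt N11711 (iv F38668)) (tt N11073 (iv F36212)) (tt N9044 F34353) (tt N9184 F34354) (tt N11709 (iv F38660)))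
theorem Q10554 : ∀ i, i < 10554 → P i := stepQ 10553 Q10553 (allL N10553 (tt N11712 (iv F38672)) (tt N11437 (iv F37658)) (tt N9034 (iv D10650)) (tt N11713 D11810) (tt N11074 (iv F36215)) (tt N9045 F34355) (tt N9185 F34356) (tt N11710 (iv F38666)))
theorem Q10555 : ∀ i, i < 10555 → P i := stepQ 10554 Q10554 (allL N10554 (tt N9035 (iv D10651)) (tt N10554 F34357) (tt N11338 (iv F37242)) (tt N9068 F34358) (tt N10556 (iv F34368)) (tt N10555 (iv F34364)) (tt N10979 (iv F35794)) (tt N10554 F34359))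
theorem Q10556 : ∀ i, i < 10556 → P i := stepQ 10555 Q10555 (allL N10555 (tt N10556 (iv F34365)) (tt N9036 F34360) (tt N11340 (iv F37247)) (tt N9492 (iv F34363)) (tt N9035 (iv D10652)) (tt N10554 F34364) (tt N9490 F34361) (tt N10555 F34362))
theorem Q10557 : ∀ i, i < 10557 → P i := stepQ 10556 Q10556 (allL N10556 (tt N10555 F34365) (tt N10556 F34366) (tt N11341 (iv F37252)) (tt N9070 F34367) (tt N10554 F34368) (tt N9035 (iv D10653)) (tt N10975 (iv F35773)) (tt N10556 F34369))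
theorem Q10558 : ∀ i, i < 10558 → P i := stepQ 10557 Q10557 (allL N10557 (tt N10557 F34370) (tt N11186 (iv F36620)) (tt N9501 F34371) (tt N9174 F34372) (tt N9040 F34373) (tt N9499 F34374) (tt N10557 F34375) (tt N9038 (iv D10654)))
theorem Q10559 : ∀ i, i < 10559 → P i := stepQ 10558 Q10558 (allL N10558 (tt N9807 (iv F34380)) (tt N9039 (iv D10655)) (tt N9496 F34376) (tt N9041 F34377) (tt N9495 F34378) (tt N11708 (iv F38652)) (tt N10558 F34379) (tt N11055 F36139))
theorem Q10560 : ∀ i, i < 10560 → P i := stepQ 10559 Q10559 (allL N10559 (tt N10559 F34381) (tt N11055 (iv F36135)) (tt N9500 F34382) (tt N9043 F34383) (tt N9499 F34384) (tt N9040 F34385) (tt N10011 (iv F34386)) (tt N9039 (iv D10656)))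
theorem Q10561 : ∀ i, i < 10561 → P i := stepQ 10560 Q10560 (allL N10560 (tt N9041 (iv D10657)) (tt N10560 F34387) (tt N9143 (iv F34392)) (tt N9807 F34388) (tt N10070 F34389) (tt N11709 (iv F38658)) (tt N10560 F34390) (tt N9044 F34391))
theorem Q10562 : ∀ i, i < 10562 → P i := stepQ 10561 Q10561 (allL N10561 (tt N9143 F34393) (tt N9079 F34394) (tt N9041 (iv D10658)) (tt N9147 F34395) (tt N11375 (iv F37403)) (tt N11710 (iv F38664)) (tt N10561 F34396) (tt N9045 F34397))
theorem Q10563 : ∀ i, i < 10563 → P i := stepQ 10562 Q10562 (allL N10562 (tt N9042 (iv D10659)) (tt N10562 F34398) (tt N11161 (iv F36536)) (tt N9044 F34399) (tt N10569 (iv F34420)) (tt N11711 (iv F38670)) (tt N9052 F34400) (tt N11148 (iv F36495)))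
theorem Q10564 : ∀ i, i < 10564 → P i := stepQ 10563 Q10563 (allL N10563 (tt N11161 (iv F36535)) (tt N10573 (iv F34436)) (tt N9042 (iv D10660)) (tt N11714 D11811) (tt N10570 (iv F34423)) (tt N11164 (iv F36544)) (tt N9053 F34401) (tt N11059 (iv F36154)))
theorem Q10565 : ∀ i, i < 10565 → P i := stepQ 10564 Q10564 (allL N10564 (tt N11148 (iv F36490)) (tt N9043 F34402) (tt N11059 (iv F36152)) (tt N11055 (iv F36137)) (tt N10571 (iv F34426)) (tt N11163 (iv F36540)) (tt N11054 F36133) (tt N9042 (iv D10661)))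
theorem Q10566 : ∀ i, i < 10566 → P i := stepQ 10565 Q10565 (allL N10565 (tt N10565 F34403) (tt N11054 (iv F36128)) (tt N10010 F34404) (tt N10011 F34405) (tt N10572 (iv F34432)) (tt N10565 F34406) (tt N9043 (iv D10662)) (tt N9055 F34407))
theorem Q10567 : ∀ i, i < 10567 → P i := stepQ 10566 Q10566 (allL N10566 (tt N9045 F34408) (tt N9144 (iv F34411)) (tt N9044 (iv D10663)) (tt N10718 (iv F34918)) (tt N11332 (iv F37212)) (tt N11712 (iv F38674)) (tt N9056 F34409) (tt N9143 F34410))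
theorem Q10568 : ∀ i, i < 10568 → P i := stepQ 10567 Q10567 (allL N10567 (tt N10718 (iv F34916)) (tt N9083 F34412) (tt N11714 (iv F38679)) (tt N9045 (iv D10664)) (tt N11715 D11812) (tt N11713 (iv F38677)) (tt N9057 F34413) (tt N10716 (iv F34914)))
theorem Q10569 : ∀ i, i < 10569 → P i := stepQ 10568 Q10568 (allL N10568 (tt N9841 F34414) (tt N11197 (iv F36669)) (tt N9191 F34415) (tt N11651 (iv F38431)) (tt N9744 F34416) (tt N9047 F34417) (tt N11196 (iv F36668)) (tt N9046 (iv D10665)))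
theorem Q10570 : ∀ i, i < 10570 → P i := stepQ 10569 Q10569 (allL N10569 (tt N9048 (iv D10666)) (tt N10569 F34418) (tt N11303 (iv F37123)) (tt N9089 F34419) (tt N10562 F34420) (tt N11193 (iv F36653)) (tt N9946 F34421) (tt N10993 (iv F35851)))
theorem Q10571 : ∀ i, i < 10571 → P i := stepQ 10570 Q10570 (allL N10570 (tt N11303 (iv F37121)) (tt N9053 F34422) (tt N9048 (iv D10667)) (tt N11663 (iv F38482)) (tt N10563 F34423) (tt N11177 (iv F36589)) (tt N10573 (iv F34439)) (tt N11301 (iv F37118)))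
theorem Q10572 : ∀ i, i < 10572 → P i := stepQ 10571 Q10571 (allL N10571 (tt N10993 (iv F35847)) (tt N9049 F34424) (tt N11301 (iv F37114)) (tt N10016 F34425) (tt N10564 F34426) (tt N11197 (iv F36672)) (tt N10015 F34427) (tt N9048 (iv D10668)))
theorem Q10573 : ∀ i, i < 10573 → P i := stepQ 10572 Q10572 (allL N10572 (tt N10572 F34428) (tt N10015 F34429) (tt N9055 F34430) (tt N10009 F34431) (tt N10565 F34432) (tt N10572 F34433) (tt N9049 (iv D10669)) (tt N10010 F34434))
theorem Q10574 : ∀ i, i < 10574 → P i := stepQ 10573 Q10573 (allL N10573 (tt N9917 F34435) (tt N10563 F34436) (tt N9050 (iv D10670)) (tt N11716 D11813) (tt N9053 F34437) (tt N9193 F34438) (tt N10570 F34439) (tt N9738 F34440))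
theorem Q10575 : ∀ i, i < 10575 → P i := stepQ 10574 Q10574 (allL N10574 (tt N9053 F34441) (tt N9887 (iv F34444)) (tt N9052 (iv D10671)) (tt N11717 D11814) (tt N9917 F34442) (tt N9194 F34443) (tt N11161 (iv F36537)) (tt N9883 (iv F34445)))
theorem Q10576 : ∀ i, i < 10576 → P i := stepQ 10575 Q10575 (allL N10575 (tt N9054 F34446) (tt N10575 F34447) (tt N9883 F34448) (tt N10575 F34449) (tt N9514 F34450) (tt N9195 F34451) (tt N9513 (iv F34452)) (tt N9052 (iv D10672)))
theorem Q10577 : ∀ i, i < 10577 → P i := stepQ 10576 Q10576 (allL N10576 (tt N11717 (iv F38690)) (tt N11663 (iv F38481)) (tt N9057 F34453) (tt N9053 (iv D10673)) (tt N11718 D11815) (tt N9196 F34454) (tt N11714 (iv F38680)) (tt N11719 D11816))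
theorem Q10578 : ∀ i, i < 10578 → P i := stepQ 10577 Q10577 (allL N10577 (tt N9883 F34455) (tt N11301 (iv F37113)) (tt N9054 F34456) (tt N9880 (iv F34460)) (tt N9738 F34457) (tt N9197 F34458) (tt N9879 F34459) (tt N9053 (iv D10674)))
theorem Q10579 : ∀ i, i < 10579 → P i := stepQ 10578 Q10578 (allL N10578 (tt N9057 F34461) (tt N10720 (iv F34925)) (tt N11717 (iv F38692)) (tt N9056 (iv D10675)) (tt N11720 D11817) (tt N9199 F34462) (tt N10718 F34919) (tt N11721 D11818))
theorem Q10580 : ∀ i, i < 10580 → P i := stepQ 10579 Q10579 (allL N10579 (tt N11720 (iv F38702)) (tt N9090 F34463) (tt N11718 (iv F38695)) (tt N11703 (iv F38623)) (tt N9057 (iv D10676)) (tt N9200 F34464) (tt N11715 (iv F38683)) (tt N11722 D11819))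
theorem Q10581 : ∀ i, i < 10581 → P i := stepQ 10580 Q10580 (allL N10580 (tt N11721 (iv F38704)) (tt N9091 F34465) (tt N11719 (iv F38698)) (tt N10580 F34466) (tt N11722 (iv F38710)) (tt N9201 F34467) (tt N11723 D11820) (tt N9057 (iv D10677)))
theorem Q10582 : ∀ i, i < 10582 → P i := stepQ 10581 Q10581 (allL N10581 (tt N10162 (iv F34473)) (tt N9060 (iv D10678)) (tt N9516 F34468) (tt N9061 F34469) (tt N9515 F34470) (tt N11471 (iv F37782)) (tt N10581 F34471) (tt N10361 F34472))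
theorem Q10583 : ∀ i, i < 10583 → P i := stepQ 10582 Q10582 (allL N10582 (tt N9156 F34474) (tt N11375 (iv F37401)) (tt N9061 (iv D10679)) (tt N10092 F34475) (tt N9079 F34476) (tt N11354 (iv F37309)) (tt N10582 F34477) (tt N9063 F34478))
theorem Q10584 : ∀ i, i < 10584 → P i := stepQ 10583 Q10583 (allL N10583 (tt N10737 (iv F34977)) (tt N11702 (iv F38619)) (tt N10801 (iv F35162)) (tt N9063 (iv D10680)) (tt N11724 D11821) (tt N11472 (iv F37785)) (tt N9067 F34479) (tt N10735 (iv F34975)))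
theorem Q10585 : ∀ i, i < 10585 → P i := stepQ 10584 Q10584 (allL N10584 (tt N10584 F34480) (tt N10401 F34481) (tt N10584 F34482) (tt N9065 (iv D10681)) (tt N10998 (iv F35864)) (tt N9066 F34483) (tt N10400 F34484) (tt N10592 (iv F34524)))
theorem Q10586 : ∀ i, i < 10586 → P i := stepQ 10585 Q10585 (allL N10585 (tt N10585 F34485) (tt N11053 (iv F36122)) (tt N10585 F34486) (tt N9527 F34487) (tt N9066 (iv D10682)) (tt N10998 (iv F35865)) (tt N10585 F34488) (tt N10591 (iv F34519)))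
theorem Q10587 : ∀ i, i < 10587 → P i := stepQ 10586 Q10586 (allL N10586 (tt N10837 (iv F35289)) (tt N11703 (iv F38622)) (tt N10800 (iv F35157)) (tt N9090 F34489) (tt N9067 (iv D10683)) (tt N9102 F34490) (tt N11724 (iv F38719)) (tt N10810 (iv F35201)))
theorem Q10588 : ∀ i, i < 10588 → P i := stepQ 10587 Q10587 (allL N10587 (tt N9069 F34491) (tt N10587 F34492) (tt N10524 F34493) (tt N10589 (iv F34504)) (tt N9068 (iv D10684)) (tt N10588 (iv F34500)) (tt N9928 F34494) (tt N9092 F34495))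
theorem Q10589 : ∀ i, i < 10589 → P i := stepQ 10588 Q10588 (allL N10588 (tt N10589 (iv F34502)) (tt N9072 F34496) (tt N9445 (iv F34499)) (tt N9069 (iv D10685)) (tt N9492 F34497) (tt N10587 F34500) (tt N9478 (iv F34501)) (tt N9446 F34498))
theorem Q10590 : ∀ i, i < 10590 → P i := stepQ 10589 Q10589 (allL N10589 (tt N10588 F34502) (tt N10589 F34503) (tt N10947 (iv F35674)) (tt N10587 F34504) (tt N9070 F34505) (tt N9069 (iv D10686)) (tt N9959 F34507) (tt N9095 F34506))
theorem Q10591 : ∀ i, i < 10591 → P i := stepQ 10590 Q10590 (allL N10590 (tt N9928 F34508) (tt N9073 F34509) (tt N10915 (iv F35554)) (tt N9478 F34510) (tt N9071 F34511) (tt N9477 F34512) (tt N9069 (iv D10687)) (tt N9816 F34513))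
theorem Q10592 : ∀ i, i < 10592 → P i := stepQ 10591 Q10591 (allL N10591 (tt N10591 F34514) (tt N9610 F34515) (tt N10591 F34516) (tt N9076 (iv D10688)) (tt N9082 F34517) (tt N11260 (iv F36948)) (tt N9097 F34518) (tt N10585 F34519))
theorem Q10593 : ∀ i, i < 10593 → P i := stepQ 10592 Q10592 (allL N10592 (tt N10592 F34520) (tt N11261 (iv F36953)) (tt N10592 F34521) (tt N9081 (iv D10689)) (tt N11260 F36951) (tt N9082 F34522) (tt N9503 F34523) (tt N10584 F34524))
theorem Q10594 : ∀ i, i < 10594 → P i := stepQ 10593 Q10593 (allL N10593 (tt N11699 (iv F38607)) (tt N11715 (iv F38682)) (tt N11666 (iv F38489)) (tt N11724 (iv F38718)) (tt N9083 (iv D10690)) (tt N11484 (iv F37835)) (tt N9090 F34525) (tt N11725 D11822))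
theorem Q10595 : ∀ i, i < 10595 → P i := stepQ 10594 Q10594 (allL N10594 (tt N9166 F34526) (tt N10716 (iv F34913)) (tt N11667 (iv F38492)) (tt N9165 F34527) (tt N11725 (iv F38721)) (tt N11485 (iv F37839)) (tt N11726 D11823) (tt N9083 (iv D10691)))
theorem Q10596 : ∀ i, i < 10596 → P i := stepQ 10595 Q10595 (allL N10595 (tt N9630 (iv F34532)) (tt N9084 (iv D10692)) (tt N10077 F34528) (tt N9824 F34529) (tt N10640 (iv F34679)) (tt N10595 F34530) (tt N9627 F34531) (tt N10601 (iv F34555)))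
theorem Q10597 : ∀ i, i < 10597 → P i := stepQ 10596 Q10596 (allL N10596 (tt N9680 (iv F34538)) (tt N9085 (iv D10693)) (tt N11643 (iv F38394)) (tt N9643 F34533) (tt N9087 F34534) (tt N9088 F34535) (tt N9644 F34536) (tt N9342 F34537))
theorem Q10598 : ∀ i, i < 10598 → P i := stepQ 10597 Q10597 (allL N10597 (tt N9087 (iv D10694)) (tt N9630 F34539) (tt N11551 (iv F38044)) (tt N11193 (iv F36652)) (tt N9680 F34540) (tt N9089 F34541) (tt N9628 F34542) (tt N10177 F34543))
theorem Q10599 : ∀ i, i < 10599 → P i := stepQ 10598 Q10598 (allL N10598 (tt N11684 (iv F38560)) (tt N11722 (iv F38709)) (tt N11661 (iv F38475)) (tt N11727 D11824) (tt N9091 F34544) (tt N9110 F34545) (tt N11728 D11825) (tt N9090 (iv D10695)))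
theorem Q10600 : ∀ i, i < 10600 → P i := stepQ 10599 Q10599 (allL N10599 (tt N11685 (iv F38564)) (tt N11723 (iv F38713)) (tt N11662 (iv F38479)) (tt N10599 F34546) (tt N11728 (iv F38728)) (tt N11729 D11826) (tt N9091 (iv D10696)) (tt N11726 (iv F38725)))
theorem Q10601 : ∀ i, i < 10601 → P i := stepQ 10600 Q10600 (allL N10600 (tt N10452 F34547) (tt N10798 (iv F35148)) (tt N9098 (iv D10697)) (tt N11730 D11827) (tt N10100 F34548) (tt N9100 F34549) (tt N10605 (iv F34573)) (tt N9128 F34550))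
theorem Q10602 : ∀ i, i < 10602 → P i := stepQ 10601 Q10601 (allL N10601 (tt N10104 F34551) (tt N9126 F34552) (tt N10863 (iv F35372)) (tt N11407 (iv F37542)) (tt N9533 F34553) (tt N10601 F34554) (tt N9099 (iv D10698)) (tt N10595 F34555))
theorem Q10603 : ∀ i, i < 10603 → P i := stepQ 10602 Q10602 (allL N10602 (tt N10456 F34556) (tt N9101 F34557) (tt N9238 F34558) (tt N9100 (iv D10699)) (tt N11731 D11828) (tt N11730 (iv F38734)) (tt N9127 F34559) (tt N9319 F34560))
theorem Q10604 : ∀ i, i < 10604 → P i := stepQ 10603 Q10603 (allL N10603 (tt N10446 F34561) (tt N11731 (iv F38737)) (tt N9102 F34562) (tt N10445 F34563) (tt N9101 (iv D10700)) (tt N10800 (iv F35158)) (tt N11517 (iv F37936)) (tt N9326 F34564))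
theorem Q10605 : ∀ i, i < 10605 → P i := stepQ 10604 Q10604 (allL N10604 (tt N10841 (iv F35304)) (tt N9247 F34565) (tt N9326 F34566) (tt N11732 D11829) (tt N9103 F34567) (tt N10810 (iv F35199)) (tt N9325 (iv F34568)) (tt N9102 (iv D10701)))
theorem Q10606 : ∀ i, i < 10606 → P i := stepQ 10605 Q10605 (allL N10605 (tt N9108 F34569) (tt N10076 F34570) (tt N9626 F34571) (tt N11733 D11830) (tt N10614 (iv F34598)) (tt N9105 F34572) (tt N10600 F34573) (tt N9104 (iv D10702)))
theorem Q10607 : ∀ i, i < 10607 → P i := stepQ 10606 Q10606 (allL N10606 (tt N9109 F34574) (tt N9633 F34575) (tt N11217 (iv F36758)) (tt N9105 (iv D10703)) (tt N11734 D11831) (tt N11733 (iv F38748)) (tt N9114 F34576) (tt N9250 F34577))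
theorem Q10608 : ∀ i, i < 10608 → P i := stepQ 10607 Q10607 (allL N10607 (tt N10614 (iv F34595)) (tt N11626 (iv F38336)) (tt N9645 F34578) (tt N11735 D11832) (tt N9108 F34579) (tt N9107 F34580) (tt N9274 F34581) (tt N9106 (iv D10704)))
theorem Q10609 : ∀ i, i < 10609 → P i := stepQ 10608 Q10608 (allL N10608 (tt N10615 (iv F34601)) (tt N10302 F34582) (tt N9743 F34583) (tt N9107 (iv D10705)) (tt N11736 D11833) (tt N11735 (iv F38756)) (tt N9115 F34584) (tt N10316 F34585))
theorem Q10610 : ∀ i, i < 10610 → P i := stepQ 10609 Q10609 (allL N10609 (tt N11733 (iv F38746)) (tt N11631 (iv F38359)) (tt N11215 (iv F36748)) (tt N9108 (iv D10706)) (tt N11737 D11834) (tt N9109 F34586) (tt N11629 (iv F38355)) (tt N9254 F34587))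
theorem Q10611 : ∀ i, i < 10611 → P i := stepQ 10610 Q10610 (allL N10610 (tt N11734 (iv F38751)) (tt N11522 (iv F37955)) (tt N11218 (iv F36762)) (tt N11736 (iv F38761)) (tt N9109 (iv D10707)) (tt N11737 (iv F38764)) (tt N9118 F34588) (tt N9256 F34589))
theorem Q10612 : ∀ i, i < 10612 → P i := stepQ 10611 Q10611 (allL N10611 (tt N11690 (iv F38582)) (tt N9271 F34590) (tt N11738 D11835) (tt N9110 (iv D10708)) (tt N10611 F34591) (tt N11727 (iv F38727)) (tt N11739 D11836) (tt N11732 (iv F38745)))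
theorem Q10613 : ∀ i, i < 10613 → P i := stepQ 10612 Q10612 (allL N10612 (tt N11691 (iv F38584)) (tt N9272 F34592) (tt N11393 (iv F37474)) (tt N11739 (iv F38768)) (tt N9111 F34593) (tt N11740 D11837) (tt N9110 (iv D10709)) (tt N11423 (iv F37618)))
theorem Q10614 : ∀ i, i < 10614 → P i := stepQ 10613 Q10613 (allL N10613 (tt N11692 (iv F38587)) (tt N11741 D11838) (tt N11108 F36339) (tt N10613 F34594) (tt N11740 (iv F38770)) (tt N9111 (iv D10710)) (tt N11729 (iv F38731)) (tt N11384 (iv F37434)))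
theorem Q10615 : ∀ i, i < 10615 → P i := stepQ 10614 Q10614 (allL N10614 (tt N10607 F34595) (tt N10235 F34596) (tt N9631 F34597) (tt N11742 D11839) (tt N10605 F34598) (tt N9113 F34599) (tt N10100 F34600) (tt N9112 (iv D10711)))
theorem Q10616 : ∀ i, i < 10616 → P i := stepQ 10615 Q10615 (allL N10615 (tt N10608 F34601) (tt N9114 F34602) (tt N9839 F34603) (tt N9113 (iv D10712)) (tt N11743 D11840) (tt N11742 (iv F38778)) (tt N9633 F34604) (tt N9122 F34605))
theorem Q10617 : ∀ i, i < 10617 → P i := stepQ 10616 Q10616 (allL N10616 (tt N9117 F34606) (tt N11744 D11841) (tt N9114 (iv D10713)) (tt N10431 F34607) (tt N11745 D11842) (tt N10432 F34608) (tt N11217 (iv F36759)) (tt N9123 F34609))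
theorem Q10618 : ∀ i, i < 10618 → P i := stepQ 10617 Q10617 (allL N10617 (tt N9118 F34610) (tt N11743 (iv F38782)) (tt N11745 (iv F38794)) (tt N11064 (iv F36172)) (tt N9114 (iv D10714)) (tt N10630 (iv F34652)) (tt N11734 (iv F38753)) (tt N9124 F34611))
theorem Q10619 : ∀ i, i < 10619 → P i := stepQ 10618 Q10618 (allL N10618 (tt N11064 (iv F36170)) (tt N11531 (iv F37989)) (tt N9757 F34612) (tt N9118 F34613) (tt N9115 (iv D10715)) (tt N10174 F34614) (tt N11736 (iv F38762)) (tt N10102 F34615))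
theorem Q10620 : ∀ i, i < 10620 → P i := stepQ 10619 Q10619 (allL N10619 (tt N10432 F34616) (tt N11746 D11843) (tt N9116 (iv D10716)) (tt N10167 F34617) (tt N11747 D11844) (tt N9117 F34618) (tt N10735 (iv F34974)) (tt N9132 F34619))
theorem Q10621 : ∀ i, i < 10621 → P i := stepQ 10620 Q10620 (allL N10620 (tt N10630 (iv F34650)) (tt N11635 (iv F38369)) (tt N11747 (iv F38801)) (tt N10174 F34620) (tt N9116 (iv D10717)) (tt N9118 F34621) (tt N11632 (iv F38364)) (tt N9133 F34622))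
theorem Q10622 : ∀ i, i < 10622 → P i := stepQ 10621 Q10621 (allL N10621 (tt N11745 (iv F38793)) (tt N11219 (iv F36766)) (tt N9118 F34623) (tt N11748 D11845) (tt N9117 (iv D10718)) (tt N11747 (iv F38802)) (tt N11218 (iv F36764)) (tt N9135 F34624))
theorem Q10623 : ∀ i, i < 10623 → P i := stepQ 10622 Q10622 (allL N10622 (tt N11409 (iv F37550)) (tt N9119 (iv D10719)) (tt N9794 F34625) (tt N9871 F34626) (tt N9798 F34627) (tt N10622 F34628) (tt N9141 F34629) (tt N11374 (iv F37399)))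
theorem Q10624 : ∀ i, i < 10624 → P i := stepQ 10623 Q10623 (allL N10623 (tt N10220 F34630) (tt N11374 (iv F37394)) (tt N9121 F34631) (tt N11048 (iv F36101)) (tt N10222 F34632) (tt N9120 F34633) (tt N10759 (iv F35043)) (tt N9119 (iv D10720)))
theorem Q10625 : ∀ i, i < 10625 → P i := stepQ 10624 Q10624 (allL N10624 (tt N11539 (iv F38014)) (tt N10320 F34634) (tt N11749 D11846) (tt N9121 (iv D10721)) (tt N11750 D11847) (tt N9122 F34635) (tt N10760 (iv F35045)) (tt N11742 (iv F38780)))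
theorem Q10626 : ∀ i, i < 10626 → P i := stepQ 10625 Q10625 (allL N10625 (tt N11139 (iv F36457)) (tt N11270 (iv F36991)) (tt N9122 (iv D10722)) (tt N11045 (iv F36092)) (tt N11751 D11848) (tt N11749 (iv F38808)) (tt N9302 F34636) (tt N9839 F34637))
theorem Q10627 : ∀ i, i < 10627 → P i := stepQ 10626 Q10626 (allL N10626 (tt N11540 (iv F38016)) (tt N9124 F34638) (tt N11751 (iv F38813)) (tt N10632 (iv F34658)) (tt N9122 (iv D10723)) (tt N11750 (iv F38812)) (tt N9303 F34639) (tt N11743 (iv F38786)))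
theorem Q10628 : ∀ i, i < 10628 → P i := stepQ 10627 Q10627 (allL N10627 (tt N11276 (iv F37018)) (tt N9123 (iv D10724)) (tt N11270 (iv F36994)) (tt N10627 F34640) (tt N11752 D11849) (tt N11753 D11850) (tt N9308 F34641) (tt N11744 (iv F38792)))
theorem Q10629 : ∀ i, i < 10629 → P i := stepQ 10628 Q10628 (allL N10628 (tt N9135 F34642) (tt N11752 (iv F38816)) (tt N9124 F34643) (tt N11754 D11851) (tt N9123 (iv D10725)) (tt N10631 (iv F34655)) (tt N9309 F34644) (tt N11745 (iv F38796)))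
theorem Q10630 : ∀ i, i < 10630 → P i := stepQ 10629 Q10629 (allL N10629 (tt N10478 F34645) (tt N11407 (iv F37541)) (tt N9314 F34646) (tt N9126 F34647) (tt N10131 F34648) (tt N9125 (iv D10726)) (tt N10134 F34649) (tt N11240 (iv F36848)))
theorem Q10631 : ∀ i, i < 10631 → P i := stepQ 10630 Q10630 (allL N10630 (tt N10620 F34650) (tt N11517 (iv F37933)) (tt N11614 (iv F38283)) (tt N10102 F34651) (tt N9127 (iv D10727)) (tt N10617 F34652) (tt N11731 (iv F38740)) (tt N9130 F34653))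
theorem Q10632 : ∀ i, i < 10632 → P i := stepQ 10631 Q10631 (allL N10631 (tt N10634 (iv F34660)) (tt N11615 (iv F38288)) (tt N9130 F34654) (tt N11755 D11852) (tt N9129 (iv D10728)) (tt N10628 F34655) (tt N9324 F34656) (tt N11614 (iv F38286)))
theorem Q10633 : ∀ i, i < 10633 → P i := stepQ 10632 Q10632 (allL N10632 (tt N11601 (iv F38236)) (tt N9133 F34657) (tt N11602 (iv F38242)) (tt N10626 F34658) (tt N9131 (iv D10729)) (tt N11545 (iv F38030)) (tt N10808 (iv F35192)) (tt N11635 F38372))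
theorem Q10634 : ∀ i, i < 10634 → P i := stepQ 10633 Q10633 (allL N10633 (tt N10957 (iv F35708)) (tt N9132 (iv D10730)) (tt N10961 (iv F35720)) (tt N10633 F34659) (tt N11756 D11853) (tt N11659 (iv F38469)) (tt N10809 (iv F35195)) (tt N11746 (iv F38799)))
theorem Q10635 : ∀ i, i < 10635 → P i := stepQ 10634 Q10634 (allL N10634 (tt N10631 F34660) (tt N11756 (iv F38830)) (tt N9133 F34661) (tt N11757 D11854) (tt N9132 (iv D10731)) (tt N9135 F34662) (tt N10810 (iv F35200)) (tt N11747 (iv F38803)))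
theorem Q10636 : ∀ i, i < 10636 → P i := stepQ 10635 Q10635 (allL N10635 (tt N9134 (iv D10732)) (tt N11276 (iv F37019)) (tt N10894 (iv F35479)) (tt N10635 F34663) (tt N11758 D11855) (tt N10933 (iv F35616)) (tt N9327 F34664) (tt N10652 (iv F34725)))
theorem Q10637 : ∀ i, i < 10637 → P i := stepQ 10636 Q10636 (allL N10636 (tt N11758 (iv F38835)) (tt N9135 F34665) (tt N10919 (iv F35569)) (tt N11759 D11856) (tt N9134 (iv D10733)) (tt N11760 D11857) (tt N9328 F34666) (tt N11219 (iv F36769)))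
theorem Q10638 : ∀ i, i < 10638 → P i := stepQ 10637 Q10637 (allL N10637 (tt N10933 (iv F35613)) (tt N11659 F38470) (tt N10920 (iv F35571)) (tt N10637 F34667) (tt N11760 (iv F38840)) (tt N9134 (iv D10734)) (tt N11761 D11858) (tt N10901 F35504))
theorem Q10639 : ∀ i, i < 10639 → P i := stepQ 10638 Q10638 (allL N10638 (tt N11754 (iv F38823)) (tt N11759 (iv F38837)) (tt N11755 (iv F38826)) (tt N9135 (iv D10735)) (tt N10638 F34668) (tt N11757 (iv F38834)) (tt N9330 F34669) (tt N11762 D11859))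
theorem Q10640 : ∀ i, i < 10640 → P i := stepQ 10639 Q10639 (allL N10639 (tt N9983 F34675) (tt N9136 (iv D10736)) (tt N10639 F34670) (tt N9989 F34671) (tt N9897 F34672) (tt N9943 F34673) (tt N10639 F34674) (tt N10936 F35632))
theorem Q10641 : ∀ i, i < 10641 → P i := stepQ 10640 Q10640 (allL N10640 (tt N9635 F34676) (tt N9138 (iv D10737)) (tt N10236 F34677) (tt N9873 F34678) (tt N10595 F34679) (tt N10640 F34680) (tt N9632 F34681) (tt N9533 F34682))
theorem Q10642 : ∀ i, i < 10642 → P i := stepQ 10641 Q10641 (allL N10641 (tt N11710 (iv F38662)) (tt N9139 (iv D10738)) (tt N11709 F38661) (tt N9141 F34683) (tt N11100 (iv F36310)) (tt N9143 F34684) (tt N9871 F34685) (tt N11712 (iv F38676)))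
theorem Q10643 : ∀ i, i < 10643 → P i := stepQ 10642 Q10642 (allL N10642 (tt N11068 (iv F36189)) (tt N11712 (iv F38673)) (tt N9872 F34686) (tt N10767 (iv F35059)) (tt N11101 (iv F36315)) (tt N9140 F34687) (tt N10244 F34688) (tt N9139 (iv D10739)))
theorem Q10644 : ∀ i, i < 10644 → P i := stepQ 10643 Q10643 (allL N10643 (tt N9141 (iv D10740)) (tt N11557 (iv F38065)) (tt N9796 F34689) (tt N11710 (iv F38663)) (tt N9803 F34690) (tt N9147 F34691) (tt N11409 (iv F37556)) (tt N10714 (iv F34909)))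
theorem Q10645 : ∀ i, i < 10645 → P i := stepQ 10644 Q10644 (allL N10644 (tt N9158 F34692) (tt N11102 (iv F36318)) (tt N10702 (iv F34875)) (tt N9142 (iv D10741)) (tt N10771 (iv F35073)) (tt N10741 (iv F34993)) (tt N11348 (iv F37286)) (tt N10333 F34693))
theorem Q10646 : ∀ i, i < 10646 → P i := stepQ 10645 Q10645 (allL N10645 (tt N9162 F34694) (tt N10240 F34695) (tt N10645 F34696) (tt N10773 (iv F35079)) (tt N11347 (iv F37282)) (tt N9145 (iv D10742)) (tt N11028 (iv F36000)) (tt N9146 F34697))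
theorem Q10647 : ∀ i, i < 10647 → P i := stepQ 10646 Q10646 (allL N10646 (tt N10334 F34698) (tt N11563 (iv F38093)) (tt N9811 F34699) (tt N10698 (iv F34862)) (tt N9148 (iv D10743)) (tt N10164 F34700) (tt N11763 D11860) (tt N9155 F34701))
theorem Q10648 : ∀ i, i < 10648 → P i := stepQ 10647 Q10647 (allL N10647 (tt N10335 F34702) (tt N10311 F34703) (tt N9812 F34704) (tt N9149 F34705) (tt N11763 (iv F38849)) (tt N11764 D11861) (tt N9148 (iv D10744)) (tt N9412 F34706))
theorem Q10649 : ∀ i, i < 10649 → P i := stepQ 10648 Q10648 (allL N10648 (tt N9424 F34707) (tt N11765 D11862) (tt N9383 F34708) (tt N11764 (iv F38853)) (tt N9905 F34709) (tt N9149 (iv D10745)) (tt N9382 F34710) (tt N9150 F34711))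
theorem Q10650 : ∀ i, i < 10650 → P i := stepQ 10649 Q10649 (allL N10649 (tt N11184 (iv F36611)) (tt N9150 (iv D10746)) (tt N11766 D11863) (tt N9414 F34712) (tt N11183 (iv F36609)) (tt N11565 (iv F38105)) (tt N10649 F34713) (tt N11765 (iv F38861)))
theorem Q10651 : ∀ i, i < 10651 → P i := stepQ 10650 Q10650 (allL N10650 (tt N11220 (iv F36770)) (tt N9153 F34714) (tt N10694 (iv F34844)) (tt N9152 (iv D10747)) (tt N11767 D11864) (tt N11566 (iv F38108)) (tt N10971 (iv F35760)) (tt N10163 F34715))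
theorem Q10652 : ∀ i, i < 10652 → P i := stepQ 10651 Q10651 (allL N10651 (tt N9811 F34716) (tt N11767 (iv F38867)) (tt N10334 F34717) (tt N9168 F34718) (tt N9153 (iv D10748)) (tt N9155 F34719) (tt N11768 D11865) (tt N10164 F34720))
theorem Q10653 : ∀ i, i < 10653 → P i := stepQ 10652 Q10652 (allL N10652 (tt N9812 F34721) (tt N10971 (iv F35758)) (tt N10335 F34722) (tt N9154 F34723) (tt N11768 (iv F38873)) (tt N9420 F34724) (tt N9153 (iv D10749)) (tt N10635 F34725))
theorem Q10654 : ∀ i, i < 10654 → P i := stepQ 10653 Q10653 (allL N10653 (tt N10771 (iv F35072)) (tt N11351 (iv F37293)) (tt N10703 (iv F34878)) (tt N9160 F34726) (tt N9158 (iv D10750)) (tt N10742 (iv F34997)) (tt N11350 (iv F37291)) (tt N10698 (iv F34864)))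
theorem Q10655 : ∀ i, i < 10655 → P i := stepQ 10654 Q10654 (allL N10654 (tt N10719 (iv F34920)) (tt N11699 (iv F38608)) (tt N10726 (iv F34945)) (tt N10742 (iv F34995)) (tt N9159 (iv D10751)) (tt N9160 F34727) (tt N11698 (iv F38606)) (tt N9168 F34728))
theorem Q10656 : ∀ i, i < 10656 → P i := stepQ 10655 Q10655 (allL N10655 (tt N10772 (iv F35074)) (tt N11346 (iv F37275)) (tt N10782 (iv F35100)) (tt N11350 (iv F37290)) (tt N9161 F34729) (tt N11769 D11866) (tt N9160 (iv D10752)) (tt N9443 F34730))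
theorem Q10657 : ∀ i, i < 10657 → P i := stepQ 10656 Q10656 (allL N10656 (tt N10773 (iv F35077)) (tt N10944 (iv F35665)) (tt N10783 (iv F35103)) (tt N9162 F34731) (tt N11769 (iv F38876)) (tt N9161 (iv D10753)) (tt N10942 F35660) (tt N9444 F34732))
theorem Q10658 : ∀ i, i < 10658 → P i := stepQ 10657 Q10657 (allL N10657 (tt N9167 F34733) (tt N9827 F34734) (tt N9826 F34735) (tt N11726 (iv F38724)) (tt N10973 (iv F35763)) (tt N10903 (iv F35513)) (tt N9165 (iv D10754)) (tt N10657 F34736))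
theorem Q10659 : ∀ i, i < 10659 → P i := stepQ 10658 Q10658 (allL N10658 (tt N11725 (iv F38720)) (tt N9168 F34737) (tt N11700 (iv F38612)) (tt N11767 (iv F38868)) (tt N9166 (iv D10755)) (tt N11573 (iv F38128)) (tt N11770 D11867) (tt N11699 F38611))
theorem Q10660 : ∀ i, i < 10660 → P i := stepQ 10659 Q10659 (allL N10659 (tt N11726 (iv F38722)) (tt N9169 F34738) (tt N11687 (iv F38570)) (tt N9167 F34739) (tt N11770 (iv F38879)) (tt N11771 D11868) (tt N9166 (iv D10756)) (tt N11685 (iv F38568)))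
theorem Q10661 : ∀ i, i < 10661 → P i := stepQ 10660 Q10660 (allL N10660 (tt N10903 (iv F35510)) (tt N9451 F34740) (tt N10390 F34741) (tt N11771 (iv F38882)) (tt N10389 F34742) (tt N9167 (iv D10757)) (tt N11575 (iv F38134)) (tt N10660 F34743))
theorem Q10662 : ∀ i, i < 10662 → P i := stepQ 10661 Q10661 (allL N10661 (tt N10706 (iv F34886)) (tt N11770 (iv F38878)) (tt N10709 (iv F34895)) (tt N11768 (iv F38872)) (tt N9169 F34744) (tt N9455 F34745) (tt N9168 (iv D10758)) (tt N11772 D11869))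
theorem Q10663 : ∀ i, i < 10663 → P i := stepQ 10662 Q10662 (allL N10662 (tt N10707 (iv F34889)) (tt N11685 (iv F38565)) (tt N10710 (iv F34898)) (tt N10662 F34746) (tt N11772 (iv F38883)) (tt N9456 F34747) (tt N11683 F38559) (tt N9169 (iv D10759)))
theorem Q10664 : ∀ i, i < 10664 → P i := stepQ 10663 Q10663 (allL N10663 (tt N10663 F34748) (tt N11037 (iv F36047)) (tt N10663 F34749) (tt N9499 F34750) (tt N10499 F34751) (tt N9174 F34752) (tt N11036 F36045) (tt N9173 (iv D10760)))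
theorem Q10665 : ∀ i, i < 10665 → P i := stepQ 10664 Q10664 (allL N10664 (tt N11330 (iv F37201)) (tt N9211 F34753) (tt N11318 (iv F37167)) (tt N9200 F34754) (tt N9180 (iv D10761)) (tt N11703 (iv F38624)) (tt N11081 (iv F36242)) (tt N11773 D11870))
theorem Q10666 : ∀ i, i < 10666 → P i := stepQ 10665 Q10665 (allL N10665 (tt N11324 (iv F37189)) (tt N9212 F34755) (tt N11128 (iv F36420)) (tt N10665 F34756) (tt N11773 (iv F38886)) (tt N10809 (iv F35194)) (tt N11126 F36415) (tt N9180 (iv D10762)))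
theorem Q10667 : ∀ i, i < 10667 → P i := stepQ 10666 Q10666 (allL N10666 (tt N9181 (iv D10763)) (tt N9184 F34757) (tt N10246 (iv F34762)) (tt N10353 F34758) (tt N9634 F34759) (tt N9470 F34760) (tt N11706 (iv F38640)) (tt N9864 F34761))
theorem Q10668 : ∀ i, i < 10668 → P i := stepQ 10667 Q10667 (allL N10667 (tt N10246 F34763) (tt N11155 (iv F36512)) (tt N9181 (iv D10764)) (tt N10247 F34764) (tt N9874 F34765) (tt N9471 F34766) (tt N11707 (iv F38648)) (tt N9865 F34767))
theorem Q10669 : ∀ i, i < 10669 → P i := stepQ 10668 Q10668 (allL N10668 (tt N9182 (iv D10765)) (tt N10353 F34768) (tt N11774 D11871) (tt N9184 F34769) (tt N9772 F34770) (tt N9186 F34771) (tt N11711 (iv F38671)) (tt N9769 F34772))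
theorem Q10670 : ∀ i, i < 10670 → P i := stepQ 10669 Q10669 (allL N10669 (tt N11774 (iv F38887)) (tt N10060 F34773) (tt N9182 (iv D10766)) (tt N11775 D11872) (tt N9753 F34774) (tt N9187 F34775) (tt N11164 (iv F36545)) (tt N9750 F34776))
theorem Q10671 : ∀ i, i < 10671 → P i := stepQ 10670 Q10670 (allL N10670 (tt N9498 F34777) (tt N9774 F34778) (tt N9520 F34779) (tt N11153 (iv F36509)) (tt N9776 F34780) (tt N10670 F34781) (tt N9183 (iv D10767)) (tt N11158 (iv F36530)))
theorem Q10672 : ∀ i, i < 10672 → P i := stepQ 10671 Q10671 (allL N10671 (tt N9185 F34782) (tt N10244 F34783) (tt N9184 (iv D10768)) (tt N11776 D11873) (tt N11076 (iv F36222)) (tt N9188 F34784) (tt N11712 (iv F38675)) (tt N11042 (iv F36079)))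
theorem Q10673 : ∀ i, i < 10673 → P i := stepQ 10672 Q10672 (allL N10672 (tt N11776 (iv F38895)) (tt N11599 (iv F38231)) (tt N11775 (iv F38893)) (tt N9185 (iv D10769)) (tt N11777 D11874) (tt N9189 F34785) (tt N11713 (iv F38678)) (tt N11778 D11875))
theorem Q10674 : ∀ i, i < 10674 → P i := stepQ 10673 Q10673 (allL N10673 (tt N9187 F34786) (tt N9925 F34787) (tt N9186 (iv D10770)) (tt N11779 D11876) (tt N9749 F34788) (tt N11774 (iv F38890)) (tt N9194 F34789) (tt N9747 F34790))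
theorem Q10675 : ∀ i, i < 10675 → P i := stepQ 10674 Q10674 (allL N10674 (tt N11779 (iv F38903)) (tt N9756 F34791) (tt N9189 F34792) (tt N9187 (iv D10771)) (tt N11780 D11877) (tt N11775 (iv F38894)) (tt N9196 F34793) (tt N11092 (iv F36288)))
theorem Q10676 : ∀ i, i < 10676 → P i := stepQ 10675 Q10675 (allL N10675 (tt N9215 F34794) (tt N9188 (iv D10772)) (tt N9472 F34795) (tt N11781 D11878) (tt N10977 (iv F35780)) (tt N10241 F34796) (tt N9198 F34797) (tt N11040 (iv F36068)))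
theorem Q10677 : ∀ i, i < 10677 → P i := stepQ 10676 Q10676 (allL N10676 (tt N9189 F34798) (tt N11781 (iv F38912)) (tt N11779 (iv F38905)) (tt N9188 (iv D10773)) (tt N11782 D11879) (tt N11776 (iv F38897)) (tt N9199 F34799) (tt N11783 D11880))
theorem Q10678 : ∀ i, i < 10678 → P i := stepQ 10677 Q10677 (allL N10677 (tt N11782 (iv F38917)) (tt N9217 F34800) (tt N11780 (iv F38908)) (tt N11081 (iv F36241)) (tt N9189 (iv D10774)) (tt N11777 (iv F38898)) (tt N9200 F34801) (tt N11784 D11881))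
theorem Q10679 : ∀ i, i < 10679 → P i := stepQ 10678 Q10678 (allL N10678 (tt N11783 (iv F38919)) (tt N9218 F34802) (tt N11092 F36289) (tt N11185 (iv F36617)) (tt N11784 (iv F38924)) (tt N11778 (iv F38901)) (tt N11309 (iv F37141)) (tt N9189 (iv D10775)))
theorem Q10680 : ∀ i, i < 10680 → P i := stepQ 10679 Q10679 (allL N10679 (tt N11228 (iv F36793)) (tt N11177 (iv F36586)) (tt N9190 (iv D10776)) (tt N11785 D11882) (tt N9742 F34803) (tt N9192 F34804) (tt N10064 F34805) (tt N9740 F34806))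
theorem Q10681 : ∀ i, i < 10681 → P i := stepQ 10680 Q10680 (allL N10680 (tt N10340 F34807) (tt N9734 F34808) (tt N11196 (iv F36665)) (tt N11208 (iv F36718)) (tt N9735 F34809) (tt N10680 F34810) (tt N9191 (iv D10777)) (tt N10071 F34811))
theorem Q10682 : ∀ i, i < 10682 → P i := stepQ 10681 Q10681 (allL N10681 (tt N11231 (iv F36810)) (tt N9196 F34812) (tt N9224 F34813) (tt N9192 (iv D10778)) (tt N11786 D11883) (tt N11785 (iv F38926)) (tt N9756 F34814) (tt N11787 D11884))
theorem Q10683 : ∀ i, i < 10683 → P i := stepQ 10682 Q10682 (allL N10682 (tt N9918 F34815) (tt N9743 F34816) (tt N11316 (iv F37160)) (tt N9193 (iv D10779)) (tt N11788 D11885) (tt N11716 (iv F38687)) (tt N9754 F34817) (tt N9922 F34818))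
theorem Q10684 : ∀ i, i < 10684 → P i := stepQ 10683 Q10683 (allL N10683 (tt N9196 F34819) (tt N9924 F34820) (tt N9199 F34821) (tt N9194 (iv D10780)) (tt N11789 D11886) (tt N11717 (iv F38693)) (tt N11779 (iv F38906)) (tt N11790 D11887))
theorem Q10685 : ∀ i, i < 10685 → P i := stepQ 10684 Q10684 (allL N10684 (tt N11789 (iv F38942)) (tt N11786 (iv F38928)) (tt N9200 F34822) (tt N11788 (iv F38939)) (tt N9196 (iv D10781)) (tt N11718 (iv F38696)) (tt N11780 (iv F38910)) (tt N11791 D11888))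
theorem Q10686 : ∀ i, i < 10686 → P i := stepQ 10685 Q10685 (allL N10685 (tt N11790 (iv F38946)) (tt N11787 (iv F38933)) (tt N9201 F34823) (tt N11275 (iv F37014)) (tt N11791 (iv F38952)) (tt N11719 (iv F38700)) (tt N11274 F37010) (tt N9196 (iv D10782)))
theorem Q10687 : ∀ i, i < 10687 → P i := stepQ 10686 Q10686 (allL N10686 (tt N9227 F34824) (tt N9199 F34825) (tt N11792 D11889) (tt N9198 (iv D10783)) (tt N11793 D11890) (tt N11794 D11891) (tt N11781 (iv F38915)) (tt N11795 D11892))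
theorem Q10688 : ∀ i, i < 10688 → P i := stepQ 10687 Q10687 (allL N10687 (tt N9228 F34826) (tt N11028 (iv F35997)) (tt N9475 F34827) (tt N11794 (iv F38961)) (tt N11333 (iv F37216)) (tt N9198 (iv D10784)) (tt N10240 F34828) (tt N10687 F34829))
theorem Q10689 : ∀ i, i < 10689 → P i := stepQ 10688 Q10688 (allL N10688 (tt N9200 F34830) (tt N11793 (iv F38959)) (tt N11789 (iv F38944)) (tt N11330 (iv F37203)) (tt N9199 (iv D10785)) (tt N11720 (iv F38703)) (tt N11782 (iv F38918)) (tt N11796 D11893))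
theorem Q10690 : ∀ i, i < 10690 → P i := stepQ 10689 Q10689 (allL N10689 (tt N9201 F34831) (tt N11795 (iv F38964)) (tt N11790 (iv F38948)) (tt N10689 F34832) (tt N11796 (iv F38969)) (tt N11721 (iv F38707)) (tt N11753 (iv F38821)) (tt N9199 (iv D10786)))
theorem Q10691 : ∀ i, i < 10691 → P i := stepQ 10690 Q10690 (allL N10690 (tt N11796 (iv F38968)) (tt N9231 F34833) (tt N11791 (iv F38951)) (tt N11797 D11894) (tt N9201 F34834) (tt N11722 (iv F38711)) (tt N11798 D11895) (tt N9200 (iv D10787)))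
theorem Q10692 : ∀ i, i < 10692 → P i := stepQ 10691 Q10691 (allL N10691 (tt N11753 (iv F38818)) (tt N9232 F34835) (tt N11274 (iv F37009)) (tt N10691 F34836) (tt N11798 (iv F38973)) (tt N11276 (iv F37021)) (tt N9201 (iv D10788)) (tt N11309 (iv F37142)))
theorem Q10693 : ∀ i, i < 10693 → P i := stepQ 10692 Q10692 (allL N10692 (tt N10274 F34837) (tt N9203 (iv D10789)) (tt N11799 D11896) (tt N10259 F34838) (tt N11097 (iv F36299)) (tt N11172 (iv F36568)) (tt N9205 F34839) (tt N11800 D11897))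
theorem Q10694 : ∀ i, i < 10694 → P i := stepQ 10693 Q10693 (allL N10693 (tt N9788 F34840) (tt N11800 (iv F38980)) (tt N9234 F34841) (tt N11801 D11898) (tt N11095 (iv F36293)) (tt N9204 F34842) (tt N11091 (iv F36286)) (tt N9203 (iv D10790)))
theorem Q10695 : ∀ i, i < 10695 → P i := stepQ 10694 Q10694 (allL N10694 (tt N9823 F34843) (tt N11174 (iv F36574)) (tt N10650 F34844) (tt N9204 (iv D10791)) (tt N11802 D11899) (tt N11801 (iv F38985)) (tt N9466 F34845) (tt N10261 F34846))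
theorem Q10696 : ∀ i, i < 10696 → P i := stepQ 10695 Q10695 (allL N10695 (tt N9205 (iv D10792)) (tt N9648 F34847) (tt N10212 (iv F34852)) (tt N9908 F34848) (tt N11083 (iv F36249)) (tt N9206 F34849) (tt N10274 F34850) (tt N9673 F34851))
theorem Q10697 : ∀ i, i < 10697 → P i := stepQ 10696 Q10696 (allL N10696 (tt N10212 F34853) (tt N9236 F34854) (tt N9205 (iv D10793)) (tt N11803 D11900) (tt N10341 F34855) (tt N9207 F34856) (tt N11799 (iv F38977)) (tt N10044 F34857))
theorem Q10698 : ∀ i, i < 10698 → P i := stepQ 10697 Q10697 (allL N10697 (tt N10207 F34858) (tt N9208 F34859) (tt N11132 (iv F36433)) (tt N9207 (iv D10794)) (tt N11804 D11901) (tt N11803 (iv F38993)) (tt N11293 (iv F37088)) (tt N10042 F34860))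
theorem Q10699 : ∀ i, i < 10699 → P i := stepQ 10698 Q10698 (allL N10698 (tt N11555 (iv F38055)) (tt N11804 (iv F38996)) (tt N9211 F34861) (tt N10646 F34862) (tt N9208 (iv D10795)) (tt N9241 F34863) (tt N11294 (iv F37092)) (tt N10653 F34864))
theorem Q10700 : ∀ i, i < 10700 → P i := stepQ 10699 Q10699 (allL N10699 (tt N11329 (iv F37198)) (tt N9210 F34865) (tt N11805 D11902) (tt N9209 (iv D10796)) (tt N11806 D11903) (tt N11807 D11904) (tt N11296 (iv F37099)) (tt N11808 D11905))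
theorem Q10701 : ∀ i, i < 10701 → P i := stepQ 10700 Q10700 (allL N10700 (tt N11333 (iv F37214)) (tt N9244 F34866) (tt N9478 F34867) (tt N11807 (iv F39006)) (tt N9228 F34868) (tt N9209 (iv D10797)) (tt N9445 F34870) (tt N10700 F34869))
theorem Q10702 : ∀ i, i < 10702 → P i := stepQ 10701 Q10701 (allL N10701 (tt N9211 F34871) (tt N11806 (iv F39003)) (tt N11555 (iv F38057)) (tt N9229 F34872) (tt N9210 (iv D10798)) (tt N9245 F34873) (tt N11297 (iv F37103)) (tt N11809 D11906))
theorem Q10703 : ∀ i, i < 10703 → P i := stepQ 10702 Q10702 (allL N10702 (tt N9212 F34874) (tt N11808 (iv F39008)) (tt N10644 F34875) (tt N10702 F34876) (tt N11809 (iv F39012)) (tt N9246 F34877) (tt N11810 D11907) (tt N9210 (iv D10799)))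
theorem Q10704 : ∀ i, i < 10704 → P i := stepQ 10703 Q10703 (allL N10703 (tt N11809 (iv F39010)) (tt N11773 (iv F38885)) (tt N10653 F34878) (tt N11811 D11908) (tt N9212 F34879) (tt N9247 F34880) (tt N11812 D11909) (tt N9211 (iv D10800)))
theorem Q10705 : ∀ i, i < 10705 → P i := stepQ 10704 Q10704 (allL N10704 (tt N11810 (iv F39015)) (tt N11126 (iv F36412)) (tt N10040 F34881) (tt N10704 F34882) (tt N11812 (iv F39024)) (tt N11813 D11910) (tt N9212 (iv D10801)) (tt N11300 (iv F37111)))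
theorem Q10706 : ∀ i, i < 10706 → P i := stepQ 10705 Q10705 (allL N10705 (tt N11227 (iv F36789)) (tt N9214 F34883) (tt N9756 F34884) (tt N9213 (iv D10802)) (tt N11748 (iv F38806)) (tt N10790 (iv F35118)) (tt N9224 F34885) (tt N10827 (iv F35256)))
theorem Q10707 : ∀ i, i < 10707 → P i := stepQ 10706 Q10706 (allL N10706 (tt N10661 F34886) (tt N11748 (iv F38804)) (tt N9217 F34887) (tt N11219 (iv F36767)) (tt N9214 (iv D10803)) (tt N10910 (iv F35541)) (tt N9225 F34888) (tt N11814 D11911))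
theorem Q10708 : ∀ i, i < 10708 → P i := stepQ 10707 Q10707 (allL N10707 (tt N10662 F34889) (tt N10827 (iv F35254)) (tt N9218 F34890) (tt N10707 F34891) (tt N11814 (iv F39031)) (tt N10823 F35245) (tt N11815 D11912) (tt N9214 (iv D10804)))
theorem Q10709 : ∀ i, i < 10709 → P i := stepQ 10708 Q10708 (allL N10708 (tt N11781 (iv F38911)) (tt N9216 F34892) (tt N11816 D11913) (tt N9215 (iv D10805)) (tt N11817 D11914) (tt N11280 (iv F37039)) (tt N9227 F34893) (tt N11282 (iv F37052)))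
theorem Q10710 : ∀ i, i < 10710 → P i := stepQ 10709 Q10709 (allL N10709 (tt N9217 F34894) (tt N11817 (iv F39043)) (tt N10661 F34895) (tt N11297 (iv F37102)) (tt N9216 (iv D10806)) (tt N10965 (iv F35738)) (tt N9229 F34896) (tt N11818 D11915))
theorem Q10711 : ∀ i, i < 10711 → P i := stepQ 10710 Q10710 (allL N10710 (tt N9218 F34897) (tt N11282 (iv F37048)) (tt N10662 F34898) (tt N11281 (iv F37044)) (tt N11818 (iv F39047)) (tt N10966 (iv F35743)) (tt N11819 D11916) (tt N9216 (iv D10807)))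
theorem Q10712 : ∀ i, i < 10712 → P i := stepQ 10711 Q10711 (allL N10711 (tt N11818 (iv F39045)) (tt N11784 (iv F38923)) (tt N11814 (iv F39030)) (tt N11820 D11917) (tt N9218 F34899) (tt N11610 (iv F38267)) (tt N11821 D11918) (tt N9217 (iv D10808)))
theorem Q10713 : ∀ i, i < 10713 → P i := stepQ 10712 Q10712 (allL N10712 (tt N11819 (iv F39048)) (tt N11309 (iv F37143)) (tt N11815 (iv F39034)) (tt N10928 (iv F35597)) (tt N11821 (iv F39055)) (tt N10927 (iv F35593)) (tt N9218 (iv D10809)) (tt N9232 F34900))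
theorem Q10714 : ∀ i, i < 10714 → P i := stepQ 10713 Q10713 (allL N10713 (tt N10161 F34901) (tt N9252 F34902) (tt N9219 (iv D10810)) (tt N11822 D11919) (tt N10732 (iv F34964)) (tt N10072 F34903) (tt N9222 F34904) (tt N10089 F34905))
theorem Q10715 : ∀ i, i < 10715 → P i := stepQ 10714 Q10714 (allL N10714 (tt N9222 F34906) (tt N11562 (iv F38089)) (tt N9221 (iv D10811)) (tt N11823 D11920) (tt N10731 (iv F34958)) (tt N9223 F34907) (tt N10161 F34908) (tt N10643 F34909))
theorem Q10716 : ∀ i, i < 10716 → P i := stepQ 10715 Q10715 (allL N10715 (tt N11823 (iv F39062)) (tt N9258 F34910) (tt N11785 (iv F38925)) (tt N9222 (iv D10812)) (tt N11824 D11921) (tt N9224 F34911) (tt N11822 (iv F39061)) (tt N11825 D11922))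
theorem Q10717 : ∀ i, i < 10717 → P i := stepQ 10716 Q10716 (allL N10716 (tt N9224 F34912) (tt N10594 F34913) (tt N11231 (iv F36811)) (tt N9223 (iv D10813)) (tt N11826 D11923) (tt N11823 (iv F39063)) (tt N11227 (iv F36792)) (tt N10567 F34914))
theorem Q10718 : ∀ i, i < 10718 → P i := stepQ 10717 Q10717 (allL N10717 (tt N11826 (iv F39073)) (tt N9225 F34915) (tt N11786 (iv F38929)) (tt N11218 (iv F36763)) (tt N9224 (iv D10814)) (tt N11824 (iv F39067)) (tt N11748 (iv F38807)) (tt N11827 D11924))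
theorem Q10719 : ∀ i, i < 10719 → P i := stepQ 10718 Q10718 (allL N10718 (tt N10567 F34916) (tt N9226 F34917) (tt N11787 (iv F38934)) (tt N10566 F34918) (tt N11827 (iv F39078)) (tt N11825 (iv F39071)) (tt N10578 (iv F34919)) (tt N9224 (iv D10815)))
theorem Q10720 : ∀ i, i < 10720 → P i := stepQ 10719 Q10719 (allL N10719 (tt N10654 F34920) (tt N11827 (iv F39077)) (tt N9231 F34921) (tt N11828 D11925) (tt N9226 F34922) (tt N9262 F34923) (tt N11829 D11926) (tt N9225 (iv D10816)))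
theorem Q10721 : ∀ i, i < 10721 → P i := stepQ 10720 Q10720 (allL N10720 (tt N10530 F34924) (tt N10578 F34925) (tt N9232 F34926) (tt N10537 F34927) (tt N11829 (iv F39088)) (tt N11830 D11927) (tt N9226 (iv D10817)) (tt N11815 (iv F39036)))
theorem Q10722 : ∀ i, i < 10722 → P i := stepQ 10721 Q10721 (allL N10721 (tt N11792 (iv F38953)) (tt N10534 F34928) (tt N9227 (iv D10818)) (tt N9488 F34929) (tt N11831 D11928) (tt N11339 (iv F37245)) (tt N11816 (iv F39041)) (tt N10528 (iv F34930)))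
theorem Q10723 : ∀ i, i < 10723 → P i := stepQ 10722 Q10722 (allL N10722 (tt N11793 (iv F38958)) (tt N9229 F34931) (tt N11831 (iv F39095)) (tt N11806 (iv F39004)) (tt N9227 (iv D10819)) (tt N11832 D11929) (tt N11817 (iv F39044)) (tt N11833 D11930))
theorem Q10724 : ∀ i, i < 10724 → P i := stepQ 10723 Q10723 (allL N10723 (tt N11794 (iv F38960)) (tt N9266 F34932) (tt N11339 (iv F37244)) (tt N9228 F34933) (tt N11832 (iv F39098)) (tt N9227 (iv D10820)) (tt N11834 D11931) (tt N11835 D11932))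
theorem Q10725 : ∀ i, i < 10725 → P i := stepQ 10724 Q10724 (allL N10724 (tt N11795 (iv F38963)) (tt N9230 F34934) (tt N10528 F34935) (tt N10724 F34936) (tt N11833 (iv F39101)) (tt N11835 (iv F39110)) (tt N10526 (iv F34937)) (tt N9227 (iv D10821)))
theorem Q10726 : ∀ i, i < 10726 → P i := stepQ 10725 Q10725 (allL N10725 (tt N10240 F34938) (tt N9268 F34939) (tt N9492 F34940) (tt N11834 (iv F39105)) (tt N9445 F34941) (tt N10239 F34942) (tt N9228 (iv D10822)) (tt N9437 (iv F34943)))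
theorem Q10727 : ∀ i, i < 10727 → P i := stepQ 10726 Q10726 (allL N10726 (tt N9231 F34944) (tt N11833 (iv F39099)) (tt N10654 F34945) (tt N11836 D11933) (tt N9230 F34946) (tt N9269 F34947) (tt N11837 D11934) (tt N9229 (iv D10823)))
theorem Q10728 : ∀ i, i < 10728 → P i := stepQ 10727 Q10727 (allL N10727 (tt N9232 F34948) (tt N10526 F34949) (tt N10530 F34950) (tt N10727 F34951) (tt N11837 (iv F39119)) (tt N11679 (iv F38545)) (tt N9230 (iv D10824)) (tt N11819 (iv F39052)))
theorem Q10729 : ∀ i, i < 10729 → P i := stepQ 10728 Q10728 (allL N10728 (tt N11836 (iv F39111)) (tt N11797 (iv F38970)) (tt N11838 D11935) (tt N9231 (iv D10825)) (tt N10728 F34952) (tt N9271 F34953) (tt N11839 D11936) (tt N11811 (iv F39022)))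
theorem Q10730 : ∀ i, i < 10730 → P i := stepQ 10729 Q10729 (allL N10729 (tt N11837 (iv F39116)) (tt N11798 (iv F38972)) (tt N11829 (iv F39087)) (tt N11839 (iv F39125)) (tt N9232 F34954) (tt N11840 D11937) (tt N9231 (iv D10826)) (tt N11821 (iv F39056)))
theorem Q10731 : ∀ i, i < 10731 → P i := stepQ 10730 Q10730 (allL N10730 (tt N11679 (iv F38542)) (tt N10933 (iv F35614)) (tt N11830 (iv F39091)) (tt N10730 F34955) (tt N11840 (iv F39127)) (tt N9232 (iv D10827)) (tt N9273 F34956) (tt N10927 (iv F35594)))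
theorem Q10732 : ∀ i, i < 10732 → P i := stepQ 10731 Q10731 (allL N10731 (tt N9804 F34957) (tt N11799 (iv F38975)) (tt N9233 (iv D10828)) (tt N11841 D11938) (tt N10714 F34958) (tt N9808 F34959) (tt N9236 F34960) (tt N9803 F34961))
theorem Q10733 : ∀ i, i < 10733 → P i := stepQ 10732 Q10732 (allL N10732 (tt N9236 F34962) (tt N10330 F34963) (tt N9235 (iv D10829)) (tt N11842 D11939) (tt N10713 F34964) (tt N9237 F34965) (tt N9804 F34966) (tt N11373 (iv F37391)))
theorem Q10734 : ∀ i, i < 10734 → P i := stepQ 10733 Q10733 (allL N10733 (tt N11842 (iv F39133)) (tt N11803 (iv F38992)) (tt N11730 (iv F38733)) (tt N9236 (iv D10830)) (tt N11843 D11940) (tt N9238 F34967) (tt N11841 (iv F39132)) (tt N11844 D11941))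
theorem Q10735 : ∀ i, i < 10735 → P i := stepQ 10734 Q10734 (allL N10734 (tt N9239 F34968) (tt N9237 (iv D10831)) (tt N9336 F34969) (tt N11845 D11942) (tt N10095 F34970) (tt N11846 D11943) (tt N10938 (iv F35641)) (tt N10093 F34971))
theorem Q10736 : ∀ i, i < 10736 → P i := stepQ 10735 Q10735 (allL N10735 (tt N9238 F34972) (tt N11845 (iv F39147)) (tt N10456 F34973) (tt N9237 (iv D10832)) (tt N11847 D11944) (tt N11842 (iv F39136)) (tt N10619 F34974) (tt N10583 F34975))
theorem Q10737 : ∀ i, i < 10737 → P i := stepQ 10736 Q10736 (allL N10736 (tt N11847 (iv F39157)) (tt N9241 F34976) (tt N11731 (iv F38738)) (tt N11414 (iv F37574)) (tt N9238 (iv D10833)) (tt N11843 (iv F39139)) (tt N11614 (iv F38285)) (tt N11848 D11945))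
theorem Q10738 : ∀ i, i < 10738 → P i := stepQ 10737 Q10737 (allL N10737 (tt N10583 F34977) (tt N9242 F34978) (tt N9319 F34979) (tt N10539 F34980) (tt N11848 (iv F39165)) (tt N11844 (iv F39144)) (tt N9317 F34981) (tt N9238 (iv D10834)))
theorem Q10739 : ∀ i, i < 10739 → P i := stepQ 10738 Q10738 (allL N10738 (tt N11845 (iv F39146)) (tt N9240 F34982) (tt N11849 D11946) (tt N9239 (iv D10835)) (tt N11850 D11947) (tt N11851 D11948) (tt N10939 (iv F35645)) (tt N11852 D11949))
theorem Q10740 : ∀ i, i < 10740 → P i := stepQ 10739 Q10739 (allL N10739 (tt N11846 (iv F39151)) (tt N9678 F34983) (tt N9339 F34984) (tt N11851 (iv F39176)) (tt N10087 F34985) (tt N9239 (iv D10836)) (tt N11853 D11950) (tt N9677 F34986))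
theorem Q10741 : ∀ i, i < 10741 → P i := stepQ 10740 Q10740 (allL N10740 (tt N9241 F34987) (tt N11850 (iv F39172)) (tt N9245 F34988) (tt N10097 F34989) (tt N9240 (iv D10837)) (tt N11555 (iv F38059)) (tt N10934 (iv F35622)) (tt N11828 (iv F39083)))
theorem Q10742 : ∀ i, i < 10742 → P i := stepQ 10741 Q10741 (allL N10741 (tt N9242 F34990) (tt N11852 (iv F39178)) (tt N9246 F34991) (tt N10096 F34992) (tt N11828 (iv F39081)) (tt N10644 F34993) (tt N11854 D11951) (tt N9240 (iv D10838)))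
theorem Q10743 : ∀ i, i < 10743 → P i := stepQ 10742 Q10742 (allL N10742 (tt N11828 (iv F39080)) (tt N11848 (iv F39162)) (tt N9247 F34994) (tt N10654 F34995) (tt N9242 F34996) (tt N10653 F34997) (tt N11855 D11952) (tt N9241 (iv D10839)))
theorem Q10744 : ∀ i, i < 10744 → P i := stepQ 10743 Q10743 (allL N10743 (tt N11854 (iv F39188)) (tt N9317 F34998) (tt N9248 F34999) (tt N10538 F35000) (tt N11855 (iv F39196)) (tt N11856 D11953) (tt N9242 (iv D10840)) (tt N9323 F35001))
theorem Q10745 : ∀ i, i < 10745 → P i := stepQ 10744 Q10744 (allL N10744 (tt N10430 F35002) (tt N11849 (iv F39168)) (tt N9243 (iv D10841)) (tt N9341 F35003) (tt N11612 (iv F38274)) (tt N11012 (iv F35926)) (tt N9438 F35004) (tt N11676 (iv F38530)))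
theorem Q10746 : ∀ i, i < 10746 → P i := stepQ 10745 Q10745 (allL N10745 (tt N11701 (iv F38614)) (tt N9245 F35005) (tt N11612 (iv F38273)) (tt N9265 F35006) (tt N9243 (iv D10842)) (tt N11621 (iv F38315)) (tt N9439 F35007) (tt N11857 D11954))
theorem Q10747 : ∀ i, i < 10747 → P i := stepQ 10746 Q10746 (allL N10746 (tt N11030 (iv F36007)) (tt N11807 (iv F39005)) (tt N11012 (iv F35924)) (tt N9244 F35008) (tt N11621 (iv F38314)) (tt N9243 (iv D10843)) (tt N9444 F35009) (tt N11858 D11955))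
theorem Q10748 : ∀ i, i < 10748 → P i := stepQ 10747 Q10747 (allL N10747 (tt N10840 (iv F35299)) (tt N9246 F35010) (tt N11676 F38531) (tt N10747 F35011) (tt N11857 (iv F39204)) (tt N11858 (iv F39209)) (tt N9456 F35012) (tt N9243 (iv D10844)))
theorem Q10749 : ∀ i, i < 10749 → P i := stepQ 10748 Q10748 (allL N10748 (tt N9247 F35013) (tt N11857 (iv F39203)) (tt N11828 F39084) (tt N11838 (iv F39121)) (tt N9246 F35014) (tt N11809 (iv F39013)) (tt N11859 D11956) (tt N9245 (iv D10845)))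
theorem Q10750 : ∀ i, i < 10750 → P i := stepQ 10749 Q10749 (allL N10749 (tt N9248 F35015) (tt N9456 F35016) (tt N11854 (iv F39190)) (tt N10749 F35017) (tt N11859 (iv F39212)) (tt N11860 D11957) (tt N9246 (iv D10846)) (tt N9450 F35018))
theorem Q10751 : ∀ i, i < 10751 → P i := stepQ 10750 Q10750 (allL N10750 (tt N11838 (iv F39120)) (tt N11732 (iv F38742)) (tt N11836 (iv F39112)) (tt N9247 (iv D10847)) (tt N10750 F35019) (tt N11811 (iv F39021)) (tt N11861 D11958) (tt N9271 F35020))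
theorem Q10752 : ∀ i, i < 10752 → P i := stepQ 10751 Q10751 (allL N10751 (tt N11859 (iv F39210)) (tt N9325 F35021) (tt N11855 (iv F39194)) (tt N11861 (iv F39218)) (tt N9248 F35022) (tt N11862 D11959) (tt N9247 (iv D10848)) (tt N11617 (iv F38299)))
theorem Q10753 : ∀ i, i < 10753 → P i := stepQ 10752 Q10752 (allL N10752 (tt N11860 (iv F39214)) (tt N9329 F35023) (tt N11856 (iv F39199)) (tt N10752 F35024) (tt N11862 (iv F39221)) (tt N9248 (iv D10849)) (tt N11813 (iv F39027)) (tt N10929 (iv F35604)))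
theorem Q10754 : ∀ i, i < 10754 → P i := stepQ 10753 Q10753 (allL N10753 (tt N9254 F35025) (tt N11529 (iv F37979)) (tt N11863 D11960) (tt N9249 (iv D10850)) (tt N11864 D11961) (tt N9250 F35026) (tt N11537 (iv F38009)) (tt N11733 (iv F38750)))
theorem Q10755 : ∀ i, i < 10755 → P i := stepQ 10754 Q10754 (allL N10754 (tt N9255 F35027) (tt N11364 (iv F37353)) (tt N9250 (iv D10851)) (tt N10095 F35028) (tt N11865 D11962) (tt N11863 (iv F39224)) (tt N9276 F35029) (tt N11217 (iv F36760)))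
theorem Q10756 : ∀ i, i < 10756 → P i := stepQ 10755 Q10755 (allL N10755 (tt N9256 F35030) (tt N10174 F35031) (tt N11865 (iv F39231)) (tt N11635 (iv F38370)) (tt N9250 (iv D10852)) (tt N11864 (iv F39229)) (tt N9277 F35032) (tt N11734 (iv F38754)))
theorem Q10757 : ∀ i, i < 10757 → P i := stepQ 10756 Q10756 (allL N10756 (tt N9252 F35033) (tt N11449 (iv F37693)) (tt N9251 (iv D10853)) (tt N11866 D11963) (tt N11453 (iv F37716)) (tt N10476 F35034) (tt N9257 F35035) (tt N11448 F37691))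
theorem Q10758 : ∀ i, i < 10758 → P i := stepQ 10757 Q10757 (allL N10757 (tt N9253 F35036) (tt N10292 F35037) (tt N11448 (iv F37686)) (tt N11867 D11964) (tt N11452 (iv F37710)) (tt N10454 F35038) (tt N10315 F35039) (tt N9251 (iv D10854)))
theorem Q10759 : ∀ i, i < 10759 → P i := stepQ 10758 Q10758 (allL N10758 (tt N11866 (iv F39233)) (tt N11822 (iv F39058)) (tt N11650 (iv F38427)) (tt N9252 (iv D10855)) (tt N11868 D11965) (tt N10883 (iv F35438)) (tt N9258 F35040) (tt N11869 D11966))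
theorem Q10760 : ∀ i, i < 10760 → P i := stepQ 10759 Q10759 (allL N10759 (tt N11448 (iv F37685)) (tt N10089 F35041) (tt N9253 F35042) (tt N11558 (iv F38070)) (tt N11451 (iv F37704)) (tt N10814 (iv F35222)) (tt N10623 F35043) (tt N9252 (iv D10856)))
theorem Q10761 : ∀ i, i < 10761 → P i := stepQ 10760 Q10760 (allL N10760 (tt N11867 (iv F39237)) (tt N9254 F35044) (tt N11870 D11967) (tt N9253 (iv D10857)) (tt N11871 D11968) (tt N10819 (iv F35233)) (tt N10624 F35045) (tt N11631 F38361))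
theorem Q10762 : ∀ i, i < 10762 → P i := stepQ 10761 Q10761 (allL N10761 (tt N11863 (iv F39222)) (tt N11550 (iv F38039)) (tt N9254 (iv D10858)) (tt N10087 F35046) (tt N11872 D11969) (tt N9255 F35047) (tt N11476 (iv F37800)) (tt N11215 (iv F36750)))
theorem Q10763 : ∀ i, i < 10763 → P i := stepQ 10762 Q10762 (allL N10762 (tt N11864 (iv F39228)) (tt N11871 (iv F39244)) (tt N11872 (iv F39246)) (tt N11548 (iv F38035)) (tt N9254 (iv D10859)) (tt N9256 F35048) (tt N11544 (iv F38028)) (tt N11737 (iv F38765)))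
theorem Q10764 : ∀ i, i < 10764 → P i := stepQ 10763 Q10763 (allL N10763 (tt N11865 (iv F39230)) (tt N10097 F35049) (tt N9256 F35050) (tt N11850 (iv F39173)) (tt N9255 (iv D10860)) (tt N11872 (iv F39247)) (tt N9278 F35051) (tt N11218 (iv F36765)))
theorem Q10765 : ∀ i, i < 10765 → P i := stepQ 10764 Q10764 (allL N10764 (tt N11562 (iv F38088)) (tt N9257 (iv D10861)) (tt N10256 F35052) (tt N11873 D11970) (tt N11454 (iv F37720)) (tt N10263 F35053) (tt N11449 (iv F37697)) (tt N10336 F35054))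
theorem Q10766 : ∀ i, i < 10766 → P i := stepQ 10765 Q10765 (allL N10765 (tt N9258 F35055) (tt N11873 (iv F39248)) (tt N9361 F35056) (tt N9257 (iv D10862)) (tt N11874 D11971) (tt N9259 F35057) (tt N11866 (iv F39236)) (tt N11875 D11972))
theorem Q10767 : ∀ i, i < 10767 → P i := stepQ 10766 Q10766 (allL N10766 (tt N11874 (iv F39250)) (tt N11824 (iv F39066)) (tt N11649 (iv F38424)) (tt N11552 (iv F38048)) (tt N9258 (iv D10863)) (tt N9260 F35058) (tt N11868 (iv F39242)) (tt N11876 D11973))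
theorem Q10768 : ∀ i, i < 10768 → P i := stepQ 10767 Q10767 (allL N10767 (tt N11875 (iv F39253)) (tt N11825 (iv F39069)) (tt N11395 (iv F37483)) (tt N10642 F35059) (tt N11876 (iv F39258)) (tt N9261 F35060) (tt N11443 (iv F37679)) (tt N9258 (iv D10864)))
theorem Q10769 : ∀ i, i < 10769 → P i := stepQ 10768 Q10768 (allL N10768 (tt N9260 F35061) (tt N10296 F35062) (tt N9363 F35063) (tt N11514 (iv F37926)) (tt N9259 (iv D10865)) (tt N11874 (iv F39252)) (tt N10477 F35064) (tt N11877 D11974))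
theorem Q10770 : ∀ i, i < 10770 → P i := stepQ 10769 Q10769 (allL N10769 (tt N9261 F35065) (tt N10191 F35066) (tt N9357 F35067) (tt N9638 F35068) (tt N11877 (iv F39263)) (tt N11875 (iv F39256)) (tt N9637 F35069) (tt N9259 (iv D10866)))
theorem Q10771 : ∀ i, i < 10771 → P i := stepQ 10770 Q10770 (allL N10770 (tt N11877 (iv F39260)) (tt N9262 F35070) (tt N11394 (iv F37479)) (tt N11878 D11975) (tt N9261 F35071) (tt N11876 (iv F39259)) (tt N11263 (iv F36965)) (tt N9260 (iv D10867)))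
theorem Q10772 : ∀ i, i < 10772 → P i := stepQ 10771 Q10771 (allL N10771 (tt N10653 F35072) (tt N11878 (iv F39267)) (tt N11809 (iv F39011)) (tt N9262 (iv D10868)) (tt N10644 F35073) (tt N11828 (iv F39082)) (tt N11879 D11976) (tt N11555 (iv F38061)))
theorem Q10773 : ∀ i, i < 10773 → P i := stepQ 10772 Q10772 (allL N10772 (tt N10655 F35074) (tt N11263 (iv F36962)) (tt N9272 F35075) (tt N11879 (iv F39273)) (tt N9263 F35076) (tt N11880 D11977) (tt N9262 (iv D10869)) (tt N10907 (iv F35532)))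
theorem Q10774 : ∀ i, i < 10774 → P i := stepQ 10773 Q10773 (allL N10773 (tt N10656 F35077) (tt N11440 (iv F37667)) (tt N9273 F35078) (tt N10645 F35079) (tt N11880 (iv F39277)) (tt N9263 (iv D10870)) (tt N11830 (iv F39093)) (tt N10908 (iv F35536)))
theorem Q10775 : ∀ i, i < 10775 → P i := stepQ 10774 Q10774 (allL N10774 (tt N9457 F35080) (tt N10297 F35081) (tt N9265 F35082) (tt N10906 (iv F35525)) (tt N9264 (iv D10871)) (tt N10904 (iv F35518)) (tt N10535 F35083) (tt N11881 D11978))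
theorem Q10776 : ∀ i, i < 10776 → P i := stepQ 10775 Q10775 (allL N10775 (tt N9440 F35084) (tt N10298 F35085) (tt N9267 F35086) (tt N9576 F35087) (tt N11881 (iv F39281)) (tt N10888 (iv F35455)) (tt N11882 D11979) (tt N9264 (iv D10872)))
theorem Q10777 : ∀ i, i < 10777 → P i := stepQ 10776 Q10776 (allL N10776 (tt N10943 (iv F35661)) (tt N11832 (iv F39097)) (tt N10904 (iv F35516)) (tt N11621 (iv F38313)) (tt N9266 F35088) (tt N9265 (iv D10873)) (tt N11883 D11980) (tt N11884 D11981))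
theorem Q10778 : ∀ i, i < 10778 → P i := stepQ 10777 Q10777 (allL N10777 (tt N11688 (iv F38574)) (tt N9269 F35089) (tt N11881 (iv F39280)) (tt N11885 D11982) (tt N9267 F35090) (tt N11884 (iv F39291)) (tt N11886 D11983) (tt N9265 (iv D10874)))
theorem Q10779 : ∀ i, i < 10779 → P i := stepQ 10778 Q10778 (allL N10778 (tt N10944 (iv F35664)) (tt N11834 (iv F39104)) (tt N10905 (iv F35521)) (tt N9268 F35091) (tt N11883 (iv F39288)) (tt N9434 F35092) (tt N9266 (iv D10875)) (tt N11887 D11984))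
theorem Q10780 : ∀ i, i < 10780 → P i := stepQ 10779 Q10779 (allL N10779 (tt N10911 (iv F35542)) (tt N11835 (iv F39107)) (tt N10888 F35457) (tt N10779 F35093) (tt N11884 (iv F39290)) (tt N9267 F35094) (tt N11888 D11985) (tt N9266 (iv D10876)))
theorem Q10781 : ∀ i, i < 10781 → P i := stepQ 10780 Q10780 (allL N10780 (tt N11689 (iv F38578)) (tt N9270 F35095) (tt N11882 (iv F39284)) (tt N10780 F35096) (tt N11886 (iv F39295)) (tt N11889 D11986) (tt N9267 (iv D10877)) (tt N10951 (iv F35691)))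
theorem Q10782 : ∀ i, i < 10782 → P i := stepQ 10781 Q10781 (allL N10781 (tt N9271 F35097) (tt N11885 (iv F39292)) (tt N11811 (iv F39019)) (tt N9269 (iv D10878)) (tt N10781 F35098) (tt N11836 (iv F39114)) (tt N11890 D11987) (tt N11838 (iv F39124)))
theorem Q10783 : ∀ i, i < 10783 → P i := stepQ 10782 Q10782 (allL N10782 (tt N9272 F35099) (tt N11886 (iv F39294)) (tt N10655 F35100) (tt N11890 (iv F39303)) (tt N9270 F35101) (tt N11891 D11988) (tt N9269 (iv D10879)) (tt N10953 (iv F35699)))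
theorem Q10784 : ∀ i, i < 10784 → P i := stepQ 10783 Q10783 (allL N10783 (tt N9273 F35102) (tt N11681 (iv F38549)) (tt N10656 F35103) (tt N10783 F35104) (tt N11891 (iv F39307)) (tt N9270 (iv D10880)) (tt N11679 F38546) (tt N10954 (iv F35703)))
theorem Q10785 : ∀ i, i < 10785 → P i := stepQ 10784 Q10784 (allL N10784 (tt N11811 (iv F39018)) (tt N11892 D11989) (tt N9271 (iv D10881)) (tt N11809 F39014) (tt N10784 F35105) (tt N11838 (iv F39123)) (tt N11893 D11990) (tt N11836 (iv F39115)))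
theorem Q10786 : ∀ i, i < 10786 → P i := stepQ 10785 Q10785 (allL N10785 (tt N11890 (iv F39302)) (tt N11739 (iv F38767)) (tt N11893 (iv F39310)) (tt N9272 F35106) (tt N10785 F35107) (tt N11894 D11991) (tt N9271 (iv D10882)) (tt N11895 D11992))
theorem Q10787 : ∀ i, i < 10787 → P i := stepQ 10786 Q10786 (allL N10786 (tt N11891 (iv F39305)) (tt N11896 D11993) (tt N11880 (iv F39276)) (tt N11894 (iv F39312)) (tt N9273 F35108) (tt N9272 (iv D10883)) (tt N11840 (iv F39128)) (tt N11623 (iv F38325)))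
theorem Q10788 : ∀ i, i < 10788 → P i := stepQ 10787 Q10787 (allL N10787 (tt N11761 (iv F38841)) (tt N9273 (iv D10884)) (tt N11897 D11994) (tt N10787 F35109) (tt N11896 (iv F39319)) (tt N11741 (iv F38772)) (tt N10933 (iv F35617)) (tt N10917 F35563))
theorem Q10789 : ∀ i, i < 10789 → P i := stepQ 10788 Q10788 (allL N10788 (tt N11377 (iv F37409)) (tt N11625 (iv F38331)) (tt N11361 (iv F37341)) (tt N9274 (iv D10885)) (tt N11898 D11995) (tt N9275 F35110) (tt N11735 (iv F38757)) (tt N9300 F35111))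
theorem Q10790 : ∀ i, i < 10790 → P i := stepQ 10789 Q10789 (allL N10789 (tt N11378 (iv F37413)) (tt N9277 F35112) (tt N11362 (iv F37346)) (tt N11632 (iv F38363)) (tt N9275 (iv D10886)) (tt N11898 (iv F39321)) (tt N10174 F35113) (tt N9303 F35114))
theorem Q10791 : ∀ i, i < 10791 → P i := stepQ 10790 Q10790 (allL N10790 (tt N10286 F35115) (tt N9276 (iv D10887)) (tt N10067 F35116) (tt N10069 F35117) (tt N11899 D11996) (tt N10705 F35118) (tt N11364 (iv F37355)) (tt N9308 F35119))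
theorem Q10792 : ∀ i, i < 10792 → P i := stepQ 10791 Q10791 (allL N10791 (tt N9278 F35120) (tt N11899 (iv F39324)) (tt N9277 F35121) (tt N11900 D11997) (tt N9276 (iv D10888)) (tt N11628 (iv F38350)) (tt N11865 (iv F39232)) (tt N9309 F35122))
theorem Q10793 : ∀ i, i < 10793 → P i := stepQ 10792 Q10792 (allL N10792 (tt N11900 (iv F39329)) (tt N10934 (iv F35619)) (tt N11640 (iv F38378)) (tt N9278 (iv D10889)) (tt N10939 (iv F35644)) (tt N11639 (iv F38376)) (tt N11850 (iv F39174)) (tt N11901 D11998))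
theorem Q10794 : ∀ i, i < 10794 → P i := stepQ 10793 Q10793 (allL N10793 (tt N9312 F35123) (tt N9530 F35124) (tt N9289 F35125) (tt N11577 (iv F38141)) (tt N10797 (iv F35144)) (tt N9281 (iv D10890)) (tt N9283 F35126) (tt N10099 F35127))
theorem Q10795 : ∀ i, i < 10795 → P i := stepQ 10794 Q10794 (allL N10794 (tt N9314 F35128) (tt N11902 D11999) (tt N10478 F35129) (tt N9283 F35130) (tt N11584 (iv F38173)) (tt N9282 (iv D10891)) (tt N11577 (iv F38143)) (tt N11903 D12000))
theorem Q10796 : ∀ i, i < 10796 → P i := stepQ 10795 Q10795 (allL N10795 (tt N9315 F35131) (tt N10795 F35132) (tt N10479 F35133) (tt N9790 F35134) (tt N11585 (iv F38178)) (tt N11903 (iv F39347)) (tt N10795 F35135) (tt N9282 (iv D10892)))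
theorem Q10797 : ∀ i, i < 10797 → P i := stepQ 10796 Q10796 (allL N10796 (tt N10109 (iv F35140)) (tt N9283 (iv D10893)) (tt N9533 F35136) (tt N11902 (iv F39340)) (tt N10863 (iv F35373)) (tt N10796 F35137) (tt N9530 F35138) (tt N10236 F35139))
theorem Q10798 : ∀ i, i < 10798 → P i := stepQ 10797 Q10797 (allL N10797 (tt N9298 F35141) (tt N10074 F35142) (tt N9285 F35143) (tt N11592 (iv F38205)) (tt N10793 F35144) (tt N9284 (iv D10894)) (tt N9345 F35145) (tt N10073 F35146))
theorem Q10799 : ∀ i, i < 10799 → P i := stepQ 10798 Q10798 (allL N10798 (tt N9299 F35147) (tt N10600 F35148) (tt N10073 F35149) (tt N11904 D12001) (tt N10802 (iv F35168)) (tt N9286 F35150) (tt N10076 F35151) (tt N9285 (iv D10895)))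
theorem Q10800 : ∀ i, i < 10800 → P i := stepQ 10799 Q10799 (allL N10799 (tt N9305 F35152) (tt N9287 F35153) (tt N11658 (iv F38464)) (tt N9286 (iv D10896)) (tt N11905 D12002) (tt N11904 (iv F39350)) (tt N10444 F35154) (tt N9293 F35155))
theorem Q10801 : ∀ i, i < 10801 → P i := stepQ 10800 Q10800 (allL N10800 (tt N9318 F35156) (tt N11905 (iv F39354)) (tt N10586 F35157) (tt N11624 (iv F38327)) (tt N9287 (iv D10897)) (tt N10603 F35158) (tt N11906 D12003) (tt N9295 F35159))
theorem Q10802 : ∀ i, i < 10802 → P i := stepQ 10801 Q10801 (allL N10801 (tt N9319 F35160) (tt N10444 F35161) (tt N10583 F35162) (tt N9288 F35163) (tt N11906 (iv F39361)) (tt N11907 D12004) (tt N9287 (iv D10898)) (tt N10456 F35164))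
theorem Q10803 : ∀ i, i < 10803 → P i := stepQ 10802 Q10802 (allL N10802 (tt N9320 F35165) (tt N10100 F35166) (tt N10099 F35167) (tt N11907 (iv F39366)) (tt N10798 F35168) (tt N9288 (iv D10899)) (tt N10235 F35169) (tt N9289 F35170))
theorem Q10804 : ∀ i, i < 10804 → P i := stepQ 10803 Q10803 (allL N10803 (tt N10182 F35171) (tt N9290 (iv D10900)) (tt N10831 (iv F35271)) (tt N11593 (iv F38209)) (tt N9296 F35172) (tt N10803 F35173) (tt N9349 F35174) (tt N10181 (iv F35175)))
theorem Q10805 : ∀ i, i < 10805 → P i := stepQ 10804 Q10804 (allL N10804 (tt N10172 F35176) (tt N10181 F35177) (tt N9292 F35178) (tt N10411 (iv F35181)) (tt N9297 F35179) (tt N9291 F35180) (tt N11908 D12005) (tt N9290 (iv D10901)))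
theorem Q10806 : ∀ i, i < 10806 → P i := stepQ 10805 Q10805 (allL N10805 (tt N11625 (iv F38330)) (tt N10839 (iv F35297)) (tt N11909 D12006) (tt N9292 (iv D10902)) (tt N11910 D12007) (tt N9293 F35182) (tt N11911 D12008) (tt N11904 (iv F39352)))
theorem Q10807 : ∀ i, i < 10807 → P i := stepQ 10806 Q10806 (allL N10806 (tt N11626 (iv F38335)) (tt N10437 F35183) (tt N11908 (iv F39371)) (tt N11911 (iv F39383)) (tt N9301 F35184) (tt N10323 F35185) (tt N9292 (iv D10903)) (tt N9352 F35186))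
theorem Q10808 : ∀ i, i < 10808 → P i := stepQ 10807 Q10807 (allL N10807 (tt N10414 F35187) (tt N11912 D12009) (tt N9293 (iv D10904)) (tt N10413 F35188) (tt N11913 D12010) (tt N11909 (iv F39379)) (tt N10416 F35189) (tt N11658 (iv F38466)))
theorem Q10809 : ∀ i, i < 10809 → P i := stepQ 10808 Q10808 (allL N10808 (tt N11627 (iv F38341)) (tt N9295 F35190) (tt N11913 (iv F39392)) (tt N9303 F35191) (tt N9293 (iv D10905)) (tt N11910 (iv F39381)) (tt N10632 F35192) (tt N11905 (iv F39356)))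
theorem Q10810 : ∀ i, i < 10810 → P i := stepQ 10809 Q10809 (allL N10809 (tt N11914 D12011) (tt N9294 (iv D10906)) (tt N11912 (iv F39386)) (tt N10809 F35193) (tt N11915 D12012) (tt N10665 F35194) (tt N10633 F35195) (tt N10544 F35196))
theorem Q10811 : ∀ i, i < 10811 → P i := stepQ 10810 Q10810 (allL N10810 (tt N9324 F35197) (tt N11915 (iv F39400)) (tt N9295 F35198) (tt N11916 D12013) (tt N9294 (iv D10907)) (tt N10604 F35199) (tt N10634 F35200) (tt N10586 F35201))
theorem Q10812 : ∀ i, i < 10812 → P i := stepQ 10811 Q10811 (allL N10811 (tt N9296 (iv D10908)) (tt N10175 F35202) (tt N10081 (iv F35208)) (tt N10369 F35203) (tt N10182 F35204) (tt N10811 F35205) (tt N9358 F35206) (tt N10080 (iv F35207)))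
theorem Q10813 : ∀ i, i < 10813 → P i := stepQ 10812 Q10812 (allL N10812 (tt N10081 F35209) (tt N9298 F35210) (tt N9296 (iv D10909)) (tt N11917 D12014) (tt N10831 (iv F35272)) (tt N10812 F35211) (tt N9359 F35212) (tt N10079 (iv F35213)))
theorem Q10814 : ∀ i, i < 10814 → P i := stepQ 10813 Q10813 (allL N10813 (tt N10080 F35214) (tt N9297 F35215) (tt N10079 F35216) (tt N11209 (iv F36722)) (tt N10181 F35217) (tt N10813 F35218) (tt N10085 F35219) (tt N9296 (iv D10910)))
theorem Q10815 : ∀ i, i < 10815 → P i := stepQ 10814 Q10814 (allL N10814 (tt N11216 (iv F36751)) (tt N10085 F35220) (tt N9301 F35221) (tt N11214 (iv F36745)) (tt N11908 (iv F39373)) (tt N10759 F35222) (tt N9297 (iv D10911)) (tt N9362 F35223))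
theorem Q10816 : ∀ i, i < 10816 → P i := stepQ 10815 Q10815 (allL N10815 (tt N11592 (iv F38202)) (tt N11917 (iv F39411)) (tt N11391 (iv F37462)) (tt N9298 (iv D10912)) (tt N11390 (iv F37457)) (tt N9304 F35224) (tt N9364 F35225) (tt N11249 (iv F36899)))
theorem Q10817 : ∀ i, i < 10817 → P i := stepQ 10816 Q10816 (allL N10816 (tt N11904 (iv F39348)) (tt N9300 F35226) (tt N11569 (iv F38117)) (tt N9299 (iv D10913)) (tt N11918 D12015) (tt N9305 F35227) (tt N10439 F35228) (tt N11625 (iv F38334)))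
theorem Q10818 : ∀ i, i < 10818 → P i := stepQ 10817 Q10817 (allL N10817 (tt N11462 (iv F37749)) (tt N11919 D12016) (tt N9300 (iv D10914)) (tt N11356 F37324) (tt N11920 D12017) (tt N9302 F35229) (tt N11921 D12018) (tt N11361 (iv F37344)))
theorem Q10819 : ∀ i, i < 10819 → P i := stepQ 10818 Q10818 (allL N10818 (tt N11630 (iv F38356)) (tt N11918 (iv F39416)) (tt N11920 (iv F39424)) (tt N11910 (iv F39380)) (tt N9300 (iv D10915)) (tt N9303 F35230) (tt N11922 D12019) (tt N11898 (iv F39322)))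
theorem Q10820 : ∀ i, i < 10820 → P i := stepQ 10819 Q10819 (allL N10819 (tt N11631 (iv F38358)) (tt N10439 F35231) (tt N11921 (iv F39427)) (tt N9301 F35232) (tt N11922 (iv F39431)) (tt N10760 F35233) (tt N9300 (iv D10916)) (tt N11867 (iv F39241)))
theorem Q10821 : ∀ i, i < 10821 → P i := stepQ 10820 Q10820 (allL N10820 (tt N10285 (iv F35237)) (tt N9302 (iv D10917)) (tt N9308 F35234) (tt N10066 F35235) (tt N11923 D12020) (tt N11180 (iv F36597)) (tt N11270 (iv F36992)) (tt N10067 F35236))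
theorem Q10822 : ∀ i, i < 10822 → P i := stepQ 10821 Q10821 (allL N10821 (tt N11464 (iv F37756)) (tt N11923 (iv F39434)) (tt N9303 F35238) (tt N11924 D12021) (tt N9302 (iv D10918)) (tt N11920 (iv F39425)) (tt N11751 (iv F38814)) (tt N11362 (iv F37348)))
theorem Q10823 : ∀ i, i < 10823 → P i := stepQ 10822 Q10822 (allL N10822 (tt N11905 (iv F39353)) (tt N9307 F35239) (tt N11678 (iv F38538)) (tt N10838 (iv F35295)) (tt N9305 (iv D10919)) (tt N11918 (iv F39417)) (tt N10447 F35240) (tt N11627 (iv F38346)))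
theorem Q10824 : ∀ i, i < 10824 → P i := stepQ 10823 Q10823 (allL N10823 (tt N9456 F35241) (tt N9306 (iv D10920)) (tt N10424 F35242) (tt N10823 F35243) (tt N11925 D12022) (tt N10707 (iv F35245)) (tt N10840 (iv F35302)) (tt N9397 F35244))
theorem Q10825 : ∀ i, i < 10825 → P i := stepQ 10824 Q10824 (allL N10824 (tt N9325 F35246) (tt N11925 (iv F39438)) (tt N9307 F35247) (tt N11926 D12023) (tt N9306 (iv D10921)) (tt N9309 F35248) (tt N10841 (iv F35307)) (tt N11628 (iv F38352)))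
theorem Q10826 : ∀ i, i < 10826 → P i := stepQ 10825 Q10825 (allL N10825 (tt N9308 (iv D10922)) (tt N9327 F35249) (tt N10285 F35250) (tt N10825 F35251) (tt N11927 D12024) (tt N11723 (iv F38716)) (tt N11276 (iv F37022)) (tt N10286 F35252))
theorem Q10827 : ∀ i, i < 10827 → P i := stepQ 10826 Q10826 (allL N10826 (tt N11927 (iv F39447)) (tt N9309 F35253) (tt N11923 (iv F39435)) (tt N11928 D12025) (tt N9308 (iv D10923)) (tt N11929 D12026) (tt N11752 (iv F38817)) (tt N11899 (iv F39328)))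
theorem Q10828 : ∀ i, i < 10828 → P i := stepQ 10827 Q10827 (allL N10827 (tt N11723 (iv F38712)) (tt N10707 F35254) (tt N11180 F36599) (tt N10827 F35255) (tt N11929 (iv F39457)) (tt N9308 (iv D10924)) (tt N11721 (iv F38708)) (tt N10705 F35256))
theorem Q10829 : ∀ i, i < 10829 → P i := stepQ 10828 Q10828 (allL N10828 (tt N9330 F35257) (tt N11928 (iv F39451)) (tt N11916 (iv F39405)) (tt N9309 (iv D10925)) (tt N10828 F35258) (tt N11926 (iv F39445)) (tt N11754 (iv F38825)) (tt N11930 D12027))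
theorem Q10830 : ∀ i, i < 10830 → P i := stepQ 10829 Q10829 (allL N10829 (tt N10099 F35259) (tt N10106 (iv F35265)) (tt N9320 F35260) (tt N10232 F35261) (tt N10350 F35262) (tt N9310 (iv D10926)) (tt N10234 F35263) (tt N9312 F35264))
theorem Q10831 : ∀ i, i < 10831 → P i := stepQ 10830 Q10830 (allL N10830 (tt N11577 (iv F38138)) (tt N11931 D12028) (tt N10134 F35266) (tt N9312 F35267) (tt N10133 F35268) (tt N9311 (iv D10927)) (tt N9314 F35269) (tt N11406 (iv F37539)))
theorem Q10832 : ∀ i, i < 10832 → P i := stepQ 10831 Q10831 (allL N10831 (tt N10107 F35270) (tt N9312 (iv D10928)) (tt N10803 F35271) (tt N11931 (iv F39466)) (tt N10812 F35272) (tt N10831 F35273) (tt N9316 F35274) (tt N10106 F35275))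
theorem Q10833 : ∀ i, i < 10833 → P i := stepQ 10832 Q10832 (allL N10832 (tt N11584 (iv F38171)) (tt N11371 (iv F37380)) (tt N10131 F35276) (tt N10884 (iv F35439)) (tt N9314 F35277) (tt N9313 (iv D10929)) (tt N10133 F35278) (tt N11932 D12029))
theorem Q10834 : ∀ i, i < 10834 → P i := stepQ 10833 Q10833 (allL N10833 (tt N11585 (iv F38175)) (tt N9332 F35279) (tt N10132 F35280) (tt N11766 (iv F38863)) (tt N9315 F35281) (tt N11932 (iv F39473)) (tt N10833 F35282) (tt N9313 (iv D10930)))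
theorem Q10835 : ∀ i, i < 10835 → P i := stepQ 10834 Q10834 (allL N10834 (tt N11933 D12030) (tt N9314 (iv D10931)) (tt N11147 (iv F36487)) (tt N9316 F35283) (tt N11371 (iv F37381)) (tt N9333 F35284) (tt N11931 (iv F39469)) (tt N11144 (iv F36479)))
theorem Q10836 : ∀ i, i < 10836 → P i := stepQ 10835 Q10835 (allL N10835 (tt N11903 (iv F39344)) (tt N11144 (iv F36475)) (tt N11240 (iv F36849)) (tt N11559 (iv F38076)) (tt N11932 (iv F39472)) (tt N9315 F35285) (tt N11150 (iv F36499)) (tt N9314 (iv D10932)))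
theorem Q10837 : ∀ i, i < 10837 → P i := stepQ 10836 Q10836 (allL N10836 (tt N9316 (iv D10933)) (tt N10109 F35286) (tt N10869 (iv F35395)) (tt N11933 (iv F39475)) (tt N10877 (iv F35419)) (tt N9335 F35287) (tt N10107 F35288) (tt N10860 (iv F35361)))
theorem Q10838 : ∀ i, i < 10838 → P i := stepQ 10837 Q10837 (allL N10837 (tt N10586 F35289) (tt N11855 (iv F39193)) (tt N9318 F35290) (tt N10531 F35291) (tt N9317 (iv D10934)) (tt N10536 F35292) (tt N11848 (iv F39166)) (tt N9324 F35293))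
theorem Q10839 : ∀ i, i < 10839 → P i := stepQ 10838 Q10838 (allL N10838 (tt N11906 (iv F39357)) (tt N9326 F35294) (tt N11848 (iv F39163)) (tt N10822 F35295) (tt N9319 F35296) (tt N11934 D12031) (tt N9318 (iv D10935)) (tt N11731 (iv F38741)))
theorem Q10840 : ∀ i, i < 10840 → P i := stepQ 10839 Q10839 (allL N10839 (tt N11907 (iv F39363)) (tt N10805 F35297) (tt N11844 (iv F39142)) (tt N9320 F35298) (tt N11934 (iv F39480)) (tt N9319 (iv D10936)) (tt N11618 (iv F38303)) (tt N11730 (iv F38735)))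
theorem Q10841 : ∀ i, i < 10841 → P i := stepQ 10840 Q10840 (allL N10840 (tt N10747 F35299) (tt N9321 (iv D10937)) (tt N10509 F35300) (tt N10840 F35301) (tt N11935 D12032) (tt N10925 (iv F35587)) (tt N10823 F35302) (tt N10541 F35303))
theorem Q10842 : ∀ i, i < 10842 → P i := stepQ 10841 Q10841 (allL N10841 (tt N10604 F35304) (tt N11935 (iv F39482)) (tt N9322 F35305) (tt N11936 D12033) (tt N9321 (iv D10938)) (tt N9324 F35306) (tt N10824 F35307) (tt N10536 F35308))
theorem Q10843 : ∀ i, i < 10843 → P i := stepQ 10842 Q10842 (allL N10842 (tt N9323 (iv D10939)) (tt N11914 (iv F39394)) (tt N9450 F35309) (tt N10842 F35310) (tt N11937 D12034) (tt N11938 D12035) (tt N9448 F35311) (tt N11854 (iv F39192)))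
theorem Q10844 : ∀ i, i < 10844 → P i := stepQ 10843 Q10843 (allL N10843 (tt N11937 (iv F39492)) (tt N9324 F35312) (tt N11617 (iv F38297)) (tt N11939 D12036) (tt N9323 (iv D10940)) (tt N11940 D12037) (tt N11615 F38291) (tt N11855 (iv F39197)))
theorem Q10845 : ∀ i, i < 10845 → P i := stepQ 10844 Q10844 (allL N10844 (tt N11938 (iv F39495)) (tt N10925 F35588) (tt N10929 (iv F35601)) (tt N10844 F35313) (tt N11940 (iv F39502)) (tt N9323 (iv D10941)) (tt N11941 D12038) (tt N11856 (iv F39202)))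
theorem Q10846 : ∀ i, i < 10846 → P i := stepQ 10845 Q10845 (allL N10845 (tt N11916 (iv F39404)) (tt N11939 (iv F39500)) (tt N9330 F35314) (tt N9324 (iv D10942)) (tt N10845 F35315) (tt N11936 (iv F39489)) (tt N11755 (iv F38829)) (tt N11942 D12039))
theorem Q10847 : ∀ i, i < 10847 → P i := stepQ 10846 Q10846 (allL N10846 (tt N11926 (iv F39442)) (tt N11861 (iv F39217)) (tt N11936 (iv F39487)) (tt N9325 (iv D10943)) (tt N10846 F35316) (tt N9330 F35317) (tt N11732 (iv F38744)) (tt N11943 D12040))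
theorem Q10848 : ∀ i, i < 10848 → P i := stepQ 10847 Q10847 (allL N10847 (tt N9328 F35318) (tt N11927 (iv F39448)) (tt N10893 (iv F35475)) (tt N11944 D12041) (tt N9327 (iv D10944)) (tt N11945 D12042) (tt N11758 (iv F38836)) (tt N10902 (iv F35509)))
theorem Q10849 : ∀ i, i < 10849 → P i := stepQ 10848 Q10848 (allL N10848 (tt N9329 F35319) (tt N11729 (iv F38729)) (tt N10891 F35469) (tt N10848 F35320) (tt N11945 (iv F39520)) (tt N9327 (iv D10945)) (tt N11741 (iv F38773)) (tt N10899 (iv F35497)))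
theorem Q10850 : ∀ i, i < 10850 → P i := stepQ 10849 Q10849 (allL N10849 (tt N11944 (iv F39517)) (tt N9330 F35321) (tt N11946 D12043) (tt N9328 (iv D10946)) (tt N10849 F35322) (tt N11947 D12044) (tt N11759 (iv F38839)) (tt N11948 D12045))
theorem Q10851 : ∀ i, i < 10851 → P i := stepQ 10850 Q10850 (allL N10850 (tt N11945 (iv F39519)) (tt N11862 (iv F39220)) (tt N10916 (iv F35557)) (tt N11947 (iv F39522)) (tt N9329 F35323) (tt N9328 (iv D10947)) (tt N11949 D12046) (tt N10930 (iv F35607)))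
theorem Q10852 : ∀ i, i < 10852 → P i := stepQ 10851 Q10851 (allL N10851 (tt N11741 F38774) (tt N11813 (iv F39028)) (tt N10917 (iv F35561)) (tt N10851 F35324) (tt N11949 (iv F39527)) (tt N11761 (iv F38843)) (tt N9329 (iv D10948)) (tt N11897 (iv F39320)))
theorem Q10853 : ∀ i, i < 10853 → P i := stepQ 10852 Q10852 (allL N10852 (tt N11930 (iv F39459)) (tt N11948 (iv F39524)) (tt N11942 (iv F39508)) (tt N11901 (iv F39336)) (tt N10852 F35325) (tt N11943 (iv F39516)) (tt N11950 D12047) (tt N9330 (iv D10949)))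
theorem Q10854 : ∀ i, i < 10854 → P i := stepQ 10853 Q10853 (allL N10853 (tt N10853 F35326) (tt N11143 (iv F36470)) (tt N10853 F35327) (tt N9566 F35328) (tt N9334 F35329) (tt N9332 F35330) (tt N9565 F35331) (tt N9331 (iv D10950)))
theorem Q10855 : ∀ i, i < 10855 → P i := stepQ 10854 Q10854 (allL N10854 (tt N10854 F35332) (tt N11766 (iv F38862)) (tt N9890 F35337) (tt N9332 (iv D10951)) (tt N9567 F35333) (tt N9566 F35334) (tt N10854 F35335) (tt N9903 F35336))
theorem Q10856 : ∀ i, i < 10856 → P i := stepQ 10855 Q10855 (allL N10855 (tt N9333 (iv D10952)) (tt N10855 F35338) (tt N11053 (iv F36123)) (tt N9335 F35339) (tt N11368 (iv F37370)) (tt N11933 (iv F39476)) (tt N10855 F35340) (tt N11051 F36117))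
theorem Q10857 : ∀ i, i < 10857 → P i := stepQ 10856 Q10856 (allL N10856 (tt N9338 F35341) (tt N9337 F35342) (tt N11653 (iv F38439)) (tt N9336 (iv D10953)) (tt N10166 F35343) (tt N11951 D12048) (tt N10941 (iv F35656)) (tt N10179 F35344))
theorem Q10858 : ∀ i, i < 10858 → P i := stepQ 10857 Q10857 (allL N10857 (tt N9339 F35345) (tt N10137 F35346) (tt N11846 (iv F39153)) (tt N11951 (iv F39531)) (tt N10086 F35347) (tt N9336 (iv D10954)) (tt N10426 F35348) (tt N10078 F35349))
theorem Q10859 : ∀ i, i < 10859 → P i := stepQ 10858 Q10858 (allL N10858 (tt N11653 (iv F38437)) (tt N9341 F35350) (tt N9338 (iv D10955)) (tt N11849 (iv F39169)) (tt N10505 F35351) (tt N11952 D12049) (tt N9574 F35352) (tt N10381 F35353))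
theorem Q10860 : ∀ i, i < 10860 → P i := stepQ 10859 Q10859 (allL N10859 (tt N11951 (iv F39529)) (tt N9517 F35354) (tt N11952 (iv F39535)) (tt N9339 F35355) (tt N11213 (iv F36742)) (tt N9338 (iv D10956)) (tt N11212 F36739) (tt N10378 F35356))
theorem Q10861 : ∀ i, i < 10861 → P i := stepQ 10860 Q10860 (allL N10860 (tt N10426 F35357) (tt N9518 F35358) (tt N11853 (iv F39184)) (tt N11212 (iv F36737)) (tt N10088 F35359) (tt N10428 F35360) (tt N9339 (iv D10957)) (tt N10836 F35361))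
theorem Q10862 : ∀ i, i < 10862 → P i := stepQ 10861 Q10861 (allL N10861 (tt N9365 F35362) (tt N10861 F35363) (tt N9346 F35364) (tt N10374 F35365) (tt N9344 F35366) (tt N11953 D12050) (tt N9343 (iv D10958)) (tt N10160 F35367))
theorem Q10863 : ∀ i, i < 10863 → P i := stepQ 10862 Q10862 (allL N10862 (tt N9364 F35368) (tt N11954 D12051) (tt N9347 F35369) (tt N9345 F35370) (tt N11953 (iv F39542)) (tt N9344 (iv D10959)) (tt N11592 (iv F38207)) (tt N10158 F35371))
theorem Q10864 : ∀ i, i < 10864 → P i := stepQ 10863 Q10863 (allL N10863 (tt N10083 (iv F35377)) (tt N9345 (iv D10960)) (tt N10601 F35372) (tt N11954 (iv F39546)) (tt N10796 F35373) (tt N10863 F35374) (tt N10074 F35375) (tt N10077 F35376))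
theorem Q10865 : ∀ i, i < 10865 → P i := stepQ 10864 Q10864 (allL N10864 (tt N11388 (iv F37446)) (tt N11014 (iv F35932)) (tt N11953 (iv F39540)) (tt N9353 F35378) (tt N9347 F35379) (tt N9346 (iv D10961)) (tt N10366 F35380) (tt N11955 D12052))
theorem Q10866 : ∀ i, i < 10866 → P i := stepQ 10865 Q10865 (allL N10865 (tt N11389 (iv F37451)) (tt N9369 F35381) (tt N10160 F35382) (tt N11956 D12053) (tt N9348 F35383) (tt N11955 (iv F39552)) (tt N10394 F35384) (tt N9346 (iv D10962)))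
theorem Q10867 : ∀ i, i < 10867 → P i := stepQ 10866 Q10866 (allL N10866 (tt N11015 (iv F35936)) (tt N9347 (iv D10963)) (tt N11382 (iv F37426)) (tt N9349 F35385) (tt N11014 (iv F35935)) (tt N9371 F35386) (tt N11593 (iv F38212)) (tt N11957 D12054))
theorem Q10868 : ∀ i, i < 10868 → P i := stepQ 10867 Q10867 (allL N10867 (tt N11642 (iv F38388)) (tt N11957 (iv F39556)) (tt N10158 F35387) (tt N11958 D12055) (tt N11955 (iv F39551)) (tt N9348 F35388) (tt N11959 D12056) (tt N9347 (iv D10964)))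
theorem Q10869 : ∀ i, i < 10869 → P i := stepQ 10868 Q10868 (allL N10868 (tt N10460 F35389) (tt N9373 F35390) (tt N9668 F35391) (tt N9348 (iv D10965)) (tt N11960 D12057) (tt N11958 (iv F39562)) (tt N9926 F35392) (tt N9351 F35393))
theorem Q10870 : ∀ i, i < 10870 → P i := stepQ 10869 Q10869 (allL N10869 (tt N9349 (iv D10966)) (tt N10184 F35394) (tt N10836 F35395) (tt N11015 (iv F35937)) (tt N9358 F35396) (tt N9376 F35397) (tt N10182 F35398) (tt N11853 (iv F39187)))
theorem Q10871 : ∀ i, i < 10871 → P i := stepQ 10870 Q10870 (allL N10870 (tt N11853 (iv F39182)) (tt N9350 F35399) (tt N10426 F35400) (tt N11961 D12058) (tt N9360 F35401) (tt N9377 F35402) (tt N11846 (iv F39155)) (tt N9349 (iv D10967)))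
theorem Q10872 : ∀ i, i < 10872 → P i := stepQ 10871 Q10871 (allL N10871 (tt N11644 (iv F38398)) (tt N11961 (iv F39573)) (tt N11508 (iv F37904)) (tt N9350 (iv D10968)) (tt N11962 D12059) (tt N9351 F35403) (tt N11963 D12060) (tt N11958 (iv F39563)))
theorem Q10873 : ∀ i, i < 10873 → P i := stepQ 10872 Q10872 (allL N10872 (tt N11645 (iv F38402)) (tt N11846 (iv F39152)) (tt N9352 F35404) (tt N11963 (iv F39577)) (tt N9362 F35405) (tt N10330 F35406) (tt N9350 (iv D10969)) (tt N11908 (iv F39375)))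
theorem Q10874 : ∀ i, i < 10874 → P i := stepQ 10873 Q10873 (allL N10873 (tt N11646 (iv F38408)) (tt N9381 F35407) (tt N11510 (iv F37915)) (tt N9363 F35408) (tt N9351 (iv D10970)) (tt N11962 (iv F39576)) (tt N10332 F35409) (tt N11960 (iv F39572)))
theorem Q10875 : ∀ i, i < 10875 → P i := stepQ 10874 Q10874 (allL N10874 (tt N11386 (iv F37437)) (tt N9384 F35410) (tt N11964 D12061) (tt N9354 (iv D10971)) (tt N11965 D12062) (tt N11501 (iv F37885)) (tt N10363 F35411) (tt N11956 (iv F39555)))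
theorem Q10876 : ∀ i, i < 10876 → P i := stepQ 10875 Q10875 (allL N10875 (tt N11395 (iv F37482)) (tt N11474 (iv F37791)) (tt N11875 (iv F39254)) (tt N9356 (iv D10972)) (tt N11966 D12063) (tt N9357 F35412) (tt N11352 (iv F37300)) (tt N9361 F35413))
theorem Q10877 : ∀ i, i < 10877 → P i := stepQ 10876 Q10876 (allL N10876 (tt N11394 (iv F37477)) (tt N9388 F35414) (tt N11877 (iv F39262)) (tt N11965 (iv F39583)) (tt N9357 (iv D10973)) (tt N11966 (iv F39585)) (tt N10368 F35415) (tt N9363 F35416))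
theorem Q10878 : ∀ i, i < 10878 → P i := stepQ 10877 Q10877 (allL N10877 (tt N9359 F35417) (tt N10083 F35418) (tt N9358 (iv D10974)) (tt N11023 (iv F35979)) (tt N10836 F35419) (tt N9391 F35420) (tt N10081 F35421) (tt N10088 (iv F35422)))
theorem Q10879 : ∀ i, i < 10879 → P i := stepQ 10878 Q10878 (allL N10878 (tt N9360 F35423) (tt N11551 (iv F38043)) (tt N10088 F35424) (tt N11476 (iv F37798)) (tt N11853 (iv F39185)) (tt N9392 F35425) (tt N10087 F35426) (tt N9358 (iv D10975)))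
theorem Q10880 : ∀ i, i < 10880 → P i := stepQ 10879 Q10879 (allL N10879 (tt N11023 (iv F35977)) (tt N9364 F35427) (tt N11021 (iv F35968)) (tt N9359 (iv D10976)) (tt N11379 (iv F37419)) (tt N9393 F35428) (tt N11917 (iv F39414)) (tt N11199 (iv F36684)))
theorem Q10881 : ∀ i, i < 10881 → P i := stepQ 10880 Q10880 (allL N10880 (tt N11476 (iv F37796)) (tt N9361 F35429) (tt N11537 (iv F38007)) (tt N9360 (iv D10977)) (tt N11967 D12064) (tt N9394 F35430) (tt N11863 (iv F39225)) (tt N11474 (iv F37793)))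
theorem Q10882 : ∀ i, i < 10882 → P i := stepQ 10881 Q10881 (allL N10881 (tt N10087 F35431) (tt N9362 F35432) (tt N10086 F35433) (tt N11863 (iv F39223)) (tt N11846 (iv F39154)) (tt N10095 F35434) (tt N9360 (iv D10978)) (tt N10085 F35435))
theorem Q10883 : ∀ i, i < 10883 → P i := stepQ 10882 Q10882 (allL N10882 (tt N11649 (iv F38423)) (tt N11967 (iv F39587)) (tt N11874 (iv F39251)) (tt N11962 (iv F39575)) (tt N9361 (iv D10979)) (tt N9363 F35436) (tt N11968 D12065) (tt N11966 (iv F39586)))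
theorem Q10884 : ∀ i, i < 10884 → P i := stepQ 10883 Q10883 (allL N10883 (tt N11650 (iv F38426)) (tt N11863 F39227) (tt N11866 (iv F39234)) (tt N9362 F35437) (tt N11968 (iv F39589)) (tt N10758 F35438) (tt N9361 (iv D10980)) (tt N11969 D12066))
theorem Q10885 : ∀ i, i < 10885 → P i := stepQ 10884 Q10884 (allL N10884 (tt N11953 (iv F39539)) (tt N11379 (iv F37421)) (tt N11388 (iv F37447)) (tt N10832 F35439) (tt N9364 (iv D10981)) (tt N9365 F35440) (tt N11390 (iv F37458)) (tt N11970 D12067))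
theorem Q10886 : ∀ i, i < 10886 → P i := stepQ 10885 Q10885 (allL N10885 (tt N10158 F35441) (tt N11199 (iv F36681)) (tt N11642 (iv F38389)) (tt N10146 F35442) (tt N11970 (iv F39597)) (tt N9366 F35443) (tt N11200 (iv F36687)) (tt N9364 (iv D10982)))
theorem Q10887 : ∀ i, i < 10887 → P i := stepQ 10886 Q10886 (allL N10886 (tt N10160 F35444) (tt N9400 F35445) (tt N11389 (iv F37453)) (tt N11286 (iv F37061)) (tt N9366 F35446) (tt N11970 (iv F39598)) (tt N10388 (iv F35447)) (tt N9365 (iv D10983)))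
theorem Q10888 : ∀ i, i < 10888 → P i := stepQ 10887 Q10887 (allL N10887 (tt N10385 F35448) (tt N9402 F35449) (tt N11110 (iv F36348)) (tt N10887 F35450) (tt N9368 F35451) (tt N9853 F35452) (tt N9367 (iv D10984)) (tt N10388 F35453))
theorem Q10889 : ∀ i, i < 10889 → P i := stepQ 10888 Q10888 (allL N10888 (tt N9404 F35454) (tt N11956 (iv F39553)) (tt N10779 (iv F35457)) (tt N9369 (iv D10985)) (tt N11971 D12068) (tt N10775 F35455) (tt N11972 D12069) (tt N9384 F35456))
theorem Q10890 : ∀ i, i < 10890 → P i := stepQ 10889 Q10889 (allL N10889 (tt N9405 F35458) (tt N10394 F35459) (tt N10889 F35460) (tt N11972 (iv F39607)) (tt N9374 F35461) (tt N11336 (iv F37235)) (tt N9369 (iv D10986)) (tt N9370 F35462))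
theorem Q10891 : ∀ i, i < 10891 → P i := stepQ 10890 Q10890 (allL N10890 (tt N11010 (iv F35915)) (tt N9372 F35463) (tt N9715 F35464) (tt N11973 D12070) (tt N11009 F35914) (tt N11957 (iv F39558)) (tt N9714 F35465) (tt N9371 (iv D10987)))
theorem Q10892 : ∀ i, i < 10892 → P i := stepQ 10891 Q10891 (allL N10891 (tt N9409 F35466) (tt N11973 (iv F39608)) (tt N10848 (iv F35469)) (tt N9372 (iv D10988)) (tt N11974 D12071) (tt N9373 F35467) (tt N11975 D12072) (tt N9378 F35468))
theorem Q10893 : ∀ i, i < 10893 → P i := stepQ 10892 Q10892 (allL N10892 (tt N9410 F35470) (tt N9714 F35471) (tt N10892 F35472) (tt N11975 (iv F39620)) (tt N11032 (iv F36019)) (tt N11976 D12073) (tt N9372 (iv D10989)) (tt N10892 F35473))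
theorem Q10894 : ∀ i, i < 10894 → P i := stepQ 10893 Q10893 (allL N10893 (tt N9411 F35474) (tt N11960 (iv F39569)) (tt N10847 F35475) (tt N11971 (iv F39601)) (tt N9373 (iv D10990)) (tt N11974 (iv F39615)) (tt N11977 D12074) (tt N9381 F35476))
theorem Q10895 : ∀ i, i < 10895 → P i := stepQ 10894 Q10894 (allL N10894 (tt N9412 F35477) (tt N9926 F35478) (tt N10635 F35479) (tt N9374 F35480) (tt N11977 (iv F39632)) (tt N11978 D12075) (tt N9373 (iv D10991)) (tt N10335 F35481))
theorem Q10896 : ∀ i, i < 10896 → P i := stepQ 10895 Q10895 (allL N10895 (tt N9413 F35482) (tt N11337 (iv F37237)) (tt N10895 F35483) (tt N11978 (iv F39636)) (tt N11336 (iv F37234)) (tt N9374 (iv D10992)) (tt N11976 (iv F39627)) (tt N9375 F35484))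
theorem Q10897 : ∀ i, i < 10897 → P i := stepQ 10896 Q10896 (allL N10896 (tt N9377 F35485) (tt N9415 F35486) (tt N10428 F35487) (tt N11979 D12076) (tt N9392 F35488) (tt N11853 (iv F39186)) (tt N10940 F35651) (tt N9376 (iv D10993)))
theorem Q10898 : ∀ i, i < 10898 → P i := stepQ 10897 Q10897 (allL N10897 (tt N11979 (iv F39639)) (tt N9378 F35489) (tt N11980 D12077) (tt N9377 (iv D10994)) (tt N11981 D12078) (tt N11961 (iv F39574)) (tt N11982 D12079) (tt N11973 (iv F39611)))
theorem Q10899 : ∀ i, i < 10899 → P i := stepQ 10898 Q10898 (allL N10898 (tt N10940 (iv F35646)) (tt N9379 F35490) (tt N9994 F35491) (tt N11982 (iv F39652)) (tt N9395 F35492) (tt N10938 (iv F35640)) (tt N9377 (iv D10995)) (tt N10898 F35493))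
theorem Q10900 : ∀ i, i < 10900 → P i := stepQ 10899 Q10899 (allL N10899 (tt N9418 F35494) (tt N11983 D12080) (tt N9378 (iv D10996)) (tt N9382 F35495) (tt N11984 D12081) (tt N9380 F35496) (tt N11764 (iv F38854)) (tt N10848 F35497))
theorem Q10901 : ∀ i, i < 10901 → P i := stepQ 10900 Q10900 (allL N10900 (tt N9419 F35498) (tt N11981 (iv F39647)) (tt N11984 (iv F39660)) (tt N9396 F35499) (tt N9378 (iv D10997)) (tt N9381 F35500) (tt N11985 D12082) (tt N11974 (iv F39616)))
theorem Q10902 : ∀ i, i < 10902 → P i := stepQ 10901 Q10901 (allL N10901 (tt N9420 F35501) (tt N11982 (iv F39650)) (tt N11764 (iv F38852)) (tt N9379 F35502) (tt N11985 (iv F39666)) (tt N9812 F35503) (tt N9378 (iv D10998)) (tt N10637 (iv F35504)))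
theorem Q10903 : ∀ i, i < 10903 → P i := stepQ 10902 Q10902 (allL N10902 (tt N9421 F35505) (tt N11516 (iv F37930)) (tt N9381 F35506) (tt N10433 F35507) (tt N9380 (iv D10999)) (tt N11984 (iv F39662)) (tt N10164 F35508) (tt N10847 F35509))
theorem Q10904 : ∀ i, i < 10904 → P i := stepQ 10903 Q10903 (allL N10903 (tt N10660 F35510) (tt N9382 (iv D11000)) (tt N10397 F35511) (tt N11983 (iv F39656)) (tt N10419 F35512) (tt N10657 F35513) (tt N11765 (iv F38860)) (tt N10903 F35514))
theorem Q10905 : ∀ i, i < 10905 → P i := stepQ 10904 Q10904 (allL N10904 (tt N9433 F35515) (tt N11965 (iv F39582)) (tt N10776 F35516) (tt N9388 F35517) (tt N9384 (iv D11001)) (tt N10774 F35518) (tt N11986 D12083) (tt N11971 (iv F39603)))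
theorem Q10906 : ∀ i, i < 10906 → P i := stepQ 10905 Q10905 (allL N10905 (tt N9434 F35519) (tt N10363 F35520) (tt N10778 F35521) (tt N9385 F35522) (tt N11986 (iv F39673)) (tt N10944 (iv F35668)) (tt N9384 (iv D11002)) (tt N11694 (iv F38596)))
theorem Q10907 : ∀ i, i < 10907 → P i := stepQ 10906 Q10906 (allL N10906 (tt N9439 F35523) (tt N11518 (iv F37939)) (tt N10429 F35524) (tt N10774 F35525) (tt N9387 (iv D11003)) (tt N9388 F35526) (tt N11701 (iv F38618)) (tt N9396 F35527))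
theorem Q10908 : ∀ i, i < 10908 → P i := stepQ 10907 Q10907 (allL N10907 (tt N9443 F35528) (tt N10368 F35529) (tt N10442 F35530) (tt N11986 (iv F39672)) (tt N9389 F35531) (tt N11987 D12084) (tt N9388 (iv D11004)) (tt N10772 F35532))
theorem Q10909 : ∀ i, i < 10909 → P i := stepQ 10908 Q10908 (allL N10908 (tt N9444 F35533) (tt N11349 (iv F37287)) (tt N10443 F35534) (tt N9390 F35535) (tt N11987 (iv F39676)) (tt N9389 (iv D11005)) (tt N11030 (iv F36010)) (tt N10773 F35536))
theorem Q10910 : ∀ i, i < 10910 → P i := stepQ 10909 Q10909 (allL N10909 (tt N11519 (iv F37943)) (tt N9396 F35537) (tt N11538 (iv F38011)) (tt N11981 (iv F39648)) (tt N9394 (iv D11006)) (tt N11967 (iv F39588)) (tt N11628 (iv F38351)) (tt N11518 (iv F37942)))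
theorem Q10911 : ∀ i, i < 10911 → P i := stepQ 10910 Q10910 (allL N10910 (tt N9455 F35538) (tt N11628 (iv F38348)) (tt N10423 F35539) (tt N11985 (iv F39665)) (tt N9397 F35540) (tt N10706 F35541) (tt N9396 (iv D11007)) (tt N11925 (iv F39441)))
theorem Q10912 : ∀ i, i < 10912 → P i := stepQ 10911 Q10911 (allL N10911 (tt N10779 F35542) (tt N11988 D12085) (tt N9404 (iv D11008)) (tt N10911 F35543) (tt N11989 D12086) (tt N10519 F35544) (tt N11990 D12087) (tt N9432 F35545))
theorem Q10913 : ∀ i, i < 10913 → P i := stepQ 10912 Q10912 (allL N10912 (tt N11971 (iv F39599)) (tt N10465 F35546) (tt N11989 (iv F39683)) (tt N9411 F35547) (tt N9404 (iv D11009)) (tt N10950 (iv F35687)) (tt N11991 D12088) (tt N9433 F35548))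
theorem Q10914 : ∀ i, i < 10914 → P i := stepQ 10913 Q10913 (allL N10913 (tt N11972 (iv F39604)) (tt N11671 (iv F38505)) (tt N11990 (iv F39689)) (tt N9405 F35549) (tt N11991 (iv F39695)) (tt N11992 D12089) (tt N9404 (iv D11010)) (tt N11993 D12090))
theorem Q10915 : ∀ i, i < 10915 → P i := stepQ 10914 Q10914 (allL N10914 (tt N11336 (iv F37231)) (tt N11187 (iv F36626)) (tt N10914 F35550) (tt N11992 (iv F39697)) (tt N9413 F35551) (tt N9405 (iv D11011)) (tt N11033 (iv F36024)) (tt N9408 F35552))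
theorem Q10916 : ∀ i, i < 10916 → P i := stepQ 10915 Q10915 (allL N10915 (tt N11279 (iv F37032)) (tt N10243 F35553) (tt N10590 F35554) (tt N11993 (iv F39701)) (tt N10241 F35555) (tt N10977 (iv F35781)) (tt N9436 F35556) (tt N9407 (iv D11012)))
theorem Q10917 : ∀ i, i < 10917 → P i := stepQ 10916 Q10916 (allL N10916 (tt N11974 (iv F39612)) (tt N10952 (iv F35693)) (tt N10850 F35557) (tt N10950 (iv F35686)) (tt N9409 (iv D11013)) (tt N9411 F35558) (tt N11994 D12091) (tt N9419 F35559))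
theorem Q10918 : ∀ i, i < 10918 → P i := stepQ 10917 Q10917 (allL N10917 (tt N11975 (iv F39617)) (tt N10443 F35560) (tt N10851 F35561) (tt N9410 F35562) (tt N11994 (iv F39706)) (tt N11995 D12092) (tt N9409 (iv D11014)) (tt N10787 (iv F35563)))
theorem Q10919 : ∀ i, i < 10919 → P i := stepQ 10918 Q10918 (allL N10918 (tt N11976 (iv F39623)) (tt N10128 F35564) (tt N10918 F35565) (tt N11995 (iv F39711)) (tt N11033 (iv F36023)) (tt N9410 (iv D11015)) (tt N9413 F35566) (tt N10918 F35567))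
theorem Q10920 : ∀ i, i < 10920 → P i := stepQ 10919 Q10919 (allL N10919 (tt N11977 (iv F39629)) (tt N10327 F35568) (tt N10636 F35569) (tt N11991 (iv F39694)) (tt N9412 F35570) (tt N11996 D12093) (tt N9411 (iv D11016)) (tt N11763 (iv F38850)))
theorem Q10921 : ∀ i, i < 10921 → P i := stepQ 10920 Q10920 (allL N10920 (tt N11978 (iv F39634)) (tt N11997 D12094) (tt N10637 F35571) (tt N9413 F35572) (tt N11996 (iv F39715)) (tt N9412 (iv D11017)) (tt N11995 (iv F39712)) (tt N11764 (iv F38855)))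
theorem Q10922 : ∀ i, i < 10922 → P i := stepQ 10921 Q10921 (allL N10921 (tt N11188 (iv F36630)) (tt N9413 (iv D11018)) (tt N10129 F35575) (tt N11997 (iv F39717)) (tt N11187 (iv F36628)) (tt N11674 (iv F38518)) (tt N10128 F35573) (tt N9414 F35574))
theorem Q10923 : ∀ i, i < 10923 → P i := stepQ 10922 Q10922 (allL N10922 (tt N11186 (iv F36619)) (tt N10922 F35576) (tt N9414 (iv D11019)) (tt N10132 F35580) (tt N9868 F35577) (tt N11675 (iv F38523)) (tt N10922 F35578) (tt N10129 F35579))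
theorem Q10924 : ∀ i, i < 10924 → P i := stepQ 10923 Q10923 (allL N10923 (tt N9416 F35581) (tt N11979 (iv F39640)) (tt N11858 (iv F39207)) (tt N9415 (iv D11020)) (tt N11616 (iv F38293)) (tt N11676 (iv F38528)) (tt N11998 D12095) (tt N11012 (iv F35928)))
theorem Q10925 : ∀ i, i < 10925 → P i := stepQ 10924 Q10924 (allL N10924 (tt N9417 F35582) (tt N10940 (iv F35647)) (tt N10924 F35583) (tt N11998 (iv F39724)) (tt N9447 F35584) (tt N10935 (iv F35626)) (tt N9415 (iv D11021)) (tt N10924 F35585))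
theorem Q10926 : ∀ i, i < 10926 → P i := stepQ 10925 Q10925 (allL N10925 (tt N11858 (iv F39206)) (tt N10844 (iv F35588)) (tt N9416 (iv D11022)) (tt N10925 F35586) (tt N11999 D12096) (tt N10840 F35587) (tt N12000 D12097) (tt N11030 (iv F36011)))
theorem Q10927 : ∀ i, i < 10927 → P i := stepQ 10926 Q10926 (allL N10926 (tt N11616 (iv F38292)) (tt N9419 F35589) (tt N11999 (iv F39728)) (tt N9449 F35590) (tt N9416 (iv D11023)) (tt N11677 (iv F38534)) (tt N12001 D12098) (tt N10952 (iv F35695)))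
theorem Q10928 : ∀ i, i < 10928 → P i := stepQ 10927 Q10927 (allL N10927 (tt N11998 (iv F39721)) (tt N9420 F35591) (tt N12000 (iv F39732)) (tt N9417 F35592) (tt N12001 (iv F39738)) (tt N10712 F35593) (tt N9416 (iv D11024)) (tt N10730 F35594))
theorem Q10929 : ∀ i, i < 10929 → P i := stepQ 10928 Q10928 (allL N10928 (tt N10935 (iv F35623)) (tt N10389 F35595) (tt N10928 F35596) (tt N10712 F35597) (tt N9451 F35598) (tt N9417 (iv D11025)) (tt N9984 F35599) (tt N10928 F35600))
theorem Q10930 : ∀ i, i < 10930 → P i := stepQ 10929 Q10929 (allL N10929 (tt N10960 (iv F35717)) (tt N9418 (iv D11026)) (tt N10844 F35601) (tt N9422 F35602) (tt N12002 D12099) (tt N10436 F35603) (tt N12003 D12100) (tt N10752 F35604))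
theorem Q10931 : ∀ i, i < 10931 → P i := stepQ 10930 Q10930 (allL N10930 (tt N11984 (iv F39659)) (tt N12002 (iv F39741)) (tt N9419 F35605) (tt N12004 D12101) (tt N9418 (iv D11027)) (tt N9421 F35606) (tt N12005 D12102) (tt N10850 F35607))
theorem Q10932 : ∀ i, i < 10932 → P i := stepQ 10931 Q10931 (allL N10931 (tt N11764 (iv F38851)) (tt N12003 (iv F39746)) (tt N9420 F35608) (tt N9424 F35609) (tt N12005 (iv F39756)) (tt N10335 F35610) (tt N9418 (iv D11028)) (tt N11978 (iv F39638)))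
theorem Q10933 : ∀ i, i < 10933 → P i := stepQ 10932 Q10932 (allL N10932 (tt N11985 (iv F39664)) (tt N12001 (iv F39736)) (tt N12005 (iv F39755)) (tt N9455 F35611) (tt N9420 F35612) (tt N11768 (iv F38874)) (tt N9419 (iv D11029)) (tt N12006 D12103))
theorem Q10934 : ∀ i, i < 10934 → P i := stepQ 10933 Q10933 (allL N10933 (tt N10637 F35613) (tt N10730 F35614) (tt N11978 (iv F39635)) (tt N10933 F35615) (tt N12006 (iv F39760)) (tt N10635 F35616) (tt N10787 F35617) (tt N9420 (iv D11030)))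
theorem Q10935 : ∀ i, i < 10935 → P i := stepQ 10934 Q10934 (allL N10934 (tt N10433 F35618) (tt N10792 F35619) (tt N9458 F35620) (tt N9421 (iv D11031)) (tt N9428 F35621) (tt N12004 (iv F39753)) (tt N10740 F35622) (tt N10958 (iv F35714)))
theorem Q10936 : ∀ i, i < 10936 → P i := stepQ 10935 Q10935 (allL N10935 (tt N10928 F35623) (tt N9423 F35624) (tt N10935 F35625) (tt N11819 (iv F39051)) (tt N9422 (iv D11032)) (tt N10924 F35626) (tt N11281 F37047) (tt N10935 F35627))
theorem Q10937 : ∀ i, i < 10937 → P i := stepQ 10936 Q10936 (allL N10936 (tt N10529 F35628) (tt N9424 F35629) (tt N10936 F35630) (tt N12003 (iv F39748)) (tt N11281 (iv F37045)) (tt N10525 F35631) (tt N9422 (iv D11033)) (tt N10639 (iv F35632)))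
theorem Q10938 : ∀ i, i < 10938 → P i := stepQ 10937 Q10937 (allL N10937 (tt N10420 F35633) (tt N11819 (iv F39049)) (tt N9461 F35634) (tt N9423 (iv D11034)) (tt N12004 (iv F39752)) (tt N9428 F35635) (tt N11282 (iv F37051)) (tt N10526 (iv F35636)))
theorem Q10939 : ∀ i, i < 10939 → P i := stepQ 10938 Q10938 (allL N10938 (tt N9426 F35637) (tt N10167 F35638) (tt N9429 F35639) (tt N11746 (iv F38798)) (tt N9425 (iv D11035)) (tt N10898 F35640) (tt N10734 F35641) (tt N10938 F35642))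
theorem Q10940 : ∀ i, i < 10940 → P i := stepQ 10939 Q10939 (allL N10939 (tt N11746 (iv F38797)) (tt N9428 F35643) (tt N10948 (iv F35677)) (tt N9426 (iv D11036)) (tt N10792 F35644) (tt N11670 (iv F38503)) (tt N10738 F35645) (tt N10957 (iv F35711)))
theorem Q10941 : ∀ i, i < 10941 → P i := stepQ 10940 Q10940 (allL N10940 (tt N10898 F35646) (tt N10924 F35647) (tt N9431 F35648) (tt N11670 (iv F38501)) (tt N9427 F35649) (tt N9426 (iv D11037)) (tt N10896 (iv F35651)) (tt N10940 F35650))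
theorem Q10942 : ∀ i, i < 10942 → P i := stepQ 10941 Q10941 (allL N10941 (tt N9430 F35652) (tt N9464 F35653) (tt N11031 (iv F36012)) (tt N9429 (iv D11038)) (tt N9529 F35654) (tt N9531 F35655) (tt N10856 F35656) (tt N9528 F35657))
theorem Q10943 : ∀ i, i < 10943 → P i := stepQ 10942 Q10942 (allL N10942 (tt N11830 (iv F39089)) (tt N9432 (iv D11039)) (tt N11679 (iv F38543)) (tt N9569 F35658) (tt N12007 D12104) (tt N10530 F35659) (tt N10656 (iv F35660)) (tt N11988 (iv F39680)))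
theorem Q10944 : ∀ i, i < 10944 → P i := stepQ 10943 Q10943 (allL N10943 (tt N10776 F35661) (tt N12007 (iv F39763)) (tt N9433 F35662) (tt N12008 D12105) (tt N9432 (iv D11040)) (tt N10535 F35663) (tt N12009 D12106) (tt N11989 (iv F39685)))
theorem Q10945 : ∀ i, i < 10945 → P i := stepQ 10944 Q10944 (allL N10944 (tt N10778 F35664) (tt N10656 F35665) (tt N9434 F35666) (tt N9571 F35667) (tt N12009 (iv F39776)) (tt N10905 F35668) (tt N9432 (iv D11041)) (tt N10956 (iv F35706)))
theorem Q10946 : ∀ i, i < 10946 → P i := stepQ 10945 Q10945 (allL N10945 (tt N11986 (iv F39669)) (tt N11682 (iv F38553)) (tt N12009 (iv F39774)) (tt N9443 F35669) (tt N9434 F35670) (tt N11883 (iv F39289)) (tt N9433 (iv D11042)) (tt N12010 D12107))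
theorem Q10947 : ∀ i, i < 10947 → P i := stepQ 10946 Q10946 (allL N10946 (tt N11694 (iv F38593)) (tt N10242 F35671) (tt N10956 (iv F35707)) (tt N9436 F35672) (tt N12010 (iv F39780)) (tt N11887 (iv F39299)) (tt N11993 (iv F39703)) (tt N9434 (iv D11043)))
theorem Q10948 : ∀ i, i < 10948 → P i := stepQ 10947 Q10947 (allL N10947 (tt N9445 F35673) (tt N11347 (iv F37280)) (tt N10589 F35674) (tt N11887 (iv F39298)) (tt N10240 F35675) (tt N9436 F35676) (tt N11333 (iv F37217)) (tt N9435 (iv D11044)))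
theorem Q10949 : ∀ i, i < 10949 → P i := stepQ 10948 Q10948 (allL N10948 (tt N12011 D12108) (tt N9438 (iv D11045)) (tt N10939 F35677) (tt N9574 F35678) (tt N11640 (iv F38379)) (tt N10502 F35679) (tt N11849 (iv F39170)) (tt N9452 F35680))
theorem Q10950 : ∀ i, i < 10950 → P i := stepQ 10949 Q10949 (allL N10949 (tt N10429 F35681) (tt N11640 (iv F38377)) (tt N9439 F35682) (tt N11613 (iv F38279)) (tt N9438 (iv D11046)) (tt N9441 F35683) (tt N11612 F38276) (tt N9453 F35684))
theorem Q10951 : ∀ i, i < 10951 → P i := stepQ 10950 Q10950 (allL N10950 (tt N11881 (iv F39278)) (tt N9441 F35685) (tt N11688 (iv F38576)) (tt N10916 F35686) (tt N9440 (iv D11047)) (tt N10912 F35687) (tt N12012 D12109) (tt N9457 F35688))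
theorem Q10952 : ∀ i, i < 10952 → P i := stepQ 10951 Q10951 (allL N10951 (tt N11882 (iv F39282)) (tt N9442 F35689) (tt N11689 (iv F38580)) (tt N9577 F35690) (tt N12012 (iv F39789)) (tt N12013 D12110) (tt N9440 (iv D11048)) (tt N10780 F35691))
theorem Q10953 : ∀ i, i < 10953 → P i := stepQ 10952 Q10952 (allL N10952 (tt N10441 F35692) (tt N10916 F35693) (tt N12008 (iv F39767)) (tt N9441 (iv D11049)) (tt N9578 F35694) (tt N11613 F38281) (tt N11623 (iv F38324)) (tt N10926 F35695))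
theorem Q10954 : ∀ i, i < 10954 → P i := stepQ 10953 Q10953 (allL N10953 (tt N10442 F35696) (tt N12012 (iv F39787)) (tt N9443 F35697) (tt N11623 (iv F38322)) (tt N9442 F35698) (tt N11622 (iv F38320)) (tt N9441 (iv D11050)) (tt N10782 F35699))
theorem Q10955 : ∀ i, i < 10955 → P i := stepQ 10954 Q10954 (allL N10954 (tt N10443 F35700) (tt N11469 (iv F37773)) (tt N9444 F35701) (tt N9580 F35702) (tt N11622 (iv F38319)) (tt N9442 (iv D11051)) (tt N11012 (iv F35927)) (tt N10783 F35703))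
theorem Q10956 : ∀ i, i < 10956 → P i := stepQ 10955 Q10955 (allL N10955 (tt N11987 (iv F39674)) (tt N12014 D12111) (tt N11622 (iv F38317)) (tt N11883 (iv F39287)) (tt N9444 F35704) (tt N9443 (iv D11052)) (tt N11621 F38316) (tt N11769 (iv F38877)))
theorem Q10957 : ∀ i, i < 10957 → P i := stepQ 10956 Q10956 (allL N10956 (tt N11887 (iv F39296)) (tt N9444 (iv D11053)) (tt N10946 F35707) (tt N9445 F35705) (tt N12014 (iv F39795)) (tt N11694 (iv F38595)) (tt N11807 (iv F39007)) (tt N10944 F35706))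
theorem Q10958 : ∀ i, i < 10958 → P i := stepQ 10957 Q10957 (allL N10957 (tt N10633 F35708) (tt N9448 (iv D11054)) (tt N9452 F35709) (tt N10957 F35710) (tt N11901 (iv F39337)) (tt N10513 (iv F35712)) (tt N11914 (iv F39398)) (tt N10939 F35711))
theorem Q10959 : ∀ i, i < 10959 → P i := stepQ 10958 Q10958 (allL N10958 (tt N11615 (iv F38287)) (tt N11901 (iv F39334)) (tt N9449 F35713) (tt N11948 (iv F39525)) (tt N9448 (iv D11055)) (tt N11695 (iv F38598)) (tt N11937 (iv F39494)) (tt N10934 F35714))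
theorem Q10960 : ∀ i, i < 10960 → P i := stepQ 10959 Q10959 (allL N10959 (tt N11617 (iv F38295)) (tt N9455 F35715) (tt N11937 (iv F39493)) (tt N12001 (iv F39737)) (tt N9450 F35716) (tt N12015 D12112) (tt N9449 (iv D11056)) (tt N11859 (iv F39213)))
theorem Q10961 : ∀ i, i < 10961 → P i := stepQ 10960 Q10960 (allL N10960 (tt N10929 F35717) (tt N11771 (iv F38880)) (tt N11938 (iv F39496)) (tt N9451 F35718) (tt N12015 (iv F39800)) (tt N9450 (iv D11057)) (tt N11697 (iv F38603)) (tt N11860 (iv F39216)))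
theorem Q10962 : ∀ i, i < 10962 → P i := stepQ 10961 Q10961 (allL N10961 (tt N9452 (iv D11058)) (tt N10416 F35719) (tt N10633 F35720) (tt N9459 F35721) (tt N12016 D12113) (tt N10489 F35722) (tt N11912 (iv F39389)) (tt N12011 (iv F39786)))
theorem Q10963 : ∀ i, i < 10963 → P i := stepQ 10962 Q10962 (allL N10962 (tt N12016 (iv F39802)) (tt N9453 F35723) (tt N11901 (iv F39335)) (tt N10517 F35724) (tt N9452 (iv D11059)) (tt N10514 F35725) (tt N12017 D12114) (tt N11640 (iv F38381)))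
theorem Q10964 : ∀ i, i < 10964 → P i := stepQ 10963 Q10963 (allL N10963 (tt N11912 (iv F39385)) (tt N9454 F35726) (tt N11914 (iv F39395)) (tt N9460 F35727) (tt N12017 (iv F39809)) (tt N9949 (iv F35728)) (tt N9452 (iv D11060)) (tt N9952 (iv F35729)))
theorem Q10965 : ∀ i, i < 10965 → P i := stepQ 10964 Q10964 (allL N10964 (tt N10421 F35730) (tt N10517 F35731) (tt N12004 (iv F39751)) (tt N9453 (iv D11061)) (tt N9461 F35732) (tt N9458 F35733) (tt N12018 D12115) (tt N10527 (iv F35734)))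
theorem Q10966 : ∀ i, i < 10966 → P i := stepQ 10965 Q10965 (allL N10965 (tt N10423 F35735) (tt N12017 (iv F39807)) (tt N9455 F35736) (tt N12018 (iv F39814)) (tt N9454 F35737) (tt N10709 F35738) (tt N9453 (iv D11062)) (tt N12019 D12116))
theorem Q10967 : ∀ i, i < 10967 → P i := stepQ 10966 Q10966 (allL N10966 (tt N10424 F35739) (tt N9952 F35740) (tt N9456 F35741) (tt N9951 F35742) (tt N12019 (iv F39820)) (tt N10710 F35743) (tt N11676 (iv F38529)) (tt N9454 (iv D11063)))
theorem Q10968 : ∀ i, i < 10968 → P i := stepQ 10967 Q10967 (allL N10967 (tt N11925 (iv F39437)) (tt N11859 (iv F39211)) (tt N12019 (iv F39819)) (tt N12020 D12117) (tt N9456 F35744) (tt N11772 (iv F38884)) (tt N11857 (iv F39205)) (tt N9455 (iv D11064)))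
theorem Q10969 : ∀ i, i < 10969 → P i := stepQ 10968 Q10968 (allL N10968 (tt N9460 F35745) (tt N10413 F35746) (tt N10968 F35747) (tt N11912 (iv F39387)) (tt N10491 F35748) (tt N9697 F35749) (tt N9459 (iv D11065)) (tt N9698 F35750))
theorem Q10970 : ∀ i, i < 10970 → P i := stepQ 10969 Q10969 (allL N10969 (tt N9906 F35751) (tt N10518 F35752) (tt N11282 (iv F37049)) (tt N9462 F35753) (tt N12018 (iv F39815)) (tt N9913 F35754) (tt N9461 (iv D11066)) (tt N11816 (iv F39042)))
theorem Q10971 : ∀ i, i < 10971 → P i := stepQ 10970 Q10970 (allL N10970 (tt N9466 F35755) (tt N9839 F35756) (tt N11744 (iv F38788)) (tt N9465 (iv D11067)) (tt N12021 D12118) (tt N11305 (iv F37129)) (tt N9823 F35757) (tt N11270 (iv F36993)))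
theorem Q10972 : ∀ i, i < 10972 → P i := stepQ 10971 Q10971 (allL N10971 (tt N11744 (iv F38787)) (tt N10652 F35758) (tt N9466 (iv D11068)) (tt N9468 F35759) (tt N12022 D12119) (tt N11309 (iv F37140)) (tt N10650 F35760) (tt N11276 (iv F37023)))
theorem Q10973 : ∀ i, i < 10973 → P i := stepQ 10972 Q10972 (allL N10972 (tt N12021 (iv F39823)) (tt N11304 (iv F37126)) (tt N12022 (iv F39827)) (tt N11312 (iv F37148)) (tt N9466 (iv D11069)) (tt N11310 (iv F37145)) (tt N11802 (iv F38989)) (tt N11277 (iv F37025)))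
theorem Q10974 : ∀ i, i < 10974 → P i := stepQ 10973 Q10973 (allL N10973 (tt N9468 F35761) (tt N10431 F35762) (tt N9467 (iv D11070)) (tt N11744 (iv F38789)) (tt N10657 F35763) (tt N10419 F35764) (tt N9817 F35765) (tt N10973 F35766))
theorem Q10975 : ∀ i, i < 10975 → P i := stepQ 10974 Q10974 (allL N10974 (tt N9488 F35767) (tt N10391 F35768) (tt N9474 (iv D11071)) (tt N11792 (iv F38955)) (tt N10978 (iv F35785)) (tt N11337 (iv F37240)) (tt N9982 F35769) (tt N11320 (iv F37180)))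
theorem Q10976 : ∀ i, i < 10976 → P i := stepQ 10975 Q10975 (allL N10975 (tt N9490 F35770) (tt N10975 F35771) (tt N11337 (iv F37238)) (tt N9475 F35772) (tt N10979 (iv F35793)) (tt N9474 (iv D11072)) (tt N10556 F35773) (tt N11335 (iv F37230)))
theorem Q10977 : ∀ i, i < 10977 → P i := stepQ 10976 Q10976 (allL N10976 (tt N9491 F35774) (tt N9476 F35775) (tt N11320 (iv F37175)) (tt N10976 F35776) (tt N10980 (iv F35800)) (tt N11335 (iv F37228)) (tt N9508 F35777) (tt N9474 (iv D11073)))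
theorem Q10978 : ∀ i, i < 10978 → P i := stepQ 10977 Q10977 (allL N10977 (tt N9912 F35778) (tt N9651 F35779) (tt N9477 (iv D11074)) (tt N11805 (iv F39001)) (tt N10675 F35780) (tt N10915 F35781) (tt N9958 F35782) (tt N9763 F35783))
theorem Q10979 : ∀ i, i < 10979 → P i := stepQ 10978 Q10978 (allL N10978 (tt N9982 F35784) (tt N11590 (iv F38196)) (tt N9480 (iv D11075)) (tt N11816 (iv F39039)) (tt N10974 F35785) (tt N9990 F35788) (tt N9488 F35786) (tt N9980 (iv F35787)))
theorem Q10980 : ∀ i, i < 10980 → P i := stepQ 10979 Q10979 (allL N10979 (tt N9987 F35789) (tt N10979 F35790) (tt N9990 F35791) (tt N9481 F35792) (tt N10975 F35793) (tt N9480 (iv D11076)) (tt N10554 F35794) (tt N9985 (iv F35795)))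
theorem Q10981 : ∀ i, i < 10981 → P i := stepQ 10980 Q10980 (allL N10980 (tt N9979 F35796) (tt N9482 F35797) (tt N9980 F35798) (tt N9978 F35799) (tt N10976 F35800) (tt N9985 F35801) (tt N10992 (iv F35844)) (tt N9480 (iv D11077)))
theorem Q10982 : ∀ i, i < 10982 → P i := stepQ 10981 Q10981 (allL N10981 (tt N9485 F35802) (tt N9484 F35803) (tt N12023 D12120) (tt N9483 (iv D11078)) (tt N9821 F35804) (tt N12024 D12121) (tt N11221 (iv F36777)) (tt N9852 F35805))
theorem Q10983 : ∀ i, i < 10983 → P i := stepQ 10982 Q10982 (allL N10982 (tt N9486 F35806) (tt N9769 F35807) (tt N10354 F35808) (tt N12024 (iv F39837)) (tt N9771 F35809) (tt N9483 (iv D11079)) (tt N12025 D12122) (tt N10353 F35810))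
theorem Q10984 : ∀ i, i < 10984 → P i := stepQ 10983 Q10983 (allL N10983 (tt N12023 (iv F39830)) (tt N9488 F35811) (tt N9485 (iv D11080)) (tt N10534 F35812) (tt N11334 (iv F37222)) (tt N12026 D12123) (tt N11590 (iv F38199)) (tt N10034 F35813))
theorem Q10985 : ∀ i, i < 10985 → P i := stepQ 10984 Q10984 (allL N10984 (tt N12024 (iv F39835)) (tt N9497 F35814) (tt N12026 (iv F39847)) (tt N9486 F35815) (tt N11412 (iv F37569)) (tt N9485 (iv D11081)) (tt N11411 F37565) (tt N11058 (iv F36149)))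
theorem Q10986 : ∀ i, i < 10986 → P i := stepQ 10985 Q10985 (allL N10985 (tt N12025 (iv F39841)) (tt N9498 F35816) (tt N10356 F35817) (tt N11411 (iv F37563)) (tt N11226 (iv F36787)) (tt N11408 (iv F37548)) (tt N9486 (iv D11082)) (tt N12027 D12124))
theorem Q10987 : ∀ i, i < 10987 → P i := stepQ 10986 Q10986 (allL N10986 (tt N9508 F35818) (tt N9494 F35819) (tt N10032 F35820) (tt N10986 F35821) (tt N10002 F35822) (tt N10986 F35823) (tt N9491 (iv D11083)) (tt N10992 (iv F35845)))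
theorem Q10988 : ∀ i, i < 10988 → P i := stepQ 10987 Q10987 (allL N10987 (tt N10062 F35824) (tt N11583 (iv F38167)) (tt N9497 F35825) (tt N9521 F35826) (tt N11708 (iv F38651)) (tt N9495 (iv D11084)) (tt N12028 D12125) (tt N11056 (iv F36142)))
theorem Q10989 : ∀ i, i < 10989 → P i := stepQ 10988 Q10988 (allL N10988 (tt N9792 F35827) (tt N11412 (iv F37567)) (tt N11708 (iv F38653)) (tt N9796 F35828) (tt N9497 F35829) (tt N9496 (iv D11085)) (tt N11410 (iv F37561)) (tt N11057 (iv F36146)))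
theorem Q10990 : ∀ i, i < 10990 → P i := stepQ 10989 Q10989 (allL N10989 (tt N11153 (iv F36507)) (tt N11411 (iv F37562)) (tt N12028 (iv F39857)) (tt N9498 F35830) (tt N11410 (iv F37559)) (tt N10989 F35831) (tt N9497 (iv D11086)) (tt N12029 D12126))
theorem Q10991 : ∀ i, i < 10991 → P i := stepQ 10990 Q10990 (allL N10990 (tt N11158 (iv F36527)) (tt N12027 (iv F39852)) (tt N9524 F35832) (tt N12030 D12127) (tt N11241 (iv F36852)) (tt N10990 F35833) (tt N9862 F35834) (tt N9498 (iv D11087)))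
theorem Q10992 : ∀ i, i < 10992 → P i := stepQ 10991 Q10991 (allL N10991 (tt N9853 F35835) (tt N9510 F35836) (tt N11319 (iv F37170)) (tt N10991 F35837) (tt N9507 F35838) (tt N10385 F35839) (tt N9506 (iv D11088)) (tt N10392 F35840))
theorem Q10993 : ∀ i, i < 10993 → P i := stepQ 10992 Q10992 (allL N10992 (tt N10002 F35841) (tt N9509 F35842) (tt N11034 (iv F36028)) (tt N10012 (iv F35846)) (tt N9508 (iv D11089)) (tt N10992 F35843) (tt N10980 F35844) (tt N10986 F35845))
theorem Q10994 : ∀ i, i < 10994 → P i := stepQ 10993 Q10993 (allL N10993 (tt N10571 F35847) (tt N10993 F35848) (tt N9919 F35849) (tt N9512 F35850) (tt N11148 (iv F36494)) (tt N12031 D12128) (tt N9511 (iv D11090)) (tt N10569 F35851))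
theorem Q10995 : ∀ i, i < 10995 → P i := stepQ 10994 Q10994 (allL N10994 (tt N11342 (iv F37256)) (tt N12032 D12129) (tt N11120 (iv F36386)) (tt N12031 (iv F39869)) (tt N11119 (iv F36382)) (tt N9512 (iv D11091)) (tt N9537 F35852) (tt N11419 (iv F37600)))
theorem Q10996 : ∀ i, i < 10996 → P i := stepQ 10995 Q10995 (allL N10995 (tt N11267 (iv F36979)) (tt N11470 (iv F37777)) (tt N9517 F35853) (tt N11065 (iv F36176)) (tt N11471 (iv F37781)) (tt N9515 (iv D11092)) (tt N12033 D12130) (tt N10377 F35854))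
theorem Q10997 : ∀ i, i < 10997 → P i := stepQ 10996 Q10996 (allL N10996 (tt N10150 F35855) (tt N11213 (iv F36740)) (tt N11471 (iv F37783)) (tt N10090 F35856) (tt N9517 F35857) (tt N9516 (iv D11093)) (tt N11211 (iv F36735)) (tt N10362 F35858))
theorem Q10998 : ∀ i, i < 10998 → P i := stepQ 10997 Q10997 (allL N10997 (tt N11204 F36706) (tt N11212 (iv F36736)) (tt N12033 (iv F39876)) (tt N9518 F35859) (tt N11211 (iv F36733)) (tt N10997 F35860) (tt N9517 (iv D11094)) (tt N12034 D12131))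
theorem Q10999 : ∀ i, i < 10999 → P i := stepQ 10998 Q10998 (allL N10998 (tt N10998 F35861) (tt N10365 F35862) (tt N10998 F35863) (tt N9519 (iv D11095)) (tt N10584 F35864) (tt N10585 F35865) (tt N10364 F35866) (tt N11260 (iv F36950)))
theorem Q11000 : ∀ i, i < 11000 → P i := stepQ 10999 Q10999 (allL N10999 (tt N10059 F35867) (tt N10054 F35868) (tt N9523 F35869) (tt N12028 (iv F39858)) (tt N10057 F35870) (tt N10999 F35871) (tt N9521 (iv D11096)) (tt N10055 F35872))
theorem Q11001 : ∀ i, i < 11001 → P i := stepQ 11000 Q11000 (allL N11000 (tt N10055 F35873) (tt N10232 F35874) (tt N10057 F35875) (tt N10106 F35876) (tt N9523 F35877) (tt N11000 F35878) (tt N9522 (iv D11097)) (tt N10059 F35879))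
theorem Q11002 : ∀ i, i < 11002 → P i := stepQ 11001 Q11001 (allL N11001 (tt N10057 F35880) (tt N10247 F35881) (tt N10055 F35882) (tt N11155 (iv F36513)) (tt N10059 F35883) (tt N11001 F35884) (tt N10056 F35885) (tt N9523 (iv D11098)))
theorem Q11003 : ∀ i, i < 11003 → P i := stepQ 11002 Q11002 (allL N11002 (tt N10110 F35886) (tt N9527 F35887) (tt N9547 F35888) (tt N11053 (iv F36124)) (tt N9526 (iv D11099)) (tt N11587 (iv F38184)) (tt N11002 F35889) (tt N10229 F35890))
theorem Q11004 : ∀ i, i < 11004 → P i := stepQ 11003 Q11003 (allL N11003 (tt N10108 F35891) (tt N11577 (iv F38139)) (tt N9548 F35892) (tt N9530 F35893) (tt N11587 (iv F38183)) (tt N9526 (iv D11100)) (tt N11902 (iv F39342)) (tt N10230 F35894))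
theorem Q11005 : ∀ i, i < 11005 → P i := stepQ 11004 Q11004 (allL N11004 (tt N9800 F35895) (tt N11402 (iv F37513)) (tt N11654 (iv F38444)) (tt N9787 F35896) (tt N11611 (iv F38270)) (tt N9532 (iv D11101)) (tt N11403 (iv F37522)) (tt N9537 F35897))
theorem Q11006 : ∀ i, i < 11006 → P i := stepQ 11005 Q11005 (allL N11005 (tt N11668 (iv F38493)) (tt N11559 (iv F38075)) (tt N11116 (iv F36367)) (tt N11144 (iv F36477)) (tt N9537 F35898) (tt N9534 (iv D11102)) (tt N11119 (iv F36383)) (tt N11611 (iv F38272)))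
theorem Q11007 : ∀ i, i < 11007 → P i := stepQ 11006 Q11006 (allL N11006 (tt N9775 F35899) (tt N9566 F35900) (tt N9884 F35901) (tt N11143 (iv F36472)) (tt N9536 F35902) (tt N12035 D12132) (tt N9535 (iv D11103)) (tt N9768 F35903))
theorem Q11008 : ∀ i, i < 11008 → P i := stepQ 11007 Q11007 (allL N11007 (tt N9777 F35904) (tt N12036 D12133) (tt N9909 F35905) (tt N9537 F35906) (tt N12035 (iv F39885)) (tt N9536 (iv D11104)) (tt N12031 (iv F39870)) (tt N9770 F35907))
theorem Q11009 : ∀ i, i < 11009 → P i := stepQ 11008 Q11008 (allL N11008 (tt N11152 (iv F36504)) (tt N9537 (iv D11105)) (tt N11151 F36503) (tt N12036 (iv F39887)) (tt N11559 (iv F38077)) (tt N9568 F35908) (tt N12032 (iv F39873)) (tt N11402 (iv F37518)))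
theorem Q11010 : ∀ i, i < 11010 → P i := stepQ 11009 Q11009 (allL N11009 (tt N9540 (iv D11106)) (tt N9576 F35909) (tt N10053 F35910) (tt N10298 F35911) (tt N10890 (iv F35914)) (tt N12037 D12134) (tt N10052 F35912) (tt N9546 F35913))
theorem Q11011 : ∀ i, i < 11011 → P i := stepQ 11010 Q11010 (allL N11010 (tt N10890 F35915) (tt N9541 F35916) (tt N10229 F35917) (tt N12038 D12135) (tt N9540 (iv D11107)) (tt N12039 D12136) (tt N10228 F35918) (tt N9547 F35919))
theorem Q11012 : ∀ i, i < 11012 → P i := stepQ 11011 Q11011 (allL N11011 (tt N12037 (iv F39890)) (tt N11673 (iv F38512)) (tt N10230 F35920) (tt N10272 F35921) (tt N12039 (iv F39905)) (tt N9540 (iv D11108)) (tt N11674 (iv F38519)) (tt N9548 F35922))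
theorem Q11013 : ∀ i, i < 11013 → P i := stepQ 11012 Q11012 (allL N11012 (tt N9578 F35923) (tt N12038 (iv F39897)) (tt N10746 F35924) (tt N9541 (iv D11109)) (tt N10441 F35925) (tt N10744 F35926) (tt N10954 F35927) (tt N10923 F35928))
theorem Q11014 : ∀ i, i < 11014 → P i := stepQ 11013 Q11013 (allL N11013 (tt N11417 (iv F37585)) (tt N9548 F35929) (tt N11416 (iv F37581)) (tt N9551 F35930) (tt N11422 (iv F37613)) (tt N9543 (iv D11110)) (tt N11343 (iv F37262)) (tt N11673 (iv F38516)))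
theorem Q11015 : ∀ i, i < 11015 → P i := stepQ 11014 Q11014 (allL N11014 (tt N9548 F35931) (tt N10864 F35932) (tt N10108 F35933) (tt N9555 F35934) (tt N10866 F35935) (tt N9546 (iv D11111)) (tt N11581 (iv F38158)) (tt N12037 (iv F39895)))
theorem Q11016 : ∀ i, i < 11016 → P i := stepQ 11015 Q11015 (allL N11015 (tt N10866 F35936) (tt N11422 (iv F37610)) (tt N11587 (iv F38182)) (tt N10869 F35937) (tt N9548 F35938) (tt N9547 (iv D11112)) (tt N11420 (iv F37604)) (tt N12039 (iv F39906)))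
theorem Q11017 : ∀ i, i < 11017 → P i := stepQ 11016 Q11016 (allL N11016 (tt N11581 (iv F38155)) (tt N11343 F37264) (tt N11902 (iv F39339)) (tt N9557 F35939) (tt N11420 (iv F37602)) (tt N11016 F35940) (tt N9548 (iv D11113)) (tt N11344 (iv F37269)))
theorem Q11018 : ∀ i, i < 11018 → P i := stepQ 11017 Q11017 (allL N11017 (tt N9551 F35941) (tt N10114 F35942) (tt N10127 F35943) (tt N11417 (iv F37587)) (tt N10123 F35944) (tt N9549 (iv D11114)) (tt N10118 F35945) (tt N10226 F35946))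
theorem Q11019 : ∀ i, i < 11019 → P i := stepQ 11018 Q11018 (allL N11018 (tt N10123 F35947) (tt N9556 F35948) (tt N10118 F35949) (tt N10472 F35950) (tt N9551 F35951) (tt N9550 (iv D11115)) (tt N10127 F35952) (tt N10195 F35953))
theorem Q11020 : ∀ i, i < 11020 → P i := stepQ 11019 Q11019 (allL N11019 (tt N10118 F35954) (tt N9557 F35955) (tt N10123 F35956) (tt N11343 (iv F37260)) (tt N10127 F35957) (tt N10384 F35958) (tt N9551 (iv D11116)) (tt N10194 (iv F35959)))
theorem Q11021 : ∀ i, i < 11021 → P i := stepQ 11020 Q11020 (allL N11020 (tt N9854 F35960) (tt N10194 F35961) (tt N9564 F35962) (tt N9855 (iv F35966)) (tt N10050 F35963) (tt N11020 F35964) (tt N10248 F35965) (tt N9557 (iv D11117)))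
theorem Q11022 : ∀ i, i < 11022 → P i := stepQ 11021 Q11021 (allL N11021 (tt N9562 F35967) (tt N11418 (iv F37591)) (tt N10879 F35968) (tt N9559 F35969) (tt N10103 F35970) (tt N9558 (iv D11118)) (tt N11582 (iv F38165)) (tt N11400 (iv F37505)))
theorem Q11023 : ∀ i, i < 11023 → P i := stepQ 11022 Q11022 (allL N11022 (tt N9564 F35971) (tt N10056 F35972) (tt N9854 F35973) (tt N11707 (iv F38645)) (tt N10051 F35974) (tt N11022 F35975) (tt N10247 F35976) (tt N9560 (iv D11119)))
theorem Q11024 : ∀ i, i < 11024 → P i := stepQ 11023 Q11023 (allL N11023 (tt N10879 F35977) (tt N11372 (iv F37383)) (tt N9562 F35978) (tt N10877 F35979) (tt N11404 (iv F37526)) (tt N9561 (iv D11120)) (tt N11370 (iv F37378)) (tt N9791 F35980))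
theorem Q11025 : ∀ i, i < 11025 → P i := stepQ 11024 Q11024 (allL N11024 (tt N11582 (iv F38161)) (tt N10131 F35981) (tt N11370 (iv F37376)) (tt N9563 F35982) (tt N11407 (iv F37543)) (tt N11024 F35983) (tt N9562 (iv D11121)) (tt N12040 D12137))
theorem Q11026 : ∀ i, i < 11026 → P i := stepQ 11025 Q11025 (allL N11025 (tt N10051 F35984) (tt N10130 F35985) (tt N10050 F35986) (tt N12041 D12138) (tt N9564 F35987) (tt N11025 F35988) (tt N10231 F35989) (tt N9563 (iv D11122)))
theorem Q11027 : ∀ i, i < 11027 → P i := stepQ 11026 Q11026 (allL N11026 (tt N11707 (iv F38643)) (tt N9872 F35990) (tt N11706 F38642) (tt N9564 (iv D11123)) (tt N11705 (iv F38630)) (tt N11026 F35991) (tt N10246 F35992) (tt N9873 F35993))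
theorem Q11028 : ∀ i, i < 11028 → P i := stepQ 11027 Q11027 (allL N11027 (tt N11182 (iv F36601)) (tt N9567 (iv D11124)) (tt N11183 (iv F36608)) (tt N9568 F35994) (tt N11766 (iv F38864)) (tt N12036 (iv F39888)) (tt N11027 F35995) (tt N9904 F35996))
theorem Q11029 : ∀ i, i < 11029 → P i := stepQ 11028 Q11028 (allL N11028 (tt N9569 (iv D11125)) (tt N10687 F35997) (tt N11028 F35998) (tt N11830 (iv F39092)) (tt N12042 D12139) (tt N10537 F35999) (tt N10645 F36000) (tt N11028 F36001))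
theorem Q11030 : ∀ i, i < 11030 → P i := stepQ 11029 Q11029 (allL N11029 (tt N12042 (iv F39917)) (tt N9570 F36002) (tt N11029 F36003) (tt N11856 (iv F39200)) (tt N9569 (iv D11126)) (tt N10538 F36004) (tt N10039 F36005) (tt N11029 F36006))
theorem Q11031 : ∀ i, i < 11031 → P i := stepQ 11030 Q11030 (allL N11030 (tt N10746 F36007) (tt N11856 (iv F39198)) (tt N9578 F36008) (tt N9570 (iv D11127)) (tt N12008 (iv F39768)) (tt N10541 F36009) (tt N10908 F36010) (tt N10925 F36011))
theorem Q11032 : ∀ i, i < 11032 → P i := stepQ 11031 Q11031 (allL N11031 (tt N9574 (iv D11128)) (tt N11415 (iv F37576)) (tt N10941 F36012) (tt N12011 (iv F39783)) (tt N10482 F36013) (tt N10480 F36014) (tt N11653 (iv F38441)) (tt N9582 F36015))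
theorem Q11033 : ∀ i, i < 11033 → P i := stepQ 11032 Q11032 (allL N11032 (tt N9577 F36016) (tt N10052 F36017) (tt N11032 F36018) (tt N11882 (iv F39285)) (tt N10892 F36019) (tt N12043 D12140) (tt N9576 (iv D11129)) (tt N11032 F36020))
theorem Q11034 : ∀ i, i < 11034 → P i := stepQ 11033 Q11033 (allL N11033 (tt N12043 (iv F39923)) (tt N10545 F36021) (tt N11033 F36022) (tt N12013 (iv F39792)) (tt N10918 F36023) (tt N9577 (iv D11130)) (tt N10914 F36024) (tt N11033 F36025))
theorem Q11035 : ∀ i, i < 11035 → P i := stepQ 11034 Q11034 (allL N11034 (tt N9977 F36026) (tt N10030 F36027) (tt N10992 F36028) (tt N9587 (iv D11131)) (tt N10402 F36029) (tt N11034 F36030) (tt N9980 F36031) (tt N10032 F36032))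
theorem Q11036 : ∀ i, i < 11036 → P i := stepQ 11035 Q11035 (allL N11035 (tt N9689 F36033) (tt N9745 F36034) (tt N9611 F36035) (tt N10504 F36036) (tt N9602 F36037) (tt N9596 (iv D11132)) (tt N9599 F36038) (tt N11478 (iv F37808)))
theorem Q11037 : ∀ i, i < 11037 → P i := stepQ 11036 Q11036 (allL N11036 (tt N11036 F36039) (tt N9597 (iv D11133)) (tt N11036 F36040) (tt N9612 F36041) (tt N10009 F36042) (tt N11036 F36043) (tt N10663 (iv F36045)) (tt N10008 F36044))
theorem Q11038 : ∀ i, i < 11038 → P i := stepQ 11037 Q11037 (allL N11037 (tt N9690 F36046) (tt N10663 F36047) (tt N9598 F36048) (tt N9614 F36049) (tt N10016 F36050) (tt N12044 D12141) (tt N9597 (iv D11134)) (tt N10185 F36051))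
theorem Q11039 : ∀ i, i < 11039 → P i := stepQ 11038 Q11038 (allL N11038 (tt N9692 F36052) (tt N12045 D12142) (tt N12044 (iv F39931)) (tt N9599 F36053) (tt N10023 F36054) (tt N9598 (iv D11135)) (tt N10504 F36055) (tt N10183 F36056))
theorem Q11040 : ∀ i, i < 11040 → P i := stepQ 11039 Q11039 (allL N11039 (tt N9737 (iv F36062)) (tt N9599 (iv D11136)) (tt N9736 F36057) (tt N12045 (iv F39937)) (tt N9608 F36058) (tt N11039 F36059) (tt N9745 F36060) (tt N10180 F36061))
theorem Q11041 : ∀ i, i < 11041 → P i := stepQ 11040 Q11040 (allL N11040 (tt N9895 F36063) (tt N9760 F36069) (tt N9814 F36064) (tt N9893 F36065) (tt N9763 F36066) (tt N9600 (iv D11137)) (tt N11040 F36067) (tt N10675 F36068))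
theorem Q11042 : ∀ i, i < 11042 → P i := stepQ 11041 Q11041 (allL N11041 (tt N9703 F36070) (tt N12046 D12143) (tt N9892 F36071) (tt N9602 F36072) (tt N10344 F36073) (tt N9601 (iv D11138)) (tt N9606 F36074) (tt N11291 (iv F37079)))
theorem Q11043 : ∀ i, i < 11043 → P i := stepQ 11042 Q11042 (allL N11042 (tt N9730 (iv F36080)) (tt N9602 (iv D11139)) (tt N9729 F36075) (tt N12046 (iv F39945)) (tt N9745 F36076) (tt N9760 F36077) (tt N9608 F36078) (tt N10671 F36079))
theorem Q11044 : ∀ i, i < 11044 → P i := stepQ 11043 Q11043 (allL N11043 (tt N9706 F36081) (tt N9880 F36082) (tt N9605 F36083) (tt N11301 (iv F37115)) (tt N9604 F36084) (tt N12047 D12144) (tt N9603 (iv D11140)) (tt N11594 (iv F38217)))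
theorem Q11045 : ∀ i, i < 11045 → P i := stepQ 11044 Q11044 (allL N11044 (tt N9707 F36085) (tt N11292 (iv F37081)) (tt N9606 F36086) (tt N9621 F36087) (tt N12047 (iv F39953)) (tt N9604 (iv D11141)) (tt N9892 F36088) (tt N12048 D12145))
theorem Q11046 : ∀ i, i < 11046 → P i := stepQ 11045 Q11045 (allL N11045 (tt N9708 F36089) (tt N9882 F36090) (tt N9607 F36091) (tt N10625 F36092) (tt N11594 (iv F38215)) (tt N12048 (iv F39958)) (tt N10047 F36093) (tt N9604 (iv D11142)))
theorem Q11047 : ∀ i, i < 11047 → P i := stepQ 11046 Q11046 (allL N11046 (tt N9709 F36094) (tt N11253 (iv F36913)) (tt N12047 (iv F39951)) (tt N10023 F36095) (tt N9606 F36096) (tt N9605 (iv D11143)) (tt N10344 F36097) (tt N11234 (iv F36824)))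
theorem Q11048 : ∀ i, i < 11048 → P i := stepQ 11047 Q11047 (allL N11047 (tt N11245 (iv F36871)) (tt N9606 (iv D11144)) (tt N12049 D12146) (tt N9608 F36098) (tt N11253 (iv F36914)) (tt N11047 F36099) (tt N12046 (iv F39948)) (tt N11244 F36870))
theorem Q11049 : ∀ i, i < 11049 → P i := stepQ 11048 Q11048 (allL N11048 (tt N9711 F36100) (tt N11244 (iv F36865)) (tt N12048 (iv F39956)) (tt N10623 F36101) (tt N11234 (iv F36821)) (tt N9607 F36102) (tt N11558 (iv F38073)) (tt N9606 (iv D11145)))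
theorem Q11050 : ∀ i, i < 11050 → P i := stepQ 11049 Q11049 (allL N11049 (tt N9608 (iv D11146)) (tt N9712 F36103) (tt N9722 (iv F36107)) (tt N11245 (iv F36876)) (tt N9737 F36104) (tt N11049 F36105) (tt N9730 F36106) (tt N11264 (iv F36970)))
theorem Q11051 : ∀ i, i < 11051 → P i := stepQ 11050 Q11050 (allL N11050 (tt N9722 F36108) (tt N9623 F36109) (tt N9608 (iv D11147)) (tt N12050 D12147) (tt N9736 F36110) (tt N11050 F36111) (tt N9729 F36112) (tt N11265 (iv F36976)))
theorem Q11052 : ∀ i, i < 11052 → P i := stepQ 11051 Q11051 (allL N11051 (tt N9718 F36113) (tt N11051 F36114) (tt N9610 F36115) (tt N10500 F36116) (tt N11195 (iv F36662)) (tt N12051 D12148) (tt N9609 (iv D11148)) (tt N10855 (iv F36117)))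
theorem Q11053 : ∀ i, i < 11053 → P i := stepQ 11052 Q11052 (allL N11052 (tt N9720 F36118) (tt N11257 (iv F36932)) (tt N12051 (iv F39972)) (tt N9611 F36119) (tt N11481 (iv F37821)) (tt N9610 (iv D11149)) (tt N9616 F36120) (tt N12052 D12149))
theorem Q11054 : ∀ i, i < 11054 → P i := stepQ 11053 Q11053 (allL N11053 (tt N9721 F36121) (tt N10585 F36122) (tt N10855 F36123) (tt N11002 F36124) (tt N10075 F36125) (tt N12052 (iv F39981)) (tt N11053 F36126) (tt N9610 (iv D11150)))
theorem Q11055 : ∀ i, i < 11055 → P i := stepQ 11054 Q11054 (allL N11054 (tt N9723 F36127) (tt N10565 F36128) (tt N9619 F36129) (tt N9613 (iv D11151)) (tt N10015 F36130) (tt N9929 F36131) (tt N10564 (iv F36133)) (tt N10017 F36132))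
theorem Q11056 : ∀ i, i < 11056 → P i := stepQ 11055 Q11055 (allL N11055 (tt N9724 F36134) (tt N10559 F36135) (tt N9615 F36136) (tt N10564 F36137) (tt N9614 F36138) (tt N12053 D12150) (tt N9613 (iv D11152)) (tt N10558 (iv F36139)))
theorem Q11057 : ∀ i, i < 11057 → P i := stepQ 11056 Q11056 (allL N11056 (tt N9725 F36140) (tt N12054 D12151) (tt N9616 F36141) (tt N12044 (iv F39932)) (tt N12053 (iv F39987)) (tt N9614 (iv D11153)) (tt N12051 (iv F39974)) (tt N10987 F36142))
theorem Q11058 : ∀ i, i < 11058 → P i := stepQ 11057 Q11057 (allL N11057 (tt N9726 F36143) (tt N11229 (iv F36800)) (tt N12053 (iv F39985)) (tt N9622 F36144) (tt N9616 F36145) (tt N9615 (iv D11154)) (tt N11481 (iv F37823)) (tt N10988 F36146))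
theorem Q11059 : ∀ i, i < 11059 → P i := stepQ 11058 Q11058 (allL N11058 (tt N11248 (iv F36890)) (tt N9616 (iv D11155)) (tt N11259 (iv F36941)) (tt N9617 F36147) (tt N11229 (iv F36802)) (tt N9624 F36148) (tt N11257 F36933) (tt N10984 F36149))
theorem Q11060 : ∀ i, i < 11060 → P i := stepQ 11059 Q11059 (allL N11059 (tt N9739 F36150) (tt N9738 F36151) (tt N10564 F36152) (tt N9620 F36153) (tt N11301 (iv F37116)) (tt N9741 F36155) (tt N9619 (iv D11156)) (tt N10563 F36154))
theorem Q11061 : ∀ i, i < 11061 → P i := stepQ 11060 Q11060 (allL N11060 (tt N9740 F36156) (tt N9707 F36157) (tt N9622 F36158) (tt N9741 F36159) (tt N9621 F36160) (tt N9620 (iv D11157)) (tt N9932 F36161) (tt N11228 (iv F36798)))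
theorem Q11062 : ∀ i, i < 11062 → P i := stepQ 11061 Q11061 (allL N11061 (tt N12047 (iv F39949)) (tt N9621 (iv D11158)) (tt N9709 F36162) (tt N11292 (iv F37082)) (tt N9707 F36163) (tt N9706 F36164) (tt N9930 F36165) (tt N11235 (iv F36829)))
theorem Q11063 : ∀ i, i < 11063 → P i := stepQ 11062 Q11062 (allL N11062 (tt N11257 (iv F36929)) (tt N12050 (iv F39966)) (tt N11236 (iv F36832)) (tt N9623 (iv D11159)) (tt N11249 (iv F36897)) (tt N9625 F36166) (tt N11248 F36894) (tt N11390 (iv F37459)))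
theorem Q11064 : ∀ i, i < 11064 → P i := stepQ 11063 Q11063 (allL N11063 (tt N9824 F36167) (tt N11193 (iv F36651)) (tt N11244 (iv F36866)) (tt N9630 F36168) (tt N11252 (iv F36909)) (tt N11063 F36169) (tt N9629 (iv D11160)) (tt N12049 (iv F39963)))
theorem Q11065 : ∀ i, i < 11065 → P i := stepQ 11064 Q11064 (allL N11064 (tt N10618 F36170) (tt N11734 (iv F38752)) (tt N9840 F36171) (tt N10617 F36172) (tt N9633 (iv D11161)) (tt N10102 F36173) (tt N11743 (iv F38785)) (tt N10174 F36174))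
theorem Q11066 : ∀ i, i < 11066 → P i := stepQ 11065 Q11065 (allL N11065 (tt N9874 F36175) (tt N10245 (iv F36180)) (tt N9634 (iv D11162)) (tt N10995 F36176) (tt N10246 F36177) (tt N9636 F36178) (tt N11705 (iv F38632)) (tt N9863 F36179))
theorem Q11067 : ∀ i, i < 11067 → P i := stepQ 11066 Q11066 (allL N11066 (tt N9873 F36181) (tt N11073 (iv F36210)) (tt N11705 (iv F38634)) (tt N9635 F36182) (tt N11706 (iv F38638)) (tt N11066 F36183) (tt N9634 (iv D11163)) (tt N11707 (iv F38649)))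
theorem Q11068 : ∀ i, i < 11068 → P i := stepQ 11067 Q11067 (allL N11067 (tt N11263 (iv F36961)) (tt N10190 F36184) (tt N10368 F36185) (tt N10198 F36186) (tt N9637 (iv D11164)) (tt N9699 F36187) (tt N11877 (iv F39264)) (tt N10120 F36188))
theorem Q11069 : ∀ i, i < 11069 → P i := stepQ 11068 Q11068 (allL N11068 (tt N10642 F36189) (tt N12055 D12152) (tt N9642 F36190) (tt N11875 (iv F39255)) (tt N10200 F36191) (tt N9638 (iv D11165)) (tt N9701 F36192) (tt N9639 F36193))
theorem Q11070 : ∀ i, i < 11070 → P i := stepQ 11069 Q11069 (allL N11069 (tt N12056 D12153) (tt N9639 (iv D11166)) (tt N12057 D12154) (tt N10336 F36194) (tt N10201 F36195) (tt N10193 F36196) (tt N9641 F36197) (tt N12055 (iv F39999)))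
theorem Q11071 : ∀ i, i < 11071 → P i := stepQ 11070 Q11070 (allL N11070 (tt N9641 (iv D11167)) (tt N11264 (iv F36967)) (tt N12058 D12155) (tt N11243 (iv F36862)) (tt N10411 F36198) (tt N9900 F36199) (tt N12056 (iv F40005)) (tt N9712 F36200))
theorem Q11072 : ∀ i, i < 11072 → P i := stepQ 11071 Q11071 (allL N11071 (tt N12058 (iv F40014)) (tt N9647 F36201) (tt N9641 (iv D11168)) (tt N12059 D12156) (tt N10412 F36202) (tt N9901 F36203) (tt N12057 (iv F40012)) (tt N9713 F36204))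
theorem Q11073 : ∀ i, i < 11073 → P i := stepQ 11072 Q11072 (allL N11072 (tt N11359 (iv F37332)) (tt N9642 (iv D11169)) (tt N12060 D12157) (tt N10379 F36205) (tt N10550 F36206) (tt N10542 F36207) (tt N9731 F36208) (tt N9643 F36209))
theorem Q11074 : ∀ i, i < 11074 → P i := stepQ 11073 Q11073 (allL N11073 (tt N9643 (iv D11170)) (tt N11066 F36210) (tt N12061 D12158) (tt N9680 F36211) (tt N10552 F36212) (tt N9957 F36213) (tt N9646 F36214) (tt N11359 (iv F37336)))
theorem Q11075 : ∀ i, i < 11075 → P i := stepQ 11074 Q11074 (allL N11074 (tt N12061 (iv F40029)) (tt N12057 (iv F40009)) (tt N9643 (iv D11171)) (tt N12062 D12159) (tt N10553 F36215) (tt N10543 F36216) (tt N9647 F36217) (tt N12060 (iv F40028)))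
theorem Q11076 : ∀ i, i < 11076 → P i := stepQ 11075 Q11075 (allL N11075 (tt N9678 F36218) (tt N11645 (iv F38403)) (tt N9644 (iv D11172)) (tt N12063 D12160) (tt N11198 (iv F36676)) (tt N9650 F36219) (tt N11643 (iv F38397)) (tt N9674 F36220))
theorem Q11077 : ∀ i, i < 11077 → P i := stepQ 11076 Q11076 (allL N11076 (tt N9647 F36221) (tt N11478 (iv F37804)) (tt N9646 (iv D11173)) (tt N12064 D12161) (tt N10671 F36222) (tt N9651 F36223) (tt N12061 (iv F40033)) (tt N9745 F36224))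
theorem Q11078 : ∀ i, i < 11078 → P i := stepQ 11077 Q11077 (allL N11077 (tt N12064 (iv F40041)) (tt N12059 (iv F40020)) (tt N12063 (iv F40038)) (tt N9647 (iv D11174)) (tt N12065 D12162) (tt N9652 F36225) (tt N12062 (iv F40036)) (tt N12066 D12163))
theorem Q11079 : ∀ i, i < 11079 → P i := stepQ 11078 Q11078 (allL N11078 (tt N10279 F36226) (tt N9673 F36227) (tt N10301 F36228) (tt N10249 F36229) (tt N11084 (iv F36257)) (tt N9649 F36230) (tt N10217 (iv F36231)) (tt N9648 (iv D11175)))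
theorem Q11080 : ∀ i, i < 11080 → P i := stepQ 11079 Q11079 (allL N11079 (tt N9679 F36232) (tt N10207 F36233) (tt N9652 F36234) (tt N9650 (iv D11176)) (tt N12067 D12164) (tt N12063 (iv F40039)) (tt N9939 F36235) (tt N10199 F36236))
theorem Q11081 : ∀ i, i < 11081 → P i := stepQ 11080 Q11080 (allL N11080 (tt N9652 F36237) (tt N11805 (iv F39000)) (tt N9679 F36238) (tt N9651 (iv D11177)) (tt N12068 D12165) (tt N12064 (iv F40043)) (tt N9954 F36239) (tt N12069 D12166))
theorem Q11082 : ∀ i, i < 11082 → P i := stepQ 11081 Q11081 (allL N11081 (tt N12068 (iv F40054)) (tt N9914 F36240) (tt N12067 (iv F40051)) (tt N10677 F36241) (tt N9652 (iv D11178)) (tt N12065 (iv F40045)) (tt N10664 F36242) (tt N12070 D12167))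
theorem Q11083 : ∀ i, i < 11083 → P i := stepQ 11082 Q11082 (allL N11082 (tt N12069 (iv F40058)) (tt N9915 F36243) (tt N10199 F36244) (tt N9766 F36245) (tt N12070 (iv F40065)) (tt N12066 (iv F40048)) (tt N10197 (iv F36246)) (tt N9652 (iv D11179)))
theorem Q11084 : ∀ i, i < 11084 → P i := stepQ 11083 Q11083 (allL N11083 (tt N9670 F36247) (tt N9653 (iv D11180)) (tt N11449 (iv F37694)) (tt N9655 F36248) (tt N10695 F36249) (tt N9656 F36250) (tt N10256 F36251) (tt N9669 (iv F36252)))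
theorem Q11085 : ∀ i, i < 11085 → P i := stepQ 11084 Q11084 (allL N11084 (tt N9655 F36253) (tt N9669 F36254) (tt N10292 F36255) (tt N9670 F36256) (tt N11078 F36257) (tt N9654 F36258) (tt N11456 (iv F37727)) (tt N9653 (iv D11181)))
theorem Q11086 : ∀ i, i < 11086 → P i := stepQ 11085 Q11085 (allL N11085 (tt N11456 (iv F37724)) (tt N9659 F36259) (tt N11530 (iv F37984)) (tt N10256 F36260) (tt N11459 (iv F37736)) (tt N10217 F36261) (tt N9655 (iv D11182)) (tt N11509 (iv F37912)))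
theorem Q11087 : ∀ i, i < 11087 → P i := stepQ 11086 Q11086 (allL N11086 (tt N9663 F36262) (tt N11459 (iv F37734)) (tt N10142 F36263) (tt N11171 (iv F36562)) (tt N9659 F36264) (tt N9657 (iv D11183)) (tt N9658 F36265) (tt N11202 (iv F36700)))
theorem Q11088 : ∀ i, i < 11088 → P i := stepQ 11087 Q11087 (allL N11087 (tt N9664 F36266) (tt N10216 F36267) (tt N10143 F36268) (tt N12071 D12168) (tt N9660 F36269) (tt N11202 (iv F36698)) (tt N9920 F36270) (tt N9657 (iv D11184)))
theorem Q11089 : ∀ i, i < 11089 → P i := stepQ 11088 Q11088 (allL N11088 (tt N9667 F36271) (tt N11509 (iv F37908)) (tt N10146 F36272) (tt N12072 D12169) (tt N11202 (iv F36697)) (tt N9660 F36273) (tt N11201 (iv F36693)) (tt N9659 (iv D11185)))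
theorem Q11090 : ∀ i, i < 11090 → P i := stepQ 11089 Q11089 (allL N11089 (tt N9668 F36274) (tt N10219 F36275) (tt N10460 F36276) (tt N9660 (iv D11186)) (tt N12073 D12170) (tt N12072 (iv F40074)) (tt N9922 F36277) (tt N10258 F36278))
theorem Q11091 : ∀ i, i < 11091 → P i := stepQ 11090 Q11090 (allL N11090 (tt N11271 (iv F36995)) (tt N9733 F36279) (tt N11194 (iv F36655)) (tt N9932 F36280) (tt N11175 (iv F36581)) (tt N9662 F36281) (tt N9741 F36282) (tt N9661 (iv D11187)))
theorem Q11092 : ∀ i, i < 11092 → P i := stepQ 11091 Q11091 (allL N11091 (tt N11202 (iv F36695)) (tt N11356 (iv F37320)) (tt N10153 F36283) (tt N11919 (iv F39420)) (tt N9667 F36284) (tt N9664 F36285) (tt N10693 F36286) (tt N9663 (iv D11188)))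
theorem Q11093 : ∀ i, i < 11093 → P i := stepQ 11092 Q11092 (allL N11092 (tt N12071 (iv F40067)) (tt N11180 (iv F36596)) (tt N10678 (iv F36289)) (tt N9664 (iv D11189)) (tt N12074 D12171) (tt N11919 (iv F39421)) (tt N9923 F36287) (tt N10674 F36288))
theorem Q11094 : ∀ i, i < 11094 → P i := stepQ 11093 Q11093 (allL N11093 (tt N11457 (iv F37728)) (tt N9667 F36290) (tt N11243 (iv F36861)) (tt N12075 D12172) (tt N11356 (iv F37322)) (tt N11242 (iv F36859)) (tt N12076 D12173) (tt N9666 (iv D11190)))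
theorem Q11095 : ∀ i, i < 11095 → P i := stepQ 11094 Q11094 (allL N11094 (tt N12072 (iv F40072)) (tt N12075 (iv F40085)) (tt N11958 (iv F39561)) (tt N9667 (iv D11191)) (tt N12077 D12174) (tt N9668 F36291) (tt N12078 D12175) (tt N11508 (iv F37906)))
theorem Q11096 : ∀ i, i < 11096 → P i := stepQ 11095 Q11095 (allL N11095 (tt N11201 (iv F36689)) (tt N12076 (iv F40087)) (tt N10159 F36292) (tt N12078 (iv F40093)) (tt N10693 F36293) (tt N9925 F36294) (tt N9667 (iv D11192)) (tt N9671 F36295))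
theorem Q11097 : ∀ i, i < 11097 → P i := stepQ 11096 Q11096 (allL N11096 (tt N12073 (iv F40076)) (tt N11515 (iv F37927)) (tt N11960 (iv F39570)) (tt N12074 (iv F40082)) (tt N9668 (iv D11193)) (tt N12077 (iv F40092)) (tt N9927 F36296) (tt N11510 (iv F37918)))
theorem Q11098 : ∀ i, i < 11098 → P i := stepQ 11097 Q11097 (allL N11097 (tt N10256 F36297) (tt N9671 F36298) (tt N11562 (iv F38090)) (tt N11456 (iv F37725)) (tt N10692 F36299) (tt N10262 (iv F36300)) (tt N9670 (iv D11194)) (tt N12076 (iv F40090)))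
theorem Q11099 : ∀ i, i < 11099 → P i := stepQ 11098 Q11098 (allL N11098 (tt N10249 F36301) (tt N9907 F36302) (tt N11564 (iv F38098)) (tt N10279 F36303) (tt N9908 F36304) (tt N9672 (iv D11195)) (tt N10262 F36305) (tt N11278 (iv F37031)))
theorem Q11100 : ∀ i, i < 11100 → P i := stepQ 11099 Q11099 (allL N11099 (tt N11908 (iv F39369)) (tt N9674 (iv D11196)) (tt N11626 (iv F38337)) (tt N10201 F36306) (tt N11216 (iv F36754)) (tt N10211 F36307) (tt N10172 F36308) (tt N11645 (iv F38407)))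
theorem Q11101 : ∀ i, i < 11101 → P i := stepQ 11100 Q11100 (allL N11100 (tt N12060 (iv F40022)) (tt N9675 (iv D11197)) (tt N11359 (iv F37333)) (tt N9677 F36309) (tt N10641 F36310) (tt N10094 F36311) (tt N10180 F36312) (tt N12061 (iv F40034)))
theorem Q11102 : ∀ i, i < 11102 → P i := stepQ 11101 Q11101 (allL N11101 (tt N10200 F36313) (tt N12061 (iv F40030)) (tt N10547 F36314) (tt N12079 D12176) (tt N10642 F36315) (tt N9676 F36316) (tt N11478 (iv F37807)) (tt N9675 (iv D11198)))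
theorem Q11103 : ∀ i, i < 11103 → P i := stepQ 11102 Q11102 (allL N11102 (tt N10199 F36317) (tt N10644 F36318) (tt N12069 (iv F40060)) (tt N9676 (iv D11199)) (tt N11878 (iv F39268)) (tt N12079 (iv F40096)) (tt N10196 F36319) (tt N9679 F36320))
theorem Q11104 : ∀ i, i < 11104 → P i := stepQ 11103 Q11103 (allL N11103 (tt N9677 (iv D11200)) (tt N11908 (iv F39370)) (tt N10078 F36321) (tt N12060 (iv F40024)) (tt N10085 F36322) (tt N10093 F36323) (tt N10181 F36324) (tt N11846 (iv F39156)))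
theorem Q11105 : ∀ i, i < 11105 → P i := stepQ 11104 Q11104 (allL N11104 (tt N12063 (iv F40037)) (tt N11851 (iv F39175)) (tt N12064 (iv F40042)) (tt N9678 (iv D11201)) (tt N12080 D12177) (tt N9679 F36325) (tt N12081 D12178) (tt N12079 (iv F40097)))
theorem Q11106 : ∀ i, i < 11106 → P i := stepQ 11105 Q11105 (allL N11105 (tt N11643 (iv F38392)) (tt N11853 (iv F39183)) (tt N9680 F36326) (tt N12081 (iv F40099)) (tt N11551 (iv F38045)) (tt N9953 F36327) (tt N9678 (iv D11202)) (tt N10184 F36328))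
theorem Q11107 : ∀ i, i < 11107 → P i := stepQ 11106 Q11106 (allL N11106 (tt N12067 (iv F40049)) (tt N11555 (iv F38056)) (tt N12068 (iv F40055)) (tt N11554 (iv F38052)) (tt N9679 (iv D11203)) (tt N12080 (iv F40098)) (tt N9955 F36329) (tt N11878 (iv F39270)))
theorem Q11108 : ∀ i, i < 11108 → P i := stepQ 11107 Q11107 (allL N11107 (tt N10515 F36330) (tt N10111 F36331) (tt N12082 D12179) (tt N9681 (iv D11204)) (tt N12083 D12180) (tt N9696 F36332) (tt N10489 F36333) (tt N9686 F36334))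
theorem Q11109 : ∀ i, i < 11109 → P i := stepQ 11108 Q11108 (allL N11108 (tt N10523 F36335) (tt N9686 F36336) (tt N10613 (iv F36339)) (tt N9683 (iv D11205)) (tt N12084 D12181) (tt N10119 F36337) (tt N12085 D12182) (tt N10111 F36338))
theorem Q11110 : ∀ i, i < 11110 → P i := stepQ 11109 Q11109 (allL N11109 (tt N9948 F36340) (tt N9687 F36341) (tt N11109 F36342) (tt N12085 (iv F40122)) (tt N9697 F36343) (tt N10491 F36344) (tt N9683 (iv D11206)) (tt N9685 F36345))
theorem Q11111 : ∀ i, i < 11111 → P i := stepQ 11110 Q11110 (allL N11110 (tt N9941 F36346) (tt N9688 F36347) (tt N10887 F36348) (tt N9685 F36349) (tt N9934 F36350) (tt N11250 (iv F36902)) (tt N9684 (iv D11207)) (tt N11589 (iv F38195)))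
theorem Q11112 : ∀ i, i < 11112 → P i := stepQ 11111 Q11111 (allL N11111 (tt N9947 F36351) (tt N9975 F36356) (tt N11111 F36352) (tt N11250 (iv F36901)) (tt N9698 F36353) (tt N9685 (iv D11208)) (tt N9965 F36354) (tt N10491 F36355))
theorem Q11113 : ∀ i, i < 11113 → P i := stepQ 11112 Q11112 (allL N11112 (tt N11469 (iv F37772)) (tt N11975 (iv F39618)) (tt N9686 (iv D11209)) (tt N9714 F36357) (tt N12086 D12183) (tt N10197 F36358) (tt N11973 (iv F39610)) (tt N12082 (iv F40106)))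
theorem Q11114 : ∀ i, i < 11114 → P i := stepQ 11113 Q11113 (allL N11113 (tt N11441 (iv F37670)) (tt N12084 (iv F40114)) (tt N12086 (iv F40124)) (tt N9699 F36359) (tt N9686 (iv D11210)) (tt N10198 F36360) (tt N12087 D12184) (tt N12083 (iv F40112)))
theorem Q11115 : ∀ i, i < 11115 → P i := stepQ 11114 Q11114 (allL N11114 (tt N11477 (iv F37801)) (tt N12085 (iv F40120)) (tt N11973 (iv F39609)) (tt N9687 F36361) (tt N12087 (iv F40127)) (tt N12088 D12185) (tt N9686 (iv D11211)) (tt N11980 (iv F39645)))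
theorem Q11116 : ∀ i, i < 11116 → P i := stepQ 11115 Q11115 (allL N11115 (tt N11478 (iv F37803)) (tt N12058 (iv F40015)) (tt N9716 F36362) (tt N12088 (iv F40128)) (tt N9701 F36363) (tt N9687 (iv D11212)) (tt N10200 F36364) (tt N9689 F36365))
theorem Q11117 : ∀ i, i < 11117 → P i := stepQ 11116 Q11116 (allL N11116 (tt N10504 F36366) (tt N11247 (iv F36888)) (tt N11005 F36367) (tt N9689 F36368) (tt N10484 F36369) (tt N9688 (iv D11213)) (tt N9692 F36370) (tt N12089 D12186))
theorem Q11118 : ∀ i, i < 11118 → P i := stepQ 11117 Q11117 (allL N11117 (tt N10503 F36371) (tt N11589 (iv F38192)) (tt N10427 F36372) (tt N11980 (iv F39644)) (tt N10483 F36373) (tt N12089 (iv F40133)) (tt N10480 F36374) (tt N9688 (iv D11214)))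
theorem Q11119 : ∀ i, i < 11119 → P i := stepQ 11118 Q11118 (allL N11118 (tt N9713 F36375) (tt N9689 (iv D11215)) (tt N9712 F36376) (tt N11247 (iv F36886)) (tt N9705 F36377) (tt N9975 F36378) (tt N9694 F36379) (tt N12058 (iv F40019)))
theorem Q11120 : ∀ i, i < 11120 → P i := stepQ 11119 Q11119 (allL N11119 (tt N12044 (iv F39929)) (tt N12090 D12187) (tt N9692 F36380) (tt N9725 F36381) (tt N10994 F36382) (tt N9690 (iv D11216)) (tt N11005 F36383) (tt N10380 F36384))
theorem Q11121 : ∀ i, i < 11121 → P i := stepQ 11120 Q11120 (allL N11120 (tt N10023 F36385) (tt N11236 (iv F36831)) (tt N10994 F36386) (tt N9709 F36387) (tt N9692 F36388) (tt N9691 (iv D11217)) (tt N10484 F36389) (tt N11392 (iv F37470)))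
theorem Q11122 : ∀ i, i < 11122 → P i := stepQ 11121 Q11121 (allL N11121 (tt N11258 (iv F36934)) (tt N9692 (iv D11218)) (tt N11249 (iv F36895)) (tt N9694 F36390) (tt N11236 (iv F36833)) (tt N9970 F36391) (tt N11247 F36889) (tt N11391 (iv F37466)))
theorem Q11123 : ∀ i, i < 11123 → P i := stepQ 11122 Q11122 (allL N11122 (tt N10183 F36392) (tt N11391 (iv F37461)) (tt N10380 F36393) (tt N10173 F36394) (tt N11392 (iv F37468)) (tt N9693 F36395) (tt N11641 (iv F38387)) (tt N9692 (iv D11219)))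
theorem Q11124 : ∀ i, i < 11124 → P i := stepQ 11123 Q11123 (allL N11123 (tt N9694 (iv D11220)) (tt N9737 F36396) (tt N9705 (iv F36401)) (tt N11258 (iv F36936)) (tt N9712 F36397) (tt N9971 F36398) (tt N9713 F36399) (tt N10411 F36400))
theorem Q11125 : ∀ i, i < 11125 → P i := stepQ 11124 Q11124 (allL N11124 (tt N9705 F36402) (tt N9730 F36403) (tt N9694 (iv D11221)) (tt N11246 (iv F36881)) (tt N9713 F36404) (tt N9972 F36405) (tt N9712 F36406) (tt N10412 F36407))
theorem Q11126 : ∀ i, i < 11126 → P i := stepQ 11125 Q11125 (allL N11125 (tt N9696 F36408) (tt N11438 (iv F37661)) (tt N12091 D12188) (tt N9695 (iv D11222)) (tt N12092 D12189) (tt N10515 F36409) (tt N9949 F36410) (tt N10196 F36411))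
theorem Q11127 : ∀ i, i < 11127 → P i := stepQ 11126 Q11126 (allL N11126 (tt N12091 (iv F40141)) (tt N10704 F36412) (tt N9696 (iv D11223)) (tt N11126 F36413) (tt N12093 D12190) (tt N12082 (iv F40104)) (tt N10665 (iv F36415)) (tt N10197 F36414))
theorem Q11128 : ∀ i, i < 11128 → P i := stepQ 11127 Q11127 (allL N11127 (tt N12092 (iv F40147)) (tt N9699 F36416) (tt N12093 (iv F40153)) (tt N12084 (iv F40116)) (tt N9696 (iv D11224)) (tt N12083 (iv F40110)) (tt N12094 D12191) (tt N10198 F36417))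
theorem Q11129 : ∀ i, i < 11129 → P i := stepQ 11128 Q11128 (allL N11128 (tt N9949 F36418) (tt N9700 F36419) (tt N10665 F36420) (tt N9697 F36421) (tt N12094 (iv F40159)) (tt N11912 (iv F39388)) (tt N9696 (iv D11225)) (tt N9939 F36422))
theorem Q11130 : ∀ i, i < 11130 → P i := stepQ 11129 Q11129 (allL N11129 (tt N9972 F36423) (tt N9698 (iv D11226)) (tt N9971 F36429) (tt N9937 F36424) (tt N9975 F36425) (tt N9705 F36426) (tt N9973 F36427) (tt N10413 F36428))
theorem Q11131 : ∀ i, i < 11131 → P i := stepQ 11130 Q11130 (allL N11130 (tt N11442 (iv F37673)) (tt N12094 (iv F40157)) (tt N11351 (iv F37294)) (tt N12087 (iv F40126)) (tt N9700 F36430) (tt N12095 D12192) (tt N9699 (iv D11227)) (tt N12096 D12193))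
theorem Q11132 : ∀ i, i < 11132 → P i := stepQ 11131 Q11131 (allL N11131 (tt N11443 (iv F37676)) (tt N11909 (iv F39377)) (tt N11352 (iv F37298)) (tt N9701 F36431) (tt N12095 (iv F40161)) (tt N9700 (iv D11228)) (tt N11875 F39257) (tt N12097 D12194))
theorem Q11133 : ∀ i, i < 11133 → P i := stepQ 11132 Q11132 (allL N11132 (tt N11293 (iv F37085)) (tt N9939 F36432) (tt N10697 F36433) (tt N9704 F36434) (tt N12096 (iv F40164)) (tt N12097 (iv F40168)) (tt N10207 F36435) (tt N9700 (iv D11229)))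
theorem Q11134 : ∀ i, i < 11134 → P i := stepQ 11133 Q11133 (allL N11133 (tt N10412 F36436) (tt N9701 (iv D11230)) (tt N10411 F36439) (tt N11909 (iv F39378)) (tt N12058 (iv F40016)) (tt N10413 F36437) (tt N12055 (iv F39998)) (tt N9705 F36438))
theorem Q11135 : ∀ i, i < 11135 → P i := stepQ 11134 Q11134 (allL N11134 (tt N10344 F36440) (tt N11237 (iv F36837)) (tt N9930 F36441) (tt N10484 F36442) (tt N9703 F36443) (tt N9702 (iv D11231)) (tt N9709 F36444) (tt N11479 (iv F37813)))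
theorem Q11136 : ∀ i, i < 11136 → P i := stepQ 11135 Q11135 (allL N11135 (tt N10343 F36445) (tt N9936 F36446) (tt N9931 F36447) (tt N11527 (iv F37972)) (tt N9704 F36448) (tt N11479 (iv F37811)) (tt N10210 F36449) (tt N9702 (iv D11232)))
theorem Q11137 : ∀ i, i < 11137 → P i := stepQ 11136 Q11136 (allL N11136 (tt N11246 (iv F36878)) (tt N9703 (iv D11233)) (tt N11230 (iv F36806)) (tt N9705 F36450) (tt N11237 (iv F36839)) (tt N9937 F36451) (tt N9710 F36452) (tt N11480 (iv F37819)))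
theorem Q11138 : ∀ i, i < 11138 → P i := stepQ 11137 Q11137 (allL N11137 (tt N11291 (iv F37077)) (tt N11480 (iv F37815)) (tt N9933 F36453) (tt N12097 (iv F40167)) (tt N11479 (iv F37810)) (tt N9704 F36454) (tt N11490 (iv F37856)) (tt N9703 (iv D11234)))
theorem Q11139 : ∀ i, i < 11139 → P i := stepQ 11138 Q11138 (allL N11138 (tt N12048 (iv F39955)) (tt N11228 (iv F36794)) (tt N9711 F36455) (tt N12098 D12195) (tt N11235 (iv F36826)) (tt N9708 F36456) (tt N11491 (iv F37862)) (tt N9707 (iv D11235)))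
theorem Q11140 : ∀ i, i < 11140 → P i := stepQ 11139 Q11139 (allL N11139 (tt N10625 F36457) (tt N9922 F36458) (tt N10316 F36459) (tt N9708 (iv D11236)) (tt N12099 D12196) (tt N12098 (iv F40171)) (tt N10219 F36460) (tt N9743 F36461))
theorem Q11141 : ∀ i, i < 11141 → P i := stepQ 11140 Q11140 (allL N11140 (tt N11247 (iv F36885)) (tt N9746 F36462) (tt N11229 (iv F36801)) (tt N9713 (iv D11237)) (tt N11259 (iv F36943)) (tt N9976 F36463) (tt N11258 (iv F36939)) (tt N11959 (iv F39567)))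
theorem Q11142 : ∀ i, i < 11142 → P i := stepQ 11141 Q11141 (allL N11141 (tt N11470 (iv F37776)) (tt N12100 D12197) (tt N11957 (iv F39557)) (tt N9716 F36464) (tt N11358 (iv F37330)) (tt N9715 (iv D11238)) (tt N10549 F36465) (tt N11382 (iv F37429)))
theorem Q11143 : ∀ i, i < 11143 → P i := stepQ 11142 Q11142 (allL N11142 (tt N11265 (iv F36972)) (tt N9716 (iv D11239)) (tt N11264 F36971) (tt N12100 (iv F40179)) (tt N9731 F36466) (tt N11142 F36467) (tt N10550 F36468) (tt N9722 F36469))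
theorem Q11144 : ∀ i, i < 11144 → P i := stepQ 11143 Q11143 (allL N11143 (tt N11195 (iv F36659)) (tt N10853 F36470) (tt N9719 F36471) (tt N11006 F36472) (tt N9718 F36473) (tt N12101 D12198) (tt N9717 (iv D11240)) (tt N10084 (iv F36474)))
theorem Q11145 : ∀ i, i < 11145 → P i := stepQ 11144 Q11144 (allL N11144 (tt N12051 (iv F39971)) (tt N10835 F36475) (tt N9720 F36476) (tt N11005 F36477) (tt N12101 (iv F40186)) (tt N9718 (iv D11241)) (tt N9725 F36478) (tt N10834 F36479))
theorem Q11146 : ∀ i, i < 11146 → P i := stepQ 11145 Q11145 (allL N11145 (tt N11481 (iv F37820)) (tt N11208 (iv F36717)) (tt N12101 (iv F40184)) (tt N9734 F36480) (tt N9720 F36481) (tt N9719 (iv D11242)) (tt N9726 F36482) (tt N10082 F36483))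
theorem Q11147 : ∀ i, i < 11147 → P i := stepQ 11146 Q11146 (allL N11146 (tt N12050 (iv F39965)) (tt N9720 (iv D11243)) (tt N12102 D12199) (tt N9722 F36484) (tt N11208 (iv F36719)) (tt N11146 F36485) (tt N9727 F36486) (tt N12103 D12200))
theorem Q11148 : ∀ i, i < 11148 → P i := stepQ 11147 Q11147 (allL N11147 (tt N12052 (iv F39976)) (tt N12103 (iv F40196)) (tt N10834 F36487) (tt N11382 (iv F37427)) (tt N10082 F36488) (tt N9721 F36489) (tt N12104 D12201) (tt N9720 (iv D11244)))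
theorem Q11149 : ∀ i, i < 11149 → P i := stepQ 11148 Q11148 (allL N11148 (tt N10564 F36490) (tt N11148 F36491) (tt N9739 F36492) (tt N9724 F36493) (tt N10993 F36494) (tt N12105 D12202) (tt N9723 (iv D11245)) (tt N10562 F36495))
theorem Q11150 : ∀ i, i < 11150 → P i := stepQ 11149 Q11149 (allL N11149 (tt N12053 (iv F39983)) (tt N12106 D12203) (tt N9726 F36496) (tt N12105 (iv F40209)) (tt N9725 F36497) (tt N9724 (iv D11246)) (tt N12101 (iv F40187)) (tt N11207 (iv F36716)))
theorem Q11151 : ∀ i, i < 11151 → P i := stepQ 11150 Q11150 (allL N11150 (tt N12107 D12204) (tt N9725 (iv D11247)) (tt N12108 D12205) (tt N12090 (iv F40136)) (tt N12106 (iv F40213)) (tt N11150 F36498) (tt N10835 F36499) (tt N11357 (iv F37327)))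
theorem Q11152 : ∀ i, i < 11152 → P i := stepQ 11151 Q11151 (allL N11151 (tt N9727 (iv D11248)) (tt N11248 (iv F36891)) (tt N11008 (iv F36503)) (tt N9729 F36500) (tt N10339 F36501) (tt N9758 F36502) (tt N12050 (iv F39970)) (tt N11189 (iv F36638)))
theorem Q11153 : ∀ i, i < 11153 → P i := stepQ 11152 Q11152 (allL N11152 (tt N11008 F36504) (tt N12108 (iv F40223)) (tt N9727 (iv D11249)) (tt N12109 D12206) (tt N11205 (iv F36708)) (tt N9759 F36505) (tt N12102 (iv F40194)) (tt N10149 F36506))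
theorem Q11154 : ∀ i, i < 11154 → P i := stepQ 11153 Q11153 (allL N11153 (tt N10989 F36507) (tt N10147 F36508) (tt N11360 (iv F37337)) (tt N10670 F36509) (tt N11206 (iv F36711)) (tt N11153 F36510) (tt N9728 (iv D11250)) (tt N12104 (iv F40206)))
theorem Q11155 : ∀ i, i < 11155 → P i := stepQ 11154 Q11154 (allL N11154 (tt N12046 (iv F39943)) (tt N11246 (iv F36879)) (tt N12109 (iv F40230)) (tt N9730 (iv D11251)) (tt N11256 (iv F36926)) (tt N9761 F36511) (tt N11245 (iv F36877)) (tt N11567 (iv F38114)))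
theorem Q11156 : ∀ i, i < 11156 → P i := stepQ 11155 Q11155 (allL N11155 (tt N9731 (iv D11252)) (tt N10667 F36512) (tt N10180 (iv F36516)) (tt N11001 F36513) (tt N11265 (iv F36974)) (tt N11155 F36514) (tt N11359 (iv F37335)) (tt N9736 F36515))
theorem Q11157 : ∀ i, i < 11157 → P i := stepQ 11156 Q11156 (allL N11156 (tt N10180 F36517) (tt N10411 F36518) (tt N9731 (iv D11253)) (tt N10181 F36519) (tt N11264 (iv F36968)) (tt N11156 F36520) (tt N12060 (iv F40027)) (tt N9737 F36521))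
theorem Q11158 : ∀ i, i < 11158 → P i := stepQ 11157 Q11157 (allL N11157 (tt N9932 F36522) (tt N11175 (iv F36579)) (tt N9734 F36523) (tt N11271 (iv F36996)) (tt N9733 F36524) (tt N9732 (iv D11254)) (tt N9740 F36525) (tt N10063 F36526))
theorem Q11159 : ∀ i, i < 11159 → P i := stepQ 11158 Q11158 (allL N11158 (tt N10990 F36527) (tt N11194 (iv F36654)) (tt N9735 (iv D11255)) (tt N12110 D12207) (tt N11196 (iv F36666)) (tt N11158 F36528) (tt N9744 F36529) (tt N10670 F36530))
theorem Q11160 : ∀ i, i < 11160 → P i := stepQ 11159 Q11159 (allL N11159 (tt N12045 (iv F39936)) (tt N11258 (iv F36935)) (tt N12110 (iv F40236)) (tt N9737 (iv D11256)) (tt N11255 (iv F36921)) (tt N11159 F36531) (tt N9746 F36532) (tt N11593 (iv F38213)))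
theorem Q11161 : ∀ i, i < 11161 → P i := stepQ 11160 Q11160 (allL N11160 (tt N9741 F36533) (tt N12047 (iv F39950)) (tt N12105 (iv F40208)) (tt N9740 F36534) (tt N11292 (iv F37083)) (tt N9739 (iv D11257)) (tt N11271 (iv F36998)) (tt N12111 D12208))
theorem Q11162 : ∀ i, i < 11162 → P i := stepQ 11161 Q11161 (allL N11161 (tt N10563 F36535) (tt N11275 (iv F37012)) (tt N10562 F36536) (tt N11787 (iv F38935)) (tt N11303 (iv F37124)) (tt N12111 (iv F40241)) (tt N10574 F36537) (tt N9739 (iv D11258)))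
theorem Q11163 : ∀ i, i < 11163 → P i := stepQ 11162 Q11162 (allL N11162 (tt N11292 (iv F37080)) (tt N9740 (iv D11259)) (tt N11197 (iv F36670)) (tt N12047 (iv F39952)) (tt N9741 F36538) (tt N11301 (iv F37117)) (tt N11175 F36583) (tt N11177 (iv F36590)))
theorem Q11164 : ∀ i, i < 11164 → P i := stepQ 11163 Q11163 (allL N11163 (tt N12105 (iv F40207)) (tt N9744 F36539) (tt N9741 (iv D11260)) (tt N12053 (iv F39986)) (tt N11197 (iv F36671)) (tt N10564 F36540) (tt N11194 (iv F36658)) (tt N10551 (iv F36541)))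
theorem Q11165 : ∀ i, i < 11165 → P i := stepQ 11164 Q11164 (allL N11164 (tt N12111 (iv F40239)) (tt N9742 F36542) (tt N10551 F36543) (tt N12112 D12209) (tt N11177 (iv F36588)) (tt N10563 F36544) (tt N10669 F36545) (tt N9741 (iv D11261)))
theorem Q11166 : ∀ i, i < 11166 → P i := stepQ 11165 Q11165 (allL N11165 (tt N11238 (iv F36842)) (tt N12112 (iv F40243)) (tt N11735 (iv F38755)) (tt N9742 (iv D11262)) (tt N12113 D12210) (tt N9743 F36546) (tt N11361 (iv F37343)) (tt N12098 (iv F40172)))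
theorem Q11167 : ∀ i, i < 11167 → P i := stepQ 11166 Q11166 (allL N11166 (tt N11239 (iv F36845)) (tt N11788 (iv F38938)) (tt N11736 (iv F38760)) (tt N11786 (iv F38930)) (tt N9743 (iv D11263)) (tt N12113 (iv F40247)) (tt N9757 F36547) (tt N12099 (iv F40177)))
theorem Q11168 : ∀ i, i < 11168 → P i := stepQ 11167 Q11167 (allL N11167 (tt N11262 (iv F36958)) (tt N12053 (iv F39984)) (tt N9746 F36548) (tt N9744 (iv D11264)) (tt N12054 (iv F39991)) (tt N9762 F36549) (tt N12110 (iv F40238)) (tt N10549 F36550))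
theorem Q11169 : ∀ i, i < 11169 → P i := stepQ 11168 Q11168 (allL N11168 (tt N9746 F36551) (tt N10504 F36552) (tt N11262 (iv F36959)) (tt N9745 (iv D11265)) (tt N10507 (iv F36554)) (tt N9764 F36553) (tt N12045 (iv F39940)) (tt N12114 D12211))
theorem Q11170 : ∀ i, i < 11170 → P i := stepQ 11169 Q11169 (allL N11169 (tt N10507 F36555) (tt N11259 (iv F36940)) (tt N12054 (iv F39989)) (tt N11256 (iv F36925)) (tt N9746 (iv D11266)) (tt N9765 F36556) (tt N11255 F36923) (tt N12115 D12212))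
theorem Q11171 : ∀ i, i < 11171 → P i := stepQ 11170 Q11170 (allL N11170 (tt N12114 (iv F40248)) (tt N11959 (iv F39564)) (tt N10549 F36557) (tt N12066 (iv F40047)) (tt N12115 (iv F40257)) (tt N9766 F36558) (tt N11957 (iv F39559)) (tt N9746 (iv D11267)))
theorem Q11172 : ∀ i, i < 11172 → P i := stepQ 11171 Q11171 (allL N11171 (tt N9750 F36559) (tt N10262 F36560) (tt N9769 F36561) (tt N11086 F36562) (tt N9748 F36563) (tt N9747 (iv D11268)) (tt N9907 F36564) (tt N11774 (iv F38891)))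
theorem Q11173 : ∀ i, i < 11173 → P i := stepQ 11172 Q11172 (allL N11172 (tt N10259 F36565) (tt N9748 (iv D11269)) (tt N12116 D12213) (tt N10274 F36566) (tt N10262 F36567) (tt N10692 F36568) (tt N9908 F36569) (tt N12117 D12214))
theorem Q11174 : ∀ i, i < 11174 → P i := stepQ 11173 Q11173 (allL N11173 (tt N9753 F36570) (tt N12117 (iv F40268)) (tt N9772 F36571) (tt N12118 D12215) (tt N11774 (iv F38889)) (tt N9749 F36572) (tt N12119 D12216) (tt N9748 (iv D11270)))
theorem Q11175 : ∀ i, i < 11175 → P i := stepQ 11174 Q11174 (allL N11174 (tt N9754 F36573) (tt N10694 F36574) (tt N10331 F36575) (tt N9749 (iv D11271)) (tt N12120 D12217) (tt N12118 (iv F40277)) (tt N9918 F36576) (tt N10276 F36577))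
theorem Q11176 : ∀ i, i < 11176 → P i := stepQ 11175 Q11175 (allL N11175 (tt N9909 F36578) (tt N11157 F36579) (tt N9777 F36580) (tt N11278 (iv F37029)) (tt N11090 F36581) (tt N9752 F36582) (tt N11162 (iv F36583)) (tt N9751 (iv D11272)))
theorem Q11177 : ∀ i, i < 11177 → P i := stepQ 11176 Q11176 (allL N11176 (tt N12118 (iv F40274)) (tt N11363 (iv F37349)) (tt N12121 D12218) (tt N9753 (iv D11273)) (tt N12122 D12219) (tt N9754 F36584) (tt N12123 D12220) (tt N10280 F36585))
theorem Q11178 : ∀ i, i < 11178 → P i := stepQ 11177 Q11177 (allL N11177 (tt N12119 (iv F40279)) (tt N10679 F36586) (tt N9779 F36587) (tt N12123 (iv F40300)) (tt N11164 F36588) (tt N10570 F36589) (tt N9753 (iv D11274)) (tt N11162 F36590))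
theorem Q11179 : ∀ i, i < 11179 → P i := stepQ 11178 Q11178 (allL N11178 (tt N10331 F36591) (tt N11450 (iv F37699)) (tt N9754 (iv D11275)) (tt N9780 F36592) (tt N12124 D12221) (tt N12121 (iv F40293)) (tt N11316 (iv F37161)) (tt N10282 F36593))
theorem Q11180 : ∀ i, i < 11180 → P i := stepQ 11179 Q11179 (allL N11179 (tt N12120 (iv F40285)) (tt N9757 F36594) (tt N12124 (iv F40303)) (tt N11780 (iv F38909)) (tt N9754 (iv D11276)) (tt N12122 (iv F40296)) (tt N11788 (iv F38940)) (tt N10283 F36595))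
theorem Q11181 : ∀ i, i < 11181 → P i := stepQ 11180 Q11180 (allL N11180 (tt N11233 (iv F36816)) (tt N11092 F36596) (tt N10827 (iv F36599)) (tt N9755 (iv D11277)) (tt N12125 D12222) (tt N10820 F36597) (tt N11273 (iv F37006)) (tt N9756 F36598))
theorem Q11182 : ∀ i, i < 11182 → P i := stepQ 11181 Q11181 (allL N11181 (tt N11232 (iv F36813)) (tt N11780 (iv F38907)) (tt N11748 (iv F38805)) (tt N9757 F36600) (tt N9756 (iv D11278)) (tt N11366 (iv F37363)) (tt N11786 (iv F38931)) (tt N12125 (iv F40310)))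
theorem Q11183 : ∀ i, i < 11183 → P i := stepQ 11182 Q11182 (allL N11182 (tt N11027 F36601) (tt N11182 F36602) (tt N9761 F36603) (tt N9759 (iv D11279)) (tt N12126 D12223) (tt N12109 (iv F40231)) (tt N11182 F36604) (tt N10154 F36605))
theorem Q11184 : ∀ i, i < 11184 → P i := stepQ 11183 Q11183 (allL N11183 (tt N9761 F36606) (tt N9893 F36607) (tt N11027 F36608) (tt N9760 (iv D11280)) (tt N10649 F36609) (tt N12046 (iv F39947)) (tt N11183 F36610) (tt N11287 (iv F37067)))
theorem Q11185 : ∀ i, i < 11185 → P i := stepQ 11184 Q11184 (allL N11184 (tt N10649 F36611) (tt N9983 F36612) (tt N12126 (iv F40313)) (tt N9765 F36613) (tt N9761 (iv D11281)) (tt N11256 F36928) (tt N11184 F36614) (tt N11575 (iv F38135)))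
theorem Q11186 : ∀ i, i < 11186 → P i := stepQ 11185 Q11185 (allL N11185 (tt N11287 (iv F37064)) (tt N9984 F36615) (tt N10154 F36616) (tt N10678 F36617) (tt N11575 (iv F38133)) (tt N11567 (iv F38113)) (tt N10389 F36618) (tt N9761 (iv D11282)))
theorem Q11187 : ∀ i, i < 11187 → P i := stepQ 11186 Q11186 (allL N11186 (tt N10922 F36619) (tt N10557 F36620) (tt N9765 F36621) (tt N10376 F36622) (tt N9762 (iv D11283)) (tt N12054 (iv F39992)) (tt N11186 F36623) (tt N10372 F36624))
theorem Q11188 : ∀ i, i < 11188 → P i := stepQ 11187 Q11187 (allL N11187 (tt N9766 F36625) (tt N10914 F36626) (tt N10546 F36627) (tt N12069 (iv F40061)) (tt N10921 F36628) (tt N12114 (iv F40252)) (tt N10545 F36629) (tt N9764 (iv D11284)))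
theorem Q11189 : ∀ i, i < 11189 → P i := stepQ 11188 Q11188 (allL N11188 (tt N10921 F36630) (tt N9991 F36631) (tt N10372 F36632) (tt N11964 (iv F39580)) (tt N9766 F36633) (tt N12115 (iv F40258)) (tt N10371 (iv F36634)) (tt N9765 (iv D11285)))
theorem Q11190 : ∀ i, i < 11190 → P i := stepQ 11189 Q11189 (allL N11189 (tt N9773 F36635) (tt N12024 (iv F39836)) (tt N11402 (iv F37514)) (tt N9769 F36636) (tt N9783 F36637) (tt N9767 (iv D11286)) (tt N11401 (iv F37510)) (tt N11151 F36638))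
theorem Q11191 : ∀ i, i < 11191 → P i := stepQ 11190 Q11190 (allL N11190 (tt N9774 F36639) (tt N12025 (iv F39842)) (tt N9907 F36640) (tt N11401 (iv F37508)) (tt N9770 F36641) (tt N9768 (iv D11287)) (tt N9769 F36642) (tt N12035 (iv F39886)))
theorem Q11192 : ∀ i, i < 11192 → P i := stepQ 11191 Q11191 (allL N11191 (tt N11226 (iv F36784)) (tt N9770 (iv D11288)) (tt N12127 D12224) (tt N9786 F36643) (tt N12025 (iv F39845)) (tt N9904 F36644) (tt N9771 F36645) (tt N12036 (iv F39889)))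
theorem Q11193 : ∀ i, i < 11193 → P i := stepQ 11192 Q11192 (allL N11192 (tt N10346 F36646) (tt N12116 (iv F40261)) (tt N9771 (iv D11289)) (tt N12128 D12225) (tt N10354 F36647) (tt N9817 F36648) (tt N12127 (iv F40322)) (tt N10345 F36649))
theorem Q11194 : ∀ i, i < 11194 → P i := stepQ 11193 Q11193 (allL N11193 (tt N9779 F36650) (tt N11063 F36651) (tt N12119 (iv F40281)) (tt N10597 F36652) (tt N11711 (iv F38669)) (tt N10569 F36653) (tt N9772 (iv D11290)) (tt N12031 (iv F39871)))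
theorem Q11195 : ∀ i, i < 11195 → P i := stepQ 11194 Q11194 (allL N11194 (tt N12035 (iv F39883)) (tt N11158 F36654) (tt N11090 F36655) (tt N12129 D12226) (tt N9777 F36656) (tt N9775 F36657) (tt N11163 F36658) (tt N9774 (iv D11291)))
theorem Q11196 : ∀ i, i < 11196 → P i := stepQ 11195 Q11195 (allL N11195 (tt N11143 F36659) (tt N11195 F36660) (tt N10252 F36661) (tt N9775 (iv D11292)) (tt N11051 F36662) (tt N12129 (iv F40333)) (tt N10273 F36663) (tt N11368 (iv F37372)))
theorem Q11197 : ∀ i, i < 11197 → P i := stepQ 11196 Q11196 (allL N11196 (tt N11241 (iv F36850)) (tt N9777 F36664) (tt N10680 F36665) (tt N11669 (iv F38497)) (tt N11158 F36666) (tt N11196 F36667) (tt N10568 F36668) (tt N9776 (iv D11293)))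
theorem Q11198 : ∀ i, i < 11198 → P i := stepQ 11197 Q11197 (allL N11197 (tt N12031 (iv F39867)) (tt N10568 F36669) (tt N11162 F36670) (tt N11342 (iv F37258)) (tt N11163 F36671) (tt N10571 F36672) (tt N9777 (iv D11294)) (tt N9779 F36673))
theorem Q11199 : ∀ i, i < 11199 → P i := stepQ 11198 Q11198 (allL N11198 (tt N10328 F36674) (tt N10476 F36675) (tt N9778 (iv D11295)) (tt N12121 (iv F40292)) (tt N11075 F36676) (tt N9780 F36677) (tt N10474 F36678) (tt N9806 F36679))
theorem Q11200 : ∀ i, i < 11200 → P i := stepQ 11199 Q11199 (allL N11199 (tt N9791 F36680) (tt N10885 F36681) (tt N11400 (iv F37501)) (tt N9784 F36682) (tt N11401 (iv F37509)) (tt N9782 (iv D11296)) (tt N9783 F36683) (tt N10879 F36684))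
theorem Q11201 : ∀ i, i < 11201 → P i := stepQ 11200 Q11200 (allL N11200 (tt N11412 (iv F37566)) (tt N9783 (iv D11297)) (tt N12130 D12227) (tt N9785 F36685) (tt N12024 (iv F39838)) (tt N9821 F36686) (tt N10885 F36687) (tt N9849 F36688))
theorem Q11202 : ∀ i, i < 11202 → P i := stepQ 11201 Q11201 (allL N11201 (tt N11095 F36689) (tt N10277 F36690) (tt N9785 (iv D11298)) (tt N12131 D12228) (tt N9788 F36691) (tt N9822 F36692) (tt N11088 F36693) (tt N9844 F36694))
theorem Q11203 : ∀ i, i < 11203 → P i := stepQ 11202 Q11202 (allL N11202 (tt N11091 F36695) (tt N10281 F36696) (tt N9786 (iv D11299)) (tt N12132 D12229) (tt N11088 F36697) (tt N11087 F36698) (tt N9788 F36699) (tt N11086 F36700))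
theorem Q11204 : ∀ i, i < 11204 → P i := stepQ 11203 Q11203 (allL N11203 (tt N11801 (iv F38983)) (tt N10280 F36701) (tt N12128 (iv F40326)) (tt N9788 (iv D11300)) (tt N12133 D12230) (tt N9823 F36702) (tt N12132 (iv F40348)) (tt N11363 (iv F37351)))
theorem Q11205 : ∀ i, i < 11205 → P i := stepQ 11204 Q11204 (allL N11204 (tt N10997 (iv F36706)) (tt N9789 (iv D11301)) (tt N12134 D12231) (tt N10236 F36703) (tt N11405 (iv F37531)) (tt N11204 F36704) (tt N10135 F36705) (tt N12135 D12232))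
theorem Q11206 : ∀ i, i < 11206 → P i := stepQ 11205 Q11205 (allL N11205 (tt N11559 (iv F38074)) (tt N12135 (iv F40359)) (tt N9793 F36707) (tt N11903 (iv F39346)) (tt N11152 F36708) (tt N9790 F36709) (tt N12040 (iv F39910)) (tt N9789 (iv D11302)))
theorem Q11207 : ∀ i, i < 11207 → P i := stepQ 11206 Q11206 (allL N11206 (tt N11410 (iv F37557)) (tt N9791 (iv D11303)) (tt N12136 D12233) (tt N9794 F36710) (tt N11153 F36711) (tt N11206 F36712) (tt N9792 F36713) (tt N11372 (iv F37386)))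
theorem Q11208 : ∀ i, i < 11208 → P i := stepQ 11207 Q11207 (allL N11207 (tt N11708 F38654) (tt N12134 (iv F40352)) (tt N9792 (iv D11304)) (tt N11709 (iv F38656)) (tt N10062 F36714) (tt N9807 F36715) (tt N12136 (iv F40369)) (tt N11149 F36716))
theorem Q11209 : ∀ i, i < 11209 → P i := stepQ 11208 Q11208 (allL N11208 (tt N11560 (iv F38080)) (tt N11145 F36717) (tt N12040 (iv F39908)) (tt N10680 F36718) (tt N11146 F36719) (tt N11208 F36720) (tt N9793 (iv D11305)) (tt N11370 (iv F37379)))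
theorem Q11210 : ∀ i, i < 11210 → P i := stepQ 11209 Q11209 (allL N11209 (tt N9798 F36721) (tt N10049 (iv F36726)) (tt N9797 (iv D11306)) (tt N10813 F36722) (tt N11409 (iv F37554)) (tt N11209 F36723) (tt N9803 F36724) (tt N10048 F36725))
theorem Q11211 : ∀ i, i < 11211 → P i := stepQ 11210 Q11210 (allL N11210 (tt N10048 F36727) (tt N10222 F36728) (tt N9799 F36729) (tt N10050 F36730) (tt N11374 (iv F37397)) (tt N11210 F36731) (tt N11373 F37392) (tt N9798 (iv D11307)))
theorem Q11212 : ∀ i, i < 11212 → P i := stepQ 11211 Q11211 (allL N11211 (tt N11405 (iv F37528)) (tt N9800 F36732) (tt N12041 (iv F39913)) (tt N9799 (iv D11308)) (tt N10997 F36733) (tt N11211 F36734) (tt N10996 F36735) (tt N11669 (iv F38500)))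
theorem Q11213 : ∀ i, i < 11213 → P i := stepQ 11212 Q11212 (allL N11212 (tt N11611 (iv F38268)) (tt N10997 F36736) (tt N11672 (iv F38509)) (tt N10860 F36737) (tt N9800 (iv D11309)) (tt N9802 F36738) (tt N10859 (iv F36739)) (tt N11668 (iv F38496)))
theorem Q11214 : ∀ i, i < 11214 → P i := stepQ 11213 Q11213 (allL N11213 (tt N11403 (iv F37519)) (tt N10996 F36740) (tt N11673 (iv F38513)) (tt N9801 F36741) (tt N10859 F36742) (tt N9993 F36743) (tt N9800 (iv D11310)) (tt N11416 (iv F37584)))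
theorem Q11215 : ∀ i, i < 11215 → P i := stepQ 11214 Q11214 (allL N11214 (tt N10225 F36744) (tt N9803 (iv D11311)) (tt N11800 (iv F38981)) (tt N10814 F36745) (tt N11557 (iv F38066)) (tt N11558 (iv F38072)) (tt N10049 F36746) (tt N11799 F38978))
theorem Q11216 : ∀ i, i < 11216 → P i := stepQ 11215 Q11215 (allL N11215 (tt N11841 (iv F39129)) (tt N10329 F36747) (tt N10609 F36748) (tt N9804 (iv D11312)) (tt N12137 D12234) (tt N9809 F36749) (tt N11842 (iv F39137)) (tt N10761 F36750))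
theorem Q11217 : ∀ i, i < 11217 → P i := stepQ 11216 Q11216 (allL N11216 (tt N10814 F36751) (tt N9806 (iv D11313)) (tt N10454 F36752) (tt N10225 F36753) (tt N11099 F36754) (tt N11448 (iv F37689)) (tt N10126 F36755) (tt N10476 F36756))
theorem Q11218 : ∀ i, i < 11218 → P i := stepQ 11217 Q11217 (allL N11217 (tt N9809 F36757) (tt N11220 (iv F36771)) (tt N10606 F36758) (tt N9808 (iv D11314)) (tt N12138 D12235) (tt N11841 (iv F39131)) (tt N10616 F36759) (tt N10754 F36760))
theorem Q11219 : ∀ i, i < 11219 → P i := stepQ 11218 Q11218 (allL N11218 (tt N12138 (iv F40376)) (tt N9811 F36761) (tt N10610 F36762) (tt N10717 F36763) (tt N9809 (iv D11315)) (tt N12137 (iv F40374)) (tt N10621 F36764) (tt N10763 F36765))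
theorem Q11220 : ∀ i, i < 11220 → P i := stepQ 11219 Q11219 (allL N11219 (tt N11768 (iv F38870)) (tt N10621 F36766) (tt N11763 (iv F38847)) (tt N10706 F36767) (tt N9812 F36768) (tt N11985 (iv F39667)) (tt N9811 (iv D11316)) (tt N10636 F36769))
theorem Q11221 : ∀ i, i < 11221 → P i := stepQ 11220 Q11220 (allL N11220 (tt N10650 F36770) (tt N11217 F36771) (tt N9823 F36772) (tt N9817 (iv D11317)) (tt N12139 D12236) (tt N12128 (iv F40327)) (tt N11744 (iv F38791)) (tt N11364 (iv F37356)))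
theorem Q11222 : ∀ i, i < 11222 → P i := stepQ 11221 Q11221 (allL N11221 (tt N10392 F36773) (tt N9818 (iv D11318)) (tt N12140 D12237) (tt N9826 F36774) (tt N10386 F36775) (tt N10388 F36776) (tt N10981 F36777) (tt N9853 F36778))
theorem Q11223 : ∀ i, i < 11223 → P i := stepQ 11222 Q11222 (allL N11222 (tt N11334 (iv F37219)) (tt N12140 (iv F40386)) (tt N9821 (iv D11319)) (tt N12141 D12238) (tt N12023 (iv F39833)) (tt N12130 (iv F40337)) (tt N11588 (iv F38189)) (tt N9851 F36779))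
theorem Q11224 : ∀ i, i < 11224 → P i := stepQ 11223 Q11223 (allL N11223 (tt N11313 (iv F37150)) (tt N9833 F36780) (tt N12141 (iv F40391)) (tt N9822 (iv D11320)) (tt N12142 D12239) (tt N12131 (iv F40342)) (tt N11306 (iv F37133)) (tt N12143 D12240))
theorem Q11225 : ∀ i, i < 11225 → P i := stepQ 11224 Q11224 (allL N11224 (tt N11802 (iv F38987)) (tt N9840 F36781) (tt N12139 (iv F40383)) (tt N12142 (iv F40393)) (tt N9823 (iv D11321)) (tt N12133 (iv F40350)) (tt N12021 (iv F39825)) (tt N11365 (iv F37359)))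
theorem Q11226 : ∀ i, i < 11226 → P i := stepQ 11225 Q11225 (allL N11225 (tt N12049 (iv F39959)) (tt N9841 F36782) (tt N11245 (iv F36873)) (tt N12102 (iv F40191)) (tt N11254 (iv F36918)) (tt N11225 F36783) (tt N12109 (iv F40232)) (tt N9824 (iv D11322)))
theorem Q11227 : ∀ i, i < 11227 → P i := stepQ 11226 Q11226 (allL N11226 (tt N11191 F36784) (tt N9842 F36785) (tt N11567 (iv F38111)) (tt N10153 F36786) (tt N10985 F36787) (tt N10154 F36788) (tt N9825 (iv D11323)) (tt N12109 (iv F40233)))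
theorem Q11228 : ∀ i, i < 11228 → P i := stepQ 11227 Q11227 (allL N11227 (tt N10705 F36789) (tt N11726 (iv F38723)) (tt N9833 F36790) (tt N9827 (iv D11324)) (tt N12144 D12241) (tt N10286 F36791) (tt N10716 F36792) (tt N11723 (iv F38717)))
theorem Q11229 : ∀ i, i < 11229 → P i := stepQ 11228 Q11228 (allL N11228 (tt N10679 F36793) (tt N11138 F36794) (tt N9829 (iv D11325)) (tt N12145 D12242) (tt N9837 F36795) (tt N9832 F36796) (tt N10260 F36797) (tt N11060 F36798))
theorem Q11230 : ∀ i, i < 11230 → P i := stepQ 11229 Q11229 (allL N11229 (tt N9849 F36799) (tt N11057 F36800) (tt N11140 F36801) (tt N9830 (iv D11326)) (tt N11058 F36802) (tt N9831 F36803) (tt N12146 D12243) (tt N11412 F37571))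
theorem Q11231 : ∀ i, i < 11231 → P i := stepQ 11230 Q11230 (allL N11230 (tt N9850 F36804) (tt N10251 F36805) (tt N11136 F36806) (tt N12146 (iv F40414)) (tt N9838 F36807) (tt N9999 F36808) (tt N9830 (iv D11327)) (tt N10250 F36809))
theorem Q11232 : ∀ i, i < 11232 → P i := stepQ 11231 Q11231 (allL N11231 (tt N10681 F36810) (tt N11306 (iv F37131)) (tt N10716 F36811) (tt N9832 (iv D11328)) (tt N12147 D12244) (tt N12145 (iv F40408)) (tt N9833 F36812) (tt N11714 (iv F38681)))
theorem Q11233 : ∀ i, i < 11233 → P i := stepQ 11232 Q11232 (allL N11232 (tt N11181 F36813) (tt N12142 (iv F40392)) (tt N12144 (iv F40401)) (tt N9840 F36814) (tt N9833 (iv D11329)) (tt N10287 F36815) (tt N12147 (iv F40421)) (tt N12148 D12245))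
theorem Q11234 : ∀ i, i < 11234 → P i := stepQ 11233 Q11233 (allL N11233 (tt N11180 F36816) (tt N12143 (iv F40396)) (tt N11723 (iv F38714)) (tt N10284 F36817) (tt N12148 (iv F40425)) (tt N10285 F36818) (tt N11719 (iv F38701)) (tt N9833 (iv D11330)))
theorem Q11235 : ∀ i, i < 11235 → P i := stepQ 11234 Q11234 (allL N11234 (tt N9834 (iv D11331)) (tt N9855 F36819) (tt N12149 D12246) (tt N10194 F36820) (tt N11048 F36821) (tt N10407 F36822) (tt N10338 F36823) (tt N11046 F36824))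
theorem Q11236 : ∀ i, i < 11236 → P i := stepQ 11235 Q11235 (allL N11235 (tt N12149 (iv F40427)) (tt N9837 F36825) (tt N9834 (iv D11332)) (tt N12150 D12247) (tt N11138 F36826) (tt N10408 F36827) (tt N10264 F36828) (tt N11061 F36829))
theorem Q11237 : ∀ i, i < 11237 → P i := stepQ 11236 Q11236 (allL N11236 (tt N9858 F36830) (tt N11120 F36831) (tt N11062 F36832) (tt N9835 (iv D11333)) (tt N11121 F36833) (tt N9836 F36834) (tt N11655 (iv F38452)) (tt N10117 F36835))
theorem Q11238 : ∀ i, i < 11238 → P i := stepQ 11237 Q11237 (allL N11237 (tt N9859 F36836) (tt N11134 F36837) (tt N9838 F36838) (tt N11655 (iv F38449)) (tt N11136 F36839) (tt N10005 F36840) (tt N9835 (iv D11334)) (tt N10253 F36841))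
theorem Q11239 : ∀ i, i < 11239 → P i := stepQ 11238 Q11238 (allL N11238 (tt N11165 F36842) (tt N12150 (iv F40433)) (tt N11742 (iv F38777)) (tt N9837 (iv D11335)) (tt N12151 D12248) (tt N9839 F36843) (tt N10265 F36844) (tt N11749 (iv F38809)))
theorem Q11240 : ∀ i, i < 11240 → P i := stepQ 11239 Q11239 (allL N11239 (tt N11166 F36845) (tt N12021 (iv F39824)) (tt N11743 (iv F38783)) (tt N12147 (iv F40420)) (tt N9839 (iv D11336)) (tt N12151 (iv F40438)) (tt N9840 F36846) (tt N11751 (iv F38815)))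
theorem Q11241 : ∀ i, i < 11241 → P i := stepQ 11240 Q11240 (allL N11240 (tt N11651 (iv F38429)) (tt N12102 (iv F40190)) (tt N10835 F36849) (tt N9841 (iv D11337)) (tt N11398 (iv F37495)) (tt N9869 F36847) (tt N12108 (iv F40226)) (tt N10629 F36848))
theorem Q11242 : ∀ i, i < 11242 → P i := stepQ 11241 Q11241 (allL N11241 (tt N11196 F36850) (tt N12109 (iv F40229)) (tt N10340 F36851) (tt N12108 (iv F40224)) (tt N10990 F36852) (tt N11241 F36853) (tt N9841 (iv D11338)) (tt N9842 F36854))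
theorem Q11243 : ∀ i, i < 11243 → P i := stepQ 11242 Q11242 (allL N11242 (tt N10216 F36855) (tt N10284 F36856) (tt N9846 F36857) (tt N12143 (iv F40397)) (tt N10047 F36858) (tt N11093 F36859) (tt N11594 (iv F38216)) (tt N9843 (iv D11339)))
theorem Q11244 : ∀ i, i < 11244 → P i := stepQ 11243 Q11243 (allL N11243 (tt N10221 F36860) (tt N11409 (iv F37551)) (tt N11093 F36861) (tt N11070 F36862) (tt N10049 F36863) (tt N9846 F36864) (tt N11557 (iv F38068)) (tt N9845 (iv D11340)))
theorem Q11245 : ∀ i, i < 11245 → P i := stepQ 11244 Q11244 (allL N11244 (tt N9847 (iv D11341)) (tt N11048 F36865) (tt N11063 F36866) (tt N11374 (iv F37396)) (tt N9855 F36867) (tt N11244 F36868) (tt N10345 F36869) (tt N11047 (iv F36870)))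
theorem Q11246 : ∀ i, i < 11246 → P i := stepQ 11245 Q11245 (allL N11245 (tt N11047 F36871) (tt N9848 F36872) (tt N11225 F36873) (tt N11049 F36876) (tt N9857 F36874) (tt N11245 F36875) (tt N11154 F36877) (tt N9847 (iv D11342)))
theorem Q11247 : ∀ i, i < 11247 → P i := stepQ 11246 Q11246 (allL N11246 (tt N11136 F36878) (tt N11154 F36879) (tt N9850 F36880) (tt N11124 F36881) (tt N9859 F36882) (tt N10025 F36883) (tt N9848 (iv D11343)) (tt N10348 F36884))
theorem Q11248 : ∀ i, i < 11248 → P i := stepQ 11247 Q11247 (allL N11247 (tt N11140 F36885) (tt N11116 F36888) (tt N9849 (iv D11344)) (tt N11118 F36886) (tt N11655 (iv F38450)) (tt N9851 F36887) (tt N11121 (iv F36889)) (tt N12130 (iv F40339)))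
theorem Q11249 : ∀ i, i < 11249 → P i := stepQ 11248 Q11248 (allL N11248 (tt N11058 F36890) (tt N11151 F36891) (tt N11655 (iv F38448)) (tt N9864 F36892) (tt N9849 (iv D11345)) (tt N9852 F36893) (tt N11062 (iv F36894)) (tt N12024 (iv F39840)))
theorem Q11250 : ∀ i, i < 11250 → P i := stepQ 11249 Q11249 (allL N11249 (tt N12146 (iv F40411)) (tt N11560 (iv F38081)) (tt N11121 F36895) (tt N9850 F36896) (tt N11062 F36897) (tt N10028 F36898) (tt N9849 (iv D11346)) (tt N10815 F36899))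
theorem Q11251 : ∀ i, i < 11251 → P i := stepQ 11250 Q11250 (allL N11250 (tt N11319 (iv F37168)) (tt N9851 (iv D11347)) (tt N9853 F36900) (tt N11111 F36901) (tt N11315 (iv F37156)) (tt N11110 F36902) (tt N10029 F36903) (tt N12140 (iv F40390)))
theorem Q11252 : ∀ i, i < 11252 → P i := stepQ 11251 Q11251 (allL N11251 (tt N10034 F36904) (tt N11315 F37158) (tt N9852 F36905) (tt N10005 F36906) (tt N9851 (iv D11348)) (tt N11655 (iv F38451)) (tt N10004 F36907) (tt N12023 (iv F39834)))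
theorem Q11253 : ∀ i, i < 11253 → P i := stepQ 11252 Q11252 (allL N11252 (tt N9856 F36908) (tt N11711 (iv F38667)) (tt N9855 (iv D11349)) (tt N11706 (iv F38637)) (tt N11063 F36909) (tt N11252 F36910) (tt N10353 F36911) (tt N12152 D12249))
theorem Q11254 : ∀ i, i < 11254 → P i := stepQ 11253 Q11253 (allL N11253 (tt N9857 F36912) (tt N11046 F36913) (tt N12152 (iv F40442)) (tt N11344 (iv F37266)) (tt N11047 F36914) (tt N11253 F36915) (tt N11565 (iv F38106)) (tt N9855 (iv D11350)))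
theorem Q11255 : ∀ i, i < 11255 → P i := stepQ 11254 Q11254 (allL N11254 (tt N12152 (iv F40440)) (tt N9862 F36916) (tt N9857 F36917) (tt N12153 D12250) (tt N11225 F36918) (tt N11254 F36919) (tt N12027 (iv F39854)) (tt N9856 (iv D11351)))
theorem Q11256 : ∀ i, i < 11256 → P i := stepQ 11255 Q11255 (allL N11255 (tt N11344 (iv F37265)) (tt N9858 F36920) (tt N12154 D12251) (tt N9857 (iv D11352)) (tt N11159 F36921) (tt N11255 F36922) (tt N11169 (iv F36923)) (tt N11581 (iv F38159)))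
theorem Q11257 : ∀ i, i < 11257 → P i := stepQ 11256 Q11256 (allL N11256 (tt N11565 (iv F38103)) (tt N9859 F36924) (tt N12027 (iv F39853)) (tt N11169 F36925) (tt N11154 F36926) (tt N11184 (iv F36928)) (tt N9857 (iv D11353)) (tt N10356 F36927))
theorem Q11258 : ∀ i, i < 11258 → P i := stepQ 11257 Q11257 (allL N11257 (tt N11062 F36929) (tt N11052 F36932) (tt N9858 (iv D11354)) (tt N9863 F36930) (tt N12146 (iv F40415)) (tt N9860 F36931) (tt N11058 (iv F36933)) (tt N11580 (iv F38154)))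
theorem Q11259 : ∀ i, i < 11259 → P i := stepQ 11258 Q11258 (allL N11258 (tt N11121 F36934) (tt N11159 F36935) (tt N12146 (iv F40413)) (tt N11123 F36936) (tt N9858 (iv D11355)) (tt N9861 F36937) (tt N11140 F36939) (tt N10403 F36938))
theorem Q11260 : ∀ i, i < 11260 → P i := stepQ 11259 Q11259 (allL N11259 (tt N11655 (iv F38447)) (tt N11169 F36940) (tt N11058 F36941) (tt N9859 F36942) (tt N11140 F36943) (tt N10034 F36944) (tt N9858 (iv D11356)) (tt N12026 (iv F39851)))
theorem Q11261 : ∀ i, i < 11261 → P i := stepQ 11260 Q11260 (allL N11260 (tt N11260 F36945) (tt N9860 (iv D11357)) (tt N11260 F36946) (tt N9866 F36947) (tt N10592 (iv F36951)) (tt N10591 F36948) (tt N10035 F36949) (tt N10998 F36950))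
theorem Q11262 : ∀ i, i < 11262 → P i := stepQ 11261 Q11261 (allL N11261 (tt N10028 F36952) (tt N10592 F36953) (tt N9861 F36954) (tt N9999 F36955) (tt N9860 (iv D11358)) (tt N12146 (iv F40416)) (tt N9998 F36956) (tt N10401 F36957))
theorem Q11263 : ∀ i, i < 11263 → P i := stepQ 11262 Q11262 (allL N11262 (tt N11167 F36958) (tt N12153 (iv F40447)) (tt N11168 F36959) (tt N9862 (iv D11359)) (tt N11675 (iv F38522)) (tt N9868 F36960) (tt N12030 (iv F39866)) (tt N11704 (iv F38629)))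
theorem Q11264 : ∀ i, i < 11264 → P i := stepQ 11263 Q11263 (allL N11263 (tt N11067 F36961) (tt N10772 F36962) (tt N10120 F36963) (tt N11431 (iv F37649)) (tt N9870 (iv D11360)) (tt N10203 F36964) (tt N10770 F36965) (tt N10368 F36966))
theorem Q11265 : ∀ i, i < 11265 → P i := stepQ 11264 Q11264 (allL N11264 (tt N9871 (iv D11361)) (tt N11070 F36967) (tt N11142 (iv F36971)) (tt N11409 (iv F37553)) (tt N11156 F36968) (tt N11264 F36969) (tt N11710 (iv F38665)) (tt N11049 F36970))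
theorem Q11266 : ∀ i, i < 11266 → P i := stepQ 11265 Q11265 (allL N11265 (tt N11142 F36972) (tt N9874 F36973) (tt N9871 (iv D11362)) (tt N12136 (iv F40366)) (tt N11155 F36974) (tt N11265 F36975) (tt N11709 (iv F38659)) (tt N11050 F36976))
theorem Q11267 : ∀ i, i < 11267 → P i := stepQ 11266 Q11266 (allL N11266 (tt N11705 F38635) (tt N11709 (iv F38655)) (tt N9873 (iv D11363)) (tt N12134 (iv F40353)) (tt N11707 (iv F38646)) (tt N11266 F36977) (tt N9874 F36978) (tt N11706 (iv F38641)))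
theorem Q11268 : ∀ i, i < 11268 → P i := stepQ 11267 Q11267 (allL N11267 (tt N10995 F36979) (tt N12136 (iv F40365)) (tt N10135 F36980) (tt N9874 (iv D11364)) (tt N11406 (iv F37536)) (tt N9875 F36981) (tt N12134 (iv F40356)) (tt N10133 F36982))
theorem Q11269 : ∀ i, i < 11269 → P i := stepQ 11268 Q11268 (allL N11268 (tt N9886 F36983) (tt N11594 (iv F38218)) (tt N11268 F36984) (tt N11719 (iv F38699)) (tt N9882 F36985) (tt N11275 (iv F37016)) (tt N10284 F36986) (tt N9880 (iv D11365)))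
theorem Q11270 : ∀ i, i < 11270 → P i := stepQ 11269 Q11269 (allL N11269 (tt N9887 F36987) (tt N11303 (iv F37122)) (tt N11269 F36988) (tt N12155 D12252) (tt N11275 (iv F37015)) (tt N9882 F36989) (tt N11272 (iv F37004)) (tt N9881 (iv D11366)))
theorem Q11271 : ∀ i, i < 11271 → P i := stepQ 11270 Q11270 (allL N11270 (tt N9888 F36990) (tt N10625 F36991) (tt N10627 F36994) (tt N9882 (iv D11367)) (tt N12156 D12253) (tt N12155 (iv F40459)) (tt N10820 F36992) (tt N10970 F36993))
theorem Q11272 : ∀ i, i < 11272 → P i := stepQ 11271 Q11271 (allL N11271 (tt N11090 F36995) (tt N11278 (iv F37027)) (tt N12035 (iv F39884)) (tt N11157 F36996) (tt N9909 F36997) (tt N9884 (iv D11368)) (tt N11160 F36998) (tt N9907 F36999))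
theorem Q11273 : ∀ i, i < 11273 → P i := stepQ 11272 Q11272 (allL N11272 (tt N11275 (iv F37011)) (tt N9917 F37000) (tt N11272 F37001) (tt N11790 (iv F38949)) (tt N9887 F37002) (tt N9886 F37003) (tt N11269 F37004) (tt N9885 (iv D11369)))
theorem Q11274 : ∀ i, i < 11274 → P i := stepQ 11273 Q11273 (allL N11273 (tt N11719 (iv F38697)) (tt N9923 F37005) (tt N11721 (iv F38705)) (tt N9886 (iv D11370)) (tt N12157 D12254) (tt N11790 (iv F38950)) (tt N11180 F37006) (tt N11717 (iv F38694)))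
theorem Q11275 : ∀ i, i < 11275 → P i := stepQ 11274 Q11274 (allL N11274 (tt N12155 (iv F40458)) (tt N11717 (iv F38691)) (tt N10691 F37009) (tt N9887 (iv D11371)) (tt N12158 D12255) (tt N9888 F37007) (tt N10685 (iv F37010)) (tt N9923 F37008))
theorem Q11276 : ∀ i, i < 11276 → P i := stepQ 11275 Q11275 (allL N11275 (tt N11272 F37011) (tt N11161 F37012) (tt N11275 F37013) (tt N10685 F37014) (tt N11269 F37015) (tt N11268 F37016) (tt N9887 (iv D11372)) (tt N9889 F37017))
theorem Q11277 : ∀ i, i < 11277 → P i := stepQ 11276 Q11276 (allL N11276 (tt N10627 F37018) (tt N10635 F37019) (tt N9888 (iv D11373)) (tt N11276 F37020) (tt N12159 D12256) (tt N10691 F37021) (tt N10825 F37022) (tt N10971 F37023))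
theorem Q11278 : ∀ i, i < 11278 → P i := stepQ 11277 Q11277 (allL N11277 (tt N12156 (iv F40463)) (tt N9927 F37024) (tt N12159 (iv F40477)) (tt N12157 (iv F40469)) (tt N9888 (iv D11374)) (tt N12158 (iv F40472)) (tt N11515 (iv F37928)) (tt N10972 F37025))
theorem Q11279 : ∀ i, i < 11279 → P i := stepQ 11278 Q11278 (allL N11278 (tt N9930 F37026) (tt N11271 F37027) (tt N10344 F37028) (tt N11175 F37029) (tt N9892 F37030) (tt N9891 (iv D11375)) (tt N12047 (iv F39954)) (tt N11098 F37031))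
theorem Q11280 : ∀ i, i < 11280 → P i := stepQ 11279 Q11279 (allL N11279 (tt N10915 F37032) (tt N9948 F37033) (tt N9928 F37034) (tt N12160 D12257) (tt N9896 F37035) (tt N9912 F37036) (tt N10524 F37037) (tt N9894 (iv D11376)))
theorem Q11281 : ∀ i, i < 11281 → P i := stepQ 11280 Q11280 (allL N11280 (tt N11295 (iv F37093)) (tt N9949 F37038) (tt N11298 (iv F37105)) (tt N9896 (iv D11377)) (tt N12161 D12258) (tt N10708 F37039) (tt N11438 (iv F37663)) (tt N9899 F37040))
theorem Q11282 : ∀ i, i < 11282 → P i := stepQ 11281 Q11281 (allL N11281 (tt N9984 F37041) (tt N9898 F37042) (tt N11281 F37043) (tt N10710 F37044) (tt N10936 F37045) (tt N9951 F37046) (tt N10935 (iv F37047)) (tt N9897 (iv D11378)))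
theorem Q11283 : ∀ i, i < 11283 → P i := stepQ 11282 Q11282 (allL N11282 (tt N11288 (iv F37068)) (tt N10710 F37048) (tt N10969 F37049) (tt N9898 (iv D11379)) (tt N12162 D12259) (tt N9899 F37050) (tt N10937 F37051) (tt N10708 F37052))
theorem Q11284 : ∀ i, i < 11284 → P i := stepQ 11283 Q11283 (allL N11283 (tt N11294 (iv F37090)) (tt N9955 F37053) (tt N11297 (iv F37101)) (tt N11556 (iv F38063)) (tt N9899 (iv D11380)) (tt N12162 (iv F40492)) (tt N11555 (iv F38060)) (tt N12161 (iv F40488)))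
theorem Q11285 : ∀ i, i < 11285 → P i := stepQ 11284 Q11284 (allL N11284 (tt N9901 F37054) (tt N10491 F37058) (tt N9900 (iv D11381)) (tt N12163 D12260) (tt N10413 F37055) (tt N12058 (iv F40017)) (tt N10409 F37056) (tt N9975 F37057))
theorem Q11286 : ∀ i, i < 11286 → P i := stepQ 11285 Q11285 (allL N11285 (tt N12163 (iv F40495)) (tt N9906 F37059) (tt N11458 (iv F37732)) (tt N9901 (iv D11382)) (tt N12164 D12261) (tt N12059 (iv F40021)) (tt N10410 F37060) (tt N12165 D12262))
theorem Q11287 : ∀ i, i < 11287 → P i := stepQ 11286 Q11286 (allL N11286 (tt N11408 (iv F37545)) (tt N9903 (iv D11383)) (tt N11765 (iv F38857)) (tt N10886 F37061) (tt N9904 F37062) (tt N12025 (iv F39846)) (tt N10397 F37063) (tt N11766 (iv F38866)))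
theorem Q11288 : ∀ i, i < 11288 → P i := stepQ 11287 Q11287 (allL N11287 (tt N11185 F37064) (tt N9905 F37065) (tt N9904 (iv D11384)) (tt N11783 (iv F38921)) (tt N11765 (iv F38858)) (tt N12127 (iv F40321)) (tt N10419 F37066) (tt N11183 F37067))
theorem Q11289 : ∀ i, i < 11289 → P i := stepQ 11288 Q11288 (allL N11288 (tt N11282 F37068) (tt N11783 (iv F38920)) (tt N9906 F37069) (tt N9905 (iv D11385)) (tt N12166 D12263) (tt N9911 F37070) (tt N10420 F37071) (tt N11781 (iv F38916)))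
theorem Q11290 : ∀ i, i < 11290 → P i := stepQ 11289 Q11289 (allL N11289 (tt N12018 (iv F39812)) (tt N12164 (iv F40500)) (tt N12166 (iv F40509)) (tt N10423 F37072) (tt N9906 (iv D11386)) (tt N9914 F37073) (tt N10421 F37074) (tt N12167 D12264))
theorem Q11291 : ∀ i, i < 11291 → P i := stepQ 11290 Q11290 (allL N11290 (tt N11816 (iv F39037)) (tt N12165 (iv F40504)) (tt N11781 (iv F38913)) (tt N9982 F37075) (tt N12167 (iv F40513)) (tt N9915 F37076) (tt N11792 (iv F38956)) (tt N9906 (iv D11387)))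
theorem Q11292 : ∀ i, i < 11292 → P i := stepQ 11291 Q11291 (allL N11291 (tt N11137 F37077) (tt N12127 (iv F40319)) (tt N9908 (iv D11388)) (tt N12168 D12265) (tt N11564 (iv F38100)) (tt N9910 F37078) (tt N12116 (iv F40264)) (tt N11041 F37079))
theorem Q11293 : ∀ i, i < 11293 → P i := stepQ 11292 Q11292 (allL N11292 (tt N11162 F37080) (tt N11044 F37081) (tt N12031 (iv F39868)) (tt N11061 F37082) (tt N11160 F37083) (tt N9919 F37084) (tt N9909 (iv D11389)) (tt N12119 (iv F40284)))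
theorem Q11294 : ∀ i, i < 11294 → P i := stepQ 11293 Q11293 (allL N11293 (tt N11132 F37085) (tt N9911 F37086) (tt N10207 F37087) (tt N9910 (iv D11390)) (tt N12169 D12266) (tt N12168 (iv F40517)) (tt N10697 F37088) (tt N10204 F37089))
theorem Q11295 : ∀ i, i < 11295 → P i := stepQ 11294 Q11294 (allL N11294 (tt N11283 F37090) (tt N12169 (iv F40521)) (tt N9914 F37091) (tt N11763 (iv F38848)) (tt N9911 (iv D11391)) (tt N12166 (iv F40510)) (tt N10698 F37092) (tt N12170 D12267))
theorem Q11296 : ∀ i, i < 11296 → P i := stepQ 11295 Q11295 (allL N11295 (tt N11280 F37093) (tt N10204 F37094) (tt N9915 F37095) (tt N10241 F37096) (tt N12170 (iv F40529)) (tt N11781 (iv F38914)) (tt N10202 F37097) (tt N9911 (iv D11392)))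
theorem Q11297 : ∀ i, i < 11297 → P i := stepQ 11296 Q11296 (allL N11296 (tt N11805 (iv F38999)) (tt N9913 F37098) (tt N11329 (iv F37199)) (tt N9912 (iv D11393)) (tt N12171 D12268) (tt N12160 (iv F40483)) (tt N10699 F37099) (tt N12172 D12269))
theorem Q11298 : ∀ i, i < 11298 → P i := stepQ 11297 Q11297 (allL N11297 (tt N9914 F37100) (tt N12171 (iv F40531)) (tt N11283 F37101) (tt N10709 F37102) (tt N9913 (iv D11394)) (tt N12018 (iv F39816)) (tt N10701 F37103) (tt N12173 D12270))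
theorem Q11299 : ∀ i, i < 11299 → P i := stepQ 11298 Q11298 (allL N11298 (tt N9915 F37104) (tt N12172 (iv F40535)) (tt N11280 F37105) (tt N9990 F37106) (tt N12173 (iv F40540)) (tt N11816 (iv F39040)) (tt N12174 D12271) (tt N9913 (iv D11395)))
theorem Q11300 : ∀ i, i < 11300 → P i := stepQ 11299 Q11299 (allL N11299 (tt N12173 (iv F40538)) (tt N12070 (iv F40063)) (tt N12170 (iv F40528)) (tt N12175 D12272) (tt N9915 F37107) (tt N12167 (iv F40514)) (tt N12176 D12273) (tt N9914 (iv D11396)))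
theorem Q11301 : ∀ i, i < 11301 → P i := stepQ 11300 Q11300 (allL N11300 (tt N12174 (iv F40541)) (tt N10197 F37108) (tt N10202 F37109) (tt N9992 F37110) (tt N12176 (iv F40551)) (tt N12177 D12274) (tt N9915 (iv D11397)) (tt N10704 F37111))
theorem Q11302 : ∀ i, i < 11302 → P i := stepQ 11301 Q11301 (allL N11301 (tt N9919 F37112) (tt N10577 F37113) (tt N10571 F37114) (tt N11043 F37115) (tt N11059 F37116) (tt N11162 F37117) (tt N9916 (iv D11398)) (tt N10570 F37118))
theorem Q11303 : ∀ i, i < 11303 → P i := stepQ 11302 Q11302 (allL N11302 (tt N11716 (iv F38684)) (tt N11790 (iv F38947)) (tt N11321 (iv F37181)) (tt N9917 (iv D11399)) (tt N12178 D12275) (tt N9918 F37119) (tt N12179 D12276) (tt N9924 F37120))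
theorem Q11304 : ∀ i, i < 11304 → P i := stepQ 11303 Q11303 (allL N11303 (tt N10570 F37121) (tt N11269 F37122) (tt N10569 F37123) (tt N12179 (iv F40562)) (tt N11161 F37124) (tt N12119 (iv F40283)) (tt N9917 (iv D11400)) (tt N9919 F37125))
theorem Q11305 : ∀ i, i < 11305 → P i := stepQ 11304 Q11304 (allL N11304 (tt N11788 (iv F38937)) (tt N10972 F37126) (tt N11322 (iv F37184)) (tt N11789 (iv F38945)) (tt N9918 (iv D11401)) (tt N12178 (iv F40557)) (tt N12120 (iv F40288)) (tt N9927 F37127))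
theorem Q11306 : ∀ i, i < 11306 → P i := stepQ 11305 Q11305 (allL N11305 (tt N9923 F37128) (tt N11595 (iv F38219)) (tt N11605 (iv F38253)) (tt N9920 (iv D11402)) (tt N12180 D12277) (tt N10970 F37129) (tt N12071 (iv F40070)) (tt N12155 (iv F40461)))
theorem Q11307 : ∀ i, i < 11307 → P i := stepQ 11306 Q11306 (allL N11306 (tt N9924 F37130) (tt N11231 F37131) (tt N12181 D12278) (tt N9921 (iv D11403)) (tt N12182 D12279) (tt N9922 F37132) (tt N11223 F37133) (tt N11716 (iv F38689)))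
theorem Q11308 : ∀ i, i < 11308 → P i := stepQ 11307 Q11307 (allL N11307 (tt N9926 F37134) (tt N10318 F37135) (tt N9922 (iv D11404)) (tt N10387 F37136) (tt N12183 D12280) (tt N12181 (iv F40570)) (tt N10460 F37137) (tt N11316 (iv F37162)))
theorem Q11309 : ∀ i, i < 11309 → P i := stepQ 11308 Q11308 (allL N11308 (tt N9927 F37138) (tt N12099 (iv F40174)) (tt N12183 (iv F40580)) (tt N12180 (iv F40565)) (tt N9922 (iv D11405)) (tt N12182 (iv F40576)) (tt N12073 (iv F40079)) (tt N11788 (iv F38941)))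
theorem Q11310 : ∀ i, i < 11310 → P i := stepQ 11309 Q11309 (allL N11309 (tt N11605 (iv F38251)) (tt N10712 F37143) (tt N9923 (iv D11406)) (tt N10389 F37139) (tt N12184 D12281) (tt N10971 F37140) (tt N10678 F37141) (tt N10691 F37142))
theorem Q11311 : ∀ i, i < 11311 → P i := stepQ 11310 Q11310 (allL N11310 (tt N12180 (iv F40564)) (tt N12157 (iv F40468)) (tt N12184 (iv F40583)) (tt N9927 F37144) (tt N9923 (iv D11407)) (tt N10972 F37145) (tt N12074 (iv F40083)) (tt N12158 (iv F40474)))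
theorem Q11312 : ∀ i, i < 11312 → P i := stepQ 11311 Q11311 (allL N11311 (tt N12181 (iv F40567)) (tt N11792 (iv F38954)) (tt N9924 (iv D11408)) (tt N10391 F37146) (tt N12185 D12282) (tt N9926 F37147) (tt N12165 (iv F40507)) (tt N11321 (iv F37183)))
theorem Q11313 : ∀ i, i < 11313 → P i := stepQ 11312 Q11312 (allL N11312 (tt N12182 (iv F40573)) (tt N11789 (iv F38943)) (tt N12185 (iv F40587)) (tt N10972 F37148) (tt N9924 (iv D11409)) (tt N9927 F37149) (tt N12186 D12283) (tt N12178 (iv F40558)))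
theorem Q11314 : ∀ i, i < 11314 → P i := stepQ 11313 Q11313 (allL N11313 (tt N11223 F37150) (tt N11779 (iv F38904)) (tt N12165 (iv F40505)) (tt N9925 F37151) (tt N12186 (iv F40591)) (tt N12078 (iv F40094)) (tt N9924 (iv D11410)) (tt N11458 (iv F37733)))
theorem Q11315 : ∀ i, i < 11315 → P i := stepQ 11314 Q11314 (allL N11314 (tt N12183 (iv F40578)) (tt N11977 (iv F39630)) (tt N9927 F37152) (tt N12187 D12284) (tt N9926 (iv D11411)) (tt N12185 (iv F40588)) (tt N11960 (iv F39571)) (tt N11322 (iv F37186)))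
theorem Q11316 : ∀ i, i < 11316 → P i := stepQ 11315 Q11315 (allL N11315 (tt N9942 F37153) (tt N11251 (iv F37158)) (tt N10019 F37154) (tt N9935 F37155) (tt N11250 F37156) (tt N9934 (iv D11412)) (tt N10018 F37157) (tt N11588 (iv F38190)))
theorem Q11317 : ∀ i, i < 11317 → P i := stepQ 11316 Q11316 (allL N11316 (tt N9945 F37159) (tt N11527 (iv F37971)) (tt N10682 F37160) (tt N9936 (iv D11413)) (tt N12188 D12285) (tt N11665 (iv F38487)) (tt N11178 F37161) (tt N11307 F37162))
theorem Q11318 : ∀ i, i < 11318 → P i := stepQ 11317 Q11317 (allL N11317 (tt N9952 F37163) (tt N11658 (iv F38463)) (tt N10544 F37164) (tt N9938 (iv D11414)) (tt N12189 D12286) (tt N9939 F37165) (tt N11656 (iv F38455)) (tt N11912 (iv F39390)))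
theorem Q11319 : ∀ i, i < 11319 → P i := stepQ 11318 Q11318 (allL N11318 (tt N9955 F37166) (tt N12096 (iv F40162)) (tt N10664 F37167) (tt N12188 (iv F40595)) (tt N9939 (iv D11415)) (tt N12189 (iv F40600)) (tt N12067 (iv F40052)) (tt N12094 (iv F40160)))
theorem Q11320 : ∀ i, i < 11320 → P i := stepQ 11319 Q11319 (allL N11319 (tt N11250 F37168) (tt N9980 F37169) (tt N10991 F37170) (tt N9947 F37171) (tt N9942 F37172) (tt N9941 (iv D11416)) (tt N10030 F37173) (tt N11590 (iv F38200)))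
theorem Q11321 : ∀ i, i < 11321 → P i := stepQ 11320 Q11320 (allL N11320 (tt N9981 F37174) (tt N9942 (iv D11417)) (tt N10976 F37175) (tt N9943 F37176) (tt N9980 F37177) (tt N9989 F37178) (tt N10402 F37179) (tt N10974 F37180))
theorem Q11322 : ∀ i, i < 11322 → P i := stepQ 11321 Q11321 (allL N11321 (tt N11665 (iv F38484)) (tt N11609 (iv F38264)) (tt N11302 F37181) (tt N9944 (iv D11418)) (tt N12190 D12287) (tt N9945 F37182) (tt N11598 (iv F38230)) (tt N11311 F37183))
theorem Q11323 : ∀ i, i < 11323 → P i := stepQ 11322 Q11322 (allL N11322 (tt N12188 (iv F40593)) (tt N11556 (iv F38062)) (tt N11304 F37184) (tt N9955 F37185) (tt N9945 (iv D11419)) (tt N12190 (iv F40603)) (tt N11554 (iv F38053)) (tt N11314 F37186))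
theorem Q11324 : ∀ i, i < 11324 → P i := stepQ 11323 Q11323 (allL N11323 (tt N12085 (iv F40119)) (tt N12160 (iv F40482)) (tt N12191 D12288) (tt N9948 (iv D11420)) (tt N12192 D12289) (tt N10518 F37187) (tt N10523 F37188) (tt N11591 (iv F38201)))
theorem Q11325 : ∀ i, i < 11325 → P i := stepQ 11324 Q11324 (allL N11324 (tt N10665 F37189) (tt N12193 D12290) (tt N9949 (iv D11421)) (tt N11324 F37190) (tt N12194 D12291) (tt N11914 (iv F39397)) (tt N12091 (iv F40144)) (tt N9954 F37191))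
theorem Q11326 : ∀ i, i < 11326 → P i := stepQ 11325 Q11325 (allL N11325 (tt N12094 (iv F40156)) (tt N12161 (iv F40486)) (tt N12194 (iv F40622)) (tt N12192 (iv F40611)) (tt N9949 (iv D11422)) (tt N12017 F39810) (tt N12092 (iv F40150)) (tt N9955 F37192))
theorem Q11327 : ∀ i, i < 11327 → P i := stepQ 11326 Q11326 (allL N11326 (tt N10544 F37193) (tt N11854 (iv F39189)) (tt N9952 (iv D11423)) (tt N9956 F37194) (tt N12195 D12292) (tt N9954 F37195) (tt N11852 F39181) (tt N11914 (iv F39399)))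
theorem Q11328 : ∀ i, i < 11328 → P i := stepQ 11327 Q11327 (allL N11327 (tt N12189 (iv F40598)) (tt N12019 (iv F39818)) (tt N12195 (iv F40625)) (tt N12190 (iv F40602)) (tt N9952 (iv D11424)) (tt N9955 F37196) (tt N12196 D12293) (tt N12017 F39811))
theorem Q11329 : ∀ i, i < 11329 → P i := stepQ 11328 Q11328 (allL N11328 (tt N11656 (iv F38453)) (tt N11676 (iv F38527)) (tt N11852 (iv F39179)) (tt N9953 F37197) (tt N12196 (iv F40628)) (tt N12081 (iv F40100)) (tt N9952 (iv D11425)) (tt N11849 F39171))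
theorem Q11330 : ∀ i, i < 11330 → P i := stepQ 11329 Q11329 (allL N11329 (tt N10699 F37198) (tt N9954 (iv D11426)) (tt N11296 F37199) (tt N9958 F37200) (tt N12197 D12294) (tt N12198 D12295) (tt N11805 (iv F39002)) (tt N12193 (iv F40620)))
theorem Q11331 : ∀ i, i < 11331 → P i := stepQ 11330 Q11330 (allL N11330 (tt N10664 F37201) (tt N12197 (iv F40630)) (tt N9955 F37202) (tt N10688 F37203) (tt N9954 (iv D11427)) (tt N12195 (iv F40627)) (tt N12068 (iv F40057)) (tt N12194 (iv F40623)))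
theorem Q11332 : ∀ i, i < 11332 → P i := stepQ 11331 Q11331 (allL N11331 (tt N10538 F37204) (tt N9956 (iv D11428)) (tt N11331 F37205) (tt N11854 (iv F39191)) (tt N10537 F37206) (tt N12042 (iv F39920)) (tt N10096 (iv F37208)) (tt N11331 F37207))
theorem Q11333 : ∀ i, i < 11333 → P i := stepQ 11332 Q11332 (allL N11332 (tt N10543 F37209) (tt N10096 F37210) (tt N9957 F37211) (tt N11852 (iv F39180)) (tt N10566 F37212) (tt N12061 (iv F40032)) (tt N9956 (iv D11429)) (tt N10094 (iv F37213)))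
theorem Q11334 : ∀ i, i < 11334 → P i := stepQ 11333 Q11333 (allL N11333 (tt N10700 F37214) (tt N12042 (iv F39918)) (tt N9959 F37215) (tt N12198 (iv F40635)) (tt N10687 F37216) (tt N9958 (iv D11430)) (tt N10947 F37217) (tt N11333 F37218))
theorem Q11335 : ∀ i, i < 11335 → P i := stepQ 11334 Q11334 (allL N11334 (tt N11222 F37219) (tt N9982 F37220) (tt N10393 F37221) (tt N12165 (iv F40506)) (tt N10983 F37222) (tt N11959 (iv F39566)) (tt N10391 F37223) (tt N9976 (iv D11431)))
theorem Q11336 : ∀ i, i < 11336 → P i := stepQ 11335 Q11335 (allL N11335 (tt N9986 F37224) (tt N11335 F37225) (tt N9989 F37226) (tt N11335 F37227) (tt N9985 (iv D11432)) (tt N10976 F37228) (tt N11335 F37229) (tt N10975 F37230))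
theorem Q11337 : ∀ i, i < 11337 → P i := stepQ 11336 Q11336 (allL N11336 (tt N10914 F37231) (tt N9990 F37232) (tt N11336 F37233) (tt N12172 (iv F40536)) (tt N10895 F37234) (tt N10889 F37235) (tt N12043 (iv F39927)) (tt N9988 (iv D11433)))
theorem Q11338 : ∀ i, i < 11338 → P i := stepQ 11337 Q11337 (allL N11337 (tt N9991 F37236) (tt N10895 F37237) (tt N10975 F37238) (tt N12199 D12296) (tt N9990 F37239) (tt N10974 F37240) (tt N11341 (iv F37254)) (tt N9989 (iv D11434)))
theorem Q11339 : ∀ i, i < 11339 → P i := stepQ 11338 Q11338 (allL N11338 (tt N9992 F37241) (tt N12043 (iv F39924)) (tt N10554 F37242) (tt N12174 (iv F40543)) (tt N11341 (iv F37253)) (tt N11340 (iv F37249)) (tt N9990 (iv D11435)) (tt N11338 F37243))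
theorem Q11340 : ∀ i, i < 11340 → P i := stepQ 11339 Q11339 (allL N11339 (tt N12199 (iv F40638)) (tt N11964 (iv F39579)) (tt N10723 F37244) (tt N9991 (iv D11436)) (tt N12175 (iv F40545)) (tt N10721 F37245) (tt N12200 D12297) (tt N11697 (iv F38604)))
theorem Q11341 : ∀ i, i < 11341 → P i := stepQ 11340 Q11340 (allL N11340 (tt N11341 (iv F37251)) (tt N10371 F37246) (tt N10555 F37247) (tt N12200 (iv F40647)) (tt N9992 F37248) (tt N11338 F37249) (tt N9991 (iv D11437)) (tt N11340 F37250))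
theorem Q11342 : ∀ i, i < 11342 → P i := stepQ 11341 Q11341 (allL N11341 (tt N11340 F37251) (tt N11976 (iv F39624)) (tt N10556 F37252) (tt N12177 (iv F40555)) (tt N11338 F37253) (tt N9992 (iv D11438)) (tt N11337 F37254) (tt N11341 F37255))
theorem Q11343 : ∀ i, i < 11343 → P i := stepQ 11342 Q11342 (allL N11342 (tt N10994 F37256) (tt N11651 (iv F38430)) (tt N10023 F37257) (tt N11197 F37258) (tt N12044 (iv F39933)) (tt N10016 (iv D11439)) (tt N10501 F37259) (tt N11647 (iv F38420)))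
theorem Q11344 : ∀ i, i < 11344 → P i := stepQ 11343 Q11343 (allL N11343 (tt N11392 F37471) (tt N11016 (iv F37264)) (tt N11647 (iv F38416)) (tt N11019 F37260) (tt N10183 F37261) (tt N10022 (iv D11440)) (tt N11013 F37262) (tt N10023 F37263))
theorem Q11345 : ∀ i, i < 11345 → P i := stepQ 11344 Q11344 (allL N11344 (tt N11255 F37265) (tt N10023 (iv D11441)) (tt N12201 D12298) (tt N11253 F37266) (tt N12045 (iv F39938)) (tt N11344 F37267) (tt N10507 F37268) (tt N11016 F37269))
theorem Q11346 : ∀ i, i < 11346 → P i := stepQ 11345 Q11345 (allL N11345 (tt N10189 F37270) (tt N11882 (iv F39283)) (tt N10036 (iv D11442)) (tt N10052 F37271) (tt N12202 D12299) (tt N11578 (iv F38147)) (tt N10298 F37272) (tt N10521 F37273))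
theorem Q11347 : ∀ i, i < 11347 → P i := stepQ 11346 Q11346 (allL N11346 (tt N10190 F37274) (tt N10655 F37275) (tt N12202 (iv F40657)) (tt N10041 F37276) (tt N10036 (iv D11443)) (tt N11579 (iv F38150)) (tt N10352 F37277) (tt N10522 F37278))
theorem Q11348 : ∀ i, i < 11348 → P i := stepQ 11347 Q11347 (allL N11347 (tt N10039 F37279) (tt N10947 F37280) (tt N11347 F37281) (tt N12203 D12300) (tt N10645 F37282) (tt N10038 F37283) (tt N12042 (iv F39921)) (tt N10037 (iv D11444)))
theorem Q11349 : ∀ i, i < 11349 → P i := stepQ 11348 Q11348 (allL N11348 (tt N10040 F37284) (tt N10196 F37285) (tt N11810 (iv F39016)) (tt N10038 (iv D11445)) (tt N11879 (iv F39274)) (tt N12203 (iv F40663)) (tt N10644 F37286) (tt N11438 (iv F37664)))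
theorem Q11350 : ∀ i, i < 11350 → P i := stepQ 11349 Q11349 (allL N11349 (tt N12203 (iv F40661)) (tt N10908 F37287) (tt N11813 (iv F39025)) (tt N10039 (iv D11446)) (tt N12204 D12301) (tt N10040 F37288) (tt N11856 (iv F39201)) (tt N11440 (iv F37669)))
theorem Q11351 : ∀ i, i < 11351 → P i := stepQ 11350 Q11350 (allL N11350 (tt N11879 (iv F39271)) (tt N10041 F37289) (tt N11812 (iv F39023)) (tt N10655 F37290) (tt N10040 (iv D11447)) (tt N12204 (iv F40667)) (tt N10653 F37291) (tt N11439 (iv F37666)))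
theorem Q11352 : ∀ i, i < 11352 → P i := stepQ 11351 Q11351 (allL N11351 (tt N10205 F37292) (tt N10653 F37293) (tt N11130 F37294) (tt N10352 F37295) (tt N10042 F37296) (tt N12205 D12302) (tt N10041 (iv D11448)) (tt N11804 (iv F38998)))
theorem Q11353 : ∀ i, i < 11353 → P i := stepQ 11352 Q11352 (allL N11352 (tt N10206 F37297) (tt N11844 (iv F39141)) (tt N11131 F37298) (tt N10043 F37299) (tt N12205 (iv F40671)) (tt N10042 (iv D11449)) (tt N10875 F37300) (tt N11803 (iv F38994)))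
theorem Q11354 : ∀ i, i < 11354 → P i := stepQ 11353 Q11353 (allL N11353 (tt N10233 (iv F37306)) (tt N10043 (iv D11450)) (tt N10232 F37301) (tt N11844 (iv F39143)) (tt N10254 F37302) (tt N10539 F37303) (tt N10237 F37304) (tt N10045 F37305))
theorem Q11355 : ∀ i, i < 11355 → P i := stepQ 11354 Q11354 (allL N11354 (tt N10045 (iv D11451)) (tt N10213 F37307) (tt N10231 (iv F37312)) (tt N11373 (iv F37389)) (tt N10248 F37308) (tt N10582 F37309) (tt N10050 F37310) (tt N10233 F37311))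
theorem Q11356 : ∀ i, i < 11356 → P i := stepQ 11355 Q11355 (allL N11355 (tt N10231 F37313) (tt N10059 F37314) (tt N10045 (iv D11452)) (tt N11406 (iv F37535)) (tt N10247 F37315) (tt N10540 F37316) (tt N10051 F37317) (tt N10232 F37318))
theorem Q11357 : ∀ i, i < 11357 → P i := stepQ 11356 Q11356 (allL N11356 (tt N10218 F37319) (tt N11091 F37320) (tt N10049 F37321) (tt N10817 (iv F37324)) (tt N11093 F37322) (tt N10047 F37323) (tt N11800 (iv F38982)) (tt N10046 (iv D11453)))
theorem Q11358 : ∀ i, i < 11358 → P i := stepQ 11357 Q11357 (allL N11357 (tt N12041 (iv F39911)) (tt N10062 F37325) (tt N11405 (iv F37529)) (tt N10051 (iv D11454)) (tt N12134 (iv F40354)) (tt N11357 F37326) (tt N11406 (iv F37538)) (tt N11150 F37327))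
theorem Q11359 : ∀ i, i < 11359 → P i := stepQ 11358 Q11358 (allL N11358 (tt N10230 F37328) (tt N12028 (iv F39856)) (tt N12037 (iv F39892)) (tt N10054 F37329) (tt N11141 F37330) (tt N10053 (iv D11455)) (tt N11583 (iv F38170)) (tt N10108 F37331))
theorem Q11360 : ∀ i, i < 11360 → P i := stepQ 11359 Q11359 (allL N11359 (tt N11072 F37332) (tt N11707 (iv F38644)) (tt N11100 F37333) (tt N10056 (iv D11456)) (tt N11709 (iv F38657)) (tt N10070 F37334) (tt N11155 F37335) (tt N11073 F37336))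
theorem Q11361 : ∀ i, i < 11361 → P i := stepQ 11360 Q11360 (allL N11360 (tt N12028 (iv F39855)) (tt N11406 (iv F37534)) (tt N11153 F37337) (tt N10059 (iv D11457)) (tt N12136 (iv F40367)) (tt N11360 F37338) (tt N10062 F37339) (tt N11931 (iv F39470)))
theorem Q11362 : ∀ i, i < 11362 → P i := stepQ 11361 Q11361 (allL N11361 (tt N10265 F37340) (tt N11775 (iv F38892)) (tt N10788 F37341) (tt N10060 (iv D11458)) (tt N12206 D12303) (tt N10061 F37342) (tt N11165 F37343) (tt N10817 F37344))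
theorem Q11363 : ∀ i, i < 11363 → P i := stepQ 11362 Q11362 (allL N11362 (tt N10266 F37345) (tt N11366 (iv F37361)) (tt N10789 F37346) (tt N11365 (iv F37358)) (tt N10061 (iv D11459)) (tt N12206 (iv F40675)) (tt N10068 F37347) (tt N10821 F37348))
theorem Q11364 : ∀ i, i < 11364 → P i := stepQ 11363 Q11363 (allL N11363 (tt N11492 (iv F37863)) (tt N11176 F37349) (tt N11822 (iv F39059)) (tt N10064 (iv D11460)) (tt N12207 D12304) (tt N10065 F37350) (tt N11785 (iv F38927)) (tt N11203 F37351))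
theorem Q11365 : ∀ i, i < 11365 → P i := stepQ 11364 Q11364 (allL N11364 (tt N10163 F37352) (tt N10754 F37353) (tt N10065 (iv D11461)) (tt N10072 F37354) (tt N12208 D12305) (tt N11822 (iv F39060)) (tt N10790 F37355) (tt N11220 F37356))
theorem Q11366 : ∀ i, i < 11366 → P i := stepQ 11365 Q11365 (allL N11365 (tt N11493 (iv F37866)) (tt N10068 F37357) (tt N12208 (iv F40684)) (tt N11362 F37358) (tt N10065 (iv D11462)) (tt N12207 (iv F40680)) (tt N11366 (iv F37364)) (tt N11224 F37359))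
theorem Q11367 : ∀ i, i < 11367 → P i := stepQ 11366 Q11366 (allL N11366 (tt N10287 F37360) (tt N11362 F37361) (tt N11899 (iv F39325)) (tt N10068 F37362) (tt N10067 (iv D11463)) (tt N11181 F37363) (tt N11365 F37364) (tt N11923 (iv F39436)))
theorem Q11368 : ∀ i, i < 11368 → P i := stepQ 11367 Q11367 (allL N11367 (tt N10082 F37365) (tt N11592 (iv F38203)) (tt N12209 D12306) (tt N10074 (iv D11464)) (tt N12052 (iv F39980)) (tt N10075 F37366) (tt N11954 (iv F39548)) (tt N11481 (iv F37824)))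
theorem Q11369 : ∀ i, i < 11369 → P i := stepQ 11368 Q11368 (allL N11368 (tt N10084 F37367) (tt N11368 F37368) (tt N10075 (iv D11465)) (tt N10148 F37369) (tt N10855 F37370) (tt N12209 (iv F40691)) (tt N11368 F37371) (tt N11195 F37372))
theorem Q11370 : ∀ i, i < 11370 → P i := stepQ 11369 Q11369 (allL N11369 (tt N10439 F37373) (tt N11733 (iv F38747)) (tt N11499 (iv F37879)) (tt N10076 (iv D11466)) (tt N12210 D12307) (tt N10098 F37374) (tt N11904 (iv F39351)) (tt N11529 (iv F37981)))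
theorem Q11371 : ∀ i, i < 11371 → P i := stepQ 11370 Q11370 (allL N11370 (tt N11917 (iv F39410)) (tt N10082 F37375) (tt N11024 F37376) (tt N10081 (iv D11467)) (tt N12103 (iv F40198)) (tt N11370 F37377) (tt N11023 F37378) (tt N11208 F37379))
theorem Q11372 : ∀ i, i < 11372 → P i := stepQ 11371 Q11371 (allL N11371 (tt N12209 (iv F40688)) (tt N10832 F37380) (tt N10082 (iv D11468)) (tt N11379 (iv F37418)) (tt N10834 F37381) (tt N10084 F37382) (tt N11399 (iv F37499)) (tt N12101 (iv F40188)))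
theorem Q11373 : ∀ i, i < 11373 → P i := stepQ 11372 Q11372 (allL N11372 (tt N11954 (iv F39545)) (tt N11023 F37383) (tt N11399 (iv F37497)) (tt N10083 F37384) (tt N12104 (iv F40204)) (tt N11372 F37385) (tt N10082 (iv D11469)) (tt N11206 F37386))
theorem Q11374 : ∀ i, i < 11374 → P i := stepQ 11373 Q11373 (allL N11373 (tt N10155 F37387) (tt N11451 (iv F37702)) (tt N10090 F37388) (tt N11354 F37389) (tt N10089 (iv D11470)) (tt N10092 F37390) (tt N11210 (iv F37392)) (tt N10732 F37391))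
theorem Q11375 : ∀ i, i < 11375 → P i := stepQ 11374 Q11374 (allL N11374 (tt N10156 F37393) (tt N10623 F37394) (tt N10091 F37395) (tt N11244 F37396) (tt N11210 F37397) (tt N11374 F37398) (tt N10089 (iv D11471)) (tt N10622 F37399))
theorem Q11376 : ∀ i, i < 11376 → P i := stepQ 11375 Q11375 (allL N11375 (tt N10094 F37400) (tt N10582 F37401) (tt N10542 F37402) (tt N10093 (iv D11472)) (tt N10561 F37403) (tt N12060 (iv F40026)) (tt N11375 F37404) (tt N10543 F37405))
theorem Q11377 : ∀ i, i < 11377 → P i := stepQ 11376 Q11376 (allL N11376 (tt N10440 F37406) (tt N10102 F37407) (tt N11523 (iv F37960)) (tt N11517 (iv F37935)) (tt N10098 (iv D11473)) (tt N12210 (iv F40694)) (tt N10445 F37408) (tt N11531 (iv F37992)))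
theorem Q11378 : ∀ i, i < 11378 → P i := stepQ 11377 Q11377 (allL N11377 (tt N10788 F37409) (tt N11907 (iv F39364)) (tt N10265 F37410) (tt N10100 (iv D11474)) (tt N12211 D12308) (tt N10101 F37411) (tt N11742 (iv F38779)) (tt N10453 F37412))
theorem Q11379 : ∀ i, i < 11379 → P i := stepQ 11378 Q11378 (allL N11378 (tt N10789 F37413) (tt N10445 F37414) (tt N10266 F37415) (tt N11731 (iv F38739)) (tt N10101 (iv D11475)) (tt N12211 (iv F40697)) (tt N10102 F37416) (tt N10455 F37417))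
theorem Q11380 : ∀ i, i < 11380 → P i := stepQ 11379 Q11379 (allL N11379 (tt N11404 (iv F37524)) (tt N10884 F37421) (tt N10103 (iv D11476)) (tt N11371 F37418) (tt N10879 F37419) (tt N10105 F37420) (tt N12212 D12309) (tt N11401 (iv F37511)))
theorem Q11381 : ∀ i, i < 11381 → P i := stepQ 11380 Q11380 (allL N11380 (tt N11407 (iv F37540)) (tt N11419 (iv F37595)) (tt N12212 (iv F40701)) (tt N10104 F37422) (tt N11582 (iv F38163)) (tt N11380 F37423) (tt N10103 (iv D11477)) (tt N12032 (iv F39874)))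
theorem Q11382 : ∀ i, i < 11382 → P i := stepQ 11381 Q11381 (allL N11381 (tt N11931 (iv F39465)) (tt N10108 F37424) (tt N12029 (iv F39862)) (tt N10107 (iv D11478)) (tt N12213 D12310) (tt N11381 F37425) (tt N11933 (iv F39477)) (tt N12028 F39860))
theorem Q11383 : ∀ i, i < 11383 → P i := stepQ 11382 Q11382 (allL N11382 (tt N11587 F38186) (tt N12213 (iv F40707)) (tt N10866 F37426) (tt N11147 F37427) (tt N10108 (iv D11479)) (tt N10110 F37428) (tt N12214 D12311) (tt N11141 F37429))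
theorem Q11384 : ∀ i, i < 11384 → P i := stepQ 11383 Q11383 (allL N11383 (tt N11902 F39343) (tt N11933 (iv F39474)) (tt N11581 F38160) (tt N10109 F37430) (tt N12214 (iv F40716)) (tt N11383 F37431) (tt N10108 (iv D11480)) (tt N12154 (iv F40457)))
theorem Q11385 : ∀ i, i < 11385 → P i := stepQ 11384 Q11384 (allL N11384 (tt N11578 (iv F38145)) (tt N11995 (iv F39709)) (tt N10111 (iv D11481)) (tt N10128 F37432) (tt N12215 D12312) (tt N10189 F37433) (tt N11997 (iv F39719)) (tt N10613 F37434))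
theorem Q11386 : ∀ i, i < 11386 → P i := stepQ 11385 Q11385 (allL N11385 (tt N11579 (iv F38148)) (tt N12083 (iv F40108)) (tt N12215 (iv F40719)) (tt N10120 F37435) (tt N10111 (iv D11482)) (tt N10190 F37436) (tt N12216 D12313) (tt N12084 (iv F40118)))
theorem Q11387 : ∀ i, i < 11387 → P i := stepQ 11386 Q11386 (allL N11386 (tt N10874 F37437) (tt N10489 F37438) (tt N11997 (iv F39716)) (tt N10112 F37439) (tt N12216 (iv F40725)) (tt N12217 D12314) (tt N10111 (iv D11483)) (tt N12218 D12315))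
theorem Q11388 : ∀ i, i < 11388 → P i := stepQ 11387 Q11387 (allL N11387 (tt N10269 F37440) (tt N10226 F37441) (tt N10130 F37442) (tt N12217 (iv F40729)) (tt N10122 F37443) (tt N10112 (iv D11484)) (tt N10192 F37444) (tt N10114 F37445))
theorem Q11389 : ∀ i, i < 11389 → P i := stepQ 11388 Q11388 (allL N11388 (tt N10864 F37446) (tt N11417 (iv F37586)) (tt N10884 F37447) (tt N10114 F37448) (tt N10466 F37449) (tt N10113 (iv D11485)) (tt N10117 F37450) (tt N12219 D12316))
theorem Q11390 : ∀ i, i < 11390 → P i := stepQ 11389 Q11389 (allL N11389 (tt N10865 F37451) (tt N10480 F37452) (tt N10886 F37453) (tt N12218 (iv F40733)) (tt N10467 F37454) (tt N12219 (iv F40737)) (tt N11589 (iv F38194)) (tt N10113 (iv D11486)))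
theorem Q11391 : ∀ i, i < 11391 → P i := stepQ 11390 Q11390 (allL N11390 (tt N11580 (iv F38151)) (tt N12212 (iv F40700)) (tt N10117 F37455) (tt N10133 F37456) (tt N10815 F37457) (tt N10115 (iv D11487)) (tt N10884 F37458) (tt N11062 F37459))
theorem Q11392 : ∀ i, i < 11392 → P i := stepQ 11391 Q11391 (allL N11391 (tt N10403 F37460) (tt N11122 F37461) (tt N10815 F37462) (tt N10124 F37463) (tt N10117 F37464) (tt N10116 (iv D11488)) (tt N10466 F37465) (tt N11121 F37466))
theorem Q11393 : ∀ i, i < 11393 → P i := stepQ 11392 Q11392 (allL N11392 (tt N11343 (iv F37471)) (tt N10117 (iv D11489)) (tt N11419 (iv F37596)) (tt N10118 F37467) (tt N11122 F37468) (tt N10383 F37469) (tt N11417 F37589) (tt N11120 F37470))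
theorem Q11394 : ∀ i, i < 11394 → P i := stepQ 11393 Q11393 (allL N11393 (tt N10522 F37472) (tt N10120 F37473) (tt N10612 F37474) (tt N12083 (iv F40109)) (tt N10119 (iv D11490)) (tt N12084 (iv F40117)) (tt N10492 F37475) (tt N10190 F37476))
theorem Q11395 : ∀ i, i < 11395 → P i := stepQ 11394 Q11394 (allL N11394 (tt N10876 F37477) (tt N10492 F37478) (tt N10770 F37479) (tt N12216 (iv F40724)) (tt N10121 F37480) (tt N12220 D12317) (tt N10120 (iv D11491)) (tt N10477 (iv F37481)))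
theorem Q11396 : ∀ i, i < 11396 → P i := stepQ 11395 Q11395 (allL N11395 (tt N10875 F37482) (tt N12221 D12318) (tt N10767 F37483) (tt N10122 F37484) (tt N12220 (iv F40740)) (tt N10121 (iv D11492)) (tt N10206 F37485) (tt N10475 F37486))
theorem Q11397 : ∀ i, i < 11397 → P i := stepQ 11396 Q11396 (allL N11396 (tt N10195 F37487) (tt N10122 (iv D11493)) (tt N10194 F37488) (tt N12221 (iv F40744)) (tt N10226 F37489) (tt N10409 F37490) (tt N10208 F37491) (tt N10123 F37492))
theorem Q11398 : ∀ i, i < 11398 → P i := stepQ 11397 Q11397 (allL N11397 (tt N11583 (iv F38166)) (tt N12041 (iv F39912)) (tt N11674 (iv F38521)) (tt N10130 F37493) (tt N11704 (iv F38627)) (tt N10129 (iv D11494)) (tt N10230 F37494) (tt N11675 (iv F38524)))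
theorem Q11399 : ∀ i, i < 11399 → P i := stepQ 11398 Q11398 (allL N11398 (tt N11586 (iv F38180)) (tt N12040 (iv F39907)) (tt N11932 (iv F39471)) (tt N11675 (iv F38525)) (tt N11240 F37495) (tt N10132 F37496) (tt N12135 (iv F40363)) (tt N10131 (iv D11495)))
theorem Q11400 : ∀ i, i < 11400 → P i := stepQ 11399 Q11399 (allL N11399 (tt N12213 (iv F40706)) (tt N10133 (iv D11496)) (tt N11372 F37497) (tt N12212 (iv F40702)) (tt N11931 (iv F39467)) (tt N11399 F37498) (tt N11371 F37499) (tt N12136 (iv F40370)))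
theorem Q11401 : ∀ i, i < 11401 → P i := stepQ 11400 Q11400 (allL N11400 (tt N10138 F37500) (tt N11951 (iv F39530)) (tt N11199 F37501) (tt N10137 F37502) (tt N10141 F37503) (tt N10136 (iv D11497)) (tt N10425 F37504) (tt N11021 F37505))
theorem Q11402 : ∀ i, i < 11402 → P i := stepQ 11401 Q11401 (allL N11401 (tt N10147 F37506) (tt N11970 (iv F39596)) (tt N10141 F37507) (tt N11190 F37508) (tt N11199 F37509) (tt N10139 (iv D11498)) (tt N11189 F37510) (tt N11379 F37511))
theorem Q11403 : ∀ i, i < 11403 → P i := stepQ 11402 Q11402 (allL N11402 (tt N10149 F37512) (tt N11004 F37513) (tt N11189 F37514) (tt N10142 F37515) (tt N10425 F37516) (tt N10140 (iv D11499)) (tt N10141 F37517) (tt N11008 F37518))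
theorem Q11404 : ∀ i, i < 11404 → P i := stepQ 11403 Q11403 (allL N11403 (tt N11213 F37519) (tt N10141 (iv D11500)) (tt N12222 D12319) (tt N10144 F37520) (tt N11951 (iv F39532)) (tt N10166 F37521) (tt N11004 F37522) (tt N10176 F37523))
theorem Q11405 : ∀ i, i < 11405 → P i := stepQ 11404 Q11404 (allL N11404 (tt N11379 F37524) (tt N12104 (iv F40202)) (tt N10151 F37525) (tt N12209 (iv F40689)) (tt N11023 F37526) (tt N10148 F37527) (tt N12103 (iv F40200)) (tt N10147 (iv D11501)))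
theorem Q11406 : ∀ i, i < 11406 → P i := stepQ 11405 Q11405 (allL N11405 (tt N11211 F37528) (tt N10149 (iv D11502)) (tt N11357 F37529) (tt N10152 F37530) (tt N11204 F37531) (tt N11405 F37532) (tt N10150 F37533) (tt N12108 (iv F40227)))
theorem Q11407 : ∀ i, i < 11407 → P i := stepQ 11406 Q11406 (allL N11406 (tt N11471 F37784) (tt N11360 F37534) (tt N10150 (iv D11503)) (tt N11355 F37535) (tt N11267 F37536) (tt N10162 F37537) (tt N11357 F37538) (tt N10830 F37539))
theorem Q11408 : ∀ i, i < 11408 → P i := stepQ 11407 Q11407 (allL N11407 (tt N11380 F37540) (tt N10629 F37541) (tt N12103 (iv F40197)) (tt N10601 F37542) (tt N11024 F37543) (tt N11407 F37544) (tt N10151 (iv D11504)) (tt N12102 F40195))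
theorem Q11409 : ∀ i, i < 11409 → P i := stepQ 11408 Q11408 (allL N11408 (tt N11286 F37545) (tt N11408 F37546) (tt N11575 (iv F38132)) (tt N10160 F37547) (tt N10154 (iv D11505)) (tt N10985 F37548) (tt N10390 F37549) (tt N12126 (iv F40317)))
theorem Q11410 : ∀ i, i < 11410 → P i := stepQ 11409 Q11409 (allL N11409 (tt N10622 F37550) (tt N11243 F37551) (tt N10157 F37552) (tt N11264 F37553) (tt N11209 F37554) (tt N11409 F37555) (tt N10643 F37556) (tt N10156 (iv D11506)))
theorem Q11411 : ∀ i, i < 11411 → P i := stepQ 11410 Q11410 (allL N11410 (tt N11206 F37557) (tt N10158 F37558) (tt N12100 (iv F40178)) (tt N10157 (iv D11507)) (tt N10989 F37559) (tt N11410 F37560) (tt N10988 F37561) (tt N11954 (iv F39549)))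
theorem Q11412 : ∀ i, i < 11412 → P i := stepQ 11411 Q11411 (allL N11411 (tt N11970 (iv F39595)) (tt N10989 F37562) (tt N11955 (iv F39550)) (tt N10985 F37563) (tt N10158 (iv D11508)) (tt N10160 F37564) (tt N10984 (iv F37565)) (tt N11953 (iv F39544)))
theorem Q11413 : ∀ i, i < 11413 → P i := stepQ 11412 Q11412 (allL N11412 (tt N11200 F37566) (tt N10988 F37567) (tt N11959 (iv F39565)) (tt N10159 F37568) (tt N10984 F37569) (tt N10393 F37570) (tt N10158 (iv D11509)) (tt N11229 (iv F37571)))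
theorem Q11414 : ∀ i, i < 11414 → P i := stepQ 11413 Q11413 (allL N11413 (tt N11822 (iv F39057)) (tt N11561 (iv F38084)) (tt N11492 (iv F37864)) (tt N10161 (iv D11510)) (tt N12223 D12320) (tt N10163 F37572) (tt N11823 (iv F39064)) (tt N11566 (iv F38109)))
theorem Q11415 : ∀ i, i < 11415 → P i := stepQ 11414 Q11414 (allL N11414 (tt N12208 (iv F40682)) (tt N10164 F37573) (tt N11493 (iv F37867)) (tt N10736 F37574) (tt N10163 (iv D11511)) (tt N12223 (iv F40754)) (tt N11516 (iv F37932)) (tt N11767 (iv F38869)))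
theorem Q11416 : ∀ i, i < 11416 → P i := stepQ 11415 Q11415 (allL N11415 (tt N10505 F37575) (tt N11031 F37576) (tt N10166 (iv D11512)) (tt N11603 (iv F38245)) (tt N11653 (iv F38440)) (tt N12222 (iv F40750)) (tt N10482 F37577) (tt N10178 F37578))
theorem Q11417 : ∀ i, i < 11417 → P i := stepQ 11416 Q11416 (allL N11416 (tt N10176 F37579) (tt N10362 F37580) (tt N11013 F37581) (tt N10170 (iv D11513)) (tt N10378 F37582) (tt N10171 F37583) (tt N11647 (iv F38419)) (tt N11213 F37584))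
theorem Q11418 : ∀ i, i < 11418 → P i := stepQ 11417 Q11417 (allL N11417 (tt N11013 F37585) (tt N11388 F37586) (tt N10176 (iv D11514)) (tt N11017 F37587) (tt N11641 (iv F38385)) (tt N10178 F37588) (tt N11392 (iv F37589)) (tt N12222 (iv F40752)))
theorem Q11419 : ∀ i, i < 11419 → P i := stepQ 11418 Q11418 (allL N11418 (tt N10378 F37590) (tt N11021 F37591) (tt N11641 (iv F38383)) (tt N10187 F37592) (tt N10176 (iv D11515)) (tt N10179 F37593) (tt N10380 (iv F37594)) (tt N11951 (iv F39534)))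
theorem Q11420 : ∀ i, i < 11420 → P i := stepQ 11419 Q11419 (allL N11419 (tt N11647 (iv F38414)) (tt N11380 F37595) (tt N11392 F37596) (tt N10177 F37597) (tt N10380 F37598) (tt N10382 F37599) (tt N10176 (iv D11516)) (tt N10994 F37600))
theorem Q11421 : ∀ i, i < 11421 → P i := stepQ 11420 Q11420 (allL N11420 (tt N11593 (iv F38208)) (tt N10183 F37601) (tt N12224 D12321) (tt N10182 (iv D11517)) (tt N11016 F37602) (tt N11420 F37603) (tt N11015 F37604) (tt N12045 (iv F39941)))
theorem Q11422 : ∀ i, i < 11422 → P i := stepQ 11421 Q11421 (allL N11421 (tt N10380 F37605) (tt N10375 F37608) (tt N10183 (iv D11518)) (tt N10186 F37606) (tt N11647 (iv F38417)) (tt N10185 F37607) (tt N10378 F37609) (tt N12044 (iv F39935)))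
theorem Q11423 : ∀ i, i < 11423 → P i := stepQ 11422 Q11422 (allL N11422 (tt N11641 (iv F38382)) (tt N11015 F37610) (tt N10378 F37611) (tt N10184 F37612) (tt N11013 F37613) (tt N10381 F37614) (tt N10183 (iv D11519)) (tt N11952 (iv F39538)))
theorem Q11424 : ∀ i, i < 11424 → P i := stepQ 11423 Q11423 (allL N11423 (tt N12202 (iv F40656)) (tt N10442 F37615) (tt N10190 F37616) (tt N12225 D12322) (tt N10189 (iv D11520)) (tt N12215 (iv F40720)) (tt N10299 F37617) (tt N10612 F37618))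
theorem Q11425 : ∀ i, i < 11425 → P i := stepQ 11424 Q11424 (allL N11424 (tt N10352 F37619) (tt N11877 (iv F39261)) (tt N10299 F37620) (tt N10205 F37621) (tt N10191 F37622) (tt N12226 D12323) (tt N10190 (iv D11521)) (tt N10296 F37623))
theorem Q11426 : ∀ i, i < 11426 → P i := stepQ 11425 Q11425 (allL N11425 (tt N10351 F37624) (tt N12227 D12324) (tt N10272 F37625) (tt N10192 F37626) (tt N12226 (iv F40770)) (tt N10191 (iv D11522)) (tt N12217 (iv F40730)) (tt N10268 F37627))
theorem Q11427 : ∀ i, i < 11427 → P i := stepQ 11426 Q11426 (allL N11426 (tt N10214 F37628) (tt N10192 (iv D11523)) (tt N10213 F37629) (tt N12227 (iv F40774)) (tt N10208 F37630) (tt N12055 (iv F39997)) (tt N10226 F37631) (tt N10193 F37632))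
theorem Q11428 : ∀ i, i < 11428 → P i := stepQ 11427 Q11427 (allL N11427 (tt N10193 (iv D11524)) (tt N10248 F37633) (tt N10208 (iv F37638)) (tt N10338 F37634) (tt N10213 F37635) (tt N12056 (iv F40004)) (tt N10194 F37636) (tt N10214 F37637))
theorem Q11429 : ∀ i, i < 11429 → P i := stepQ 11428 Q11428 (allL N11428 (tt N10208 F37639) (tt N10233 F37640) (tt N10193 (iv D11525)) (tt N12228 D12325) (tt N10214 F37641) (tt N12057 (iv F40011)) (tt N10195 F37642) (tt N10213 F37643))
theorem Q11430 : ∀ i, i < 11430 → P i := stepQ 11429 Q11429 (allL N11429 (tt N12221 (iv F40743)) (tt N10238 F37644) (tt N12150 (iv F40434)) (tt N10195 (iv D11526)) (tt N12229 D12326) (tt N10410 F37645) (tt N12228 (iv F40780)) (tt N12230 D12327))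
theorem Q11431 : ∀ i, i < 11431 → P i := stepQ 11430 Q11430 (allL N11430 (tt N10197 F37646) (tt N12013 (iv F39791)) (tt N10196 (iv D11527)) (tt N10545 F37647) (tt N12231 D12328) (tt N11469 (iv F37775)) (tt N12069 (iv F40062)) (tt N12091 (iv F40145)))
theorem Q11432 : ∀ i, i < 11432 → P i := stepQ 11431 Q11431 (allL N11431 (tt N10198 F37648) (tt N11879 (iv F39272)) (tt N12231 (iv F40791)) (tt N11263 F37649) (tt N10196 (iv D11528)) (tt N11441 (iv F37672)) (tt N11878 (iv F39269)) (tt N12092 (iv F40151)))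
theorem Q11433 : ∀ i, i < 11433 → P i := stepQ 11432 Q11432 (allL N11432 (tt N12231 (iv F40790)) (tt N12176 (iv F40549)) (tt N10198 F37650) (tt N12232 D12329) (tt N10197 (iv D11529)) (tt N12086 (iv F40125)) (tt N12070 F40066) (tt N12093 (iv F40155)))
theorem Q11434 : ∀ i, i < 11434 → P i := stepQ 11433 Q11433 (allL N11433 (tt N11878 (iv F39266)) (tt N10205 F37651) (tt N12070 (iv F40064)) (tt N11877 F39265) (tt N10199 F37652) (tt N12233 D12330) (tt N10198 (iv D11530)) (tt N12067 (iv F40053)))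
theorem Q11435 : ∀ i, i < 11435 → P i := stepQ 11434 Q11434 (allL N11434 (tt N12079 (iv F40095)) (tt N12234 D12331) (tt N12066 (iv F40046)) (tt N10200 F37653) (tt N12233 (iv F40798)) (tt N10199 (iv D11531)) (tt N12088 (iv F40129)) (tt N12063 (iv F40040)))
theorem Q11436 : ∀ i, i < 11436 → P i := stepQ 11435 Q11435 (allL N11435 (tt N12057 (iv F40008)) (tt N10200 (iv D11532)) (tt N12056 F40007) (tt N12234 (iv F40799)) (tt N12055 (iv F39996)) (tt N10208 F37654) (tt N12058 (iv F40018)) (tt N10201 F37655))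
theorem Q11437 : ∀ i, i < 11437 → P i := stepQ 11436 Q11436 (allL N11436 (tt N10201 (iv D11533)) (tt N12060 (iv F40023)) (tt N12055 (iv F40000)) (tt N11908 (iv F39372)) (tt N12056 (iv F40003)) (tt N10213 F37656) (tt N10411 F37657) (tt N12057 (iv F40013)))
theorem Q11438 : ∀ i, i < 11438 → P i := stepQ 11437 Q11437 (allL N11437 (tt N12055 (iv F39995)) (tt N10553 F37658) (tt N10201 (iv D11534)) (tt N12235 D12332) (tt N12057 (iv F40010)) (tt N10214 F37659) (tt N10412 F37660) (tt N12056 (iv F40006)))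
theorem Q11439 : ∀ i, i < 11439 → P i := stepQ 11438 Q11438 (allL N11438 (tt N10202 (iv D11535)) (tt N11125 F37661) (tt N12174 (iv F40542)) (tt N10239 F37662) (tt N12236 D12333) (tt N11834 (iv F39106)) (tt N11280 F37663) (tt N11348 F37664))
theorem Q11440 : ∀ i, i < 11440 → P i := stepQ 11439 Q11439 (allL N11439 (tt N12236 (iv F40804)) (tt N10203 F37665) (tt N12176 (iv F40550)) (tt N12010 (iv F39779)) (tt N10202 (iv D11536)) (tt N12237 D12334) (tt N12170 (iv F40530)) (tt N11350 F37666))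
theorem Q11441 : ∀ i, i < 11441 → P i := stepQ 11440 Q11440 (allL N11440 (tt N11834 (iv F39103)) (tt N10773 F37667) (tt N12177 (iv F40554)) (tt N10240 F37668) (tt N12237 (iv F40809)) (tt N10202 (iv D11537)) (tt N11794 (iv F38962)) (tt N11349 F37669))
theorem Q11442 : ∀ i, i < 11442 → P i := stepQ 11441 Q11441 (allL N11441 (tt N11113 F37670) (tt N12010 (iv F39778)) (tt N12225 (iv F40764)) (tt N10203 (iv D11538)) (tt N10242 F37671) (tt N11431 F37672) (tt N12238 D12335) (tt N11682 F38556))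
theorem Q11443 : ∀ i, i < 11443 → P i := stepQ 11442 Q11442 (allL N11442 (tt N11130 F37673) (tt N12170 (iv F40527)) (tt N10205 F37674) (tt N12238 (iv F40813)) (tt N10204 F37675) (tt N12239 D12336) (tt N10203 (iv D11539)) (tt N12169 (iv F40525)))
theorem Q11444 : ∀ i, i < 11444 → P i := stepQ 11443 Q11443 (allL N11443 (tt N11131 F37676) (tt N11776 (iv F38896)) (tt N10206 F37677) (tt N10244 F37678) (tt N12239 (iv F40818)) (tt N10204 (iv D11540)) (tt N10767 F37679) (tt N12168 (iv F40519)))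
theorem Q11445 : ∀ i, i < 11445 → P i := stepQ 11444 Q11444 (allL N11444 (tt N12205 (iv F40668)) (tt N12240 D12337) (tt N12239 (iv F40817)) (tt N12226 (iv F40769)) (tt N10206 F37680) (tt N10205 (iv D11541)) (tt N12220 (iv F40741)) (tt N12241 D12338))
theorem Q11446 : ∀ i, i < 11446 → P i := stepQ 11445 Q11445 (allL N11445 (tt N11804 (iv F38995)) (tt N12067 (iv F40050)) (tt N12169 (iv F40522)) (tt N12242 D12339) (tt N10207 F37681) (tt N12241 (iv F40822)) (tt N12096 (iv F40165)) (tt N10205 (iv D11542)))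
theorem Q11447 : ∀ i, i < 11447 → P i := stepQ 11446 Q11446 (allL N11446 (tt N12228 (iv F40777)) (tt N10206 (iv D11543)) (tt N12243 D12340) (tt N10208 F37682) (tt N12240 (iv F40820)) (tt N12234 (iv F40800)) (tt N12221 (iv F40746)) (tt N12244 D12341))
theorem Q11448 : ∀ i, i < 11448 → P i := stepQ 11447 Q11447 (allL N11447 (tt N11803 (iv F38991)) (tt N12244 (iv F40832)) (tt N12168 (iv F40516)) (tt N10212 F37683) (tt N12241 (iv F40821)) (tt N10207 F37684) (tt N12245 D12342) (tt N10206 (iv D11544)))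
theorem Q11449 : ∀ i, i < 11449 → P i := stepQ 11448 Q11448 (allL N11448 (tt N10759 F37685) (tt N10209 (iv D11545)) (tt N10757 F37686) (tt N10337 F37687) (tt N10211 F37688) (tt N11216 F37689) (tt N10220 F37690) (tt N10756 (iv F37691)))
theorem Q11450 : ∀ i, i < 11450 → P i := stepQ 11449 Q11449 (allL N11449 (tt N10341 F37692) (tt N10756 F37693) (tt N11083 F37694) (tt N12246 D12343) (tt N10212 F37695) (tt N10210 F37696) (tt N10764 F37697) (tt N10209 (iv D11546)))
theorem Q11451 : ∀ i, i < 11451 → P i := stepQ 11450 Q11450 (allL N11450 (tt N10342 F37698) (tt N11178 F37699) (tt N10306 F37700) (tt N10210 (iv D11547)) (tt N12242 (iv F40826)) (tt N12246 (iv F40844)) (tt N11527 (iv F37973)) (tt N10295 F37701))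
theorem Q11452 : ∀ i, i < 11452 → P i := stepQ 11451 Q11451 (allL N11451 (tt N10211 (iv D11548)) (tt N11373 F37702) (tt N10323 (iv F37706)) (tt N10213 F37703) (tt N10759 F37704) (tt N11908 (iv F39374)) (tt N10222 F37705) (tt N10330 (iv F37707)))
theorem Q11453 : ∀ i, i < 11453 → P i := stepQ 11452 Q11452 (allL N11452 (tt N10323 F37708) (tt N10301 F37709) (tt N10211 (iv D11549)) (tt N12247 D12344) (tt N10757 F37710) (tt N11626 (iv F38339)) (tt N10223 F37711) (tt N10300 (iv F37712)))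
theorem Q11454 : ∀ i, i < 11454 → P i := stepQ 11453 Q11453 (allL N11453 (tt N10330 F37713) (tt N10212 F37714) (tt N10300 F37715) (tt N12244 (iv F40834)) (tt N10756 F37716) (tt N11645 (iv F38406)) (tt N10303 F37717) (tt N10211 (iv D11550)))
theorem Q11455 : ∀ i, i < 11455 → P i := stepQ 11454 Q11454 (allL N11454 (tt N11799 (iv F38974)) (tt N10303 F37718) (tt N10274 F37719) (tt N12245 (iv F40839)) (tt N10764 F37720) (tt N11490 (iv F37855)) (tt N10212 (iv D11551)) (tt N10225 F37721))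
theorem Q11456 : ∀ i, i < 11456 → P i := stepQ 11455 Q11455 (allL N11455 (tt N12227 (iv F40772)) (tt N10255 F37722) (tt N12247 (iv F40849)) (tt N10214 (iv D11552)) (tt N12248 D12345) (tt N12235 (iv F40802)) (tt N10227 F37723) (tt N12249 D12346))
theorem Q11457 : ∀ i, i < 11457 → P i := stepQ 11456 Q11456 (allL N11456 (tt N11085 F37724) (tt N10215 (iv D11553)) (tt N11521 (iv F37951)) (tt N11097 F37725) (tt N10217 F37726) (tt N11459 (iv F37737)) (tt N11084 F37727) (tt N11488 (iv F37850)))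
theorem Q11458 : ∀ i, i < 11458 → P i := stepQ 11457 Q11457 (allL N11457 (tt N11093 F37728) (tt N11488 (iv F37846)) (tt N10221 F37729) (tt N12250 D12347) (tt N10218 F37730) (tt N10216 F37731) (tt N11486 (iv F37844)) (tt N10215 (iv D11554)))
theorem Q11459 : ∀ i, i < 11459 → P i := stepQ 11458 Q11458 (allL N11458 (tt N12143 (iv F40395)) (tt N12071 (iv F40068)) (tt N11285 F37732) (tt N10216 (iv D11555)) (tt N12251 D12348) (tt N12250 (iv F40861)) (tt N11595 (iv F38221)) (tt N11313 F37733))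
theorem Q11460 : ∀ i, i < 11460 → P i := stepQ 11459 Q11459 (allL N11459 (tt N10217 (iv D11556)) (tt N11086 F37734) (tt N10310 (iv F37739)) (tt N10262 F37735) (tt N11085 F37736) (tt N11456 F37737) (tt N10279 F37738) (tt N10281 (iv F37740)))
theorem Q11461 : ∀ i, i < 11461 → P i := stepQ 11460 Q11460 (allL N11460 (tt N10310 F37741) (tt N10223 F37742) (tt N10217 (iv D11557)) (tt N12252 D12349) (tt N11521 (iv F37952)) (tt N11530 (iv F37986)) (tt N10301 F37743) (tt N10304 (iv F37744)))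
theorem Q11462 : ∀ i, i < 11462 → P i := stepQ 11461 Q11461 (allL N11461 (tt N10281 F37745) (tt N10218 F37746) (tt N10304 F37747) (tt N12253 D12350) (tt N11488 (iv F37848)) (tt N11509 (iv F37911)) (tt N10275 F37748) (tt N10217 (iv D11558)))
theorem Q11463 : ∀ i, i < 11463 → P i := stepQ 11462 Q11462 (allL N11462 (tt N10817 F37749) (tt N12253 (iv F40873)) (tt N10453 F37750) (tt N10218 (iv D11559)) (tt N12254 D12351) (tt N10219 F37751) (tt N12255 D12352) (tt N10265 F37752))
theorem Q11464 : ∀ i, i < 11464 → P i := stepQ 11463 Q11463 (allL N11463 (tt N11800 (iv F38979)) (tt N10275 F37753) (tt N10225 F37754) (tt N12255 (iv F40884)) (tt N11486 (iv F37842)) (tt N11491 (iv F37861)) (tt N10218 (iv D11560)) (tt N10274 F37755))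
theorem Q11465 : ∀ i, i < 11465 → P i := stepQ 11464 Q11464 (allL N11464 (tt N10821 F37756) (tt N12073 (iv F40077)) (tt N10455 F37757) (tt N12251 (iv F40865)) (tt N10219 (iv D11561)) (tt N12254 (iv F40879)) (tt N12099 (iv F40176)) (tt N10266 F37758))
theorem Q11466 : ∀ i, i < 11466 → P i := stepQ 11465 Q11465 (allL N11465 (tt N10322 F37759) (tt N12252 (iv F40868)) (tt N10227 F37760) (tt N10223 (iv D11562)) (tt N12256 D12353) (tt N10415 F37761) (tt N12247 (iv F40850)) (tt N10326 F37762))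
theorem Q11467 : ∀ i, i < 11467 → P i := stepQ 11466 Q11466 (allL N11466 (tt N10227 F37763) (tt N12217 (iv F40727)) (tt N10322 F37764) (tt N10226 (iv D11563)) (tt N12257 D12354) (tt N10416 F37765) (tt N12227 (iv F40775)) (tt N12258 D12355))
theorem Q11468 : ∀ i, i < 11468 → P i := stepQ 11467 Q11467 (allL N11467 (tt N12257 (iv F40890)) (tt N10271 F37766) (tt N12256 (iv F40887)) (tt N12229 (iv F40783)) (tt N10227 (iv D11564)) (tt N10417 F37767) (tt N12248 (iv F40853)) (tt N12259 D12356))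
theorem Q11469 : ∀ i, i < 11469 → P i := stepQ 11468 Q11468 (allL N11468 (tt N12258 (iv F40893)) (tt N10272 F37768) (tt N10326 F37769) (tt N11673 (iv F38514)) (tt N12259 (iv F40900)) (tt N10418 F37770) (tt N10324 F37771) (tt N10227 (iv D11565)))
theorem Q11470 : ∀ i, i < 11470 → P i := stepQ 11469 Q11469 (allL N11469 (tt N11112 F37772) (tt N10954 F37773) (tt N10242 F37774) (tt N10228 (iv D11566)) (tt N12225 (iv F40765)) (tt N11430 F37775) (tt N12038 (iv F39900)) (tt N11681 F38552))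
theorem Q11471 : ∀ i, i < 11471 → P i := stepQ 11470 Q11470 (allL N11470 (tt N11141 F37776) (tt N10995 F37777) (tt N12039 (iv F39904)) (tt N10245 F37778) (tt N10230 F37779) (tt N10229 (iv D11567)) (tt N11704 (iv F38628)) (tt N11587 (iv F38185)))
theorem Q11472 : ∀ i, i < 11472 → P i := stepQ 11471 Q11471 (allL N11471 (tt N11406 (iv F37784)) (tt N10230 (iv D11568)) (tt N10996 F37783) (tt N10231 F37780) (tt N10995 F37781) (tt N10581 F37782) (tt N12041 (iv F39916)) (tt N11577 (iv F38144)))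
theorem Q11473 : ∀ i, i < 11473 → P i := stepQ 11472 Q11472 (allL N11472 (tt N11844 (iv F39140)) (tt N12228 (iv F40778)) (tt N11907 (iv F39365)) (tt N10233 (iv D11569)) (tt N12260 D12357) (tt N10583 F37785) (tt N10238 F37786) (tt N11842 (iv F39138)))
theorem Q11474 : ∀ i, i < 11474 → P i := stepQ 11473 Q11473 (allL N11473 (tt N11618 (iv F38300)) (tt N11742 (iv F38776)) (tt N10238 F37787) (tt N10235 (iv D11570)) (tt N12261 D12358) (tt N10288 F37788) (tt N11907 (iv F39367)) (tt N10320 F37789))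
theorem Q11475 : ∀ i, i < 11475 → P i := stepQ 11474 Q11474 (allL N11474 (tt N10238 F37790) (tt N10875 F37791) (tt N11618 (iv F38301)) (tt N10237 (iv D11571)) (tt N12262 D12359) (tt N10289 F37792) (tt N11844 (iv F39145)) (tt N10880 F37793))
theorem Q11476 : ∀ i, i < 11476 → P i := stepQ 11475 Q11475 (allL N11475 (tt N12262 (iv F40910)) (tt N12229 (iv F40782)) (tt N12261 (iv F40906)) (tt N10271 F37794) (tt N10238 (iv D11572)) (tt N10290 F37795) (tt N12260 (iv F40905)) (tt N12263 D12360))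
theorem Q11477 : ∀ i, i < 11477 → P i := stepQ 11476 Q11476 (allL N11476 (tt N10880 F37796) (tt N12230 (iv F40786)) (tt N10320 F37797) (tt N10878 F37798) (tt N12263 (iv F40917)) (tt N10291 F37799) (tt N10761 F37800) (tt N10238 (iv D11573)))
theorem Q11478 : ∀ i, i < 11478 → P i := stepQ 11477 Q11477 (allL N11477 (tt N11114 F37801) (tt N11993 (iv F39699)) (tt N12038 (iv F39898)) (tt N10243 F37802) (tt N12238 (iv F40814)) (tt N12264 D12361) (tt N10242 (iv D11574)) (tt N11671 (iv F38508)))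
theorem Q11479 : ∀ i, i < 11479 → P i := stepQ 11478 Q11478 (allL N11478 (tt N11115 F37803) (tt N11076 F37804) (tt N10245 F37805) (tt N12264 (iv F40922)) (tt N10244 F37806) (tt N10243 (iv D11575)) (tt N11101 F37807) (tt N11035 F37808))
theorem Q11480 : ∀ i, i < 11480 → P i := stepQ 11479 Q11479 (allL N11479 (tt N11564 (iv F38097)) (tt N10253 F37809) (tt N10249 (iv D11576)) (tt N12265 D12362) (tt N11137 F37810) (tt N11135 F37811) (tt N10263 F37812) (tt N11134 F37813))
theorem Q11481 : ∀ i, i < 11481 → P i := stepQ 11480 Q11480 (allL N11480 (tt N10348 F37814) (tt N11137 F37815) (tt N10250 (iv D11577)) (tt N12266 D12363) (tt N10253 F37816) (tt N10487 F37817) (tt N10267 F37818) (tt N11136 F37819))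
theorem Q11482 : ∀ i, i < 11482 → P i := stepQ 11481 Q11481 (allL N11481 (tt N11145 F37820) (tt N12146 (iv F40412)) (tt N12129 (iv F40331)) (tt N10251 (iv D11578)) (tt N11052 F37821) (tt N10252 F37822) (tt N11057 F37823) (tt N11367 F37824))
theorem Q11483 : ∀ i, i < 11483 → P i := stepQ 11482 Q11482 (allL N11482 (tt N10358 F37825) (tt N12265 (iv F40925)) (tt N10255 F37826) (tt N10253 (iv D11579)) (tt N12267 D12364) (tt N10498 F37827) (tt N10268 F37828) (tt N12268 D12365))
theorem Q11484 : ∀ i, i < 11484 → P i := stepQ 11483 Q11483 (allL N11483 (tt N10255 F37829) (tt N10351 F37830) (tt N10358 F37831) (tt N10254 (iv D11580)) (tt N12269 D12366) (tt N10532 F37832) (tt N10270 F37833) (tt N10355 F37834))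
theorem Q11485 : ∀ i, i < 11485 → P i := stepQ 11484 Q11484 (allL N11484 (tt N12269 (iv F40944)) (tt N12248 (iv F40852)) (tt N12267 (iv F40937)) (tt N12260 (iv F40903)) (tt N10255 (iv D11581)) (tt N10593 F37835) (tt N10271 F37836) (tt N12270 D12367))
theorem Q11486 : ∀ i, i < 11486 → P i := stepQ 11485 Q11485 (allL N11485 (tt N10355 F37837) (tt N12249 (iv F40855)) (tt N12268 (iv F40942)) (tt N10354 F37838) (tt N12270 (iv F40951)) (tt N10594 F37839) (tt N12271 D12368) (tt N10255 (iv D11582)))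
theorem Q11487 : ∀ i, i < 11487 → P i := stepQ 11486 Q11486 (allL N11486 (tt N12076 (iv F40086)) (tt N10257 F37840) (tt N10336 F37841) (tt N12272 D12369) (tt N11463 F37842) (tt N10264 F37843) (tt N11457 F37844) (tt N10256 (iv D11583)))
theorem Q11488 : ∀ i, i < 11488 → P i := stepQ 11487 Q11487 (allL N11487 (tt N11508 (iv F37903)) (tt N12272 (iv F40957)) (tt N11644 (iv F38399)) (tt N10257 (iv D11584)) (tt N12273 D12370) (tt N10258 F37845) (tt N12274 D12371) (tt N12072 (iv F40075)))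
theorem Q11489 : ∀ i, i < 11489 → P i := stepQ 11488 Q11488 (allL N11488 (tt N11509 (iv F37907)) (tt N11457 F37846) (tt N10294 F37847) (tt N12274 (iv F40962)) (tt N11461 F37848) (tt N10281 F37849) (tt N10257 (iv D11585)) (tt N11456 F37850))
theorem Q11490 : ∀ i, i < 11490 → P i := stepQ 11489 Q11489 (allL N11489 (tt N11510 (iv F37913)) (tt N10266 F37851) (tt N11646 (iv F38410)) (tt N11507 (iv F37902)) (tt N10258 (iv D11586)) (tt N12273 (iv F40960)) (tt N10283 F37852) (tt N12073 (iv F40080)))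
theorem Q11491 : ∀ i, i < 11491 → P i := stepQ 11490 Q11490 (allL N11490 (tt N12116 (iv F40260)) (tt N10267 F37853) (tt N10259 (iv D11587)) (tt N12275 D12372) (tt N10263 F37854) (tt N11454 F37855) (tt N11137 F37856) (tt N10337 (iv F37857)))
theorem Q11492 : ∀ i, i < 11492 → P i := stepQ 11491 Q11491 (allL N11491 (tt N12117 (iv F40267)) (tt N10260 F37858) (tt N10337 F37859) (tt N12276 D12373) (tt N10264 F37860) (tt N11463 F37861) (tt N11138 F37862) (tt N10259 (iv D11588)))
theorem Q11493 : ∀ i, i < 11493 → P i := stepQ 11492 Q11492 (allL N11492 (tt N11363 F37863) (tt N12276 (iv F40971)) (tt N11413 F37864) (tt N10260 (iv D11589)) (tt N12277 D12374) (tt N10261 F37865) (tt N12145 (iv F40409)) (tt N11801 (iv F38986)))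
theorem Q11494 : ∀ i, i < 11494 → P i := stepQ 11493 Q11493 (allL N11493 (tt N11365 F37866) (tt N11507 (iv F37900)) (tt N11414 F37867) (tt N10266 F37868) (tt N10261 (iv D11590)) (tt N12277 (iv F40979)) (tt N10287 F37869) (tt N11802 (iv F38990)))
theorem Q11495 : ∀ i, i < 11495 → P i := stepQ 11494 Q11494 (allL N11494 (tt N10263 F37870) (tt N10354 F37871) (tt N10262 (iv D11591)) (tt N12249 (iv F40857)) (tt N12116 (iv F40262)) (tt N11562 F38092) (tt N11564 (iv F38101)) (tt N10338 (iv F37872)))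
theorem Q11496 : ∀ i, i < 11496 → P i := stepQ 11495 Q11495 (allL N11495 (tt N10264 F37873) (tt N11774 (iv F38888)) (tt N10338 F37874) (tt N12243 (iv F40829)) (tt N12117 (iv F40270)) (tt N12076 (iv F40091)) (tt N12149 (iv F40431)) (tt N10262 (iv D11592)))
theorem Q11497 : ∀ i, i < 11497 → P i := stepQ 11496 Q11496 (allL N11496 (tt N12249 (iv F40854)) (tt N10268 F37875) (tt N12252 (iv F40869)) (tt N10263 (iv D11593)) (tt N12278 D12375) (tt N11873 (iv F39249)) (tt N12265 (iv F40928)) (tt N12227 (iv F40776)))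
theorem Q11498 : ∀ i, i < 11498 → P i := stepQ 11497 Q11497 (allL N11497 (tt N12243 (iv F40828)) (tt N10265 F37876) (tt N12228 (iv F40779)) (tt N10264 (iv D11594)) (tt N12279 D12376) (tt N12272 (iv F40958)) (tt N12150 (iv F40436)) (tt N12253 (iv F40876)))
theorem Q11499 : ∀ i, i < 11499 → P i := stepQ 11498 Q11498 (allL N11498 (tt N12206 (iv F40673)) (tt N12279 (iv F40981)) (tt N12211 (iv F40696)) (tt N12277 (iv F40978)) (tt N10265 (iv D11595)) (tt N10266 F37877) (tt N12151 (iv F40439)) (tt N12254 (iv F40880)))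
theorem Q11500 : ∀ i, i < 11500 → P i := stepQ 11499 Q11499 (allL N11499 (tt N10347 F37878) (tt N12275 (iv F40965)) (tt N11369 F37879) (tt N10267 (iv D11596)) (tt N12280 D12377) (tt N10295 F37880) (tt N12266 (iv F40934)) (tt N12246 (iv F40846)))
theorem Q11501 : ∀ i, i < 11501 → P i := stepQ 11500 Q11500 (allL N11500 (tt N10357 F37881) (tt N12278 (iv F40980)) (tt N10271 F37882) (tt N12280 (iv F40984)) (tt N10268 (iv D11597)) (tt N10296 F37883) (tt N12267 (iv F40939)) (tt N12226 (iv F40771)))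
theorem Q11502 : ∀ i, i < 11502 → P i := stepQ 11501 Q11501 (allL N11501 (tt N12217 (iv F40726)) (tt N10270 F37884) (tt N12281 D12378) (tt N10269 (iv D11598)) (tt N12282 D12379) (tt N10874 F37885) (tt N10351 F37886) (tt N12283 D12380))
theorem Q11503 : ∀ i, i < 11503 → P i := stepQ 11502 Q11502 (allL N11502 (tt N10271 F37887) (tt N12282 (iv F40992)) (tt N10357 F37888) (tt N12262 (iv F40912)) (tt N10270 (iv D11599)) (tt N10297 F37889) (tt N12269 (iv F40948)) (tt N12284 D12381))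
theorem Q11504 : ∀ i, i < 11504 → P i := stepQ 11503 Q11503 (allL N11503 (tt N10272 F37890) (tt N12283 (iv F40996)) (tt N10351 F37891) (tt N12037 (iv F39893)) (tt N12284 (iv F41003)) (tt N10298 F37892) (tt N12281 (iv F40990)) (tt N10270 (iv D11600)))
theorem Q11505 : ∀ i, i < 11505 → P i := stepQ 11504 Q11504 (allL N11504 (tt N12284 (iv F41001)) (tt N12259 (iv F40898)) (tt N12226 (iv F40768)) (tt N12285 D12382) (tt N10272 F37893) (tt N10299 F37894) (tt N12286 D12383) (tt N10271 (iv D11601)))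
theorem Q11506 : ∀ i, i < 11506 → P i := stepQ 11505 Q11505 (allL N11505 (tt N12281 (iv F40986)) (tt N10324 F37895) (tt N12217 (iv F40728)) (tt N11674 (iv F38517)) (tt N12286 (iv F41007)) (tt N11997 (iv F39718)) (tt N10272 (iv D11602)) (tt N12271 (iv F40956)))
theorem Q11507 : ∀ i, i < 11507 → P i := stepQ 11506 Q11506 (allL N11506 (tt N10280 F37896) (tt N12255 (iv F40882)) (tt N10329 F37897) (tt N10275 (iv D11603)) (tt N12287 D12384) (tt N10276 F37898) (tt N12253 (iv F40875)) (tt N12118 (iv F40278)))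
theorem Q11508 : ∀ i, i < 11508 → P i := stepQ 11507 Q11507 (allL N11507 (tt N10283 F37899) (tt N11493 F37900) (tt N10332 F37901) (tt N11489 F37902) (tt N10276 (iv D11604)) (tt N12287 (iv F41011)) (tt N11510 (iv F37917)) (tt N12120 (iv F40289)))
theorem Q11509 : ∀ i, i < 11509 → P i := stepQ 11508 Q11508 (allL N11508 (tt N11487 F37903) (tt N12131 (iv F40341)) (tt N10871 F37904) (tt N10277 (iv D11605)) (tt N12288 D12385) (tt N10278 F37905) (tt N12289 D12386) (tt N11094 F37906))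
theorem Q11510 : ∀ i, i < 11510 → P i := stepQ 11509 Q11509 (allL N11509 (tt N11488 F37907) (tt N11088 F37908) (tt N10307 F37909) (tt N12289 (iv F41020)) (tt N10281 F37910) (tt N11461 F37911) (tt N10277 (iv D11606)) (tt N11085 F37912))
theorem Q11511 : ∀ i, i < 11511 → P i := stepQ 11510 Q11510 (allL N11510 (tt N11489 F37913) (tt N10287 F37914) (tt N10873 F37915) (tt N10283 F37916) (tt N10278 (iv D11607)) (tt N12288 (iv F41015)) (tt N11507 F37917) (tt N11096 F37918))
theorem Q11512 : ∀ i, i < 11512 → P i := stepQ 11511 Q11511 (allL N11511 (tt N10329 F37919) (tt N12245 (iv F40837)) (tt N10280 (iv D11608)) (tt N10303 F37920) (tt N12290 D12387) (tt N10282 F37921) (tt N12244 (iv F40835)) (tt N12121 (iv F40294)))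
theorem Q11513 : ∀ i, i < 11513 → P i := stepQ 11512 Q11512 (allL N11512 (tt N12287 (iv F41008)) (tt N12133 (iv F40349)) (tt N12290 (iv F41024)) (tt N12288 (iv F41014)) (tt N10280 (iv D11609)) (tt N10283 F37922) (tt N12291 D12388) (tt N12122 (iv F40297)))
theorem Q11514 : ∀ i, i < 11514 → P i := stepQ 11513 Q11513 (allL N11513 (tt N12253 (iv F40872)) (tt N12132 (iv F40346)) (tt N12244 (iv F40833)) (tt N10281 F37923) (tt N12291 (iv F41027)) (tt N12274 (iv F40963)) (tt N10280 (iv D11610)) (tt N12243 F40830))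
theorem Q11515 : ∀ i, i < 11515 → P i := stepQ 11514 Q11514 (allL N11514 (tt N10332 F37924) (tt N11523 (iv F37959)) (tt N10283 F37925) (tt N10768 F37926) (tt N10282 (iv D11611)) (tt N12290 (iv F41026)) (tt N11646 (iv F38412)) (tt N12124 (iv F40305)))
theorem Q11516 : ∀ i, i < 11516 → P i := stepQ 11515 Q11515 (allL N11515 (tt N11923 (iv F39433)) (tt N11096 F37927) (tt N11927 (iv F39449)) (tt N12125 (iv F40308)) (tt N10285 (iv D11612)) (tt N12148 (iv F40426)) (tt N11277 F37928) (tt N10287 F37929))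
theorem Q11517 : ∀ i, i < 11517 → P i := stepQ 11516 Q11516 (allL N11516 (tt N11899 (iv F39323)) (tt N10902 F37930) (tt N10287 F37931) (tt N11614 (iv F38284)) (tt N10286 (iv D11613)) (tt N12144 (iv F40403)) (tt N11414 F37932) (tt N11927 (iv F39450)))
theorem Q11518 : ∀ i, i < 11518 → P i := stepQ 11517 Q11517 (allL N11517 (tt N11619 (iv F38305)) (tt N10630 F37933) (tt N10290 F37934) (tt N11376 F37935) (tt N10288 (iv D11614)) (tt N12261 (iv F40908)) (tt N10603 F37936) (tt N10321 F37937))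
theorem Q11519 : ∀ i, i < 11519 → P i := stepQ 11518 Q11518 (allL N11518 (tt N10290 F37938) (tt N10906 F37939) (tt N11619 (iv F38307)) (tt N10297 F37940) (tt N10289 (iv D11615)) (tt N12262 (iv F40913)) (tt N10536 F37941) (tt N10909 F37942))
theorem Q11520 : ∀ i, i < 11520 → P i := stepQ 11519 Q11519 (allL N11519 (tt N10909 F37943) (tt N10435 F37944) (tt N10321 F37945) (tt N12292 D12389) (tt N10291 F37946) (tt N12263 (iv F40918)) (tt N10462 F37947) (tt N10290 (iv D11616)))
theorem Q11521 : ∀ i, i < 11521 → P i := stepQ 11520 Q11520 (allL N11520 (tt N11529 (iv F37978)) (tt N11867 (iv F39238)) (tt N11561 (iv F38085)) (tt N10292 (iv D11617)) (tt N12293 D12390) (tt N10293 F37948) (tt N12294 D12391) (tt N10439 F37949))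
theorem Q11522 : ∀ i, i < 11522 → P i := stepQ 11521 Q11521 (allL N11521 (tt N11530 (iv F37982)) (tt N10315 F37950) (tt N11456 F37951) (tt N12294 (iv F41037)) (tt N11460 F37952) (tt N10310 F37953) (tt N10292 (iv D11618)) (tt N10294 F37954))
theorem Q11523 : ∀ i, i < 11523 → P i := stepQ 11522 Q11522 (allL N11522 (tt N11531 (iv F37988)) (tt N10610 F37955) (tt N11563 (iv F38094)) (tt N11528 (iv F37976)) (tt N10293 (iv D11619)) (tt N12293 (iv F41034)) (tt N10312 F37956) (tt N10440 F37957))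
theorem Q11524 : ∀ i, i < 11524 → P i := stepQ 11523 Q11523 (allL N11523 (tt N10349 F37958) (tt N11514 F37959) (tt N11376 F37960) (tt N10296 F37961) (tt N10295 (iv D11620)) (tt N12280 (iv F40985)) (tt N10488 F37962) (tt N12242 (iv F40827)))
theorem Q11525 : ∀ i, i < 11525 → P i := stepQ 11524 Q11524 (allL N11524 (tt N10299 F37963) (tt N11881 (iv F39279)) (tt N10352 F37964) (tt N12295 D12392) (tt N10298 F37965) (tt N12284 (iv F41004)) (tt N12202 (iv F40659)) (tt N10297 (iv D11621)))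
theorem Q11526 : ∀ i, i < 11526 → P i := stepQ 11525 Q11525 (allL N11525 (tt N12295 (iv F41039)) (tt N10441 F37966) (tt N12238 (iv F40812)) (tt N10299 (iv D11622)) (tt N12038 (iv F39899)) (tt N12285 (iv F41005)) (tt N12225 (iv F40766)) (tt N12292 (iv F41033)))
theorem Q11527 : ∀ i, i < 11527 → P i := stepQ 11526 Q11526 (allL N11526 (tt N10309 F37967) (tt N12247 (iv F40848)) (tt N12265 (iv F40926)) (tt N10301 (iv D11623)) (tt N12296 D12393) (tt N10302 F37968) (tt N12252 (iv F40870)) (tt N10317 F37969))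
theorem Q11528 : ∀ i, i < 11528 → P i := stepQ 11527 Q11527 (allL N11527 (tt N10311 F37970) (tt N11316 F37971) (tt N10302 (iv D11624)) (tt N11135 F37972) (tt N12297 D12394) (tt N12265 (iv F40927)) (tt N11450 F37973) (tt N10318 F37974))
theorem Q11529 : ∀ i, i < 11529 → P i := stepQ 11528 Q11528 (allL N11528 (tt N10312 F37975) (tt N11736 (iv F38759)) (tt N12297 (iv F41051)) (tt N11522 F37976) (tt N10302 (iv D11625)) (tt N12296 (iv F41047)) (tt N11531 (iv F37991)) (tt N10319 F37977))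
theorem Q11530 : ∀ i, i < 11530 → P i := stepQ 11529 Q11529 (allL N11529 (tt N11520 F37978) (tt N10753 F37979) (tt N12246 (iv F40843)) (tt N10305 (iv D11626)) (tt N12298 D12395) (tt N10306 F37980) (tt N12299 D12396) (tt N11369 F37981))
theorem Q11531 : ∀ i, i < 11531 → P i := stepQ 11530 Q11530 (allL N11530 (tt N11521 F37982) (tt N10313 F37983) (tt N11085 F37984) (tt N12299 (iv F41063)) (tt N10310 F37985) (tt N11460 F37986) (tt N10305 (iv D11627)) (tt N10307 F37987))
theorem Q11532 : ∀ i, i < 11532 → P i := stepQ 11531 Q11531 (allL N11531 (tt N11522 F37988) (tt N10618 F37989) (tt N12242 (iv F40825)) (tt N10312 F37990) (tt N10306 (iv D11628)) (tt N12298 (iv F41058)) (tt N11528 F37991) (tt N11376 F37992))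
theorem Q11533 : ∀ i, i < 11533 → P i := stepQ 11532 Q11532 (allL N11532 (tt N10326 F37993) (tt N10309 F37994) (tt N12258 (iv F40894)) (tt N10308 (iv D11629)) (tt N12300 D12397) (tt N10459 F37995) (tt N10317 F37996) (tt N10322 F37997))
theorem Q11534 : ∀ i, i < 11534 → P i := stepQ 11533 Q11533 (allL N11533 (tt N12265 (iv F40924)) (tt N12271 (iv F40954)) (tt N10309 (iv D11630)) (tt N11564 (iv F38099)) (tt N12301 D12398) (tt N10311 F37998) (tt N12249 (iv F40858)) (tt N10324 F37999))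
theorem Q11535 : ∀ i, i < 11535 → P i := stepQ 11534 Q11534 (allL N11534 (tt N12296 (iv F41045)) (tt N12300 (iv F41067)) (tt N12301 (iv F41072)) (tt N12298 (iv F41057)) (tt N10309 (iv D11631)) (tt N10312 F38000) (tt N12302 D12399) (tt N10325 F38001))
theorem Q11536 : ∀ i, i < 11536 → P i := stepQ 11535 Q11535 (allL N11535 (tt N12252 (iv F40867)) (tt N10317 F38002) (tt N12249 (iv F40856)) (tt N10310 F38003) (tt N12302 (iv F41076)) (tt N12294 (iv F41038)) (tt N10309 (iv D11632)) (tt N12247 (iv F40851)))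
theorem Q11537 : ∀ i, i < 11537 → P i := stepQ 11536 Q11536 (allL N11536 (tt N12297 (iv F41049)) (tt N11763 (iv F38846)) (tt N10312 F38004) (tt N12169 (iv F40523)) (tt N10311 (iv D11633)) (tt N12301 (iv F41073)) (tt N11563 (iv F38095)) (tt N10327 F38005))
theorem Q11538 : ∀ i, i < 11538 → P i := stepQ 11537 Q11537 (allL N11537 (tt N10320 F38006) (tt N12299 (iv F41061)) (tt N10880 F38007) (tt N10313 (iv D11634)) (tt N12303 D12400) (tt N10314 F38008) (tt N10753 F38009) (tt N11618 (iv F38304)))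
theorem Q11539 : ∀ i, i < 11539 → P i := stepQ 11538 Q11538 (allL N11538 (tt N10321 F38010) (tt N11601 (iv F38237)) (tt N10909 F38011) (tt N10319 F38012) (tt N10314 (iv D11635)) (tt N12303 (iv F41080)) (tt N10451 F38013) (tt N11619 (iv F38310)))
theorem Q11540 : ∀ i, i < 11540 → P i := stepQ 11539 Q11539 (allL N11539 (tt N10624 F38014) (tt N12294 (iv F41036)) (tt N12098 (iv F40170)) (tt N10315 (iv D11636)) (tt N12304 D12401) (tt N10316 F38015) (tt N11867 (iv F39240)) (tt N11735 (iv F38758)))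
theorem Q11541 : ∀ i, i < 11541 → P i := stepQ 11540 Q11540 (allL N11540 (tt N10626 F38016) (tt N10319 F38017) (tt N12099 (iv F40175)) (tt N11601 (iv F38239)) (tt N10316 (iv D11637)) (tt N12304 (iv F41084)) (tt N10455 F38018) (tt N11736 (iv F38763)))
theorem Q11542 : ∀ i, i < 11542 → P i := stepQ 11541 Q11541 (allL N11541 (tt N10324 F38019) (tt N12268 (iv F40941)) (tt N10317 (iv D11638)) (tt N11654 (iv F38445)) (tt N12305 D12402) (tt N10318 F38020) (tt N12258 (iv F40897)) (tt N12265 (iv F40929)))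
theorem Q11543 : ∀ i, i < 11543 → P i := stepQ 11542 Q11542 (allL N11542 (tt N10325 F38021) (tt N12302 (iv F41075)) (tt N12305 (iv F41086)) (tt N12303 (iv F41079)) (tt N10317 (iv D11639)) (tt N10319 F38022) (tt N12300 (iv F41070)) (tt N12296 (iv F41048)))
theorem Q11544 : ∀ i, i < 11544 → P i := stepQ 11543 Q11543 (allL N11543 (tt N10327 F38023) (tt N12183 (iv F40579)) (tt N10319 F38024) (tt N12306 D12403) (tt N10318 (iv D11640)) (tt N12305 (iv F41087)) (tt N10461 F38025) (tt N12297 (iv F41054)))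
theorem Q11545 : ∀ i, i < 11545 → P i := stepQ 11544 Q11544 (allL N11544 (tt N12303 (iv F41077)) (tt N11750 (iv F38810)) (tt N12263 (iv F40916)) (tt N10325 F38026) (tt N10320 (iv D11641)) (tt N10321 F38027) (tt N10762 F38028) (tt N12261 (iv F40909)))
theorem Q11546 : ∀ i, i < 11546 → P i := stepQ 11545 Q11545 (allL N11545 (tt N12256 (iv F40886)) (tt N10325 F38029) (tt N12257 (iv F40891)) (tt N11750 (iv F38811)) (tt N10322 (iv D11642)) (tt N10632 F38030) (tt N12307 D12404) (tt N12300 (iv F41071)))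
theorem Q11547 : ∀ i, i < 11547 → P i := stepQ 11546 Q11546 (allL N11546 (tt N12247 (iv F40847)) (tt N10326 F38031) (tt N12227 (iv F40773)) (tt N10323 F38032) (tt N12307 (iv F41095)) (tt N11911 (iv F39384)) (tt N10322 (iv D11643)) (tt N12252 (iv F40871)))
theorem Q11548 : ∀ i, i < 11548 → P i := stepQ 11547 Q11547 (allL N11547 (tt N12305 (iv F41085)) (tt N12286 (iv F41006)) (tt N10325 F38033) (tt N12308 D12405) (tt N10324 (iv D11644)) (tt N10327 F38034) (tt N12259 F40902) (tt N12301 (iv F41074)))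
theorem Q11549 : ∀ i, i < 11549 → P i := stepQ 11548 Q11548 (allL N11548 (tt N12300 (iv F41066)) (tt N12307 (iv F41093)) (tt N12259 (iv F40899)) (tt N10762 F38035) (tt N10326 F38036) (tt N10464 F38037) (tt N10325 (iv D11645)) (tt N12256 (iv F40889)))
theorem Q11550 : ∀ i, i < 11550 → P i := stepQ 11549 Q11549 (allL N11549 (tt N12306 (iv F41088)) (tt N11991 (iv F39693)) (tt N12292 (iv F41030)) (tt N10327 (iv D11646)) (tt N11671 (iv F38507)) (tt N12308 (iv F41096)) (tt N10465 F38038) (tt N12238 (iv F40815)))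
theorem Q11551 : ∀ i, i < 11551 → P i := stepQ 11550 Q11550 (allL N11550 (tt N12121 (iv F40290)) (tt N10761 F38039) (tt N12118 (iv F40276)) (tt N10328 (iv D11647)) (tt N12309 D12406) (tt N10331 F38040) (tt N12230 (iv F40789)) (tt N10329 F38041))
theorem Q11552 : ∀ i, i < 11552 → P i := stepQ 11551 Q11551 (allL N11551 (tt N10474 F38042) (tt N10878 F38043) (tt N10597 F38044) (tt N12230 (iv F40787)) (tt N11105 F38045) (tt N10493 F38046) (tt N10328 (iv D11648)) (tt N10472 F38047))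
theorem Q11553 : ∀ i, i < 11553 → P i := stepQ 11552 Q11552 (allL N11552 (tt N12290 (iv F41023)) (tt N12137 (iv F40371)) (tt N12287 (iv F41009)) (tt N10766 F38048) (tt N10329 (iv D11649)) (tt N10332 F38049) (tt N12310 D12407) (tt N12309 (iv F41100)))
theorem Q11554 : ∀ i, i < 11554 → P i := stepQ 11553 Q11553 (allL N11553 (tt N12244 (iv F40831)) (tt N11842 (iv F39134)) (tt N12253 (iv F40874)) (tt N10330 F38050) (tt N12310 (iv F41102)) (tt N11963 (iv F39578)) (tt N10329 (iv D11650)) (tt N12228 (iv F40781)))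
theorem Q11555 : ∀ i, i < 11555 → P i := stepQ 11554 Q11554 (allL N11554 (tt N12124 (iv F40302)) (tt N10334 F38051) (tt N12120 (iv F40287)) (tt N11106 F38052) (tt N10331 (iv D11651)) (tt N12309 (iv F41099)) (tt N11322 F38053) (tt N10332 F38054))
theorem Q11556 : ∀ i, i < 11556 → P i := stepQ 11555 Q11555 (allL N11555 (tt N10698 F38055) (tt N11106 F38056) (tt N10701 F38057) (tt N10334 F38058) (tt N10333 (iv D11652)) (tt N10740 F38059) (tt N11283 F38060) (tt N10771 F38061))
theorem Q11557 : ∀ i, i < 11557 → P i := stepQ 11556 Q11556 (allL N11556 (tt N11763 (iv F38845)) (tt N11322 F38062) (tt N11768 (iv F38871)) (tt N11283 F38063) (tt N10335 F38064) (tt N12005 (iv F39757)) (tt N10334 (iv D11653)) (tt N11977 (iv F39633)))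
theorem Q11558 : ∀ i, i < 11558 → P i := stepQ 11557 Q11557 (allL N11557 (tt N10336 (iv D11654)) (tt N10643 F38065) (tt N12076 (iv F40088)) (tt N12056 (iv F40002)) (tt N11214 F38066) (tt N10338 F38067) (tt N11243 F38068) (tt N11562 (iv F38091)))
theorem Q11559 : ∀ i, i < 11559 → P i := stepQ 11558 Q11558 (allL N11558 (tt N10337 (iv D11655)) (tt N10345 F38069) (tt N12117 (iv F40269)) (tt N10759 F38070) (tt N10338 F38071) (tt N11214 F38072) (tt N11048 F38073) (tt N12116 F40266))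
theorem Q11560 : ∀ i, i < 11560 → P i := stepQ 11559 Q11559 (allL N11559 (tt N11205 F38074) (tt N11005 F38075) (tt N10339 (iv D11656)) (tt N10835 F38076) (tt N11008 F38077) (tt N10359 F38078) (tt N12090 (iv F40139)) (tt N10425 F38079))
theorem Q11561 : ∀ i, i < 11561 → P i := stepQ 11560 Q11560 (allL N11560 (tt N11208 F38080) (tt N11249 F38081) (tt N12090 (iv F40135)) (tt N10340 F38082) (tt N12050 (iv F39968)) (tt N11560 F38083) (tt N10339 (iv D11657)) (tt N11917 (iv F39415)))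
theorem Q11562 : ∀ i, i < 11562 → P i := stepQ 11561 Q11561 (allL N11561 (tt N12246 (iv F40841)) (tt N11413 F38084) (tt N11520 F38085) (tt N10341 (iv D11658)) (tt N12311 D12408) (tt N10342 F38086) (tt N12312 D12409) (tt N10347 F38087))
theorem Q11563 : ∀ i, i < 11563 → P i := stepQ 11562 Q11562 (allL N11562 (tt N10764 F38088) (tt N10714 F38089) (tt N11097 F38090) (tt N12312 (iv F41110)) (tt N11799 (iv F38976)) (tt N11494 (iv F38092)) (tt N10341 (iv D11659)) (tt N11557 F38091))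
theorem Q11564 : ∀ i, i < 11564 → P i := stepQ 11563 Q11563 (allL N11563 (tt N12242 (iv F40823)) (tt N10646 F38093) (tt N11522 F38094) (tt N11804 (iv F38997)) (tt N10342 (iv D11660)) (tt N12311 (iv F41105)) (tt N11536 F38095) (tt N10349 F38096))
theorem Q11565 : ∀ i, i < 11565 → P i := stepQ 11564 Q11564 (allL N11564 (tt N11479 F38097) (tt N11571 (iv F38123)) (tt N11098 F38098) (tt N11533 F38099) (tt N11291 F38100) (tt N10343 (iv D11661)) (tt N11494 F38101) (tt N10344 F38102))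
theorem Q11566 : ∀ i, i < 11566 → P i := stepQ 11565 Q11565 (allL N11565 (tt N11256 F38103) (tt N10344 (iv D11662)) (tt N12313 D12410) (tt N10507 F38104) (tt N12046 (iv F39946)) (tt N10649 F38105) (tt N11253 F38106) (tt N11571 (iv F38124)))
theorem Q11567 : ∀ i, i < 11567 → P i := stepQ 11566 Q11566 (allL N11566 (tt N12128 (iv F40324)) (tt N10347 F38107) (tt N11801 (iv F38984)) (tt N10346 (iv D11663)) (tt N12314 D12411) (tt N10650 F38108) (tt N11778 (iv F38902)) (tt N11413 F38109))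
theorem Q11568 : ∀ i, i < 11568 → P i := stepQ 11567 Q11567 (allL N11567 (tt N12127 (iv F40318)) (tt N10348 F38110) (tt N11226 F38111) (tt N11778 (iv F38900)) (tt N10356 F38112) (tt N11185 F38113) (tt N10346 (iv D11664)) (tt N11154 F38114))
theorem Q11569 : ∀ i, i < 11569 → P i := stepQ 11568 Q11568 (allL N11568 (tt N12280 (iv F40982)) (tt N12314 (iv F41120)) (tt N11620 (iv F38311)) (tt N10357 F38115) (tt N10347 (iv D11665)) (tt N10349 F38116) (tt N12315 D12412) (tt N12311 (iv F41106)))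
theorem Q11570 : ∀ i, i < 11570 → P i := stepQ 11569 Q11569 (allL N11569 (tt N12266 (iv F40930)) (tt N11778 (iv F38899)) (tt N10816 F38117) (tt N10348 F38118) (tt N12315 (iv F41126)) (tt N10512 F38119) (tt N10347 (iv D11666)) (tt N11599 (iv F38233)))
theorem Q11571 : ∀ i, i < 11571 → P i := stepQ 11570 Q11570 (allL N11570 (tt N12226 (iv F40767)) (tt N12269 (iv F40945)) (tt N12284 (iv F41002)) (tt N12205 (iv F40670)) (tt N10351 (iv D11667)) (tt N10352 F38120) (tt N12282 (iv F40995)) (tt N10357 F38121))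
theorem Q11572 : ∀ i, i < 11572 → P i := stepQ 11571 Q11571 (allL N11571 (tt N10356 F38122) (tt N11564 F38123) (tt N12025 (iv F39843)) (tt N12271 (iv F40955)) (tt N12127 (iv F40320)) (tt N11765 (iv F38859)) (tt N10354 (iv D11668)) (tt N11565 F38124))
theorem Q11573 : ∀ i, i < 11573 → P i := stepQ 11572 Q11572 (allL N11572 (tt N12268 (iv F40940)) (tt N12281 (iv F40987)) (tt N10355 (iv D11669)) (tt N12026 (iv F39848)) (tt N12316 D12413) (tt N10534 F38125) (tt N12283 (iv F41000)) (tt N10358 F38126))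
theorem Q11574 : ∀ i, i < 11574 → P i := stepQ 11573 Q11573 (allL N11573 (tt N12270 (iv F40950)) (tt N10357 F38127) (tt N12316 (iv F41128)) (tt N12314 (iv F41121)) (tt N10355 (iv D11670)) (tt N10658 F38128) (tt N12317 D12414) (tt N12269 (iv F40949)))
theorem Q11575 : ∀ i, i < 11575 → P i := stepQ 11574 Q11574 (allL N11574 (tt N12271 (iv F40953)) (tt N10358 F38129) (tt N12283 (iv F40997)) (tt N10356 F38130) (tt N12317 (iv F41132)) (tt N12318 D12415) (tt N10355 (iv D11671)) (tt N12281 F40991))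
theorem Q11576 : ∀ i, i < 11576 → P i := stepQ 11575 Q11575 (allL N11575 (tt N11765 (iv F38856)) (tt N10529 F38131) (tt N11408 F38132) (tt N12318 (iv F41135)) (tt N11185 F38133) (tt N10356 (iv D11672)) (tt N10660 F38134) (tt N11184 F38135))
theorem Q11577 : ∀ i, i < 11577 → P i := stepQ 11576 Q11576 (allL N11576 (tt N12267 (iv F40936)) (tt N12317 (iv F41131)) (tt N12269 (iv F40946)) (tt N12315 (iv F41125)) (tt N10358 F38136) (tt N10533 F38137) (tt N10357 (iv D11673)) (tt N12316 (iv F41130)))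
theorem Q11578 : ∀ i, i < 11578 → P i := stepQ 11577 Q11577 (allL N11577 (tt N10830 F38138) (tt N11003 F38139) (tt N10362 F38140) (tt N10793 F38141) (tt N10377 F38142) (tt N10361 (iv D11674)) (tt N10794 F38143) (tt N11471 F38144))
theorem Q11579 : ∀ i, i < 11579 → P i := stepQ 11578 Q11578 (allL N11578 (tt N11384 F38145) (tt N12200 (iv F40645)) (tt N10363 (iv D11675)) (tt N10371 F38146) (tt N12232 (iv F40796)) (tt N11345 F38147) (tt N11964 (iv F39581)) (tt N11692 (iv F38590)))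
theorem Q11580 : ∀ i, i < 11580 → P i := stepQ 11579 Q11579 (allL N11579 (tt N11385 F38148) (tt N11986 (iv F39670)) (tt N12232 (iv F40795)) (tt N10368 F38149) (tt N10363 (iv D11676)) (tt N11346 F38150) (tt N11965 (iv F39584)) (tt N11693 (iv F38592)))
theorem Q11581 : ∀ i, i < 11581 → P i := stepQ 11580 Q11580 (allL N11580 (tt N11390 F38151) (tt N12052 (iv F39977)) (tt N10366 F38152) (tt N10377 F38153) (tt N11592 (iv F38206)) (tt N10365 (iv D11677)) (tt N11953 (iv F39543)) (tt N11257 F38154))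
theorem Q11582 : ∀ i, i < 11582 → P i := stepQ 11581 Q11581 (allL N11581 (tt N11016 F38155) (tt N10366 (iv D11678)) (tt N11383 (iv F38160)) (tt N10367 F38156) (tt N11593 (iv F38210)) (tt N11581 F38157) (tt N11014 F38158) (tt N11255 F38159))
theorem Q11583 : ∀ i, i < 11583 → P i := stepQ 11582 Q11582 (allL N11582 (tt N11024 F38161) (tt N10380 F38162) (tt N11917 (iv F39412)) (tt N10370 (iv D11679)) (tt N11380 F38163) (tt N11582 F38164) (tt N11021 F38165) (tt N12090 (iv F40140)))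
theorem Q11584 : ∀ i, i < 11584 → P i := stepQ 11583 Q11583 (allL N11583 (tt N11397 F38166) (tt N10987 F38167) (tt N12115 (iv F40256)) (tt N10373 F38168) (tt N10549 F38169) (tt N10372 (iv D11680)) (tt N11358 F38170) (tt N12054 (iv F39993)))
theorem Q11585 : ∀ i, i < 11585 → P i := stepQ 11584 Q11584 (allL N11584 (tt N10832 F38171) (tt N12224 (iv F40756)) (tt N10375 F38172) (tt N11953 (iv F39541)) (tt N10794 F38173) (tt N10374 (iv D11681)) (tt N10377 F38174) (tt N12319 D12416))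
theorem Q11586 : ∀ i, i < 11586 → P i := stepQ 11585 Q11585 (allL N11585 (tt N10833 F38175) (tt N11585 F38176) (tt N10376 F38177) (tt N12126 (iv F40314)) (tt N10795 F38178) (tt N12319 (iv F41143)) (tt N11585 F38179) (tt N10374 (iv D11682)))
theorem Q11587 : ∀ i, i < 11587 → P i := stepQ 11586 Q11586 (allL N11586 (tt N11398 F38180) (tt N12044 (iv F39930)) (tt N12319 (iv F41140)) (tt N12054 (iv F39990)) (tt N11651 (iv F38432)) (tt N10376 F38181) (tt N12034 (iv F39882)) (tt N10375 (iv D11683)))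
theorem Q11588 : ∀ i, i < 11588 → P i := stepQ 11587 Q11587 (allL N11587 (tt N11382 (iv F38186)) (tt N10377 (iv D11684)) (tt N11015 F38182) (tt N12052 (iv F39979)) (tt N11003 F38183) (tt N11002 F38184) (tt N12224 (iv F40760)) (tt N11470 F38185))
theorem Q11589 : ∀ i, i < 11589 → P i := stepQ 11588 Q11588 (allL N11588 (tt N10391 F38187) (tt N12023 (iv F39831)) (tt N10386 (iv D11685)) (tt N12181 (iv F40569)) (tt N12140 (iv F40387)) (tt N10387 F38188) (tt N11222 F38189) (tt N11315 F38190))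
theorem Q11590 : ∀ i, i < 11590 → P i := stepQ 11589 Q11589 (allL N11589 (tt N10394 F38191) (tt N11117 F38192) (tt N10388 F38193) (tt N12320 D12417) (tt N10387 (iv D11686)) (tt N12140 (iv F40388)) (tt N11389 F38194) (tt N11110 F38195))
theorem Q11591 : ∀ i, i < 11591 → P i := stepQ 11590 Q11590 (allL N11590 (tt N12140 (iv F40385)) (tt N10978 F38196) (tt N10392 F38197) (tt N11687 (iv F38571)) (tt N10391 (iv D11687)) (tt N10394 F38198) (tt N10983 F38199) (tt N11319 F38200))
theorem Q11592 : ∀ i, i < 11592 → P i := stepQ 11591 Q11591 (allL N11591 (tt N12320 (iv F41145)) (tt N11972 (iv F39605)) (tt N11771 (iv F38881)) (tt N10394 (iv D11688)) (tt N12187 (iv F40592)) (tt N11687 (iv F38572)) (tt N11956 (iv F39554)) (tt N11323 F38201))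
theorem Q11593 : ∀ i, i < 11593 → P i := stepQ 11592 Q11592 (allL N11592 (tt N10815 F38202) (tt N11367 F38203) (tt N10403 F38204) (tt N10797 F38205) (tt N11580 F38206) (tt N10401 (iv D11689)) (tt N10862 F38207) (tt N12146 (iv F40417)))
theorem Q11594 : ∀ i, i < 11594 → P i := stepQ 11593 Q11593 (allL N11593 (tt N11420 F38208) (tt N10403 (iv D11690)) (tt N12214 (iv F40714)) (tt N10803 F38209) (tt N11581 F38210) (tt N11593 F38211) (tt N10866 F38212) (tt N11159 F38213))
theorem Q11595 : ∀ i, i < 11595 → P i := stepQ 11594 Q11594 (allL N11594 (tt N10408 F38214) (tt N11268 F38218) (tt N10407 (iv D11691)) (tt N12321 D12418) (tt N11045 F38215) (tt N12149 (iv F40430)) (tt N11242 F38216) (tt N11043 F38217))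
theorem Q11596 : ∀ i, i < 11596 → P i := stepQ 11595 Q11595 (allL N11595 (tt N12321 (iv F41150)) (tt N11305 F38219) (tt N10410 F38220) (tt N10408 (iv D11692)) (tt N12322 D12419) (tt N12150 (iv F40435)) (tt N11458 F38221) (tt N12179 (iv F40563)))
theorem Q11597 : ∀ i, i < 11597 → P i := stepQ 11596 Q11596 (allL N11596 (tt N10410 F38222) (tt N10490 F38223) (tt N12321 (iv F41152)) (tt N10409 (iv D11693)) (tt N12323 D12420) (tt N12221 (iv F40745)) (tt N12163 (iv F40498)) (tt N10495 F38224))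
theorem Q11598 : ∀ i, i < 11598 → P i := stepQ 11597 Q11597 (allL N11597 (tt N12323 (iv F41159)) (tt N10421 F38225) (tt N12322 (iv F41156)) (tt N10417 F38226) (tt N10410 (iv D11694)) (tt N12229 (iv F40784)) (tt N12164 (iv F40502)) (tt N12324 D12421))
theorem Q11599 : ∀ i, i < 11599 → P i := stepQ 11598 Q11598 (allL N11598 (tt N10495 F38227) (tt N10422 F38228) (tt N12179 (iv F40561)) (tt N10493 F38229) (tt N12324 (iv F41165)) (tt N12230 (iv F40788)) (tt N11321 F38230) (tt N10410 (iv D11695)))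
theorem Q11600 : ∀ i, i < 11600 → P i := stepQ 11599 Q11599 (allL N11599 (tt N11909 (iv F39376)) (tt N10672 F38231) (tt N11625 (iv F38332)) (tt N10412 (iv D11696)) (tt N12325 D12422) (tt N10414 F38232) (tt N12235 (iv F40803)) (tt N11569 F38233))
theorem Q11601 : ∀ i, i < 11601 → P i := stepQ 11600 Q11600 (allL N11600 (tt N11913 (iv F39391)) (tt N10423 F38234) (tt N11627 (iv F38343)) (tt N12164 (iv F40501)) (tt N10414 (iv D11697)) (tt N12325 (iv F41169)) (tt N10417 F38235) (tt N11678 (iv F38541)))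
theorem Q11602 : ∀ i, i < 11602 → P i := stepQ 11601 Q11601 (allL N11601 (tt N10632 F38236) (tt N11538 F38237) (tt N10417 F38238) (tt N11540 F38239) (tt N10415 (iv D11698)) (tt N12256 (iv F40888)) (tt N11627 (iv F38345)) (tt N10464 F38240))
theorem Q11603 : ∀ i, i < 11603 → P i := stepQ 11602 Q11602 (allL N11602 (tt N10417 F38241) (tt N12016 (iv F39803)) (tt N10632 F38242) (tt N12323 (iv F41161)) (tt N10416 (iv D11699)) (tt N12257 (iv F40892)) (tt N11913 (iv F39393)) (tt N12326 D12423))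
theorem Q11604 : ∀ i, i < 11604 → P i := stepQ 11603 Q11603 (allL N11603 (tt N10418 F38243) (tt N12011 (iv F39781)) (tt N10459 F38244) (tt N11415 F38245) (tt N12326 (iv F41173)) (tt N12258 (iv F40896)) (tt N10457 (iv F38246)) (tt N10416 (iv D11700)))
theorem Q11605 : ∀ i, i < 11605 → P i := stepQ 11604 Q11604 (allL N11604 (tt N12326 (iv F41171)) (tt N10429 F38247) (tt N10464 F38248) (tt N12327 D12424) (tt N10418 F38249) (tt N12259 (iv F40901)) (tt N10463 (iv F38250)) (tt N10417 (iv D11701)))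
theorem Q11606 : ∀ i, i < 11606 → P i := stepQ 11605 Q11605 (allL N11605 (tt N11309 F38251) (tt N10420 F38252) (tt N11305 F38253) (tt N10419 (iv D11702)) (tt N12328 D12425) (tt N11744 (iv F38790)) (tt N11783 (iv F38922)) (tt N11753 (iv F38822)))
theorem Q11607 : ∀ i, i < 11607 → P i := stepQ 11606 Q11606 (allL N11606 (tt N12004 (iv F39750)) (tt N12328 (iv F41181)) (tt N10421 F38254) (tt N11984 (iv F39661)) (tt N10420 (iv D11703)) (tt N10433 F38255) (tt N12166 (iv F40511)) (tt N12329 D12426))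
theorem Q11608 : ∀ i, i < 11608 → P i := stepQ 11607 Q11607 (allL N11607 (tt N10526 F38256) (tt N11753 (iv F38819)) (tt N10422 F38257) (tt N11607 F38258) (tt N12329 (iv F41185)) (tt N10434 F38259) (tt N11795 (iv F38967)) (tt N10420 (iv D11704)))
theorem Q11609 : ∀ i, i < 11609 → P i := stepQ 11608 Q11608 (allL N11608 (tt N10527 F38260) (tt N12324 (iv F41164)) (tt N12329 (iv F41184)) (tt N12330 D12427) (tt N10422 F38261) (tt N10435 F38262) (tt N12331 D12428) (tt N10421 (iv D11705)))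
theorem Q11610 : ∀ i, i < 11610 → P i := stepQ 11609 Q11609 (allL N11609 (tt N10528 F38263) (tt N11321 F38264) (tt N11795 (iv F38965)) (tt N10525 F38265) (tt N12331 (iv F41197)) (tt N12003 (iv F39749)) (tt N10422 (iv D11706)) (tt N11792 F38957))
theorem Q11611 : ∀ i, i < 11611 → P i := stepQ 11610 Q11610 (allL N11610 (tt N12019 (iv F39817)) (tt N11678 (iv F38537)) (tt N11925 (iv F39439)) (tt N11696 (iv F38600)) (tt N10424 F38266) (tt N10711 F38267) (tt N11677 (iv F38535)) (tt N10423 (iv D11707)))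
theorem Q11612 : ∀ i, i < 11612 → P i := stepQ 11611 Q11611 (allL N11611 (tt N11212 F38268) (tt N10425 (iv D11708)) (tt N12089 (iv F40131)) (tt N10426 F38269) (tt N11004 F38270) (tt N10427 F38271) (tt N11951 (iv F39533)) (tt N11005 F38272))
theorem Q11613 : ∀ i, i < 11613 → P i := stepQ 11612 Q11612 (allL N11612 (tt N11613 (iv F38277)) (tt N12327 (iv F41175)) (tt N10745 F38273) (tt N10429 (iv D11709)) (tt N10744 F38274) (tt N10441 F38275) (tt N10949 (iv F38276)) (tt N12330 (iv F41191)))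
theorem Q11614 : ∀ i, i < 11614 → P i := stepQ 11613 Q11613 (allL N11613 (tt N11612 F38277) (tt N10463 F38278) (tt N11701 (iv F38616)) (tt N10949 F38279) (tt N10430 F38280) (tt N10952 (iv F38281)) (tt N10429 (iv D11710)) (tt N11677 (iv F38536)))
theorem Q11615 : ∀ i, i < 11615 → P i := stepQ 11614 Q11614 (allL N11614 (tt N11747 (iv F38800)) (tt N10433 F38282) (tt N10630 F38283) (tt N11516 F38284) (tt N10432 (iv D11711)) (tt N11745 (iv F38795)) (tt N10736 F38285) (tt N10631 F38286))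
theorem Q11616 : ∀ i, i < 11616 → P i := stepQ 11615 Q11615 (allL N11615 (tt N10958 F38287) (tt N10631 F38288) (tt N10435 F38289) (tt N12332 D12429) (tt N10434 F38290) (tt N12329 (iv F41186)) (tt N10843 (iv F38291)) (tt N10433 (iv D11712)))
theorem Q11617 : ∀ i, i < 11617 → P i := stepQ 11616 Q11616 (allL N11616 (tt N10926 F38292) (tt N12292 (iv F41029)) (tt N12333 D12430) (tt N10435 (iv D11713)) (tt N10923 F38293) (tt N12330 (iv F41190)) (tt N12334 D12431) (tt N10441 F38294))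
theorem Q11618 : ∀ i, i < 11618 → P i := stepQ 11617 Q11617 (allL N11617 (tt N10959 F38295) (tt N10462 F38296) (tt N10843 F38297) (tt N12334 (iv F41209)) (tt N10436 F38298) (tt N12002 (iv F39743)) (tt N10435 (iv D11714)) (tt N10751 F38299))
theorem Q11619 : ∀ i, i < 11619 → P i := stepQ 11618 Q11618 (allL N11618 (tt N11473 F38300) (tt N11911 (iv F39382)) (tt N11474 F38301) (tt N10437 (iv D11715)) (tt N12335 D12432) (tt N10438 F38302) (tt N10839 F38303) (tt N11537 F38304))
theorem Q11620 : ∀ i, i < 11620 → P i := stepQ 11619 Q11619 (allL N11619 (tt N11517 F38305) (tt N10464 F38306) (tt N11518 F38307) (tt N10440 F38308) (tt N10438 (iv D11716)) (tt N12335 (iv F41214)) (tt N10446 F38309) (tt N11538 F38310))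
theorem Q11621 : ∀ i, i < 11621 → P i := stepQ 11620 Q11620 (allL N11620 (tt N12210 (iv F40693)) (tt N11922 (iv F39430)) (tt N11568 F38311) (tt N12335 (iv F41213)) (tt N10439 (iv D11717)) (tt N10440 F38312) (tt N11918 (iv F39418)) (tt N12293 (iv F41035)))
theorem Q11622 : ∀ i, i < 11622 → P i := stepQ 11621 Q11621 (allL N11621 (tt N12008 (iv F39766)) (tt N12336 D12433) (tt N10441 (iv D11718)) (tt N10776 F38313) (tt N10746 F38314) (tt N10745 F38315) (tt N10955 (iv F38316)) (tt N12333 (iv F41206)))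
theorem Q11623 : ∀ i, i < 11623 → P i := stepQ 11622 Q11622 (allL N11622 (tt N11623 (iv F38321)) (tt N12225 (iv F40763)) (tt N10955 F38317) (tt N10442 F38318) (tt N10954 F38319) (tt N10953 F38320) (tt N10441 (iv D11719)) (tt N11891 (iv F39308)))
theorem Q11624 : ∀ i, i < 11624 → P i := stepQ 11623 Q11623 (allL N11623 (tt N11622 F38321) (tt N11994 (iv F39704)) (tt N11987 (iv F39675)) (tt N10953 F38322) (tt N10443 F38323) (tt N10442 (iv D11720)) (tt N10952 F38324) (tt N10786 F38325))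
theorem Q11625 : ∀ i, i < 11625 → P i := stepQ 11624 Q11624 (allL N11624 (tt N10447 F38326) (tt N11906 (iv F39358)) (tt N11657 (iv F38458)) (tt N10800 F38327) (tt N10444 (iv D11721)) (tt N10445 F38328) (tt N11905 (iv F39355)) (tt N10458 F38329))
theorem Q11626 : ∀ i, i < 11626 → P i := stepQ 11625 Q11625 (allL N11625 (tt N10805 F38330) (tt N10788 F38331) (tt N11599 F38332) (tt N10448 (iv D11722)) (tt N12337 D12434) (tt N10449 F38333) (tt N12338 D12435) (tt N10816 F38334))
theorem Q11627 : ∀ i, i < 11627 → P i := stepQ 11626 Q11626 (allL N11626 (tt N10806 F38335) (tt N10607 F38336) (tt N11099 F38337) (tt N12338 (iv F41230)) (tt N10454 F38338) (tt N11452 F38339) (tt N10448 (iv D11723)) (tt N10471 F38340))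
theorem Q11628 : ∀ i, i < 11628 → P i := stepQ 11627 Q11627 (allL N11627 (tt N10808 F38341) (tt N10451 F38342) (tt N11600 F38343) (tt N10455 F38344) (tt N10449 (iv D11724)) (tt N12337 (iv F41225)) (tt N11601 F38345) (tt N10822 F38346))
theorem Q11629 : ∀ i, i < 11629 → P i := stepQ 11628 Q11628 (allL N11628 (tt N10462 F38347) (tt N10910 F38348) (tt N10451 F38349) (tt N12339 D12436) (tt N10450 (iv D11725)) (tt N10791 F38350) (tt N10909 F38351) (tt N10824 F38352))
theorem Q11630 : ∀ i, i < 11630 → P i := stepQ 11629 Q11629 (allL N11629 (tt N11730 (iv F38732)) (tt N10453 F38353) (tt N11842 (iv F39135)) (tt N10452 (iv D11726)) (tt N12340 D12437) (tt N10456 F38354) (tt N10609 F38355) (tt N11907 (iv F39368)))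
theorem Q11631 : ∀ i, i < 11631 → P i := stepQ 11630 Q11630 (allL N11630 (tt N10818 F38356) (tt N12340 (iv F41239)) (tt N12254 (iv F40878)) (tt N12337 (iv F41224)) (tt N10453 (iv D11727)) (tt N10455 F38357) (tt N12341 D12438) (tt N12211 (iv F40698)))
theorem Q11632 : ∀ i, i < 11632 → P i := stepQ 11631 Q11631 (allL N11631 (tt N10819 F38358) (tt N10609 F38359) (tt N12255 (iv F40883)) (tt N10454 F38360) (tt N12341 (iv F41245)) (tt N11867 (iv F39239)) (tt N10453 (iv D11728)) (tt N10760 (iv F38361)))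
theorem Q11633 : ∀ i, i < 11633 → P i := stepQ 11632 Q11632 (allL N11632 (tt N11731 (iv F38736)) (tt N10458 F38362) (tt N11847 (iv F39158)) (tt N10789 F38363) (tt N10456 (iv D11729)) (tt N12340 (iv F41241)) (tt N10620 F38364) (tt N11906 (iv F39362)))
theorem Q11634 : ∀ i, i < 11634 → P i := stepQ 11633 Q11633 (allL N11633 (tt N11849 (iv F39167)) (tt N10457 (iv D11730)) (tt N11845 (iv F39148)) (tt N11653 F38442) (tt N12342 D12439) (tt N12343 D12440) (tt N12011 (iv F39785)) (tt N11656 (iv F38456)))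
theorem Q11635 : ∀ i, i < 11635 → P i := stepQ 11634 Q11634 (allL N11634 (tt N10463 F38365) (tt N12342 (iv F41248)) (tt N10458 F38366) (tt N12344 D12441) (tt N10457 (iv D11731)) (tt N10461 F38367) (tt N12326 F41174) (tt N11657 (iv F38461)))
theorem Q11636 : ∀ i, i < 11636 → P i := stepQ 11635 Q11635 (allL N11635 (tt N10464 F38368) (tt N10620 F38369) (tt N12326 (iv F41172)) (tt N10755 F38370) (tt N10459 F38371) (tt N12300 (iv F41069)) (tt N10458 (iv D11732)) (tt N10632 (iv F38372)))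
theorem Q11637 : ∀ i, i < 11637 → P i := stepQ 11636 Q11636 (allL N11636 (tt N11960 (iv F39568)) (tt N10461 F38373) (tt N12073 (iv F40078)) (tt N12345 D12442) (tt N10460 (iv D11733)) (tt N12346 D12443) (tt N12183 (iv F40581)) (tt N11646 (iv F38413)))
theorem Q11638 : ∀ i, i < 11638 → P i := stepQ 11637 Q11637 (allL N11637 (tt N11958 (iv F39560)) (tt N12343 (iv F41250)) (tt N12072 (iv F40073)) (tt N11642 F38391) (tt N12346 (iv F41261)) (tt N10460 (iv D11734)) (tt N12347 D12444) (tt N11644 (iv F38401)))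
theorem Q11639 : ∀ i, i < 11639 → P i := stepQ 11638 Q11638 (allL N11638 (tt N10465 F38374) (tt N12345 (iv F41258)) (tt N12339 (iv F41235)) (tt N10461 (iv D11735)) (tt N11652 (iv F38435)) (tt N12344 (iv F41255)) (tt N12306 (iv F41091)) (tt N11660 (iv F38473)))
theorem Q11640 : ∀ i, i < 11640 → P i := stepQ 11639 Q11639 (allL N11639 (tt N12339 (iv F41233)) (tt N12334 (iv F41208)) (tt N10465 F38375) (tt N10462 (iv D11736)) (tt N11670 (iv F38502)) (tt N10792 F38376) (tt N12292 (iv F41032)) (tt N11680 (iv F38548)))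
theorem Q11641 : ∀ i, i < 11641 → P i := stepQ 11640 Q11640 (allL N11640 (tt N12344 (iv F41251)) (tt N10949 F38377) (tt N10792 F38378) (tt N10463 (iv D11737)) (tt N10948 F38379) (tt N10465 F38380) (tt N12327 (iv F41178)) (tt N10962 F38381))
theorem Q11642 : ∀ i, i < 11642 → P i := stepQ 11641 Q11641 (allL N11641 (tt N11422 F38382) (tt N10466 (iv D11738)) (tt N11418 F38383) (tt N10468 F38384) (tt N11417 F38385) (tt N10481 F38386) (tt N11122 F38387) (tt N12348 D12445))
theorem Q11643 : ∀ i, i < 11643 → P i := stepQ 11642 Q11642 (allL N11642 (tt N10867 F38388) (tt N12348 (iv F41266)) (tt N10885 F38389) (tt N11637 (iv F38391)) (tt N12219 (iv F40736)) (tt N10467 F38390) (tt N12130 (iv F40338)) (tt N10466 (iv D11739)))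
theorem Q11644 : ∀ i, i < 11644 → P i := stepQ 11643 Q11643 (allL N11643 (tt N11105 F38392) (tt N10469 F38393) (tt N10596 F38394) (tt N12349 D12446) (tt N10474 F38395) (tt N10485 F38396) (tt N11075 F38397) (tt N10468 (iv D11740)))
theorem Q11645 : ∀ i, i < 11645 → P i := stepQ 11644 Q11644 (allL N11644 (tt N10871 F38398) (tt N12349 (iv F41273)) (tt N11487 F38399) (tt N10469 (iv D11741)) (tt N12350 D12447) (tt N10470 F38400) (tt N12351 D12448) (tt N11637 F38401))
theorem Q11646 : ∀ i, i < 11646 → P i := stepQ 11645 Q11645 (allL N11645 (tt N10872 F38402) (tt N11075 F38403) (tt N10471 F38404) (tt N12351 (iv F41286)) (tt N10476 F38405) (tt N11453 F38406) (tt N10469 (iv D11742)) (tt N11099 F38407))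
theorem Q11647 : ∀ i, i < 11647 → P i := stepQ 11646 Q11646 (allL N11646 (tt N10873 F38408) (tt N10488 F38409) (tt N11489 F38410) (tt N10477 F38411) (tt N10470 (iv D11743)) (tt N12350 (iv F41281)) (tt N11514 F38412) (tt N11636 F38413))
theorem Q11648 : ∀ i, i < 11648 → P i := stepQ 11647 Q11647 (allL N11647 (tt N11419 F38414) (tt N10478 F38415) (tt N11343 F38416) (tt N10473 (iv D11744)) (tt N11421 F38417) (tt N10494 F38418) (tt N11416 F38419) (tt N11342 F38420))
theorem Q11649 : ∀ i, i < 11649 → P i := stepQ 11648 Q11648 (allL N11648 (tt N12230 (iv F40785)) (tt N10475 F38421) (tt N12123 (iv F40299)) (tt N10474 (iv D11745)) (tt N12352 D12449) (tt N10495 F38422) (tt N12121 (iv F40295)) (tt N12221 (iv F40747)))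
theorem Q11650 : ∀ i, i < 11650 → P i := stepQ 11649 Q11649 (allL N11649 (tt N10882 F38423) (tt N12352 (iv F41289)) (tt N10766 F38424) (tt N12350 (iv F41280)) (tt N10475 (iv D11746)) (tt N10477 F38425) (tt N12353 D12450) (tt N12220 (iv F40742)))
theorem Q11651 : ∀ i, i < 11651 → P i := stepQ 11650 Q11650 (allL N11650 (tt N10883 F38426) (tt N12121 (iv F40291)) (tt N10758 F38427) (tt N10476 F38428) (tt N12353 (iv F41293)) (tt N11866 (iv F39235)) (tt N10475 (iv D11747)) (tt N12245 (iv F40840)))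
theorem Q11652 : ∀ i, i < 11652 → P i := stepQ 11651 Q11651 (allL N11651 (tt N11240 F38429) (tt N11342 F38430) (tt N11903 (iv F39345)) (tt N10568 F38431) (tt N11586 F38432) (tt N10479 F38433) (tt N11669 (iv F38499)) (tt N10478 (iv D11748)))
theorem Q11653 : ∀ i, i < 11653 → P i := stepQ 11652 Q11652 (allL N11652 (tt N10502 F38434) (tt N12218 (iv F40732)) (tt N11982 (iv F39651)) (tt N10480 (iv D11749)) (tt N11638 F38435) (tt N12011 (iv F39784)) (tt N11980 F39646) (tt N10489 F38436))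
theorem Q11654 : ∀ i, i < 11654 → P i := stepQ 11653 Q11653 (allL N11653 (tt N10858 F38437) (tt N10482 F38438) (tt N10856 F38439) (tt N11633 (iv F38442)) (tt N11415 F38440) (tt N12348 (iv F41269)) (tt N11031 F38441) (tt N10481 (iv D11750)))
theorem Q11655 : ∀ i, i < 11655 → P i := stepQ 11654 Q11654 (allL N11654 (tt N10506 F38443) (tt N12354 D12451) (tt N11004 F38444) (tt N11541 F38445) (tt N12089 (iv F40132)) (tt N10483 (iv D11751)) (tt N12222 (iv F40751)) (tt N10484 F38446))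
theorem Q11656 : ∀ i, i < 11656 → P i := stepQ 11655 Q11655 (allL N11655 (tt N11259 F38447) (tt N10484 (iv D11752)) (tt N11248 F38448) (tt N11237 F38449) (tt N11247 F38450) (tt N11251 F38451) (tt N11236 F38452) (tt N12354 (iv F41300)))
theorem Q11657 : ∀ i, i < 11657 → P i := stepQ 11656 Q11656 (allL N11656 (tt N11328 F38453) (tt N10486 F38454) (tt N11702 (iv F38620)) (tt N10485 (iv D11753)) (tt N12355 D12452) (tt N12349 (iv F41275)) (tt N11317 F38455) (tt N11633 F38456))
theorem Q11658 : ∀ i, i < 11658 → P i := stepQ 11657 Q11657 (allL N11657 (tt N10511 F38457) (tt N12355 (iv F41302)) (tt N11624 F38458) (tt N10497 F38459) (tt N10486 (iv D11754)) (tt N10488 F38460) (tt N12356 D12453) (tt N11634 F38461))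
theorem Q11659 : ∀ i, i < 11659 → P i := stepQ 11658 Q11658 (allL N11658 (tt N10512 F38462) (tt N11317 F38463) (tt N10799 F38464) (tt N10487 F38465) (tt N12356 (iv F41310)) (tt N12266 (iv F40933)) (tt N10486 (iv D11755)) (tt N10807 F38466))
theorem Q11660 : ∀ i, i < 11660 → P i := stepQ 11659 Q11659 (allL N11659 (tt N10513 F38467) (tt N10637 (iv F38470)) (tt N10489 (iv D11756)) (tt N11659 F38468) (tt N12357 D12454) (tt N10633 F38469) (tt N12082 (iv F40105)) (tt N11982 F39654))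
theorem Q11661 : ∀ i, i < 11661 → P i := stepQ 11660 Q11660 (allL N11660 (tt N10514 F38471) (tt N12216 (iv F40723)) (tt N12357 (iv F41314)) (tt N10492 F38472) (tt N10489 (iv D11757)) (tt N12016 (iv F39806)) (tt N12083 (iv F40111)) (tt N11638 F38473))
theorem Q11662 : ∀ i, i < 11662 → P i := stepQ 11661 Q11661 (allL N11661 (tt N10517 F38474) (tt N12323 (iv F41160)) (tt N10598 F38475) (tt N12016 (iv F39805)) (tt N10490 (iv D11758)) (tt N10492 F38476) (tt N12358 D12455) (tt N10497 F38477))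
theorem Q11663 : ∀ i, i < 11663 → P i := stepQ 11662 Q11662 (allL N11662 (tt N10518 F38478) (tt N12163 (iv F40496)) (tt N10599 F38479) (tt N10491 F38480) (tt N12358 (iv F41320)) (tt N12085 (iv F40123)) (tt N10490 (iv D11759)) (tt N12359 D12456))
theorem Q11664 : ∀ i, i < 11664 → P i := stepQ 11663 Q11663 (allL N11663 (tt N12179 (iv F40559)) (tt N10576 F38481) (tt N10495 (iv D11760)) (tt N10570 F38482) (tt N12360 D12457) (tt N12123 (iv F40301)) (tt N11716 (iv F38688)) (tt N12321 (iv F41154)))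
theorem Q11665 : ∀ i, i < 11665 → P i := stepQ 11664 Q11664 (allL N11664 (tt N12324 (iv F41163)) (tt N10497 F38483) (tt N12360 (iv F41328)) (tt N12355 (iv F41303)) (tt N10495 (iv D11761)) (tt N12352 (iv F41290)) (tt N12361 D12458) (tt N12323 (iv F41162)))
theorem Q11666 : ∀ i, i < 11666 → P i := stepQ 11665 Q11665 (allL N11665 (tt N11321 F38484) (tt N10498 F38485) (tt N11716 (iv F38686)) (tt N10496 F38486) (tt N12361 (iv F41332)) (tt N11316 F38487) (tt N10495 (iv D11762)) (tt N12181 (iv F40572)))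
theorem Q11667 : ∀ i, i < 11667 → P i := stepQ 11666 Q11666 (allL N11666 (tt N10533 F38488) (tt N12361 (iv F41330)) (tt N10593 F38489) (tt N12356 (iv F41309)) (tt N10498 F38490) (tt N12267 (iv F40938)) (tt N10497 (iv D11763)) (tt N12362 D12459))
theorem Q11668 : ∀ i, i < 11668 → P i := stepQ 11667 Q11667 (allL N11667 (tt N10534 F38491) (tt N12181 (iv F40568)) (tt N10594 F38492) (tt N12023 (iv F39832)) (tt N12362 (iv F41336)) (tt N12268 (iv F40943)) (tt N12359 (iv F41326)) (tt N10498 (iv D11764)))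
theorem Q11669 : ∀ i, i < 11669 → P i := stepQ 11668 Q11668 (allL N11668 (tt N11005 F38493) (tt N12034 (iv F39879)) (tt N10504 F38494) (tt N12051 (iv F39973)) (tt N10501 F38495) (tt N10500 (iv D11765)) (tt N12044 (iv F39934)) (tt N11212 F38496))
theorem Q11670 : ∀ i, i < 11670 → P i := stepQ 11669 Q11669 (allL N11669 (tt N12108 (iv F40222)) (tt N10501 (iv D11766)) (tt N12107 F40221) (tt N11196 F38497) (tt N12034 (iv F39880)) (tt N11669 F38498) (tt N11651 F38499) (tt N11211 F38500))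
theorem Q11671 : ∀ i, i < 11671 → P i := stepQ 11670 Q11670 (allL N11670 (tt N11982 (iv F39649)) (tt N11998 (iv F39722)) (tt N10502 (iv D11767)) (tt N10940 F38501) (tt N11639 F38502) (tt N10939 F38503) (tt N11979 (iv F39642)) (tt N10513 F38504))
theorem Q11672 : ∀ i, i < 11672 → P i := stepQ 11671 Q11671 (allL N11671 (tt N11980 (iv F39643)) (tt N10913 F38505) (tt N11979 (iv F39641)) (tt N10503 F38506) (tt N11549 F38507) (tt N12363 D12460) (tt N10502 (iv D11768)) (tt N11477 F38508))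
theorem Q11673 : ∀ i, i < 11673 → P i := stepQ 11672 Q11672 (allL N11672 (tt N12089 (iv F40130)) (tt N12114 (iv F40249)) (tt N11212 F38509) (tt N12363 (iv F41337)) (tt N10506 F38510) (tt N10503 (iv D11769)) (tt N11952 (iv F39537)) (tt N10504 F38511))
theorem Q11674 : ∀ i, i < 11674 → P i := stepQ 11673 Q11673 (allL N11673 (tt N12222 (iv F40748)) (tt N11011 F38512) (tt N11213 F38513) (tt N11468 F38514) (tt N11952 (iv F39536)) (tt N10505 (iv D11770)) (tt N10506 F38515) (tt N11013 F38516))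
theorem Q11675 : ∀ i, i < 11675 → P i := stepQ 11674 Q11674 (allL N11674 (tt N12115 (iv F40254)) (tt N10506 (iv D11771)) (tt N11397 F38521) (tt N11505 F38517) (tt N12114 (iv F40251)) (tt N10921 F38518) (tt N11011 F38519) (tt N10507 F38520))
theorem Q11676 : ∀ i, i < 11676 → P i := stepQ 11675 Q11675 (allL N11675 (tt N12054 F39994) (tt N12107 (iv F40216)) (tt N10507 (iv D11772)) (tt N11398 F38525) (tt N11262 F38522) (tt N10922 F38523) (tt N12201 (iv F40654)) (tt N11397 F38524))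
theorem Q11677 : ∀ i, i < 11677 → P i := stepQ 11676 Q11676 (allL N11676 (tt N10509 F38526) (tt N11328 F38527) (tt N10747 (iv F38531)) (tt N10508 (iv D11773)) (tt N12330 (iv F41189)) (tt N10923 F38528) (tt N10966 F38529) (tt N10744 F38530))
theorem Q11678 : ∀ i, i < 11678 → P i := stepQ 11677 Q11677 (allL N11677 (tt N12330 (iv F41187)) (tt N10511 F38532) (tt N11935 (iv F39483)) (tt N10527 F38533) (tt N10509 (iv D11774)) (tt N10926 F38534) (tt N11610 F38535) (tt N11613 F38536))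
theorem Q11679 : ∀ i, i < 11679 → P i := stepQ 11678 Q11678 (allL N11678 (tt N12356 (iv F41306)) (tt N11610 F38537) (tt N10822 F38538) (tt N10533 F38539) (tt N10512 F38540) (tt N12315 (iv F41127)) (tt N10511 (iv D11775)) (tt N11600 F38541))
theorem Q11680 : ∀ i, i < 11680 → P i := stepQ 11679 Q11679 (allL N11679 (tt N10730 F38542) (tt N10513 (iv D11776)) (tt N10942 F38543) (tt N11679 F38544) (tt N12364 D12461) (tt N10727 F38545) (tt N10783 (iv F38546)) (tt N11998 (iv F39726)))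
theorem Q11681 : ∀ i, i < 11681 → P i := stepQ 11680 Q11680 (allL N11680 (tt N12357 (iv F41312)) (tt N12364 (iv F41341)) (tt N10514 F38547) (tt N11943 (iv F39514)) (tt N10513 (iv D11777)) (tt N11901 (iv F39338)) (tt N12365 D12462) (tt N11639 F38548))
theorem Q11682 : ∀ i, i < 11682 → P i := stepQ 11681 Q11681 (allL N11681 (tt N12082 (iv F40101)) (tt N10783 F38549) (tt N10515 F38550) (tt N11681 F38551) (tt N12365 (iv F41348)) (tt N12091 (iv F40143)) (tt N10513 (iv D11778)) (tt N11469 (iv F38552)))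
theorem Q11683 : ∀ i, i < 11683 → P i := stepQ 11682 Q11682 (allL N11682 (tt N12083 (iv F40107)) (tt N10945 F38553) (tt N12365 (iv F41347)) (tt N10522 F38554) (tt N10515 F38555) (tt N12092 (iv F40149)) (tt N10514 (iv D11779)) (tt N11441 (iv F38556)))
theorem Q11684 : ∀ i, i < 11684 → P i := stepQ 11683 Q11683 (allL N11683 (tt N11815 (iv F39032)) (tt N10516 (iv D11780)) (tt N11819 (iv F39050)) (tt N11683 F38557) (tt N12366 D12463) (tt N11988 (iv F39679)) (tt N10662 (iv F38559)) (tt N10530 F38558))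
theorem Q11685 : ∀ i, i < 11685 → P i := stepQ 11684 Q11684 (allL N11684 (tt N10598 F38560) (tt N12366 (iv F41350)) (tt N10517 F38561) (tt N11942 (iv F39509)) (tt N10516 (iv D11781)) (tt N10520 F38562) (tt N12367 D12464) (tt N10531 F38563))
theorem Q11686 : ∀ i, i < 11686 → P i := stepQ 11685 Q11685 (allL N11685 (tt N10599 F38564) (tt N10662 F38565) (tt N10518 F38566) (tt N11685 F38567) (tt N12367 (iv F41356)) (tt N12191 (iv F40607)) (tt N10516 (iv D11782)) (tt N10659 F38568))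
theorem Q11687 : ∀ i, i < 11687 → P i := stepQ 11686 Q11686 (allL N11686 (tt N12358 (iv F41318)) (tt N12018 (iv F39813)) (tt N12367 (iv F41355)) (tt N12017 (iv F39808)) (tt N10518 F38569) (tt N12192 (iv F40612)) (tt N10517 (iv D11783)) (tt N12368 D12465))
theorem Q11688 : ∀ i, i < 11688 → P i := stepQ 11687 Q11687 (allL N11687 (tt N12359 (iv F41321)) (tt N11816 (iv F39038)) (tt N10659 F38570) (tt N11590 F38571) (tt N12368 (iv F41360)) (tt N11591 F38572) (tt N10534 F38573) (tt N10518 (iv D11784)))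
theorem Q11689 : ∀ i, i < 11689 → P i := stepQ 11688 Q11688 (allL N11688 (tt N10777 F38574) (tt N10520 F38575) (tt N10950 F38576) (tt N12369 D12466) (tt N10519 (iv D11785)) (tt N11989 (iv F39684)) (tt N12370 D12467) (tt N10535 F38577))
theorem Q11690 : ∀ i, i < 11690 → P i := stepQ 11689 Q11689 (allL N11689 (tt N10780 F38578) (tt N10521 F38579) (tt N10951 F38580) (tt N11689 F38581) (tt N12370 (iv F41371)) (tt N12371 D12468) (tt N10519 (iv D11786)) (tt N11882 (iv F39286)))
theorem Q11691 : ∀ i, i < 11691 → P i := stepQ 11690 Q11690 (allL N11690 (tt N10611 F38582) (tt N12369 (iv F41364)) (tt N11943 (iv F39513)) (tt N10520 (iv D11787)) (tt N11690 F38583) (tt N11942 (iv F39511)) (tt N12372 D12469) (tt N11936 (iv F39491)))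
theorem Q11692 : ∀ i, i < 11692 → P i := stepQ 11691 Q11691 (allL N11691 (tt N10612 F38584) (tt N12370 (iv F41369)) (tt N10522 F38585) (tt N12372 (iv F41378)) (tt N10521 F38586) (tt N12373 D12470) (tt N10520 (iv D11788)) (tt N12202 (iv F40660)))
theorem Q11693 : ∀ i, i < 11693 → P i := stepQ 11692 Q11692 (allL N11692 (tt N10613 F38587) (tt N12374 D12471) (tt N10523 F38588) (tt N11692 F38589) (tt N12373 (iv F41382)) (tt N10521 (iv D11789)) (tt N12191 (iv F40608)) (tt N11578 F38590))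
theorem Q11694 : ∀ i, i < 11694 → P i := stepQ 11693 Q11693 (allL N11693 (tt N12084 (iv F40113)) (tt N12375 D12472) (tt N12373 (iv F41381)) (tt N12092 (iv F40148)) (tt N10523 F38591) (tt N10522 (iv D11790)) (tt N12192 (iv F40613)) (tt N11579 F38592))
theorem Q11695 : ∀ i, i < 11695 → P i := stepQ 11694 Q11694 (allL N11694 (tt N10946 F38593) (tt N10523 (iv D11791)) (tt N11887 (iv F39297)) (tt N10524 F38594) (tt N12375 (iv F41392)) (tt N10956 F38595) (tt N12160 (iv F40484)) (tt N10905 F38596))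
theorem Q11696 : ∀ i, i < 11696 → P i := stepQ 11695 Q11695 (allL N11695 (tt N12329 (iv F41183)) (tt N11837 (iv F39117)) (tt N10527 F38597) (tt N12376 D12473) (tt N10526 (iv D11792)) (tt N10958 F38598) (tt N11833 F39102) (tt N12004 F39754))
theorem Q11697 : ∀ i, i < 11697 → P i := stepQ 11696 Q11696 (allL N11696 (tt N12331 (iv F41194)) (tt N10533 F38599) (tt N11833 (iv F39100)) (tt N11610 F38600) (tt N10528 F38601) (tt N11820 (iv F39054)) (tt N10527 (iv D11793)) (tt N11831 (iv F39096)))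
theorem Q11698 : ∀ i, i < 11698 → P i := stepQ 11697 Q11697 (allL N11697 (tt N12003 (iv F39745)) (tt N12318 (iv F41133)) (tt N11835 (iv F39108)) (tt N10529 F38602) (tt N11820 (iv F39053)) (tt N10528 (iv D11794)) (tt N10960 F38603) (tt N11339 F38604))
theorem Q11699 : ∀ i, i < 11699 → P i := stepQ 11698 Q11698 (allL N11698 (tt N11829 (iv F39085)) (tt N10531 F38605) (tt N11837 (iv F39118)) (tt N11855 (iv F39195)) (tt N10530 (iv D11795)) (tt N12007 (iv F39764)) (tt N10654 F38606) (tt N12366 (iv F41352)))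
theorem Q11700 : ∀ i, i < 11700 → P i := stepQ 11699 Q11699 (allL N11699 (tt N10593 F38607) (tt N10654 F38608) (tt N10533 F38609) (tt N11848 (iv F39164)) (tt N10532 F38610) (tt N12269 (iv F40947)) (tt N10531 (iv D11796)) (tt N10658 (iv F38611)))
theorem Q11701 : ∀ i, i < 11701 → P i := stepQ 11700 Q11700 (allL N11700 (tt N12362 (iv F41334)) (tt N11831 (iv F39094)) (tt N10658 F38612) (tt N12377 D12474) (tt N10534 F38613) (tt N12316 (iv F41129)) (tt N12368 (iv F41362)) (tt N10533 (iv D11797)))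
theorem Q11702 : ∀ i, i < 11702 → P i := stepQ 11701 Q11701 (allL N11701 (tt N10745 F38614) (tt N10536 F38615) (tt N11613 F38616) (tt N10535 (iv D11798)) (tt N10541 F38617) (tt N12008 (iv F39769)) (tt N10906 F38618) (tt N11935 (iv F39485)))
theorem Q11703 : ∀ i, i < 11703 → P i := stepQ 11702 Q11702 (allL N11702 (tt N11852 (iv F39177)) (tt N10583 F38619) (tt N11656 F38620) (tt N10543 (iv D11799)) (tt N12378 D12475) (tt N12062 (iv F40035)) (tt N10544 F38621) (tt N11845 (iv F39150)))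
theorem Q11704 : ∀ i, i < 11704 → P i := stepQ 11703 Q11703 (allL N11703 (tt N12195 (iv F40624)) (tt N10586 F38622) (tt N12189 (iv F40599)) (tt N10579 F38623) (tt N10544 (iv D11800)) (tt N10664 F38624) (tt N12378 (iv F41406)) (tt N11915 (iv F39403)))
theorem Q11705 : ∀ i, i < 11705 → P i := stepQ 11704 Q11704 (allL N11704 (tt N10549 F38625) (tt N12033 (iv F39875)) (tt N12114 (iv F40250)) (tt N10547 F38626) (tt N11397 F38627) (tt N10546 (iv D11801)) (tt N11470 F38628) (tt N11262 F38629))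
theorem Q11706 : ∀ i, i < 11706 → P i := stepQ 11705 Q11705 (allL N11705 (tt N11266 (iv F38635)) (tt N10547 (iv D11802)) (tt N11066 F38634) (tt N12033 (iv F39877)) (tt N11026 F38630) (tt N11705 F38631) (tt N11065 F38632) (tt N10548 F38633))
theorem Q11707 : ∀ i, i < 11707 → P i := stepQ 11706 Q11706 (allL N11706 (tt N10548 (iv D11803)) (tt N10552 F38636) (tt N11026 (iv F38642)) (tt N11252 F38637) (tt N11066 F38638) (tt N11706 F38639) (tt N10666 F38640) (tt N11266 F38641))
theorem Q11708 : ∀ i, i < 11708 → P i := stepQ 11707 Q11707 (allL N11707 (tt N11026 F38643) (tt N11359 F38644) (tt N10548 (iv D11804)) (tt N11022 F38645) (tt N11266 F38646) (tt N11707 F38647) (tt N10667 F38648) (tt N11066 F38649))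
theorem Q11709 : ∀ i, i < 11709 → P i := stepQ 11708 Q11708 (allL N11708 (tt N11207 (iv F38654)) (tt N10549 (iv D11805)) (tt N10988 F38653) (tt N10550 F38650) (tt N10987 F38651) (tt N10558 F38652) (tt N12100 (iv F40182)) (tt N12053 (iv F39988)))
theorem Q11710 : ∀ i, i < 11710 → P i := stepQ 11709 Q11709 (allL N11709 (tt N10550 (iv D11806)) (tt N11266 F38655) (tt N10641 (iv F38661)) (tt N11207 F38656) (tt N11359 F38657) (tt N10560 F38658) (tt N11265 F38659) (tt N10552 F38660))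
theorem Q11711 : ∀ i, i < 11711 → P i := stepQ 11710 Q11710 (allL N11710 (tt N10641 F38662) (tt N12056 (iv F40001)) (tt N10550 (iv D11807)) (tt N10643 F38663) (tt N12060 (iv F40025)) (tt N10561 F38664) (tt N11264 F38665) (tt N10553 F38666))
theorem Q11712 : ∀ i, i < 11712 → P i := stepQ 11711 Q11711 (allL N11711 (tt N10551 (iv D11808)) (tt N11252 F38667) (tt N12111 (iv F40240)) (tt N10552 F38668) (tt N11193 F38669) (tt N10562 F38670) (tt N10668 F38671) (tt N12105 (iv F40212)))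
theorem Q11713 : ∀ i, i < 11713 → P i := stepQ 11712 Q11712 (allL N11712 (tt N10553 F38672) (tt N10642 F38673) (tt N10552 (iv D11809)) (tt N11825 (iv F39070)) (tt N12061 (iv F40031)) (tt N10566 F38674) (tt N10671 F38675) (tt N10641 F38676))
theorem Q11714 : ∀ i, i < 11714 → P i := stepQ 11713 Q11713 (allL N11713 (tt N11825 (iv F39068)) (tt N12235 (iv F40801)) (tt N12112 (iv F40244)) (tt N10553 (iv D11810)) (tt N12379 D12476) (tt N10567 F38677) (tt N10672 F38678) (tt N11823 (iv F39065)))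
theorem Q11715 : ∀ i, i < 11715 → P i := stepQ 11714 Q11714 (allL N11714 (tt N11787 (iv F38932)) (tt N11716 (iv F38685)) (tt N10567 F38679) (tt N10563 (iv D11811)) (tt N12380 D12477) (tt N12112 (iv F40245)) (tt N10576 F38680) (tt N11231 F38681))
theorem Q11716 : ∀ i, i < 11716 → P i := stepQ 11715 Q11715 (allL N11715 (tt N11827 (iv F39076)) (tt N10593 F38682) (tt N12380 (iv F41409)) (tt N12378 (iv F41405)) (tt N10567 (iv D11812)) (tt N12379 (iv F41407)) (tt N10579 F38683) (tt N11826 (iv F39075)))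
theorem Q11717 : ∀ i, i < 11717 → P i := stepQ 11716 Q11716 (allL N11716 (tt N11302 F38684) (tt N11714 F38685) (tt N11665 F38686) (tt N10573 (iv D11813)) (tt N12381 D12478) (tt N10682 F38687) (tt N11663 F38688) (tt N11306 F38689))
theorem Q11718 : ∀ i, i < 11718 → P i := stepQ 11717 Q11717 (allL N11717 (tt N10576 F38690) (tt N11274 F38691) (tt N10578 F38692) (tt N10574 (iv D11814)) (tt N12382 D12479) (tt N10683 F38693) (tt N11787 (iv F38936)) (tt N11273 F38694))
theorem Q11719 : ∀ i, i < 11719 → P i := stepQ 11718 Q11718 (allL N11718 (tt N12382 (iv F41420)) (tt N12360 (iv F41327)) (tt N10579 F38695) (tt N12381 (iv F41416)) (tt N10576 (iv D11815)) (tt N10684 F38696) (tt N12380 (iv F41411)) (tt N12383 D12480))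
theorem Q11720 : ∀ i, i < 11720 → P i := stepQ 11719 Q11719 (allL N11719 (tt N11273 F38697) (tt N12321 (iv F41151)) (tt N10580 F38698) (tt N11268 F38699) (tt N12383 (iv F41429)) (tt N10685 F38700) (tt N11233 F38701) (tt N10576 (iv D11816)))
theorem Q11721 : ∀ i, i < 11721 → P i := stepQ 11720 Q11720 (allL N11720 (tt N10579 F38702) (tt N11829 (iv F39086)) (tt N12382 (iv F41422)) (tt N12195 (iv F40626)) (tt N10578 (iv D11817)) (tt N10688 F38703) (tt N11827 F39079) (tt N12384 D12481))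
theorem Q11722 : ∀ i, i < 11722 → P i := stepQ 11721 Q11721 (allL N11721 (tt N10580 F38704) (tt N11815 (iv F39033)) (tt N11273 F38705) (tt N11721 F38706) (tt N12384 (iv F41434)) (tt N10689 F38707) (tt N10827 F38708) (tt N10578 (iv D11818)))
theorem Q11723 : ∀ i, i < 11723 → P i := stepQ 11722 Q11722 (allL N11722 (tt N12384 (iv F41432)) (tt N10598 F38709) (tt N12383 (iv F41427)) (tt N12385 D12482) (tt N10580 F38710) (tt N10690 F38711) (tt N12386 D12483) (tt N10579 (iv D11819)))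
theorem Q11724 : ∀ i, i < 11724 → P i := stepQ 11723 Q11723 (allL N11723 (tt N10827 F38712) (tt N10599 F38713) (tt N11233 F38714) (tt N11723 F38715) (tt N12386 (iv F41443)) (tt N10825 F38716) (tt N10580 (iv D11820)) (tt N11227 F38717))
theorem Q11725 : ∀ i, i < 11725 → P i := stepQ 11724 Q11724 (allL N11724 (tt N11848 (iv F39161)) (tt N12378 (iv F41403)) (tt N11906 (iv F39359)) (tt N10593 F38718) (tt N10583 (iv D11821)) (tt N12260 (iv F40904)) (tt N10586 F38719) (tt N11847 (iv F39160)))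
theorem Q11726 : ∀ i, i < 11726 → P i := stepQ 11725 Q11725 (allL N11725 (tt N10658 F38720) (tt N11826 (iv F39074)) (tt N12362 (iv F41335)) (tt N12139 (iv F40384)) (tt N10594 F38721) (tt N12270 (iv F40952)) (tt N12387 D12484) (tt N10593 (iv D11822)))
theorem Q11727 : ∀ i, i < 11727 → P i := stepQ 11726 Q11726 (allL N11726 (tt N10659 F38722) (tt N11227 F38723) (tt N12359 (iv F41323)) (tt N10657 F38724) (tt N12387 (iv F41448)) (tt N11983 (iv F39657)) (tt N10594 (iv D11823)) (tt N10599 F38725))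
theorem Q11728 : ∀ i, i < 11728 → P i := stepQ 11727 Q11727 (allL N11727 (tt N11942 (iv F39507)) (tt N12385 (iv F41437)) (tt N11930 (iv F39461)) (tt N10598 (iv D11824)) (tt N11727 F38726) (tt N10611 F38727) (tt N12388 D12485) (tt N11916 (iv F39409)))
theorem Q11729 : ∀ i, i < 11729 → P i := stepQ 11728 Q11728 (allL N11728 (tt N12367 (iv F41353)) (tt N12386 (iv F41441)) (tt N12358 (iv F41319)) (tt N12388 (iv F41450)) (tt N10599 F38728) (tt N12389 D12486) (tt N10598 (iv D11825)) (tt N12387 (iv F41449)))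
theorem Q11730 : ∀ i, i < 11730 → P i := stepQ 11729 Q11729 (allL N11729 (tt N12191 (iv F40605)) (tt N10848 F38729) (tt N12085 (iv F40121)) (tt N11729 F38730) (tt N12389 (iv F41453)) (tt N10599 (iv D11826)) (tt N10613 F38731) (tt N11983 (iv F39658)))
theorem Q11731 : ∀ i, i < 11731 → P i := stepQ 11730 Q11730 (allL N11730 (tt N11629 F38732) (tt N11904 (iv F39349)) (tt N10733 F38733) (tt N10600 (iv D11827)) (tt N12390 D12487) (tt N10602 F38734) (tt N11733 (iv F38749)) (tt N10839 F38735))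
theorem Q11732 : ∀ i, i < 11732 → P i := stepQ 11731 Q11731 (allL N11731 (tt N11632 F38736) (tt N10603 F38737) (tt N10736 F38738) (tt N11378 F38739) (tt N10602 (iv D11828)) (tt N12390 (iv F41458)) (tt N10630 F38740) (tt N10838 F38741))
theorem Q11733 : ∀ i, i < 11733 → P i := stepQ 11732 Q11732 (allL N11732 (tt N11936 (iv F39486)) (tt N10750 F38742) (tt N11926 (iv F39443)) (tt N10604 (iv D11829)) (tt N11732 F38743) (tt N11916 (iv F39407)) (tt N10846 F38744) (tt N10611 F38745))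
theorem Q11734 : ∀ i, i < 11734 → P i := stepQ 11733 Q11733 (allL N11733 (tt N10609 F38746) (tt N11369 F38747) (tt N11841 (iv F39130)) (tt N10605 (iv D11830)) (tt N12391 D12488) (tt N10606 F38748) (tt N11730 F38749) (tt N10753 F38750))
theorem Q11735 : ∀ i, i < 11735 → P i := stepQ 11734 Q11734 (allL N11734 (tt N10610 F38751) (tt N11064 F38752) (tt N12138 (iv F40377)) (tt N11743 (iv F38784)) (tt N10606 (iv D11831)) (tt N12391 (iv F41462)) (tt N10617 F38753) (tt N10755 F38754))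
theorem Q11736 : ∀ i, i < 11736 → P i := stepQ 11735 Q11735 (allL N11735 (tt N11742 (iv F38775)) (tt N12338 (iv F41228)) (tt N11165 F38755) (tt N10607 (iv D11832)) (tt N12392 D12489) (tt N10608 F38756) (tt N10788 F38757) (tt N11539 F38758))
theorem Q11737 : ∀ i, i < 11737 → P i := stepQ 11736 Q11736 (allL N11736 (tt N11743 (iv F38781)) (tt N11528 F38759) (tt N11166 F38760) (tt N10610 F38761) (tt N10608 (iv D11833)) (tt N12392 (iv F41467)) (tt N10618 F38762) (tt N11540 F38763))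
theorem Q11738 : ∀ i, i < 11738 → P i := stepQ 11737 Q11737 (allL N11737 (tt N12391 (iv F41460)) (tt N12341 (iv F41244)) (tt N12137 (iv F40372)) (tt N12392 (iv F41466)) (tt N10609 (iv D11834)) (tt N10610 F38764) (tt N12340 (iv F41242)) (tt N10762 F38765))
theorem Q11739 : ∀ i, i < 11739 → P i := stepQ 11738 Q11738 (allL N11738 (tt N11943 (iv F39512)) (tt N12393 D12490) (tt N10611 (iv D11835)) (tt N12357 F41317) (tt N11738 F38766) (tt N11930 (iv F39464)) (tt N12394 D12491) (tt N11926 F39446))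
theorem Q11740 : ∀ i, i < 11740 → P i := stepQ 11739 Q11739 (allL N11739 (tt N12372 (iv F41377)) (tt N10785 F38767) (tt N12394 (iv F41474)) (tt N10612 F38768) (tt N11739 F38769) (tt N12395 D12492) (tt N10611 (iv D11836)) (tt N12396 D12493))
theorem Q11741 : ∀ i, i < 11741 → P i := stepQ 11740 Q11740 (allL N11740 (tt N12373 (iv F41380)) (tt N12397 D12494) (tt N12084 (iv F40115)) (tt N12395 (iv F41477)) (tt N10613 F38770) (tt N10612 (iv D11837)) (tt N12389 (iv F41454)) (tt N12215 (iv F40721)))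
theorem Q11742 : ∀ i, i < 11742 → P i := stepQ 11741 Q11741 (allL N11741 (tt N10851 (iv F38774)) (tt N10613 (iv D11838)) (tt N11975 (iv F39619)) (tt N11741 F38771) (tt N12397 (iv F41485)) (tt N10787 F38772) (tt N10848 F38773) (tt N11995 (iv F39713)))
theorem Q11743 : ∀ i, i < 11743 → P i := stepQ 11742 Q11742 (allL N11742 (tt N11735 F38775) (tt N11473 F38776) (tt N11238 F38777) (tt N10614 (iv D11839)) (tt N12398 D12495) (tt N10615 F38778) (tt N11377 F38779) (tt N10624 F38780))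
theorem Q11744 : ∀ i, i < 11744 → P i := stepQ 11743 Q11743 (allL N11743 (tt N11736 F38781) (tt N10617 F38782) (tt N11239 F38783) (tt N11734 F38784) (tt N10615 (iv D11840)) (tt N12398 (iv F41493)) (tt N11064 F38785) (tt N10626 F38786))
theorem Q11745 : ∀ i, i < 11745 → P i := stepQ 11744 Q11744 (allL N11744 (tt N10971 F38787) (tt N10616 (iv D11841)) (tt N10970 F38788) (tt N10973 F38789) (tt N12399 D12496) (tt N11605 F38790) (tt N11220 F38791) (tt N10627 F38792))
theorem Q11746 : ∀ i, i < 11746 → P i := stepQ 11745 Q11745 (allL N11745 (tt N10621 F38793) (tt N12399 (iv F41497)) (tt N10617 F38794) (tt N12144 (iv F40402)) (tt N10616 (iv D11842)) (tt N11614 F38795) (tt N12138 (iv F40379)) (tt N10628 F38796))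
theorem Q11747 : ∀ i, i < 11747 → P i := stepQ 11746 Q11746 (allL N11746 (tt N10939 F38797) (tt N10619 (iv D11843)) (tt N12011 (iv F39782)) (tt N10938 F38798) (tt N11900 (iv F39331)) (tt N11982 (iv F39653)) (tt N11845 (iv F39149)) (tt N10633 F38799))
theorem Q11748 : ∀ i, i < 11748 → P i := stepQ 11747 Q11747 (allL N11747 (tt N11614 F38800) (tt N11900 (iv F39330)) (tt N10620 F38801) (tt N11899 (iv F39326)) (tt N10619 (iv D11844)) (tt N10621 F38802) (tt N11847 (iv F39159)) (tt N10634 F38803))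
theorem Q11749 : ∀ i, i < 11749 → P i := stepQ 11748 Q11748 (allL N11748 (tt N12144 (iv F40400)) (tt N10706 F38804) (tt N11181 F38805) (tt N10621 (iv D11845)) (tt N10705 F38806) (tt N11899 (iv F39327)) (tt N10717 F38807) (tt N11929 (iv F39458)))
theorem Q11750 : ∀ i, i < 11750 → P i := stepQ 11749 Q11749 (allL N11749 (tt N12098 (iv F40169)) (tt N12400 D12497) (tt N10624 (iv D11846)) (tt N12048 (iv F39957)) (tt N12401 D12498) (tt N10625 F38808) (tt N11870 (iv F39243)) (tt N11238 F38809))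
theorem Q11751 : ∀ i, i < 11751 → P i := stepQ 11750 Q11750 (allL N11750 (tt N12304 (iv F41082)) (tt N11544 F38810) (tt N12401 (iv F41509)) (tt N11545 F38811) (tt N10624 (iv D11847)) (tt N10626 F38812) (tt N11871 (iv F39245)) (tt N12398 (iv F41495)))
theorem Q11752 : ∀ i, i < 11752 → P i := stepQ 11751 Q11751 (allL N11751 (tt N12099 (iv F40173)) (tt N12156 (iv F40464)) (tt N10626 F38813) (tt N12402 D12499) (tt N10625 (iv D11848)) (tt N12401 (iv F41510)) (tt N10821 F38814) (tt N11239 F38815))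
theorem Q11753 : ∀ i, i < 11753 → P i := stepQ 11752 Q11752 (allL N11752 (tt N12159 (iv F40475)) (tt N10628 F38816) (tt N12156 (iv F40465)) (tt N12403 D12500) (tt N10627 (iv D11849)) (tt N12404 D12501) (tt N10826 F38817) (tt N12399 (iv F41502)))
theorem Q11754 : ∀ i, i < 11754 → P i := stepQ 11753 Q11753 (allL N11753 (tt N10691 F38818) (tt N11607 F38819) (tt N12155 (iv F40462)) (tt N11753 F38820) (tt N12404 (iv F41525)) (tt N10627 (iv D11850)) (tt N10689 F38821) (tt N11605 F38822))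
theorem Q11755 : ∀ i, i < 11755 → P i := stepQ 11754 Q11754 (allL N11754 (tt N10638 F38823) (tt N12403 (iv F41518)) (tt N11757 (iv F38832)) (tt N10628 (iv D11851)) (tt N11754 F38824) (tt N11755 (iv F38828)) (tt N10828 F38825) (tt N12405 D12502))
theorem Q11756 : ∀ i, i < 11756 → P i := stepQ 11755 Q11755 (allL N11755 (tt N11757 (iv F38831)) (tt N12332 (iv F41199)) (tt N10638 F38826) (tt N10631 (iv D11852)) (tt N11755 F38827) (tt N11754 F38828) (tt N10845 F38829) (tt N12406 D12503))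
theorem Q11757 : ∀ i, i < 11757 → P i := stepQ 11756 Q11756 (allL N11756 (tt N11901 (iv F39333)) (tt N10634 F38830) (tt N12016 (iv F39804)) (tt N11930 (iv F39462)) (tt N10633 (iv D11853)) (tt N12357 (iv F41315)) (tt N11915 (iv F39402)) (tt N11900 F39332))
theorem Q11758 : ∀ i, i < 11758 → P i := stepQ 11757 Q11757 (allL N11757 (tt N11755 F38831) (tt N11930 (iv F39460)) (tt N11754 F38832) (tt N10634 (iv D11854)) (tt N11757 F38833) (tt N10638 F38834) (tt N11916 (iv F39408)) (tt N11928 (iv F39453)))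
theorem Q11759 : ∀ i, i < 11759 → P i := stepQ 11758 Q11758 (allL N11758 (tt N10636 F38835) (tt N12159 (iv F40476)) (tt N11977 (iv F39631)) (tt N12407 D12504) (tt N10635 (iv D11855)) (tt N12006 (iv F39761)) (tt N10847 F38836) (tt N11768 (iv F38875)))
theorem Q11760 : ∀ i, i < 11760 → P i := stepQ 11759 Q11759 (allL N11759 (tt N12407 (iv F41540)) (tt N10638 F38837) (tt N12408 D12505) (tt N10636 (iv D11856)) (tt N11759 F38838) (tt N12393 (iv F41473)) (tt N10849 F38839) (tt N12409 D12506))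
theorem Q11761 : ∀ i, i < 11761 → P i := stepQ 11760 Q11760 (allL N11760 (tt N12006 (iv F39758)) (tt N12357 (iv F41313)) (tt N11996 (iv F39714)) (tt N12393 (iv F41471)) (tt N10637 F38840) (tt N10636 (iv D11857)) (tt N12410 D12507) (tt N11985 F39668))
theorem Q11762 : ∀ i, i < 11762 → P i := stepQ 11761 Q11761 (allL N11761 (tt N10787 F38841) (tt N12082 (iv F40102)) (tt N11995 (iv F39710)) (tt N11761 F38842) (tt N12410 (iv F41550)) (tt N10851 F38843) (tt N10637 (iv D11858)) (tt N11975 (iv F39621)))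
theorem Q11763 : ∀ i, i < 11763 → P i := stepQ 11762 Q11762 (allL N11762 (tt N12405 (iv F41528)) (tt N12409 (iv F41546)) (tt N12406 (iv F41536)) (tt N11929 (iv F39456)) (tt N11762 F38844) (tt N11928 F39454) (tt N12411 D12508) (tt N10638 (iv D11859)))
theorem Q11764 : ∀ i, i < 11764 → P i := stepQ 11763 Q11763 (allL N11763 (tt N11556 F38845) (tt N11536 F38846) (tt N11219 F38847) (tt N11294 F38848) (tt N10647 F38849) (tt N12412 D12509) (tt N10646 (iv D11860)) (tt N10919 F38850))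
theorem Q11765 : ∀ i, i < 11765 → P i := stepQ 11764 Q11764 (allL N11764 (tt N10931 F38851) (tt N12413 D12510) (tt N10901 F38852) (tt N10648 F38853) (tt N12412 (iv F41559)) (tt N10647 (iv D11861)) (tt N10899 F38854) (tt N10920 F38855))
theorem Q11766 : ∀ i, i < 11766 → P i := stepQ 11765 Q11765 (allL N11765 (tt N11575 F38856) (tt N10648 (iv D11862)) (tt N11286 F38857) (tt N12413 (iv F41564)) (tt N11287 F38858) (tt N11571 F38859) (tt N10903 F38860) (tt N10649 F38861))
theorem Q11767 : ∀ i, i < 11767 → P i := stepQ 11766 Q11766 (allL N11766 (tt N12126 (iv F40311)) (tt N10854 F38862) (tt N10649 (iv D11863)) (tt N10833 F38863) (tt N11027 F38864) (tt N12313 (iv F41117)) (tt N11766 F38865) (tt N11286 F38866))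
theorem Q11768 : ∀ i, i < 11768 → P i := stepQ 11767 Q11767 (allL N11767 (tt N12139 (iv F40381)) (tt N10651 F38867) (tt N11802 (iv F38988)) (tt N10658 F38868) (tt N10650 (iv D11864)) (tt N12314 (iv F41122)) (tt N12022 (iv F39829)) (tt N11414 F38869))
theorem Q11769 : ∀ i, i < 11769 → P i := stepQ 11768 Q11768 (allL N11768 (tt N11219 F38870) (tt N12022 (iv F39826)) (tt N11556 F38871) (tt N10661 F38872) (tt N10652 F38873) (tt N10932 F38874) (tt N10651 (iv D11865)) (tt N11758 F38875))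
theorem Q11770 : ∀ i, i < 11770 → P i := stepQ 11769 Q11769 (allL N11769 (tt N11880 (iv F39275)) (tt N12009 (iv F39773)) (tt N11891 (iv F39306)) (tt N12204 (iv F40666)) (tt N10656 F38876) (tt N10655 (iv D11866)) (tt N12007 (iv F39765)) (tt N10955 F38877))
theorem Q11771 : ∀ i, i < 11771 → P i := stepQ 11770 Q11770 (allL N11770 (tt N12387 (iv F41446)) (tt N10661 F38878) (tt N12368 (iv F41358)) (tt N12022 (iv F39828)) (tt N10659 F38879) (tt N12414 D12511) (tt N10658 (iv D11867)) (tt N12367 (iv F41357)))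
theorem Q11772 : ∀ i, i < 11772 → P i := stepQ 11771 Q11771 (allL N11771 (tt N11983 (iv F39655)) (tt N10960 F38880) (tt N11591 F38881) (tt N10660 F38882) (tt N12414 (iv F41571)) (tt N10659 (iv D11868)) (tt N12318 (iv F41136)) (tt N12191 (iv F40609)))
theorem Q11773 : ∀ i, i < 11773 → P i := stepQ 11772 Q11772 (allL N11772 (tt N11814 (iv F39029)) (tt N12367 (iv F41354)) (tt N11818 (iv F39046)) (tt N12415 D12512) (tt N10662 F38883) (tt N10967 F38884) (tt N12366 (iv F41351)) (tt N10661 (iv D11869)))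
theorem Q11774 : ∀ i, i < 11774 → P i := stepQ 11773 Q11773 (allL N11773 (tt N12194 (iv F40621)) (tt N10703 F38885) (tt N12094 (iv F40158)) (tt N12416 D12513) (tt N10665 F38886) (tt N11915 (iv F39401)) (tt N12093 (iv F40154)) (tt N10664 (iv D11870)))
theorem Q11775 : ∀ i, i < 11775 → P i := stepQ 11774 Q11774 (allL N11774 (tt N10669 F38887) (tt N11495 F38888) (tt N10668 (iv D11871)) (tt N12417 D12514) (tt N11173 F38889) (tt N10673 F38890) (tt N12111 (iv F40242)) (tt N11171 F38891))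
theorem Q11776 : ∀ i, i < 11776 → P i := stepQ 11775 Q11775 (allL N11775 (tt N12417 (iv F41579)) (tt N11361 F38892) (tt N10672 F38893) (tt N10669 (iv D11872)) (tt N12418 D12515) (tt N10674 F38894) (tt N12112 (iv F40246)) (tt N11919 (iv F39422)))
theorem Q11777 : ∀ i, i < 11777 → P i := stepQ 11776 Q11776 (allL N11776 (tt N10672 F38895) (tt N11443 F38896) (tt N12417 (iv F41581)) (tt N10671 (iv D11873)) (tt N12419 D12516) (tt N10676 F38897) (tt N11825 (iv F39072)) (tt N12420 D12517))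
theorem Q11778 : ∀ i, i < 11778 → P i := stepQ 11777 Q11777 (allL N11777 (tt N12419 (iv F41588)) (tt N12325 (iv F41168)) (tt N12418 (iv F41585)) (tt N12065 (iv F40044)) (tt N10672 (iv D11874)) (tt N10677 F38898) (tt N12379 (iv F41408)) (tt N12421 D12518))
theorem Q11779 : ∀ i, i < 11779 → P i := stepQ 11778 Q11778 (allL N11778 (tt N12420 (iv F41591)) (tt N11569 F38899) (tt N11919 (iv F39419)) (tt N11567 F38900) (tt N12421 (iv F41598)) (tt N10678 F38901) (tt N11566 F38902) (tt N10672 (iv D11875)))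
theorem Q11780 : ∀ i, i < 11780 → P i := stepQ 11779 Q11779 (allL N11779 (tt N10674 F38903) (tt N11313 F38904) (tt N10676 F38905) (tt N10673 (iv D11876)) (tt N12422 D12519) (tt N12417 (iv F41582)) (tt N10683 F38906) (tt N12071 (iv F40071)))
theorem Q11781 : ∀ i, i < 11781 → P i := stepQ 11780 Q11780 (allL N11780 (tt N12422 (iv F41602)) (tt N11181 F38907) (tt N10677 F38908) (tt N11179 F38909) (tt N10674 (iv D11877)) (tt N12418 (iv F41587)) (tt N10684 F38910) (tt N12074 (iv F40084)))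
theorem Q11782 : ∀ i, i < 11782 → P i := stepQ 11781 Q11781 (allL N11781 (tt N10708 F38911) (tt N10676 F38912) (tt N11290 F38913) (tt N10675 (iv D11878)) (tt N12423 D12520) (tt N11295 F38914) (tt N10686 F38915) (tt N11288 F38916))
theorem Q11783 : ∀ i, i < 11783 → P i := stepQ 11782 Q11782 (allL N11782 (tt N10677 F38917) (tt N12423 (iv F41608)) (tt N12422 (iv F41604)) (tt N12068 (iv F40056)) (tt N10676 (iv D11879)) (tt N12419 (iv F41590)) (tt N10688 F38918) (tt N12424 D12521))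
theorem Q11784 : ∀ i, i < 11784 → P i := stepQ 11783 Q11783 (allL N11783 (tt N10678 F38919) (tt N11288 F38920) (tt N12071 (iv F40069)) (tt N11287 F38921) (tt N12424 (iv F41615)) (tt N12420 (iv F41595)) (tt N11605 F38922) (tt N10676 (iv D11880)))
theorem Q11785 : ∀ i, i < 11785 → P i := stepQ 11784 Q11784 (allL N11784 (tt N12424 (iv F41613)) (tt N10711 F38923) (tt N12074 (iv F40081)) (tt N12425 D12522) (tt N10678 F38924) (tt N12421 (iv F41599)) (tt N12184 (iv F40585)) (tt N10677 (iv D11881)))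
theorem Q11786 : ∀ i, i < 11786 → P i := stepQ 11785 Q11785 (allL N11785 (tt N12145 (iv F40405)) (tt N12123 (iv F40298)) (tt N10715 F38925) (tt N10679 (iv D11882)) (tt N12426 D12523) (tt N10681 F38926) (tt N11363 F38927) (tt N12427 D12524))
theorem Q11787 : ∀ i, i < 11787 → P i := stepQ 11786 Q11786 (allL N11786 (tt N12147 (iv F40418)) (tt N10684 F38928) (tt N10717 F38929) (tt N11166 F38930) (tt N10681 (iv D11883)) (tt N12426 (iv F41623)) (tt N11181 F38931) (tt N12428 D12525))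
theorem Q11788 : ∀ i, i < 11788 → P i := stepQ 11787 Q11787 (allL N11787 (tt N11714 F38932) (tt N10685 F38933) (tt N10718 F38934) (tt N11161 F38935) (tt N12428 (iv F41633)) (tt N12427 (iv F41628)) (tt N11717 F38936) (tt N10681 (iv D11884)))
theorem Q11789 : ∀ i, i < 11789 → P i := stepQ 11788 Q11788 (allL N11788 (tt N11304 F38937) (tt N11166 F38938) (tt N12188 (iv F40594)) (tt N10684 F38939) (tt N10682 (iv D11885)) (tt N12381 (iv F41417)) (tt N11179 F38940) (tt N11308 F38941))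
theorem Q11790 : ∀ i, i < 11790 → P i := stepQ 11789 Q11789 (allL N11789 (tt N10684 F38942) (tt N11312 F38943) (tt N10688 F38944) (tt N11304 F38945) (tt N10683 (iv D11886)) (tt N12382 (iv F41424)) (tt N12422 (iv F41606)) (tt N12429 D12526))
theorem Q11791 : ∀ i, i < 11791 → P i := stepQ 11790 Q11790 (allL N11790 (tt N10685 F38946) (tt N11302 F38947) (tt N10689 F38948) (tt N11272 F38949) (tt N12429 (iv F41639)) (tt N11273 F38950) (tt N12155 (iv F40460)) (tt N10683 (iv D11887)))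
theorem Q11792 : ∀ i, i < 11792 → P i := stepQ 11791 Q11791 (allL N11791 (tt N12429 (iv F41635)) (tt N12428 (iv F41631)) (tt N10690 F38951) (tt N12430 D12527) (tt N10685 F38952) (tt N12383 (iv F41430)) (tt N12158 (iv F40473)) (tt N10684 (iv D11888)))
theorem Q11793 : ∀ i, i < 11793 → P i := stepQ 11792 Q11792 (allL N11792 (tt N10721 F38953) (tt N11311 F38954) (tt N10686 (iv D11889)) (tt N10974 F38955) (tt N12431 D12528) (tt N12199 (iv F40641)) (tt N11290 F38956) (tt N11609 (iv F38957)))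
theorem Q11794 : ∀ i, i < 11794 → P i := stepQ 11793 Q11793 (allL N11793 (tt N10722 F38958) (tt N10688 F38959) (tt N12431 (iv F41649)) (tt N12197 (iv F40632)) (tt N10686 (iv D11890)) (tt N12432 D12529) (tt N12423 (iv F41611)) (tt N12433 D12530))
theorem Q11795 : ∀ i, i < 11795 → P i := stepQ 11794 Q11794 (allL N11794 (tt N10723 F38960) (tt N11830 (iv F39090)) (tt N12199 (iv F40640)) (tt N10687 F38961) (tt N12432 (iv F41653)) (tt N10686 (iv D11891)) (tt N11440 F38962) (tt N11941 (iv F39506)))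
theorem Q11796 : ∀ i, i < 11796 → P i := stepQ 11795 Q11795 (allL N11795 (tt N10724 F38963) (tt N10689 F38964) (tt N11609 F38965) (tt N11795 F38966) (tt N12433 (iv F41658)) (tt N11941 (iv F39505)) (tt N11607 F38967) (tt N10686 (iv D11892)))
theorem Q11797 : ∀ i, i < 11797 → P i := stepQ 11796 Q11796 (allL N11796 (tt N10690 F38968) (tt N12433 (iv F41656)) (tt N12429 (iv F41637)) (tt N12434 D12531) (tt N10689 F38969) (tt N12384 (iv F41435)) (tt N12404 (iv F41526)) (tt N10688 (iv D11893)))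
theorem Q11798 : ∀ i, i < 11798 → P i := stepQ 11797 Q11797 (allL N11797 (tt N12434 (iv F41660)) (tt N10728 F38970) (tt N12435 D12532) (tt N10690 (iv D11894)) (tt N11797 F38971) (tt N12385 (iv F41439)) (tt N12436 D12533) (tt N12416 (iv F41578)))
theorem Q11799 : ∀ i, i < 11799 → P i := stepQ 11798 Q11798 (allL N11798 (tt N12404 (iv F41523)) (tt N10729 F38972) (tt N12158 (iv F40471)) (tt N12436 (iv F41670)) (tt N10691 F38973) (tt N12159 (iv F40478)) (tt N10690 (iv D11895)) (tt N12184 (iv F40586)))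
theorem Q11800 : ∀ i, i < 11800 → P i := stepQ 11799 Q11799 (allL N11799 (tt N11454 F38974) (tt N10731 F38975) (tt N10692 (iv D11896)) (tt N11969 (iv F39592)) (tt N11562 F38976) (tt N12116 (iv F40263)) (tt N10696 F38977) (tt N11214 (iv F38978)))
theorem Q11801 : ∀ i, i < 11801 → P i := stepQ 11800 Q11800 (allL N11800 (tt N11463 F38979) (tt N10693 F38980) (tt N11214 F38981) (tt N11921 (iv F39428)) (tt N12076 (iv F40089)) (tt N12117 (iv F40271)) (tt N11356 F38982) (tt N10692 (iv D11897)))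
theorem Q11802 : ∀ i, i < 11802 → P i := stepQ 11801 Q11801 (allL N11801 (tt N11203 F38983) (tt N11921 (iv F39426)) (tt N11566 F38984) (tt N10693 (iv D11898)) (tt N12437 D12534) (tt N10694 F38985) (tt N11919 (iv F39423)) (tt N11492 F38986))
theorem Q11803 : ∀ i, i < 11803 → P i := stepQ 11802 Q11802 (allL N11802 (tt N11224 F38987) (tt N12120 (iv F40286)) (tt N11767 F38988) (tt N12186 (iv F40590)) (tt N10694 (iv D11899)) (tt N12437 (iv F41674)) (tt N10972 F38989) (tt N11493 F38990))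
theorem Q11804 : ∀ i, i < 11804 → P i := stepQ 11803 Q11803 (allL N11803 (tt N11447 F38991) (tt N10733 F38992) (tt N12097 (iv F40166)) (tt N10696 (iv D11900)) (tt N12438 D12535) (tt N10697 F38993) (tt N11969 (iv F39594)) (tt N11352 F38994))
theorem Q11805 : ∀ i, i < 11805 → P i := stepQ 11804 Q11804 (allL N11804 (tt N11445 F38995) (tt N10698 F38996) (tt N12096 (iv F40163)) (tt N11563 F38997) (tt N10697 (iv D11901)) (tt N12438 (iv F41679)) (tt N12169 (iv F40524)) (tt N11351 F38998))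
theorem Q11806 : ∀ i, i < 11806 → P i := stepQ 11805 Q11805 (allL N11805 (tt N11296 F38999) (tt N11080 F39000) (tt N10699 (iv D11902)) (tt N10977 F39001) (tt N12439 D12536) (tt N11993 (iv F39702)) (tt N11329 F39002) (tt N11992 F39698))
theorem Q11807 : ∀ i, i < 11807 → P i := stepQ 11806 Q11806 (allL N11806 (tt N12197 (iv F40629)) (tt N10701 F39003) (tt N12439 (iv F41683)) (tt N10722 F39004) (tt N10699 (iv D11903)) (tt N12336 (iv F41219)) (tt N12171 (iv F40533)) (tt N12440 D12537))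
theorem Q11808 : ∀ i, i < 11808 → P i := stepQ 11807 Q11807 (allL N11807 (tt N12198 (iv F40633)) (tt N10746 F39005) (tt N11993 (iv F39700)) (tt N10700 F39006) (tt N12336 (iv F41218)) (tt N10699 (iv D11904)) (tt N10956 F39007) (tt N11990 (iv F39691)))
theorem Q11809 : ∀ i, i < 11809 → P i := stepQ 11808 Q11808 (allL N11808 (tt N12193 (iv F40615)) (tt N10702 F39008) (tt N11992 (iv F39696)) (tt N11808 F39009) (tt N12440 (iv F41687)) (tt N11990 (iv F39692)) (tt N12371 (iv F41375)) (tt N10699 (iv D11905)))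
theorem Q11810 : ∀ i, i < 11810 → P i := stepQ 11809 Q11809 (allL N11809 (tt N10703 F39010) (tt N12440 (iv F41686)) (tt N10771 F39011) (tt N10784 (iv F39014)) (tt N10702 F39012) (tt N10748 F39013) (tt N12441 D12538) (tt N10701 (iv D11906)))
theorem Q11811 : ∀ i, i < 11811 → P i := stepQ 11810 Q11810 (allL N11810 (tt N10704 F39015) (tt N12371 (iv F41376)) (tt N11348 F39016) (tt N11810 F39017) (tt N12441 (iv F41692)) (tt N12374 (iv F41387)) (tt N10702 (iv D11907)) (tt N12174 (iv F40544)))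
theorem Q11812 : ∀ i, i < 11812 → P i := stepQ 11811 Q11811 (allL N11811 (tt N10784 F39018) (tt N12416 (iv F41576)) (tt N10781 F39019) (tt N10703 (iv D11908)) (tt N11811 F39020) (tt N10750 F39021) (tt N12442 D12539) (tt N10728 F39022))
theorem Q11813 : ∀ i, i < 11813 → P i := stepQ 11812 Q11812 (allL N11812 (tt N12441 (iv F41689)) (tt N12093 (iv F40152)) (tt N11350 F39023) (tt N12442 (iv F41695)) (tt N10704 F39024) (tt N12443 D12540) (tt N10703 (iv D11909)) (tt N12176 (iv F40552)))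
theorem Q11814 : ∀ i, i < 11814 → P i := stepQ 11813 Q11813 (allL N11813 (tt N12374 (iv F41384)) (tt N10851 F39028) (tt N11349 F39025) (tt N11813 F39026) (tt N12443 (iv F41698)) (tt N10704 (iv D11910)) (tt N10752 F39027) (tt N12177 (iv F40556)))
theorem Q11815 : ∀ i, i < 11815 → P i := stepQ 11814 Q11814 (allL N11814 (tt N11772 F39029) (tt N11929 (iv F39455)) (tt N10711 F39030) (tt N12409 (iv F41547)) (tt N10707 F39031) (tt N11925 (iv F39440)) (tt N12444 D12541) (tt N10706 (iv D11911)))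
theorem Q11816 : ∀ i, i < 11816 → P i := stepQ 11815 Q11815 (allL N11815 (tt N11683 F39032) (tt N11721 F39033) (tt N10712 F39034) (tt N11815 F39035) (tt N12444 (iv F41704)) (tt N12000 (iv F39734)) (tt N10707 (iv D11912)) (tt N10720 F39036))
theorem Q11817 : ∀ i, i < 11817 → P i := stepQ 11816 Q11816 (allL N11816 (tt N11290 F39037) (tt N11687 F39038) (tt N10708 (iv D11913)) (tt N10978 F39039) (tt N12445 D12542) (tt N11298 F39040) (tt N10721 F39041) (tt N10969 F39042))
theorem Q11818 : ∀ i, i < 11818 → P i := stepQ 11817 Q11817 (allL N11817 (tt N12423 (iv F41607)) (tt N10709 F39043) (tt N12445 (iv F41708)) (tt N12171 (iv F40532)) (tt N10708 (iv D11914)) (tt N12161 (iv F40487)) (tt N10722 F39044) (tt N12162 (iv F40494)))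
theorem Q11819 : ∀ i, i < 11819 → P i := stepQ 11818 Q11818 (allL N11818 (tt N10711 F39045) (tt N12162 (iv F40489)) (tt N11772 F39046) (tt N12446 D12543) (tt N10710 F39047) (tt N12019 (iv F39821)) (tt N12447 D12544) (tt N10709 (iv D11915)))
theorem Q11820 : ∀ i, i < 11820 → P i := stepQ 11819 Q11819 (allL N11819 (tt N10712 F39048) (tt N10937 F39049) (tt N11683 F39050) (tt N10935 F39051) (tt N12447 (iv F41722)) (tt N11998 (iv F39725)) (tt N10710 (iv D11916)) (tt N10727 F39052))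
theorem Q11821 : ∀ i, i < 11821 → P i := stepQ 11820 Q11820 (allL N11820 (tt N12446 (iv F41713)) (tt N12425 (iv F41617)) (tt N12448 D12545) (tt N10711 (iv D11917)) (tt N11697 F39053) (tt N11696 F39054) (tt N12015 (iv F39801)) (tt N12175 (iv F40547)))
theorem Q11822 : ∀ i, i < 11822 → P i := stepQ 11821 Q11821 (allL N11821 (tt N12447 (iv F41718)) (tt N12184 (iv F40582)) (tt N12444 (iv F41703)) (tt N12015 (iv F39799)) (tt N10712 F39055) (tt N12001 (iv F39739)) (tt N10711 (iv D11918)) (tt N10729 F39056))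
theorem Q11823 : ∀ i, i < 11823 → P i := stepQ 11822 Q11822 (allL N11822 (tt N11413 F39057) (tt N10758 F39058) (tt N11363 F39059) (tt N10713 (iv D11919)) (tt N12449 D12546) (tt N11364 F39060) (tt N10715 F39061) (tt N12128 (iv F40328)))
theorem Q11824 : ∀ i, i < 11824 → P i := stepQ 11823 Q11823 (allL N11823 (tt N10715 F39062) (tt N12312 (iv F41108)) (tt N12145 (iv F40407)) (tt N10714 (iv D11920)) (tt N12450 D12547) (tt N10716 F39063) (tt N11413 F39064) (tt N11713 F39065))
theorem Q11825 : ∀ i, i < 11825 → P i := stepQ 11824 Q11824 (allL N11824 (tt N12450 (iv F41734)) (tt N10766 F39066) (tt N12426 (iv F41621)) (tt N12137 (iv F40373)) (tt N10715 (iv D11921)) (tt N10717 F39067) (tt N12449 (iv F41733)) (tt N12451 D12548))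
theorem Q11826 : ∀ i, i < 11826 → P i := stepQ 11825 Q11825 (allL N11825 (tt N11713 F39068) (tt N10767 F39069) (tt N12427 (iv F41626)) (tt N11712 F39070) (tt N12451 (iv F41740)) (tt N10718 F39071) (tt N11776 F39072) (tt N10715 (iv D11922)))
theorem Q11827 : ∀ i, i < 11827 → P i := stepQ 11826 Q11826 (allL N11826 (tt N10717 F39073) (tt N11725 F39074) (tt N12147 (iv F40419)) (tt N12138 (iv F40378)) (tt N10716 (iv D11923)) (tt N12450 (iv F41735)) (tt N12144 (iv F40404)) (tt N11715 F39075))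
theorem Q11828 : ∀ i, i < 11828 → P i := stepQ 11827 Q11827 (allL N11827 (tt N11715 F39076) (tt N10719 F39077) (tt N12428 (iv F41632)) (tt N12452 D12549) (tt N10718 F39078) (tt N12451 (iv F41741)) (tt N11720 (iv F39079)) (tt N10717 (iv D11924)))
theorem Q11829 : ∀ i, i < 11829 → P i := stepQ 11828 Q11828 (allL N11828 (tt N10742 F39080) (tt N12452 (iv F41744)) (tt N10748 (iv F39084)) (tt N10719 (iv D11925)) (tt N10741 F39081) (tt N10771 F39082) (tt N12453 D12550) (tt N10740 F39083))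
theorem Q11830 : ∀ i, i < 11830 → P i := stepQ 11829 Q11829 (allL N11829 (tt N11698 F39085) (tt N11720 F39086) (tt N10729 F39087) (tt N12453 (iv F41752)) (tt N10720 F39088) (tt N12454 D12551) (tt N10719 (iv D11926)) (tt N12444 (iv F41705)))
theorem Q11831 : ∀ i, i < 11831 → P i := stepQ 11830 Q11830 (allL N11830 (tt N10942 F39089) (tt N11794 F39090) (tt N10730 F39091) (tt N11028 F39092) (tt N12454 (iv F41758)) (tt N10720 (iv D11927)) (tt N10773 F39093) (tt N12000 (iv F39735)))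
theorem Q11832 : ∀ i, i < 11832 → P i := stepQ 11831 Q11831 (allL N11831 (tt N12431 (iv F41647)) (tt N11700 F39094) (tt N10722 F39095) (tt N12167 (iv F40512)) (tt N10721 (iv D11928)) (tt N12175 (iv F40546)) (tt N12445 (iv F41711)) (tt N11696 F39096))
theorem Q11833 : ∀ i, i < 11833 → P i := stepQ 11832 Q11832 (allL N11832 (tt N12432 (iv F41652)) (tt N10776 F39097) (tt N12175 F40548) (tt N12336 (iv F41217)) (tt N10723 F39098) (tt N10722 (iv D11929)) (tt N12455 D12552) (tt N12448 (iv F41727)))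
theorem Q11834 : ∀ i, i < 11834 → P i := stepQ 11833 Q11833 (allL N11833 (tt N12433 (iv F41655)) (tt N10726 F39099) (tt N11696 F39100) (tt N12456 D12553) (tt N10724 F39101) (tt N12448 (iv F41726)) (tt N11695 (iv F39102)) (tt N10722 (iv D11930)))
theorem Q11835 : ∀ i, i < 11835 → P i := stepQ 11834 Q11834 (allL N11834 (tt N11440 F39103) (tt N10778 F39104) (tt N12200 (iv F40646)) (tt N10725 F39105) (tt N12455 (iv F41763)) (tt N11438 F39106) (tt N10723 (iv D11931)) (tt N12203 (iv F40664)))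
theorem Q11836 : ∀ i, i < 11836 → P i := stepQ 11835 Q11835 (allL N11835 (tt N11941 (iv F39503)) (tt N10779 F39107) (tt N11697 F39108) (tt N11835 F39109) (tt N12448 (iv F41725)) (tt N10724 F39110) (tt N11938 (iv F39498)) (tt N10723 (iv D11932)))
theorem Q11837 : ∀ i, i < 11837 → P i := stepQ 11836 Q11836 (allL N11836 (tt N10728 F39111) (tt N12456 (iv F41765)) (tt N10750 F39112) (tt N10726 (iv D11933)) (tt N11836 F39113) (tt N10781 F39114) (tt N12457 D12554) (tt N10784 F39115))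
theorem Q11838 : ∀ i, i < 11838 → P i := stepQ 11837 Q11837 (allL N11837 (tt N10729 F39116) (tt N11695 F39117) (tt N11698 F39118) (tt N12457 (iv F41772)) (tt N10727 F39119) (tt N12364 (iv F41343)) (tt N10726 (iv D11934)) (tt N12447 (iv F41724)))
theorem Q11839 : ∀ i, i < 11839 → P i := stepQ 11838 Q11838 (allL N11838 (tt N10750 F39120) (tt N12458 D12555) (tt N10728 (iv D11935)) (tt N10748 F39121) (tt N11838 F39122) (tt N10784 F39123) (tt N12459 D12556) (tt N10781 F39124))
theorem Q11840 : ∀ i, i < 11840 → P i := stepQ 11839 Q11839 (allL N11839 (tt N12457 (iv F41769)) (tt N12436 (iv F41668)) (tt N12459 (iv F41780)) (tt N10729 F39125) (tt N11839 F39126) (tt N12460 D12557) (tt N10728 (iv D11936)) (tt N12461 D12558))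
theorem Q11841 : ∀ i, i < 11841 → P i := stepQ 11840 Q11840 (allL N11840 (tt N12364 (iv F41340)) (tt N12006 (iv F39759)) (tt N12454 (iv F41757)) (tt N12460 (iv F41783)) (tt N10730 F39127) (tt N10729 (iv D11937)) (tt N10786 F39128) (tt N12001 (iv F39740)))
theorem Q11842 : ∀ i, i < 11842 → P i := stepQ 11841 Q11841 (allL N11841 (tt N11215 F39129) (tt N11969 (iv F39591)) (tt N11733 F39130) (tt N10731 (iv D11938)) (tt N12462 D12559) (tt N11217 F39131) (tt N10733 F39132) (tt N11863 (iv F39226)))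
theorem Q11843 : ∀ i, i < 11843 → P i := stepQ 11842 Q11842 (allL N11842 (tt N10733 F39133) (tt N11553 F39134) (tt N11629 F39135) (tt N10732 (iv D11939)) (tt N12463 D12560) (tt N10735 F39136) (tt N11215 F39137) (tt N11472 F39138))
theorem Q11844 : ∀ i, i < 11844 → P i := stepQ 11843 Q11843 (allL N11843 (tt N12463 (iv F41795)) (tt N12438 (iv F41677)) (tt N12390 (iv F41456)) (tt N12223 (iv F40753)) (tt N10733 (iv D11940)) (tt N10736 F39139) (tt N12462 (iv F41794)) (tt N12464 D12561))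
theorem Q11845 : ∀ i, i < 11845 → P i := stepQ 11844 Q11844 (allL N11844 (tt N11472 F39140) (tt N11352 F39141) (tt N10839 F39142) (tt N11353 F39143) (tt N12464 (iv F41806)) (tt N10737 F39144) (tt N11474 F39145) (tt N10733 (iv D11941)))
theorem Q11846 : ∀ i, i < 11846 → P i := stepQ 11845 Q11845 (allL N11845 (tt N10738 F39146) (tt N10735 F39147) (tt N11633 F39148) (tt N10734 (iv D11942)) (tt N12465 D12562) (tt N12466 D12563) (tt N11746 F39149) (tt N11702 F39150))
theorem Q11847 : ∀ i, i < 11847 → P i := stepQ 11846 Q11846 (allL N11846 (tt N10739 F39151) (tt N10872 F39152) (tt N10857 F39153) (tt N12466 (iv F41818)) (tt N10881 F39154) (tt N10734 (iv D11943)) (tt N10870 F39155) (tt N11103 F39156))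
theorem Q11848 : ∀ i, i < 11848 → P i := stepQ 11847 Q11847 (allL N11847 (tt N10736 F39157) (tt N12465 (iv F41810)) (tt N11632 F39158) (tt N12208 (iv F40685)) (tt N10735 (iv D11944)) (tt N12463 (iv F41799)) (tt N11747 F39159) (tt N11724 F39160))
theorem Q11849 : ∀ i, i < 11849 → P i := stepQ 11848 Q11848 (allL N11848 (tt N11724 F39161) (tt N10742 F39162) (tt N10838 F39163) (tt N11699 F39164) (tt N10737 F39165) (tt N12464 (iv F41807)) (tt N10837 F39166) (tt N10736 (iv D11945)))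
theorem Q11850 : ∀ i, i < 11850 → P i := stepQ 11849 Q11849 (allL N11849 (tt N11633 F39167) (tt N10744 F39168) (tt N10738 (iv D11946)) (tt N10858 F39169) (tt N12327 (iv F41177)) (tt N12467 D12564) (tt N10948 F39170) (tt N11328 (iv F39171)))
theorem Q11851 : ∀ i, i < 11851 → P i := stepQ 11850 Q11850 (allL N11850 (tt N12465 (iv F41809)) (tt N10740 F39172) (tt N12327 (iv F41176)) (tt N10763 F39173) (tt N10738 (iv D11947)) (tt N12468 D12565) (tt N10792 F39174) (tt N12452 (iv F41747)))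
theorem Q11852 : ∀ i, i < 11852 → P i := stepQ 11851 Q11851 (allL N11851 (tt N12466 (iv F41815)) (tt N11104 F39175) (tt N12467 (iv F41822)) (tt N10739 F39176) (tt N12468 (iv F41828)) (tt N10738 (iv D11948)) (tt N12469 D12566) (tt N12470 D12567))
theorem Q11853 : ∀ i, i < 11853 → P i := stepQ 11852 Q11852 (allL N11852 (tt N11702 F39177) (tt N10741 F39178) (tt N11328 F39179) (tt N11332 F39180) (tt N12452 (iv F41745)) (tt N12470 (iv F41838)) (tt N11326 (iv F39181)) (tt N10738 (iv D11949)))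
theorem Q11854 : ∀ i, i < 11854 → P i := stepQ 11853 Q11853 (allL N11853 (tt N10870 F39182) (tt N11105 F39183) (tt N10860 F39184) (tt N12469 (iv F41832)) (tt N10878 F39185) (tt N10896 F39186) (tt N10739 (iv D11950)) (tt N10869 F39187))
theorem Q11855 : ∀ i, i < 11855 → P i := stepQ 11854 Q11854 (allL N11854 (tt N10743 F39188) (tt N11326 F39189) (tt N10749 F39190) (tt N11331 F39191) (tt N12453 (iv F41753)) (tt N12471 D12568) (tt N10741 (iv D11951)) (tt N10842 F39192))
theorem Q11856 : ∀ i, i < 11856 → P i := stepQ 11855 Q11855 (allL N11855 (tt N12453 (iv F41749)) (tt N10837 F39193) (tt N10751 F39194) (tt N11698 F39195) (tt N10743 F39196) (tt N12472 D12569) (tt N10742 (iv D11952)) (tt N10843 F39197))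
theorem Q11857 : ∀ i, i < 11857 → P i := stepQ 11856 Q11856 (allL N11856 (tt N12471 (iv F41840)) (tt N11030 F39198) (tt N10752 F39199) (tt N11029 F39200) (tt N12472 (iv F41849)) (tt N10743 (iv D11953)) (tt N11349 F39201) (tt N10844 F39202))
theorem Q11858 : ∀ i, i < 11858 → P i := stepQ 11857 Q11857 (allL N11857 (tt N11935 (iv F39481)) (tt N10748 F39203) (tt N12330 (iv F41193)) (tt N12458 (iv F41774)) (tt N10747 F39204) (tt N12333 (iv F41205)) (tt N10967 F39205) (tt N10745 (iv D11954)))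
theorem Q11859 : ∀ i, i < 11859 → P i := stepQ 11858 Q11858 (allL N11858 (tt N10925 F39206) (tt N11990 (iv F39688)) (tt N10923 F39207) (tt N11858 F39208) (tt N12333 (iv F41204)) (tt N10747 F39209) (tt N11988 F39681) (tt N10746 (iv D11955)))
theorem Q11860 : ∀ i, i < 11860 → P i := stepQ 11859 Q11859 (allL N11859 (tt N10751 F39210) (tt N10967 F39211) (tt N12453 (iv F41751)) (tt N12459 (iv F41781)) (tt N10749 F39212) (tt N12473 D12570) (tt N10748 (iv D11956)) (tt N10959 F39213))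
theorem Q11861 : ∀ i, i < 11861 → P i := stepQ 11860 Q11860 (allL N11860 (tt N10752 F39214) (tt N12191 (iv F40610)) (tt N12471 (iv F41842)) (tt N11860 F39215) (tt N12473 (iv F41854)) (tt N10749 (iv D11957)) (tt N12374 (iv F41388)) (tt N10960 F39216))
theorem Q11862 : ∀ i, i < 11862 → P i := stepQ 11861 Q11861 (allL N11861 (tt N12459 (iv F41778)) (tt N10846 F39217) (tt N12457 (iv F41771)) (tt N10751 F39218) (tt N11861 F39219) (tt N12474 D12571) (tt N10750 (iv D11958)) (tt N12475 D12572))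
theorem Q11863 : ∀ i, i < 11863 → P i := stepQ 11862 Q11862 (allL N11862 (tt N12473 (iv F41852)) (tt N10850 F39220) (tt N12472 (iv F41847)) (tt N12474 (iv F41858)) (tt N10752 F39221) (tt N10751 (iv D11959)) (tt N12443 (iv F41699)) (tt N12002 (iv F39744)))
theorem Q11864 : ∀ i, i < 11864 → P i := stepQ 11863 Q11863 (allL N11863 (tt N10761 F39222) (tt N10883 (iv F39227)) (tt N10753 (iv D11960)) (tt N10881 F39223) (tt N12476 D12573) (tt N10754 F39224) (tt N10880 F39225) (tt N11841 F39226))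
theorem Q11865 : ∀ i, i < 11865 → P i := stepQ 11864 Q11864 (allL N11864 (tt N10762 F39228) (tt N12298 (iv F41056)) (tt N12476 (iv F41870)) (tt N12300 (iv F41068)) (tt N10753 (iv D11961)) (tt N10755 F39229) (tt N12303 (iv F41081)) (tt N12391 (iv F41464)))
theorem Q11866 : ∀ i, i < 11866 → P i := stepQ 11865 Q11865 (allL N11865 (tt N10763 F39230) (tt N12208 (iv F40683)) (tt N10755 F39231) (tt N12465 (iv F41812)) (tt N10754 (iv D11962)) (tt N12476 (iv F41871)) (tt N10791 F39232) (tt N12138 (iv F40380)))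
theorem Q11867 : ∀ i, i < 11867 → P i := stepQ 11866 Q11866 (allL N11866 (tt N10758 F39233) (tt N12246 (iv F40842)) (tt N10883 F39234) (tt N10756 (iv D11963)) (tt N12477 D12574) (tt N11650 F39235) (tt N10765 F39236) (tt N12275 (iv F40969)))
theorem Q11868 : ∀ i, i < 11868 → P i := stepQ 11867 Q11867 (allL N11867 (tt N10760 F39237) (tt N11520 F39238) (tt N12276 (iv F40972)) (tt N10757 (iv D11964)) (tt N12478 D12575) (tt N11631 F39239) (tt N11539 F39240) (tt N10819 F39241))
theorem Q11869 : ∀ i, i < 11869 → P i := stepQ 11868 Q11868 (allL N11868 (tt N12477 (iv F41874)) (tt N12449 (iv F41730)) (tt N12353 (iv F41292)) (tt N12310 (iv F41101)) (tt N10758 (iv D11965)) (tt N11968 (iv F39590)) (tt N10766 F39242) (tt N12479 D12576))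
theorem Q11870 : ∀ i, i < 11870 → P i := stepQ 11869 Q11869 (allL N11869 (tt N12275 (iv F40964)) (tt N12128 (iv F40325)) (tt N12245 (iv F40838)) (tt N12116 (iv F40265)) (tt N12479 (iv F41883)) (tt N11969 (iv F39593)) (tt N12168 (iv F40518)) (tt N10758 (iv D11966)))
theorem Q11871 : ∀ i, i < 11871 → P i := stepQ 11870 Q11870 (allL N11870 (tt N12276 (iv F40970)) (tt N12118 (iv F40275)) (tt N10760 (iv D11967)) (tt N12117 (iv F40273)) (tt N12480 D12577) (tt N11921 (iv F39429)) (tt N11749 F39243) (tt N12255 (iv F40885)))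
theorem Q11872 : ∀ i, i < 11872 → P i := stepQ 11871 Q11871 (allL N11871 (tt N12478 (iv F41878)) (tt N10762 F39244) (tt N12480 (iv F41884)) (tt N12307 (iv F41094)) (tt N10760 (iv D11968)) (tt N11922 (iv F39432)) (tt N11750 F39245) (tt N12341 F41246))
theorem Q11873 : ∀ i, i < 11873 → P i := stepQ 11872 Q11872 (allL N11872 (tt N12476 (iv F41868)) (tt N12309 (iv F41097)) (tt N10762 F39246) (tt N12468 (iv F41827)) (tt N10761 (iv D11969)) (tt N10763 F39247) (tt N12263 F40919) (tt N12137 (iv F40375)))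
theorem Q11874 : ∀ i, i < 11874 → P i := stepQ 11873 Q11873 (allL N11873 (tt N12312 (iv F41107)) (tt N10765 F39248) (tt N12299 (iv F41062)) (tt N10764 (iv D11970)) (tt N12481 D12578) (tt N11496 F39249) (tt N12246 (iv F40845)) (tt N12482 D12579))
theorem Q11875 : ∀ i, i < 11875 → P i := stepQ 11874 Q11874 (allL N11874 (tt N10766 F39250) (tt N12481 (iv F41886)) (tt N10882 F39251) (tt N12290 (iv F41025)) (tt N10765 (iv D11971)) (tt N10768 F39252) (tt N12477 (iv F41877)) (tt N12483 D12580))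
theorem Q11876 : ∀ i, i < 11876 → P i := stepQ 11875 Q11875 (allL N11875 (tt N10767 F39253) (tt N12482 (iv F41889)) (tt N10875 F39254) (tt N11068 F39255) (tt N12483 (iv F41896)) (tt N10769 F39256) (tt N11131 (iv F39257)) (tt N10765 (iv D11972)))
theorem Q11877 : ∀ i, i < 11877 → P i := stepQ 11876 Q11876 (allL N11876 (tt N12483 (iv F41894)) (tt N12451 (iv F41739)) (tt N12220 (iv F40739)) (tt N12484 D12581) (tt N10767 F39258) (tt N10770 F39259) (tt N12239 (iv F40819)) (tt N10766 (iv D11973)))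
theorem Q11878 : ∀ i, i < 11878 → P i := stepQ 11877 Q11877 (allL N11877 (tt N10770 F39260) (tt N11424 F39261) (tt N10876 F39262) (tt N11433 (iv F39265)) (tt N10769 F39263) (tt N12483 (iv F41897)) (tt N11067 F39264) (tt N10768 (iv D11974)))
theorem Q11879 : ∀ i, i < 11879 → P i := stepQ 11878 Q11878 (allL N11878 (tt N11433 F39266) (tt N10771 F39267) (tt N12485 D12582) (tt N10770 (iv D11975)) (tt N11102 F39268) (tt N12484 (iv F41902)) (tt N11431 F39269) (tt N11106 F39270))
theorem Q11880 : ∀ i, i < 11880 → P i := stepQ 11879 Q11879 (allL N11879 (tt N11350 F39271) (tt N11431 F39272) (tt N12441 (iv F41690)) (tt N10772 F39273) (tt N11348 F39274) (tt N12486 D12583) (tt N10771 (iv D11976)) (tt N12236 (iv F40807)))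
theorem Q11881 : ∀ i, i < 11881 → P i := stepQ 11880 Q11880 (allL N11880 (tt N11769 F39275) (tt N12237 (iv F40808)) (tt N10786 F39276) (tt N12486 (iv F41909)) (tt N10773 F39277) (tt N10772 (iv D11977)) (tt N12454 (iv F41759)) (tt N11987 (iv F39677)))
theorem Q11882 : ∀ i, i < 11882 → P i := stepQ 11881 Q11881 (allL N11881 (tt N10950 F39278) (tt N11524 F39279) (tt N10777 F39280) (tt N11974 (iv F39614)) (tt N10775 F39281) (tt N11971 (iv F39602)) (tt N12487 D12584) (tt N10774 (iv D11978)))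
theorem Q11883 : ∀ i, i < 11883 → P i := stepQ 11882 Q11882 (allL N11882 (tt N10951 F39282) (tt N11345 F39283) (tt N10780 F39284) (tt N11032 F39285) (tt N12487 (iv F41915)) (tt N12488 D12585) (tt N10775 (iv D11979)) (tt N11689 F39286))
theorem Q11884 : ∀ i, i < 11884 → P i := stepQ 11883 Q11883 (allL N11883 (tt N12009 (iv F39772)) (tt N12455 (iv F41761)) (tt N11986 (iv F39671)) (tt N10955 F39287) (tt N10778 F39288) (tt N10945 F39289) (tt N10776 (iv D11980)) (tt N12489 D12586))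
theorem Q11885 : ∀ i, i < 11885 → P i := stepQ 11884 Q11884 (allL N11884 (tt N11989 (iv F39682)) (tt N12448 (iv F41728)) (tt N11971 (iv F39600)) (tt N12490 D12587) (tt N10779 F39290) (tt N10777 F39291) (tt N12491 D12588) (tt N10776 (iv D11981)))
theorem Q11886 : ∀ i, i < 11886 → P i := stepQ 11885 Q11885 (allL N11885 (tt N12369 (iv F41363)) (tt N10781 F39292) (tt N12492 D12589) (tt N10777 (iv D11982)) (tt N11885 F39293) (tt N12490 (iv F41932)) (tt N12493 D12590) (tt N12458 (iv F41776)))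
theorem Q11887 : ∀ i, i < 11887 → P i := stepQ 11886 Q11886 (allL N11886 (tt N12370 (iv F41368)) (tt N10782 F39294) (tt N12487 (iv F41914)) (tt N12493 (iv F41939)) (tt N10780 F39295) (tt N12494 D12591) (tt N10777 (iv D11983)) (tt N12012 (iv F39790)))
theorem Q11888 : ∀ i, i < 11888 → P i := stepQ 11887 Q11887 (allL N11887 (tt N10956 F39296) (tt N12203 (iv F40662)) (tt N11694 F39297) (tt N10947 F39298) (tt N12489 (iv F41927)) (tt N10946 F39299) (tt N12198 (iv F40636)) (tt N10778 (iv D11984)))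
theorem Q11889 : ∀ i, i < 11889 → P i := stepQ 11888 Q11888 (allL N11888 (tt N11990 (iv F39687)) (tt N11938 F39499) (tt N11972 (iv F39606)) (tt N11888 F39300) (tt N12491 (iv F41933)) (tt N12193 (iv F40618)) (tt N10779 (iv D11985)) (tt N12198 (iv F40637)))
theorem Q11890 : ∀ i, i < 11890 → P i := stepQ 11889 Q11889 (allL N11889 (tt N12371 (iv F41372)) (tt N12091 (iv F40146)) (tt N12488 (iv F41919)) (tt N11889 F39301) (tt N12494 (iv F41941)) (tt N10780 (iv D11986)) (tt N12193 (iv F40619)) (tt N12013 (iv F39794)))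
theorem Q11891 : ∀ i, i < 11891 → P i := stepQ 11890 Q11890 (allL N11890 (tt N10785 F39302) (tt N12493 (iv F41938)) (tt N12442 (iv F41694)) (tt N10782 F39303) (tt N11890 F39304) (tt N11895 (iv F39318)) (tt N10781 (iv D11987)) (tt N11894 F39314))
theorem Q11892 : ∀ i, i < 11892 → P i := stepQ 11891 Q11891 (allL N11891 (tt N10786 F39305) (tt N12365 (iv F41346)) (tt N11769 F39306) (tt N11895 (iv F39316)) (tt N10783 F39307) (tt N10782 (iv D11988)) (tt N12364 (iv F41344)) (tt N11622 F39308))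
theorem Q11893 : ∀ i, i < 11893 → P i := stepQ 11892 Q11892 (allL N11892 (tt N12495 D12592) (tt N10784 (iv D11989)) (tt N12393 (iv F41470)) (tt N12440 F41688) (tt N11892 F39309) (tt N12408 (iv F41544)) (tt N12496 D12593) (tt N12456 (iv F41768)))
theorem Q11894 : ∀ i, i < 11894 → P i := stepQ 11893 Q11893 (allL N11893 (tt N12442 (iv F41693)) (tt N12496 (iv F41943)) (tt N10785 F39310) (tt N12441 (iv F41691)) (tt N11893 F39311) (tt N12497 D12594) (tt N10784 (iv D11990)) (tt N12498 D12595))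
theorem Q11895 : ∀ i, i < 11895 → P i := stepQ 11894 Q11894 (allL N11894 (tt N11895 (iv F39315)) (tt N12499 D12596) (tt N12497 (iv F41945)) (tt N10786 F39312) (tt N11894 F39313) (tt N10785 (iv D11991)) (tt N12460 (iv F41785)) (tt N11890 (iv F39314)))
theorem Q11896 : ∀ i, i < 11896 → P i := stepQ 11895 Q11895 (allL N11895 (tt N11894 F39315) (tt N12396 (iv F41480)) (tt N12498 (iv F41950)) (tt N11891 F39316) (tt N11895 F39317) (tt N11890 F39318) (tt N12475 (iv F41867)) (tt N10785 (iv D11992)))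
theorem Q11897 : ∀ i, i < 11897 → P i := stepQ 11896 Q11896 (allL N11896 (tt N12410 (iv F41549)) (tt N10786 (iv D11993)) (tt N12500 D12597) (tt N12499 (iv F41955)) (tt N10787 F39319) (tt N12397 (iv F41486)) (tt N12006 (iv F39762)) (tt N11994 F39707))
theorem Q11898 : ∀ i, i < 11898 → P i := stepQ 11897 Q11897 (allL N11897 (tt N11995 (iv F39708)) (tt N12177 (iv F40553)) (tt N10787 (iv D11994)) (tt N11976 (iv F39626)) (tt N12500 (iv F41958)) (tt N11975 F39622) (tt N11978 (iv F39637)) (tt N10851 F39320))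
theorem Q11899 : ∀ i, i < 11899 → P i := stepQ 11898 Q11898 (allL N11898 (tt N12211 (iv F40695)) (tt N12337 (iv F41222)) (tt N12206 (iv F40674)) (tt N12340 (iv F41240)) (tt N10788 (iv D11995)) (tt N10789 F39321) (tt N12392 (iv F41468)) (tt N10818 F39322))
theorem Q11900 : ∀ i, i < 11900 → P i := stepQ 11899 Q11899 (allL N11899 (tt N11516 F39323) (tt N10791 F39324) (tt N11366 F39325) (tt N11747 F39326) (tt N10790 (iv D11996)) (tt N11748 F39327) (tt N12208 (iv F40686)) (tt N10826 F39328))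
theorem Q11901 : ∀ i, i < 11901 → P i := stepQ 11900 Q11900 (allL N11900 (tt N10792 F39329) (tt N11747 F39330) (tt N12344 (iv F41253)) (tt N10791 (iv D11997)) (tt N11746 F39331) (tt N12339 (iv F41237)) (tt N12465 (iv F41813)) (tt N11756 (iv F39332)))
theorem Q11902 : ∀ i, i < 11902 → P i := stepQ 11901 Q11901 (allL N11901 (tt N11756 F39333) (tt N10958 F39334) (tt N10962 F39335) (tt N10852 F39336) (tt N10957 F39337) (tt N11680 F39338) (tt N12501 D12598) (tt N10792 (iv D11998)))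
theorem Q11903 : ∀ i, i < 11903 → P i := stepQ 11902 Q11902 (allL N11902 (tt N11383 (iv F39343)) (tt N10794 (iv D11999)) (tt N11016 F39339) (tt N10796 F39340) (tt N12224 (iv F40758)) (tt N11902 F39341) (tt N11003 F39342) (tt N12201 (iv F40655)))
theorem Q11904 : ∀ i, i < 11904 → P i := stepQ 11903 Q11903 (allL N11903 (tt N10835 F39344) (tt N12201 (iv F40650)) (tt N11651 F39345) (tt N11205 F39346) (tt N12319 (iv F41142)) (tt N10795 F39347) (tt N12107 (iv F40219)) (tt N10794 (iv D12000)))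
theorem Q11905 : ∀ i, i < 11905 → P i := stepQ 11904 Q11904 (allL N11904 (tt N10816 F39348) (tt N11730 F39349) (tt N12266 (iv F40932)) (tt N10798 (iv D12001)) (tt N12502 D12599) (tt N10799 F39350) (tt N11369 F39351) (tt N10805 F39352))
theorem Q11906 : ∀ i, i < 11906 → P i := stepQ 11905 Q11905 (allL N11905 (tt N10822 F39353) (tt N10800 F39354) (tt N12356 (iv F41308)) (tt N11906 (iv F39360)) (tt N10799 (iv D12002)) (tt N12502 (iv F41969)) (tt N11624 F39355) (tt N10808 F39356))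
theorem Q11907 : ∀ i, i < 11907 → P i := stepQ 11906 Q11906 (allL N11906 (tt N10838 F39357) (tt N11624 F39358) (tt N11724 F39359) (tt N11905 F39360) (tt N10801 F39361) (tt N12503 D12600) (tt N10800 (iv D12003)) (tt N11632 F39362))
theorem Q11908 : ∀ i, i < 11908 → P i := stepQ 11907 Q11907 (allL N11907 (tt N10839 F39363) (tt N11377 F39364) (tt N11472 F39365) (tt N10802 F39366) (tt N12503 (iv F41976)) (tt N10801 (iv D12004)) (tt N11473 F39367) (tt N11629 F39368))
theorem Q11909 : ∀ i, i < 11909 → P i := stepQ 11908 Q11908 (allL N11908 (tt N11099 F39369) (tt N11103 F39370) (tt N10806 F39371) (tt N11436 F39372) (tt N10814 F39373) (tt N11451 F39374) (tt N10804 (iv D12005)) (tt N10872 F39375))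
theorem Q11910 : ∀ i, i < 11910 → P i := stepQ 11909 Q11909 (allL N11909 (tt N11599 F39376) (tt N11131 F39377) (tt N10805 (iv D12006)) (tt N11133 F39378) (tt N12504 D12601) (tt N10807 F39379) (tt N12482 (iv F41893)) (tt N12266 (iv F40935)))
theorem Q11911 : ∀ i, i < 11911 → P i := stepQ 11910 Q11910 (allL N11910 (tt N12337 (iv F41221)) (tt N11934 (iv F39478)) (tt N12504 (iv F41981)) (tt N10818 F39380) (tt N10805 (iv D12007)) (tt N10808 F39381) (tt N12505 D12602) (tt N12502 (iv F41971)))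
theorem Q11912 : ∀ i, i < 11912 → P i := stepQ 11911 Q11911 (allL N11911 (tt N12338 (iv F41227)) (tt N11618 F39382) (tt N12482 (iv F41890)) (tt N10806 F39383) (tt N12505 (iv F41985)) (tt N11546 F39384) (tt N10805 (iv D12008)) (tt N12299 (iv F41065)))
theorem Q11913 : ∀ i, i < 11913 → P i := stepQ 11912 Q11912 (allL N11912 (tt N10963 F39385) (tt N10807 (iv D12009)) (tt N10809 F39386) (tt N10968 F39387) (tt N12506 D12603) (tt N11128 F39388) (tt N10961 F39389) (tt N11317 F39390))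
theorem Q11914 : ∀ i, i < 11914 → P i := stepQ 11913 Q11913 (allL N11913 (tt N11600 F39391) (tt N12506 (iv F41988)) (tt N10808 F39392) (tt N12507 D12604) (tt N10807 (iv D12010)) (tt N12504 (iv F41982)) (tt N11602 F39393) (tt N12356 (iv F41311)))
theorem Q11915 : ∀ i, i < 11915 → P i := stepQ 11914 Q11914 (allL N11914 (tt N10809 (iv D12011)) (tt N10842 F39394) (tt N10963 F39395) (tt N11914 F39396) (tt N12501 (iv F41964)) (tt N11324 F39397) (tt N10957 F39398) (tt N11326 F39399))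
theorem Q11916 : ∀ i, i < 11916 → P i := stepQ 11915 Q11915 (allL N11915 (tt N12501 (iv F41960)) (tt N10810 F39400) (tt N12506 (iv F41989)) (tt N12508 D12605) (tt N10809 (iv D12012)) (tt N11773 F39401) (tt N11756 F39402) (tt N11703 F39403))
theorem Q11917 : ∀ i, i < 11917 → P i := stepQ 11916 Q11916 (allL N11916 (tt N10845 F39404) (tt N12508 (iv F42000)) (tt N10828 F39405) (tt N10810 (iv D12013)) (tt N11916 F39406) (tt N11732 F39407) (tt N11757 F39408) (tt N11727 F39409))
theorem Q11918 : ∀ i, i < 11918 → P i := stepQ 11917 Q11917 (allL N11917 (tt N11370 F39410) (tt N10815 F39411) (tt N11582 F39412) (tt N10812 (iv D12014)) (tt N12212 (iv F40703)) (tt N11917 F39413) (tt N10879 F39414) (tt N11560 F39415))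
theorem Q11919 : ∀ i, i < 11919 → P i := stepQ 11918 Q11918 (allL N11918 (tt N12502 (iv F41967)) (tt N10818 F39416) (tt N12315 (iv F41124)) (tt N11934 (iv F39479)) (tt N10816 (iv D12015)) (tt N10822 F39417) (tt N11620 F39418) (tt N12337 (iv F41226)))
theorem Q11920 : ∀ i, i < 11920 → P i := stepQ 11919 Q11919 (allL N11919 (tt N12132 (iv F40345)) (tt N10817 (iv D12016)) (tt N11778 F39419) (tt N11091 F39420) (tt N12509 D12606) (tt N11092 F39421) (tt N11801 F39423) (tt N11775 F39422))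
theorem Q11921 : ∀ i, i < 11921 → P i := stepQ 11920 Q11920 (allL N11920 (tt N12254 (iv F40877)) (tt N12509 (iv F42006)) (tt N10818 F39424) (tt N12510 D12607) (tt N10817 (iv D12017)) (tt N10821 F39425) (tt N12511 D12608) (tt N12206 (iv F40677)))
theorem Q11922 : ∀ i, i < 11922 → P i := stepQ 11921 Q11921 (allL N11921 (tt N12255 (iv F40881)) (tt N11801 F39426) (tt N10819 F39427) (tt N11800 F39428) (tt N12511 (iv F42017)) (tt N11870 F39429) (tt N10817 (iv D12018)) (tt N12276 (iv F40975)))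
theorem Q11923 : ∀ i, i < 11923 → P i := stepQ 11922 Q11922 (allL N11922 (tt N12341 (iv F41243)) (tt N11620 F39430) (tt N12511 (iv F42016)) (tt N12505 (iv F41984)) (tt N10819 F39431) (tt N11871 F39432) (tt N10818 (iv D12019)) (tt N12478 (iv F41882)))
theorem Q11924 : ∀ i, i < 11924 → P i := stepQ 11923 Q11923 (allL N11923 (tt N11515 F39433) (tt N10821 F39434) (tt N10826 F39435) (tt N12148 (iv F40424)) (tt N10820 (iv D12020)) (tt N12125 (iv F40309)) (tt N12156 (iv F40466)) (tt N11366 F39436))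
theorem Q11925 : ∀ i, i < 11925 → P i := stepQ 11924 Q11924 (allL N11924 (tt N12251 (iv F40863)) (tt N12148 (iv F40423)) (tt N12507 (iv F41996)) (tt N10821 (iv D12021)) (tt N12143 (iv F40398)) (tt N12510 (iv F42014)) (tt N12402 (iv F41516)) (tt N12142 F40394))
theorem Q11926 : ∀ i, i < 11926 → P i := stepQ 11925 Q11925 (allL N11925 (tt N10967 F39437) (tt N10824 F39438) (tt N11610 F39439) (tt N12512 D12609) (tt N10823 (iv D12022)) (tt N11814 F39440) (tt N11935 (iv F39484)) (tt N10910 F39441))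
theorem Q11927 : ∀ i, i < 11927 → P i := stepQ 11926 Q11926 (allL N11926 (tt N10846 F39442) (tt N12512 (iv F42020)) (tt N11732 F39443) (tt N10824 (iv D12023)) (tt N11926 F39444) (tt N10828 F39445) (tt N11936 (iv F39490)) (tt N11738 (iv F39446)))
theorem Q11928 : ∀ i, i < 11928 → P i := stepQ 11927 Q11927 (allL N11927 (tt N10826 F39447) (tt N10847 F39448) (tt N11515 F39449) (tt N12406 (iv F41537)) (tt N10825 (iv D12024)) (tt N12386 (iv F41444)) (tt N12159 (iv F40479)) (tt N11516 F39450))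
theorem Q11929 : ∀ i, i < 11929 → P i := stepQ 11928 Q11928 (allL N11928 (tt N12406 (iv F41534)) (tt N10828 F39451) (tt N12405 (iv F41530)) (tt N10826 (iv D12025)) (tt N11928 F39452) (tt N11762 (iv F39454)) (tt N12403 (iv F41521)) (tt N11757 F39453))
theorem Q11930 : ∀ i, i < 11930 → P i := stepQ 11929 Q11929 (allL N11929 (tt N12386 (iv F41440)) (tt N11814 F39455) (tt N12125 (iv F40307)) (tt N11762 F39456) (tt N10827 F39457) (tt N10826 (iv D12026)) (tt N12384 (iv F41436)) (tt N11748 F39458))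
theorem Q11931 : ∀ i, i < 11931 → P i := stepQ 11930 Q11930 (allL N11930 (tt N10852 F39459) (tt N11757 F39460) (tt N11727 F39461) (tt N11756 F39462) (tt N11930 F39463) (tt N11738 F39464) (tt N12508 (iv F42004)) (tt N10828 (iv D12027)))
theorem Q11932 : ∀ i, i < 11932 → P i := stepQ 11931 Q11931 (allL N11931 (tt N11381 F39465) (tt N10830 (iv D12028)) (tt N12104 (iv F40203)) (tt N10831 F39466) (tt N11399 F39467) (tt N11931 F39468) (tt N10834 F39469) (tt N11360 F39470))
theorem Q11933 : ∀ i, i < 11933 → P i := stepQ 11932 Q11932 (allL N11932 (tt N12319 (iv F41138)) (tt N12101 (iv F40183)) (tt N11398 F39471) (tt N12313 (iv F41115)) (tt N10835 F39472) (tt N10833 F39473) (tt N12106 (iv F40215)) (tt N10832 (iv D12029)))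
theorem Q11934 : ∀ i, i < 11934 → P i := stepQ 11933 Q11933 (allL N11933 (tt N10834 (iv D12030)) (tt N11383 F39474) (tt N12052 (iv F39978)) (tt N10836 F39475) (tt N12209 (iv F40690)) (tt N10855 F39476) (tt N11381 F39477) (tt N12051 (iv F39975)))
theorem Q11935 : ∀ i, i < 11935 → P i := stepQ 11934 Q11934 (allL N11934 (tt N12503 (iv F41972)) (tt N11910 F39478) (tt N12464 (iv F41804)) (tt N11918 F39479) (tt N10839 F39480) (tt N10838 (iv D12031)) (tt N12335 (iv F41215)) (tt N12390 (iv F41459)))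
theorem Q11936 : ∀ i, i < 11936 → P i := stepQ 11935 Q11935 (allL N11935 (tt N11857 F39481) (tt N10841 F39482) (tt N11677 F39483) (tt N12513 D12610) (tt N10840 (iv D12032)) (tt N11999 (iv F39729)) (tt N11925 F39484) (tt N11701 F39485))
theorem Q11937 : ∀ i, i < 11937 → P i := stepQ 11936 Q11936 (allL N11936 (tt N11732 F39486) (tt N12513 (iv F42026)) (tt N10846 F39487) (tt N10841 (iv D12033)) (tt N11936 F39488) (tt N10845 F39489) (tt N11926 F39490) (tt N11690 F39491))
theorem Q11938 : ∀ i, i < 11938 → P i := stepQ 11937 Q11937 (allL N11937 (tt N10843 F39492) (tt N12501 (iv F41961)) (tt N10959 F39493) (tt N12514 D12611) (tt N10842 (iv D12034)) (tt N12515 D12612) (tt N10958 F39494) (tt N12453 (iv F41754)))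
theorem Q11939 : ∀ i, i < 11939 → P i := stepQ 11938 Q11938 (allL N11938 (tt N10844 F39495) (tt N11888 (iv F39499)) (tt N10960 F39496) (tt N11938 F39497) (tt N12515 (iv F42037)) (tt N10842 (iv D12035)) (tt N11835 F39498) (tt N12471 (iv F41845)))
theorem Q11940 : ∀ i, i < 11940 → P i := stepQ 11939 Q11939 (allL N11939 (tt N12514 (iv F42031)) (tt N10845 F39500) (tt N12516 D12613) (tt N10843 (iv D12036)) (tt N11939 F39501) (tt N12517 D12614) (tt N12332 (iv F41201)) (tt N12518 D12615))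
theorem Q11941 : ∀ i, i < 11941 → P i := stepQ 11940 Q11940 (allL N11940 (tt N12515 (iv F42035)) (tt N11999 (iv F39727)) (tt N12002 (iv F39742)) (tt N12517 (iv F42042)) (tt N10844 F39502) (tt N10843 (iv D12037)) (tt N12519 D12616) (tt N12472 (iv F41851)))
theorem Q11942 : ∀ i, i < 11942 → P i := stepQ 11941 Q11941 (allL N11941 (tt N11835 F39503) (tt N12000 (iv F39731)) (tt N12003 (iv F39747)) (tt N11941 F39504) (tt N12519 (iv F42053)) (tt N11795 F39505) (tt N10844 (iv D12038)) (tt N11794 F39506))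
theorem Q11943 : ∀ i, i < 11943 → P i := stepQ 11942 Q11942 (allL N11942 (tt N11727 F39507) (tt N12518 (iv F42045)) (tt N10852 F39508) (tt N11684 F39509) (tt N11942 F39510) (tt N11690 F39511) (tt N12520 D12617) (tt N10845 (iv D12039)))
theorem Q11944 : ∀ i, i < 11944 → P i := stepQ 11943 Q11943 (allL N11943 (tt N11738 F39512) (tt N12475 (iv F41862)) (tt N11690 F39513) (tt N11680 F39514) (tt N11943 F39515) (tt N10852 F39516) (tt N12396 (iv F41484)) (tt N10846 (iv D12040)))
theorem Q11945 : ∀ i, i < 11945 → P i := stepQ 11944 Q11944 (allL N11944 (tt N10849 F39517) (tt N12406 (iv F41535)) (tt N12490 (iv F41930)) (tt N10847 (iv D12041)) (tt N11944 F39518) (tt N12492 (iv F41937)) (tt N12407 (iv F41542)) (tt N12332 (iv F41202)))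
theorem Q11946 : ∀ i, i < 11946 → P i := stepQ 11945 Q11945 (allL N11945 (tt N10850 F39519) (tt N12389 (iv F41452)) (tt N11974 (iv F39613)) (tt N12492 (iv F41935)) (tt N10848 F39520) (tt N10847 (iv D12042)) (tt N12397 (iv F41487)) (tt N11984 (iv F39663)))
theorem Q11947 : ∀ i, i < 11947 → P i := stepQ 11946 Q11946 (allL N11946 (tt N12490 (iv F41929)) (tt N12516 (iv F42040)) (tt N10849 (iv D12043)) (tt N11989 F39686) (tt N11946 F39521) (tt N12369 (iv F41367)) (tt N12408 (iv F41545)) (tt N12521 D12618))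
theorem Q11948 : ∀ i, i < 11948 → P i := stepQ 11947 Q11947 (allL N11947 (tt N12492 (iv F41934)) (tt N12474 (iv F41857)) (tt N12369 (iv F41365)) (tt N10850 F39522) (tt N11947 F39523) (tt N10849 (iv D12044)) (tt N12522 D12619) (tt N12376 (iv F41397)))
theorem Q11949 : ∀ i, i < 11949 → P i := stepQ 11948 Q11948 (allL N11948 (tt N12332 (iv F41198)) (tt N10852 F39524) (tt N12521 (iv F42062)) (tt N10958 F39525) (tt N11948 F39526) (tt N12376 (iv F41396)) (tt N12514 (iv F42034)) (tt N10849 (iv D12045)))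
theorem Q11950 : ∀ i, i < 11950 → P i := stepQ 11949 Q11949 (allL N11949 (tt N12397 F41488) (tt N12443 F41700) (tt N11994 (iv F39705)) (tt N12522 (iv F42067)) (tt N10851 F39527) (tt N12410 (iv F41551)) (tt N10850 (iv D12046)) (tt N12500 (iv F41959)))
theorem Q11951 : ∀ i, i < 11951 → P i := stepQ 11950 Q11950 (allL N11950 (tt N12508 (iv F41999)) (tt N12514 (iv F42032)) (tt N12520 (iv F42058)) (tt N12501 (iv F41963)) (tt N11950 F39528) (tt N12523 D12620) (tt N10852 (iv D12047)) (tt N12411 (iv F41555)))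
theorem Q11952 : ∀ i, i < 11952 → P i := stepQ 11951 Q11951 (allL N11951 (tt N10859 F39529) (tt N11400 F39530) (tt N12348 (iv F41267)) (tt N10857 F39531) (tt N11403 F39532) (tt N10856 (iv D12048)) (tt N11611 F39533) (tt N11418 F39534))
theorem Q11953 : ∀ i, i < 11953 → P i := stepQ 11952 Q11952 (allL N11952 (tt N12348 (iv F41265)) (tt N12039 (iv F39903)) (tt N10859 F39535) (tt N12467 (iv F41823)) (tt N11673 F39536) (tt N10858 (iv D12049)) (tt N11672 F39537) (tt N11422 F39538))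
theorem Q11954 : ∀ i, i < 11954 → P i := stepQ 11953 Q11953 (allL N11953 (tt N10884 F39539) (tt N12029 (iv F39861)) (tt N10864 F39540) (tt N11584 F39541) (tt N10862 F39542) (tt N10861 (iv D12050)) (tt N11580 F39543) (tt N11411 F39544))
theorem Q11955 : ∀ i, i < 11955 → P i := stepQ 11954 Q11954 (allL N11954 (tt N11372 F39545) (tt N10862 (iv D12051)) (tt N12213 (iv F40708)) (tt N10863 F39546) (tt N12029 (iv F39863)) (tt N11954 F39547) (tt N11367 F39548) (tt N11410 F39549))
theorem Q11956 : ∀ i, i < 11956 → P i := stepQ 11955 Q11955 (allL N11955 (tt N12219 (iv F40734)) (tt N12037 (iv F39891)) (tt N11411 F39550) (tt N12283 (iv F40998)) (tt N10867 F39551) (tt N10865 F39552) (tt N12026 (iv F39850)) (tt N10864 (iv D12052)))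
theorem Q11957 : ∀ i, i < 11957 → P i := stepQ 11956 Q11956 (allL N11956 (tt N12218 (iv F40731)) (tt N10888 F39553) (tt N12318 (iv F41134)) (tt N10865 (iv D12053)) (tt N12524 D12621) (tt N12283 (iv F40999)) (tt N11591 F39554) (tt N10874 F39555))
theorem Q11958 : ∀ i, i < 11958 → P i := stepQ 11957 Q11957 (allL N11957 (tt N12039 (iv F39902)) (tt N10867 F39556) (tt N11141 F39557) (tt N12525 D12622) (tt N12037 (iv F39894)) (tt N10890 F39558) (tt N11170 F39559) (tt N10866 (iv D12054)))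
theorem Q11959 : ∀ i, i < 11959 → P i := stepQ 11958 Q11958 (allL N11958 (tt N11637 F39560) (tt N12525 (iv F42081)) (tt N11094 F39561) (tt N10867 (iv D12055)) (tt N12526 D12623) (tt N10868 F39562) (tt N12527 D12624) (tt N10871 F39563))
theorem Q11960 : ∀ i, i < 11960 → P i := stepQ 11959 Q11959 (allL N11959 (tt N12130 (iv F40335)) (tt N11170 F39564) (tt N11412 F39565) (tt N12527 (iv F42093)) (tt N12026 (iv F39849)) (tt N11334 F39566) (tt N10867 (iv D12056)) (tt N11140 F39567))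
theorem Q11961 : ∀ i, i < 11961 → P i := stepQ 11960 Q11960 (allL N11960 (tt N11636 F39568) (tt N10893 F39569) (tt N11096 F39570) (tt N12524 (iv F42078)) (tt N10868 (iv D12057)) (tt N12526 (iv F42088)) (tt N11314 F39571) (tt N10873 F39572))
theorem Q11962 : ∀ i, i < 11962 → P i := stepQ 11961 Q11961 (allL N11961 (tt N12469 (iv F41829)) (tt N10871 F39573) (tt N12528 D12625) (tt N10870 (iv D12058)) (tt N12529 D12626) (tt N10897 F39574) (tt N12466 (iv F41819)) (tt N12525 (iv F42085)))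
theorem Q11963 : ∀ i, i < 11963 → P i := stepQ 11962 Q11962 (allL N11962 (tt N12350 (iv F41278)) (tt N12529 (iv F42102)) (tt N12288 (iv F41013)) (tt N10882 F39575) (tt N10871 (iv D12059)) (tt N10873 F39576) (tt N12530 D12627) (tt N12526 (iv F42089)))
theorem Q11964 : ∀ i, i < 11964 → P i := stepQ 11963 Q11963 (allL N11963 (tt N12351 (iv F41283)) (tt N12466 (iv F41816)) (tt N12289 (iv F41019)) (tt N10872 F39577) (tt N12530 (iv F42106)) (tt N11553 F39578) (tt N10871 (iv D12060)) (tt N12531 D12628))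
theorem Q11965 : ∀ i, i < 11965 → P i := stepQ 11964 Q11964 (allL N11964 (tt N11997 F39720) (tt N11339 F39579) (tt N10874 (iv D12061)) (tt N11188 F39580) (tt N12532 D12629) (tt N12281 (iv F40989)) (tt N11578 F39581) (tt N12318 (iv F41137)))
theorem Q11966 : ∀ i, i < 11966 → P i := stepQ 11965 Q11965 (allL N11965 (tt N12216 (iv F40722)) (tt N10904 F39582) (tt N12532 (iv F42115)) (tt N10876 F39583) (tt N10874 (iv D12062)) (tt N12282 (iv F40994)) (tt N11579 F39584) (tt N12524 (iv F42080)))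
theorem Q11967 : ∀ i, i < 11967 → P i := stepQ 11966 Q11966 (allL N11966 (tt N12220 (iv F40738)) (tt N12262 (iv F40911)) (tt N12483 (iv F41895)) (tt N12282 (iv F40993)) (tt N10875 (iv D12063)) (tt N10876 F39585) (tt N12205 (iv F40672)) (tt N10882 F39586))
theorem Q11968 : ∀ i, i < 11968 → P i := stepQ 11967 Q11967 (allL N11967 (tt N12263 (iv F40915)) (tt N10882 F39587) (tt N12303 (iv F41078)) (tt N12529 (iv F42103)) (tt N10880 (iv D12064)) (tt N10909 F39588) (tt N12476 (iv F41872)) (tt N12262 (iv F40914)))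
theorem Q11969 : ∀ i, i < 11969 → P i := stepQ 11968 Q11968 (allL N11968 (tt N12353 (iv F41291)) (tt N12476 (iv F41869)) (tt N12477 (iv F41875)) (tt N12530 (iv F42105)) (tt N10883 F39589) (tt N11868 F39590) (tt N10882 (iv D12065)) (tt N12533 D12630))
theorem Q11970 : ∀ i, i < 11970 → P i := stepQ 11969 Q11969 (allL N11969 (tt N12245 (iv F40836)) (tt N11841 F39591) (tt N12275 (iv F40966)) (tt N11799 F39592) (tt N12533 (iv F42120)) (tt N11869 F39593) (tt N11803 F39594) (tt N10883 (iv D12066)))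
theorem Q11971 : ∀ i, i < 11971 → P i := stepQ 11970 Q11970 (allL N11970 (tt N11411 F39595) (tt N11401 F39596) (tt N12219 (iv F40735)) (tt N12025 (iv F39844)) (tt N10885 F39597) (tt N10886 F39598) (tt N12024 (iv F39839)) (tt N10884 (iv D12067)))
theorem Q11972 : ∀ i, i < 11972 → P i := stepQ 11971 Q11971 (allL N11971 (tt N10912 F39599) (tt N12524 (iv F42076)) (tt N11884 F39600) (tt N10893 F39601) (tt N10888 (iv D12068)) (tt N11881 F39602) (tt N12534 D12631) (tt N10904 F39603))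
theorem Q11973 : ∀ i, i < 11973 → P i := stepQ 11972 Q11972 (allL N11972 (tt N10913 F39604) (tt N11591 F39605) (tt N11888 F39606) (tt N10889 F39607) (tt N12534 (iv F42127)) (tt N12172 (iv F40537)) (tt N10888 (iv D12069)) (tt N12160 (iv F40485)))
theorem Q11974 : ∀ i, i < 11974 → P i := stepQ 11973 Q11973 (allL N11973 (tt N12038 (iv F39896)) (tt N10891 F39608) (tt N11114 F39609) (tt N10890 (iv D12070)) (tt N12295 (iv F41042)) (tt N12525 (iv F42083)) (tt N11112 F39610) (tt N10897 F39611))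
theorem Q11975 : ∀ i, i < 11975 → P i := stepQ 11974 Q11974 (allL N11974 (tt N10916 F39612) (tt N12295 (iv F41040)) (tt N11945 F39613) (tt N11881 F39614) (tt N10891 (iv D12071)) (tt N10893 F39615) (tt N12535 D12632) (tt N10900 F39616))
theorem Q11976 : ∀ i, i < 11976 → P i := stepQ 11975 Q11975 (allL N11975 (tt N10917 F39617) (tt N11112 F39618) (tt N11741 F39619) (tt N10892 F39620) (tt N12535 (iv F42132)) (tt N11897 (iv F39622)) (tt N10891 (iv D12072)) (tt N11761 F39621))
theorem Q11977 : ∀ i, i < 11977 → P i := stepQ 11976 Q11976 (allL N11976 (tt N10918 F39623) (tt N11341 F39624) (tt N11976 F39625) (tt N11897 F39626) (tt N12043 (iv F39926)) (tt N10892 (iv D12073)) (tt N10895 F39627) (tt N11976 F39628))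
theorem Q11978 : ∀ i, i < 11978 → P i := stepQ 11977 Q11977 (allL N11977 (tt N10919 F39629) (tt N11314 F39630) (tt N11758 F39631) (tt N12534 (iv F42126)) (tt N10894 F39632) (tt N12536 D12633) (tt N10893 (iv D12074)) (tt N11556 F39633))
theorem Q11979 : ∀ i, i < 11979 → P i := stepQ 11978 Q11978 (allL N11978 (tt N10920 F39634) (tt N12199 (iv F40639)) (tt N10933 F39635) (tt N10895 F39636) (tt N12536 (iv F42137)) (tt N10894 (iv D12075)) (tt N11897 F39637) (tt N10931 F39638))
theorem Q11980 : ∀ i, i < 11980 → P i := stepQ 11979 Q11979 (allL N11979 (tt N10897 F39639) (tt N10923 F39640) (tt N11671 F39641) (tt N10896 (iv D12076)) (tt N12292 (iv F41031)) (tt N12469 (iv F41833)) (tt N11670 F39642) (tt N12038 (iv F39901)))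
theorem Q11981 : ∀ i, i < 11981 → P i := stepQ 11980 Q11980 (allL N11980 (tt N11671 F39643) (tt N12320 (iv F41146)) (tt N10897 (iv D12077)) (tt N11117 F39644) (tt N12306 (iv F41090)) (tt N12528 (iv F42099)) (tt N11652 (iv F39646)) (tt N11114 F39645))
theorem Q11982 : ∀ i, i < 11982 → P i := stepQ 11981 Q11981 (allL N11981 (tt N12292 (iv F41028)) (tt N10900 F39647) (tt N12306 (iv F41089)) (tt N10909 F39648) (tt N10897 (iv D12078)) (tt N12529 (iv F42104)) (tt N12339 (iv F41238)) (tt N12295 (iv F41044)))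
theorem Q11983 : ∀ i, i < 11983 → P i := stepQ 11982 Q11982 (allL N11982 (tt N11670 F39649) (tt N10901 F39650) (tt N11652 F39651) (tt N10898 F39652) (tt N12339 (iv F41236)) (tt N11746 F39653) (tt N10897 (iv D12079)) (tt N11659 (iv F39654)))
theorem Q11984 : ∀ i, i < 11984 → P i := stepQ 11983 Q11983 (allL N11983 (tt N11771 F39655) (tt N10899 (iv D12080)) (tt N12320 (iv F41147)) (tt N10903 F39656) (tt N12537 D12634) (tt N11726 F39657) (tt N12413 (iv F41566)) (tt N11729 F39658))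
theorem Q11985 : ∀ i, i < 11985 → P i := stepQ 11984 Q11984 (allL N11984 (tt N10930 F39659) (tt N12537 (iv F42141)) (tt N10900 F39660) (tt N11606 F39661) (tt N10899 (iv D12081)) (tt N10902 F39662) (tt N12412 (iv F41560)) (tt N11945 F39663))
theorem Q11986 : ∀ i, i < 11986 → P i := stepQ 11985 Q11985 (allL N11985 (tt N10932 F39664) (tt N12339 (iv F41234)) (tt N12412 (iv F41557)) (tt N10910 F39665) (tt N10901 F39666) (tt N11219 F39667) (tt N10900 (iv D12082)) (tt N11760 (iv F39668)))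
theorem Q11987 : ∀ i, i < 11987 → P i := stepQ 11986 Q11986 (allL N11986 (tt N10945 F39669) (tt N11579 F39670) (tt N11883 F39671) (tt N10907 F39672) (tt N10905 F39673) (tt N12009 (iv F39777)) (tt N10904 (iv D12083)) (tt N12375 (iv F41394)))
theorem Q11988 : ∀ i, i < 11988 → P i := stepQ 11987 Q11987 (allL N11987 (tt N10955 F39674) (tt N12204 (iv F40665)) (tt N11623 F39675) (tt N12009 (iv F39775)) (tt N10908 F39676) (tt N10907 (iv D12084)) (tt N12008 F39770) (tt N11880 F39677))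
theorem Q11989 : ∀ i, i < 11989 → P i := stepQ 11988 Q11988 (allL N11988 (tt N12000 (iv F39730)) (tt N10911 (iv D12085)) (tt N11998 (iv F39723)) (tt N11988 F39678) (tt N12538 D12635) (tt N11683 F39679) (tt N11858 (iv F39681)) (tt N10942 F39680))
theorem Q11990 : ∀ i, i < 11990 → P i := stepQ 11989 Q11989 (allL N11989 (tt N11884 F39682) (tt N12538 (iv F42145)) (tt N10912 F39683) (tt N11946 (iv F39686)) (tt N10911 (iv D12086)) (tt N11688 F39684) (tt N12539 D12636) (tt N10943 F39685))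
theorem Q11991 : ∀ i, i < 11991 → P i := stepQ 11990 Q11990 (allL N11990 (tt N11888 F39687) (tt N11858 F39688) (tt N10913 F39689) (tt N11990 F39690) (tt N12539 (iv F42155)) (tt N11808 F39692) (tt N10911 (iv D12087)) (tt N11807 F39691))
theorem Q11992 : ∀ i, i < 11992 → P i := stepQ 11991 Q11991 (allL N11991 (tt N12534 (iv F42123)) (tt N11549 F39693) (tt N12539 (iv F42153)) (tt N10919 F39694) (tt N10913 F39695) (tt N12540 D12637) (tt N10912 (iv D12088)) (tt N12541 D12638))
theorem Q11993 : ∀ i, i < 11993 → P i := stepQ 11992 Q11992 (allL N11992 (tt N12172 (iv F40534)) (tt N12069 (iv F40059)) (tt N11808 F39696) (tt N10914 F39697) (tt N12540 (iv F42160)) (tt N10913 (iv D12089)) (tt N12013 (iv F39793)) (tt N11805 (iv F39698)))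
theorem Q11994 : ∀ i, i < 11994 → P i := stepQ 11993 Q11993 (allL N11993 (tt N12160 (iv F40481)) (tt N11477 F39699) (tt N11807 F39700) (tt N10915 F39701) (tt N12541 (iv F42166)) (tt N11805 F39702) (tt N10946 F39703) (tt N10913 (iv D12090)))
theorem Q11995 : ∀ i, i < 11995 → P i := stepQ 11994 Q11994 (allL N11994 (tt N12535 (iv F42128)) (tt N11623 F39704) (tt N11949 F39705) (tt N12012 (iv F39788)) (tt N10917 F39706) (tt N12542 D12639) (tt N10916 (iv D12091)) (tt N11896 (iv F39707)))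
theorem Q11996 : ∀ i, i < 11996 → P i := stepQ 11995 Q11995 (allL N11995 (tt N11897 F39708) (tt N11384 F39709) (tt N11761 F39710) (tt N10918 F39711) (tt N12542 (iv F42172)) (tt N10917 (iv D12092)) (tt N10920 F39712) (tt N11741 F39713))
theorem Q11997 : ∀ i, i < 11997 → P i := stepQ 11996 Q11996 (allL N11996 (tt N12536 (iv F42135)) (tt N12543 D12640) (tt N11760 F39714) (tt N12540 (iv F42159)) (tt N10920 F39715) (tt N10919 (iv D12093)) (tt N12542 (iv F42173)) (tt N12412 (iv F41561)))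
theorem Q11998 : ∀ i, i < 11998 → P i := stepQ 11997 Q11997 (allL N11997 (tt N11964 (iv F39720)) (tt N10920 (iv D12094)) (tt N11386 F39716) (tt N10921 F39717) (tt N12543 (iv F42177)) (tt N11505 F39718) (tt N11384 F39719) (tt N12413 (iv F41567)))
theorem Q11999 : ∀ i, i < 11999 → P i := stepQ 11998 Q11998 (allL N11998 (tt N10927 F39721) (tt N11670 F39722) (tt N11988 F39723) (tt N10924 F39724) (tt N12334 (iv F41210)) (tt N11819 F39725) (tt N10923 (iv D12095)) (tt N11679 F39726))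
theorem Q12000 : ∀ i, i < 12000 → P i := stepQ 11999 Q11999 (allL N11999 (tt N12333 (iv F41203)) (tt N11940 F39727) (tt N10926 F39728) (tt N12521 (iv F42063)) (tt N10925 (iv D12096)) (tt N11935 F39729) (tt N12544 D12641) (tt N12008 F39771))
theorem Q12001 : ∀ i, i < 12001 → P i := stepQ 12000 Q12000 (allL N12000 (tt N11988 F39730) (tt N11941 F39731) (tt N10927 F39732) (tt N12000 F39733) (tt N12544 (iv F42184)) (tt N11815 F39734) (tt N10925 (iv D12097)) (tt N11830 F39735))
theorem Q12002 : ∀ i, i < 12002 → P i := stepQ 12001 Q12001 (allL N12001 (tt N12334 (iv F41207)) (tt N10932 F39736) (tt N12544 (iv F42183)) (tt N10959 F39737) (tt N10927 F39738) (tt N11821 F39739) (tt N10926 (iv D12098)) (tt N11840 F39740))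
theorem Q12003 : ∀ i, i < 12003 → P i := stepQ 12002 Q12002 (allL N12002 (tt N12015 (iv F39798)) (tt N10930 F39741) (tt N11940 F39742) (tt N12447 (iv F41721)) (tt N10929 (iv D12099)) (tt N11617 F39743) (tt N12446 F41717) (tt N11862 F39744))
theorem Q12004 : ∀ i, i < 12004 → P i := stepQ 12003 Q12003 (allL N12003 (tt N11697 F39745) (tt N10931 F39746) (tt N11941 F39747) (tt N10936 F39748) (tt N12446 (iv F41715)) (tt N11609 F39749) (tt N10929 (iv D12100)) (tt N12199 (iv F40643)))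
theorem Q12005 : ∀ i, i < 12005 → P i := stepQ 12004 Q12004 (allL N12004 (tt N11606 F39750) (tt N12447 (iv F41719)) (tt N10964 F39751) (tt N10930 (iv D12101)) (tt N10937 F39752) (tt N10934 F39753) (tt N12162 (iv F40493)) (tt N11695 (iv F39754)))
theorem Q12006 : ∀ i, i < 12006 → P i := stepQ 12005 Q12005 (allL N12005 (tt N12412 (iv F41556)) (tt N12446 (iv F41714)) (tt N10932 F39755) (tt N12162 (iv F40491)) (tt N10931 F39756) (tt N11556 F39757) (tt N10930 (iv D12102)) (tt N12536 (iv F42139)))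
theorem Q12007 : ∀ i, i < 12007 → P i := stepQ 12006 Q12006 (allL N12006 (tt N11760 F39758) (tt N11840 F39759) (tt N12536 (iv F42136)) (tt N12545 D12642) (tt N10933 F39760) (tt N11758 F39761) (tt N11896 F39762) (tt N10932 (iv D12103)))
theorem Q12008 : ∀ i, i < 12008 → P i := stepQ 12007 Q12007 (allL N12007 (tt N12454 (iv F41755)) (tt N10943 F39763) (tt N12364 (iv F41342)) (tt N12472 (iv F41848)) (tt N10942 (iv D12104)) (tt N11698 F39764) (tt N11769 F39765) (tt N12538 (iv F42149)))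
theorem Q12009 : ∀ i, i < 12009 → P i := stepQ 12008 Q12008 (allL N12008 (tt N11621 F39766) (tt N12472 (iv F41846)) (tt N10952 F39767) (tt N10943 (iv D12105)) (tt N11030 F39768) (tt N11701 F39769) (tt N11987 (iv F39770)) (tt N11999 (iv F39771)))
theorem Q12010 : ∀ i, i < 12010 → P i := stepQ 12009 Q12009 (allL N12009 (tt N11883 F39772) (tt N11769 F39773) (tt N10945 F39774) (tt N11987 F39775) (tt N10944 F39776) (tt N11986 F39777) (tt N10943 (iv D12106)) (tt N12014 (iv F39796)))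
theorem Q12011 : ∀ i, i < 12011 → P i := stepQ 12010 Q12010 (allL N12010 (tt N12375 (iv F41390)) (tt N11441 F39778) (tt N12014 F39797) (tt N11439 F39779) (tt N10946 F39780) (tt N12489 (iv F41928)) (tt N12541 (iv F42168)) (tt N10945 (iv D12107)))
theorem Q12012 : ∀ i, i < 12012 → P i := stepQ 12011 Q12011 (allL N12011 (tt N10948 (iv D12108)) (tt N11603 F39781) (tt N11746 F39782) (tt N11031 F39783) (tt N12344 (iv F41254)) (tt N11652 F39784) (tt N11633 F39785) (tt N10961 F39786))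
theorem Q12013 : ∀ i, i < 12013 → P i := stepQ 12012 Q12012 (allL N12012 (tt N12487 (iv F41912)) (tt N10953 F39787) (tt N12370 (iv F41370)) (tt N11994 F39788) (tt N10951 F39789) (tt N12546 D12643) (tt N10950 (iv D12109)) (tt N11886 F39790))
theorem Q12014 : ∀ i, i < 12014 → P i := stepQ 12013 Q12013 (allL N12013 (tt N12488 (iv F41917)) (tt N11430 F39791) (tt N12371 (iv F41373)) (tt N11033 F39792) (tt N12546 (iv F42196)) (tt N10951 (iv D12110)) (tt N11992 F39793) (tt N11889 F39794))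
theorem Q12015 : ∀ i, i < 12015 → P i := stepQ 12014 Q12014 (allL N12014 (tt N12489 (iv F41923)) (tt N10955 (iv D12111)) (tt N12010 (iv F39797)) (tt N12455 (iv F41762)) (tt N10956 F39795) (tt N12375 (iv F41393)) (tt N12336 (iv F41220)) (tt N12009 F39796))
theorem Q12016 : ∀ i, i < 12016 → P i := stepQ 12015 Q12015 (allL N12015 (tt N12002 F39798) (tt N12414 (iv F41568)) (tt N12515 (iv F42036)) (tt N11821 F39799) (tt N10960 F39800) (tt N10959 (iv D12112)) (tt N11820 F39801) (tt N12473 (iv F41855)))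
theorem Q12017 : ∀ i, i < 12017 → P i := stepQ 12016 Q12016 (allL N12016 (tt N10962 F39802) (tt N11602 F39803) (tt N11756 F39804) (tt N11661 F39805) (tt N10961 (iv D12113)) (tt N11660 F39806) (tt N12506 (iv F41992)) (tt N12344 (iv F41257)))
theorem Q12018 : ∀ i, i < 12018 → P i := stepQ 12017 Q12017 (allL N12017 (tt N12506 (iv F41987)) (tt N10965 F39807) (tt N12501 (iv F41962)) (tt N11686 F39808) (tt N10963 F39809) (tt N11325 (iv F39810)) (tt N10962 (iv D12114)) (tt N11327 (iv F39811)))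
theorem Q12019 : ∀ i, i < 12019 → P i := stepQ 12018 Q12018 (allL N12018 (tt N11289 F39812) (tt N11686 F39813) (tt N12162 (iv F40490)) (tt N10965 F39814) (tt N10969 F39815) (tt N11297 F39816) (tt N10964 (iv D12115)) (tt N12445 (iv F41712)))
theorem Q12020 : ∀ i, i < 12020 → P i := stepQ 12019 Q12019 (allL N12019 (tt N11610 F39817) (tt N11327 F39818) (tt N10967 F39819) (tt N12331 (iv F41196)) (tt N10966 F39820) (tt N11818 F39821) (tt N12330 F41192) (tt N10965 (iv D12116)))
theorem Q12021 : ∀ i, i < 12021 → P i := stepQ 12020 Q12020 (allL N12020 (tt N12512 (iv F42019)) (tt N12459 (iv F41779)) (tt N12547 D12644) (tt N10967 (iv D12117)) (tt N12020 F39822) (tt N12415 (iv F41574)) (tt N12458 F41777) (tt N12545 (iv F42192)))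
theorem Q12022 : ∀ i, i < 12022 → P i := stepQ 12021 Q12021 (allL N12021 (tt N10972 F39823) (tt N11239 F39824) (tt N12399 (iv F41498)) (tt N12182 (iv F40575)) (tt N10970 (iv D12118)) (tt N12180 (iv F40566)) (tt N11224 F39825) (tt N12156 (iv F40467)))
theorem Q12023 : ∀ i, i < 12023 → P i := stepQ 12022 Q12022 (allL N12022 (tt N12399 (iv F41496)) (tt N11768 F39826) (tt N10972 F39827) (tt N11770 F39828) (tt N10971 (iv D12119)) (tt N12184 (iv F40584)) (tt N11767 F39829) (tt N12159 (iv F40480)))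
theorem Q12024 : ∀ i, i < 12024 → P i := stepQ 12023 Q12023 (allL N12023 (tt N10983 F39830) (tt N11588 F39831) (tt N10981 (iv D12120)) (tt N11667 F39832) (tt N11222 F39833) (tt N12354 (iv F41298)) (tt N12140 (iv F40389)) (tt N11251 F39834))
theorem Q12025 : ∀ i, i < 12025 → P i := stepQ 12024 Q12024 (allL N12024 (tt N10984 F39835) (tt N11189 F39836) (tt N12354 (iv F41295)) (tt N10982 F39837) (tt N11200 F39838) (tt N10981 (iv D12121)) (tt N11970 F39839) (tt N11248 F39840))
theorem Q12026 : ∀ i, i < 12026 → P i := stepQ 12025 Q12025 (allL N12025 (tt N10985 F39841) (tt N11190 F39842) (tt N11571 F39843) (tt N11970 F39844) (tt N11191 F39845) (tt N11286 F39846) (tt N10982 (iv D12122)) (tt N12313 (iv F41119)))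
theorem Q12027 : ∀ i, i < 12027 → P i := stepQ 12026 Q12026 (allL N12026 (tt N12354 (iv F41294)) (tt N12115 (iv F40255)) (tt N10984 F39847) (tt N11572 F39848) (tt N11959 F39849) (tt N10983 (iv D12123)) (tt N11955 F39850) (tt N11259 F39851))
theorem Q12028 : ∀ i, i < 12028 → P i := stepQ 12027 Q12027 (allL N12027 (tt N12313 (iv F41113)) (tt N10990 F39852) (tt N11256 F39853) (tt N12319 (iv F41141)) (tt N12109 F40234) (tt N12126 (iv F40315)) (tt N11254 F39854) (tt N10985 (iv D12124)))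
theorem Q12029 : ∀ i, i < 12029 → P i := stepQ 12028 Q12028 (allL N12028 (tt N11360 F39855) (tt N11358 F39856) (tt N10989 F39857) (tt N10999 F39858) (tt N12100 (iv F40180)) (tt N12028 F39859) (tt N10987 (iv D12125)) (tt N11381 (iv F39860)))
theorem Q12030 : ∀ i, i < 12030 → P i := stepQ 12029 Q12029 (allL N12029 (tt N12104 (iv F40201)) (tt N11953 F39861) (tt N11381 F39862) (tt N12224 (iv F40757)) (tt N11954 F39863) (tt N12029 F39864) (tt N12052 (iv F39982)) (tt N10989 (iv D12126)))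
theorem Q12031 : ∀ i, i < 12031 → P i := stepQ 12030 Q12030 (allL N12030 (tt N12110 (iv F40235)) (tt N12319 (iv F41139)) (tt N12045 (iv F39942)) (tt N10990 (iv D12127)) (tt N12201 (iv F40652)) (tt N12030 F39865) (tt N11262 F39866) (tt N12224 (iv F40761)))
theorem Q12032 : ∀ i, i < 12032 → P i := stepQ 12031 Q12031 (allL N12031 (tt N11197 F39867) (tt N12049 (iv F39960)) (tt N11292 F39868) (tt N10994 F39869) (tt N12105 (iv F40210)) (tt N10993 (iv D12128)) (tt N11007 F39870) (tt N11193 F39871))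
theorem Q12033 : ∀ i, i < 12033 → P i := stepQ 12032 Q12032 (allL N12032 (tt N12102 (iv F40189)) (tt N10994 (iv D12129)) (tt N12050 (iv F39967)) (tt N12049 (iv F39964)) (tt N12090 (iv F40137)) (tt N12032 F39872) (tt N11008 F39873) (tt N11380 F39874))
theorem Q12034 : ∀ i, i < 12034 → P i := stepQ 12033 Q12033 (allL N12033 (tt N12134 (iv F40351)) (tt N11704 F39875) (tt N10997 F39876) (tt N11705 F39877) (tt N12041 (iv F39914)) (tt N12033 F39878) (tt N10995 (iv D12130)) (tt N12153 (iv F40450)))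
theorem Q12035 : ∀ i, i < 12035 → P i := stepQ 12034 Q12034 (allL N12034 (tt N12135 (iv F40358)) (tt N11668 F39879) (tt N12153 (iv F40451)) (tt N12154 (iv F40453)) (tt N11669 F39880) (tt N12034 F39881) (tt N11586 F39882) (tt N10997 (iv D12131)))
theorem Q12036 : ∀ i, i < 12036 → P i := stepQ 12035 Q12035 (allL N12035 (tt N11194 F39883) (tt N12313 (iv F41114)) (tt N11271 F39884) (tt N12101 (iv F40185)) (tt N11007 F39885) (tt N11006 (iv D12132)) (tt N12105 (iv F40211)) (tt N11190 F39886))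
theorem Q12037 : ∀ i, i < 12037 → P i := stepQ 12036 Q12036 (allL N12036 (tt N12109 (iv F40228)) (tt N11007 (iv D12133)) (tt N12046 (iv F39944)) (tt N11008 F39887) (tt N12313 (iv F41116)) (tt N11027 F39888) (tt N12049 (iv F39962)) (tt N11191 F39889))
theorem Q12038 : ∀ i, i < 12038 → P i := stepQ 12037 Q12037 (allL N12037 (tt N11011 F39890) (tt N11955 F39891) (tt N11358 F39892) (tt N11503 F39893) (tt N11957 F39894) (tt N11009 (iv D12134)) (tt N12115 (iv F40259)) (tt N11014 F39895))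
theorem Q12039 : ∀ i, i < 12039 → P i := stepQ 12038 Q12038 (allL N12038 (tt N11973 F39896) (tt N11012 F39897) (tt N11477 F39898) (tt N11010 (iv D12135)) (tt N11525 F39899) (tt N12548 D12645) (tt N11469 F39900) (tt N11979 F39901))
theorem Q12040 : ∀ i, i < 12040 → P i := stepQ 12039 Q12039 (allL N12039 (tt N11957 F39902) (tt N11952 F39903) (tt N11470 F39904) (tt N12548 (iv F42207)) (tt N11011 F39905) (tt N11010 (iv D12136)) (tt N12114 (iv F40253)) (tt N11015 F39906))
theorem Q12041 : ∀ i, i < 12041 → P i := stepQ 12040 Q12040 (allL N12040 (tt N12090 (iv F40134)) (tt N11398 F39907) (tt N11208 F39908) (tt N12107 (iv F40217)) (tt N12102 (iv F40192)) (tt N12040 F39909) (tt N11205 F39910) (tt N11024 (iv D12137)))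
theorem Q12042 : ∀ i, i < 12042 → P i := stepQ 12041 Q12041 (allL N12041 (tt N11357 F39911) (tt N11397 F39912) (tt N11211 F39913) (tt N11025 (iv D12138)) (tt N12033 F39914) (tt N12041 F39915) (tt N11471 F39916) (tt N12107 (iv F40220)))
theorem Q12043 : ∀ i, i < 12043 → P i := stepQ 12042 Q12042 (allL N12042 (tt N11029 F39917) (tt N11333 F39918) (tt N12042 F39919) (tt N12471 (iv F41843)) (tt N11028 (iv D12139)) (tt N11331 F39920) (tt N11347 F39921) (tt N12042 F39922))
theorem Q12044 : ∀ i, i < 12044 → P i := stepQ 12043 Q12043 (allL N12043 (tt N11033 F39923) (tt N11338 F39924) (tt N12043 F39925) (tt N12488 (iv F41920)) (tt N11976 F39926) (tt N11032 (iv D12140)) (tt N11336 F39927) (tt N12043 F39928))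
theorem Q12045 : ∀ i, i < 12045 → P i := stepQ 12044 Q12044 (allL N12044 (tt N11119 F39929) (tt N11586 F39930) (tt N11038 F39931) (tt N11056 F39932) (tt N11342 F39933) (tt N11037 (iv D12141)) (tt N11668 F39934) (tt N11421 F39935))
theorem Q12046 : ∀ i, i < 12046 → P i := stepQ 12045 Q12045 (allL N12045 (tt N11159 F39936) (tt N11038 (iv D12142)) (tt N12030 F39942) (tt N11039 F39937) (tt N11344 F39938) (tt N12045 F39939) (tt N11168 F39940) (tt N11420 F39941))
theorem Q12047 : ∀ i, i < 12047 → P i := stepQ 12046 Q12046 (allL N12046 (tt N11154 F39943) (tt N11041 (iv D12143)) (tt N12036 F39944) (tt N11042 F39945) (tt N11565 F39946) (tt N11183 F39947) (tt N11047 F39948) (tt N12127 (iv F40323)))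
theorem Q12048 : ∀ i, i < 12048 → P i := stepQ 12047 Q12047 (allL N12047 (tt N11061 F39949) (tt N11160 F39950) (tt N11046 F39951) (tt N11162 F39952) (tt N11044 F39953) (tt N11043 (iv D12144)) (tt N11278 F39954) (tt N12149 (iv F40432)))
theorem Q12049 : ∀ i, i < 12049 → P i := stepQ 12048 Q12048 (allL N12048 (tt N11138 F39955) (tt N12119 (iv F40280)) (tt N11048 F39956) (tt N11749 F39957) (tt N12149 (iv F40429)) (tt N11045 F39958) (tt N12117 (iv F40272)) (tt N11044 (iv D12145)))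
theorem Q12050 : ∀ i, i < 12050 → P i := stepQ 12049 Q12049 (allL N12049 (tt N11225 F39959) (tt N12031 F39960) (tt N11047 (iv D12146)) (tt N12032 F39964) (tt N12152 (iv F40444)) (tt N12049 F39961) (tt N12036 F39962) (tt N11063 F39963))
theorem Q12051 : ∀ i, i < 12051 → P i := stepQ 12050 Q12050 (allL N12050 (tt N11146 F39965) (tt N11062 F39966) (tt N12032 F39967) (tt N11050 (iv D12147)) (tt N11560 F39968) (tt N12050 F39969) (tt N11151 F39970) (tt N12212 (iv F40705)))
theorem Q12052 : ∀ i, i < 12052 → P i := stepQ 12051 Q12051 (allL N12051 (tt N11144 F39971) (tt N12154 (iv F40452)) (tt N11052 F39972) (tt N11668 F39973) (tt N12129 (iv F40332)) (tt N11051 (iv D12148)) (tt N11056 F39974) (tt N11933 F39975))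
theorem Q12053 : ∀ i, i < 12053 → P i := stepQ 12052 Q12052 (allL N12052 (tt N11147 F39976) (tt N11580 F39977) (tt N11933 F39978) (tt N11587 F39979) (tt N11367 F39980) (tt N11053 F39981) (tt N12029 F39982) (tt N11052 (iv D12149)))
theorem Q12054 : ∀ i, i < 12054 → P i := stepQ 12053 Q12053 (allL N12053 (tt N11149 F39983) (tt N11167 F39984) (tt N11057 F39985) (tt N11163 F39986) (tt N11056 F39987) (tt N11055 (iv D12150)) (tt N12129 (iv F40334)) (tt N11708 F39988))
theorem Q12055 : ∀ i, i < 12055 → P i := stepQ 12054 Q12054 (allL N12054 (tt N11675 (iv F39994)) (tt N11056 (iv D12151)) (tt N11169 F39989) (tt N11586 F39990) (tt N11167 F39991) (tt N11186 F39992) (tt N12154 (iv F40456)) (tt N11583 F39993))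
theorem Q12056 : ∀ i, i < 12056 → P i := stepQ 12055 Q12055 (allL N12055 (tt N11437 F39995) (tt N11068 (iv D12152)) (tt N11436 F40000) (tt N12482 (iv F41891)) (tt N11435 F39996) (tt N11426 F39997) (tt N11133 F39998) (tt N11069 F39999))
theorem Q12057 : ∀ i, i < 12057 → P i := stepQ 12056 Q12056 (allL N12056 (tt N11069 (iv D12153)) (tt N11710 F40001) (tt N11435 (iv F40007)) (tt N11557 F40002) (tt N11436 F40003) (tt N11427 F40004) (tt N11070 F40005) (tt N11437 F40006))
theorem Q12058 : ∀ i, i < 12058 → P i := stepQ 12057 Q12057 (allL N12057 (tt N11435 F40008) (tt N11074 F40009) (tt N11069 (iv D12154)) (tt N12531 (iv F42111)) (tt N11437 F40010) (tt N11428 F40011) (tt N11071 F40012) (tt N11436 F40013))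
theorem Q12059 : ∀ i, i < 12059 → P i := stepQ 12058 Q12058 (allL N12058 (tt N11071 F40014) (tt N11115 F40015) (tt N11070 (iv D12155)) (tt N12549 D12646) (tt N11133 F40016) (tt N11284 F40017) (tt N11435 F40018) (tt N11118 F40019))
theorem Q12060 : ∀ i, i < 12060 → P i := stepQ 12059 Q12059 (allL N12059 (tt N12549 (iv F42210)) (tt N11077 F40020) (tt N12250 (iv F40860)) (tt N11071 (iv D12156)) (tt N12550 D12647) (tt N11285 F40021) (tt N12531 (iv F42113)) (tt N12527 F42095))
theorem Q12061 : ∀ i, i < 12061 → P i := stepQ 12060 Q12060 (allL N12060 (tt N11100 F40022) (tt N11436 F40023) (tt N11072 (iv D12157)) (tt N11103 F40024) (tt N11710 F40025) (tt N11375 F40026) (tt N11156 F40027) (tt N11074 F40028))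
theorem Q12062 : ∀ i, i < 12062 → P i := stepQ 12061 Q12061 (allL N12061 (tt N11074 F40029) (tt N11101 F40030) (tt N11073 (iv D12158)) (tt N12470 (iv F41837)) (tt N11712 F40031) (tt N11332 F40032) (tt N11076 F40033) (tt N11100 F40034))
theorem Q12063 : ∀ i, i < 12063 → P i := stepQ 12062 Q12062 (allL N12062 (tt N12470 (iv F41834)) (tt N12531 (iv F42109)) (tt N12349 (iv F41274)) (tt N11074 (iv D12159)) (tt N12551 D12648) (tt N11702 F40035) (tt N11077 F40036) (tt N12466 (iv F41820)))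
theorem Q12064 : ∀ i, i < 12064 → P i := stepQ 12063 Q12063 (allL N12063 (tt N11104 F40037) (tt N12351 (iv F41284)) (tt N11077 F40038) (tt N11075 (iv D12160)) (tt N12552 D12649) (tt N11079 F40039) (tt N12349 (iv F41276)) (tt N11434 F40040))
theorem Q12065 : ∀ i, i < 12065 → P i := stepQ 12064 Q12064 (allL N12064 (tt N11077 F40041) (tt N12264 (iv F40921)) (tt N11104 F40042) (tt N11076 (iv D12161)) (tt N12553 D12650) (tt N11080 F40043) (tt N12470 (iv F41839)) (tt N12554 D12651))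
theorem Q12066 : ∀ i, i < 12066 → P i := stepQ 12065 Q12065 (allL N12065 (tt N12553 (iv F42226)) (tt N12550 (iv F42216)) (tt N12552 (iv F42223)) (tt N11777 F40044) (tt N11077 (iv D12162)) (tt N11081 F40045) (tt N12551 (iv F42221)) (tt N12555 D12652))
theorem Q12067 : ∀ i, i < 12067 → P i := stepQ 12066 Q12066 (allL N12066 (tt N12554 (iv F42230)) (tt N12527 (iv F42091)) (tt N11434 F40046) (tt N11170 F40047) (tt N12555 (iv F42237)) (tt N11082 F40048) (tt N12525 (iv F42084)) (tt N11077 (iv D12163)))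
theorem Q12068 : ∀ i, i < 12068 → P i := stepQ 12067 Q12067 (allL N12067 (tt N11106 F40049) (tt N11445 F40050) (tt N11081 F40051) (tt N12124 (iv F40304)) (tt N11079 (iv D12164)) (tt N12552 (iv F42224)) (tt N11318 F40052) (tt N11433 F40053))
theorem Q12069 : ∀ i, i < 12069 → P i := stepQ 12068 Q12068 (allL N12068 (tt N11081 F40054) (tt N12439 (iv F41682)) (tt N11106 F40055) (tt N11782 F40056) (tt N11080 (iv D12165)) (tt N12553 (iv F42229)) (tt N11330 F40057) (tt N12485 (iv F41907)))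
theorem Q12070 : ∀ i, i < 12070 → P i := stepQ 12069 Q12069 (allL N12069 (tt N11082 F40058) (tt N11992 F40059) (tt N11102 F40060) (tt N11187 F40061) (tt N12485 (iv F41905)) (tt N12554 (iv F42234)) (tt N11430 F40062) (tt N11080 (iv D12166)))
theorem Q12071 : ∀ i, i < 12071 → P i := stepQ 12070 Q12070 (allL N12070 (tt N12485 (iv F41904)) (tt N11299 F40063) (tt N11433 F40064) (tt N12532 (iv F42116)) (tt N11082 F40065) (tt N12555 (iv F42238)) (tt N11432 (iv F40066)) (tt N11081 (iv D12167)))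
theorem Q12072 : ∀ i, i < 12072 → P i := stepQ 12071 Q12071 (allL N12071 (tt N11092 F40067) (tt N11458 F40068) (tt N11783 F40069) (tt N11087 (iv D12168)) (tt N12556 D12653) (tt N12132 (iv F40347)) (tt N11305 F40070) (tt N11779 F40071))
theorem Q12073 : ∀ i, i < 12073 → P i := stepQ 12072 Q12072 (allL N12072 (tt N11094 F40072) (tt N12289 (iv F41018)) (tt N11637 F40073) (tt N11088 (iv D12169)) (tt N12557 D12654) (tt N11089 F40074) (tt N12131 (iv F40343)) (tt N11487 F40075))
theorem Q12074 : ∀ i, i < 12074 → P i := stepQ 12073 Q12073 (allL N12073 (tt N11096 F40076) (tt N11464 F40077) (tt N11636 F40078) (tt N12556 (iv F42242)) (tt N11089 (iv D12170)) (tt N12557 (iv F42247)) (tt N11308 F40079) (tt N11489 F40080))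
theorem Q12075 : ∀ i, i < 12075 → P i := stepQ 12074 Q12074 (allL N12074 (tt N12556 (iv F42239)) (tt N12125 (iv F40306)) (tt N11784 F40081) (tt N11096 F40082) (tt N11092 (iv D12171)) (tt N12509 (iv F42009)) (tt N11310 F40083) (tt N11780 F40084))
theorem Q12076 : ∀ i, i < 12076 → P i := stepQ 12075 Q12075 (allL N12075 (tt N12250 (iv F40859)) (tt N11094 F40085) (tt N12549 (iv F42212)) (tt N11093 (iv D12172)) (tt N12510 (iv F42013)) (tt N12143 (iv F40399)) (tt N12558 D12655) (tt N12131 (iv F40344)))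
theorem Q12077 : ∀ i, i < 12077 → P i := stepQ 12076 Q12076 (allL N12076 (tt N11486 F40086) (tt N11095 F40087) (tt N11557 F40088) (tt N12558 (iv F42252)) (tt N11800 F40089) (tt N11495 F40091) (tt N11093 (iv D12173)) (tt N11097 F40090))
theorem Q12078 : ∀ i, i < 12078 → P i := stepQ 12077 Q12077 (allL N12077 (tt N12557 (iv F42245)) (tt N12510 (iv F42012)) (tt N12526 (iv F42087)) (tt N12509 (iv F42008)) (tt N11094 (iv D12174)) (tt N11096 F40092) (tt N12559 D12656) (tt N12288 (iv F41016)))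
theorem Q12079 : ∀ i, i < 12079 → P i := stepQ 12078 Q12078 (allL N12078 (tt N12131 (iv F40340)) (tt N12558 (iv F42250)) (tt N12527 (iv F42092)) (tt N11095 F40093) (tt N12559 (iv F42256)) (tt N11313 F40094) (tt N11094 (iv D12175)) (tt N12250 (iv F40862)))
theorem Q12080 : ∀ i, i < 12080 → P i := stepQ 12079 Q12079 (allL N12079 (tt N11434 F40095) (tt N12470 (iv F41835)) (tt N12554 (iv F42232)) (tt N11101 (iv D12176)) (tt N12484 (iv F41901)) (tt N11102 F40096) (tt N12264 (iv F40923)) (tt N11104 F40097))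
theorem Q12081 : ∀ i, i < 12081 → P i := stepQ 12080 Q12080 (allL N12080 (tt N12552 (iv F42222)) (tt N12468 (iv F41826)) (tt N12553 (iv F42227)) (tt N12309 (iv F41098)) (tt N11104 (iv D12177)) (tt N11106 F40098) (tt N12560 D12657) (tt N12484 (iv F41903)))
theorem Q12082 : ∀ i, i < 12082 → P i := stepQ 12081 Q12081 (allL N12081 (tt N12349 (iv F41272)) (tt N12469 (iv F41830)) (tt N12470 (iv F41836)) (tt N11105 F40099) (tt N12560 (iv F42258)) (tt N11328 F40100) (tt N11104 (iv D12178)) (tt N12467 (iv F41825)))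
theorem Q12083 : ∀ i, i < 12083 → P i := stepQ 12082 Q12082 (allL N12082 (tt N11681 F40101) (tt N11761 F40102) (tt N11107 (iv D12179)) (tt N12082 F40103) (tt N12561 D12658) (tt N11126 F40104) (tt N11659 F40105) (tt N11112 F40106))
theorem Q12084 : ∀ i, i < 12084 → P i := stepQ 12083 Q12083 (allL N12083 (tt N11682 F40107) (tt N11385 F40108) (tt N12561 (iv F42262)) (tt N11393 F40109) (tt N11107 (iv D12180)) (tt N11127 F40110) (tt N11660 F40111) (tt N11113 F40112))
theorem Q12085 : ∀ i, i < 12085 → P i := stepQ 12084 Q12084 (allL N12084 (tt N11693 F40113) (tt N11113 F40114) (tt N11740 F40115) (tt N11127 F40116) (tt N11108 (iv D12181)) (tt N11393 F40117) (tt N12562 D12659) (tt N11385 F40118))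
theorem Q12086 : ∀ i, i < 12086 → P i := stepQ 12085 Q12085 (allL N12085 (tt N11323 F40119) (tt N11114 F40120) (tt N11729 F40121) (tt N11109 F40122) (tt N12562 (iv F42271)) (tt N11662 F40123) (tt N11108 (iv D12182)) (tt N12320 (iv F41149)))
theorem Q12087 : ∀ i, i < 12087 → P i := stepQ 12086 Q12086 (allL N12086 (tt N12225 (iv F40762)) (tt N12535 (iv F42129)) (tt N11113 F40124) (tt N12202 (iv F40658)) (tt N11112 (iv D12183)) (tt N11432 F40125) (tt N12295 (iv F41043)) (tt N12561 (iv F42265)))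
theorem Q12088 : ∀ i, i < 12088 → P i := stepQ 12087 Q12087 (allL N12087 (tt N12238 (iv F40811)) (tt N12562 (iv F42268)) (tt N12295 (iv F41041)) (tt N11130 F40126) (tt N11114 F40127) (tt N12563 D12660) (tt N11113 (iv D12184)) (tt N12306 (iv F41092)))
theorem Q12089 : ∀ i, i < 12089 → P i := stepQ 12088 Q12088 (allL N12088 (tt N12264 (iv F40920)) (tt N12549 (iv F42211)) (tt N12525 (iv F42082)) (tt N11115 F40128) (tt N12563 (iv F42274)) (tt N11114 (iv D12185)) (tt N11434 F40129) (tt N12528 (iv F42101)))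
theorem Q12090 : ∀ i, i < 12090 → P i := stepQ 12089 Q12089 (allL N12089 (tt N11672 F40130) (tt N12130 (iv F40336)) (tt N11611 F40131) (tt N12528 (iv F42098)) (tt N11654 F40132) (tt N11117 F40133) (tt N12348 (iv F41270)) (tt N11116 (iv D12186)))
theorem Q12091 : ∀ i, i < 12091 → P i := stepQ 12090 Q12090 (allL N12090 (tt N12040 F40134) (tt N11119 (iv D12187)) (tt N11560 F40135) (tt N11150 F40136) (tt N12032 F40137) (tt N12090 F40138) (tt N11559 F40139) (tt N11582 F40140))
theorem Q12092 : ∀ i, i < 12092 → P i := stepQ 12091 Q12091 (allL N12091 (tt N11126 F40141) (tt N11889 F40146) (tt N11125 (iv D12188)) (tt N12091 F40142) (tt N12564 D12661) (tt N11681 F40143) (tt N11324 F40144) (tt N11430 F40145))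
theorem Q12093 : ∀ i, i < 12093 → P i := stepQ 12092 Q12092 (allL N12092 (tt N11127 F40147) (tt N12236 (iv F40805)) (tt N12564 (iv F42278)) (tt N11693 F40148) (tt N11125 (iv D12189)) (tt N11682 F40149) (tt N11325 F40150) (tt N11431 F40151))
theorem Q12094 : ∀ i, i < 12094 → P i := stepQ 12093 Q12093 (allL N12093 (tt N12564 (iv F42276)) (tt N11812 F40152) (tt N11127 F40153) (tt N12565 D12662) (tt N11126 (iv D12190)) (tt N12561 (iv F42263)) (tt N11773 F40154) (tt N11432 F40155))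
theorem Q12095 : ∀ i, i < 12095 → P i := stepQ 12094 Q12094 (allL N12094 (tt N11325 F40156) (tt N11130 F40157) (tt N11773 F40158) (tt N12562 (iv F42270)) (tt N11128 F40159) (tt N12506 (iv F41991)) (tt N11127 (iv D12191)) (tt N11318 F40160))
theorem Q12096 : ∀ i, i < 12096 → P i := stepQ 12095 Q12095 (allL N12095 (tt N12239 (iv F40816)) (tt N12504 (iv F41980)) (tt N12205 (iv F40669)) (tt N12563 (iv F42273)) (tt N11131 F40161) (tt N11130 (iv D12192)) (tt N12483 F41899) (tt N12566 D12663))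
theorem Q12097 : ∀ i, i < 12097 → P i := stepQ 12096 Q12096 (allL N12096 (tt N12169 (iv F40520)) (tt N11318 F40162) (tt N11804 F40163) (tt N12297 (iv F41052)) (tt N11132 F40164) (tt N12566 (iv F42289)) (tt N11445 F40165) (tt N11130 (iv D12193)))
theorem Q12098 : ∀ i, i < 12098 → P i := stepQ 12097 Q12097 (allL N12097 (tt N12168 (iv F40515)) (tt N12266 (iv F40931)) (tt N11803 F40166) (tt N11137 F40167) (tt N12566 (iv F42288)) (tt N11132 F40168) (tt N12275 (iv F40968)) (tt N11131 (iv D12194)))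
theorem Q12099 : ∀ i, i < 12099 → P i := stepQ 12098 Q12098 (allL N12098 (tt N11749 F40169) (tt N12145 (iv F40406)) (tt N11539 F40170) (tt N11138 (iv D12195)) (tt N12567 D12664) (tt N11139 F40171) (tt N12276 (iv F40974)) (tt N11165 F40172))
theorem Q12100 : ∀ i, i < 12100 → P i := stepQ 12099 Q12099 (allL N12099 (tt N11751 F40173) (tt N11308 F40174) (tt N11540 F40175) (tt N12322 (iv F41157)) (tt N11139 (iv D12196)) (tt N12567 (iv F42292)) (tt N11464 F40176) (tt N11166 F40177))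
theorem Q12101 : ∀ i, i < 12101 → P i := stepQ 12100 Q12100 (allL N12100 (tt N12136 (iv F40364)) (tt N11141 (iv D12197)) (tt N11410 F40178) (tt N11142 F40179) (tt N12028 F40180) (tt N12100 F40181) (tt N11708 F40182) (tt N12213 (iv F40712)))
theorem Q12102 : ∀ i, i < 12102 → P i := stepQ 12101 Q12101 (allL N12101 (tt N12129 (iv F40329)) (tt N11932 F40183) (tt N11145 F40184) (tt N12035 F40185) (tt N11144 F40186) (tt N11143 (iv D12198)) (tt N11149 F40187) (tt N11371 F40188))
theorem Q12103 : ∀ i, i < 12103 → P i := stepQ 12102 Q12102 (allL N12102 (tt N12032 F40189) (tt N11240 F40190) (tt N11146 (iv D12199)) (tt N11225 F40191) (tt N12040 F40192) (tt N12102 F40193) (tt N11152 F40194) (tt N11407 (iv F40195)))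
theorem Q12104 : ∀ i, i < 12104 → P i := stepQ 12103 Q12103 (allL N12103 (tt N12212 (iv F40699)) (tt N11147 F40196) (tt N11407 F40197) (tt N12213 (iv F40709)) (tt N11370 F40198) (tt N12103 F40199) (tt N11404 F40200) (tt N11146 (iv D12200)))
theorem Q12105 : ∀ i, i < 12105 → P i := stepQ 12104 Q12104 (allL N12104 (tt N12029 F40201) (tt N11404 F40202) (tt N11931 F40203) (tt N12214 (iv F40715)) (tt N11372 F40204) (tt N12104 F40205) (tt N11147 (iv D12201)) (tt N11153 F40206))
theorem Q12106 : ∀ i, i < 12106 → P i := stepQ 12105 Q12105 (allL N12105 (tt N11163 F40207) (tt N12152 (iv F40441)) (tt N11160 F40208) (tt N11149 F40209) (tt N12031 F40210) (tt N11148 (iv D12202)) (tt N12035 F40211) (tt N11711 F40212))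
theorem Q12107 : ∀ i, i < 12107 → P i := stepQ 12106 Q12106 (allL N12106 (tt N12153 (iv F40446)) (tt N11149 (iv D12203)) (tt N12135 (iv F40360)) (tt N12152 (iv F40443)) (tt N11150 F40213) (tt N12106 F40214) (tt N11932 F40215) (tt N12134 F40357))
theorem Q12108 : ∀ i, i < 12108 → P i := stepQ 12107 Q12107 (allL N12107 (tt N11150 (iv D12204)) (tt N11675 F40216) (tt N11669 (iv F40221)) (tt N12040 F40217) (tt N12153 (iv F40448)) (tt N12107 F40218) (tt N11903 F40219) (tt N12041 F40220))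
theorem Q12109 : ∀ i, i < 12109 → P i := stepQ 12108 Q12108 (allL N12108 (tt N11669 F40222) (tt N11152 F40223) (tt N11150 (iv D12205)) (tt N11241 F40224) (tt N12135 (iv F40361)) (tt N12108 F40225) (tt N11240 F40226) (tt N11405 F40227))
theorem Q12110 : ∀ i, i < 12110 → P i := stepQ 12109 Q12109 (allL N12109 (tt N12036 F40228) (tt N11241 F40229) (tt N11154 F40230) (tt N11152 (iv D12206)) (tt N12027 (iv F40234)) (tt N11182 F40231) (tt N11225 F40232) (tt N11226 F40233))
theorem Q12111 : ∀ i, i < 12111 → P i := stepQ 12110 Q12110 (allL N12110 (tt N12030 F40235) (tt N12129 (iv F40330)) (tt N11159 F40236) (tt N11158 (iv D12207)) (tt N12154 (iv F40454)) (tt N12110 F40237) (tt N11167 F40238) (tt N12214 (iv F40718)))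
theorem Q12112 : ∀ i, i < 12112 → P i := stepQ 12111 Q12111 (allL N12111 (tt N11164 F40239) (tt N12149 (iv F40428)) (tt N11711 F40240) (tt N12427 (iv F41627)) (tt N12119 (iv F40282)) (tt N11161 F40241) (tt N11774 F40242) (tt N11160 (iv D12208)))
theorem Q12113 : ∀ i, i < 12113 → P i := stepQ 12112 Q12112 (allL N12112 (tt N12427 (iv F41625)) (tt N11165 F40243) (tt N11713 F40244) (tt N11164 (iv D12209)) (tt N12568 D12665) (tt N11714 F40245) (tt N11775 F40246) (tt N12145 (iv F40410)))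
theorem Q12114 : ∀ i, i < 12114 → P i := stepQ 12113 Q12113 (allL N12113 (tt N12151 (iv F40437)) (tt N12568 (iv F42294)) (tt N12392 (iv F41465)) (tt N12426 (iv F41622)) (tt N11165 (iv D12210)) (tt N11166 F40247) (tt N12206 (iv F40676)) (tt N12567 (iv F42293)))
theorem Q12115 : ∀ i, i < 12115 → P i := stepQ 12114 Q12114 (allL N12114 (tt N11170 F40248) (tt N11672 F40249) (tt N11704 F40250) (tt N12554 (iv F42233)) (tt N11674 F40251) (tt N11187 F40252) (tt N12039 F40253) (tt N11168 (iv D12211)))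
theorem Q12116 : ∀ i, i < 12116 → P i := stepQ 12115 Q12115 (allL N12115 (tt N11674 F40254) (tt N12026 F40255) (tt N11583 F40256) (tt N12281 (iv F40988)) (tt N11170 F40257) (tt N11188 F40258) (tt N12037 F40259) (tt N11169 (iv D12212)))
theorem Q12117 : ∀ i, i < 12117 → P i := stepQ 12116 Q12116 (allL N12116 (tt N11490 F40260) (tt N11192 F40261) (tt N11172 (iv D12213)) (tt N11869 F40265) (tt N11494 F40262) (tt N11799 F40263) (tt N11291 F40264) (tt N11558 (iv F40266)))
theorem Q12118 : ∀ i, i < 12118 → P i := stepQ 12117 Q12117 (allL N12117 (tt N11491 F40267) (tt N11173 F40268) (tt N11558 F40269) (tt N11870 F40273) (tt N11495 F40270) (tt N11800 F40271) (tt N12048 F40272) (tt N11172 (iv D12214)))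
theorem Q12119 : ∀ i, i < 12119 → P i := stepQ 12118 Q12118 (allL N12118 (tt N11176 F40274) (tt N11870 F40275) (tt N11550 F40276) (tt N11173 (iv D12215)) (tt N12569 D12666) (tt N11174 F40277) (tt N12400 (iv F41507)) (tt N11506 F40278))
theorem Q12120 : ∀ i, i < 12120 → P i := stepQ 12119 Q12119 (allL N12119 (tt N11177 F40279) (tt N12048 F40280) (tt N11193 F40281) (tt N12400 (iv F41505)) (tt N12111 F40282) (tt N11303 F40283) (tt N11173 (iv D12216)) (tt N11292 F40284))
theorem Q12121 : ∀ i, i < 12121 → P i := stepQ 12120 Q12120 (allL N12120 (tt N11179 F40285) (tt N11802 F40286) (tt N11554 F40287) (tt N12422 (iv F41605)) (tt N11174 (iv D12217)) (tt N12569 (iv F42301)) (tt N11304 F40288) (tt N11507 F40289))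
theorem Q12122 : ∀ i, i < 12122 → P i := stepQ 12121 Q12121 (allL N12121 (tt N11550 F40290) (tt N11650 F40291) (tt N11176 (iv D12218)) (tt N11198 F40292) (tt N12570 D12667) (tt N11178 F40293) (tt N11648 F40295) (tt N11511 F40294))
theorem Q12123 : ∀ i, i < 12123 → P i := stepQ 12122 Q12122 (allL N12122 (tt N12569 (iv F42298)) (tt N12207 (iv F40678)) (tt N12570 (iv F42305)) (tt N12418 (iv F41586)) (tt N11176 (iv D12219)) (tt N11179 F40296) (tt N12571 D12668) (tt N11512 F40297))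
theorem Q12124 : ∀ i, i < 12124 → P i := stepQ 12123 Q12123 (allL N12123 (tt N12400 (iv F41503)) (tt N11785 F40298) (tt N11648 F40299) (tt N11177 F40300) (tt N12571 (iv F42313)) (tt N11663 F40301) (tt N11176 (iv D12220)) (tt N12572 D12669))
theorem Q12125 : ∀ i, i < 12125 → P i := stepQ 12124 Q12124 (allL N12124 (tt N11554 F40302) (tt N12242 (iv F40824)) (tt N11179 F40303) (tt N12067 F40304) (tt N11178 (iv D12221)) (tt N12570 (iv F42307)) (tt N12188 (iv F40596)) (tt N11514 F40305))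
theorem Q12126 : ∀ i, i < 12126 → P i := stepQ 12125 Q12125 (allL N12125 (tt N12148 (iv F40422)) (tt N12074 F40306) (tt N11929 F40307) (tt N11515 F40308) (tt N11180 (iv D12222)) (tt N11923 F40309) (tt N12157 (iv F40470)) (tt N11181 F40310))
theorem Q12127 : ∀ i, i < 12127 → P i := stepQ 12126 Q12126 (allL N12126 (tt N11766 F40311) (tt N12126 F40312) (tt N11184 F40313) (tt N11585 F40314) (tt N11182 (iv D12223)) (tt N12027 F40315) (tt N12126 F40316) (tt N11408 F40317))
theorem Q12128 : ∀ i, i < 12128 → P i := stepQ 12127 Q12127 (allL N12127 (tt N11567 F40318) (tt N11291 F40319) (tt N11191 (iv D12224)) (tt N12420 (iv F41594)) (tt N11571 F40320) (tt N11287 F40321) (tt N11192 F40322) (tt N12046 F40323))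
theorem Q12129 : ∀ i, i < 12129 → P i := stepQ 12128 Q12128 (allL N12128 (tt N11566 F40324) (tt N11869 F40325) (tt N11203 F40326) (tt N11192 (iv D12225)) (tt N12573 D12670) (tt N11220 F40327) (tt N12420 (iv F41596)) (tt N11822 F40328))
theorem Q12130 : ∀ i, i < 12130 → P i := stepQ 12129 Q12129 (allL N12129 (tt N12101 F40329) (tt N12110 F40330) (tt N11481 F40331) (tt N11194 (iv D12226)) (tt N12051 F40332) (tt N11195 F40333) (tt N12053 F40334) (tt N12209 (iv F40692)))
theorem Q12131 : ∀ i, i < 12131 → P i := stepQ 12130 Q12130 (allL N12130 (tt N11959 F40335) (tt N12089 F40336) (tt N11200 (iv D12227)) (tt N12347 (iv F41263)) (tt N12354 (iv F41297)) (tt N11222 F40337) (tt N11642 F40338) (tt N11247 F40339))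
theorem Q12132 : ∀ i, i < 12132 → P i := stepQ 12131 Q12131 (allL N12131 (tt N12078 F40340) (tt N11508 F40341) (tt N12347 (iv F41262)) (tt N11201 (iv D12228)) (tt N12574 D12671) (tt N11223 F40342) (tt N12072 F40343) (tt N12075 F40344))
theorem Q12133 : ∀ i, i < 12133 → P i := stepQ 12132 Q12132 (allL N12132 (tt N11919 F40345) (tt N11513 F40346) (tt N12420 (iv F41593)) (tt N11202 (iv D12229)) (tt N12575 D12672) (tt N12071 F40347) (tt N11203 F40348) (tt N12417 (iv F41583)))
theorem Q12134 : ∀ i, i < 12134 → P i := stepQ 12133 Q12133 (allL N12133 (tt N12437 (iv F41672)) (tt N11512 F40349) (tt N12573 (iv F42323)) (tt N12574 (iv F42329)) (tt N11203 (iv D12230)) (tt N11224 F40350) (tt N12575 (iv F42337)) (tt N12207 (iv F40681)))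
theorem Q12135 : ∀ i, i < 12135 → P i := stepQ 12134 Q12134 (allL N12134 (tt N12033 F40351) (tt N11207 F40352) (tt N11204 (iv D12231)) (tt N11266 F40353) (tt N11357 F40354) (tt N12134 F40355) (tt N11267 F40356) (tt N12106 (iv F40357)))
theorem Q12136 : ∀ i, i < 12136 → P i := stepQ 12135 Q12135 (allL N12135 (tt N12034 F40358) (tt N11205 F40359) (tt N12106 F40360) (tt N12201 (iv F40651)) (tt N12108 F40361) (tt N12135 F40362) (tt N11398 F40363) (tt N11204 (iv D12232)))
theorem Q12137 : ∀ i, i < 12137 → P i := stepQ 12136 Q12136 (allL N12136 (tt N12100 F40364) (tt N11267 F40365) (tt N11206 (iv D12233)) (tt N11265 F40366) (tt N11360 F40367) (tt N12136 F40368) (tt N11207 F40369) (tt N11399 F40370))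
theorem Q12138 : ∀ i, i < 12138 → P i := stepQ 12137 Q12137 (allL N12137 (tt N12462 (iv F41790)) (tt N11552 F40371) (tt N11737 F40372) (tt N11824 F40373) (tt N11215 (iv D12234)) (tt N11218 F40374) (tt N12463 (iv F41800)) (tt N11872 F40375))
theorem Q12139 : ∀ i, i < 12139 → P i := stepQ 12138 Q12138 (allL N12138 (tt N11218 F40376) (tt N12139 (iv F40382)) (tt N11734 F40377) (tt N11826 F40378) (tt N11217 (iv D12235)) (tt N12462 (iv F41793)) (tt N11745 F40379) (tt N11865 F40380))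
theorem Q12140 : ∀ i, i < 12140 → P i := stepQ 12139 Q12139 (allL N12139 (tt N11767 F40381) (tt N12138 F40382) (tt N11224 F40383) (tt N11725 F40384) (tt N11220 (iv D12236)) (tt N12573 (iv F42325)) (tt N12399 (iv F41501)) (tt N12208 (iv F40687)))
theorem Q12141 : ∀ i, i < 12141 → P i := stepQ 12140 Q12140 (allL N12140 (tt N11590 F40385) (tt N11222 F40386) (tt N11221 (iv D12237)) (tt N12359 (iv F41324)) (tt N11588 F40387) (tt N11589 F40388) (tt N12023 F40389) (tt N11250 F40390))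
theorem Q12142 : ∀ i, i < 12142 → P i := stepQ 12141 Q12141 (allL N12141 (tt N12165 (iv F40503)) (tt N12359 (iv F41322)) (tt N11223 F40391) (tt N11222 (iv D12238)) (tt N12576 D12673) (tt N12347 (iv F41264)) (tt N12181 (iv F40571)) (tt N12163 (iv F40499)))
theorem Q12143 : ∀ i, i < 12143 → P i := stepQ 12142 Q12142 (allL N12142 (tt N12186 (iv F40589)) (tt N11232 F40392) (tt N12576 (iv F42339)) (tt N11224 F40393) (tt N11223 (iv D12239)) (tt N12574 (iv F42330)) (tt N12182 (iv F40577)) (tt N11924 (iv F40394)))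
theorem Q12144 : ∀ i, i < 12144 → P i := stepQ 12143 Q12143 (allL N12143 (tt N11458 F40395) (tt N11233 F40396) (tt N12163 (iv F40497)) (tt N11242 F40397) (tt N11924 F40398) (tt N12075 F40399) (tt N12321 (iv F41153)) (tt N11223 (iv D12240)))
theorem Q12145 : ∀ i, i < 12145 → P i := stepQ 12144 Q12144 (allL N12144 (tt N11748 F40400) (tt N12387 (iv F41447)) (tt N11232 F40401) (tt N11745 F40402) (tt N11227 (iv D12241)) (tt N11516 F40403) (tt N11826 F40404) (tt N12386 (iv F41445)))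
theorem Q12146 : ∀ i, i < 12146 → P i := stepQ 12145 Q12145 (allL N12145 (tt N11785 F40405) (tt N12098 F40406) (tt N11823 F40407) (tt N11228 (iv D12242)) (tt N12577 D12674) (tt N11231 F40408) (tt N11492 F40409) (tt N12112 F40410))
theorem Q12147 : ∀ i, i < 12147 → P i := stepQ 12146 Q12146 (allL N12146 (tt N11249 F40411) (tt N11481 F40412) (tt N11258 F40413) (tt N11230 F40414) (tt N11257 F40415) (tt N11261 F40416) (tt N11229 (iv D12243)) (tt N11592 F40417))
theorem Q12148 : ∀ i, i < 12148 → P i := stepQ 12147 Q12147 (allL N12147 (tt N11786 F40418) (tt N12182 (iv F40574)) (tt N11826 F40419) (tt N11239 F40420) (tt N11231 (iv D12244)) (tt N12577 (iv F42346)) (tt N11232 F40421) (tt N12380 (iv F41412)))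
theorem Q12149 : ∀ i, i < 12149 → P i := stepQ 12148 Q12148 (allL N12148 (tt N12125 F40422) (tt N11924 F40423) (tt N12386 (iv F41442)) (tt N11923 F40424) (tt N11233 F40425) (tt N11515 F40426) (tt N12383 (iv F41431)) (tt N11232 (iv D12245)))
theorem Q12150 : ∀ i, i < 12150 → P i := stepQ 12149 Q12149 (allL N12149 (tt N11235 F40427) (tt N12111 F40428) (tt N11234 (iv D12246)) (tt N12572 (iv F42318)) (tt N12048 F40429) (tt N11594 F40430) (tt N11495 F40431) (tt N12047 F40432))
theorem Q12151 : ∀ i, i < 12151 → P i := stepQ 12150 Q12150 (allL N12150 (tt N12572 (iv F42315)) (tt N11238 F40433) (tt N11429 F40434) (tt N11235 (iv D12247)) (tt N12578 D12675) (tt N11595 F40435) (tt N11497 F40436) (tt N12400 (iv F41508)))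
theorem Q12152 : ∀ i, i < 12152 → P i := stepQ 12151 Q12151 (allL N12151 (tt N12113 F40437) (tt N12578 (iv F42349)) (tt N12398 (iv F41491)) (tt N12577 (iv F42345)) (tt N11238 (iv D12248)) (tt N11239 F40438) (tt N11498 F40439) (tt N12401 (iv F41511)))
theorem Q12153 : ∀ i, i < 12153 → P i := stepQ 12152 Q12152 (allL N12152 (tt N11254 F40440) (tt N12105 F40441) (tt N11253 F40442) (tt N12106 F40443) (tt N12049 F40444) (tt N12152 F40445) (tt N12313 (iv F41118)) (tt N11252 (iv D12249)))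
theorem Q12154 : ∀ i, i < 12154 → P i := stepQ 12153 Q12153 (allL N12153 (tt N12106 F40446) (tt N11262 F40447) (tt N12034 F40451) (tt N11254 (iv D12250)) (tt N12107 F40448) (tt N12153 F40449) (tt N12319 (iv F41144)) (tt N12033 F40450))
theorem Q12155 : ∀ i, i < 12155 → P i := stepQ 12154 Q12154 (allL N12154 (tt N12201 (iv F40649)) (tt N12051 F40452) (tt N11255 (iv D12251)) (tt N12034 F40453) (tt N12110 F40454) (tt N12154 F40455) (tt N12054 F40456) (tt N11383 F40457))
theorem Q12156 : ∀ i, i < 12156 → P i := stepQ 12155 Q12155 (allL N12155 (tt N11274 F40458) (tt N12179 (iv F40560)) (tt N11753 F40462) (tt N11269 (iv D12252)) (tt N12430 (iv F41642)) (tt N11270 F40459) (tt N11790 F40460) (tt N11305 F40461))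
theorem Q12157 : ∀ i, i < 12157 → P i := stepQ 12156 Q12156 (allL N12156 (tt N11277 F40463) (tt N11751 F40464) (tt N11752 F40465) (tt N12383 (iv F41428)) (tt N11270 (iv D12253)) (tt N12430 (iv F41643)) (tt N11923 F40466) (tt N12021 F40467))
theorem Q12158 : ∀ i, i < 12158 → P i := stepQ 12157 Q12157 (allL N12157 (tt N12383 (iv F41426)) (tt N11310 F40468) (tt N12384 (iv F41433)) (tt N11277 F40469) (tt N11273 (iv D12254)) (tt N12429 (iv F41640)) (tt N12125 F40470) (tt N12382 (iv F41425)))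
theorem Q12159 : ∀ i, i < 12159 → P i := stepQ 12158 Q12158 (allL N12158 (tt N12430 (iv F41641)) (tt N12382 (iv F41421)) (tt N11798 F40471) (tt N12429 (iv F41638)) (tt N11274 (iv D12255)) (tt N11277 F40472) (tt N11791 F40473) (tt N11310 F40474))
theorem Q12160 : ∀ i, i < 12160 → P i := stepQ 12159 Q12159 (allL N12159 (tt N11752 F40475) (tt N11758 F40476) (tt N11277 F40477) (tt N12579 D12676) (tt N11276 (iv D12256)) (tt N11798 F40478) (tt N11927 F40479) (tt N12022 F40480))
theorem Q12161 : ∀ i, i < 12161 → P i := stepQ 12160 Q12160 (allL N12160 (tt N11993 F40481) (tt N11323 F40482) (tt N12198 (iv F40634)) (tt N11279 (iv D12257)) (tt N12580 D12677) (tt N11296 F40483) (tt N11694 F40484) (tt N11972 F40485))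
theorem Q12162 : ∀ i, i < 12162 → P i := stepQ 12161 Q12161 (allL N12161 (tt N12170 (iv F40526)) (tt N11325 F40486) (tt N12173 (iv F40539)) (tt N12580 (iv F42363)) (tt N11280 (iv D12258)) (tt N11817 F40487) (tt N12236 (iv F40806)) (tt N11283 F40488))
theorem Q12163 : ∀ i, i < 12163 → P i := stepQ 12162 Q12162 (allL N12162 (tt N12166 (iv F40508)) (tt N11818 F40489) (tt N12018 F40490) (tt N12005 F40491) (tt N11282 (iv D12259)) (tt N11283 F40492) (tt N12004 F40493) (tt N11817 F40494))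
theorem Q12164 : ∀ i, i < 12164 → P i := stepQ 12163 Q12163 (allL N12163 (tt N11285 F40495) (tt N11662 F40496) (tt N12143 F40497) (tt N11284 (iv D12260)) (tt N12507 (iv F41997)) (tt N12549 (iv F42213)) (tt N11596 F40498) (tt N12141 F40499))
theorem Q12165 : ∀ i, i < 12165 → P i := stepQ 12164 Q12164 (allL N12164 (tt N12507 (iv F41994)) (tt N11289 F40500) (tt N12251 (iv F40864)) (tt N11600 F40501) (tt N11285 (iv D12261)) (tt N12550 (iv F42218)) (tt N11597 F40502) (tt N12377 (iv F41402)))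
theorem Q12166 : ∀ i, i < 12166 → P i := stepQ 12165 Q12165 (allL N12165 (tt N12141 F40503) (tt N11290 F40504) (tt N11313 F40505) (tt N11334 F40506) (tt N12377 (iv F41400)) (tt N12527 (iv F42094)) (tt N11311 F40507) (tt N11285 (iv D12262)))
theorem Q12167 : ∀ i, i < 12167 → P i := stepQ 12166 Q12166 (allL N12166 (tt N12162 F40508) (tt N12424 (iv F41614)) (tt N11289 F40509) (tt N12412 (iv F41558)) (tt N11288 (iv D12263)) (tt N11294 F40510) (tt N11606 F40511) (tt N12423 (iv F41612)))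
theorem Q12168 : ∀ i, i < 12168 → P i := stepQ 12167 Q12167 (allL N12167 (tt N12445 (iv F41706)) (tt N12377 (iv F41398)) (tt N12423 (iv F41609)) (tt N11831 F40512) (tt N11290 F40513) (tt N11299 F40514) (tt N12431 (iv F41650)) (tt N11289 (iv D12264)))
theorem Q12169 : ∀ i, i < 12169 → P i := stepQ 12168 Q12168 (allL N12168 (tt N12097 F40515) (tt N12420 (iv F41592)) (tt N11447 F40516) (tt N11291 (iv D12265)) (tt N12581 D12678) (tt N11293 F40517) (tt N11869 F40518) (tt N11443 F40519))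
theorem Q12170 : ∀ i, i < 12170 → P i := stepQ 12169 Q12169 (allL N12169 (tt N12096 F40520) (tt N11294 F40521) (tt N11445 F40522) (tt N11536 F40523) (tt N11293 (iv D12266)) (tt N12581 (iv F42370)) (tt N11804 F40524) (tt N11442 F40525))
theorem Q12171 : ∀ i, i < 12171 → P i := stepQ 12170 Q12170 (allL N12170 (tt N12161 F40526) (tt N11442 F40527) (tt N11299 F40528) (tt N12541 (iv F42165)) (tt N11295 F40529) (tt N12423 (iv F41610)) (tt N11439 F40530) (tt N11294 (iv D12267)))
theorem Q12172 : ∀ i, i < 12172 → P i := stepQ 12171 Q12171 (allL N12171 (tt N12439 (iv F41681)) (tt N11297 F40531) (tt N12197 (iv F40631)) (tt N11817 F40532) (tt N11296 (iv D12268)) (tt N12580 (iv F42364)) (tt N11806 F40533) (tt N12582 D12679))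
theorem Q12173 : ∀ i, i < 12173 → P i := stepQ 12172 Q12172 (allL N12172 (tt N11992 F40534) (tt N11298 F40535) (tt N12193 (iv F40616)) (tt N11336 F40536) (tt N12582 (iv F42376)) (tt N11972 F40537) (tt N12488 (iv F41921)) (tt N11296 (iv D12269)))
theorem Q12174 : ∀ i, i < 12174 → P i := stepQ 12173 Q12173 (allL N12173 (tt N11299 F40538) (tt N12582 (iv F42374)) (tt N12161 F40539) (tt N12583 D12680) (tt N11298 F40540) (tt N12445 (iv F41710)) (tt N12584 D12681) (tt N11297 (iv D12270)))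
theorem Q12175 : ∀ i, i < 12175 → P i := stepQ 12174 Q12174 (allL N12174 (tt N11300 F40541) (tt N12488 (iv F41918)) (tt N11438 F40542) (tt N11338 F40543) (tt N12584 (iv F42386)) (tt N12200 (iv F40648)) (tt N11298 (iv D12271)) (tt N11810 F40544))
theorem Q12176 : ∀ i, i < 12176 → P i := stepQ 12175 Q12175 (allL N12175 (tt N12583 (iv F42378)) (tt N12532 (iv F42114)) (tt N11832 (iv F40548)) (tt N11299 (iv D12272)) (tt N11339 F40545) (tt N11831 F40546) (tt N12585 D12682) (tt N11820 F40547))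
theorem Q12177 : ∀ i, i < 12177 → P i := stepQ 12176 Q12176 (allL N12176 (tt N12584 (iv F42384)) (tt N11432 F40549) (tt N11439 F40550) (tt N12585 (iv F42390)) (tt N11300 F40551) (tt N12586 D12683) (tt N11299 (iv D12273)) (tt N11812 F40552))
theorem Q12178 : ∀ i, i < 12178 → P i := stepQ 12177 Q12177 (allL N12177 (tt N12200 (iv F40644)) (tt N11897 F40553) (tt N11440 F40554) (tt N11341 F40555) (tt N12586 (iv F42397)) (tt N11300 (iv D12274)) (tt N12199 (iv F40642)) (tt N11813 F40556))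
theorem Q12179 : ∀ i, i < 12179 → P i := stepQ 12178 Q12178 (allL N12178 (tt N12381 (iv F41413)) (tt N12429 (iv F41636)) (tt N12190 (iv F40601)) (tt N12382 (iv F41423)) (tt N11302 (iv D12275)) (tt N11304 F40557) (tt N12587 D12684) (tt N11312 F40558))
theorem Q12180 : ∀ i, i < 12180 → P i := stepQ 12179 Q12179 (allL N12179 (tt N11663 F40559) (tt N12155 F40560) (tt N11598 F40561) (tt N11303 F40562) (tt N12587 (iv F42404)) (tt N12400 (iv F41506)) (tt N11302 (iv D12276)) (tt N11595 F40563))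
theorem Q12181 : ∀ i, i < 12181 → P i := stepQ 12180 Q12180 (allL N12180 (tt N11310 F40564) (tt N12322 (iv F41155)) (tt N12328 (iv F41182)) (tt N11308 F40565) (tt N11305 (iv D12277)) (tt N12021 F40566) (tt N12556 (iv F42243)) (tt N12430 (iv F41645)))
theorem Q12182 : ∀ i, i < 12182 → P i := stepQ 12181 Q12181 (allL N12181 (tt N11311 F40567) (tt N11667 F40568) (tt N11306 (iv D12278)) (tt N11588 F40569) (tt N12588 D12685) (tt N11307 F40570) (tt N12141 F40571) (tt N11665 F40572))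
theorem Q12183 : ∀ i, i < 12183 → P i := stepQ 12182 Q12182 (allL N12182 (tt N11312 F40573) (tt N12147 F40574) (tt N12588 (iv F42408)) (tt N12021 F40575) (tt N11306 (iv D12279)) (tt N11308 F40576) (tt N12142 F40577) (tt N12381 (iv F41419)))
theorem Q12184 : ∀ i, i < 12184 → P i := stepQ 12183 Q12183 (allL N12183 (tt N11314 F40578) (tt N11543 F40579) (tt N11308 F40580) (tt N12589 D12686) (tt N11307 (iv D12280)) (tt N12588 (iv F42409)) (tt N11636 F40581) (tt N12188 (iv F40597)))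
theorem Q12185 : ∀ i, i < 12185 → P i := stepQ 12184 Q12184 (allL N12184 (tt N12328 (iv F41180)) (tt N11821 F40582) (tt N11310 F40583) (tt N12414 (iv F41570)) (tt N11309 (iv D12281)) (tt N12022 F40584) (tt N11784 F40585) (tt N11798 F40586))
theorem Q12186 : ∀ i, i < 12186 → P i := stepQ 12185 Q12185 (allL N12185 (tt N12588 (iv F42406)) (tt N12431 (iv F41648)) (tt N11312 F40587) (tt N12368 (iv F41359)) (tt N11311 (iv D12282)) (tt N11314 F40588) (tt N12377 (iv F41401)) (tt N12190 (iv F40604)))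
theorem Q12187 : ∀ i, i < 12187 → P i := stepQ 12186 Q12186 (allL N12186 (tt N12142 F40589) (tt N12422 (iv F41603)) (tt N12377 (iv F41399)) (tt N11802 F40590) (tt N11313 F40591) (tt N12559 (iv F42257)) (tt N11312 (iv D12283)) (tt N12251 (iv F40866)))
theorem Q12188 : ∀ i, i < 12188 → P i := stepQ 12187 Q12187 (allL N12187 (tt N12589 (iv F42412)) (tt N12534 (iv F42124)) (tt N12414 (iv F41569)) (tt N11314 (iv D12284)) (tt N11591 F40592) (tt N12368 (iv F41361)) (tt N12524 (iv F42079)) (tt N12192 (iv F40614)))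
theorem Q12189 : ∀ i, i < 12189 → P i := stepQ 12188 Q12188 (allL N12188 (tt N11322 F40593) (tt N12297 (iv F41050)) (tt N11788 F40594) (tt N11318 F40595) (tt N11316 (iv D12285)) (tt N12361 F41333) (tt N12124 F40596) (tt N12183 F40597))
theorem Q12190 : ∀ i, i < 12190 → P i := stepQ 12189 Q12189 (allL N12189 (tt N11327 F40598) (tt N12356 (iv F41307)) (tt N11703 F40599) (tt N12361 (iv F41331)) (tt N11317 (iv D12286)) (tt N11318 F40600) (tt N12355 (iv F41304)) (tt N12506 (iv F41993)))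
theorem Q12191 : ∀ i, i < 12191 → P i := stepQ 12190 Q12190 (allL N12190 (tt N12361 (iv F41329)) (tt N12331 (iv F41195)) (tt N12178 F40601) (tt N11327 F40602) (tt N11321 (iv D12287)) (tt N11322 F40603) (tt N12324 F41167) (tt N12185 F40604))
theorem Q12192 : ∀ i, i < 12192 → P i := stepQ 12191 Q12191 (allL N12191 (tt N11729 F40605) (tt N11860 F40610) (tt N11323 (iv D12288)) (tt N12191 F40606) (tt N12590 D12687) (tt N11685 F40607) (tt N11692 F40608) (tt N11771 F40609))
theorem Q12193 : ∀ i, i < 12193 → P i := stepQ 12192 Q12192 (allL N12192 (tt N12562 (iv F42267)) (tt N12580 (iv F42362)) (tt N12590 (iv F42420)) (tt N11325 F40611) (tt N11323 (iv D12289)) (tt N11686 F40612) (tt N11693 F40613) (tt N12187 F40614))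
theorem Q12194 : ∀ i, i < 12194 → P i := stepQ 12193 Q12193 (allL N12193 (tt N11808 F40615) (tt N11324 (iv D12290)) (tt N12172 F40616) (tt N12193 F40617) (tt N12591 D12688) (tt N11888 F40618) (tt N11889 F40619) (tt N11329 F40620))
theorem Q12195 : ∀ i, i < 12195 → P i := stepQ 12194 Q12194 (allL N12194 (tt N11773 F40621) (tt N12591 (iv F42425)) (tt N11325 F40622) (tt N12523 (iv F42071)) (tt N11324 (iv D12291)) (tt N12501 F41966) (tt N12564 (iv F42280)) (tt N11330 F40623))
theorem Q12196 : ∀ i, i < 12196 → P i := stepQ 12195 Q12195 (allL N12195 (tt N11703 F40624) (tt N12453 (iv F41750)) (tt N11327 F40625) (tt N11720 F40626) (tt N11326 (iv D12292)) (tt N11330 F40627) (tt N12452 (iv F41746)) (tt N12501 (iv F41965)))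
theorem Q12197 : ∀ i, i < 12197 → P i := stepQ 12196 Q12196 (allL N12196 (tt N12355 (iv F41301)) (tt N12330 (iv F41188)) (tt N12452 F41748) (tt N12324 F41166) (tt N11328 F40628) (tt N12560 (iv F42259)) (tt N11327 (iv D12293)) (tt N12327 (iv F41179)))
theorem Q12198 : ∀ i, i < 12198 → P i := stepQ 12197 Q12197 (allL N12197 (tt N11806 F40629) (tt N11330 F40630) (tt N12171 F40631) (tt N11793 F40632) (tt N11329 (iv D12294)) (tt N12592 D12689) (tt N12439 (iv F41685)) (tt N12591 (iv F42429)))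
theorem Q12199 : ∀ i, i < 12199 → P i := stepQ 12198 Q12198 (allL N12198 (tt N11807 F40633) (tt N12471 (iv F41841)) (tt N12160 F40634) (tt N11333 F40635) (tt N12592 (iv F42434)) (tt N11329 (iv D12295)) (tt N11887 F40636) (tt N11888 F40637))
theorem Q12200 : ∀ i, i < 12200 → P i := stepQ 12199 Q12199 (allL N12199 (tt N11339 F40638) (tt N11978 F40639) (tt N11794 F40640) (tt N11337 (iv D12296)) (tt N12583 (iv F42380)) (tt N11792 F40641) (tt N12177 F40642) (tt N12003 F40643))
theorem Q12201 : ∀ i, i < 12201 → P i := stepQ 12200 Q12200 (allL N12200 (tt N12177 F40644) (tt N11578 F40645) (tt N11834 F40646) (tt N11340 F40647) (tt N12585 (iv F42391)) (tt N12174 F40648) (tt N11339 (iv D12297)) (tt N12374 (iv F41389)))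
theorem Q12202 : ∀ i, i < 12202 → P i := stepQ 12201 Q12201 (allL N12201 (tt N12154 F40649) (tt N11903 F40650) (tt N11344 (iv D12298)) (tt N12135 F40651) (tt N12030 F40652) (tt N12201 F40653) (tt N11675 F40654) (tt N11902 F40655))
theorem Q12203 : ∀ i, i < 12203 → P i := stepQ 12202 Q12202 (allL N12202 (tt N11423 F40656) (tt N12487 (iv F41913)) (tt N11346 F40657) (tt N12086 F40658) (tt N11345 (iv D12299)) (tt N12232 (iv F40797)) (tt N11524 F40659) (tt N11691 F40660))
theorem Q12204 : ∀ i, i < 12204 → P i := stepQ 12203 Q12203 (allL N12203 (tt N11349 F40661) (tt N11887 F40662) (tt N12374 (iv F41385)) (tt N11347 (iv D12300)) (tt N12486 (iv F41910)) (tt N11348 F40663) (tt N12471 (iv F41844)) (tt N11834 F40664))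
theorem Q12205 : ∀ i, i < 12205 → P i := stepQ 12204 Q12204 (allL N12204 (tt N12486 (iv F41908)) (tt N11987 F40665) (tt N12443 (iv F41697)) (tt N11769 F40666) (tt N11349 (iv D12301)) (tt N11350 F40667) (tt N12472 (iv F41850)) (tt N12237 (iv F40810)))
theorem Q12206 : ∀ i, i < 12206 → P i := stepQ 12205 Q12205 (allL N12205 (tt N11444 F40668) (tt N12464 (iv F41803)) (tt N12095 F40669) (tt N11570 F40670) (tt N11352 F40671) (tt N11351 (iv D12302)) (tt N11966 F40672) (tt N12438 (iv F41680)))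
theorem Q12207 : ∀ i, i < 12207 → P i := stepQ 12206 Q12206 (allL N12206 (tt N11498 F40673) (tt N12418 (iv F41584)) (tt N11898 F40674) (tt N12207 (iv F40679)) (tt N11361 (iv D12303)) (tt N11362 F40675) (tt N12113 F40676) (tt N11920 F40677))
theorem Q12208 : ∀ i, i < 12208 → P i := stepQ 12207 Q12207 (allL N12207 (tt N12277 (iv F40976)) (tt N12122 F40678) (tt N12449 (iv F41731)) (tt N12206 F40679) (tt N11363 (iv D12304)) (tt N11365 F40680) (tt N12426 (iv F41624)) (tt N12133 F40681))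
theorem Q12209 : ∀ i, i < 12209 → P i := stepQ 12208 Q12208 (allL N12208 (tt N11414 F40682) (tt N11865 F40683) (tt N11365 F40684) (tt N11847 F40685) (tt N11364 (iv D12305)) (tt N12449 (iv F41732)) (tt N11899 F40686) (tt N12139 F40687))
theorem Q12210 : ∀ i, i < 12210 → P i := stepQ 12209 Q12209 (allL N12209 (tt N11371 F40688) (tt N12214 (iv F40713)) (tt N11367 (iv D12306)) (tt N11404 F40689) (tt N11933 F40690) (tt N11368 F40691) (tt N12213 (iv F40711)) (tt N12129 F40692))
theorem Q12211 : ∀ i, i < 12211 → P i := stepQ 12210 Q12210 (allL N12210 (tt N11620 F40693) (tt N12391 (iv F41461)) (tt N12280 (iv F40983)) (tt N12261 (iv F40907)) (tt N11369 (iv D12307)) (tt N11376 F40694) (tt N12502 (iv F41970)) (tt N12298 (iv F41059)))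
theorem Q12212 : ∀ i, i < 12212 → P i := stepQ 12211 Q12211 (allL N12211 (tt N11898 F40695) (tt N12503 (iv F41973)) (tt N11498 F40696) (tt N12390 (iv F41457)) (tt N11377 (iv D12308)) (tt N11378 F40697) (tt N12398 (iv F41494)) (tt N11630 F40698))
theorem Q12213 : ∀ i, i < 12213 → P i := stepQ 12212 Q12212 (allL N12212 (tt N12103 F40699) (tt N11390 F40700) (tt N11380 F40701) (tt N11399 F40702) (tt N11917 F40703) (tt N12212 F40704) (tt N11379 (iv D12309)) (tt N12050 F40705))
theorem Q12214 : ∀ i, i < 12214 → P i := stepQ 12213 Q12213 (allL N12213 (tt N11399 F40706) (tt N11382 F40707) (tt N11954 F40708) (tt N12103 F40709) (tt N11381 (iv D12310)) (tt N12213 F40710) (tt N12209 F40711) (tt N12100 F40712))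
theorem Q12215 : ∀ i, i < 12215 → P i := stepQ 12214 Q12214 (allL N12214 (tt N12224 (iv F40755)) (tt N12209 F40713) (tt N11593 F40714) (tt N12104 F40715) (tt N11383 F40716) (tt N12214 F40717) (tt N11382 (iv D12311)) (tt N12110 F40718))
theorem Q12216 : ∀ i, i < 12216 → P i := stepQ 12215 Q12215 (allL N12215 (tt N12232 (iv F40794)) (tt N12542 (iv F42170)) (tt N11385 F40719) (tt N12231 (iv F40792)) (tt N11384 (iv D12312)) (tt N11423 F40720) (tt N12543 (iv F42179)) (tt N11740 F40721))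
theorem Q12217 : ∀ i, i < 12217 → P i := stepQ 12216 Q12216 (allL N12216 (tt N11965 F40722) (tt N11660 F40723) (tt N12543 (iv F42175)) (tt N11394 F40724) (tt N11386 F40725) (tt N12593 D12690) (tt N11385 (iv D12313)) (tt N12345 (iv F41260)))
theorem Q12218 : ∀ i, i < 12218 → P i := stepQ 12217 Q12217 (allL N12217 (tt N11501 F40726) (tt N11466 F40727) (tt N11505 F40728) (tt N11387 F40729) (tt N12593 (iv F42441)) (tt N11386 (iv D12314)) (tt N11425 F40730) (tt N12594 D12691))
theorem Q12219 : ∀ i, i < 12219 → P i := stepQ 12218 Q12218 (allL N12218 (tt N11956 F40731) (tt N11652 F40732) (tt N12413 (iv F41563)) (tt N11389 F40733) (tt N12345 (iv F41259)) (tt N12594 (iv F42447)) (tt N12320 (iv F41148)) (tt N11386 (iv D12315)))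
theorem Q12220 : ∀ i, i < 12220 → P i := stepQ 12219 Q12219 (allL N12219 (tt N11955 F40734) (tt N12222 (iv F40749)) (tt N11970 F40735) (tt N12594 (iv F42446)) (tt N11642 F40736) (tt N11389 F40737) (tt N12354 (iv F41299)) (tt N11388 (iv D12316)))
theorem Q12221 : ∀ i, i < 12221 → P i := stepQ 12220 Q12220 (allL N12220 (tt N11966 F40738) (tt N12595 D12692) (tt N11876 F40739) (tt N12593 (iv F42440)) (tt N11395 F40740) (tt N11394 (iv D12317)) (tt N11444 F40741) (tt N11649 F40742))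
theorem Q12222 : ∀ i, i < 12222 → P i := stepQ 12221 Q12221 (allL N12221 (tt N11429 F40743) (tt N11395 (iv D12318)) (tt N12572 (iv F42317)) (tt N11396 F40744) (tt N12595 (iv F42451)) (tt N11596 F40745) (tt N11446 F40746) (tt N11648 F40747))
theorem Q12223 : ∀ i, i < 12223 → P i := stepQ 12222 Q12222 (allL N12222 (tt N11673 F40748) (tt N12219 F40749) (tt N11403 (iv D12319)) (tt N12258 (iv F40895)) (tt N12348 (iv F41268)) (tt N11415 F40750) (tt N11654 F40751) (tt N11417 F40752))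
theorem Q12224 : ∀ i, i < 12224 → P i := stepQ 12223 Q12223 (allL N12223 (tt N12449 (iv F41729)) (tt N12311 (iv F41103)) (tt N12277 (iv F40977)) (tt N11843 F40753) (tt N11413 (iv D12320)) (tt N11414 F40754) (tt N12450 (iv F41736)) (tt N12314 (iv F41123)))
theorem Q12225 : ∀ i, i < 12225 → P i := stepQ 12224 Q12224 (allL N12224 (tt N12214 F40755) (tt N11584 F40756) (tt N11420 (iv D12321)) (tt N12029 F40757) (tt N11902 F40758) (tt N12224 F40759) (tt N11587 F40760) (tt N12030 F40761))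
theorem Q12226 : ∀ i, i < 12226 → P i := stepQ 12225 Q12225 (allL N12225 (tt N12086 F40762) (tt N11622 F40763) (tt N11441 F40764) (tt N11423 (iv D12322)) (tt N11469 F40765) (tt N12231 (iv F40793)) (tt N11525 F40766) (tt N12365 (iv F41349)))
theorem Q12227 : ∀ i, i < 12227 → P i := stepQ 12226 Q12226 (allL N12226 (tt N11570 F40767) (tt N12596 D12693) (tt N11504 F40768) (tt N11444 F40769) (tt N11425 F40770) (tt N11424 (iv D12323)) (tt N12593 (iv F42442)) (tt N11500 F40771))
theorem Q12228 : ∀ i, i < 12228 → P i := stepQ 12227 Q12227 (allL N12227 (tt N11455 F40772) (tt N11425 (iv D12324)) (tt N11546 F40773) (tt N11426 F40774) (tt N12596 (iv F42458)) (tt N12482 (iv F41892)) (tt N11466 F40775) (tt N11496 F40776))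
theorem Q12229 : ∀ i, i < 12229 → P i := stepQ 12228 Q12228 (allL N12228 (tt N11446 F40777) (tt N11472 F40778) (tt N11497 F40779) (tt N11428 (iv D12325)) (tt N12597 D12694) (tt N12531 (iv F42112)) (tt N11429 F40780) (tt N11553 F40781))
theorem Q12230 : ∀ i, i < 12230 → P i := stepQ 12229 Q12229 (allL N12229 (tt N12595 (iv F42449)) (tt N11475 F40782) (tt N12578 (iv F42350)) (tt N11467 F40783) (tt N11429 (iv D12326)) (tt N11597 F40784) (tt N12597 (iv F42465)) (tt N12598 D12695))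
theorem Q12231 : ∀ i, i < 12231 → P i := stepQ 12230 Q12230 (allL N12230 (tt N11648 F40785) (tt N11476 F40786) (tt N12400 (iv F41504)) (tt N11551 F40787) (tt N12598 (iv F42469)) (tt N11598 F40788) (tt N11550 F40789) (tt N11429 (iv D12327)))
theorem Q12232 : ∀ i, i < 12232 → P i := stepQ 12231 Q12231 (allL N12231 (tt N11432 F40790) (tt N12546 (iv F42194)) (tt N11431 F40791) (tt N12215 F40792) (tt N11430 (iv D12328)) (tt N12225 F40793) (tt N12485 (iv F41906)) (tt N12564 (iv F42281)))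
theorem Q12233 : ∀ i, i < 12233 → P i := stepQ 12232 Q12232 (allL N12232 (tt N12215 F40794) (tt N12585 (iv F42388)) (tt N11579 F40795) (tt N11432 (iv D12329)) (tt N11578 F40796) (tt N12202 F40797) (tt N12532 (iv F42117)) (tt N12373 (iv F41383)))
theorem Q12234 : ∀ i, i < 12234 → P i := stepQ 12233 Q12233 (allL N12233 (tt N12484 (iv F41900)) (tt N12599 D12696) (tt N12555 (iv F42236)) (tt N12483 F41898) (tt N11434 F40798) (tt N11433 (iv D12330)) (tt N12563 (iv F42275)) (tt N12552 (iv F42225)))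
theorem Q12235 : ∀ i, i < 12235 → P i := stepQ 12234 Q12234 (allL N12234 (tt N12531 (iv F42108)) (tt N11434 (iv D12331)) (tt N12558 (iv F42251)) (tt N11435 F40799) (tt N12599 (iv F42473)) (tt N11446 F40800) (tt N12549 (iv F42214)) (tt N12351 F41288))
theorem Q12236 : ∀ i, i < 12236 → P i := stepQ 12235 Q12235 (allL N12235 (tt N12482 (iv F41888)) (tt N11713 F40801) (tt N12338 (iv F41229)) (tt N11437 (iv D12332)) (tt N12600 D12697) (tt N11455 F40802) (tt N11599 F40803) (tt N12312 (iv F41112)))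
theorem Q12237 : ∀ i, i < 12237 → P i := stepQ 12236 Q12236 (allL N12236 (tt N11439 F40804) (tt N12092 F40805) (tt N12584 (iv F42385)) (tt N12375 (iv F41391)) (tt N11438 (iv D12333)) (tt N12455 (iv F41764)) (tt N12161 F40806) (tt N11879 F40807))
theorem Q12238 : ∀ i, i < 12238 → P i := stepQ 12237 Q12237 (allL N12237 (tt N12455 (iv F41760)) (tt N11880 F40808) (tt N12586 (iv F42395)) (tt N12489 (iv F41926)) (tt N11440 F40809) (tt N11439 (iv D12334)) (tt N12432 (iv F41654)) (tt N12204 F40810))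
theorem Q12239 : ∀ i, i < 12239 → P i := stepQ 12238 Q12238 (allL N12238 (tt N12087 F40811) (tt N12541 (iv F42163)) (tt N11525 F40812) (tt N11442 F40813) (tt N11477 F40814) (tt N12601 D12698) (tt N11441 (iv D12335)) (tt N11549 F40815))
theorem Q12240 : ∀ i, i < 12240 → P i := stepQ 12239 Q12239 (allL N12239 (tt N12095 F40816) (tt N12419 (iv F41589)) (tt N11444 F40817) (tt N12601 (iv F42481)) (tt N11443 F40818) (tt N11442 (iv D12336)) (tt N11876 F40819) (tt N12581 (iv F42372)))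
theorem Q12241 : ∀ i, i < 12241 → P i := stepQ 12240 Q12240 (allL N12240 (tt N12597 (iv F42461)) (tt N11444 (iv D12337)) (tt N12602 D12699) (tt N12596 (iv F42457)) (tt N11446 F40820) (tt N12599 (iv F42474)) (tt N12595 (iv F42453)) (tt N12603 D12700))
theorem Q12242 : ∀ i, i < 12242 → P i := stepQ 12241 Q12241 (allL N12241 (tt N12438 (iv F41676)) (tt N12603 (iv F42490)) (tt N12581 (iv F42368)) (tt N12604 D12701) (tt N11447 F40821) (tt N11445 F40822) (tt N12605 D12702) (tt N11444 (iv D12338)))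
theorem Q12243 : ∀ i, i < 12243 → P i := stepQ 12242 Q12242 (allL N12242 (tt N11563 F40823) (tt N12124 F40824) (tt N11531 F40825) (tt N11445 (iv D12339)) (tt N11450 F40826) (tt N12604 (iv F42499)) (tt N12297 (iv F41053)) (tt N11523 F40827))
theorem Q12244 : ∀ i, i < 12244 → P i := stepQ 12243 Q12243 (allL N12243 (tt N11497 F40828) (tt N12417 (iv F41580)) (tt N11446 (iv D12340)) (tt N11495 F40829) (tt N12602 (iv F42487)) (tt N12558 (iv F42254)) (tt N12572 (iv F42320)) (tt N11513 (iv F40830)))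
theorem Q12245 : ∀ i, i < 12245 → P i := stepQ 12244 Q12244 (allL N12244 (tt N11553 F40831) (tt N11447 F40832) (tt N11513 F40833) (tt N11453 F40834) (tt N12603 (iv F42492)) (tt N12351 (iv F41287)) (tt N11511 F40835) (tt N11446 (iv D12341)))
theorem Q12246 : ∀ i, i < 12246 → P i := stepQ 12245 Q12245 (allL N12245 (tt N11969 F40836) (tt N11511 F40837) (tt N11869 F40838) (tt N11454 F40839) (tt N12605 (iv F42506)) (tt N12275 (iv F40967)) (tt N11447 (iv D12342)) (tt N11650 F40840))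
theorem Q12247 : ∀ i, i < 12247 → P i := stepQ 12246 Q12246 (allL N12246 (tt N11561 F40841) (tt N11866 F40842) (tt N11529 F40843) (tt N11449 (iv D12343)) (tt N12604 (iv F42498)) (tt N11450 F40844) (tt N11873 F40845) (tt N11499 F40846))
theorem Q12248 : ∀ i, i < 12248 → P i := stepQ 12247 Q12247 (allL N12247 (tt N11546 F40847) (tt N11526 F40848) (tt N11455 F40849) (tt N11452 (iv D12344)) (tt N12606 D12703) (tt N12338 (iv F41231)) (tt N11465 F40850) (tt N11535 F40851))
theorem Q12249 : ∀ i, i < 12249 → P i := stepQ 12248 Q12248 (allL N12248 (tt N12596 (iv F42455)) (tt N11484 F40852) (tt N12606 (iv F42510)) (tt N12597 (iv F42464)) (tt N11455 (iv D12345)) (tt N12600 (iv F42476)) (tt N11467 F40853) (tt N12607 D12704))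
theorem Q12250 : ∀ i, i < 12250 → P i := stepQ 12249 Q12249 (allL N12249 (tt N11496 F40854) (tt N11485 F40855) (tt N11535 F40856) (tt N11494 F40857) (tt N12607 (iv F42518)) (tt N12312 (iv F41111)) (tt N11533 F40858) (tt N11455 (iv D12346)))
theorem Q12251 : ∀ i, i < 12251 → P i := stepQ 12250 Q12250 (allL N12250 (tt N12075 F40859) (tt N12274 (iv F40961)) (tt N12059 F40860) (tt N11457 (iv D12347)) (tt N12608 D12705) (tt N11458 F40861) (tt N12272 (iv F40959)) (tt N12078 F40862))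
theorem Q12252 : ∀ i, i < 12252 → P i := stepQ 12251 Q12251 (allL N12251 (tt N11924 F40863) (tt N12556 (iv F42240)) (tt N12164 F40864) (tt N11464 F40865) (tt N11458 (iv D12348)) (tt N12608 (iv F42523)) (tt N12322 (iv F41158)) (tt N12186 F40866))
theorem Q12253 : ∀ i, i < 12253 → P i := stepQ 12252 Q12252 (allL N12252 (tt N11535 F40867) (tt N11465 F40868) (tt N11496 F40869) (tt N11460 (iv D12349)) (tt N12609 D12706) (tt N12299 (iv F41064)) (tt N11526 F40870) (tt N11546 F40871))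
theorem Q12254 : ∀ i, i < 12254 → P i := stepQ 12253 Q12253 (allL N12253 (tt N11513 F40872) (tt N11462 F40873) (tt N11553 F40874) (tt N11461 (iv D12350)) (tt N12610 D12707) (tt N12289 (iv F41021)) (tt N11506 F40875) (tt N11497 F40876))
theorem Q12255 : ∀ i, i < 12255 → P i := stepQ 12254 Q12254 (allL N12254 (tt N11920 F40877) (tt N12610 (iv F42531)) (tt N11630 F40878) (tt N12608 (iv F42522)) (tt N11462 (iv D12351)) (tt N11464 F40879) (tt N12611 D12708) (tt N11498 F40880))
theorem Q12256 : ∀ i, i < 12256 → P i := stepQ 12255 Q12255 (allL N12255 (tt N11921 F40881) (tt N11506 F40882) (tt N11631 F40883) (tt N11463 F40884) (tt N12611 (iv F42538)) (tt N12276 (iv F40973)) (tt N11462 (iv D12352)) (tt N11870 F40885))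
theorem Q12257 : ∀ i, i < 12257 → P i := stepQ 12256 Q12256 (allL N12256 (tt N11545 F40886) (tt N12609 (iv F42526)) (tt N11467 F40887) (tt N12304 (iv F41083)) (tt N11465 (iv D12353)) (tt N11601 F40888) (tt N12606 (iv F42512)) (tt N11548 F40889))
theorem Q12258 : ∀ i, i < 12258 → P i := stepQ 12257 Q12257 (allL N12257 (tt N11467 F40890) (tt N12593 (iv F42438)) (tt N11545 F40891) (tt N12595 (iv F42450)) (tt N11466 (iv D12354)) (tt N11602 F40892) (tt N12596 (iv F42459)) (tt N12612 D12709))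
theorem Q12259 : ∀ i, i < 12259 → P i := stepQ 12258 Q12258 (allL N12258 (tt N11468 F40893) (tt N12594 (iv F42444)) (tt N11532 F40894) (tt N12222 F40895) (tt N12612 (iv F42542)) (tt N11603 F40896) (tt N11541 F40897) (tt N11466 (iv D12355)))
theorem Q12260 : ∀ i, i < 12260 → P i := stepQ 12259 Q12259 (allL N12259 (tt N12612 (iv F42540)) (tt N11504 F40898) (tt N11548 F40899) (tt N12613 D12710) (tt N11468 F40900) (tt N11604 F40901) (tt N11547 (iv F40902)) (tt N11467 (iv D12356)))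
theorem Q12261 : ∀ i, i < 12261 → P i := stepQ 12260 Q12260 (allL N12260 (tt N12464 (iv F41802)) (tt N12597 (iv F42462)) (tt N12503 (iv F41974)) (tt N11484 F40903) (tt N11472 (iv D12357)) (tt N11724 F40904) (tt N11475 F40905) (tt N12463 (iv F41801)))
theorem Q12262 : ∀ i, i < 12262 → P i := stepQ 12261 Q12261 (allL N12261 (tt N12335 (iv F41211)) (tt N12398 (iv F41490)) (tt N11475 F40906) (tt N12210 F40907) (tt N11473 (iv D12358)) (tt N11517 F40908) (tt N12503 (iv F41977)) (tt N11544 F40909))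
theorem Q12263 : ∀ i, i < 12263 → P i := stepQ 12262 Q12262 (allL N12262 (tt N11475 F40910) (tt N11966 F40911) (tt N12335 (iv F41212)) (tt N11502 F40912) (tt N11474 (iv D12359)) (tt N11518 F40913) (tt N12464 F41808) (tt N11967 F40914))
theorem Q12264 : ∀ i, i < 12264 → P i := stepQ 12263 Q12263 (allL N12263 (tt N11967 F40915) (tt N12598 (iv F42468)) (tt N11544 F40916) (tt N12614 D12711) (tt N11476 F40917) (tt N11519 F40918) (tt N11872 (iv F40919)) (tt N11475 (iv D12360)))
theorem Q12265 : ∀ i, i < 12265 → P i := stepQ 12264 Q12264 (allL N12264 (tt N12088 F40920) (tt N12064 F40921) (tt N12548 (iv F42206)) (tt N11478 F40922) (tt N12601 (iv F42482)) (tt N11477 (iv D12361)) (tt N12079 F40923) (tt N12363 (iv F41339)))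
theorem Q12266 : ∀ i, i < 12266 → P i := stepQ 12265 Q12265 (allL N12265 (tt N11533 F40924) (tt N11482 F40925) (tt N11526 F40926) (tt N11479 (iv D12362)) (tt N12615 D12712) (tt N11527 F40927) (tt N11496 F40928) (tt N11541 F40929))
theorem Q12267 : ∀ i, i < 12267 → P i := stepQ 12266 Q12266 (allL N12266 (tt N11569 F40930) (tt N12097 F40931) (tt N11904 F40932) (tt N11480 (iv D12363)) (tt N12616 D12713) (tt N11658 F40933) (tt N11499 F40934) (tt N11909 F40935))
theorem Q12268 : ∀ i, i < 12268 → P i := stepQ 12267 Q12267 (allL N12267 (tt N11576 F40936) (tt N12615 (iv F42559)) (tt N11484 F40937) (tt N12616 (iv F42568)) (tt N11482 (iv D12364)) (tt N11666 F40938) (tt N11500 F40939) (tt N12617 D12714))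
theorem Q12269 : ∀ i, i < 12269 → P i := stepQ 12268 Q12268 (allL N12268 (tt N11572 F40940) (tt N11541 F40941) (tt N11485 F40942) (tt N12354 (iv F41296)) (tt N12617 (iv F42575)) (tt N11667 F40943) (tt N12594 (iv F42448)) (tt N11482 (iv D12365)))
theorem Q12270 : ∀ i, i < 12270 → P i := stepQ 12269 Q12269 (allL N12269 (tt N11484 F40944) (tt N11570 F40945) (tt N11576 F40946) (tt N12464 (iv F41805)) (tt N11483 (iv D12366)) (tt N11699 F40947) (tt N11502 F40948) (tt N11573 F40949))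
theorem Q12271 : ∀ i, i < 12271 → P i := stepQ 12270 Q12270 (allL N12270 (tt N11573 F40950) (tt N12607 (iv F42515)) (tt N12617 (iv F42574)) (tt N12573 (iv F42324)) (tt N11485 F40951) (tt N11725 F40952) (tt N12618 D12715) (tt N11484 (iv D12367)))
theorem Q12272 : ∀ i, i < 12272 → P i := stepQ 12271 Q12271 (allL N12271 (tt N11574 F40953) (tt N11533 F40954) (tt N12594 (iv F42445)) (tt N11571 F40955) (tt N12618 (iv F42579)) (tt N12413 (iv F41565)) (tt N11485 (iv D12368)) (tt N11505 F40956))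
theorem Q12273 : ∀ i, i < 12273 → P i := stepQ 12272 Q12272 (allL N12272 (tt N12558 (iv F42249)) (tt N11487 F40957) (tt N12531 (iv F42110)) (tt N11486 (iv D12369)) (tt N12619 D12716) (tt N11497 F40958) (tt N12250 F40959) (tt N12289 (iv F41022)))
theorem Q12274 : ∀ i, i < 12274 → P i := stepQ 12273 Q12273 (allL N12273 (tt N12288 (iv F41012)) (tt N12619 (iv F42581)) (tt N12350 (iv F41279)) (tt N12287 (iv F41010)) (tt N11487 (iv D12370)) (tt N11489 F40960) (tt N12620 D12717) (tt N12557 (iv F42248)))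
theorem Q12275 : ∀ i, i < 12275 → P i := stepQ 12274 Q12274 (allL N12274 (tt N12289 (iv F41017)) (tt N12250 F40961) (tt N12351 (iv F41285)) (tt N11488 F40962) (tt N12620 (iv F42587)) (tt N11513 F40963) (tt N11487 (iv D12371)) (tt N12558 (iv F42253)))
theorem Q12276 : ∀ i, i < 12276 → P i := stepQ 12275 Q12275 (allL N12275 (tt N11869 F40964) (tt N11499 F40965) (tt N11969 F40966) (tt N11490 (iv D12372)) (tt N12621 D12718) (tt N12245 F40967) (tt N12097 F40968) (tt N11866 F40969))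
theorem Q12277 : ∀ i, i < 12277 → P i := stepQ 12276 Q12276 (allL N12276 (tt N11870 F40970) (tt N11492 F40971) (tt N11867 F40972) (tt N11491 (iv D12373)) (tt N12622 D12719) (tt N12255 F40973) (tt N12098 F40974) (tt N11921 F40975))
theorem Q12278 : ∀ i, i < 12278 → P i := stepQ 12277 Q12277 (allL N12277 (tt N12207 F40976) (tt N12622 (iv F42597)) (tt N12223 F40977) (tt N11498 F40978) (tt N11492 (iv D12374)) (tt N11493 F40979) (tt N12577 (iv F42347)) (tt N12437 (iv F41675)))
theorem Q12279 : ∀ i, i < 12279 → P i := stepQ 12278 Q12278 (allL N12278 (tt N12607 (iv F42514)) (tt N11500 F40980) (tt N12609 (iv F42527)) (tt N12621 (iv F42592)) (tt N11496 (iv D12375)) (tt N12481 (iv F41887)) (tt N12615 (iv F42563)) (tt N12596 (iv F42460)))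
theorem Q12280 : ∀ i, i < 12280 → P i := stepQ 12279 Q12279 (allL N12279 (tt N12602 (iv F42485)) (tt N11498 F40981) (tt N12597 (iv F42463)) (tt N12622 (iv F42599)) (tt N11497 (iv D12376)) (tt N12619 (iv F42583)) (tt N12578 (iv F42353)) (tt N12610 (iv F42534)))
theorem Q12281 : ∀ i, i < 12281 → P i := stepQ 12280 Q12280 (allL N12280 (tt N11568 F40982) (tt N12621 (iv F42590)) (tt N12210 F40983) (tt N11500 F40984) (tt N11499 (iv D12377)) (tt N11523 F40985) (tt N12616 (iv F42570)) (tt N12604 (iv F42500)))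
theorem Q12282 : ∀ i, i < 12282 → P i := stepQ 12281 Q12281 (allL N12281 (tt N11505 F40986) (tt N11572 F40987) (tt N11501 (iv D12378)) (tt N12115 F40988) (tt N12623 D12720) (tt N11964 F40989) (tt N11503 F40990) (tt N11574 (iv F40991)))
theorem Q12283 : ∀ i, i < 12283 → P i := stepQ 12282 Q12282 (allL N12282 (tt N12593 (iv F42437)) (tt N11502 F40992) (tt N12623 (iv F42605)) (tt N11966 F40993) (tt N11501 (iv D12379)) (tt N11965 F40994) (tt N11570 F40995) (tt N12624 D12721))
theorem Q12284 : ∀ i, i < 12284 → P i := stepQ 12283 Q12283 (allL N12283 (tt N12594 (iv F42443)) (tt N11503 F40996) (tt N11574 F40997) (tt N11955 F40998) (tt N12624 (iv F42613)) (tt N11956 F40999) (tt N11572 F41000) (tt N11501 (iv D12380)))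
theorem Q12285 : ∀ i, i < 12285 → P i := stepQ 12284 Q12284 (allL N12284 (tt N11504 F41001) (tt N12624 (iv F42610)) (tt N11570 F41002) (tt N12625 D12722) (tt N11503 F41003) (tt N11524 F41004) (tt N12623 (iv F42608)) (tt N11502 (iv D12381)))
theorem Q12286 : ∀ i, i < 12286 → P i := stepQ 12285 Q12285 (allL N12285 (tt N12625 (iv F42616)) (tt N12613 (iv F42545)) (tt N12601 (iv F42480)) (tt N11504 (iv D12382)) (tt N12548 (iv F42208)) (tt N11525 F41005) (tt N12626 D12723) (tt N12614 (iv F42557)))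
theorem Q12287 : ∀ i, i < 12287 → P i := stepQ 12286 Q12286 (allL N12286 (tt N12623 (iv F42603)) (tt N11547 F41006) (tt N12593 (iv F42439)) (tt N12626 (iv F42626)) (tt N11505 F41007) (tt N12543 (iv F42178)) (tt N11504 (iv D12383)) (tt N12618 (iv F42580)))
theorem Q12288 : ∀ i, i < 12288 → P i := stepQ 12287 Q12287 (allL N12287 (tt N11512 F41008) (tt N12611 (iv F42536)) (tt N11552 F41009) (tt N12273 F41010) (tt N11506 (iv D12384)) (tt N11507 F41011) (tt N12610 (iv F42533)) (tt N12569 (iv F42302)))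
theorem Q12289 : ∀ i, i < 12289 → P i := stepQ 12288 Q12288 (allL N12288 (tt N12273 F41012) (tt N12574 (iv F42328)) (tt N11962 F41013) (tt N11512 F41014) (tt N11508 (iv D12385)) (tt N11510 F41015) (tt N12627 D12724) (tt N12077 F41016))
theorem Q12290 : ∀ i, i < 12290 → P i := stepQ 12289 Q12289 (allL N12289 (tt N12274 F41017) (tt N12072 F41018) (tt N11963 F41019) (tt N11509 F41020) (tt N12627 (iv F42634)) (tt N12253 F41021) (tt N11508 (iv D12386)) (tt N12272 F41022))
theorem Q12291 : ∀ i, i < 12291 → P i := stepQ 12290 Q12290 (allL N12290 (tt N11552 F41023) (tt N12605 (iv F42503)) (tt N11512 F41024) (tt N11874 F41025) (tt N11511 (iv D12387)) (tt N11514 F41026) (tt N12603 (iv F42493)) (tt N12570 (iv F42309)))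
theorem Q12292 : ∀ i, i < 12292 → P i := stepQ 12291 Q12291 (allL N12291 (tt N12610 (iv F42530)) (tt N12575 (iv F42334)) (tt N12603 (iv F42491)) (tt N12627 (iv F42633)) (tt N11513 F41027) (tt N12620 (iv F42588)) (tt N11512 (iv D12388)) (tt N12602 F42488))
theorem Q12293 : ∀ i, i < 12293 → P i := stepQ 12292 Q12292 (allL N12292 (tt N11981 F41028) (tt N11616 F41029) (tt N11549 F41030) (tt N11519 (iv D12389)) (tt N11979 F41031) (tt N12614 (iv F42555)) (tt N11639 F41032) (tt N11525 F41033))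
theorem Q12294 : ∀ i, i < 12294 → P i := stepQ 12293 Q12293 (allL N12293 (tt N12298 (iv F41055)) (tt N12478 (iv F41879)) (tt N12311 (iv F41104)) (tt N12296 (iv F41046)) (tt N11520 (iv D12390)) (tt N11522 F41034) (tt N12628 D12725) (tt N11620 F41035))
theorem Q12295 : ∀ i, i < 12295 → P i := stepQ 12294 Q12294 (allL N12294 (tt N12299 (iv F41060)) (tt N11539 F41036) (tt N12312 (iv F41109)) (tt N11521 F41037) (tt N12628 (iv F42639)) (tt N11535 F41038) (tt N11520 (iv D12391)) (tt N12338 (iv F41232)))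
theorem Q12296 : ∀ i, i < 12296 → P i := stepQ 12295 Q12295 (allL N12295 (tt N11525 F41039) (tt N11974 F41040) (tt N12087 F41041) (tt N11524 (iv D12392)) (tt N11973 F41042) (tt N12625 (iv F42620)) (tt N12086 F41043) (tt N11981 F41044))
theorem Q12297 : ∀ i, i < 12297 → P i := stepQ 12296 Q12296 (allL N12296 (tt N11534 F41045) (tt N12606 (iv F42509)) (tt N12615 (iv F42560)) (tt N12293 F41046) (tt N11526 (iv D12393)) (tt N11528 F41047) (tt N12609 (iv F42528)) (tt N11542 F41048))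
theorem Q12298 : ∀ i, i < 12298 → P i := stepQ 12297 Q12297 (allL N12297 (tt N11536 F41049) (tt N12188 F41050) (tt N11528 F41051) (tt N12096 F41052) (tt N11527 (iv D12394)) (tt N12615 (iv F42562)) (tt N12242 F41053) (tt N11543 F41054))
theorem Q12299 : ∀ i, i < 12299 → P i := stepQ 12298 Q12298 (allL N12298 (tt N12293 F41055) (tt N11864 F41056) (tt N12604 (iv F42497)) (tt N11534 F41057) (tt N11529 (iv D12395)) (tt N11531 F41058) (tt N12629 D12726) (tt N12210 F41059))
theorem Q12300 : ∀ i, i < 12300 → P i := stepQ 12299 Q12299 (allL N12299 (tt N12294 F41060) (tt N11537 F41061) (tt N11873 F41062) (tt N11530 F41063) (tt N12629 (iv F42645)) (tt N12252 F41064) (tt N11529 (iv D12396)) (tt N11911 F41065))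
theorem Q12301 : ∀ i, i < 12301 → P i := stepQ 12300 Q12300 (allL N12300 (tt N11548 F41066) (tt N11534 F41067) (tt N12612 (iv F42541)) (tt N11864 F41068) (tt N11532 (iv D12397)) (tt N11635 F41069) (tt N11542 F41070) (tt N11545 F41071))
theorem Q12302 : ∀ i, i < 12302 → P i := stepQ 12301 Q12301 (allL N12301 (tt N12615 (iv F42558)) (tt N12618 (iv F42578)) (tt N11534 F41072) (tt N12581 (iv F42369)) (tt N11533 (iv D12398)) (tt N11536 F41073) (tt N12607 (iv F42519)) (tt N11547 F41074))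
theorem Q12303 : ∀ i, i < 12303 → P i := stepQ 12302 Q12302 (allL N12302 (tt N12609 (iv F42525)) (tt N11542 F41075) (tt N12607 (iv F42516)) (tt N12629 (iv F42644)) (tt N11535 F41076) (tt N12628 (iv F42640)) (tt N11534 (iv D12399)) (tt N12606 (iv F42513)))
theorem Q12304 : ∀ i, i < 12304 → P i := stepQ 12303 Q12303 (allL N12303 (tt N11544 F41077) (tt N12629 (iv F42642)) (tt N11967 F41078) (tt N11542 F41079) (tt N11537 (iv D12400)) (tt N11538 F41080) (tt N11864 F41081) (tt N12335 (iv F41216)))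
theorem Q12305 : ∀ i, i < 12305 → P i := stepQ 12304 Q12304 (allL N12304 (tt N11750 F41082) (tt N12628 (iv F42637)) (tt N12567 (iv F42291)) (tt N12256 F41083) (tt N11539 (iv D12401)) (tt N11540 F41084) (tt N12478 (iv F41881)) (tt N12392 (iv F41469)))
theorem Q12306 : ∀ i, i < 12306 → P i := stepQ 12305 Q12305 (allL N12305 (tt N11547 F41085) (tt N12617 (iv F42573)) (tt N11542 F41086) (tt N12630 D12727) (tt N11541 (iv D12402)) (tt N11543 F41087) (tt N12612 F42544) (tt N12615 (iv F42564)))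
theorem Q12307 : ∀ i, i < 12307 → P i := stepQ 12306 Q12306 (allL N12306 (tt N11549 F41088) (tt N12589 (iv F42413)) (tt N11981 F41089) (tt N11543 (iv D12403)) (tt N11980 F41090) (tt N12630 (iv F42651)) (tt N11638 F41091) (tt N12087 F41092))
theorem Q12308 : ∀ i, i < 12308 → P i := stepQ 12307 Q12307 (allL N12307 (tt N12606 (iv F42508)) (tt N11548 F41093) (tt N12596 (iv F42456)) (tt N11871 F41094) (tt N11546 F41095) (tt N12505 (iv F41986)) (tt N11545 (iv D12404)) (tt N12609 (iv F42529)))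
theorem Q12309 : ∀ i, i < 12309 → P i := stepQ 12308 Q12308 (allL N12308 (tt N12630 (iv F42648)) (tt N12626 (iv F42624)) (tt N12614 (iv F42553)) (tt N11547 (iv D12405)) (tt N12363 (iv F41338)) (tt N11549 F41096) (tt N12613 (iv F42549)) (tt N12601 (iv F42484)))
theorem Q12310 : ∀ i, i < 12310 → P i := stepQ 12309 Q12309 (allL N12309 (tt N12570 (iv F42303)) (tt N11872 F41097) (tt N12569 (iv F42300)) (tt N12080 F41098) (tt N11550 (iv D12406)) (tt N11554 F41099) (tt N12598 (iv F42471)) (tt N11552 F41100))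
theorem Q12311 : ∀ i, i < 12311 → P i := stepQ 12310 Q12310 (allL N12310 (tt N12603 (iv F42489)) (tt N12463 (iv F41796)) (tt N12610 (iv F42532)) (tt N11868 F41101) (tt N11553 F41102) (tt N12530 (iv F42107)) (tt N11552 (iv D12407)) (tt N12597 (iv F42466)))
theorem Q12312 : ∀ i, i < 12312 → P i := stepQ 12311 Q12311 (allL N12311 (tt N12604 (iv F42495)) (tt N12223 F41103) (tt N12293 F41104) (tt N12438 (iv F41678)) (tt N11561 (iv D12408)) (tt N11563 F41105) (tt N12631 D12728) (tt N11568 F41106))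
theorem Q12313 : ∀ i, i < 12313 → P i := stepQ 12312 Q12312 (allL N12312 (tt N11873 F41107) (tt N11823 F41108) (tt N12294 F41109) (tt N11562 F41110) (tt N12631 (iv F42657)) (tt N12249 F41111) (tt N11561 (iv D12409)) (tt N12235 F41112))
theorem Q12314 : ∀ i, i < 12314 → P i := stepQ 12313 Q12313 (allL N12313 (tt N12027 F41113) (tt N12035 F41114) (tt N11565 (iv D12410)) (tt N11932 F41115) (tt N12036 F41116) (tt N11766 F41117) (tt N12152 F41118) (tt N12025 F41119))
theorem Q12315 : ∀ i, i < 12315 → P i := stepQ 12314 Q12314 (allL N12314 (tt N12573 (iv F42321)) (tt N11568 F41120) (tt N12437 (iv F41673)) (tt N11573 F41121) (tt N11566 (iv D12411)) (tt N11767 F41122) (tt N12421 F41600) (tt N12223 F41123))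
theorem Q12316 : ∀ i, i < 12316 → P i := stepQ 12315 Q12315 (allL N12315 (tt N12616 (iv F42565)) (tt N12421 (iv F41597)) (tt N11918 F41124) (tt N11576 F41125) (tt N11569 F41126) (tt N11678 F41127) (tt N11568 (iv D12412)) (tt N12325 (iv F41170)))
theorem Q12317 : ∀ i, i < 12317 → P i := stepQ 12316 Q12316 (allL N12316 (tt N12617 (iv F42572)) (tt N12623 (iv F42604)) (tt N11573 F41128) (tt N12632 D12729) (tt N11572 (iv D12413)) (tt N11700 F41129) (tt N12624 (iv F42615)) (tt N11576 F41130))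
theorem Q12318 : ∀ i, i < 12318 → P i := stepQ 12317 Q12317 (allL N12317 (tt N12618 (iv F42577)) (tt N11576 F41131) (tt N12624 (iv F42611)) (tt N12421 F41601) (tt N11574 F41132) (tt N12425 (iv F41619)) (tt N11573 (iv D12414)) (tt N12623 (iv F42609)))
theorem Q12319 : ∀ i, i < 12319 → P i := stepQ 12318 Q12318 (allL N12318 (tt N12413 (iv F41562)) (tt N11697 F41133) (tt N11956 F41134) (tt N11575 F41135) (tt N12425 (iv F41618)) (tt N11574 (iv D12415)) (tt N11771 F41136) (tt N11964 F41137))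
theorem Q12320 : ∀ i, i < 12320 → P i := stepQ 12319 Q12319 (allL N12319 (tt N11932 F41138) (tt N12030 F41139) (tt N11586 F41140) (tt N12027 F41141) (tt N11903 F41142) (tt N11585 F41143) (tt N12153 F41144) (tt N11584 (iv D12416)))
theorem Q12321 : ∀ i, i < 12321 → P i := stepQ 12320 Q12320 (allL N12320 (tt N11591 F41145) (tt N11980 F41146) (tt N11983 F41147) (tt N11589 (iv D12417)) (tt N12589 (iv F42415)) (tt N12359 (iv F41325)) (tt N12218 F41148) (tt N12085 F41149))
theorem Q12322 : ∀ i, i < 12322 → P i := stepQ 12321 Q12321 (allL N12321 (tt N11595 F41150) (tt N11719 F41151) (tt N11596 F41152) (tt N11594 (iv D12418)) (tt N12402 (iv F41515)) (tt N12572 (iv F42319)) (tt N12143 F41153) (tt N11663 F41154))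
theorem Q12323 : ∀ i, i < 12323 → P i := stepQ 12322 Q12322 (allL N12322 (tt N12402 (iv F41512)) (tt N12180 F41155) (tt N11597 F41156) (tt N12099 F41157) (tt N11595 (iv D12419)) (tt N12578 (iv F42352)) (tt N12251 F41158) (tt N12587 (iv F42405)))
theorem Q12324 : ∀ i, i < 12324 → P i := stepQ 12323 Q12323 (allL N12323 (tt N11597 F41159) (tt N11661 F41160) (tt N12402 (iv F41514)) (tt N11602 F41161) (tt N11596 (iv D12420)) (tt N12595 (iv F42452)) (tt N12507 (iv F41998)) (tt N11664 F41162))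
theorem Q12325 : ∀ i, i < 12325 → P i := stepQ 12324 Q12324 (allL N12324 (tt N11664 F41163) (tt N11608 F41164) (tt N12587 (iv F42402)) (tt N12196 (iv F41166)) (tt N11598 F41165) (tt N12598 (iv F42470)) (tt N12190 (iv F41167)) (tt N11597 (iv D12421)))
theorem Q12326 : ∀ i, i < 12326 → P i := stepQ 12325 Q12325 (allL N12325 (tt N12504 (iv F41979)) (tt N11777 F41168) (tt N12337 (iv F41223)) (tt N12550 (iv F42217)) (tt N11599 (iv D12422)) (tt N11600 F41169) (tt N12600 (iv F42477)) (tt N12315 F41170))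
theorem Q12327 : ∀ i, i < 12327 → P i := stepQ 12326 Q12326 (allL N12326 (tt N11604 F41171) (tt N12344 (iv F41252)) (tt N11635 F41172) (tt N12342 (iv F41249)) (tt N11603 F41173) (tt N12612 (iv F42543)) (tt N11634 (iv F41174)) (tt N11602 (iv D12423)))
theorem Q12328 : ∀ i, i < 12328 → P i := stepQ 12327 Q12327 (allL N12327 (tt N12342 (iv F41247)) (tt N11612 F41175) (tt N11850 F41176) (tt N11604 (iv D12424)) (tt N11849 F41177) (tt N12613 (iv F42548)) (tt N11640 F41178) (tt N12196 F41179))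
theorem Q12329 : ∀ i, i < 12329 → P i := stepQ 12328 Q12328 (allL N12328 (tt N12184 F41180) (tt N11606 F41181) (tt N12180 F41182) (tt N12537 (iv F42142)) (tt N11605 (iv D12425)) (tt N12399 (iv F41500)) (tt N12424 (iv F41616)) (tt N12404 (iv F41527)))
theorem Q12330 : ∀ i, i < 12330 → P i := stepQ 12329 Q12329 (allL N12329 (tt N11695 F41183) (tt N12404 (iv F41524)) (tt N11608 F41184) (tt N12633 D12730) (tt N11607 F41185) (tt N11615 F41186) (tt N12433 (iv F41659)) (tt N11606 (iv D12426)))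
theorem Q12331 : ∀ i, i < 12331 → P i := stepQ 12330 Q12330 (allL N12330 (tt N11677 F41187) (tt N12196 F41188) (tt N11857 F41193) (tt N11608 (iv D12427)) (tt N11676 F41189) (tt N11616 F41190) (tt N12019 (iv F41192)) (tt N11612 F41191))
theorem Q12332 : ∀ i, i < 12332 → P i := stepQ 12331 Q12331 (allL N12331 (tt N11696 F41194) (tt N12190 F41195) (tt N12433 (iv F41657)) (tt N12019 F41196) (tt N11609 F41197) (tt N12446 (iv F41716)) (tt N11608 (iv D12428)) (tt N12431 (iv F41651)))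
theorem Q12333 : ∀ i, i < 12333 → P i := stepQ 12332 Q12332 (allL N12332 (tt N11948 F41198) (tt N11755 F41199) (tt N12634 D12731) (tt N11615 (iv D12429)) (tt N12332 F41200) (tt N12633 (iv F42670)) (tt N11939 F41201) (tt N11944 F41202))
theorem Q12334 : ∀ i, i < 12334 → P i := stepQ 12333 Q12333 (allL N12333 (tt N11999 F41203) (tt N12539 (iv F42152)) (tt N11616 (iv D12430)) (tt N12634 (iv F42675)) (tt N11858 F41204) (tt N11857 F41205) (tt N12538 (iv F42148)) (tt N11621 F41206))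
theorem Q12335 : ∀ i, i < 12335 → P i := stepQ 12334 Q12334 (allL N12334 (tt N12001 F41207) (tt N11639 F41208) (tt N12538 (iv F42146)) (tt N11617 F41209) (tt N11998 F41210) (tt N12447 (iv F41723)) (tt N11616 (iv D12431)) (tt N12364 (iv F41345)))
theorem Q12336 : ∀ i, i < 12336 → P i := stepQ 12335 Q12335 (allL N12335 (tt N12261 F41211) (tt N12505 (iv F41983)) (tt N12262 F41212) (tt N11620 F41213) (tt N11618 (iv D12432)) (tt N11619 F41214) (tt N11934 F41215) (tt N12303 F41216))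
theorem Q12337 : ∀ i, i < 12337 → P i := stepQ 12336 Q12336 (allL N12336 (tt N12592 (iv F42431)) (tt N11621 (iv D12433)) (tt N12541 (iv F42164)) (tt N11832 F41217) (tt N11807 F41218) (tt N11806 F41219) (tt N12014 F41220) (tt N12539 (iv F42156)))
theorem Q12338 : ∀ i, i < 12338 → P i := stepQ 12337 Q12337 (allL N12337 (tt N11910 F41221) (tt N11898 F41222) (tt N12325 F41223) (tt N11630 F41224) (tt N11625 (iv D12434)) (tt N11627 F41225) (tt N12635 D12732) (tt N11918 F41226))
theorem Q12339 : ∀ i, i < 12339 → P i := stepQ 12338 Q12338 (allL N12338 (tt N11911 F41227) (tt N11735 F41228) (tt N12235 F41229) (tt N11626 F41230) (tt N12635 (iv F42684)) (tt N12247 F41231) (tt N11625 (iv D12435)) (tt N12294 F41232))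
theorem Q12340 : ∀ i, i < 12340 → P i := stepQ 12339 Q12339 (allL N12339 (tt N11639 F41233) (tt N11985 F41234) (tt N11638 F41235) (tt N11628 (iv D12436)) (tt N11982 F41236) (tt N11900 F41237) (tt N11981 F41238) (tt N12357 (iv F41316)))
theorem Q12341 : ∀ i, i < 12341 → P i := stepQ 12340 Q12340 (allL N12340 (tt N12390 (iv F41455)) (tt N11630 F41239) (tt N12463 (iv F41797)) (tt N11898 F41240) (tt N11629 (iv D12437)) (tt N11632 F41241) (tt N11737 F41242) (tt N12503 (iv F41978)))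
theorem Q12342 : ∀ i, i < 12342 → P i := stepQ 12341 Q12341 (allL N12341 (tt N11922 F41243) (tt N11737 F41244) (tt N12611 (iv F42537)) (tt N12635 (iv F42683)) (tt N11631 F41245) (tt N12478 (iv F41880)) (tt N11630 (iv D12438)) (tt N11871 (iv F41246)))
theorem Q12343 : ∀ i, i < 12343 → P i := stepQ 12342 Q12342 (allL N12342 (tt N12327 F41247) (tt N11634 F41248) (tt N12465 (iv F41811)) (tt N12326 F41249) (tt N11633 (iv D12439)) (tt N12636 D12733) (tt N12344 (iv F41256)) (tt N12355 (iv F41305)))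
theorem Q12344 : ∀ i, i < 12344 → P i := stepQ 12343 Q12343 (allL N12343 (tt N12467 (iv F41821)) (tt N11637 F41250) (tt N12466 (iv F41817)) (tt N12348 F41271) (tt N12636 (iv F42690)) (tt N11633 (iv D12440)) (tt N12528 (iv F42100)) (tt N12349 (iv F41277)))
theorem Q12345 : ∀ i, i < 12345 → P i := stepQ 12344 Q12344 (allL N12344 (tt N11640 F41251) (tt N12326 F41252) (tt N11900 F41253) (tt N11634 (iv D12441)) (tt N12011 F41254) (tt N11638 F41255) (tt N12342 F41256) (tt N12016 F41257))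
theorem Q12346 : ∀ i, i < 12346 → P i := stepQ 12345 Q12345 (allL N12345 (tt N12524 (iv F42075)) (tt N11638 F41258) (tt N12637 D12734) (tt N11636 (iv D12442)) (tt N12218 F41259) (tt N12638 D12735) (tt N12589 (iv F42416)) (tt N12216 F41260))
theorem Q12347 : ∀ i, i < 12347 → P i := stepQ 12346 Q12346 (allL N12346 (tt N12526 (iv F42086)) (tt N12636 (iv F42688)) (tt N12557 (iv F42246)) (tt N12638 (iv F42702)) (tt N11637 F41261) (tt N11636 (iv D12443)) (tt N12639 D12736) (tt N12350 (iv F41282)))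
theorem Q12348 : ∀ i, i < 12348 → P i := stepQ 12347 Q12347 (allL N12347 (tt N12527 (iv F42090)) (tt N12528 (iv F42097)) (tt N12131 F41262) (tt N12130 F41263) (tt N12639 (iv F42710)) (tt N12141 F41264) (tt N11637 (iv D12444)) (tt N12549 (iv F42215)))
theorem Q12349 : ∀ i, i < 12349 → P i := stepQ 12348 Q12348 (allL N12348 (tt N11952 F41265) (tt N11642 F41266) (tt N11951 F41267) (tt N12343 (iv F41271)) (tt N12222 F41268) (tt N11653 F41269) (tt N12089 F41270) (tt N11641 (iv D12445)))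
theorem Q12350 : ∀ i, i < 12350 → P i := stepQ 12349 Q12349 (allL N12349 (tt N12081 F41272) (tt N11644 F41273) (tt N12062 F41274) (tt N11643 (iv D12446)) (tt N12640 D12737) (tt N11656 F41275) (tt N12063 F41276) (tt N12343 F41277))
theorem Q12351 : ∀ i, i < 12351 → P i := stepQ 12350 Q12350 (allL N12350 (tt N11962 F41278) (tt N12640 (iv F42713)) (tt N12273 F41279) (tt N11649 F41280) (tt N11644 (iv D12447)) (tt N11646 F41281) (tt N12641 D12738) (tt N12346 F41282))
theorem Q12352 : ∀ i, i < 12352 → P i := stepQ 12351 Q12351 (allL N12351 (tt N11963 F41283) (tt N12063 F41284) (tt N12274 F41285) (tt N11645 F41286) (tt N12641 (iv F42723)) (tt N12244 F41287) (tt N11644 (iv D12448)) (tt N12234 (iv F41288)))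
theorem Q12353 : ∀ i, i < 12353 → P i := stepQ 12352 Q12352 (allL N12352 (tt N12598 (iv F42467)) (tt N11649 F41289) (tt N12571 (iv F42311)) (tt N12640 (iv F42715)) (tt N11648 (iv D12449)) (tt N11664 F41290) (tt N12570 (iv F42308)) (tt N12595 (iv F42454)))
theorem Q12354 : ∀ i, i < 12354 → P i := stepQ 12353 Q12353 (allL N12353 (tt N11968 F41291) (tt N12570 (iv F42304)) (tt N11868 F41292) (tt N12641 (iv F42722)) (tt N11650 F41293) (tt N12477 (iv F41876)) (tt N11649 (iv D12450)) (tt N12605 (iv F42507)))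
theorem Q12355 : ∀ i, i < 12355 → P i := stepQ 12354 Q12354 (allL N12354 (tt N12026 F41294) (tt N11654 (iv D12451)) (tt N12024 F41295) (tt N12268 F41296) (tt N12130 F41297) (tt N12023 F41298) (tt N12219 F41299) (tt N11655 F41300))
theorem Q12356 : ∀ i, i < 12356 → P i := stepQ 12355 Q12355 (allL N12355 (tt N12196 F41301) (tt N11657 F41302) (tt N12378 (iv F41404)) (tt N11664 F41303) (tt N11656 (iv D12452)) (tt N12640 (iv F42716)) (tt N12189 F41304) (tt N12342 F41305))
theorem Q12357 : ∀ i, i < 12357 → P i := stepQ 12356 Q12356 (allL N12356 (tt N11678 F41306) (tt N12189 F41307) (tt N11905 F41308) (tt N11666 F41309) (tt N11658 F41310) (tt N12616 (iv F42569)) (tt N11657 (iv D12453)) (tt N11913 F41311))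
theorem Q12358 : ∀ i, i < 12358 → P i := stepQ 12357 Q12357 (allL N12357 (tt N11680 F41312) (tt N11760 F41313) (tt N11660 F41314) (tt N11738 (iv F41317)) (tt N11659 (iv D12454)) (tt N11756 F41315) (tt N12561 (iv F42264)) (tt N12339 F41316))
theorem Q12359 : ∀ i, i < 12359 → P i := stepQ 12358 Q12358 (allL N12358 (tt N11686 F41318) (tt N12507 (iv F41995)) (tt N11728 F41319) (tt N12506 (iv F41990)) (tt N11662 F41320) (tt N12562 (iv F42272)) (tt N11661 (iv D12455)) (tt N12642 D12739))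
theorem Q12360 : ∀ i, i < 12360 → P i := stepQ 12359 Q12359 (allL N12359 (tt N11687 F41321) (tt N12141 F41322) (tt N11726 F41323) (tt N12140 F41324) (tt N12642 (iv F42730)) (tt N12320 F41325) (tt N11667 F41326) (tt N11662 (iv D12456)))
theorem Q12361 : ∀ i, i < 12361 → P i := stepQ 12360 Q12360 (allL N12360 (tt N12587 (iv F42400)) (tt N11718 F41327) (tt N11664 F41328) (tt N12380 (iv F41410)) (tt N11663 (iv D12457)) (tt N12571 (iv F42314)) (tt N12381 (iv F41418)) (tt N12402 (iv F41517)))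
theorem Q12362 : ∀ i, i < 12362 → P i := stepQ 12361 Q12361 (allL N12361 (tt N12190 F41329) (tt N11666 F41330) (tt N12381 (iv F41415)) (tt N12189 F41331) (tt N11665 F41332) (tt N12188 (iv F41333)) (tt N11664 (iv D12458)) (tt N12588 (iv F42411)))
theorem Q12363 : ∀ i, i < 12363 → P i := stepQ 12362 Q12362 (allL N12362 (tt N11700 F41334) (tt N12588 (iv F42407)) (tt N11725 F41335) (tt N12576 (iv F42340)) (tt N11667 F41336) (tt N12617 (iv F42576)) (tt N12642 (iv F42732)) (tt N11666 (iv D12459)))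
theorem Q12364 : ∀ i, i < 12364 → P i := stepQ 12363 Q12363 (allL N12363 (tt N12528 (iv F42096)) (tt N12554 (iv F42231)) (tt N12469 (iv F41831)) (tt N11672 F41337) (tt N12308 F41338) (tt N11671 (iv D12460)) (tt N12467 (iv F41824)) (tt N12264 F41339))
theorem Q12365 : ∀ i, i < 12365 → P i := stepQ 12364 Q12364 (allL N12364 (tt N11840 F41340) (tt N11680 F41341) (tt N12007 F41342) (tt N12475 (iv F41864)) (tt N11679 (iv D12461)) (tt N11837 F41343) (tt N11891 F41344) (tt N12334 F41345))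
theorem Q12366 : ∀ i, i < 12366 → P i := stepQ 12365 Q12365 (allL N12365 (tt N12561 (iv F42260)) (tt N11891 F41346) (tt N11682 F41347) (tt N12396 (iv F41482)) (tt N11681 F41348) (tt N12564 (iv F42279)) (tt N11680 (iv D12462)) (tt N12225 F41349))
theorem Q12367 : ∀ i, i < 12367 → P i := stepQ 12366 Q12366 (allL N12366 (tt N12444 (iv F41701)) (tt N11684 F41350) (tt N12447 (iv F41720)) (tt N12518 (iv F42047)) (tt N11683 (iv D12463)) (tt N12538 (iv F42147)) (tt N11772 F41351) (tt N11698 F41352))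
theorem Q12368 : ∀ i, i < 12368 → P i := stepQ 12367 Q12367 (allL N12367 (tt N11728 F41353) (tt N11772 F41354) (tt N11686 F41355) (tt N12520 (iv F42059)) (tt N11685 F41356) (tt N12590 (iv F42421)) (tt N11684 (iv D12464)) (tt N11770 F41357))
theorem Q12369 : ∀ i, i < 12369 → P i := stepQ 12368 Q12368 (allL N12368 (tt N12642 (iv F42726)) (tt N12445 (iv F41707)) (tt N11770 F41358) (tt N12185 F41359) (tt N11687 F41360) (tt N12187 F41361) (tt N11700 F41362) (tt N11686 (iv D12465)))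
theorem Q12370 : ∀ i, i < 12370 → P i := stepQ 12369 Q12369 (allL N12369 (tt N11885 F41363) (tt N11690 F41364) (tt N11947 F41365) (tt N11688 (iv D12466)) (tt N12369 F41366) (tt N11946 F41367) (tt N12643 D12740) (tt N12513 (iv F42030)))
theorem Q12371 : ∀ i, i < 12371 → P i := stepQ 12370 Q12370 (allL N12370 (tt N11886 F41368) (tt N11691 F41369) (tt N12012 F41370) (tt N12643 (iv F42736)) (tt N11689 F41371) (tt N12644 D12741) (tt N11688 (iv D12467)) (tt N12487 (iv F41916)))
theorem Q12372 : ∀ i, i < 12372 → P i := stepQ 12371 Q12371 (allL N12371 (tt N11889 F41372) (tt N11810 F41376) (tt N12013 F41373) (tt N12371 F41374) (tt N12644 (iv F42742)) (tt N11689 (iv D12468)) (tt N11808 F41375) (tt N12488 (iv F41922)))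
theorem Q12373 : ∀ i, i < 12373 → P i := stepQ 12372 Q12372 (allL N12372 (tt N11739 F41377) (tt N12643 (iv F42734)) (tt N12396 (iv F41481)) (tt N11691 F41378) (tt N12372 F41379) (tt N12645 D12742) (tt N11690 (iv D12469)) (tt N12394 (iv F41476)))
theorem Q12374 : ∀ i, i < 12374 → P i := stepQ 12373 Q12373 (allL N12373 (tt N11740 F41380) (tt N12646 D12743) (tt N11693 F41381) (tt N12645 (iv F42747)) (tt N11692 F41382) (tt N11691 (iv D12470)) (tt N12590 (iv F42422)) (tt N12232 F41383))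
theorem Q12375 : ∀ i, i < 12375 → P i := stepQ 12374 Q12374 (allL N12374 (tt N11813 F41384) (tt N11692 (iv D12471)) (tt N12203 F41385) (tt N12374 F41386) (tt N12646 (iv F42753)) (tt N11810 F41387) (tt N11860 F41388) (tt N12200 F41389))
theorem Q12376 : ∀ i, i < 12376 → P i := stepQ 12375 Q12375 (allL N12375 (tt N12010 F41390) (tt N11693 (iv D12472)) (tt N12489 (iv F41925)) (tt N12236 F41391) (tt N11694 F41392) (tt N12014 F41393) (tt N12580 (iv F42365)) (tt N11986 F41394))
theorem Q12377 : ∀ i, i < 12377 → P i := stepQ 12376 Q12376 (allL N12376 (tt N12633 (iv F42666)) (tt N12457 (iv F41770)) (tt N12513 (iv F42027)) (tt N11695 (iv D12473)) (tt N12376 F41395) (tt N11948 F41396) (tt N12456 (iv F41767)) (tt N11947 F41397))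
theorem Q12378 : ∀ i, i < 12378 → P i := stepQ 12377 Q12377 (allL N12377 (tt N12576 (iv F42338)) (tt N12167 F41398) (tt N12186 F41399) (tt N11700 (iv D12474)) (tt N12165 F41400) (tt N12632 (iv F42663)) (tt N12185 F41401) (tt N12164 F41402))
theorem Q12379 : ∀ i, i < 12379 → P i := stepQ 12378 Q12378 (allL N12378 (tt N12452 (iv F41743)) (tt N11724 F41403) (tt N12355 F41404) (tt N11715 F41405) (tt N11702 (iv D12475)) (tt N12551 (iv F42220)) (tt N11703 F41406) (tt N12465 (iv F41814)))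
theorem Q12380 : ∀ i, i < 12380 → P i := stepQ 12379 Q12379 (allL N12379 (tt N12451 (iv F41738)) (tt N12600 (iv F42475)) (tt N12568 (iv F42295)) (tt N12551 (iv F42219)) (tt N11713 (iv D12476)) (tt N11715 F41407) (tt N11777 F41408) (tt N12450 (iv F41737)))
theorem Q12381 : ∀ i, i < 12381 → P i := stepQ 12380 Q12380 (allL N12380 (tt N12428 (iv F41630)) (tt N12381 (iv F41414)) (tt N11715 F41409) (tt N12360 F41410) (tt N11714 (iv D12477)) (tt N12568 (iv F42296)) (tt N11718 F41411) (tt N12147 F41412))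
theorem Q12382 : ∀ i, i < 12382 → P i := stepQ 12381 Q12381 (allL N12381 (tt N12178 F41413) (tt N12380 F41414) (tt N12361 F41415) (tt N11718 F41416) (tt N11716 (iv D12478)) (tt N11788 F41417) (tt N12360 F41418) (tt N12182 F41419))
theorem Q12383 : ∀ i, i < 12383 → P i := stepQ 12382 Q12382 (allL N12382 (tt N11718 F41420) (tt N12158 F41421) (tt N11720 F41422) (tt N12178 F41423) (tt N11717 (iv D12479)) (tt N11789 F41424) (tt N12428 (iv F41634)) (tt N12157 F41425))
theorem Q12384 : ∀ i, i < 12384 → P i := stepQ 12383 Q12383 (allL N12383 (tt N12157 F41426) (tt N12402 (iv F41513)) (tt N11722 F41427) (tt N12156 F41428) (tt N11719 F41429) (tt N11791 F41430) (tt N12148 F41431) (tt N11718 (iv D12480)))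
theorem Q12385 : ∀ i, i < 12385 → P i := stepQ 12384 Q12384 (allL N12384 (tt N11722 F41432) (tt N12444 (iv F41702)) (tt N12157 F41433) (tt N12411 (iv F41553)) (tt N11721 F41434) (tt N11796 F41435) (tt N11929 F41436) (tt N11720 (iv D12481)))
theorem Q12386 : ∀ i, i < 12386 → P i := stepQ 12385 Q12385 (allL N12385 (tt N12411 (iv F41552)) (tt N11727 F41437) (tt N12403 (iv F41519)) (tt N11722 (iv D12482)) (tt N12385 F41438) (tt N11797 F41439) (tt N12405 F41533) (tt N12508 (iv F42005)))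
theorem Q12387 : ∀ i, i < 12387 → P i := stepQ 12386 Q12386 (allL N12386 (tt N11929 F41440) (tt N11728 F41441) (tt N12148 F41442) (tt N12405 (iv F41531)) (tt N11723 F41443) (tt N11927 F41444) (tt N11722 (iv D12483)) (tt N12144 F41445))
theorem Q12388 : ∀ i, i < 12388 → P i := stepQ 12387 Q12387 (allL N12387 (tt N11770 F41446) (tt N12144 F41447) (tt N12642 (iv F42728)) (tt N12399 (iv F41499)) (tt N11726 F41448) (tt N12537 (iv F42143)) (tt N11725 (iv D12484)) (tt N11728 F41449))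
theorem Q12389 : ∀ i, i < 12389 → P i := stepQ 12388 Q12388 (allL N12388 (tt N12520 (iv F42056)) (tt N12405 (iv F41529)) (tt N12508 (iv F42001)) (tt N11728 F41450) (tt N12388 F41451) (tt N12647 D12744) (tt N11727 (iv D12485)) (tt N12403 (iv F41522)))
theorem Q12390 : ∀ i, i < 12390 → P i := stepQ 12389 Q12389 (allL N12389 (tt N12590 (iv F42418)) (tt N11945 F41452) (tt N12562 (iv F42269)) (tt N12647 (iv F42759)) (tt N11729 F41453) (tt N11728 (iv D12486)) (tt N11740 F41454) (tt N12537 (iv F42144)))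
theorem Q12391 : ∀ i, i < 12391 → P i := stepQ 12390 Q12390 (allL N12390 (tt N12340 F41455) (tt N12502 (iv F41968)) (tt N11843 F41456) (tt N12211 F41457) (tt N11730 (iv D12487)) (tt N11731 F41458) (tt N12391 (iv F41463)) (tt N11934 F41459))
theorem Q12392 : ∀ i, i < 12392 → P i := stepQ 12391 Q12391 (allL N12391 (tt N11737 F41460) (tt N12210 F41461) (tt N12462 (iv F41791)) (tt N12398 (iv F41492)) (tt N11733 (iv D12488)) (tt N11734 F41462) (tt N12390 F41463) (tt N11864 F41464))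
theorem Q12393 : ∀ i, i < 12393 → P i := stepQ 12392 Q12392 (allL N12392 (tt N12398 (iv F41489)) (tt N12635 (iv F42681)) (tt N12113 F41465) (tt N11737 F41466) (tt N11735 (iv D12489)) (tt N11736 F41467) (tt N11898 F41468) (tt N12304 F41469))
theorem Q12394 : ∀ i, i < 12394 → P i := stepQ 12393 Q12393 (allL N12393 (tt N12545 (iv F42187)) (tt N11738 (iv D12490)) (tt N11892 F41470) (tt N11760 F41471) (tt N12393 F41472) (tt N11759 F41473) (tt N12648 D12745) (tt N12512 (iv F42024)))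
theorem Q12395 : ∀ i, i < 12395 → P i := stepQ 12394 Q12394 (allL N12394 (tt N12396 (iv F41479)) (tt N12648 (iv F42764)) (tt N11739 F41474) (tt N12561 (iv F42266)) (tt N12394 F41475) (tt N12565 (iv F42285)) (tt N11738 (iv D12491)) (tt N12372 F41476))
theorem Q12396 : ∀ i, i < 12396 → P i := stepQ 12395 Q12395 (allL N12395 (tt N12645 (iv F42745)) (tt N12649 D12746) (tt N12565 (iv F42283)) (tt N11740 F41477) (tt N12395 F41478) (tt N11739 (iv D12492)) (tt N12647 (iv F42761)) (tt N12650 D12747))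
theorem Q12397 : ∀ i, i < 12397 → P i := stepQ 12396 Q12396 (allL N12396 (tt N12394 F41479) (tt N11895 F41480) (tt N12372 F41481) (tt N12365 F41482) (tt N12396 F41483) (tt N12650 (iv F42780)) (tt N11943 F41484) (tt N11739 (iv D12493)))
theorem Q12398 : ∀ i, i < 12398 → P i := stepQ 12397 Q12397 (allL N12397 (tt N11949 (iv F41488)) (tt N11740 (iv D12494)) (tt N12535 (iv F42130)) (tt N12649 (iv F42772)) (tt N11741 F41485) (tt N11896 F41486) (tt N11945 F41487) (tt N12542 (iv F42174)))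
theorem Q12399 : ∀ i, i < 12399 → P i := stepQ 12398 Q12398 (allL N12398 (tt N12392 F41489) (tt N12261 F41490) (tt N12151 F41491) (tt N12391 F41492) (tt N11742 (iv D12495)) (tt N11743 F41493) (tt N12211 F41494) (tt N11750 F41495))
theorem Q12400 : ∀ i, i < 12400 → P i := stepQ 12399 Q12399 (allL N12399 (tt N12022 F41496) (tt N11745 F41497) (tt N12021 F41498) (tt N12387 F41499) (tt N11744 (iv D12496)) (tt N12328 F41500) (tt N12139 F41501) (tt N11752 F41502))
theorem Q12401 : ∀ i, i < 12401 → P i := stepQ 12400 Q12400 (allL N12400 (tt N12123 F41503) (tt N11749 (iv D12497)) (tt N12230 F41504) (tt N12119 F41505) (tt N12651 D12748) (tt N12179 F41506) (tt N12118 F41507) (tt N12150 F41508))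
theorem Q12402 : ∀ i, i < 12402 → P i := stepQ 12401 Q12401 (allL N12401 (tt N12567 (iv F42290)) (tt N12651 (iv F42783)) (tt N11750 F41509) (tt N12652 D12749) (tt N11749 (iv D12498)) (tt N11751 F41510) (tt N12480 (iv F41885)) (tt N12151 F41511))
theorem Q12403 : ∀ i, i < 12403 → P i := stepQ 12402 Q12402 (allL N12402 (tt N12322 F41512) (tt N12383 F41513) (tt N12323 F41514) (tt N11751 (iv D12499)) (tt N12321 F41515) (tt N12652 (iv F42791)) (tt N11924 F41516) (tt N12360 F41517))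
theorem Q12404 : ∀ i, i < 12404 → P i := stepQ 12403 Q12403 (allL N12403 (tt N12579 (iv F42354)) (tt N11754 F41518) (tt N12385 F41519) (tt N11752 (iv D12500)) (tt N12403 F41520) (tt N12435 (iv F41665)) (tt N11928 F41521) (tt N12388 F41522))
theorem Q12405 : ∀ i, i < 12405 → P i := stepQ 12404 Q12404 (allL N12404 (tt N11798 F41523) (tt N12329 F41524) (tt N12430 F41646) (tt N12435 (iv F41663)) (tt N11753 F41525) (tt N11752 (iv D12501)) (tt N11796 F41526) (tt N12328 F41527))
theorem Q12406 : ∀ i, i < 12406 → P i := stepQ 12405 Q12405 (allL N12405 (tt N11762 F41528) (tt N12388 F41529) (tt N11928 F41530) (tt N12386 F41531) (tt N12405 F41532) (tt N12406 (iv F41539)) (tt N12385 (iv F41533)) (tt N11754 (iv D12502)))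
theorem Q12407 : ∀ i, i < 12407 → P i := stepQ 12406 Q12406 (allL N12406 (tt N11928 F41534) (tt N11944 F41535) (tt N11762 F41536) (tt N11927 F41537) (tt N12406 F41538) (tt N12405 F41539) (tt N12579 (iv F42359)) (tt N11755 (iv D12503)))
theorem Q12408 : ∀ i, i < 12408 → P i := stepQ 12407 Q12407 (allL N12407 (tt N11759 F41540) (tt N12579 (iv F42355)) (tt N12653 D12750) (tt N11758 (iv D12504)) (tt N12407 F41541) (tt N12545 (iv F42190)) (tt N11944 F41542) (tt N12415 (iv F41575)))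
theorem Q12409 : ∀ i, i < 12409 → P i := stepQ 12408 Q12408 (allL N12408 (tt N12653 (iv F42794)) (tt N12634 (iv F42674)) (tt N11759 (iv D12505)) (tt N12539 (iv F42154)) (tt N12408 F41543) (tt N11892 F41544) (tt N11946 F41545) (tt N12654 D12751))
theorem Q12410 : ∀ i, i < 12410 → P i := stepQ 12409 Q12409 (allL N12409 (tt N12415 (iv F41572)) (tt N11762 F41546) (tt N12654 (iv F42800)) (tt N11814 F41547) (tt N12409 F41548) (tt N12512 (iv F42023)) (tt N12655 D12752) (tt N11759 (iv D12506)))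
theorem Q12411 : ∀ i, i < 12411 → P i := stepQ 12410 Q12410 (allL N12410 (tt N11896 F41549) (tt N12561 (iv F42261)) (tt N12542 (iv F42171)) (tt N12648 (iv F42766)) (tt N11761 F41550) (tt N11949 F41551) (tt N11760 (iv D12507)) (tt N12535 (iv F42133)))
theorem Q12412 : ∀ i, i < 12412 → P i := stepQ 12411 Q12411 (allL N12411 (tt N12385 F41552) (tt N12655 (iv F42805)) (tt N12579 (iv F42356)) (tt N12384 F41553) (tt N12411 F41554) (tt N12434 (iv F41662)) (tt N11762 (iv D12508)) (tt N11950 F41555))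
theorem Q12413 : ∀ i, i < 12413 → P i := stepQ 12412 Q12412 (allL N12412 (tt N12005 F41556) (tt N12637 (iv F42693)) (tt N11985 F41557) (tt N12166 F41558) (tt N11764 F41559) (tt N11763 (iv D12509)) (tt N11984 F41560) (tt N11996 F41561))
theorem Q12414 : ∀ i, i < 12414 → P i := stepQ 12413 Q12413 (allL N12413 (tt N12318 F41562) (tt N11764 (iv D12510)) (tt N12218 F41563) (tt N11765 F41564) (tt N12637 (iv F42695)) (tt N12271 F41565) (tt N11983 F41566) (tt N11997 F41567))
theorem Q12415 : ∀ i, i < 12415 → P i := stepQ 12414 Q12414 (allL N12414 (tt N12537 (iv F42140)) (tt N12015 F41568) (tt N12187 F41569) (tt N12184 F41570) (tt N11771 F41571) (tt N11770 (iv D12511)) (tt N12425 (iv F41620)) (tt N12590 (iv F42423)))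
theorem Q12416 : ∀ i, i < 12416 → P i := stepQ 12415 Q12415 (allL N12415 (tt N12409 F41572) (tt N12520 (iv F42057)) (tt N12656 D12753) (tt N11772 (iv D12512)) (tt N12415 F41573) (tt N12020 F41574) (tt N12518 (iv F42050)) (tt N12407 F41575))
theorem Q12417 : ∀ i, i < 12417 → P i := stepQ 12416 Q12416 (allL N12416 (tt N12523 (iv F42070)) (tt N11811 F41576) (tt N12647 (iv F42758)) (tt N11773 (iv D12513)) (tt N12416 F41577) (tt N12508 (iv F42003)) (tt N12565 (iv F42286)) (tt N11797 F41578))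
theorem Q12418 : ∀ i, i < 12418 → P i := stepQ 12417 Q12417 (allL N12417 (tt N11775 F41579) (tt N12243 F41580) (tt N11776 F41581) (tt N11774 (iv D12514)) (tt N12657 D12754) (tt N11779 F41582) (tt N12427 (iv F41629)) (tt N12132 F41583))
theorem Q12419 : ∀ i, i < 12419 → P i := stepQ 12418 Q12418 (allL N12418 (tt N12657 (iv F42815)) (tt N12206 F41584) (tt N11777 F41585) (tt N12122 F41586) (tt N11775 (iv D12515)) (tt N11780 F41587) (tt N12568 (iv F42297)) (tt N12509 (iv F42011)))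
theorem Q12420 : ∀ i, i < 12420 → P i := stepQ 12419 Q12419 (allL N12419 (tt N11777 F41588) (tt N12239 F41589) (tt N12657 (iv F42817)) (tt N12553 (iv F42228)) (tt N11776 (iv D12516)) (tt N11782 F41590) (tt N12451 F41742) (tt N12658 D12755))
theorem Q12421 : ∀ i, i < 12421 → P i := stepQ 12420 Q12420 (allL N12420 (tt N11778 F41591) (tt N12168 F41592) (tt N12132 F41593) (tt N12127 F41594) (tt N12658 (iv F42825)) (tt N11783 F41595) (tt N12128 F41596) (tt N11776 (iv D12517)))
theorem Q12422 : ∀ i, i < 12422 → P i := stepQ 12421 Q12421 (allL N12421 (tt N12658 (iv F42821)) (tt N12315 F41597) (tt N12509 (iv F42007)) (tt N12317 (iv F41601)) (tt N11778 F41598) (tt N11784 F41599) (tt N12314 (iv F41600)) (tt N11777 (iv D12518)))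
theorem Q12423 : ∀ i, i < 12423 → P i := stepQ 12422 Q12422 (allL N12422 (tt N11780 F41602) (tt N12186 F41603) (tt N11782 F41604) (tt N12120 F41605) (tt N11779 (iv D12519)) (tt N12657 (iv F42819)) (tt N11789 F41606) (tt N12556 (iv F42244)))
theorem Q12424 : ∀ i, i < 12424 → P i := stepQ 12423 Q12423 (allL N12423 (tt N11817 F41607) (tt N11782 F41608) (tt N12167 F41609) (tt N12439 (iv F41684)) (tt N11781 (iv D12520)) (tt N12170 F41610) (tt N11793 F41611) (tt N12166 F41612))
theorem Q12425 : ∀ i, i < 12425 → P i := stepQ 12424 Q12424 (allL N12424 (tt N11784 F41613) (tt N12166 F41614) (tt N12556 (iv F42241)) (tt N12637 (iv F42694)) (tt N11783 F41615) (tt N12658 (iv F42826)) (tt N12328 F41616) (tt N11782 (iv D12521)))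
theorem Q12426 : ∀ i, i < 12426 → P i := stepQ 12425 Q12425 (allL N12425 (tt N12637 (iv F42692)) (tt N11820 F41617) (tt N12524 (iv F42077)) (tt N11784 (iv D12522)) (tt N12318 F41618) (tt N12317 F41619) (tt N12414 F41620) (tt N12532 (iv F42118)))
theorem Q12427 : ∀ i, i < 12427 → P i := stepQ 12426 Q12426 (allL N12426 (tt N12577 (iv F42342)) (tt N12571 (iv F42310)) (tt N11824 F41621) (tt N12113 F41622) (tt N11785 (iv D12523)) (tt N11786 F41623) (tt N12207 F41624) (tt N12659 D12756))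
theorem Q12428 : ∀ i, i < 12428 → P i := stepQ 12427 Q12427 (allL N12427 (tt N12112 F41625) (tt N12572 (iv F42316)) (tt N11825 F41626) (tt N12111 F41627) (tt N12659 (iv F42832)) (tt N11787 F41628) (tt N12417 F41629) (tt N11785 (iv D12524)))
theorem Q12429 : ∀ i, i < 12429 → P i := stepQ 12428 Q12428 (allL N12428 (tt N12380 F41630) (tt N11791 F41631) (tt N11827 F41632) (tt N12587 (iv F42403)) (tt N11787 F41633) (tt N12659 (iv F42833)) (tt N12382 F41634) (tt N11786 (iv D12525)))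
theorem Q12430 : ∀ i, i < 12430 → P i := stepQ 12429 Q12429 (allL N12429 (tt N11791 F41635) (tt N12178 F41636) (tt N11796 F41637) (tt N12158 F41638) (tt N11790 F41639) (tt N12157 F41640) (tt N12430 (iv F41644)) (tt N11789 (iv D12526)))
theorem Q12431 : ∀ i, i < 12431 → P i := stepQ 12430 Q12430 (allL N12430 (tt N12158 F41641) (tt N12587 (iv F42401)) (tt N12404 (iv F41646)) (tt N11791 (iv D12527)) (tt N12155 F41642) (tt N12156 F41643) (tt N12429 F41644) (tt N12180 F41645))
theorem Q12432 : ∀ i, i < 12432 → P i := stepQ 12431 Q12431 (allL N12431 (tt N11831 F41647) (tt N12185 F41648) (tt N11793 F41649) (tt N12445 (iv F41709)) (tt N11792 (iv D12528)) (tt N12583 (iv F42381)) (tt N12167 F41650) (tt N12331 F41651))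
theorem Q12433 : ∀ i, i < 12433 → P i := stepQ 12432 Q12432 (allL N12432 (tt N11832 F41652) (tt N12454 (iv F41756)) (tt N12583 (iv F42383)) (tt N12592 (iv F42433)) (tt N11794 F41653) (tt N11793 (iv D12529)) (tt N12237 F41654) (tt N12519 (iv F42055)))
theorem Q12434 : ∀ i, i < 12434 → P i := stepQ 12433 Q12433 (allL N12433 (tt N11833 F41655) (tt N11796 F41656) (tt N12331 F41657) (tt N12547 (iv F42201)) (tt N11795 F41658) (tt N12519 (iv F42054)) (tt N12329 F41659) (tt N11793 (iv D12530)))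
theorem Q12435 : ∀ i, i < 12435 → P i := stepQ 12434 Q12434 (allL N12434 (tt N11797 F41660) (tt N12547 (iv F42200)) (tt N12436 (iv F41669)) (tt N11796 (iv D12531)) (tt N12434 F41661) (tt N12411 F41662) (tt N12435 F41666) (tt N12523 (iv F42073)))
theorem Q12436 : ∀ i, i < 12436 → P i := stepQ 12435 Q12435 (allL N12435 (tt N12436 (iv F41667)) (tt N12633 (iv F42667)) (tt N11797 (iv D12532)) (tt N12404 F41663) (tt N12435 F41664) (tt N12403 F41665) (tt N12434 (iv F41666)) (tt N12647 (iv F42762)))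
theorem Q12437 : ∀ i, i < 12437 → P i := stepQ 12436 Q12436 (allL N12436 (tt N12435 F41667) (tt N11839 F41668) (tt N12434 F41669) (tt N11798 F41670) (tt N12436 F41671) (tt N12579 (iv F42358)) (tt N11797 (iv D12533)) (tt N12660 D12757))
theorem Q12438 : ∀ i, i < 12438 → P i := stepQ 12437 Q12437 (allL N12437 (tt N12133 F41672) (tt N12511 (iv F42015)) (tt N12314 F41673) (tt N12559 (iv F42255)) (tt N11801 (iv D12534)) (tt N11802 F41674) (tt N12509 (iv F42010)) (tt N12277 F41675))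
theorem Q12439 : ∀ i, i < 12439 → P i := stepQ 12438 Q12438 (allL N12438 (tt N12241 F41676) (tt N11843 F41677) (tt N12566 (iv F42287)) (tt N12311 F41678) (tt N11803 (iv D12535)) (tt N11804 F41679) (tt N12533 (iv F42122)) (tt N12205 F41680))
theorem Q12440 : ∀ i, i < 12440 → P i := stepQ 12439 Q12439 (allL N12439 (tt N12171 F41681) (tt N12068 F41682) (tt N11806 F41683) (tt N12423 F41684) (tt N11805 (iv D12536)) (tt N12541 (iv F42167)) (tt N12197 F41685) (tt N12540 (iv F42161)))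
theorem Q12441 : ∀ i, i < 12441 → P i := stepQ 12440 Q12440 (allL N12440 (tt N12591 (iv F42424)) (tt N11809 F41686) (tt N12540 (iv F42158)) (tt N11892 (iv F41688)) (tt N11808 F41687) (tt N12539 F42157) (tt N12644 (iv F42743)) (tt N11806 (iv D12537)))
theorem Q12442 : ∀ i, i < 12442 → P i := stepQ 12441 Q12441 (allL N12441 (tt N11812 F41689) (tt N12644 (iv F42744)) (tt N11879 F41690) (tt N11893 F41691) (tt N11810 F41692) (tt N12646 (iv F42754)) (tt N11809 (iv D12538)) (tt N12584 (iv F42387)))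
theorem Q12443 : ∀ i, i < 12443 → P i := stepQ 12442 Q12442 (allL N12442 (tt N11893 F41693) (tt N12565 (iv F42282)) (tt N11890 F41694) (tt N11812 F41695) (tt N12442 F41696) (tt N12498 (iv F41952)) (tt N11811 (iv D12539)) (tt N12497 (iv F41948)))
theorem Q12444 : ∀ i, i < 12444 → P i := stepQ 12443 Q12443 (allL N12443 (tt N12646 (iv F42750)) (tt N11949 (iv F41700)) (tt N12204 F41697) (tt N12498 F41954) (tt N11813 F41698) (tt N11812 (iv D12540)) (tt N11862 F41699) (tt N12586 (iv F42399)))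
theorem Q12445 : ∀ i, i < 12445 → P i := stepQ 12444 Q12444 (allL N12444 (tt N12366 F41701) (tt N12384 F41702) (tt N11821 F41703) (tt N12655 (iv F42806)) (tt N11815 F41704) (tt N12544 (iv F42185)) (tt N11814 (iv D12541)) (tt N11829 F41705))
theorem Q12446 : ∀ i, i < 12446 → P i := stepQ 12445 Q12445 (allL N12445 (tt N12167 F41706) (tt N12368 F41707) (tt N11817 F41708) (tt N12431 F41709) (tt N11816 (iv D12542)) (tt N12173 F41710) (tt N11831 F41711) (tt N12018 F41712))
theorem Q12447 : ∀ i, i < 12447 → P i := stepQ 12446 Q12446 (allL N12446 (tt N11820 F41713) (tt N12005 F41714) (tt N12519 (iv F42052)) (tt N11818 (iv D12543)) (tt N12003 F41715) (tt N12331 F41716) (tt N12002 (iv F41717)) (tt N12583 (iv F42382)))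
theorem Q12448 : ∀ i, i < 12448 → P i := stepQ 12447 Q12447 (allL N12447 (tt N11821 F41718) (tt N12004 F41719) (tt N12366 F41720) (tt N12002 F41721) (tt N11819 F41722) (tt N12334 F41723) (tt N11818 (iv D12544)) (tt N11837 F41724))
theorem Q12449 : ∀ i, i < 12449 → P i := stepQ 12448 Q12448 (allL N12448 (tt N12519 (iv F42051)) (tt N11884 F41728) (tt N11820 (iv D12545)) (tt N12654 (iv F42801)) (tt N11835 F41725) (tt N11833 F41726) (tt N12515 (iv F42038)) (tt N11832 F41727))
theorem Q12450 : ∀ i, i < 12450 → P i := stepQ 12449 Q12449 (allL N12449 (tt N12223 F41729) (tt N11868 F41730) (tt N12207 F41731) (tt N12463 (iv F41798)) (tt N11822 (iv D12546)) (tt N12208 F41732) (tt N11824 F41733) (tt N12573 (iv F42326)))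
theorem Q12451 : ∀ i, i < 12451 → P i := stepQ 12450 Q12450 (allL N12450 (tt N11824 F41734) (tt N12631 (iv F42654)) (tt N12577 (iv F42344)) (tt N12462 (iv F41792)) (tt N11823 (iv D12547)) (tt N11826 F41735) (tt N12223 F41736) (tt N12379 F41737))
theorem Q12452 : ∀ i, i < 12452 → P i := stepQ 12451 Q12451 (allL N12451 (tt N12379 F41738) (tt N11876 F41739) (tt N12659 (iv F42830)) (tt N12661 D12758) (tt N11825 F41740) (tt N11827 F41741) (tt N12419 (iv F41742)) (tt N11824 (iv D12548)))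
theorem Q12453 : ∀ i, i < 12453 → P i := stepQ 12452 Q12452 (allL N12452 (tt N12378 F41743) (tt N11828 F41744) (tt N12196 (iv F41748)) (tt N11827 (iv D12549)) (tt N11852 F41745) (tt N12661 (iv F42846)) (tt N12195 F41746) (tt N11850 F41747))
theorem Q12454 : ∀ i, i < 12454 → P i := stepQ 12453 Q12453 (allL N12453 (tt N11855 F41749) (tt N12195 F41750) (tt N11859 F41751) (tt N11829 F41752) (tt N11854 F41753) (tt N12662 D12759) (tt N11828 (iv D12550)) (tt N11937 F41754))
theorem Q12455 : ∀ i, i < 12455 → P i := stepQ 12454 Q12454 (allL N12454 (tt N12007 F41755) (tt N12432 F41756) (tt N11840 F41757) (tt N12662 (iv F42852)) (tt N11830 F41758) (tt N11829 (iv D12551)) (tt N11880 F41759) (tt N12544 (iv F42186)))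
theorem Q12456 : ∀ i, i < 12456 → P i := stepQ 12455 Q12455 (allL N12455 (tt N12237 F41760) (tt N11883 F41761) (tt N12585 (iv F42389)) (tt N12014 F41762) (tt N11834 F41763) (tt N12236 F41764) (tt N11832 (iv D12552)) (tt N12486 (iv F41911)))
theorem Q12457 : ∀ i, i < 12457 → P i := stepQ 12456 Q12456 (allL N12456 (tt N12547 (iv F42199)) (tt N11836 F41765) (tt N12512 (iv F42021)) (tt N11833 (iv D12553)) (tt N12456 F41766) (tt N12654 (iv F42803)) (tt N12376 F41767) (tt N11892 F41768))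
theorem Q12458 : ∀ i, i < 12458 → P i := stepQ 12457 Q12457 (allL N12457 (tt N11839 F41769) (tt N12376 F41770) (tt N11861 F41771) (tt N11837 F41772) (tt N12457 F41773) (tt N12475 (iv F41866)) (tt N11836 (iv D12554)) (tt N12474 (iv F41860)))
theorem Q12459 : ∀ i, i < 12459 → P i := stepQ 12458 Q12458 (allL N12458 (tt N12513 (iv F42025)) (tt N11838 (iv D12555)) (tt N12633 (iv F42668)) (tt N11857 F41774) (tt N12458 F41775) (tt N12634 (iv F42677)) (tt N12020 (iv F41777)) (tt N11885 F41776))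
theorem Q12460 : ∀ i, i < 12460 → P i := stepQ 12459 Q12459 (allL N12459 (tt N11861 F41778) (tt N12020 F41779) (tt N11839 F41780) (tt N11859 F41781) (tt N12459 F41782) (tt N12461 (iv F41789)) (tt N11838 (iv D12556)) (tt N12460 (iv F41786)))
theorem Q12461 : ∀ i, i < 12461 → P i := stepQ 12460 Q12460 (allL N12460 (tt N12475 (iv F41861)) (tt N12545 (iv F42188)) (tt N12461 (iv F41787)) (tt N11840 F41783) (tt N12460 F41784) (tt N11839 (iv D12557)) (tt N11894 F41785) (tt N12459 F41786))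
theorem Q12462 : ∀ i, i < 12462 → P i := stepQ 12461 Q12461 (allL N12461 (tt N12474 (iv F41856)) (tt N12660 (iv F42836)) (tt N12460 F41787) (tt N12473 (iv F41853)) (tt N12461 F41788) (tt N12459 F41789) (tt N12497 (iv F41947)) (tt N11839 (iv D12558)))
theorem Q12463 : ∀ i, i < 12463 → P i := stepQ 12462 Q12462 (allL N12462 (tt N12137 F41790) (tt N12533 (iv F42119)) (tt N12391 F41791) (tt N12450 F41792) (tt N11841 (iv D12559)) (tt N12138 F41793) (tt N11843 F41794) (tt N12476 (iv F41873)))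
theorem Q12464 : ∀ i, i < 12464 → P i := stepQ 12463 Q12463 (allL N12463 (tt N11843 F41795) (tt N12310 F41796) (tt N12340 F41797) (tt N12449 F41798) (tt N11842 (iv D12560)) (tt N11847 F41799) (tt N12137 F41800) (tt N12260 F41801))
theorem Q12465 : ∀ i, i < 12465 → P i := stepQ 12464 Q12464 (allL N12464 (tt N12260 F41802) (tt N12205 F41803) (tt N11934 F41804) (tt N12269 F41805) (tt N11844 F41806) (tt N11848 F41807) (tt N12262 (iv F41808)) (tt N11843 (iv D12561)))
theorem Q12466 : ∀ i, i < 12466 → P i := stepQ 12465 Q12465 (allL N12465 (tt N11850 F41809) (tt N11847 F41810) (tt N12342 F41811) (tt N11865 F41812) (tt N11845 (iv D12562)) (tt N12663 D12760) (tt N11900 F41813) (tt N12378 F41814))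
theorem Q12467 : ∀ i, i < 12467 → P i := stepQ 12466 Q12466 (allL N12466 (tt N11851 F41815) (tt N11963 F41816) (tt N12343 F41817) (tt N11846 F41818) (tt N12663 (iv F42860)) (tt N11845 (iv D12563)) (tt N11961 F41819) (tt N12062 F41820))
theorem Q12468 : ∀ i, i < 12468 → P i := stepQ 12467 Q12467 (allL N12467 (tt N12343 F41821) (tt N12548 (iv F42205)) (tt N11851 F41822) (tt N11952 F41823) (tt N12613 (iv F42547)) (tt N11849 (iv D12564)) (tt N12363 F41824) (tt N12081 F41825))
theorem Q12469 : ∀ i, i < 12469 → P i := stepQ 12468 Q12468 (allL N12468 (tt N12663 (iv F42856)) (tt N12080 F41826) (tt N12613 (iv F42546)) (tt N11872 F41827) (tt N11851 F41828) (tt N11850 (iv D12565)) (tt N12614 (iv F42556)) (tt N12661 (iv F42848)))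
theorem Q12470 : ∀ i, i < 12470 → P i := stepQ 12469 Q12469 (allL N12469 (tt N11961 F41829) (tt N12081 F41830) (tt N12363 F41831) (tt N11853 F41832) (tt N12614 (iv F42554)) (tt N11979 F41833) (tt N11851 (iv D12566)) (tt N12548 (iv F42209)))
theorem Q12471 : ∀ i, i < 12471 → P i := stepQ 12470 Q12470 (allL N12470 (tt N12062 F41834) (tt N12079 F41835) (tt N12081 F41836) (tt N12061 F41837) (tt N12661 (iv F42845)) (tt N11852 F41838) (tt N12064 F41839) (tt N11851 (iv D12567)))
theorem Q12472 : ∀ i, i < 12472 → P i := stepQ 12471 Q12471 (allL N12471 (tt N11856 F41840) (tt N12198 F41841) (tt N11860 F41842) (tt N12042 F41843) (tt N12662 (iv F42853)) (tt N11854 (iv D12568)) (tt N12203 F41844) (tt N11938 F41845))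
theorem Q12473 : ∀ i, i < 12473 → P i := stepQ 12472 Q12472 (allL N12472 (tt N12662 (iv F42849)) (tt N12008 F41846) (tt N11862 F41847) (tt N12007 F41848) (tt N11856 F41849) (tt N11855 (iv D12569)) (tt N12204 F41850) (tt N11940 F41851))
theorem Q12474 : ∀ i, i < 12474 → P i := stepQ 12473 Q12473 (allL N12473 (tt N11862 F41852) (tt N12590 (iv F42419)) (tt N12662 (iv F42851)) (tt N12461 F41853) (tt N11860 F41854) (tt N11859 (iv D12570)) (tt N12646 (iv F42755)) (tt N12015 F41855))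
theorem Q12475 : ∀ i, i < 12475 → P i := stepQ 12474 Q12474 (allL N12474 (tt N12461 F41856) (tt N11947 F41857) (tt N12475 (iv F41863)) (tt N11862 F41858) (tt N12474 F41859) (tt N11861 (iv D12571)) (tt N12498 (iv F41953)) (tt N12457 F41860))
theorem Q12476 : ∀ i, i < 12476 → P i := stepQ 12475 Q12475 (allL N12475 (tt N12460 F41861) (tt N11943 F41862) (tt N12474 F41863) (tt N12364 F41864) (tt N12475 F41865) (tt N12457 F41866) (tt N11895 F41867) (tt N11861 (iv D12572)))
theorem Q12477 : ∀ i, i < 12477 → P i := stepQ 12476 Q12476 (allL N12476 (tt N11872 F41868) (tt N11968 F41869) (tt N11864 F41870) (tt N12663 (iv F42859)) (tt N11863 (iv D12573)) (tt N11865 F41871) (tt N11967 F41872) (tt N12462 F41873))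
theorem Q12478 : ∀ i, i < 12478 → P i := stepQ 12477 Q12477 (allL N12477 (tt N11868 F41874) (tt N12604 (iv F42496)) (tt N11968 F41875) (tt N12603 (iv F42494)) (tt N11866 (iv D12574)) (tt N12353 F41876) (tt N11874 F41877) (tt N12621 (iv F42595)))
theorem Q12479 : ∀ i, i < 12479 → P i := stepQ 12478 Q12478 (allL N12478 (tt N11871 F41878) (tt N12293 F41879) (tt N12622 (iv F42598)) (tt N12606 (iv F42511)) (tt N11867 (iv D12575)) (tt N12341 F41880) (tt N12304 F41881) (tt N11922 F41882))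
theorem Q12480 : ∀ i, i < 12480 → P i := stepQ 12479 Q12479 (allL N12479 (tt N12621 (iv F42589)) (tt N12573 (iv F42322)) (tt N12605 (iv F42504)) (tt N12607 (iv F42517)) (tt N11869 F41883) (tt N12533 (iv F42121)) (tt N12581 (iv F42371)) (tt N11868 (iv D12576)))
theorem Q12481 : ∀ i, i < 12481 → P i := stepQ 12480 Q12480 (allL N12480 (tt N12622 (iv F42596)) (tt N12569 (iv F42299)) (tt N11871 F41884) (tt N12602 (iv F42486)) (tt N11870 (iv D12577)) (tt N12511 (iv F42018)) (tt N12401 F41885) (tt N12611 (iv F42539)))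
theorem Q12482 : ∀ i, i < 12482 → P i := stepQ 12481 Q12481 (allL N12481 (tt N12631 (iv F42653)) (tt N11874 F41886) (tt N12629 (iv F42643)) (tt N12605 (iv F42505)) (tt N11873 (iv D12578)) (tt N12278 F41887) (tt N12604 (iv F42501)) (tt N12664 D12761))
theorem Q12483 : ∀ i, i < 12483 → P i := stepQ 12482 Q12482 (allL N12482 (tt N12235 F41888) (tt N11875 F41889) (tt N11911 F41890) (tt N12055 F41891) (tt N12664 (iv F42867)) (tt N12227 F41892) (tt N11909 F41893) (tt N11873 (iv D12579)))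
theorem Q12484 : ∀ i, i < 12484 → P i := stepQ 12483 Q12483 (allL N12483 (tt N11876 F41894) (tt N12664 (iv F42864)) (tt N11966 F41895) (tt N12233 (iv F41898)) (tt N11875 F41896) (tt N11877 F41897) (tt N12095 (iv F41899)) (tt N11874 (iv D12580)))
theorem Q12485 : ∀ i, i < 12485 → P i := stepQ 12484 Q12484 (allL N12484 (tt N12233 F41900) (tt N12661 (iv F42843)) (tt N12626 (iv F42625)) (tt N11876 (iv D12581)) (tt N12079 F41901) (tt N11878 F41902) (tt N12601 (iv F42483)) (tt N12080 F41903))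
theorem Q12486 : ∀ i, i < 12486 → P i := stepQ 12485 Q12485 (allL N12485 (tt N12070 F41904) (tt N12540 F42162) (tt N11878 (iv D12582)) (tt N12543 (iv F42176)) (tt N12069 F41905) (tt N12626 (iv F42628)) (tt N12231 F41906) (tt N12068 F41907))
theorem Q12487 : ∀ i, i < 12487 → P i := stepQ 12486 Q12486 (allL N12486 (tt N12204 F41908) (tt N12489 (iv F41924)) (tt N12646 (iv F42751)) (tt N11880 F41909) (tt N12203 F41910) (tt N11879 (iv D12583)) (tt N12662 (iv F42854)) (tt N12455 F41911))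
theorem Q12488 : ∀ i, i < 12488 → P i := stepQ 12487 Q12487 (allL N12487 (tt N12012 F41912) (tt N12202 F41913) (tt N11886 F41914) (tt N12535 (iv F42131)) (tt N11882 F41915) (tt N12665 D12762) (tt N11881 (iv D12584)) (tt N12370 F41916))
theorem Q12489 : ∀ i, i < 12489 → P i := stepQ 12488 Q12488 (allL N12488 (tt N12013 F41917) (tt N12174 F41918) (tt N11889 F41919) (tt N12043 F41920) (tt N12665 (iv F42874)) (tt N11882 (iv D12585)) (tt N12172 F41921) (tt N12371 F41922))
theorem Q12490 : ∀ i, i < 12490 → P i := stepQ 12489 Q12489 (allL N12489 (tt N12014 F41923) (tt N12486 F41924) (tt N12375 F41925) (tt N12237 F41926) (tt N11887 F41927) (tt N12010 F41928) (tt N12592 (iv F42435)) (tt N11883 (iv D12586)))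
theorem Q12491 : ∀ i, i < 12491 → P i := stepQ 12490 Q12490 (allL N12490 (tt N11946 F41929) (tt N12654 (iv F42799)) (tt N11944 F41930) (tt N11884 (iv D12587)) (tt N12490 F41931) (tt N11885 F41932) (tt N12653 (iv F42798)) (tt N12634 (iv F42679)))
theorem Q12492 : ∀ i, i < 12492 → P i := stepQ 12491 Q12491 (allL N12491 (tt N12539 (iv F42151)) (tt N12515 F42039) (tt N12534 (iv F42125)) (tt N12653 (iv F42795)) (tt N11888 F41933) (tt N12591 (iv F42427)) (tt N11884 (iv D12588)) (tt N12592 (iv F42436)))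
theorem Q12493 : ∀ i, i < 12493 → P i := stepQ 12492 Q12492 (allL N12492 (tt N11947 F41934) (tt N12647 (iv F42757)) (tt N11885 (iv D12589)) (tt N11945 F41935) (tt N12492 F41936) (tt N11944 F41937) (tt N12649 (iv F42775)) (tt N12633 (iv F42672)))
theorem Q12494 : ∀ i, i < 12494 → P i := stepQ 12493 Q12493 (allL N12493 (tt N12643 (iv F42733)) (tt N11890 F41938) (tt N12649 (iv F42771)) (tt N11886 F41939) (tt N12493 F41940) (tt N12666 D12763) (tt N11885 (iv D12590)) (tt N12499 (iv F41957)))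
theorem Q12495 : ∀ i, i < 12495 → P i := stepQ 12494 Q12494 (allL N12494 (tt N12644 (iv F42739)) (tt N12564 (iv F42277)) (tt N12665 (iv F42872)) (tt N12666 (iv F42880)) (tt N11889 F41941) (tt N11886 (iv D12591)) (tt N12591 (iv F42428)) (tt N12546 (iv F42198)))
theorem Q12496 : ∀ i, i < 12496 → P i := stepQ 12495 Q12495 (allL N12495 (tt N11892 (iv D12592)) (tt N12523 F42074) (tt N12545 F42193) (tt N12591 (iv F42430)) (tt N12495 F41942) (tt N12653 (iv F42797)) (tt N12666 (iv F42882)) (tt N12547 (iv F42203)))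
theorem Q12497 : ∀ i, i < 12497 → P i := stepQ 12496 Q12496 (allL N12496 (tt N12666 (iv F42877)) (tt N11893 F41943) (tt N12648 (iv F42765)) (tt N12644 (iv F42741)) (tt N12496 F41944) (tt N12643 (iv F42738)) (tt N11892 (iv D12593)) (tt N12522 (iv F42069)))
theorem Q12498 : ∀ i, i < 12498 → P i := stepQ 12497 Q12497 (allL N12497 (tt N12498 (iv F41949)) (tt N12645 (iv F42746)) (tt N11894 F41945) (tt N12646 (iv F42752)) (tt N12497 F41946) (tt N11893 (iv D12594)) (tt N12461 F41947) (tt N12442 F41948))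
theorem Q12499 : ∀ i, i < 12499 → P i := stepQ 12498 Q12498 (allL N12498 (tt N12497 F41949) (tt N12522 (iv F42066)) (tt N11895 F41950) (tt N12443 (iv F41954)) (tt N12498 F41951) (tt N12442 F41952) (tt N12474 F41953) (tt N11893 (iv D12595)))
theorem Q12500 : ∀ i, i < 12500 → P i := stepQ 12499 Q12499 (allL N12499 (tt N12648 (iv F42763)) (tt N11894 (iv D12596)) (tt N12666 (iv F42879)) (tt N11896 F41955) (tt N12499 F41956) (tt N12649 (iv F42774)) (tt N12545 (iv F42191)) (tt N12493 F41957))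
theorem Q12501 : ∀ i, i < 12501 → P i := stepQ 12500 Q12500 (allL N12500 (tt N12542 (iv F42169)) (tt N12586 (iv F42394)) (tt N11896 (iv D12597)) (tt N12665 (iv F42873)) (tt N11897 F41958) (tt N12535 F42134) (tt N12536 (iv F42138)) (tt N11949 F41959))
theorem Q12502 : ∀ i, i < 12502 → P i := stepQ 12501 Q12501 (allL N12501 (tt N11915 F41960) (tt N11937 F41961) (tt N12017 F41962) (tt N11950 F41963) (tt N11914 F41964) (tt N12194 (iv F41966)) (tt N11901 (iv D12598)) (tt N12195 F41965))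
theorem Q12503 : ∀ i, i < 12503 → P i := stepQ 12502 Q12502 (allL N12502 (tt N11918 F41967) (tt N12390 F41968) (tt N12616 (iv F42567)) (tt N12503 (iv F41975)) (tt N11904 (iv D12599)) (tt N11905 F41969) (tt N12210 F41970) (tt N11910 F41971))
theorem Q12504 : ∀ i, i < 12504 → P i := stepQ 12503 Q12503 (allL N12503 (tt N11934 F41972) (tt N12211 F41973) (tt N12260 F41974) (tt N12502 F41975) (tt N11907 F41976) (tt N11906 (iv D12600)) (tt N12261 F41977) (tt N12340 F41978))
theorem Q12505 : ∀ i, i < 12505 → P i := stepQ 12504 Q12504 (allL N12504 (tt N12325 F41979) (tt N12095 F41980) (tt N11910 F41981) (tt N12667 D12764) (tt N11909 (iv D12601)) (tt N11913 F41982) (tt N12664 (iv F42869)) (tt N12616 (iv F42571)))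
theorem Q12506 : ∀ i, i < 12506 → P i := stepQ 12505 Q12505 (allL N12505 (tt N12635 (iv F42680)) (tt N12335 F41983) (tt N12664 (iv F42865)) (tt N11922 F41984) (tt N11911 F41985) (tt N12307 F41986) (tt N11910 (iv D12602)) (tt N12629 (iv F42647)))
theorem Q12507 : ∀ i, i < 12507 → P i := stepQ 12506 Q12506 (allL N12506 (tt N12017 F41987) (tt N11913 F41988) (tt N11915 F41989) (tt N12358 F41990) (tt N11912 (iv D12603)) (tt N12094 F41991) (tt N12016 F41992) (tt N12189 F41993))
theorem Q12508 : ∀ i, i < 12508 → P i := stepQ 12507 Q12507 (allL N12507 (tt N12164 F41994) (tt N12358 F41995) (tt N11924 F41996) (tt N11913 (iv D12604)) (tt N12163 F41997) (tt N12667 (iv F42888)) (tt N12323 F41998) (tt N12576 (iv F42341)))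
theorem Q12509 : ∀ i, i < 12509 → P i := stepQ 12508 Q12508 (allL N12508 (tt N11950 F41999) (tt N11916 F42000) (tt N12388 F42001) (tt N11915 (iv D12605)) (tt N12508 F42002) (tt N12416 F42003) (tt N11930 F42004) (tt N12385 F42005))
theorem Q12510 : ∀ i, i < 12510 → P i := stepQ 12509 Q12509 (allL N12509 (tt N12575 (iv F42333)) (tt N11920 F42006) (tt N12421 F42007) (tt N12077 F42008) (tt N11919 (iv D12606)) (tt N12074 F42009) (tt N12437 F42010) (tt N12418 F42011))
theorem Q12511 : ∀ i, i < 12511 → P i := stepQ 12510 Q12510 (allL N12510 (tt N12608 (iv F42520)) (tt N12077 F42012) (tt N12667 (iv F42886)) (tt N11920 (iv D12607)) (tt N12075 F42013) (tt N11924 F42014) (tt N12668 D12765) (tt N12574 (iv F42332)))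
theorem Q12512 : ∀ i, i < 12512 → P i := stepQ 12511 Q12511 (allL N12511 (tt N12611 (iv F42535)) (tt N12437 F42015) (tt N11922 F42016) (tt N12668 (iv F42894)) (tt N11921 F42017) (tt N12480 F42018) (tt N11920 (iv D12608)) (tt N12622 (iv F42602)))
theorem Q12513 : ∀ i, i < 12513 → P i := stepQ 12512 Q12512 (allL N12512 (tt N12020 F42019) (tt N11926 F42020) (tt N12456 F42021) (tt N11925 (iv D12609)) (tt N12512 F42022) (tt N12409 F42023) (tt N12513 (iv F42029)) (tt N12393 F42024))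
theorem Q12514 : ∀ i, i < 12514 → P i := stepQ 12513 Q12513 (allL N12513 (tt N12458 F42025) (tt N11936 F42026) (tt N12376 F42027) (tt N11935 (iv D12610)) (tt N12513 F42028) (tt N12521 (iv F42065)) (tt N12512 F42029) (tt N12369 F42030))
theorem Q12515 : ∀ i, i < 12515 → P i := stepQ 12514 Q12514 (allL N12514 (tt N11939 F42031) (tt N11950 F42032) (tt N12669 D12766) (tt N11937 (iv D12611)) (tt N12514 F42033) (tt N12670 D12767) (tt N11948 F42034) (tt N12655 (iv F42808)))
theorem Q12516 : ∀ i, i < 12516 → P i := stepQ 12515 Q12515 (allL N12515 (tt N11940 F42035) (tt N12491 (iv F42039)) (tt N12015 F42036) (tt N12670 (iv F42907)) (tt N11938 F42037) (tt N11937 (iv D12612)) (tt N12448 F42038) (tt N12662 (iv F42855)))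
theorem Q12517 : ∀ i, i < 12517 → P i := stepQ 12516 Q12516 (allL N12516 (tt N12669 (iv F42898)) (tt N11946 F42040) (tt N11939 (iv D12613)) (tt N12538 (iv F42150)) (tt N12516 F42041) (tt N12518 (iv F42049)) (tt N12634 (iv F42678)) (tt N12517 (iv F42044)))
theorem Q12518 : ∀ i, i < 12518 → P i := stepQ 12517 Q12517 (allL N12517 (tt N12670 (iv F42904)) (tt N12521 (iv F42061)) (tt N12518 (iv F42046)) (tt N11940 F42042) (tt N12517 F42043) (tt N11939 (iv D12614)) (tt N12656 (iv F42813)) (tt N12516 F42044))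
theorem Q12519 : ∀ i, i < 12519 → P i := stepQ 12518 Q12518 (allL N12518 (tt N12655 (iv F42804)) (tt N11942 F42045) (tt N12517 F42046) (tt N12366 F42047) (tt N12518 F42048) (tt N12516 F42049) (tt N12415 F42050) (tt N11939 (iv D12615)))
theorem Q12520 : ∀ i, i < 12520 → P i := stepQ 12519 Q12519 (allL N12519 (tt N12448 F42051) (tt N12544 (iv F42182)) (tt N12446 F42052) (tt N12656 (iv F42810)) (tt N11941 F42053) (tt N12433 F42054) (tt N11940 (iv D12616)) (tt N12432 F42055))
theorem Q12521 : ∀ i, i < 12521 → P i := stepQ 12520 Q12520 (allL N12520 (tt N12388 F42056) (tt N12415 F42057) (tt N11950 F42058) (tt N12367 F42059) (tt N12520 F42060) (tt N12660 (iv F42840)) (tt N11942 (iv D12617)) (tt N12579 (iv F42360)))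
theorem Q12522 : ∀ i, i < 12522 → P i := stepQ 12521 Q12521 (allL N12521 (tt N12634 (iv F42673)) (tt N12517 F42061) (tt N11948 F42062) (tt N11999 F42063) (tt N12521 F42064) (tt N12513 F42065) (tt N12669 (iv F42902)) (tt N11946 (iv D12618)))
theorem Q12523 : ∀ i, i < 12523 → P i := stepQ 12522 Q12522 (allL N12522 (tt N12649 (iv F42770)) (tt N12498 F42066) (tt N12643 (iv F42735)) (tt N11949 F42067) (tt N12522 F42068) (tt N12648 (iv F42768)) (tt N11947 (iv D12619)) (tt N12496 F42069))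
theorem Q12524 : ∀ i, i < 12524 → P i := stepQ 12523 Q12523 (allL N12523 (tt N12416 F42070) (tt N12495 (iv F42074)) (tt N12660 (iv F42837)) (tt N12194 F42071) (tt N12523 F42072) (tt N11950 (iv D12620)) (tt N12650 (iv F42781)) (tt N12434 F42073))
theorem Q12525 : ∀ i, i < 12525 → P i := stepQ 12524 Q12524 (allL N12524 (tt N12345 F42075) (tt N11971 F42076) (tt N12425 F42077) (tt N11960 F42078) (tt N11956 (iv D12621)) (tt N12624 (iv F42614)) (tt N12187 F42079) (tt N11965 F42080))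
theorem Q12526 : ∀ i, i < 12526 → P i := stepQ 12525 Q12525 (allL N12525 (tt N12548 (iv F42204)) (tt N11958 F42081) (tt N12088 F42082) (tt N11957 (iv D12622)) (tt N12625 (iv F42619)) (tt N11973 F42083) (tt N12066 F42084) (tt N11961 F42085))
theorem Q12527 : ∀ i, i < 12527 → P i := stepQ 12526 Q12526 (allL N12526 (tt N12346 F42086) (tt N12625 (iv F42617)) (tt N12077 F42087) (tt N12624 (iv F42612)) (tt N11958 (iv D12623)) (tt N11960 F42088) (tt N12632 (iv F42664)) (tt N11962 F42089))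
theorem Q12528 : ∀ i, i < 12528 → P i := stepQ 12527 Q12527 (allL N12527 (tt N12347 F42090) (tt N12066 F42091) (tt N12078 F42092) (tt N11959 F42093) (tt N12632 (iv F42662)) (tt N12165 F42094) (tt N11958 (iv D12624)) (tt N12059 (iv F42095)))
theorem Q12529 : ∀ i, i < 12529 → P i := stepQ 12528 Q12528 (allL N12528 (tt N12363 F42096) (tt N12347 F42097) (tt N11961 (iv D12625)) (tt N12089 F42098) (tt N12630 (iv F42650)) (tt N11980 F42099) (tt N12343 F42100) (tt N12088 F42101))
theorem Q12530 : ∀ i, i < 12530 → P i := stepQ 12529 Q12529 (allL N12529 (tt N12614 (iv F42551)) (tt N11962 F42102) (tt N12630 (iv F42649)) (tt N11967 F42103) (tt N11961 (iv D12626)) (tt N11981 F42104) (tt N12663 (iv F42861)) (tt N12625 (iv F42622)))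
theorem Q12531 : ∀ i, i < 12531 → P i := stepQ 12530 Q12530 (allL N12530 (tt N12641 (iv F42719)) (tt N12663 (iv F42857)) (tt N12627 (iv F42632)) (tt N11968 F42105) (tt N11963 F42106) (tt N12310 F42107) (tt N11962 (iv D12627)) (tt N12671 D12768))
theorem Q12532 : ∀ i, i < 12532 → P i := stepQ 12531 Q12531 (allL N12531 (tt N12234 F42108) (tt N12062 F42109) (tt N12272 F42110) (tt N12057 F42111) (tt N12671 (iv F42915)) (tt N12228 F42112) (tt N12059 F42113) (tt N11963 (iv D12628)))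
theorem Q12533 : ∀ i, i < 12533 → P i := stepQ 12532 Q12532 (allL N12532 (tt N12543 F42180) (tt N12175 F42114) (tt N11965 F42115) (tt N12070 F42116) (tt N11964 (iv D12629)) (tt N12623 (iv F42607)) (tt N12232 F42117) (tt N12425 F42118))
theorem Q12534 : ∀ i, i < 12534 → P i := stepQ 12533 Q12533 (allL N12533 (tt N12605 (iv F42502)) (tt N12462 F42119) (tt N12621 (iv F42591)) (tt N12631 (iv F42656)) (tt N11969 F42120) (tt N12479 F42121) (tt N12438 F42122) (tt N11968 (iv D12630)))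
theorem Q12535 : ∀ i, i < 12535 → P i := stepQ 12534 Q12534 (allL N12534 (tt N11991 F42123) (tt N12187 F42124) (tt N12491 F42125) (tt N11977 F42126) (tt N11972 F42127) (tt N12582 (iv F42377)) (tt N11971 (iv D12631)) (tt N12580 (iv F42366)))
theorem Q12536 : ∀ i, i < 12536 → P i := stepQ 12535 Q12535 (allL N12535 (tt N11994 F42128) (tt N12086 F42129) (tt N12397 F42130) (tt N12487 F42131) (tt N11975 F42132) (tt N12500 (iv F42134)) (tt N11974 (iv D12632)) (tt N12410 F42133))
theorem Q12537 : ∀ i, i < 12537 → P i := stepQ 12536 Q12536 (allL N12536 (tt N11996 F42135) (tt N12583 (iv F42379)) (tt N12006 F42136) (tt N12582 (iv F42375)) (tt N11978 F42137) (tt N11977 (iv D12633)) (tt N12500 F42138) (tt N12005 F42139))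
theorem Q12538 : ∀ i, i < 12538 → P i := stepQ 12537 Q12537 (allL N12537 (tt N12414 F42140) (tt N11984 F42141) (tt N12589 (iv F42414)) (tt N12328 F42142) (tt N11983 (iv D12634)) (tt N12387 F42143) (tt N12637 (iv F42696)) (tt N12389 F42144))
theorem Q12539 : ∀ i, i < 12539 → P i := stepQ 12538 Q12538 (allL N12538 (tt N12544 (iv F42181)) (tt N11989 F42145) (tt N12334 F42146) (tt N12516 F42150) (tt N11988 (iv D12635)) (tt N12366 F42147) (tt N12333 F42148) (tt N12007 F42149))
theorem Q12540 : ∀ i, i < 12540 → P i := stepQ 12539 Q12539 (allL N12539 (tt N12491 F42151) (tt N12333 F42152) (tt N11991 F42153) (tt N12408 F42154) (tt N11990 F42155) (tt N12440 (iv F42157)) (tt N11989 (iv D12636)) (tt N12336 F42156))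
theorem Q12541 : ∀ i, i < 12541 → P i := stepQ 12540 Q12540 (allL N12540 (tt N12582 (iv F42373)) (tt N12485 (iv F42162)) (tt N12440 F42158) (tt N11996 F42159) (tt N11992 F42160) (tt N11991 (iv D12637)) (tt N12546 (iv F42197)) (tt N12439 F42161))
theorem Q12542 : ∀ i, i < 12542 → P i := stepQ 12541 Q12541 (allL N12541 (tt N12580 (iv F42361)) (tt N12238 F42163) (tt N12336 F42164) (tt N12170 F42165) (tt N11993 F42166) (tt N12439 F42167) (tt N12010 F42168) (tt N11991 (iv D12638)))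
theorem Q12543 : ∀ i, i < 12543 → P i := stepQ 12542 Q12542 (allL N12542 (tt N12500 F42169) (tt N12215 F42170) (tt N12410 F42171) (tt N12546 (iv F42195)) (tt N11995 F42172) (tt N11994 (iv D12639)) (tt N11996 F42173) (tt N12397 F42174))
theorem Q12544 : ∀ i, i < 12544 → P i := stepQ 12543 Q12543 (allL N12543 (tt N12532 (iv F42180)) (tt N11996 (iv D12640)) (tt N12216 F42175) (tt N12485 F42176) (tt N11997 F42177) (tt N12286 F42178) (tt N12215 F42179) (tt N12637 (iv F42697)))
theorem Q12545 : ∀ i, i < 12545 → P i := stepQ 12544 Q12544 (allL N12544 (tt N12538 F42181) (tt N12519 F42182) (tt N12001 F42183) (tt N12669 (iv F42900)) (tt N12000 F42184) (tt N12444 F42185) (tt N11999 (iv D12641)) (tt N12454 F42186))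
theorem Q12546 : ∀ i, i < 12546 → P i := stepQ 12545 Q12545 (allL N12545 (tt N12393 F42187) (tt N12460 F42188) (tt N12495 (iv F42193)) (tt N12006 (iv D12642)) (tt N12545 F42189) (tt N12407 F42190) (tt N12499 F42191) (tt N12020 F42192))
theorem Q12547 : ∀ i, i < 12547 → P i := stepQ 12546 Q12546 (allL N12546 (tt N12665 (iv F42870)) (tt N12231 F42194) (tt N12644 (iv F42740)) (tt N12542 F42195) (tt N12013 F42196) (tt N12012 (iv D12643)) (tt N12540 F42197) (tt N12494 F42198))
theorem Q12548 : ∀ i, i < 12548 → P i := stepQ 12547 Q12547 (allL N12547 (tt N12456 F42199) (tt N12434 F42200) (tt N12020 (iv D12644)) (tt N12433 F42201) (tt N12547 F42202) (tt N12656 (iv F42812)) (tt N12633 (iv F42671)) (tt N12495 F42203))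
theorem Q12549 : ∀ i, i < 12549 → P i := stepQ 12548 Q12548 (allL N12548 (tt N12525 F42204) (tt N12467 F42205) (tt N12264 F42206) (tt N12039 F42207) (tt N12285 F42208) (tt N12038 (iv D12645)) (tt N12554 (iv F42235)) (tt N12469 F42209))
theorem Q12550 : ∀ i, i < 12550 → P i := stepQ 12549 Q12549 (allL N12549 (tt N12059 F42210) (tt N12088 F42211) (tt N12075 F42212) (tt N12058 (iv D12646)) (tt N12667 (iv F42887)) (tt N12163 F42213) (tt N12234 F42214) (tt N12347 F42215))
theorem Q12551 : ∀ i, i < 12551 → P i := stepQ 12550 Q12550 (allL N12550 (tt N12667 (iv F42884)) (tt N12065 F42216) (tt N12608 (iv F42521)) (tt N12325 F42217) (tt N12059 (iv D12647)) (tt N12164 F42218) (tt N12671 (iv F42917)) (tt N12632 (iv F42665)))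
theorem Q12552 : ∀ i, i < 12552 → P i := stepQ 12551 Q12551 (allL N12551 (tt N12661 (iv F42842)) (tt N12671 (iv F42912)) (tt N12640 (iv F42714)) (tt N12379 F42219) (tt N12062 (iv D12648)) (tt N12378 F42220) (tt N12065 F42221) (tt N12663 (iv F42862)))
theorem Q12553 : ∀ i, i < 12553 → P i := stepQ 12552 Q12552 (allL N12552 (tt N12080 F42222) (tt N12641 (iv F42720)) (tt N12065 F42223) (tt N12570 (iv F42306)) (tt N12063 (iv D12649)) (tt N12067 F42224) (tt N12640 (iv F42717)) (tt N12233 F42225))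
theorem Q12554 : ∀ i, i < 12554 → P i := stepQ 12553 Q12553 (allL N12553 (tt N12065 F42226) (tt N12601 (iv F42479)) (tt N12080 F42227) (tt N12419 F42228) (tt N12064 (iv D12650)) (tt N12068 F42229) (tt N12661 (iv F42847)) (tt N12626 F42629))
theorem Q12555 : ∀ i, i < 12555 → P i := stepQ 12554 Q12554 (allL N12554 (tt N12066 F42230) (tt N12363 F42231) (tt N12079 F42232) (tt N12114 F42233) (tt N12626 (iv F42627)) (tt N12069 F42234) (tt N12548 F42235) (tt N12064 (iv D12651)))
theorem Q12556 : ∀ i, i < 12556 → P i := stepQ 12555 Q12555 (allL N12555 (tt N12626 (iv F42623)) (tt N12632 (iv F42660)) (tt N12233 F42236) (tt N12623 (iv F42606)) (tt N12066 F42237) (tt N12070 F42238) (tt N12625 (iv F42621)) (tt N12065 (iv D12652)))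
theorem Q12557 : ∀ i, i < 12557 → P i := stepQ 12556 Q12556 (allL N12556 (tt N12074 F42239) (tt N12251 F42240) (tt N12424 F42241) (tt N12073 F42242) (tt N12071 (iv D12653)) (tt N12575 (iv F42336)) (tt N12180 F42243) (tt N12422 F42244))
theorem Q12558 : ∀ i, i < 12558 → P i := stepQ 12557 Q12557 (allL N12557 (tt N12077 F42245) (tt N12627 (iv F42631)) (tt N12346 F42246) (tt N12575 (iv F42335)) (tt N12072 (iv D12654)) (tt N12073 F42247) (tt N12574 (iv F42331)) (tt N12273 F42248))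
theorem Q12559 : ∀ i, i < 12559 → P i := stepQ 12558 Q12558 (allL N12558 (tt N12272 F42249) (tt N12078 F42250) (tt N12234 F42251) (tt N12076 F42252) (tt N12668 (iv F42895)) (tt N12243 F42254) (tt N12075 (iv D12655)) (tt N12274 F42253))
theorem Q12560 : ∀ i, i < 12560 → P i := stepQ 12559 Q12559 (allL N12559 (tt N12574 (iv F42327)) (tt N12668 (iv F42892)) (tt N12632 (iv F42661)) (tt N12437 F42255) (tt N12078 F42256) (tt N12186 F42257) (tt N12077 (iv D12656)) (tt N12608 (iv F42524)))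
theorem Q12561 : ∀ i, i < 12561 → P i := stepQ 12560 Q12560 (allL N12560 (tt N12640 (iv F42712)) (tt N12614 (iv F42552)) (tt N12661 (iv F42844)) (tt N12598 F42472) (tt N12081 F42258) (tt N12196 F42259) (tt N12080 (iv D12657)) (tt N12613 (iv F42550)))
theorem Q12562 : ∀ i, i < 12562 → P i := stepQ 12561 Q12561 (allL N12561 (tt N12365 F42260) (tt N12410 F42261) (tt N12083 F42262) (tt N12394 F42266) (tt N12082 (iv D12658)) (tt N12093 F42263) (tt N12357 F42264) (tt N12086 F42265))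
theorem Q12563 : ∀ i, i < 12563 → P i := stepQ 12562 Q12562 (allL N12562 (tt N12192 F42267) (tt N12087 F42268) (tt N12389 F42269) (tt N12094 F42270) (tt N12085 F42271) (tt N12358 F42272) (tt N12084 (iv D12659)) (tt N12589 (iv F42417)))
theorem Q12564 : ∀ i, i < 12564 → P i := stepQ 12563 Q12563 (allL N12563 (tt N12601 (iv F42478)) (tt N12667 (iv F42885)) (tt N12625 (iv F42618)) (tt N12095 F42273) (tt N12088 F42274) (tt N12087 (iv D12660)) (tt N12233 F42275) (tt N12630 (iv F42652)))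
theorem Q12565 : ∀ i, i < 12565 → P i := stepQ 12564 Q12564 (allL N12564 (tt N12093 F42276) (tt N12494 F42277) (tt N12092 F42278) (tt N12650 (iv F42778)) (tt N12091 (iv D12661)) (tt N12365 F42279) (tt N12194 F42280) (tt N12231 F42281))
theorem Q12566 : ∀ i, i < 12566 → P i := stepQ 12565 Q12565 (allL N12565 (tt N12650 (iv F42776)) (tt N12442 F42282) (tt N12395 F42283) (tt N12093 (iv D12662)) (tt N12565 F42284) (tt N12394 F42285) (tt N12416 F42286) (tt N12645 (iv F42749)))
theorem Q12567 : ∀ i, i < 12567 → P i := stepQ 12566 Q12566 (allL N12566 (tt N12581 (iv F42367)) (tt N12616 (iv F42566)) (tt N12438 F42287) (tt N12615 (iv F42561)) (tt N12097 F42288) (tt N12096 F42289) (tt N12621 (iv F42594)) (tt N12095 (iv D12663)))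
theorem Q12568 : ∀ i, i < 12568 → P i := stepQ 12567 Q12567 (allL N12567 (tt N12401 F42290) (tt N12577 (iv F42343)) (tt N12304 F42291) (tt N12578 (iv F42351)) (tt N12098 (iv D12664)) (tt N12099 F42292) (tt N12622 (iv F42601)) (tt N12113 F42293))
theorem Q12569 : ∀ i, i < 12569 → P i := stepQ 12568 Q12568 (allL N12568 (tt N12659 (iv F42828)) (tt N12113 F42294) (tt N12379 F42295) (tt N12571 (iv F42312)) (tt N12112 (iv D12665)) (tt N12380 F42296) (tt N12418 F42297) (tt N12577 (iv F42348)))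
theorem Q12570 : ∀ i, i < 12570 → P i := stepQ 12569 Q12569 (allL N12569 (tt N12122 F42298) (tt N12480 F42299) (tt N12309 F42300) (tt N12657 (iv F42818)) (tt N12118 (iv D12666)) (tt N12120 F42301) (tt N12651 (iv F42786)) (tt N12287 F42302))
theorem Q12571 : ∀ i, i < 12571 → P i := stepQ 12570 Q12570 (allL N12570 (tt N12309 F42303) (tt N12353 F42304) (tt N12122 F42305) (tt N12552 F42306) (tt N12121 (iv D12667)) (tt N12124 F42307) (tt N12352 F42308) (tt N12290 F42309))
theorem Q12572 : ∀ i, i < 12572 → P i := stepQ 12571 Q12571 (allL N12571 (tt N12651 (iv F42782)) (tt N12426 F42310) (tt N12352 F42311) (tt N12568 F42312) (tt N12123 F42313) (tt N12360 F42314) (tt N12122 (iv D12668)) (tt N12652 (iv F42793)))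
theorem Q12573 : ∀ i, i < 12573 → P i := stepQ 12572 Q12572 (allL N12572 (tt N12150 F42315) (tt N12427 F42316) (tt N12221 F42317) (tt N12149 F42318) (tt N12652 (iv F42790)) (tt N12321 F42319) (tt N12243 F42320) (tt N12123 (iv D12669)))
theorem Q12574 : ∀ i, i < 12574 → P i := stepQ 12573 Q12573 (allL N12573 (tt N12314 F42321) (tt N12479 F42322) (tt N12133 F42323) (tt N12270 F42324) (tt N12128 (iv D12670)) (tt N12139 F42325) (tt N12658 (iv F42827)) (tt N12449 F42326))
theorem Q12575 : ∀ i, i < 12575 → P i := stepQ 12574 Q12574 (allL N12574 (tt N12559 F42327) (tt N12288 F42328) (tt N12639 (iv F42708)) (tt N12133 F42329) (tt N12131 (iv D12671)) (tt N12142 F42330) (tt N12557 F42331) (tt N12510 F42332))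
theorem Q12576 : ∀ i, i < 12576 → P i := stepQ 12575 Q12575 (allL N12575 (tt N12509 F42333) (tt N12291 F42334) (tt N12658 (iv F42823)) (tt N12557 F42335) (tt N12132 (iv D12672)) (tt N12556 F42336) (tt N12133 F42337) (tt N12657 (iv F42820)))
theorem Q12577 : ∀ i, i < 12577 → P i := stepQ 12576 Q12576 (allL N12576 (tt N12377 F42338) (tt N12642 (iv F42727)) (tt N12142 F42339) (tt N12362 F42340) (tt N12141 (iv D12673)) (tt N12639 (iv F42711)) (tt N12588 (iv F42410)) (tt N12507 F42341))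
theorem Q12578 : ∀ i, i < 12578 → P i := stepQ 12577 Q12577 (allL N12577 (tt N12426 F42342) (tt N12567 F42343) (tt N12450 F42344) (tt N12151 F42345) (tt N12145 (iv D12674)) (tt N12147 F42346) (tt N12277 F42347) (tt N12568 F42348))
theorem Q12579 : ∀ i, i < 12579 → P i := stepQ 12578 Q12578 (allL N12578 (tt N12652 (iv F42788)) (tt N12151 F42349) (tt N12229 F42350) (tt N12567 F42351) (tt N12150 (iv D12675)) (tt N12322 F42352) (tt N12279 F42353) (tt N12651 (iv F42787)))
theorem Q12580 : ∀ i, i < 12580 → P i := stepQ 12579 Q12579 (allL N12579 (tt N12403 F42354) (tt N12407 F42355) (tt N12411 F42356) (tt N12159 (iv D12676)) (tt N12579 F42357) (tt N12436 F42358) (tt N12406 F42359) (tt N12520 F42360))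
theorem Q12581 : ∀ i, i < 12581 → P i := stepQ 12580 Q12580 (allL N12580 (tt N12541 F42361) (tt N12192 F42362) (tt N12592 (iv F42432)) (tt N12161 F42363) (tt N12160 (iv D12677)) (tt N12171 F42364) (tt N12375 F42365) (tt N12534 F42366))
theorem Q12582 : ∀ i, i < 12582 → P i := stepQ 12581 Q12581 (allL N12581 (tt N12566 F42367) (tt N12658 (iv F42822)) (tt N12241 F42368) (tt N12301 F42369) (tt N12168 (iv D12678)) (tt N12169 F42370) (tt N12479 F42371) (tt N12239 F42372))
theorem Q12583 : ∀ i, i < 12583 → P i := stepQ 12582 Q12582 (allL N12582 (tt N12540 F42373) (tt N12173 F42374) (tt N12591 (iv F42426)) (tt N12536 F42375) (tt N12172 F42376) (tt N12534 F42377) (tt N12665 (iv F42875)) (tt N12171 (iv D12679)))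
theorem Q12584 : ∀ i, i < 12584 → P i := stepQ 12583 Q12583 (allL N12583 (tt N12175 F42378) (tt N12536 F42379) (tt N12432 F42383) (tt N12173 (iv D12680)) (tt N12199 F42380) (tt N12431 F42381) (tt N12586 (iv F42398)) (tt N12446 F42382))
theorem Q12585 : ∀ i, i < 12585 → P i := stepQ 12584 Q12584 (allL N12584 (tt N12176 F42384) (tt N12665 (iv F42871)) (tt N12236 F42385) (tt N12586 (iv F42396)) (tt N12174 F42386) (tt N12585 (iv F42392)) (tt N12173 (iv D12681)) (tt N12441 F42387))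
theorem Q12586 : ∀ i, i < 12586 → P i := stepQ 12585 Q12585 (allL N12585 (tt N12586 (iv F42393)) (tt N12232 F42388) (tt N12455 F42389) (tt N12176 F42390) (tt N12200 F42391) (tt N12584 F42392) (tt N12175 (iv D12682)) (tt N12646 (iv F42756)))
theorem Q12587 : ∀ i, i < 12587 → P i := stepQ 12586 Q12586 (allL N12586 (tt N12585 F42393) (tt N12500 F42394) (tt N12237 F42395) (tt N12584 F42396) (tt N12177 F42397) (tt N12176 (iv D12683)) (tt N12583 F42398) (tt N12443 F42399))
theorem Q12588 : ∀ i, i < 12588 → P i := stepQ 12587 Q12587 (allL N12587 (tt N12360 F42400) (tt N12430 F42401) (tt N12324 F42402) (tt N12428 F42403) (tt N12179 F42404) (tt N12651 (iv F42785)) (tt N12178 (iv D12684)) (tt N12322 F42405))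
theorem Q12589 : ∀ i, i < 12589 → P i := stepQ 12588 Q12588 (allL N12588 (tt N12185 F42406) (tt N12362 F42407) (tt N12182 F42408) (tt N12642 (iv F42729)) (tt N12181 (iv D12685)) (tt N12183 F42409) (tt N12576 F42410) (tt N12361 F42411))
theorem Q12590 : ∀ i, i < 12590 → P i := stepQ 12589 Q12589 (allL N12589 (tt N12187 F42412) (tt N12306 F42413) (tt N12537 F42414) (tt N12183 (iv D12686)) (tt N12320 F42415) (tt N12642 (iv F42731)) (tt N12345 F42416) (tt N12562 F42417))
theorem Q12591 : ∀ i, i < 12591 → P i := stepQ 12590 Q12590 (allL N12590 (tt N12389 F42418) (tt N12473 F42419) (tt N12192 F42420) (tt N12660 (iv F42838)) (tt N12191 (iv D12687)) (tt N12367 F42421) (tt N12373 F42422) (tt N12414 F42423))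
theorem Q12592 : ∀ i, i < 12592 → P i := stepQ 12591 Q12591 (allL N12591 (tt N12440 F42424) (tt N12194 F42425) (tt N12582 F42426) (tt N12495 F42430) (tt N12193 (iv D12688)) (tt N12491 F42427) (tt N12494 F42428) (tt N12197 F42429))
theorem Q12593 : ∀ i, i < 12593 → P i := stepQ 12592 Q12592 (allL N12592 (tt N12336 F42431) (tt N12662 (iv F42850)) (tt N12580 F42432) (tt N12432 F42433) (tt N12198 F42434) (tt N12197 (iv D12689)) (tt N12489 F42435) (tt N12491 F42436))
theorem Q12594 : ∀ i, i < 12594 → P i := stepQ 12593 Q12593 (allL N12593 (tt N12282 F42437) (tt N12257 F42438) (tt N12286 F42439) (tt N12220 F42440) (tt N12217 F42441) (tt N12216 (iv D12690)) (tt N12226 F42442) (tt N12638 (iv F42704)))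
theorem Q12595 : ∀ i, i < 12595 → P i := stepQ 12594 Q12594 (allL N12594 (tt N12283 F42443) (tt N12258 F42444) (tt N12271 F42445) (tt N12219 F42446) (tt N12638 (iv F42703)) (tt N12218 F42447) (tt N12268 F42448) (tt N12217 (iv D12691)))
theorem Q12596 : ∀ i, i < 12596 → P i := stepQ 12595 Q12595 (allL N12595 (tt N12229 F42449) (tt N12220 (iv D12692)) (tt N12652 (iv F42789)) (tt N12257 F42450) (tt N12221 F42451) (tt N12323 F42452) (tt N12240 F42453) (tt N12352 F42454))
theorem Q12597 : ∀ i, i < 12597 → P i := stepQ 12596 Q12596 (allL N12596 (tt N12248 F42455) (tt N12226 (iv D12693)) (tt N12307 F42456) (tt N12240 F42457) (tt N12227 F42458) (tt N12664 (iv F42868)) (tt N12257 F42459) (tt N12278 F42460))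
theorem Q12598 : ∀ i, i < 12598 → P i := stepQ 12597 Q12597 (allL N12597 (tt N12240 F42461) (tt N12260 F42462) (tt N12279 F42463) (tt N12248 F42464) (tt N12228 (iv D12694)) (tt N12671 (iv F42916)) (tt N12229 F42465) (tt N12310 F42466))
theorem Q12599 : ∀ i, i < 12599 → P i := stepQ 12598 Q12598 (allL N12598 (tt N12352 F42467) (tt N12263 F42468) (tt N12651 (iv F42784)) (tt N12560 (iv F42472)) (tt N12230 F42469) (tt N12324 F42470) (tt N12309 F42471) (tt N12229 (iv D12695)))
theorem Q12600 : ∀ i, i < 12600 → P i := stepQ 12599 Q12599 (allL N12599 (tt N12671 (iv F42911)) (tt N12233 (iv D12696)) (tt N12668 (iv F42893)) (tt N12664 (iv F42866)) (tt N12234 F42473) (tt N12240 F42474) (tt N12667 (iv F42889)) (tt N12641 F42725))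
theorem Q12601 : ∀ i, i < 12601 → P i := stepQ 12600 Q12600 (allL N12600 (tt N12664 (iv F42863)) (tt N12379 F42475) (tt N12635 (iv F42682)) (tt N12671 (iv F42914)) (tt N12235 (iv D12697)) (tt N12248 F42476) (tt N12325 F42477) (tt N12631 (iv F42659)))
theorem Q12602 : ∀ i, i < 12602 → P i := stepQ 12601 Q12601 (allL N12601 (tt N12563 F42478) (tt N12553 F42479) (tt N12285 F42480) (tt N12239 F42481) (tt N12264 F42482) (tt N12238 (iv D12698)) (tt N12484 F42483) (tt N12308 F42484))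
theorem Q12603 : ∀ i, i < 12603 → P i := stepQ 12602 Q12602 (allL N12602 (tt N12279 F42485) (tt N12657 (iv F42816)) (tt N12240 (iv D12699)) (tt N12480 F42486) (tt N12243 F42487) (tt N12668 (iv F42896)) (tt N12652 (iv F42792)) (tt N12291 (iv F42488)))
theorem Q12604 : ∀ i, i < 12604 → P i := stepQ 12603 Q12603 (allL N12603 (tt N12310 F42489) (tt N12241 F42490) (tt N12291 F42491) (tt N12477 F42494) (tt N12244 F42492) (tt N12641 (iv F42724)) (tt N12290 F42493) (tt N12240 (iv D12700)))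
theorem Q12605 : ∀ i, i < 12605 → P i := stepQ 12604 Q12604 (allL N12604 (tt N12311 F42495) (tt N12477 F42496) (tt N12298 F42497) (tt N12241 (iv D12701)) (tt N12246 F42498) (tt N12242 F42499) (tt N12481 F42501) (tt N12280 F42500))
theorem Q12606 : ∀ i, i < 12606 → P i := stepQ 12605 Q12605 (allL N12605 (tt N12533 F42502) (tt N12290 F42503) (tt N12479 F42504) (tt N12481 F42505) (tt N12245 F42506) (tt N12621 (iv F42593)) (tt N12241 (iv D12702)) (tt N12353 F42507))
theorem Q12607 : ∀ i, i < 12607 → P i := stepQ 12606 Q12606 (allL N12606 (tt N12307 F42508) (tt N12296 F42509) (tt N12248 F42510) (tt N12478 F42511) (tt N12247 (iv D12703)) (tt N12635 (iv F42685)) (tt N12256 F42512) (tt N12302 F42513))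
theorem Q12608 : ∀ i, i < 12608 → P i := stepQ 12607 Q12607 (allL N12607 (tt N12278 F42514) (tt N12270 F42515) (tt N12302 F42516) (tt N12479 F42517) (tt N12249 F42518) (tt N12631 (iv F42658)) (tt N12301 F42519) (tt N12248 (iv D12704)))
theorem Q12609 : ∀ i, i < 12609 → P i := stepQ 12608 Q12608 (allL N12608 (tt N12510 F42520) (tt N12620 (iv F42585)) (tt N12550 F42521) (tt N12254 F42522) (tt N12250 (iv D12705)) (tt N12251 F42523) (tt N12619 (iv F42584)) (tt N12559 F42524))
theorem Q12610 : ∀ i, i < 12610 → P i := stepQ 12609 Q12609 (allL N12609 (tt N12302 F42525) (tt N12256 F42526) (tt N12278 F42527) (tt N12628 (iv F42638)) (tt N12252 (iv D12706)) (tt N12629 (iv F42646)) (tt N12296 F42528) (tt N12307 F42529))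
theorem Q12611 : ∀ i, i < 12611 → P i := stepQ 12610 Q12610 (allL N12610 (tt N12291 F42530) (tt N12254 F42531) (tt N12310 F42532) (tt N12620 (iv F42586)) (tt N12253 (iv D12707)) (tt N12627 (iv F42635)) (tt N12287 F42533) (tt N12279 F42534))
theorem Q12612 : ∀ i, i < 12612 → P i := stepQ 12611 Q12611 (allL N12611 (tt N12511 F42535) (tt N12287 F42536) (tt N12341 F42537) (tt N12619 (iv F42582)) (tt N12255 F42538) (tt N12622 (iv F42600)) (tt N12254 (iv D12708)) (tt N12480 F42539))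
theorem Q12613 : ∀ i, i < 12613 → P i := stepQ 12612 Q12612 (allL N12612 (tt N12259 F42540) (tt N12638 (iv F42700)) (tt N12300 F42541) (tt N12636 (iv F42689)) (tt N12258 F42542) (tt N12326 F42543) (tt N12305 (iv F42544)) (tt N12257 (iv D12709)))
theorem Q12614 : ∀ i, i < 12614 → P i := stepQ 12613 Q12613 (allL N12613 (tt N12636 (iv F42687)) (tt N12285 F42545) (tt N12468 F42546) (tt N12259 (iv D12710)) (tt N12467 F42547) (tt N12327 F42548) (tt N12308 F42549) (tt N12560 F42550))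
theorem Q12615 : ∀ i, i < 12615 → P i := stepQ 12614 Q12614 (allL N12614 (tt N12529 F42551) (tt N12560 F42552) (tt N12308 F42553) (tt N12263 (iv D12711)) (tt N12469 F42554) (tt N12292 F42555) (tt N12468 F42556) (tt N12285 F42557))
theorem Q12616 : ∀ i, i < 12616 → P i := stepQ 12615 Q12615 (allL N12615 (tt N12301 F42558) (tt N12267 F42559) (tt N12296 F42560) (tt N12566 F42561) (tt N12265 (iv D12712)) (tt N12297 F42562) (tt N12278 F42563) (tt N12305 F42564))
theorem Q12617 : ∀ i, i < 12617 → P i := stepQ 12616 Q12616 (allL N12616 (tt N12315 F42565) (tt N12566 F42566) (tt N12502 F42567) (tt N12267 F42568) (tt N12266 (iv D12713)) (tt N12356 F42569) (tt N12280 F42570) (tt N12504 F42571))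
theorem Q12618 : ∀ i, i < 12618 → P i := stepQ 12617 Q12617 (allL N12617 (tt N12316 F42572) (tt N12305 F42573) (tt N12270 F42574) (tt N12639 (iv F42709)) (tt N12268 F42575) (tt N12362 F42576) (tt N12638 (iv F42705)) (tt N12267 (iv D12714)))
theorem Q12619 : ∀ i, i < 12619 → P i := stepQ 12618 Q12618 (allL N12618 (tt N12317 F42577) (tt N12301 F42578) (tt N12638 (iv F42701)) (tt N12658 (iv F42824)) (tt N12271 F42579) (tt N12637 F42698) (tt N12270 (iv D12715)) (tt N12286 F42580))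
theorem Q12620 : ∀ i, i < 12620 → P i := stepQ 12619 Q12619 (allL N12619 (tt N12668 (iv F42891)) (tt N12273 F42581) (tt N12671 (iv F42913)) (tt N12611 F42582) (tt N12272 (iv D12716)) (tt N12279 F42583) (tt N12608 F42584) (tt N12627 (iv F42636)))
theorem Q12621 : ∀ i, i < 12621 → P i := stepQ 12620 Q12620 (allL N12620 (tt N12627 (iv F42630)) (tt N12608 F42585) (tt N12641 (iv F42721)) (tt N12610 F42586) (tt N12274 F42587) (tt N12291 F42588) (tt N12273 (iv D12717)) (tt N12668 (iv F42897)))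
theorem Q12622 : ∀ i, i < 12622 → P i := stepQ 12621 Q12621 (allL N12621 (tt N12479 F42589) (tt N12280 F42590) (tt N12533 F42591) (tt N12278 F42592) (tt N12275 (iv D12718)) (tt N12605 F42593) (tt N12566 F42594) (tt N12477 F42595))
theorem Q12623 : ∀ i, i < 12623 → P i := stepQ 12622 Q12622 (allL N12622 (tt N12480 F42596) (tt N12277 F42597) (tt N12478 F42598) (tt N12279 F42599) (tt N12276 (iv D12719)) (tt N12611 F42600) (tt N12567 F42601) (tt N12511 F42602))
theorem Q12624 : ∀ i, i < 12624 → P i := stepQ 12623 Q12623 (allL N12623 (tt N12286 F42603) (tt N12316 F42604) (tt N12282 F42605) (tt N12555 F42606) (tt N12281 (iv D12720)) (tt N12532 F42607) (tt N12284 F42608) (tt N12317 F42609))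
theorem Q12625 : ∀ i, i < 12625 → P i := stepQ 12624 Q12624 (allL N12624 (tt N12638 (iv F42699)) (tt N12284 F42610) (tt N12317 F42611) (tt N12526 F42612) (tt N12283 F42613) (tt N12524 F42614) (tt N12316 F42615) (tt N12282 (iv D12721)))
theorem Q12626 : ∀ i, i < 12626 → P i := stepQ 12625 Q12625 (allL N12625 (tt N12285 F42616) (tt N12526 F42617) (tt N12563 F42618) (tt N12284 (iv D12722)) (tt N12525 F42619) (tt N12295 F42620) (tt N12555 F42621) (tt N12529 F42622))
theorem Q12627 : ∀ i, i < 12627 → P i := stepQ 12626 Q12626 (allL N12626 (tt N12555 F42623) (tt N12308 F42624) (tt N12484 F42625) (tt N12286 F42626) (tt N12554 F42627) (tt N12485 F42628) (tt N12285 (iv D12723)) (tt N12553 (iv F42629)))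
theorem Q12628 : ∀ i, i < 12628 → P i := stepQ 12627 Q12627 (allL N12627 (tt N12620 F42630) (tt N12557 F42631) (tt N12530 F42632) (tt N12291 F42633) (tt N12289 F42634) (tt N12610 F42635) (tt N12288 (iv D12724)) (tt N12619 F42636))
theorem Q12629 : ∀ i, i < 12629 → P i := stepQ 12628 Q12628 (allL N12628 (tt N12629 (iv F42641)) (tt N12304 F42637) (tt N12631 (iv F42655)) (tt N12609 F42638) (tt N12294 F42639) (tt N12302 F42640) (tt N12293 (iv D12725)) (tt N12635 (iv F42686)))
theorem Q12630 : ∀ i, i < 12630 → P i := stepQ 12629 Q12629 (allL N12629 (tt N12628 F42641) (tt N12303 F42642) (tt N12481 F42643) (tt N12302 F42644) (tt N12299 F42645) (tt N12609 F42646) (tt N12298 (iv D12726)) (tt N12505 F42647))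
theorem Q12631 : ∀ i, i < 12631 → P i := stepQ 12630 Q12630 (allL N12630 (tt N12308 F42648) (tt N12639 (iv F42707)) (tt N12529 F42649) (tt N12305 (iv D12727)) (tt N12528 F42650) (tt N12306 F42651) (tt N12636 (iv F42691)) (tt N12563 F42652))
theorem Q12632 : ∀ i, i < 12632 → P i := stepQ 12631 Q12631 (allL N12631 (tt N12481 F42653) (tt N12450 F42654) (tt N12628 F42655) (tt N12533 F42656) (tt N12312 F42657) (tt N12607 F42658) (tt N12311 (iv D12728)) (tt N12600 F42659))
theorem Q12633 : ∀ i, i < 12633 → P i := stepQ 12632 Q12632 (allL N12632 (tt N12639 (iv F42706)) (tt N12555 F42660) (tt N12559 F42661) (tt N12316 (iv D12729)) (tt N12527 F42662) (tt N12377 F42663) (tt N12526 F42664) (tt N12550 F42665))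
theorem Q12634 : ∀ i, i < 12634 → P i := stepQ 12633 Q12633 (allL N12633 (tt N12376 F42666) (tt N12435 F42667) (tt N12458 F42668) (tt N12329 (iv D12730)) (tt N12633 F42669) (tt N12332 F42670) (tt N12547 F42671) (tt N12492 F42672))
theorem Q12635 : ∀ i, i < 12635 → P i := stepQ 12634 Q12634 (allL N12634 (tt N12521 F42673) (tt N12408 F42674) (tt N12332 (iv D12731)) (tt N12333 F42675) (tt N12634 F42676) (tt N12458 F42677) (tt N12516 F42678) (tt N12490 F42679))
theorem Q12636 : ∀ i, i < 12636 → P i := stepQ 12635 Q12635 (allL N12635 (tt N12505 F42680) (tt N12392 F42681) (tt N12600 F42682) (tt N12341 F42683) (tt N12338 F42684) (tt N12606 F42685) (tt N12337 (iv D12732)) (tt N12628 F42686))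
theorem Q12637 : ∀ i, i < 12637 → P i := stepQ 12636 Q12636 (allL N12636 (tt N12613 F42687) (tt N12346 F42688) (tt N12663 (iv F42858)) (tt N12612 F42689) (tt N12343 F42690) (tt N12342 (iv D12733)) (tt N12630 F42691) (tt N12640 (iv F42718)))
theorem Q12638 : ∀ i, i < 12638 → P i := stepQ 12637 Q12637 (allL N12637 (tt N12425 F42692) (tt N12412 F42693) (tt N12345 (iv D12734)) (tt N12424 F42694) (tt N12413 F42695) (tt N12618 (iv F42698)) (tt N12537 F42696) (tt N12543 F42697))
theorem Q12639 : ∀ i, i < 12639 → P i := stepQ 12638 Q12638 (allL N12638 (tt N12624 F42699) (tt N12612 F42700) (tt N12618 F42701) (tt N12346 F42702) (tt N12594 F42703) (tt N12345 (iv D12735)) (tt N12617 F42705) (tt N12593 F42704))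
theorem Q12640 : ∀ i, i < 12640 → P i := stepQ 12639 Q12639 (allL N12639 (tt N12632 F42706) (tt N12630 F42707) (tt N12574 F42708) (tt N12617 F42709) (tt N12347 F42710) (tt N12576 F42711) (tt N12346 (iv D12736)) (tt N12667 (iv F42890)))
theorem Q12641 : ∀ i, i < 12641 → P i := stepQ 12640 Q12640 (allL N12640 (tt N12560 F42712) (tt N12350 F42713) (tt N12551 F42714) (tt N12352 F42715) (tt N12349 (iv D12737)) (tt N12355 F42716) (tt N12552 F42717) (tt N12636 F42718))
theorem Q12642 : ∀ i, i < 12642 → P i := stepQ 12641 Q12641 (allL N12641 (tt N12530 F42719) (tt N12552 F42720) (tt N12620 F42721) (tt N12353 F42722) (tt N12351 F42723) (tt N12603 F42724) (tt N12350 (iv D12738)) (tt N12599 (iv F42725)))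
theorem Q12643 : ∀ i, i < 12643 → P i := stepQ 12642 Q12642 (allL N12642 (tt N12368 F42726) (tt N12576 F42727) (tt N12387 F42728) (tt N12588 F42729) (tt N12359 F42730) (tt N12589 F42731) (tt N12362 F42732) (tt N12358 (iv D12739)))
theorem Q12644 : ∀ i, i < 12644 → P i := stepQ 12643 Q12643 (allL N12643 (tt N12493 F42733) (tt N12372 F42734) (tt N12522 F42735) (tt N12370 F42736) (tt N12643 F42737) (tt N12496 F42738) (tt N12369 (iv D12740)) (tt N12648 (iv F42769)))
theorem Q12645 : ∀ i, i < 12645 → P i := stepQ 12644 Q12644 (allL N12644 (tt N12494 F42739) (tt N12441 F42744) (tt N12546 F42740) (tt N12496 F42741) (tt N12371 F42742) (tt N12370 (iv D12741)) (tt N12440 F42743) (tt N12665 (iv F42876)))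
theorem Q12646 : ∀ i, i < 12646 → P i := stepQ 12645 Q12645 (allL N12645 (tt N12395 F42745) (tt N12497 F42746) (tt N12650 (iv F42777)) (tt N12373 F42747) (tt N12645 F42748) (tt N12372 (iv D12742)) (tt N12660 (iv F42841)) (tt N12565 F42749))
theorem Q12647 : ∀ i, i < 12647 → P i := stepQ 12646 Q12646 (allL N12646 (tt N12443 F42750) (tt N12373 (iv D12743)) (tt N12486 F42751) (tt N12497 F42752) (tt N12374 F42753) (tt N12441 F42754) (tt N12473 F42755) (tt N12585 F42756))
theorem Q12648 : ∀ i, i < 12648 → P i := stepQ 12647 Q12647 (allL N12647 (tt N12660 (iv F42835)) (tt N12492 F42757) (tt N12416 F42758) (tt N12389 F42759) (tt N12647 F42760) (tt N12388 (iv D12744)) (tt N12395 F42761) (tt N12435 F42762))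
theorem Q12649 : ∀ i, i < 12649 → P i := stepQ 12648 Q12648 (allL N12648 (tt N12499 F42763) (tt N12394 F42764) (tt N12496 F42765) (tt N12410 F42766) (tt N12648 F42767) (tt N12522 F42768) (tt N12393 (iv D12745)) (tt N12643 F42769))
theorem Q12650 : ∀ i, i < 12650 → P i := stepQ 12649 Q12649 (allL N12649 (tt N12522 F42770) (tt N12395 (iv D12746)) (tt N12493 F42771) (tt N12397 F42772) (tt N12649 F42773) (tt N12499 F42774) (tt N12492 F42775) (tt N12666 (iv F42883)))
theorem Q12651 : ∀ i, i < 12651 → P i := stepQ 12650 Q12650 (allL N12650 (tt N12565 F42776) (tt N12666 (iv F42878)) (tt N12645 F42777) (tt N12564 F42778) (tt N12650 F42779) (tt N12396 F42780) (tt N12523 F42781) (tt N12395 (iv D12747)))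
theorem Q12652 : ∀ i, i < 12652 → P i := stepQ 12651 Q12651 (allL N12651 (tt N12571 F42782) (tt N12401 F42783) (tt N12598 F42784) (tt N12659 (iv F42831)) (tt N12400 (iv D12748)) (tt N12587 F42785) (tt N12569 F42786) (tt N12578 F42787))
theorem Q12653 : ∀ i, i < 12653 → P i := stepQ 12652 Q12652 (allL N12652 (tt N12578 F42788) (tt N12659 (iv F42829)) (tt N12595 F42789) (tt N12401 (iv D12749)) (tt N12572 F42790) (tt N12402 F42791) (tt N12602 F42792) (tt N12571 F42793))
theorem Q12654 : ∀ i, i < 12654 → P i := stepQ 12653 Q12653 (allL N12653 (tt N12408 F42794) (tt N12670 (iv F42905)) (tt N12407 (iv D12750)) (tt N12491 F42795) (tt N12653 F42796) (tt N12495 F42797) (tt N12490 F42798) (tt N12656 (iv F42814)))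
theorem Q12655 : ∀ i, i < 12655 → P i := stepQ 12654 Q12654 (allL N12654 (tt N12656 (iv F42809)) (tt N12490 F42799) (tt N12409 F42800) (tt N12448 F42801) (tt N12654 F42802) (tt N12456 F42803) (tt N12670 (iv F42909)) (tt N12408 (iv D12751)))
theorem Q12656 : ∀ i, i < 12656 → P i := stepQ 12655 Q12655 (allL N12655 (tt N12518 F42804) (tt N12411 F42805) (tt N12670 (iv F42906)) (tt N12444 F42806) (tt N12655 F42807) (tt N12669 (iv F42903)) (tt N12409 (iv D12752)) (tt N12514 F42808))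
theorem Q12657 : ∀ i, i < 12657 → P i := stepQ 12656 Q12656 (allL N12656 (tt N12654 F42809) (tt N12669 (iv F42899)) (tt N12415 (iv D12753)) (tt N12519 F42810) (tt N12656 F42811) (tt N12547 F42812) (tt N12517 F42813) (tt N12653 F42814))
theorem Q12658 : ∀ i, i < 12658 → P i := stepQ 12657 Q12657 (allL N12657 (tt N12418 F42815) (tt N12602 F42816) (tt N12419 F42817) (tt N12569 F42818) (tt N12417 (iv D12754)) (tt N12422 F42819) (tt N12659 (iv F42834)) (tt N12575 F42820))
theorem Q12659 : ∀ i, i < 12659 → P i := stepQ 12658 Q12658 (allL N12658 (tt N12421 F42821) (tt N12581 F42822) (tt N12575 F42823) (tt N12618 F42824) (tt N12420 F42825) (tt N12424 F42826) (tt N12573 F42827) (tt N12419 (iv D12755)))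
theorem Q12660 : ∀ i, i < 12660 → P i := stepQ 12659 Q12659 (allL N12659 (tt N12568 F42828) (tt N12652 F42829) (tt N12451 F42830) (tt N12651 F42831) (tt N12427 F42832) (tt N12428 F42833) (tt N12657 F42834) (tt N12426 (iv D12756)))
theorem Q12661 : ∀ i, i < 12661 → P i := stepQ 12660 Q12660 (allL N12660 (tt N12647 F42835) (tt N12461 F42836) (tt N12523 F42837) (tt N12590 F42838) (tt N12660 F42839) (tt N12520 F42840) (tt N12645 F42841) (tt N12436 (iv D12757)))
theorem Q12662 : ∀ i, i < 12662 → P i := stepQ 12661 Q12661 (allL N12661 (tt N12551 F42842) (tt N12484 F42843) (tt N12560 F42844) (tt N12451 (iv D12758)) (tt N12470 F42845) (tt N12452 F42846) (tt N12553 F42847) (tt N12468 F42848))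
theorem Q12663 : ∀ i, i < 12663 → P i := stepQ 12662 Q12662 (allL N12662 (tt N12472 F42849) (tt N12592 F42850) (tt N12473 F42851) (tt N12454 F42852) (tt N12471 F42853) (tt N12453 (iv D12759)) (tt N12486 F42854) (tt N12515 F42855))
theorem Q12664 : ∀ i, i < 12664 → P i := stepQ 12663 Q12663 (allL N12663 (tt N12468 F42856) (tt N12530 F42857) (tt N12636 F42858) (tt N12476 F42859) (tt N12466 F42860) (tt N12465 (iv D12760)) (tt N12529 F42861) (tt N12551 F42862))
theorem Q12665 : ∀ i, i < 12665 → P i := stepQ 12664 Q12664 (allL N12664 (tt N12600 F42863) (tt N12483 F42864) (tt N12505 F42865) (tt N12599 F42866) (tt N12482 F42867) (tt N12596 F42868) (tt N12504 F42869) (tt N12481 (iv D12761)))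
theorem Q12666 : ∀ i, i < 12666 → P i := stepQ 12665 Q12665 (allL N12665 (tt N12546 F42870) (tt N12584 F42871) (tt N12494 F42872) (tt N12500 F42873) (tt N12488 F42874) (tt N12487 (iv D12762)) (tt N12582 F42875) (tt N12644 F42876))
theorem Q12667 : ∀ i, i < 12667 → P i := stepQ 12666 Q12666 (allL N12666 (tt N12496 F42877) (tt N12650 F42878) (tt N12499 F42879) (tt N12494 F42880) (tt N12666 F42881) (tt N12493 (iv D12763)) (tt N12495 F42882) (tt N12649 F42883))
theorem Q12668 : ∀ i, i < 12668 → P i := stepQ 12667 Q12667 (allL N12667 (tt N12550 F42884) (tt N12563 F42885) (tt N12510 F42886) (tt N12504 (iv D12764)) (tt N12549 F42887) (tt N12507 F42888) (tt N12599 F42889) (tt N12639 F42890))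
theorem Q12669 : ∀ i, i < 12669 → P i := stepQ 12668 Q12668 (allL N12668 (tt N12619 F42891) (tt N12559 F42892) (tt N12599 F42893) (tt N12511 F42894) (tt N12558 F42895) (tt N12602 F42896) (tt N12510 (iv D12765)) (tt N12620 F42897))
theorem Q12670 : ∀ i, i < 12670 → P i := stepQ 12669 Q12669 (allL N12669 (tt N12516 F42898) (tt N12656 F42899) (tt N12514 (iv D12766)) (tt N12544 F42900) (tt N12669 F42901) (tt N12655 F42903) (tt N12521 F42902) (tt N12670 (iv F42910)))
theorem Q12671 : ∀ i, i < 12671 → P i := stepQ 12670 Q12670 (allL N12670 (tt N12517 F42904) (tt N12653 F42905) (tt N12655 F42906) (tt N12515 F42907) (tt N12670 F42908) (tt N12514 (iv D12767)) (tt N12654 F42909) (tt N12669 F42910))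
theorem Q12672 : ∀ i, i < 12672 → P i := stepQ 12671 Q12671 (allL N12671 (tt N12599 F42911) (tt N12551 F42912) (tt N12619 F42913) (tt N12600 F42914) (tt N12531 F42915) (tt N12597 F42916) (tt N12550 F42917) (tt N12530 (iv D12768)))

theorem closedN : ∀ i, i < N → P i := Q12672

end Cfsg.Agent.Helper17.U6PTC
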